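import Groth.Statements.S4596
import Mathlib.AlgebraicGeometry.Morphisms.FlatDescent
import Mathlib.AlgebraicGeometry.Morphisms.Finite
import Mathlib.AlgebraicGeometry.Morphisms.Proper
import Mathlib.AlgebraicGeometry.Morphisms.Etale
import Mathlib.AlgebraicGeometry.Morphisms.FlatMono
import Mathlib.AlgebraicGeometry.PullbackCarrier
import Mathlib.AlgebraicGeometry.Geometrically.Irreducible
import Mathlib.AlgebraicGeometry.Geometrically.Connected
import Mathlib.CategoryTheory.Sites.Descent.IsStack

set_option autoImplicit false
universe u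
open AlgebraicGeometry CategoryTheory
open EGA41

namespace Groth.Agent.S4596

/-- If g ∘ f is quasi-compact and f is surjective then g is quasi-compact. -/
theorem result {X Y Z : Scheme.{u}} (f : X ⟶ Y) (g : Y ⟶ Z)
    [QuasiCompact (f ≫ g)] [Surjective f] : QuasiCompact g := by
  refine ⟨fun U hU hc => ?_⟩
  have := ((f ≫ g).isCompact_preimage (U := ⟨U, hU⟩) hc)
  have h2 := this.image f.continuous
  change IsCompact (f.base '' (f.base ⁻¹' (g.base ⁻¹' U))) at h2
  rwa [Set.image_preimage_eq _ f.surjective] at h2

end Groth.Agent.S4596
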