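import Groth.Statements.S5132
import Mathlib.AlgebraicGeometry.Morphisms.FlatDescent
import Mathlib.AlgebraicGeometry.Morphisms.Finite
import Mathlib.AlgebraicGeometry.Morphisms.Proper
import Mathlib.AlgebraicGeometry.Morphisms.Etale
import Mathlib.AlgebraicGeometry.Morphisms.FlatMono
import Mathlib.AlgebraicGeometry.PullbackCarrier
import Mathlib.AlgebraicGeometry.Geometrically.Irreducible
import Mathlib.AlgebraicGeometry.Geometrically.Connected
import Mathlib.CategoryTheory.Sites.Descent.IsStack

import Groth.Agent.S4596

set_option autoImplicit false
open CategoryTheory AlgebraicGeometry
universe u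
open SGA1

namespace Groth.Agent.S5132

open CategoryTheory.Limits

/-- Quasi-compactness of a morphism descends along a surjective and quasi-compact base change; flatness
of the base change is not needed for this property. -/
theorem result :
    MorphismProperty.DescendsAlong @QuasiCompact (@Surjective ⊓ @QuasiCompact : MorphismProperty Scheme.{u}) := by
  haveI : MorphismProperty.RespectsIso (@QuasiCompact : MorphismProperty Scheme.{u}) := MorphismProperty.IsStableUnderBaseChange.respectsIso
  apply MorphismProperty.DescendsAlong.mk'
  intro X Y Z f g _ hf h
  have : Surjective f := hf.1
  have : QuasiCompact f := hf.2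
  have : QuasiCompact (pullback.snd f g ≫ g) := by rw [← pullback.condition]; infer_instance
  have : Surjective (pullback.snd f g) := inferInstance
  exact Groth.Agent.S4596.result (pullback.snd f g) g

end Groth.Agent.S5132
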