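import Groth.Statements.S0080
import Mathlib.AlgebraicGeometry.Morphisms.FlatDescent
import Mathlib.AlgebraicGeometry.Morphisms.QuasiSeparated
import Mathlib.AlgebraicGeometry.Geometrically.Irreducible
import Mathlib.AlgebraicGeometry.Geometrically.Connected
import Mathlib.AlgebraicGeometry.Limits
import Mathlib.AlgebraicGeometry.IdealSheaf.Basic
import Mathlib.AlgebraicGeometry.Noetherian
import Mathlib.Algebra.Category.Ring.FilteredColimits
import Mathlib.RingTheory.Regular.IsSMulRegular
import Mathlib.Algebra.Module.Submodule.Pointwise
import Groth.Agent.S5132

set_option autoImplicit false
set_option backward.isDefEq.respectTransparency.types false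
open CategoryTheory CategoryTheory.Limits AlgebraicGeometry Opposite
universe u
open EtBase

namespace Groth.Agent.S0080

/-- Quasi-separatedness descends along a quasi-compact flat surjective base change: if the base change
of a morphism along a quasi-compact, flat, surjective morphism is quasi-separated, then the morphism
is quasi-separated. (The published statement is the fpqc-local form; stated here for a single
quasi-compact flat surjective base change, from which that form follows by Zariski-locality on the
target.) -/
theorem result :
    MorphismProperty.DescendsAlong @QuasiSeparated (@Surjective ⊓ @Flat ⊓ @QuasiCompact : MorphismProperty Scheme.{u}) := by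
  have : MorphismProperty.RespectsIso (@QuasiCompact : MorphismProperty Scheme.{u}) := MorphismProperty.IsStableUnderBaseChange.respectsIso
  have : MorphismProperty.IsStableUnderBaseChange (@Surjective ⊓ @QuasiCompact : MorphismProperty Scheme.{u}) := MorphismProperty.IsStableUnderBaseChange.inf
  have := Groth.Agent.S5132.result.{u}
  have : MorphismProperty.DescendsAlong @QuasiCompact (@Surjective ⊓ @Flat ⊓ @QuasiCompact : MorphismProperty Scheme.{u}) := MorphismProperty.DescendsAlong.of_le (Q := (@Surjective ⊓ @QuasiCompact : MorphismProperty Scheme.{u})) (fun X Y f h => ⟨h.1.1, h.2⟩)
  have : MorphismProperty.IsStableUnderBaseChange (@Surjective ⊓ @Flat ⊓ @QuasiCompact : MorphismProperty Scheme.{u}) := by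
    have : MorphismProperty.IsStableUnderBaseChange (@Surjective ⊓ @Flat : MorphismProperty Scheme.{u}) := MorphismProperty.IsStableUnderBaseChange.inf
    exact MorphismProperty.IsStableUnderBaseChange.inf
  rw [quasiSeparated_eq_diagonal_is_quasiCompact]
  infer_instance



end Groth.Agent.S0080
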