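import Groth.Agent.AlgSpTopo.LocInst
-- Copy to Groth/Agent/S10526.lean and replace the sorry. The statement below is byte-identical to the frozen
-- statement AlgSp.GrothFrozen.S10526 (Groth/Statements/S10526.lean; the theorem AlgSp.isLocalOnBase_fpqc_locP_locallyOfFiniteType);
-- the grader kernel-checks Groth.Agent.S10526.result against that frozen type. Keep the theorem IN THIS FILE
-- (a `result` declared elsewhere and merely imported here is not credited); helpers may live anywhere
-- under Groth/Agent/.
import Groth.Statements.S10526
-- import your own Groth.Agent.* helpers here

set_option autoImplicit false
set_option backward.isDefEq.respectTransparency false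
universe u
open CategoryTheory CategoryTheory.Limits AlgebraicGeometry
open AlgSp

namespace Groth.Agent.S10526

/-- The property of morphisms of algebraic spaces over S given by f is locally of finite type (on etale
charts) is fpqc local on the base: for an fpqc covering of an algebraic space Y by algebraic spaces
Y_i, a morphism f : X ⟶ Y of algebraic spaces and cartesian squares X_i = Y_i ×_Y X, f has the
property if and only if every X_i ⟶ Y_i has it. -/
theorem result (S : Scheme.{u}) :
    AlgSp.IsLocalOnBase (AlgSp.IsFpqcCover (S := S)) (AlgSp.LocP @LocallyOfFiniteType) :=
  AlgSpTopo.isLocalOnBase_fpqc AlgSpTopo.etaleLocal_locallyOfFiniteType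

end Groth.Agent.S10526
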