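import Groth.Statements.S10535
import Groth.Agent.AlgSpTopo.Separation

set_option autoImplicit false
set_option backward.isDefEq.respectTransparency false
universe u
open CategoryTheory CategoryTheory.Limits AlgebraicGeometry
open AlgSp

namespace Groth.Agent.S10535

/-- The property of morphisms of algebraic spaces over S given by f is separated (diagonal representable
and a closed immersion) is fpqc local on the base: for an fpqc covering of an algebraic space Y by
algebraic spaces Y_i, a morphism f : X ⟶ Y of algebraic spaces and cartesian squares X_i = Y_i ×_Y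
X, f has the property if and only if every X_i ⟶ Y_i has it. -/
theorem result (S : Scheme.{u}) :
    AlgSp.IsLocalOnBase (AlgSp.IsFpqcCover (S := S)) AlgSp.IsSeparatedMor := by
  intro ι Y Yi g hY hYi hcov X f hX Xi p q hXi sqs
  rw [AlgSpTopo.separatedMor_iff hX]
  exact ⟨fun hf i => (AlgSpTopo.separatedMor_iff (hXi i) _).2 (hf.baseChange (sqs i)),
    fun hp => (AlgSpTopo.diagP_closedImmersion_iff hX f).2 (AlgSpTopo.diagP_of_fpqc hcov sqs fun i =>
      (AlgSpTopo.diagP_closedImmersion_iff (hXi i) _).1 ((AlgSpTopo.separatedMor_iff (hXi i) _).1 (hp i)))⟩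

end Groth.Agent.S10535
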