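import Groth.Statements.S10536
import Groth.Agent.AlgSpTopo.AffineRep
import Groth.Agent.S10535
import Groth.Agent.S10528
import Groth.Agent.S10521

set_option autoImplicit false
set_option backward.isDefEq.respectTransparency false
universe u
open CategoryTheory CategoryTheory.Limits AlgebraicGeometry
open AlgSp

namespace Groth.Agent.S10536

/-- The property of morphisms of algebraic spaces over S given by f is proper (separated, of finite type
and universally closed) is fpqc local on the base: for an fpqc covering of an algebraic space Y by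
algebraic spaces Y_i, a morphism f : X ⟶ Y of algebraic spaces and cartesian squares X_i = Y_i ×_Y
X, f has the property if and only if every X_i ⟶ Y_i has it. -/
theorem result (S : Scheme.{u}) :
    AlgSp.IsLocalOnBase (AlgSp.IsFpqcCover (S := S)) AlgSp.IsProperMor := by
  intro ι Y Yi g hY hYi hcov X f hX Xi p q hXi sqs
  change _ ∧ _ ∧ _ ↔ ∀ i, _ ∧ _ ∧ _
  rw [Groth.Agent.S10535.result S Yi g hY hYi hcov f hX Xi p q hXi sqs,
    Groth.Agent.S10528.result S Yi g hY hYi hcov f hX Xi p q hXi sqs,
    Groth.Agent.S10521.result S Yi g hY hYi hcov f hX Xi p q hXi sqs]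
  exact ⟨fun h i => ⟨h.1 i, h.2.1 i, h.2.2 i⟩,
    fun h => ⟨fun i => (h i).1, fun i => (h i).2.1, fun i => (h i).2.2⟩⟩

end Groth.Agent.S10536
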