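import Groth.Statements.S0386
import Groth.Agent.Flat.OpenLocus
import Mathlib.AlgebraicGeometry.Morphisms.FinitePresentation

set_option autoImplicit false
set_option backward.isDefEq.respectTransparency false
universe u
open FlatMor

namespace Groth.Agent.S0386

open AlgebraicGeometry CategoryTheory Limits in
/-- Openness of the flat locus: for a morphism f : X ⟶ S locally of finite presentation, the set of
points x of X at which the local ring O_{X,x} is flat over O_{S,f(x)} is open in X. (The published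
statement also treats the flat locus of a finitely presented quasi-coherent module; stated here for
the structure sheaf.) -/
theorem result {X S : Scheme.{u}} (f : X ⟶ S) [LocallyOfFinitePresentation f] :
    IsOpen {x : X | (f.stalkMap x).hom.Flat} := by
  rw [isOpen_iff_forall_mem_open]
  intro x hx
  obtain ⟨_, ⟨U, hU, rfl⟩, hxU, -⟩ :=
    S.isBasis_affineOpens.exists_subset_of_mem_open (Set.mem_univ (f x)) isOpen_univ
  obtain ⟨_, ⟨V, hV, rfl⟩, hxV, hVU⟩ :=
    X.isBasis_affineOpens.exists_subset_of_mem_open (show x ∈ f ⁻¹ᵁ U from hxU) (f ⁻¹ᵁ U).isOpen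
  have hVU' : V ≤ f ⁻¹ᵁ U := hVU
  algebraize [(f.appLE U V hVU').hom]
  haveI : Algebra.FinitePresentation Γ(S, U) Γ(X, V) :=
    LocallyOfFinitePresentation.finitePresentation_appLE f hU hV hVU'
  have key : ∀ y (hy : y ∈ V), (f.stalkMap y).hom.Flat ↔
      Groth.Agent.Flat.FlatAt.FlatAt Γ(S, U) Γ(X, V) (hV.primeIdealOf ⟨y, hy⟩).asIdeal :=
    fun y hy => by
      let p := (hU.primeIdealOf ⟨f y, hVU' hy⟩).asIdeal
      let q := (hV.primeIdealOf ⟨y, hy⟩).asIdeal
      have : q.LiesOver p :=
        ⟨congr($(IsAffineOpen.comap_primeIdealOf_appLE U hU V hV hVU' hy).1).symm⟩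
      let := Localization.AtPrime.algebraOfLiesOver p q
      trans Module.Flat (Localization.AtPrime p) (Localization.AtPrime q)
      · rw [← RingHom.flat_algebraMap_iff]
        exact RingHom.Flat.respectsIso.arrow_mk_iso_iff
          (IsAffineOpen.arrowStalkMapIso f U hU V hV hVU' hy)
      · rw [Module.flat_iff_of_isLocalization (Localization.AtPrime p) p.primeCompl _]
        exact (Groth.Agent.Flat.FlatAt.flatAt_iff q
          (Algebra.linearMap Γ(X, V) (Localization.AtPrime q))).symm
  have hopen : IsOpen {q : PrimeSpectrum Γ(X, V) |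
      Groth.Agent.Flat.FlatAt.FlatAt Γ(S, U) Γ(X, V) q.asIdeal} :=
    Groth.Agent.Flat.OpenLocus.isOpen_flatLocus
  have hc : Continuous fun y : (V : Set X) => hV.primeIdealOf ⟨y.1, y.2⟩ :=
    hV.isoSpec.hom.base.hom.continuous.comp continuous_id
  refine ⟨Subtype.val '' ((fun y : (V : Set X) => hV.primeIdealOf ⟨y.1, y.2⟩) ⁻¹'
    {q | Groth.Agent.Flat.FlatAt.FlatAt Γ(S, U) Γ(X, V) q.asIdeal}), ?_, ?_,
    ⟨⟨x, hxV⟩, (key x hxV).mp hx, rfl⟩⟩
  · rintro _ ⟨⟨y, hy⟩, hy', rfl⟩
    exact (key y hy).mpr hy'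
  · exact V.isOpen.isOpenMap_subtype_val _ (hopen.preimage hc)

end Groth.Agent.S0386
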