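import Groth.Statements.S0400
import Groth.Agent.Flat.LocalCriterion

set_option autoImplicit false
universe u
open FlatMor

namespace Groth.Agent.S0400

open TensorProduct in
/-- Fibrewise criterion of flatness, nilpotent form: let R → S be a ring map, I a nilpotent ideal of R,
and M an S-module that is flat over R and such that M/IM is flat over S/IS. Then M is flat over S.
The published statement also determines the primes of S at which S is flat over R; that part is not
stated here. -/
theorem result {R S M : Type u} [CommRing R] [CommRing S] [Algebra R S] (I : Ideal R) (hI : IsNilpotent I)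
    [AddCommGroup M] [Module S M] [Module R M] [IsScalarTower R S M] [Module.Flat R M]
    (h : Module.Flat (S ⧸ I.map (algebraMap R S)) ((S ⧸ I.map (algebraMap R S)) ⊗[S] M)) : Module.Flat S M := by
  let J := I.map (algebraMap R S)
  obtain ⟨n, hn⟩ := hI
  let φ : I ⊗[R] M →ₗ[R] J ⊗[S] M := TensorProduct.lift
    (LinearMap.mk₂ R (fun (r : I) (m : M) =>
      (⟨algebraMap R S r, Ideal.mem_map_of_mem _ r.2⟩ : J) ⊗ₜ[S] m)
      (fun r₁ r₂ m => by rw [← add_tmul]; congr 1; exact Subtype.ext (map_add _ _ _))
      (fun c r m => by
        rw [smul_tmul']; congr 1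
        exact Subtype.ext (by show algebraMap R S (c * r) = c • algebraMap R S r; rw [map_mul, Algebra.smul_def]))
      (fun r m₁ m₂ => tmul_add _ _ _)
      (fun c r m => by rw [← algebraMap_smul S c m, ← algebraMap_smul S c (_ ⊗ₜ[S] m), tmul_smul]))
  have hφ : Function.Surjective φ := by
    have key : ∀ (z : S) (hz : z ∈ J) (m : M), ∃ y, φ y = (⟨z, hz⟩ : J) ⊗ₜ[S] m := by
      intro z hz
      induction hz using Submodule.span_induction with
      | mem z hz =>
        obtain ⟨r, hr, rfl⟩ := hz
        exact fun m => ⟨(⟨r, hr⟩ : I) ⊗ₜ m, rfl⟩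
      | zero => exact fun m => ⟨0, by rw [map_zero]; exact (zero_tmul _ _).symm⟩
      | add a b ha hb iha ihb =>
        intro m
        obtain ⟨y, hy⟩ := iha m
        obtain ⟨y', hy'⟩ := ihb m
        exact ⟨y + y', by rw [map_add, hy, hy', ← add_tmul]; rfl⟩
      | smul s a ha iha =>
        intro m
        obtain ⟨y, hy⟩ := iha (s • m)
        exact ⟨y, by rw [hy, ← smul_tmul]; rfl⟩
    intro x
    induction x using TensorProduct.induction_on with
    | zero => exact ⟨0, map_zero _⟩
    | add a b ha hb =>
      obtain ⟨y, rfl⟩ := ha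
      obtain ⟨y', rfl⟩ := hb
      exact ⟨y + y', map_add _ _ _⟩
    | tmul z m => exact key z.1 z.2 m
  have hcomp : ∀ y, TensorProduct.lid S M (J.subtype.rTensor M (φ y)) =
      TensorProduct.lid R M (I.subtype.rTensor M y) := by
    intro y
    induction y using TensorProduct.induction_on with
    | zero => simp
    | add a b ha hb => simp only [map_add, ha, hb]
    | tmul r m => simp [φ, algebraMap_smul]
  have hJ : Function.Injective (J.subtype.rTensor M) := by
    intro a b hab
    obtain ⟨a, rfl⟩ := hφ a
    obtain ⟨b, rfl⟩ := hφ b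
    refine congrArg φ (Module.Flat.rTensor_preserves_injective_linearMap (M := M) I.subtype
      Subtype.val_injective ((TensorProduct.lid R M).injective ?_))
    rw [← hcomp, ← hcomp, hab]
  have htor : ∀ (N : Type u) [AddCommGroup N] [Module S N],
      Groth.Agent.Flat.LocalCriterion.TorZero S M N := fun N _ _ =>
    Groth.Agent.Flat.LocalCriterion.torZero_of_killed_pow J hJ h n N fun a ha x => by
      rw [← Ideal.map_pow, hn, Ideal.zero_eq_bot, Ideal.map_bot, Ideal.mem_bot] at ha
      rw [ha, zero_smul]
  exact Module.Flat.iff_lTensor_injective'.mpr fun a =>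
    (htor (S ⧸ a)).lTensor_injective Subtype.val_injective (LinearMap.exact_subtype_mkQ a)
      (Submodule.mkQ_surjective a)

end Groth.Agent.S0400
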