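import Groth.Statements.S5705
import Mathlib

set_option autoImplicit false
universe u v
open TensorProduct
open Dix

namespace Groth.Agent.S5705

/-- Over a local base, where the Zariski-local conclusion becomes global. Let R be a local ring and A an
Azumaya algebra over R. Then every R-algebra automorphism u of A is inner, u(x) = a x a⁻¹ for some
unit a of A, and the unit a is determined up to multiplication by a unit of R. -/
theorem result (R : Type u) [CommRing R] [IsLocalRing R] (A : Type v) [Ring A] [Algebra R A] [IsAzumaya R A] (u : A ≃ₐ[R] A) : (∃ a : Aˣ, ∀ x : A, u x = (a : A) * x * (a⁻¹ : Aˣ)) ∧ (∀ a a' : Aˣ, (∀ x : A, u x = (a : A) * x * (a⁻¹ : Aˣ)) → (∀ x : A, u x = (a' : A) * x * (a'⁻¹ : Aˣ)) → ∃ c : Rˣ, (a' : A) = algebraMap R A (c : R) * (a : A)) := by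
  haveI : Module.Free R A := Module.free_of_flat_of_isLocalRing
  let b := Module.Free.chooseBasis R A
  let ι := Module.Free.ChooseBasisIndex R A
  classical
  haveI : Nontrivial A := by
    by_contra hA
    rw [not_nontrivial_iff_subsingleton] at hA
    exact one_ne_zero (α := R)
      (FaithfulSMul.eq_of_smul_eq_smul (α := A) fun a => Subsingleton.elim _ _)
  have hdual : ∀ x : A, (∃ i, IsUnit (b.repr x i)) → ∃ φ : A →ₗ[R] R, φ x = 1 := by
    rintro x ⟨i, hi⟩
    exact ⟨(↑hi.unit⁻¹ : R) • b.coord i, by simp⟩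
  have h1 : ∃ i, IsUnit (b.repr (1 : A) i) := by
    by_contra hc
    push Not at hc
    obtain ⟨j⟩ := b.index_nonempty
    have hmem : b.repr (b j * 1) j ∈ IsLocalRing.maximalIdeal R := by
      have h2 : b j * 1 = ∑ i, b j * (b.repr 1 i • b i) := by rw [← Finset.mul_sum, b.sum_repr]
      rw [h2]
      rw [map_sum, Finsupp.finsetSum_apply]
      refine Ideal.sum_mem _ fun i _ => ?_
      rw [mul_smul_comm, map_smul, Finsupp.smul_apply, smul_eq_mul]
      exact Ideal.mul_mem_right _ _ (hc i)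
    simp at hmem
  obtain ⟨φ, hφ⟩ := hdual 1 h1
  let m := AlgHom.mulLeftRight R A
  have hm : Function.Bijective m := IsAzumaya.bij
  obtain ⟨z, hz⟩ := hm.surjective (LinearMap.smulRight φ (1 : A))
  let σ : (A ⊗[R] Aᵐᵒᵖ) →ₐ[R] (A ⊗[R] Aᵐᵒᵖ) :=
    Algebra.TensorProduct.map u.toAlgHom (AlgHom.id R Aᵐᵒᵖ)
  let τ : (A ⊗[R] Aᵐᵒᵖ) →ₐ[R] (A ⊗[R] Aᵐᵒᵖ) :=
    Algebra.TensorProduct.map u.symm.toAlgHom (AlgHom.id R Aᵐᵒᵖ)
  have hτσ : ∀ w, τ (σ w) = w := fun w => by
    induction w using TensorProduct.induction_on with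
    | zero => simp
    | tmul a c => simp [σ, τ]
    | add c d hc hd => rw [map_add, map_add, hc, hd]
  let P := m (σ z)
  have hzz : z * z = z := hm.injective (by
    rw [map_mul, hz]
    ext y
    simp [Module.End.mul_apply, hφ])
  have hPP : P * P = P := by rw [← map_mul, ← map_mul, hzz]
  have hP0 : P ≠ 0 := fun h0 => by
    have hz0 : z = 0 := by
      rw [← hτσ z, hm.injective (h0.trans (map_zero m).symm), map_zero]
    have := LinearMap.congr_fun hz (1 : A)
    rw [hz0, map_zero] at this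
    simp [hφ] at this
  have hex : ∃ i j, IsUnit (b.repr (P (b j)) i) := by
    by_contra hc
    push Not at hc
    have hu : IsUnit (1 - P) := by
      rw [LinearMap.isUnit_iff_isUnit_det, ← LinearMap.det_toMatrix b]
      have : IsLocalRing.residue R (LinearMap.toMatrix b b (1 - P)).det = 1 := by
        rw [RingHom.map_det]
        convert Matrix.det_one (R := IsLocalRing.ResidueField R) (n := ι)
        ext i j
        rw [RingHom.mapMatrix_apply, Matrix.map_apply, map_sub, LinearMap.toMatrix_one,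
          Matrix.sub_apply, map_sub, LinearMap.toMatrix_apply,
          (IsLocalRing.residue_eq_zero_iff _).mpr (hc i j), sub_zero]
        rcases eq_or_ne i j with rfl | hij
        · simp
        · simp [Matrix.one_apply_ne hij]
      by_contra hnu
      rw [(IsLocalRing.residue_eq_zero_iff _).mpr hnu] at this
      exact zero_ne_one this
    apply hP0
    have h0 : (1 - P) * P = 0 := by rw [sub_mul, one_mul, hPP, sub_self]
    exact hu.mul_right_eq_zero.mp h0
  obtain ⟨i, j, hij⟩ := hex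
  let a : A := P (b j)
  obtain ⟨φ', hφ'⟩ := hdual a ⟨i, hij⟩
  have hrel : ∀ x : A, u x * a = a * x := fun x => by
    have key : (x ⊗ₜ[R] (1 : Aᵐᵒᵖ)) * z = ((1 : A) ⊗ₜ[R] MulOpposite.op x) * z := hm.injective (by
      ext y
      simp [Module.End.mul_apply, m, hz])
    have := LinearMap.congr_fun (congrArg (fun w => m (σ w)) key) (b j)
    simpa [map_mul, Module.End.mul_apply, σ, m, a, P] using this
  obtain ⟨w, hw⟩ := hm.surjective (LinearMap.smulRight φ' (1 : A))
  have hwa : m w a = 1 := by simp [hw, hφ']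
  have hideal : ∀ w, (∃ c, m w a = a * c) ∧ ∃ c, m w a = c * a := fun w => by
    induction w using TensorProduct.induction_on with
    | zero => exact ⟨⟨0, by simp⟩, ⟨0, by simp⟩⟩
    | tmul p q =>
      refine ⟨⟨u.symm p * q.unop, ?_⟩, ⟨p * u q.unop, ?_⟩⟩
      · rw [show m (p ⊗ₜ[R] q) a = p * a * q.unop from by simp [m], ← mul_assoc, ← hrel,
          u.apply_symm_apply]
      · rw [show m (p ⊗ₜ[R] q) a = p * a * q.unop from by simp [m], mul_assoc, mul_assoc, hrel]
    | add c d hc hd =>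
      obtain ⟨⟨⟨x, hx⟩, y, hy⟩, ⟨x', hx'⟩, y', hy'⟩ := And.intro hc hd
      exact ⟨⟨x + x', by rw [map_add, LinearMap.add_apply, hx, hx', mul_add]⟩,
        ⟨y + y', by rw [map_add, LinearMap.add_apply, hy, hy', add_mul]⟩⟩
  obtain ⟨⟨c, hc⟩, ⟨d, hd⟩⟩ := hideal w
  rw [hwa] at hc hd
  have hdc : d = c := by
    calc d = d * (a * c) := by rw [← hc, mul_one]
      _ = c := by rw [← mul_assoc, ← hd, one_mul]
  let au : Aˣ := ⟨a, c, hc.symm, by rw [← hdc, hd.symm]⟩
  refine ⟨⟨au, fun x => ?_⟩, ?_⟩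
  · rw [show (au : A) = a from rfl, ← hrel, mul_assoc]
    show u x = u x * (a * c)
    rw [← hc, mul_one]
  · intro a a' ha ha'
    have hcen : ((a⁻¹ * a' : Aˣ) : A) ∈ Subalgebra.center R A := by
      rw [Subalgebra.mem_center_iff]
      intro x
      have h := (ha x).symm.trans (ha' x)
      calc x * ((a⁻¹ * a' : Aˣ) : A) = (↑a⁻¹ : A) * ((a : A) * x * ↑a⁻¹) * (a' : A) := by
            simp [mul_assoc]
        _ = (↑a⁻¹ : A) * ((a' : A) * x * ↑a'⁻¹) * (a' : A) := by rw [h]
        _ = ((a⁻¹ * a' : Aˣ) : A) * x := by simp [mul_assoc]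
    obtain ⟨c, hc⟩ := Algebra.mem_bot.mp (Algebra.IsCentral.out hcen)
    have hcu : IsUnit c := by
      have hinv : ((a⁻¹ * a' : Aˣ)⁻¹ : Aˣ).val * algebraMap R A c = 1 := by rw [hc, Units.inv_mul]
      have h2 := congrArg φ hinv
      rw [← Algebra.commutes, ← Algebra.smul_def, map_smul, hφ, smul_eq_mul] at h2
      exact IsUnit.of_mul_eq_one _ h2
    refine ⟨hcu.unit, ?_⟩
    rw [IsUnit.unit_spec, Algebra.commutes, hc, Units.val_mul, ← mul_assoc, Units.mul_inv, one_mul]

end Groth.Agent.S5705
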