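import Groth.Statements.S5711
import Mathlib
import Groth.Agent.Dix.Azumaya

set_option autoImplicit false
universe u v
open TensorProduct
open Dix

namespace Groth.Agent.S5711

/-- Over a local base. Let R be a local ring with residue field k, A an Azumaya algebra over R of rank
r², E a commutative R-algebra which is finite étale and free of rank r over R, and u : E → A an
R-algebra homomorphism injective on the special fibre. For the right E-module structure on A given
by e • a = a·u(e) (supplied as a module structure together with that compatibility), A is a free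
E-module of rank r, and E ⊗_R A is isomorphic as an E-algebra to the endomorphism algebra End_E(A).
(Only the existence of an isomorphism is stated; the canonical map sends e ⊗ a to y ↦ a·y·u(e).) -/
theorem result (R : Type u) [CommRing R] [IsLocalRing R] (A : Type u) [Ring A] [Algebra R A] [IsAzumaya R A] (r : ℕ) (hA : Module.finrank R A = r ^ 2) (E : Type u) [CommRing E] [Algebra R E] [Algebra.Etale R E] [Module.Finite R E] [Module.Free R E] (hE : Module.finrank R E = r) (u : E →ₐ[R] A) (hu : Function.Injective (u.toLinearMap.lTensor (IsLocalRing.ResidueField R))) [Module E A] (hmod : ∀ (e : E) (a : A), e • a = a * u e) : Module.Free E A ∧ Module.finrank E A = r ∧ Nonempty ((E ⊗[R] A) ≃ₐ[E] Module.End E A) := by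
  classical
  haveI : Module.Free R A := Module.free_of_flat_of_isLocalRing
  haveI : Nontrivial A := by
    by_contra hA
    rw [not_nontrivial_iff_subsingleton] at hA
    exact one_ne_zero (α := R)
      (FaithfulSMul.eq_of_smul_eq_smul (α := A) fun a => Subsingleton.elim _ _)
  have hr : 0 < r := by
    rcases Nat.eq_zero_or_pos r with rfl | h
    · have h0 := Module.finrank_eq_card_chooseBasisIndex R A
      rw [hA, zero_pow two_ne_zero] at h0
      haveI := Fintype.card_eq_zero_iff.mp h0.symm
      exact absurd ((Module.Free.chooseBasis R A).repr.toEquiv.subsingleton)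
        (not_subsingleton A)
    · exact h
  haveI : Nontrivial E := by
    apply Module.nontrivial_of_finrank_pos (R := R)
    rw [hE]; exact hr
  haveI : IsScalarTower R E A := ⟨fun c l a => by rw [hmod, hmod, map_smul, mul_smul_comm]⟩
  haveI : SMulCommClass E R A := ⟨fun l c a => by rw [hmod, hmod, smul_mul_assoc]⟩
  haveI : Module.Finite E A := Module.Finite.of_restrictScalars_finite R E A
  let lam : A →ₐ[R] Module.End E A :=
    { toFun := fun a =>
        { toFun := fun y => a * y
          map_add' := mul_add a
          map_smul' := fun l y => by rw [RingHom.id_apply, hmod, hmod, mul_assoc] }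
      map_one' := LinearMap.ext fun y => one_mul y
      map_mul' := fun a b => LinearMap.ext fun y => mul_assoc a b y
      map_zero' := LinearMap.ext fun y => zero_mul y
      map_add' := fun a b => LinearMap.ext fun y => add_mul a b y
      commutes' := fun c => LinearMap.ext fun y => by
        show algebraMap R A c * y = _
        rw [← Algebra.smul_def]
        rfl }
  let k := IsLocalRing.ResidueField R
  let inc : E →ₐ[R] k ⊗[R] E := Algebra.TensorProduct.includeRight
  have hincs : Function.Surjective inc := fun z => by
    induction z using TensorProduct.induction_on with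
    | zero => exact ⟨0, map_zero _⟩
    | tmul c x =>
      obtain ⟨c, rfl⟩ := IsLocalRing.residue_surjective c
      refine ⟨c • x, ?_⟩
      show (1 : k) ⊗ₜ[R] (c • x) = _
      rw [TensorProduct.tmul_smul, TensorProduct.smul_tmul', Algebra.smul_def, mul_one]
      rfl
    | add a b ha hb =>
      obtain ⟨⟨a, rfl⟩, ⟨b, rfl⟩⟩ := ha, hb
      exact ⟨a + b, map_add _ _ _⟩
  haveI : Algebra.Etale k (k ⊗[R] E) := inferInstance
  haveI : IsReduced (k ⊗[R] E) := Algebra.FormallyUnramified.isReduced_of_field k _
  haveI : IsArtinianRing (k ⊗[R] E) := IsArtinianRing.of_finite k _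
  let T := MaximalSpectrum (k ⊗[R] E)
  let M : T → Ideal E := fun P => P.asIdeal.comap inc.toRingHom
  have hM : ∀ P, (M P).IsMaximal := fun P =>
    haveI := P.isMaximal
    Ideal.comap_isMaximal_of_surjective inc.toRingHom hincs
  have hMm : ∀ (P : T) (c : R), c ∈ IsLocalRing.maximalIdeal R → algebraMap R E c ∈ M P := by
    intro P c hc
    show inc (algebraMap R E c) ∈ P.asIdeal
    rw [AlgHom.commutes, Algebra.TensorProduct.algebraMap_apply, IsLocalRing.ResidueField.algebraMap_eq,
      (IsLocalRing.residue_eq_zero_iff c).mpr hc, TensorProduct.zero_tmul]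
    exact zero_mem _
  have hcop : Pairwise fun P Q => IsCoprime (M P) (M Q) := by
    intro P Q hPQ
    rw [Ideal.isCoprime_iff_sup_eq]
    refine (hM P).coprime_of_ne (hM Q) fun h => hPQ ?_
    exact MaximalSpectrum.ext (Ideal.comap_injective_of_surjective inc.toRingHom hincs h)
  -- each fibre at a maximal ideal has dimension at least r
  have hsurj : ∀ P : T, ∃ φ : A →ₗ[E] (Fin r → E ⧸ M P), Function.Surjective φ := by
    intro P
    haveI := hM P
    letI : Field (E ⧸ M P) := Ideal.Quotient.field _
    let L := E ⧸ M P
    haveI : Nontrivial (L ⊗[E] A) := by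
      by_contra hV
      rw [not_nontrivial_iff_subsingleton] at hV
      have htop : (⊤ : Submodule E A) ≤ M P • ⊤ := fun x _ => by
        have := congrArg (TensorProduct.quotTensorEquivQuotSMul A (M P))
          (Subsingleton.elim ((1 : L) ⊗ₜ[E] x) 0)
        rw [map_zero, ← map_one (Ideal.Quotient.mk (M P)),
          TensorProduct.quotTensorEquivQuotSMul_mk_tmul, one_smul,
          Submodule.Quotient.mk_eq_zero] at this
        exact this
      obtain ⟨e, he, he0⟩ := Submodule.exists_sub_one_mem_and_smul_eq_zero_of_fg_of_le_smul (M P) ⊤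
        Module.Finite.fg_top htop
      have hue : u e = 0 := by
        have := he0 1 trivial
        rwa [hmod, one_mul] at this
      have : inc e = 0 := hu (by
        rw [map_zero]
        show (1 : k) ⊗ₜ[R] u e = 0
        rw [hue, TensorProduct.tmul_zero])
      have heM : e ∈ M P := by show inc e ∈ P.asIdeal; rw [this]; exact zero_mem _
      exact (hM P).ne_top ((Ideal.eq_top_iff_one _).mpr (by simpa using (M P).sub_mem heM he))
    haveI : Module.Finite L (L ⊗[E] A) := inferInstance
    let ψL : L ⊗[R] A →ₐ[L] Module.End L (L ⊗[E] A) :=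
      Algebra.TensorProduct.lift (Algebra.ofId L _)
        (((Module.End.baseChangeHom E L A).restrictScalars R).comp lam)
        (fun l a => Algebra.commutes l _)
    haveI : Nontrivial (L ⊗[R] A) := by
      obtain ⟨⟨ι, b⟩⟩ := Module.Free.exists_basis (R := R) (M := A)
      obtain ⟨i⟩ := b.index_nonempty
      exact ⟨(b.baseChange L) i, 0, (b.baseChange L).ne_zero i⟩
    haveI := (Dix.Azumaya.fibre_centralSimple R A L).2
    have hψinj : Function.Injective ψL.toRingHom := RingHom.injective _
    have hd := LinearMap.finrank_le_finrank_of_injective (f := ψL.toLinearMap) hψinj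
    rw [Module.finrank_baseChange, hA, Module.finrank_linearMap, ← pow_two] at hd
    have hle : r ≤ Module.finrank L (L ⊗[E] A) :=
      (Nat.pow_le_pow_iff_left two_ne_zero).mp hd
    let b := Module.finBasis L (L ⊗[E] A)
    let p : (L ⊗[E] A) →ₗ[L] (Fin r → L) :=
      (LinearMap.funLeft L L (Fin.castLE hle)) ∘ₗ b.equivFun.toLinearMap
    have hp : Function.Surjective p :=
      (LinearMap.funLeft_surjective_of_injective L L _ (Fin.castLE_injective hle)).comp
        b.equivFun.surjective
    refine ⟨p.restrictScalars E ∘ₗ TensorProduct.mk E L A 1, hp.comp fun z => ?_⟩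
    exact TensorProduct.mk_surjective E A L Ideal.Quotient.mk_surjective z
  choose φ hφ using hsurj
  have hlift : ∀ j : Fin r, ∃ v : A, ∀ P, φ P v = Pi.single j 1 := by
    intro j
    choose w hw using fun P => hφ P (Pi.single j 1)
    have hcrt : ∀ P : T, ∃ e : E, e - 1 ∈ M P ∧ ∀ Q ≠ P, e ∈ M Q := fun P => by
      obtain ⟨e, he⟩ := Ideal.exists_forall_sub_mem_ideal hcop (fun Q => if Q = P then 1 else 0)
      exact ⟨e, by simpa using he P, fun Q hQ => by simpa [hQ] using he Q⟩
    choose e he1 he0 using hcrt
    haveI : Fintype T := Fintype.ofFinite T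
    refine ⟨∑ Q, e Q • w Q, fun P => ?_⟩
    rw [map_sum, Finset.sum_eq_single P]
    · rw [map_smul, hw]
      funext i
      rw [Pi.smul_apply, Algebra.smul_def, Ideal.Quotient.algebraMap_eq,
        Ideal.Quotient.eq.mpr (he1 P), map_one, one_mul]
    · intro Q _ hQ
      funext i
      rw [map_smul, Pi.smul_apply, Algebra.smul_def, Ideal.Quotient.algebraMap_eq,
        Ideal.Quotient.eq_zero_iff_mem.mpr (he0 Q P hQ.symm), zero_mul, Pi.zero_apply]
    · simp
  choose v hv using hlift
  let h : (Fin r → E) →ₗ[E] A := Fintype.linearCombination E v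
  have hφh : ∀ (P : T) (y : Fin r → E), φ P (h y) = fun i => Ideal.Quotient.mk (M P) (y i) := by
    intro P y
    funext i
    simp [h, Fintype.linearCombination_apply, hv, Finset.sum_apply, Pi.single_apply,
      Algebra.smul_def]
  have hone : ∀ {N : Type u} [AddCommGroup N] [Module R N] (z : k ⊗[R] N),
      ∃ y : N, z = (1 : k) ⊗ₜ[R] y := by
    intro N _ _ z
    obtain ⟨y, hy⟩ := TensorProduct.mk_surjective R N k IsLocalRing.residue_surjective z
    exact ⟨y, hy.symm⟩
  have hker : ∀ (a : A), (1 : k) ⊗ₜ[R] a = 0 → ∀ P, φ P a = 0 := by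
    intro a ha P
    have hmem : a ∈ IsLocalRing.maximalIdeal R • (⊤ : Submodule R A) := by
      have h2 := congrArg (TensorProduct.quotTensorEquivQuotSMul A (IsLocalRing.maximalIdeal R))
        (show (1 : R ⧸ IsLocalRing.maximalIdeal R) ⊗ₜ[R] a = 0 from ha)
      rw [map_zero, ← map_one (Ideal.Quotient.mk _), TensorProduct.quotTensorEquivQuotSMul_mk_tmul,
        one_smul, Submodule.Quotient.mk_eq_zero] at h2
      exact h2
    refine Submodule.smul_induction_on hmem (fun c hc x _ => ?_) (fun x y hx hy => ?_)
    · funext i
      rw [← IsScalarTower.algebraMap_smul E c x, map_smul, Pi.smul_apply, Algebra.smul_def,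
        Ideal.Quotient.algebraMap_eq, Ideal.Quotient.eq_zero_iff_mem.mpr (hMm P c hc), zero_mul,
        Pi.zero_apply]
    · rw [map_add, hx, hy, add_zero]
  have hinj : Function.Injective ((h.restrictScalars R).lTensor k) := by
    rw [injective_iff_map_eq_zero]
    intro z hz
    obtain ⟨y, rfl⟩ := hone z
    have hy : ∀ i, (1 : k) ⊗ₜ[R] y i = 0 := by
      intro i
      show inc (y i) = 0
      have hmem : inc (y i) ∈ nilradical (k ⊗[R] E) := by
        rw [IsArtinianRing.nilradical_eq_iInf, Submodule.mem_iInf]
        intro P
        show y i ∈ M P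
        have := congrFun (hker (h y) (by simpa using hz) P) i
        rw [hφh] at this
        exact Ideal.Quotient.eq_zero_iff_mem.mp this
      rwa [nilradical_eq_zero, Ideal.zero_eq_bot, Ideal.mem_bot] at hmem
    rw [show y = ∑ i, Pi.single i (y i) from (Finset.univ_sum_single y).symm, TensorProduct.tmul_sum]
    refine Finset.sum_eq_zero fun i _ => ?_
    have := congrArg ((LinearMap.single R (fun _ : Fin r => E) i).lTensor k) (hy i)
    rwa [map_zero, LinearMap.lTensor_tmul, LinearMap.coe_single] at this
  have hbij : ∀ {X Y : Type u} [AddCommGroup X] [Module R X] [Module.Finite R X] [Module.Free R X]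
      [AddCommGroup Y] [Module R Y] [Module.Finite R Y] [Module.Free R Y] (f : X →ₗ[R] Y)
      (p : Y →ₗ[R] X), p ∘ₗ f = LinearMap.id → Module.finrank R X = Module.finrank R Y →
      Function.Bijective f := by
    intro X Y _ _ _ _ _ _ _ _ f p hpf hd
    let e := LinearEquiv.ofFinrankEq (R := R) X Y hd
    have hps : Function.Surjective p := fun x => ⟨f x, LinearMap.congr_fun hpf x⟩
    have hes : Function.Injective (e.toLinearMap ∘ₗ p) :=
      OrzechProperty.injective_of_surjective_endomorphism _ (e.surjective.comp hps)
    have hpi : Function.Injective p := fun a b hab => hes (congrArg e hab)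
    exact ⟨fun a b hab => by
        have := congrArg p hab
        rwa [← LinearMap.comp_apply, ← LinearMap.comp_apply, hpf] at this,
      fun y => ⟨p y, hpi (LinearMap.congr_fun hpf (p y))⟩⟩
  obtain ⟨p, hp⟩ := (IsLocalRing.split_injective_iff_lTensor_residueField_injective
    (h.restrictScalars R)).mpr hinj
  have hh : Function.Bijective h := hbij (h.restrictScalars R) p hp (by
    rw [Module.finrank_pi_fintype, hA, hE]; simp [pow_two])
  let e : (Fin r → E) ≃ₗ[E] A := LinearEquiv.ofBijective h hh
  haveI hfree : Module.Free E A := Module.Free.of_equiv e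
  have hrank : Module.finrank E A = r := by rw [← e.finrank_eq, Module.finrank_fin_fun]
  refine ⟨hfree, hrank, ?_⟩
  let ψ : E ⊗[R] A →ₐ[E] Module.End E A :=
    Algebra.TensorProduct.lift (Algebra.ofId E (Module.End E A)) lam
      (fun l a => Algebra.commutes l (lam a))
  let f : E →ₗ[R] Aᵐᵒᵖ := (MulOpposite.opLinearEquiv R : A ≃ₗ[R] Aᵐᵒᵖ).toLinearMap ∘ₗ u.toLinearMap
  have hf : Function.Injective (f.lTensor k) := by
    rw [LinearMap.lTensor_comp]
    exact ((MulOpposite.opLinearEquiv R : A ≃ₗ[R] Aᵐᵒᵖ).lTensor k).injective.comp hu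
  obtain ⟨f', hf'⟩ := (IsLocalRing.split_injective_iff_lTensor_residueField_injective f).mpr hf
  let g : E ⊗[R] A →ₗ[R] A ⊗[R] Aᵐᵒᵖ := (f.lTensor A) ∘ₗ (TensorProduct.comm R E A).toLinearMap
  let g' : A ⊗[R] Aᵐᵒᵖ →ₗ[R] E ⊗[R] A :=
    (TensorProduct.comm R A E).toLinearMap ∘ₗ (f'.lTensor A)
  let m := AlgEquiv.ofBijective (AlgHom.mulLeftRight R A) IsAzumaya.bij
  let res : Module.End E A →ₗ[R] Module.End R A :=
    { toFun := fun F => F.restrictScalars R
      map_add' := fun _ _ => rfl
      map_smul' := fun _ _ => rfl }
  have key : ∀ z, res (ψ z) = m (g z) := by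
    intro z
    refine LinearMap.ext fun x => ?_
    show ψ z x = AlgHom.mulLeftRight R A (g z) x
    induction z using TensorProduct.induction_on with
    | zero => simp
    | tmul l a =>
      simp only [ψ, Algebra.TensorProduct.lift_tmul, g, f, LinearMap.comp_apply,
        LinearEquiv.coe_coe, TensorProduct.comm_tmul, LinearMap.lTensor_tmul,
        AlgHom.mulLeftRight_apply]
      show l • (a * x) = a * x * u l
      exact hmod l (a * x)
    | add c d hc hd => simp [hc, hd]
  have hleft : (g' ∘ₗ m.symm.toLinearMap ∘ₗ res) ∘ₗ (ψ.toLinearMap.restrictScalars R) =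
      LinearMap.id := by
    refine LinearMap.ext fun z => ?_
    show g' (m.symm (res (ψ z))) = z
    rw [key, AlgEquiv.symm_apply_apply]
    show g' (g z) = z
    have : (f'.lTensor A) ((f.lTensor A) (TensorProduct.comm R E A z)) =
        TensorProduct.comm R E A z := by
      rw [← LinearMap.comp_apply, ← LinearMap.lTensor_comp, hf', LinearMap.lTensor_id,
        LinearMap.id_apply]
    show TensorProduct.comm R A E ((f'.lTensor A) ((f.lTensor A) (TensorProduct.comm R E A z))) = z
    rw [this, ← TensorProduct.comm_symm, LinearEquiv.symm_apply_apply]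
  haveI : Module.Finite R (Module.End E A) := Module.Finite.trans E _
  haveI : Module.Free R (Module.End E A) := Module.Free.trans (R := R) (S := E)
  have hψ : Function.Bijective ψ := hbij (ψ.toLinearMap.restrictScalars R) _ hleft (by
    rw [Module.finrank_tensorProduct, ← Module.finrank_mul_finrank R E (Module.End E A),
      Module.finrank_linearMap, hrank, hA, hE, pow_two])
  exact ⟨AlgEquiv.ofBijective ψ hψ⟩

end Groth.Agent.S5711
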