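import Groth.Statements.S4585
import Groth.Agent.Alg.ImageBasicOpen
import Mathlib.AlgebraicGeometry.Morphisms.FiniteType
import Mathlib.AlgebraicGeometry.FunctionField
import Mathlib.RingTheory.Spectrum.Prime.Topology

set_option autoImplicit false
universe u
open AlgebraicGeometry CategoryTheory
open EGA41

namespace Groth.Agent.S4585

/-- Let Y be an irreducible scheme with generic point η and f : X → Y locally of finite type with
nonempty fibre over η. Then some open neighbourhood of η is contained in f(X). (The second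
assertion, on fibres of a quasi-coherent module of finite type, is not stated.) -/
theorem result {X Y : Scheme.{u}} (f : X ⟶ Y)
    [LocallyOfFiniteType f] [IrreducibleSpace Y] (h : genericPoint Y ∈ Set.range f.base) :
    genericPoint Y ∈ interior (Set.range f.base) := by
  obtain ⟨x, hx⟩ := h
  obtain ⟨_, ⟨V, hV, rfl⟩, hxV, -⟩ := Y.isBasis_affineOpens.exists_subset_of_mem_open (Set.mem_univ (f x)) isOpen_univ
  obtain ⟨_, ⟨U, hU, rfl⟩, hxU, hUV⟩ := X.isBasis_affineOpens.exists_subset_of_mem_open (show x ∈ (f ⁻¹ᵁ V).1 from hxV) (f ⁻¹ᵁ V).2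
  have hft : (f.appLE V U hUV).hom.FiniteType := HasRingHomProperty.appLE (P := @LocallyOfFiniteType) f inferInstance ⟨V, hV⟩ ⟨U, hU⟩ hUV
  have hoV := hV.isOpenImmersion_fromSpec
  have hcomm := hV.SpecMap_appLE_fromSpec f hU hUV
  obtain ⟨P, hP⟩ : ∃ P : PrimeSpectrum Γ(X, U), hU.fromSpec P = x := by
    have := hU.range_fromSpec.ge hxU; exact this
  set φ := (f.appLE V U hUV).hom
  have hc : ∀ Q, f (hU.fromSpec Q) = hV.fromSpec (PrimeSpectrum.comap φ Q) := fun Q => by
    rw [← Scheme.Hom.comp_apply, ← hcomm]; rfl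
  set p := PrimeSpectrum.comap φ P
  have hp : hV.fromSpec p = genericPoint Y := (hc P).symm.trans ((congrArg f hP).trans hx)
  algebraize [φ]
  let A₀ := Γ(Y, V) ⧸ p.asIdeal
  let B₀ := Γ(X, U) ⧸ P.asIdeal
  let φ₀ : A₀ →+* B₀ := Ideal.quotientMap P.asIdeal φ le_rfl
  have hinj : Function.Injective φ₀ := Ideal.quotientMap_injective
  have hft₀ : φ₀.FiniteType := by
    refine RingHom.FiniteType.of_comp_finiteType (f := Ideal.Quotient.mk p.asIdeal) ?_
    have e : φ₀.comp (Ideal.Quotient.mk p.asIdeal) = (Ideal.Quotient.mk P.asIdeal).comp φ := Ideal.quotientMap_comp_mk _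
    rw [e]
    exact (RingHom.FiniteType.of_surjective _ Ideal.Quotient.mk_surjective).comp hft
  algebraize [φ₀]
  obtain ⟨a₀, ha₀, ha⟩ := Groth.Agent.Alg.ImageBasicOpen.exists_of_finiteType (A := A₀) (B := B₀) hinj one_ne_zero
  obtain ⟨a, rfl⟩ := Ideal.Quotient.mk_surjective a₀
  have hap : a ∉ p.asIdeal := fun h => ha₀ (Ideal.Quotient.eq_zero_iff_mem.mpr h)
  rw [mem_interior]
  refine ⟨(Y.basicOpen a : Set Y), fun y hy => ?_, (Y.basicOpen a).isOpen, ?_⟩
  · obtain ⟨q, hq, rfl⟩ : ∃ q : PrimeSpectrum Γ(Y, V), a ∉ q.asIdeal ∧ hV.fromSpec q = y := by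
      obtain ⟨q, hq, rfl⟩ := (hV.fromSpec_image_basicOpen a).ge hy
      exact ⟨q, hq, rfl⟩
    have hpq : p.asIdeal ≤ q.asIdeal := by
      refine (PrimeSpectrum.le_iff_specializes p q).mpr (hV.fromSpec.isOpenEmbedding.isInducing.specializes_iff.mp ?_)
      exact hp.symm ▸ genericPoint_specializes _
    have := q.2
    have hq₀ : (q.asIdeal.map (Ideal.Quotient.mk p.asIdeal)).IsPrime :=
      Ideal.map_isPrime_of_surjective Ideal.Quotient.mk_surjective (by rwa [Ideal.mk_ker])
    have hcm : (q.asIdeal.map (Ideal.Quotient.mk p.asIdeal)).comap (Ideal.Quotient.mk p.asIdeal) = q.asIdeal := by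
      rw [Ideal.comap_map_of_surjective _ Ideal.Quotient.mk_surjective, ← RingHom.ker_eq_comap_bot, Ideal.mk_ker, sup_eq_left]
      exact hpq
    obtain ⟨Q, hQ, -, hQc⟩ := ha _ hq₀ (fun h => hq (hcm ▸ h))
    refine ⟨hU.fromSpec ⟨Q.comap (Ideal.Quotient.mk P.asIdeal), hQ.comap _⟩, ?_⟩
    refine (hc _).trans ?_
    congr 1
    refine PrimeSpectrum.ext ?_
    have : φ₀.comp (Ideal.Quotient.mk p.asIdeal) = (Ideal.Quotient.mk P.asIdeal).comp φ := Ideal.quotientMap_comp_mk _
    rw [PrimeSpectrum.comap_asIdeal, Ideal.comap_comap, ← this, ← Ideal.comap_comap]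
    conv_rhs => rw [← hcm]
    congr 1
  · rw [← hp]
    exact (hV.fromSpec_image_basicOpen a).le ⟨p, hap, rfl⟩

end Groth.Agent.S4585
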