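import Groth.Statements.S9218
import Groth.Agent.Lim.Topo
import Mathlib.AlgebraicGeometry.AffineTransitionLimit
-- import your own Groth.Agent.* helpers here

set_option autoImplicit false
universe u
open CategoryTheory CategoryTheory.Limits AlgebraicGeometry
open Lim

namespace Groth.Agent.S9218

set_option backward.isDefEq.respectTransparency false
set_option backward.defeqAttrib.useBackward true

/-- Let S = lim S_i be a cofiltered limit of schemes with affine transition morphisms (the S_i are not
assumed quasi-compact or quasi-separated), i an index, and X_i → S_i, Y_i → S_i morphisms locally of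
finite presentation with X_i, Y_i quasi-compact and quasi-separated; let X, Y be their base changes
to S (pullback squares). Then every S-morphism f : X → Y comes from some stage: for some index j
over i there is an S_j-morphism f_j : X_i ×_{S_i} S_j → Y_i ×_{S_i} S_j whose base change to S is f,
in the sense that the canonical morphisms X → X_i ×_{S_i} S_j and Y → Y_i ×_{S_i} S_j intertwine f
and f_j. This is the fullness part of the equivalence between the colimit of the categories of
quasi-compact quasi-separated schemes locally of finite presentation over the S_i and the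
corresponding category over S. -/
theorem result {I : Type u} [SmallCategory I] [IsCofiltered I]
    (D : I ⥤ Scheme.{u}) (c : Limits.Cone D) (hc : Limits.IsLimit c)
    [∀ (i j : I) (f : i ⟶ j), IsAffineHom (D.map f)] (i : I)
    {Xi Yi : Scheme.{u}} (xi : Xi ⟶ D.obj i) (yi : Yi ⟶ D.obj i)
    [CompactSpace Xi] [QuasiSeparatedSpace Xi] [LocallyOfFinitePresentation xi]
    [CompactSpace Yi] [QuasiSeparatedSpace Yi] [LocallyOfFinitePresentation yi]
    {X Y : Scheme.{u}} (qX : X ⟶ Xi) (pX : X ⟶ c.pt) (hX : IsPullback qX pX xi (c.π.app i))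
    (qY : Y ⟶ Yi) (pY : Y ⟶ c.pt) (hY : IsPullback qY pY yi (c.π.app i))
    (f : X ⟶ Y) (hf : f ≫ pY = pX) :
    ∃ (j : I) (φ : j ⟶ i) (fj : pullback xi (D.map φ) ⟶ pullback yi (D.map φ))
      (sX : X ⟶ pullback xi (D.map φ)) (sY : Y ⟶ pullback yi (D.map φ)),
      fj ≫ pullback.snd yi (D.map φ) = pullback.snd xi (D.map φ) ∧
      sX ≫ pullback.fst xi (D.map φ) = qX ∧ sX ≫ pullback.snd xi (D.map φ) = pX ≫ c.π.app j ∧
      sY ≫ pullback.fst yi (D.map φ) = qY ∧ sY ≫ pullback.snd yi (D.map φ) = pY ≫ c.π.app j ∧
      sX ≫ fj = f ≫ sY := by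
  let E := Groth.Agent.Lim.Topo.bcDiagram D xi
  let cE := Groth.Agent.Lim.Topo.bcCone D c xi
  haveI : ∀ {a b : Over i} (g : a ⟶ b), IsAffineHom (E.map g) := fun g =>
    Groth.Agent.Lim.Topo.isAffineHom_bcDiagram_map D xi g
  let T : E ⟶ (Functor.const (Over i)).obj (D.obj i) :=
    { app := fun a => pullback.fst (D.map a.hom) xi ≫ D.map a.hom
      naturality := fun a b g => by
        simp [E, Groth.Agent.Lim.Topo.bcDiagram]
        simp [← D.map_comp] }
  haveI (a : Over i) : IsAffineHom (pullback.snd (D.map a.hom) xi) :=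
    MorphismProperty.pullback_snd (P := @IsAffineHom) _ _ (inferInstance : IsAffineHom (D.map a.hom))
  haveI (a : Over i) : QuasiCompact (pullback.snd (D.map a.hom) xi) :=
    @instQuasiCompactOfIsAffineHom _ _ _ (this a)
  haveI (a : Over i) : CompactSpace (E.obj a) :=
    QuasiCompact.compactSpace_of_compactSpace (pullback.snd (D.map a.hom) xi)
  haveI (a : Over i) : QuasiSeparatedSpace (E.obj a) :=
    quasiSeparatedSpace_of_quasiSeparated (pullback.snd (D.map a.hom) xi)
  let e : X ≅ pullback (c.π.app i) xi := hX.flip.isoPullback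
  obtain ⟨a, g, hg, hg'⟩ := Scheme.exists_π_app_comp_eq_of_locallyOfFinitePresentation E T yi cE
    (Groth.Agent.Lim.Topo.isLimitBcCone D c hc xi) (e.inv ≫ f ≫ qY) (by
      ext a
      refine Eq.trans (b := pullback.map (c.π.app i) xi (D.map a.hom) xi (c.π.app a.left) (𝟙 Xi) (𝟙 _) (by simp) (by simp) ≫ pullback.fst _ _ ≫ D.map a.hom) rfl ?_
      show pullback.map _ _ _ _ (c.π.app a.left) (𝟙 Xi) (𝟙 _) _ _ ≫ pullback.fst _ _ ≫ D.map a.hom =
        (e.inv ≫ f ≫ qY) ≫ yi
      rw [pullback.lift_fst_assoc, Category.assoc, c.w]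
      simp only [Category.assoc, hY.w, reassoc_of% hf]
      exact ((IsPullback.isoPullback_inv_fst_assoc hX.flip _)).symm)
  let g0 : pullback (D.map a.hom) xi ⟶ Yi := g
  refine ⟨a.left, a.hom,
    pullback.lift ((pullbackSymmetry _ _).hom ≫ g0) (pullback.snd xi (D.map a.hom)) ?_,
    pullback.lift qX (pX ≫ c.π.app a.left) (by rw [hX.w, Category.assoc, c.w]),
    pullback.lift qY (pY ≫ c.π.app a.left) (by rw [hY.w, Category.assoc, c.w]),
    pullback.lift_snd _ _ _, pullback.lift_fst _ _ _, pullback.lift_snd _ _ _,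
    pullback.lift_fst _ _ _, pullback.lift_snd _ _ _, ?_⟩
  · refine (Category.assoc _ _ _).trans ((congrArg (_ ≫ ·) hg').trans ?_)
    simp [T]
  · apply pullback.hom_ext
    · rw [Category.assoc, pullback.lift_fst]
      refine Eq.trans ?_ ((Category.assoc _ _ _).trans (congrArg (f ≫ ·) (pullback.lift_fst _ _ _))).symm
      have key : pullback.lift qX (pX ≫ c.π.app a.left) (by rw [hX.w, Category.assoc, c.w]) ≫
          (pullbackSymmetry xi (D.map a.hom)).hom = e.hom ≫ cE.π.app a := by
        apply pullback.hom_ext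
        · show _ = (e.hom ≫ pullback.map (c.π.app i) xi (D.map a.hom) xi (c.π.app a.left) (𝟙 Xi) (𝟙 _) (by simp) (by simp)) ≫ pullback.fst _ _
          simp [e]
        · show _ = (e.hom ≫ pullback.map (c.π.app i) xi (D.map a.hom) xi (c.π.app a.left) (𝟙 Xi) (𝟙 _) (by simp) (by simp)) ≫ pullback.snd _ _
          simp [e]
      exact (Category.assoc _ _ _).symm.trans ((congrArg (· ≫ g0) key).trans ((Category.assoc _ _ _).trans
        ((congrArg (e.hom ≫ ·) hg).trans (Iso.hom_inv_id_assoc _ _))))
    · simp only [Category.assoc, pullback.lift_snd]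
      rw [reassoc_of% hf]

end Groth.Agent.S9218
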