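import Groth.Statements.S6611
import Groth.Agent.KInjRes.DerivedCat

set_option autoImplicit false
universe v u
open CategoryTheory CategoryTheory.Limits
open CohDer

namespace Groth.Agent.S6611

/-- Let A be an abelian category, α : K ⟶ L a quasi-isomorphism of cochain complexes which is injective
in every degree, I a bounded below complex of injective objects and γ : K ⟶ I a morphism. Then there
is a morphism β : L ⟶ I with α ≫ β = γ. -/
theorem result {A : Type u} [Category.{v} A] [Abelian A]
    (K L I : CochainComplex A ℤ) (α : K ⟶ L) [QuasiIso α] (hα : ∀ n : ℤ, Mono (α.f n))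
    (a : ℤ) [I.IsStrictlyGE a] (hI : ∀ n : ℤ, Injective (I.X n)) (γ : K ⟶ I) :
    ∃ β : L ⟶ I, α ≫ β = γ := by
  letI := HasDerivedCategory.standard A
  haveI : I.IsKInjective := CochainComplex.isKInjective_of_injective I a
  haveI : IsIso (DerivedCategory.Q.map α) := inferInstance
  obtain ⟨β, hβ⟩ := (Groth.Agent.KInjRes.Q_map_kInjective L I).1 (inv (DerivedCategory.Q.map α) ≫ DerivedCategory.Q.map γ)
  obtain ⟨h⟩ := (Groth.Agent.KInjRes.Q_map_kInjective K I).2 (α ≫ β - γ) 0
    (by rw [Functor.map_sub, Functor.map_comp, hβ, IsIso.hom_inv_id_assoc, sub_self, Functor.map_zero])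
  let h' : ∀ i j, L.X i ⟶ I.X j := fun i j =>
    haveI := hα i
    haveI := hI j
    Injective.factorThru (h.hom i j) (α.f i)
  refine ⟨β - Homotopy.nullHomotopicMap h', ?_⟩
  rw [Preadditive.comp_sub, Homotopy.comp_nullHomotopicMap, sub_eq_iff_eq_add, ← sub_eq_iff_eq_add']
  ext i
  have hh : (fun i j => α.f i ≫ h' i j) = h.hom := funext₂ fun i j =>
    (haveI := hα i; haveI := hI j; Injective.comp_factorThru (h.hom i j) (α.f i))
  rw [hh, h.comm i]
  simp [Homotopy.nullHomotopicMap]

end Groth.Agent.S6611
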