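import Groth.Statements.S0605
import Groth.Agent.IdealDepth.Localization
import Groth.Agent.RegularLocal.Basic
import Mathlib.RingTheory.Regular.Free
import Mathlib.RingTheory.LocalRing.Module

set_option autoImplicit false
universe u
open CAlg

namespace Groth.Agent.S0605

open IsLocalRing in
theorem aux (d : ℕ) : ∀ (R : Type u) [CommRing R] [IsRegularLocalRing R],
    (maximalIdeal R).spanFinrank = d → ∀ (M : Type u) [AddCommGroup M] [Module R M] [Module.Finite R M],
    ((LocCoh.depth R M : ℕ∞) : WithBot ℕ∞) = ringKrullDim R → Module.Free R M := by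
  induction d with
  | zero =>
    intro R _ _ hd M _ _ _ _
    have hm : maximalIdeal R = ⊥ := (Submodule.spanFinrank_eq_zero_iff_eq_bot (IsNoetherian.noetherian _)).1 hd
    let F : Field R := ((IsLocalRing.isField_iff_maximalIdeal_eq).2 hm).toField
    exact @Module.Free.of_divisionRing R M F.toDivisionRing _ _
  | succ d ih =>
    intro R _ _ hd M _ _ _ h
    haveI : IsDomain R := RegularLocal.Basic.isDomain
    rw [← IsRegularLocalRing.spanFinrank_maximalIdeal (R := R), hd] at h
    have hdep : LocCoh.depth R M = ((d + 1 : ℕ) : ℕ∞) := by exact_mod_cast h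
    have h1 : 1 ≤ LocCoh.idealDepth (maximalIdeal R) M := by
      change 1 ≤ LocCoh.depth R M
      rw [hdep]; norm_cast; omega
    have hm2 : ¬ maximalIdeal R ≤ maximalIdeal R ^ 2 := by
      intro hle
      have h0 : maximalIdeal R = ⊥ := Submodule.eq_bot_of_le_smul_of_le_jacobson_bot (maximalIdeal R) _
        (IsNoetherian.noetherian _) (by rwa [smul_eq_mul, ← pow_two]) (maximalIdeal_le_jacobson _)
      rw [h0, Submodule.spanFinrank_bot] at hd
      omega
    obtain ⟨x, hx, hx2, hxM⟩ : ∃ x ∈ maximalIdeal R, x ∉ maximalIdeal R ^ 2 ∧ IsSMulRegular M x := by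
      classical
      by_contra hex
      have hfin := associatedPrimes.finite R M
      have hsub : (maximalIdeal R : Set R) ⊆
          ⋃ p ∈ ((insert (maximalIdeal R ^ 2) hfin.toFinset : Finset (Ideal R)) : Set (Ideal R)), (p : Set R) := by
        intro y hy
        by_cases hy2 : y ∈ maximalIdeal R ^ 2
        · exact Set.mem_biUnion (by simp) hy2
        · obtain ⟨z, hz0, hz⟩ : ∃ z : M, z ≠ 0 ∧ y • z = 0 := by
            by_contra! hno
            exact hex ⟨y, hy, hy2, fun a b hab => sub_eq_zero.1 (by_contra fun hne => hno _ hne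
              (by rw [smul_sub]; exact sub_eq_zero.2 hab))⟩
          have : y ∈ ⋃ p ∈ associatedPrimes R M, (p : Set R) := by
            rw [biUnion_associatedPrimes_eq_zero_divisors R M]
            exact ⟨z, hz0, hz⟩
          simp only [Set.mem_iUnion] at this ⊢
          obtain ⟨p, hp, hp'⟩ := this
          exact ⟨p, by simp [hp], hp'⟩
      obtain ⟨p, hp, hle⟩ := (Ideal.subset_union_prime (f := fun p : Ideal R => p) (maximalIdeal R ^ 2) (maximalIdeal R ^ 2)
        (fun i hi hne _ => by
          rcases Finset.mem_insert.1 hi with rfl | hi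
          · exact absurd rfl hne
          · exact (hfin.mem_toFinset.1 hi).isPrime)).1 hsub
      rcases Finset.mem_insert.1 hp with rfl | hp
      · exact hm2 hle
      · exact IdealDepth.one_le_iff_associatedPrimes.1 h1 p (hfin.mem_toFinset.1 hp) hle
    obtain ⟨hreg', hdim⟩ := RegularLocal.Basic.quotient_singleton hx hx2
    let S := R ⧸ Ideal.span {x}
    haveI : IsRegularLocalRing S := hreg'
    haveI : Module.Finite S (QuotSMulTop x M) := Module.Finite.of_restrictScalars_finite R _ _
    have hS : (maximalIdeal S).spanFinrank = d := by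
      rw [← IsRegularLocalRing.spanFinrank_maximalIdeal (R := S), ← IsRegularLocalRing.spanFinrank_maximalIdeal (R := R), hd] at hdim
      have : (maximalIdeal S).spanFinrank + 1 = d + 1 := by exact_mod_cast hdim
      omega
    have hmap : (maximalIdeal R).map (algebraMap R S) = maximalIdeal S := RegularLocal.Basic.map_maximalIdeal_quotient _
    have hdepS : LocCoh.depth S (QuotSMulTop x M) = (d : ℕ∞) := by
      have e := IdealDepth.add_one_eq hx hxM
      rw [IdealDepth.idealDepth_map (S := S) (maximalIdeal R) (QuotSMulTop x M), hmap] at e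
      change LocCoh.depth S (QuotSMulTop x M) + 1 = LocCoh.depth R M at e
      rw [hdep, Nat.cast_succ] at e
      exact (ENat.addLECancellable_of_ne_top (a := 1) (by simp)).inj_left.1 e
    have hfree := ih S hS (QuotSMulTop x M) (by
      rw [hdepS, ← IsRegularLocalRing.spanFinrank_maximalIdeal (R := S), hS]; rfl)
    haveI : Module.FinitePresentation R M := Module.finitePresentation_of_finite R M
    exact (Module.free_quotSMulTop_iff_free R M (maximalIdeal_le_jacobson ⊥ hx) hxM).1 hfree

/-- Over a regular local ring, a finitely generated module whose depth equals the dimension of the ring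
(a maximal Cohen–Macaulay module) is free. -/
theorem result (R : Type u) [CommRing R]
    [IsRegularLocalRing R] (M : Type u) [AddCommGroup M] [Module R M] [Module.Finite R M]
    (h : ((LocCoh.depth R M : ℕ∞) : WithBot ℕ∞) = ringKrullDim R) : Module.Free R M := by
  exact aux _ R rfl M h

end Groth.Agent.S0605
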