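import Groth.Statements.S6285
import Groth.Agent.S6284
import Mathlib.RingTheory.Polynomial.Basic
import Mathlib.RingTheory.Spectrum.Prime.Noetherian
import Mathlib.RingTheory.Spectrum.Prime.Topology
import Mathlib.RingTheory.Spectrum.Prime.Module
import Mathlib.Algebra.Module.FinitePresentation
import Mathlib.LinearAlgebra.TensorProduct.Pi
import Mathlib.LinearAlgebra.TensorProduct.RightExactness

set_option autoImplicit false
universe u
open CAlg

namespace Groth.Agent.S6285

/-- For a ring R and an R-module M of finite presentation, the support Supp(M) is closed in Spec(R), and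
its complement in Spec(R) is quasi-compact. -/
theorem result (R : Type u) [CommRing R] (M : Type u) [AddCommGroup M] [Module R M] [Module.FinitePresentation R M] : IsClosed (Module.support R M) ∧ IsCompact (Module.support R M)ᶜ := by
  classical
  refine ⟨Module.isClosed_support, ?_⟩
  obtain ⟨n, m, π, g', hπ, hex⟩ := Module.FinitePresentation.exists_fin' R M
  let g : Fin m → (Fin n → R) := fun j => g' (Pi.single j 1)
  have hg : Submodule.span R (Set.range g) = LinearMap.ker π := by
    rw [LinearMap.exact_iff.1 hex, LinearMap.range_eq_map, ← (Pi.basisFun R (Fin m)).span_eq,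
      Submodule.map_span, ← Set.range_comp]
    congr 2
    funext j; simp [g]
  let R₀ := MvPolynomial (Fin n × Fin m) (ULift.{u} ℤ)
  let φ : R₀ →+* R := MvPolynomial.eval₂Hom
    ((Int.castRingHom R).comp ULift.ringEquiv.toRingHom) (fun ij => g ij.2 ij.1)
  letI : Algebra R₀ R := φ.toAlgebra
  let g₀ : Fin m → (Fin n → R₀) := fun j i => MvPolynomial.X (i, j)
  let N₀ : Submodule R₀ (Fin n → R₀) := Submodule.span R₀ (Set.range g₀)
  let M₀ := (Fin n → R₀) ⧸ N₀
  let e := TensorProduct.piScalarRight R₀ R R (Fin n)
  let q := N₀.mkQ.baseChange R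
  have hq : Function.Surjective q := LinearMap.lTensor_surjective R N₀.mkQ_surjective
  let ψ : TensorProduct R₀ R (Fin n → R₀) →ₗ[R] M := π ∘ₗ e.toLinearMap
  have hψ : Function.Surjective ψ := hπ.comp e.surjective
  have hg₀ : ∀ j, e (TensorProduct.tmul R₀ 1 (g₀ j)) = g j := fun j => by
    funext i
    simp [e, g₀, Algebra.smul_def, RingHom.algebraMap_toAlgebra, φ]
    exact MvPolynomial.eval₂Hom_X' _ _ _
  have hkerq : LinearMap.ker q = LinearMap.ker ψ := by
    refine le_antisymm ?_ ?_
    · intro v hv
      have hex := lTensor_exact (M := N₀) R (LinearMap.exact_subtype_mkQ N₀) N₀.mkQ_surjective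
      obtain ⟨w, rfl⟩ := (hex v).1 hv
      clear hv
      induction w using TensorProduct.induction_on with
      | zero => simp
      | add a b ha hb => rw [map_add]; exact add_mem ha hb
      | tmul r x =>
        obtain ⟨x, hx⟩ := x
        rw [LinearMap.lTensor_tmul, Submodule.subtype_apply]
        rw [show TensorProduct.tmul R₀ r x = r • TensorProduct.tmul R₀ (1 : R) x by
          rw [TensorProduct.smul_tmul', smul_eq_mul, mul_one]]
        refine Submodule.smul_mem _ _ ?_
        induction hx using Submodule.span_induction with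
        | zero => simp
        | add a b _ _ ha hb => rw [TensorProduct.tmul_add]; exact add_mem ha hb
        | smul c a _ ha =>
          rw [TensorProduct.tmul_smul, ← algebraMap_smul R c (TensorProduct.tmul R₀ (1 : R) a)]
          exact Submodule.smul_mem _ _ ha
        | mem x hx =>
          obtain ⟨j, rfl⟩ := hx
          show π (e _) = 0
          rw [hg₀, ← LinearMap.mem_ker, ← hg]
          exact Submodule.subset_span ⟨j, rfl⟩
    · intro v hv
      have hv' : e v ∈ Submodule.span R (Set.range g) := hg ▸ hv
      obtain ⟨c, hc⟩ := (Submodule.mem_span_range_iff_exists_fun R).1 hv'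
      have : v = ∑ j, c j • TensorProduct.tmul R₀ (1 : R) (g₀ j) :=
        e.injective (by simp only [map_sum, map_smul, hg₀, hc])
      rw [this]
      refine Submodule.sum_mem _ fun j _ => Submodule.smul_mem _ _ ?_
      show q _ = 0
      simp [q, (Submodule.Quotient.mk_eq_zero N₀).2 (Submodule.subset_span ⟨j, rfl⟩)]
  let E : TensorProduct R₀ R M₀ ≃ₗ[R] M :=
    (LinearMap.quotKerEquivOfSurjective q hq).symm.trans
      ((Submodule.quotEquivOfEq _ _ hkerq).trans (LinearMap.quotKerEquivOfSurjective ψ hψ))
  rw [← E.support_eq, Groth.Agent.S6284.result, ← Set.preimage_compl]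
  haveI : IsNoetherianRing (ULift.{u} ℤ) := isNoetherianRing_of_ringEquiv ℤ ULift.ringEquiv.symm
  obtain ⟨t, ht⟩ := PrimeSpectrum.isCompact_isOpen_iff.1 ⟨TopologicalSpace.NoetherianSpace.isCompact (Module.support R₀ M₀)ᶜ,
    Module.isClosed_support.isOpen_compl⟩
  refine (PrimeSpectrum.isCompact_isOpen_iff.2 ⟨t.image φ, ?_⟩).1
  rw [← ht, Set.preimage_compl, PrimeSpectrum.preimage_comap_zeroLocus, Finset.coe_image]
  rfl

end Groth.Agent.S6285
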