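import Groth.Statements.S0601
import Groth.Agent.IdealDepth.Serre
import Groth.Agent.Segre.CM
import Groth.Agent.RegularLocal.Normal
import Mathlib.RingTheory.IntegralClosure.Algebra.Basic
import Mathlib.RingTheory.Localization.LocalizationLocalization
import Mathlib.RingTheory.DiscreteValuationRing.TFAE
import Mathlib.Tactic.LinearCombination

set_option autoImplicit false
universe u
open CAlg

namespace Groth.Agent.S0601

section
open IsLocalRing

variable {B : Type u} [CommRing B] [IsNoetherianRing B]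

/-- a non-divisibility is seen at a regular prime of height at most one -/
theorem exists_bad_prime (h1 : LocCoh.HasRk 1 B)
    (h2 : ∀ (q : Ideal B) [q.IsPrime], min (2 : ℕ∞) q.height ≤ LocCoh.depth (Localization.AtPrime q) (Localization.AtPrime q))
    {a b : B} (ha : IsSMulRegular B a) (hab : ¬ a ∣ b) :
    ∃ (q : Ideal B) (_ : q.IsPrime), IsRegularLocalRing (Localization.AtPrime q) ∧
      ¬ algebraMap B (Localization.AtPrime q) a ∣ algebraMap B (Localization.AtPrime q) b := by
  have hb0 : (Submodule.Quotient.mk b : QuotSMulTop a B) ≠ 0 := fun h => hab (by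
    rw [Submodule.Quotient.mk_eq_zero, Submodule.mem_smul_pointwise_iff_exists] at h
    obtain ⟨c, -, hc⟩ := h
    exact ⟨c, hc.symm⟩)
  obtain ⟨q, hq, hle⟩ := exists_le_isAssociatedPrime_of_isNoetherianRing B _ hb0
  haveI := hq.isPrime
  have haq : a ∈ q := hle (by
    rw [Submodule.mem_colon_singleton, Submodule.mem_bot, ← Submodule.Quotient.mk_smul, Submodule.Quotient.mk_eq_zero]
    exact Submodule.smul_mem_pointwise_smul _ _ _ trivial)
  have hd : LocCoh.depth (Localization.AtPrime q) (LocalizedModule q.primeCompl (QuotSMulTop a B)) = 0 := by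
    rw [LocCoh.depth, Groth.Agent.IdealDepth.eq_zero_iff]
    exact ⟨_, Module.associatedPrimes.mem_associatedPrimes_atPrime_of_mem_associatedPrimes hq, le_rfl⟩
  have hd1 : LocCoh.depth (Localization.AtPrime q) (Localization.AtPrime q) = 1 := by
    unfold LocCoh.depth at hd
    rw [Groth.Agent.IdealDepth.congr _ (Groth.Agent.IdealDepth.quotLocEquiv B a q.primeCompl)] at hd
    rw [← Groth.Agent.IdealDepth.Serre.depth_self, LocCoh.depth,
      ← Groth.Agent.IdealDepth.add_one_eq (x := algebraMap B (Localization.AtPrime q) a)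
        ((IsLocalization.AtPrime.to_map_mem_maximal_iff (Localization.AtPrime q) q a).2 haq) ?_, hd, zero_add]
    have hw : RingTheory.Sequence.IsWeaklyRegular B [a] := by simpa [RingTheory.Sequence.isWeaklyRegular_cons_iff] using ha
    have := hw.of_isLocalizedModule (Localization.AtPrime q) q.primeCompl (LocalizedModule.mkLinearMap q.primeCompl B)
    simpa [RingTheory.Sequence.isWeaklyRegular_cons_iff] using this
  have hh : q.height ≤ 1 := by
    have := h2 q
    rw [hd1] at this
    rcases min_choice (2 : ℕ∞) q.height with h | h <;> rw [h] at this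
    · exact absurd this (by decide)
    · exact this
  refine ⟨q, inferInstance, h1 q hh, ?_⟩
  rintro ⟨c, hc⟩
  obtain ⟨n, s, rfl⟩ := IsLocalization.exists_mk'_eq q.primeCompl c
  rw [IsLocalization.mul_mk'_eq_mk'_of_mul, eq_comm, IsLocalization.mk'_eq_iff_eq_mul, ← map_mul,
    IsLocalization.eq_iff_exists q.primeCompl] at hc
  obtain ⟨t, ht⟩ := hc
  have : (t : B) * s ∈ q := hle (by
    rw [Submodule.mem_colon_singleton, Submodule.mem_bot, ← Submodule.Quotient.mk_smul, Submodule.Quotient.mk_eq_zero,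
      Submodule.mem_smul_pointwise_iff_exists]
    exact ⟨(t : B) * n, trivial, by simp only [smul_eq_mul]; linear_combination ht⟩)
  rcases Ideal.IsPrime.mem_or_mem ‹_› this with h | h
  exacts [t.2 h, s.2 h]

theorem isDomain_of [IsLocalRing B] [IsReduced B] (h1 : LocCoh.HasRk 1 B)
    (h2 : ∀ (q : Ideal B) [q.IsPrime], min (2 : ℕ∞) q.height ≤ LocCoh.depth (Localization.AtPrime q) (Localization.AtPrime q)) :
    IsDomain B := by
  classical
  have hfin : (minimalPrimes B).Finite := minimalPrimes.finite_of_isNoetherianRing B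
  have hzero : ∀ x : B, (∀ q ∈ minimalPrimes B, x ∈ q) → x = 0 := fun x hx => by
    have : x ∈ sInf (⊥ : Ideal B).minimalPrimes := (Submodule.mem_sInf).2 hx
    rw [Ideal.sInf_minimalPrimes] at this
    exact IsReduced.eq_zero x (mem_nilradical.1 this)
  obtain ⟨P, hP, -⟩ := Ideal.exists_minimalPrimes_le (bot_le : (⊥ : Ideal B) ≤ maximalIdeal B)
  haveI := hP.isPrime
  by_cases hall : ∀ q ∈ minimalPrimes B, q = P
  · have hP0 : P = ⊥ := eq_bot_iff.2 fun x hx => hzero x fun q hq => by rwa [hall q hq]
    subst hP0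
    exact IsDomain.of_bot_isPrime B
  exfalso
  push Not at hall
  obtain ⟨q₀, hq₀, hne⟩ := hall
  let s := hfin.toFinset.erase P
  have hs : ∀ q ∈ s, q ∈ minimalPrimes B ∧ q ≠ P := fun q hq => by
    simp only [s, Finset.mem_erase, Set.Finite.mem_toFinset] at hq
    exact ⟨hq.2, hq.1⟩
  obtain ⟨a1, ha1, ha1P⟩ : ∃ a1, (∀ q ∈ s, a1 ∈ q) ∧ a1 ∉ P := by
    by_contra! hcon
    have : s.inf id ≤ P := fun x hx => hcon x fun q hq => (Submodule.mem_finsetInf.1 hx) q hq
    obtain ⟨q, hq, hqP⟩ := (Ideal.IsPrime.inf_le' ‹_›).1 this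
    exact (hs q hq).2 (le_antisymm hqP (hP.2 ⟨(hs q hq).1.isPrime, bot_le⟩ hqP))
  obtain ⟨a2, ha2P, ha2⟩ : ∃ a2 ∈ P, ∀ q ∈ s, a2 ∉ q := by
    by_contra! hcon
    obtain ⟨q, hq, hPq⟩ := (Ideal.subset_union_prime (f := fun q : Ideal B => q) ⊥ ⊥
      (fun q hq _ _ => (hs q hq).1.isPrime)).1 (fun x hx => by
        obtain ⟨q, hq, hxq⟩ := hcon x hx
        exact Set.mem_biUnion (Finset.mem_coe.2 hq) hxq : (P : Set B) ⊆ ⋃ q ∈ (s : Set (Ideal B)), (q : Set B))
    exact (hs q hq).2 (le_antisymm ((hs q hq).1.2 ⟨hP.isPrime, bot_le⟩ hPq) hPq)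
  have hns : ∀ q ∈ minimalPrimes B, q ≠ P → q ∈ s := fun q hq hne => by
    simp only [s, Finset.mem_erase, Set.Finite.mem_toFinset]; exact ⟨hne, hq⟩
  have hnot : ∀ q ∈ minimalPrimes B, a1 + a2 ∉ q := fun q hq h => by
    rcases eq_or_ne q P with rfl | hne
    · exact ha1P (by simpa using sub_mem h ha2P)
    · exact ha2 q (hns q hq hne) (by simpa using sub_mem h (ha1 q (hns q hq hne)))
  have hreg : IsSMulRegular B (a1 + a2) := fun x y hxy => by
    refine sub_eq_zero.1 (hzero _ fun q hq => ?_)
    have h0 : (a1 + a2) * (x - y) = 0 := by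
      simp only [smul_eq_mul] at hxy; rw [mul_sub, hxy, sub_self]
    exact ((hq.isPrime.mem_or_mem (h0 ▸ zero_mem q : (a1 + a2) * (x - y) ∈ q)).resolve_left (hnot q hq))
  have h12 : a1 * a2 = 0 := hzero _ fun q hq => by
    rcases eq_or_ne q P with rfl | hne
    · exact Ideal.mul_mem_left _ _ ha2P
    · exact Ideal.mul_mem_right _ _ (ha1 q (hns q hq hne))
  by_cases hdvd : (a1 + a2) ∣ a1
  · obtain ⟨c, hc⟩ := hdvd
    have h0 : (a1 + a2) • ((a1 + a2) • (c * (c - 1))) = (a1 + a2) • ((a1 + a2) • (0 : B)) := by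
      simp only [smul_eq_mul, mul_zero]
      linear_combination (-((a1 + a2) * c) - a1 + (a1 + a2)) * hc - h12
    have hc0 : c * (c - 1) = 0 := hreg (hreg h0)
    have hu : IsUnit c ∨ IsUnit (1 - c) := IsLocalRing.isUnit_or_isUnit_one_sub_self c
    rcases hu with hu | hu
    · have : c = 1 := sub_eq_zero.1 ((hu.mul_right_eq_zero).1 hc0)
      subst this
      rw [mul_one, left_eq_add] at hc
      subst hc
      exact ha2 q₀ (hns q₀ hq₀ hne) (zero_mem _)
    · have : c = 0 := (hu.mul_left_eq_zero).1 (by linear_combination -hc0)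
      subst this
      rw [mul_zero] at hc
      exact ha1P (hc ▸ zero_mem P)
  · obtain ⟨q, hqp, hqr, hnd⟩ := exists_bad_prime h1 h2 hreg hdvd
    haveI := Groth.Agent.RegularLocal.Basic.isDomain (R := Localization.AtPrime q)
    have h0 : algebraMap B (Localization.AtPrime q) a1 * algebraMap B (Localization.AtPrime q) a2 = 0 := by
      rw [← map_mul, h12, map_zero]
    rcases mul_eq_zero.1 h0 with h | h
    · exact hnd ⟨0, by rw [h, mul_zero]⟩
    · exact hnd ⟨1, by rw [map_add, h, add_zero, mul_one]⟩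

theorem isIntegrallyClosed_of [IsDomain B] (h1 : LocCoh.HasRk 1 B)
    (h2 : ∀ (q : Ideal B) [q.IsPrime], min (2 : ℕ∞) q.height ≤ LocCoh.depth (Localization.AtPrime q) (Localization.AtPrime q)) :
    IsIntegrallyClosed B := by
  let K := FractionRing B
  rw [isIntegrallyClosed_iff K]
  intro z hz
  obtain ⟨b, a, ha, rfl⟩ := IsFractionRing.div_surjective (A := B) z
  have ha0 : a ≠ 0 := nonZeroDivisors.ne_zero ha
  have hareg : IsSMulRegular B a := fun x y hxy => mul_left_cancel₀ ha0 (by simpa using hxy)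
  by_cases hab : a ∣ b
  · obtain ⟨c, rfl⟩ := hab
    refine ⟨c, ?_⟩
    rw [map_mul, mul_div_cancel_left₀]
    exact IsFractionRing.to_map_ne_zero_of_mem_nonZeroDivisors ha
  exfalso
  obtain ⟨q, hqp, hqr, hnd⟩ := exists_bad_prime h1 h2 hareg hab
  let Bq := Localization.AtPrime q
  haveI := Groth.Agent.RegularLocal.Basic.isDomain (R := Bq)
  haveI : IsIntegrallyClosed Bq := Groth.Agent.RegularLocal.Normal.isIntegrallyClosed
  let _ : Algebra Bq K := IsLocalization.localizationAlgebraOfSubmonoidLe Bq K q.primeCompl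
    (nonZeroDivisors B) q.primeCompl_le_nonZeroDivisors
  have : IsScalarTower B Bq K := IsLocalization.localization_isScalarTower_of_submonoid_le Bq K
    q.primeCompl (nonZeroDivisors B) q.primeCompl_le_nonZeroDivisors
  have : IsFractionRing Bq K :=
    IsFractionRing.isFractionRing_of_isDomain_of_isLocalization q.primeCompl Bq K
  obtain ⟨c, hc⟩ := IsIntegrallyClosed.isIntegral_iff.1 (hz.tower_top (A := Bq))
  refine hnd ⟨c, IsFractionRing.injective Bq K ?_⟩
  rw [map_mul (algebraMap Bq K) (algebraMap B Bq a) c, hc, ← IsScalarTower.algebraMap_apply,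
    ← IsScalarTower.algebraMap_apply, mul_div_cancel₀]
  exact IsFractionRing.to_map_ne_zero_of_mem_nonZeroDivisors ha

theorem depth_ge_two [IsLocalRing B] [IsDomain B] [IsIntegrallyClosed B] (hd : (2 : WithBot ℕ∞) ≤ ringKrullDim B) :
    (2 : ℕ∞) ≤ LocCoh.depth B B := by
  have hnp : ¬ (maximalIdeal B).IsPrincipal := fun hp => by
    haveI : IsPrincipalIdealRing B := ((tfae_of_isNoetherianRing_of_isLocalRing_of_isDomain B).out 4 0).1 hp
    have : ringKrullDim B ≤ ((1 : ℕ) : WithBot ℕ∞) := Ring.krullDimLE_iff.1 inferInstance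
    exact absurd (hd.trans this) (by decide)
  obtain ⟨x, hx, hx0⟩ : ∃ x ∈ maximalIdeal B, x ≠ 0 := by
    by_contra! hcon
    exact hnp ((eq_bot_iff.2 hcon : maximalIdeal B = ⊥) ▸ bot_isPrincipal)
  have hreg : IsSMulRegular B x := fun u v h => mul_left_cancel₀ hx0 (by simpa using h)
  rw [LocCoh.depth, ← Groth.Agent.IdealDepth.add_one_eq hx hreg, show (2 : ℕ∞) = 1 + 1 from rfl]
  gcongr
  rw [Groth.Agent.IdealDepth.one_le_iff_associatedPrimes]
  intro q hq hle
  obtain ⟨hqp, z, hz⟩ := isAssociatedPrime_iff.1 hq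
  obtain ⟨c, rfl⟩ := Submodule.Quotient.mk_surjective _ z
  have hxc : ¬ x ∣ c := by
    rintro ⟨d, rfl⟩
    refine hqp.ne_top ((Ideal.eq_top_iff_one _).2 ?_)
    rw [hz, Submodule.mem_colon_singleton, Submodule.mem_bot, one_smul, Submodule.Quotient.mk_eq_zero]
    exact Submodule.smul_mem_pointwise_smul _ _ _ trivial
  have hmc : ∀ r ∈ maximalIdeal B, ∃ d, r * c = x * d := fun r hr => by
    have := hle hr
    rw [hz, Submodule.mem_colon_singleton, Submodule.mem_bot, ← Submodule.Quotient.mk_smul,
      Submodule.Quotient.mk_eq_zero, Submodule.mem_smul_pointwise_iff_exists] at this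
    obtain ⟨d, -, hd⟩ := this
    exact ⟨d, hd.symm⟩
  choose d hd' using hmc
  by_cases hall : ∀ r (hr : r ∈ maximalIdeal B), d r hr ∈ maximalIdeal B
  · apply hxc
    let K := FractionRing B
    have hxK : algebraMap B K x ≠ 0 := IsFractionRing.to_map_ne_zero_of_mem_nonZeroDivisors (mem_nonZeroDivisors_of_ne_zero hx0)
    let N : Submodule B K := Submodule.map (Algebra.linearMap B K) (maximalIdeal B)
    have hint : IsIntegral B (algebraMap B K c / algebraMap B K x) := by
      refine isIntegral_of_smul_mem_submodule (M := K) N ?_ ((IsNoetherian.noetherian (maximalIdeal B)).map (Algebra.linearMap B K)) _ ?_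
      · intro hN
        have : algebraMap B K x ∈ N := ⟨x, hx, rfl⟩
        rw [hN, Submodule.mem_bot] at this
        exact hxK this
      · rintro _ ⟨r, hr, rfl⟩
        refine ⟨d r hr, hall r hr, ?_⟩
        simp only [Algebra.linearMap_apply, smul_eq_mul]
        rw [div_mul_eq_mul_div, eq_div_iff hxK, ← map_mul, ← map_mul]
        congr 1
        linear_combination -(hd' r hr)
    obtain ⟨e, he⟩ := IsIntegrallyClosed.isIntegral_iff.1 hint
    refine ⟨e, IsFractionRing.injective B K ?_⟩
    rw [map_mul, he, mul_div_cancel₀ _ hxK]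
  · push Not at hall
    obtain ⟨r, hr, hu⟩ := hall
    obtain ⟨u, hu⟩ := notMem_maximalIdeal.1 hu
    refine hnp ⟨r, le_antisymm (fun r' hr' => Submodule.mem_span_singleton.2 ⟨d r' hr' * (↑u⁻¹ : B), ?_⟩)
      ((Ideal.span_singleton_le_iff_mem _).2 hr)⟩
    rw [smul_eq_mul]
    have h3 : r' * d r hr = r * d r' hr' :=
      mul_left_cancel₀ hx0 (by linear_combination r * (hd' r' hr') - r' * (hd' r hr))
    rw [← hu] at h3
    calc d r' hr' * ↑u⁻¹ * r = (r * d r' hr') * ↑u⁻¹ := by ring
      _ = r' * ↑u * ↑u⁻¹ := by rw [h3]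
      _ = r' := by simp [mul_assoc]

end

/-- A Noetherian ring has all its local rings integrally closed domains exactly when it satisfies the
regularity condition R₁ and the depth condition S₂. -/
theorem result (R : Type u) [CommRing R] [IsNoetherianRing R] :
    (∀ (p : Ideal R) [p.IsPrime], IsDomain (Localization.AtPrime p) ∧
      IsIntegrallyClosed (Localization.AtPrime p)) ↔ (LocCoh.HasRk 1 R ∧ LocCoh.HasSk 2 R R) := by
  rw [Groth.Agent.IdealDepth.Serre.hasSk_self_iff]
  constructor
  · intro h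
    refine ⟨fun p hp hh => ?_, fun p hp => ?_⟩
    · obtain ⟨hdom, hic⟩ := h p
      haveI : IsPrincipalIdealRing (Localization.AtPrime p) := by
        have key := (tfae_of_isNoetherianRing_of_isLocalRing_of_isDomain (Localization.AtPrime p)).out 3 0
        refine key.1 ⟨hic, fun P hP0 hP => ?_⟩
        by_contra hne
        have hlt : P < IsLocalRing.maximalIdeal _ := lt_of_le_of_ne (IsLocalRing.le_maximalIdeal hP.ne_top) hne
        have h2 := Order.LTSeries.length_le_krullDim (α := PrimeSpectrum (Localization.AtPrime p))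
          (⟨2, ![⟨⊥, Ideal.isPrime_bot⟩, ⟨P, hP⟩, ⟨IsLocalRing.maximalIdeal _, inferInstance⟩], fun i => by
            fin_cases i
            · exact (bot_lt_iff_ne_bot.2 hP0 : (⊥ : Ideal _) < P)
            · exact hlt⟩ : LTSeries (PrimeSpectrum (Localization.AtPrime p)))
        have h3 : ringKrullDim (Localization.AtPrime p) ≤ 1 := by
          rw [IsLocalization.AtPrime.ringKrullDim_eq_height p]; exact WithBot.coe_le_coe.2 hh
        exact absurd (h2.trans h3) (by simp only; decide)
      infer_instance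
    · obtain ⟨hdom, hic⟩ := h p
      by_cases h2 : (2 : ℕ∞) ≤ p.height
      · refine le_trans (min_le_left _ _) ?_
        exact depth_ge_two (by
          rw [IsLocalization.AtPrime.ringKrullDim_eq_height p]; exact WithBot.coe_le_coe.2 h2)
      · by_cases h0 : p.height = 0
        · simp [h0]
        · refine le_trans (min_le_right _ _) (le_trans (Order.le_of_lt_add_one (not_le.1 h2 : p.height < 1 + 1)) ?_)
          rw [LocCoh.depth, Groth.Agent.IdealDepth.one_le_iff_exists]
          obtain ⟨x, hx, hx0⟩ : ∃ x ∈ IsLocalRing.maximalIdeal (Localization.AtPrime p), x ≠ 0 := by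
            by_contra! hcon
            have := ringKrullDim_eq_zero_of_isField (IsLocalRing.isField_iff_maximalIdeal_eq.2 (eq_bot_iff.2 hcon))
            rw [IsLocalization.AtPrime.ringKrullDim_eq_height p] at this
            exact h0 (by exact_mod_cast this)
          exact ⟨x, hx, fun u v hxy => mul_left_cancel₀ hx0 (by simpa using hxy)⟩
  · rintro ⟨h1, h2⟩ p hp
    let B := Localization.AtPrime p
    have e : ∀ (q : Ideal B) [q.IsPrime], ∃ P : Ideal R, ∃ _ : P.IsPrime, P.height = q.height ∧
        Nonempty (Localization.AtPrime P ≃+* Localization.AtPrime q) := fun q _ => by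
      haveI := IsLocalization.isLocalization_isLocalization_atPrime_isLocalization p.primeCompl
        (Localization.AtPrime q) q
      have ε : Localization.AtPrime (q.comap (algebraMap R B)) ≃+* Localization.AtPrime q :=
        (IsLocalization.algEquiv (q.comap (algebraMap R B)).primeCompl _ _).toRingEquiv
      refine ⟨_, inferInstance, ?_, ⟨ε⟩⟩
      have := ringKrullDim_eq_of_ringEquiv ε
      rw [IsLocalization.AtPrime.ringKrullDim_eq_height (q.comap (algebraMap R B)),
        IsLocalization.AtPrime.ringKrullDim_eq_height q] at this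
      exact WithBot.coe_inj.1 this
    have hB1 : LocCoh.HasRk 1 B := fun q hq hh => by
      obtain ⟨P, hP, hPh, ⟨ε⟩⟩ := e q
      haveI := h1 P (hPh.le.trans hh)
      exact IsRegularLocalRing.of_ringEquiv ε
    have hB2 : ∀ (q : Ideal B) [q.IsPrime], min (2 : ℕ∞) q.height ≤ LocCoh.depth (Localization.AtPrime q) (Localization.AtPrime q) :=
      fun q _ => by
        obtain ⟨P, hP, hPh, ⟨ε⟩⟩ := e q
        rw [← Groth.Agent.Segre.CM.depth_congr ε, ← hPh]
        exact_mod_cast h2 P
    haveI : IsReduced B := (Groth.Agent.IdealDepth.Serre.reduced_iff B).2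
      ⟨fun q hq hh => hB1 q (hh.trans (by simp)), (Groth.Agent.IdealDepth.Serre.hasSk_self_iff B 1).2
        fun q hq => le_trans (min_le_min_right _ (by decide)) (hB2 q)⟩
    haveI : IsDomain B := isDomain_of hB1 hB2
    exact ⟨inferInstance, isIntegrallyClosed_of hB1 hB2⟩

end Groth.Agent.S0601
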