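import Groth.Statements.S2085
import Groth.Agent.IdealDepth.CM
import Groth.Agent.IdealDepth.Localization

set_option autoImplicit false
universe u
open CAlg

namespace Groth.Agent.S2085

/-- Let `M` be a finite module over a Noetherian ring `R`. Then every associated prime of `M` is minimal
in the support of `M` (no embedded primes) if and only if `M` satisfies Serre's condition `(S_1)`. -/
theorem result {R M : Type u} [CommRing R] [IsNoetherianRing R] [AddCommGroup M] [Module R M]
    [Module.Finite R M] :
    (∀ p ∈ associatedPrimes R M, p ∈ (Module.annihilator R M).minimalPrimes) ↔ LocCoh.HasSk 1 R M := by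
  constructor
  · intro h p _
    by_cases hd : LocCoh.depth (Localization.AtPrime p) (LocalizedModule p.primeCompl M) = 0
    · obtain ⟨q, hq, hle⟩ := IdealDepth.eq_zero_iff.1 hd
      have hqm : q = IsLocalRing.maximalIdeal _ := le_antisymm (IsLocalRing.le_maximalIdeal hq.isPrime.ne_top) hle
      have hass := Module.associatedPrimes.comap_mem_associatedPrimes_of_mem_associatedPrimes_of_isLocalizedModule_of_fg
        p.primeCompl (LocalizedModule.mkLinearMap p.primeCompl M) q hq (IsNoetherian.noetherian _)
      rw [hqm, show (IsLocalRing.maximalIdeal (Localization.AtPrime p)).comap (algebraMap R (Localization.AtPrime p)) = p from Localization.AtPrime.under_maximalIdeal] at hass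
      have hmin := h p hass
      rw [hd]
      refine (min_le_right _ _).trans ?_
      haveI : Subsingleton (Module.support (Localization.AtPrime p) (LocalizedModule p.primeCompl M)) := by
        suffices key : ∀ x ∈ Module.support (Localization.AtPrime p) (LocalizedModule p.primeCompl M),
            x.asIdeal.comap (algebraMap R (Localization.AtPrime p)) = p from
          ⟨fun a b => Subtype.ext (PrimeSpectrum.ext ((IsLocalization.orderEmbedding p.primeCompl
            (Localization.AtPrime p)).injective ((key a.1 a.2).trans (key b.1 b.2).symm)))⟩
        intro x hx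
        have hle' : x.asIdeal.comap (algebraMap R (Localization.AtPrime p)) ≤ p := fun a ha => by
          by_contra hap
          exact x.isPrime.ne_top (Ideal.eq_top_of_isUnit_mem _ ha
            (IsLocalization.map_units (Localization.AtPrime p) (⟨a, hap⟩ : p.primeCompl)))
        refine le_antisymm hle' (hmin.2 ⟨inferInstance, fun a ha => ?_⟩ hle')
        refine Module.mem_support_iff_of_finite.1 hx (Module.mem_annihilator.2 fun m => ?_)
        induction m using LocalizedModule.induction_on with
        | _ m s => rw [algebraMap_smul, LocalizedModule.smul'_mk, Module.mem_annihilator.1 ha m, LocalizedModule.zero_mk]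
      exact Order.krullDim_nonpos_of_subsingleton
    · refine (min_le_left _ _).trans ?_
      rw [show ((1 : ℕ) : WithBot ℕ∞) = ((1 : ℕ∞) : WithBot ℕ∞) from rfl, WithBot.coe_le_coe]
      exact Order.one_le_iff_pos.2 (pos_iff_ne_zero.2 hd)
  · intro h p hp
    haveI := hp.isPrime
    have hd : LocCoh.depth (Localization.AtPrime p) (LocalizedModule p.primeCompl M) = 0 :=
      IdealDepth.eq_zero_iff.2
        ⟨_, Module.associatedPrimes.mem_associatedPrimes_atPrime_of_mem_associatedPrimes hp, le_rfl⟩
    have h1 := h p
    rw [hd] at h1
    obtain ⟨q, hq, hqp⟩ := Ideal.exists_minimalPrimes_le (IdealDepth.annihilator_le_of_mem hp)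
    by_contra hne
    haveI := hq.1.1
    have hcomap : (q.map (algebraMap R (Localization.AtPrime p))).comap (algebraMap R (Localization.AtPrime p)) = q :=
      IsLocalization.comap_map_of_isPrime_disjoint p.primeCompl _ hq.1.1 (Set.disjoint_left.2 fun a ha hq' => ha (hqp hq'))
    have hqa := Module.associatedPrimes.mem_associatedPrimes_of_comap_mem_associatedPrimes_of_isLocalizedModule
      p.primeCompl (LocalizedModule.mkLinearMap p.primeCompl M) (q.map (algebraMap R (Localization.AtPrime p)))
      (by rw [hcomap]; exact Module.associatedPrimes.minimalPrimes_annihilator_subset_associatedPrimes R M hq)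
    have hmax := Module.associatedPrimes.mem_associatedPrimes_atPrime_of_mem_associatedPrimes (M := M) hp
    let a : Module.support (Localization.AtPrime p) (LocalizedModule p.primeCompl M) :=
      ⟨⟨_, hqa.isPrime⟩, Module.mem_support_iff_of_finite.2 (IdealDepth.annihilator_le_of_mem hqa)⟩
    let b : Module.support (Localization.AtPrime p) (LocalizedModule p.primeCompl M) :=
      ⟨⟨_, hmax.isPrime⟩, Module.mem_support_iff_of_finite.2 (IdealDepth.annihilator_le_of_mem hmax)⟩
    have hlt : a < b := by
      refine Subtype.mk_lt_mk.2 (lt_of_le_of_ne (IsLocalRing.le_maximalIdeal hqa.isPrime.ne_top) fun heq => hne ?_)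
      have := congrArg (fun x : PrimeSpectrum (Localization.AtPrime p) =>
        x.asIdeal.comap (algebraMap R (Localization.AtPrime p))) heq
      simp only at this
      rw [hcomap, show (IsLocalRing.maximalIdeal (Localization.AtPrime p)).comap (algebraMap R (Localization.AtPrime p)) = p from Localization.AtPrime.under_maximalIdeal] at this
      exact this ▸ hq
    have hpos : (0 : WithBot ℕ∞) < Module.supportDim (Localization.AtPrime p) (LocalizedModule p.primeCompl M) :=
      Order.krullDim_pos_iff.2 ⟨a, b, hlt⟩
    exact absurd h1 (not_le.2 (lt_min (by norm_num) hpos))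

end Groth.Agent.S2085
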