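import Groth.Statements.S7663
import Groth.Agent.Misc9.DimOneGlue
-- import your own Groth.Agent.* helpers here

set_option autoImplicit false
universe u
open CategoryTheory CategoryTheory.Limits AlgebraicGeometry
open Variety

namespace Groth.Agent.S7663

/-- Let K be a field and A, B ⊆ K subrings with fraction field K, with A Noetherian of dimension one.
Then A ⊗ B → K is not surjective (equivalently, the subring generated by A and B is not K) if and
only if some discrete valuation ring O ⊆ K with fraction field K contains both A and B. -/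
theorem result (K : Type u) [Field K]
    (A : Subring K) [IsFractionRing A K] (B : Subring K) [IsFractionRing B K] [IsNoetherianRing A] (hdim : ringKrullDim A = 1) :
    A ⊔ B ≠ ⊤ ↔ ∃ O : ValuationSubring K, IsDiscreteValuationRing O ∧ A ≤ O.toSubring ∧ B ≤ O.toSubring := by
  have := Misc9.DimOne.krullDimLE hdim
  constructor
  · intro hne
    let C : Subring K := A ⊔ B
    let _ : Algebra A C := (Subring.inclusion (le_sup_left : A ≤ C)).toAlgebra
    have : IsScalarTower A C K := IsScalarTower.of_algebraMap_eq fun _ => rfl
    have : IsFractionRing C K := by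
      refine IsFractionRing.of_field C K fun z => ?_
      obtain ⟨a, b, -, rfl⟩ := IsFractionRing.div_surjective (A := A) z
      exact ⟨Subring.inclusion le_sup_left a, Subring.inclusion le_sup_left b, rfl⟩
    have := Misc9.DimOne.isNoetherianRing (C := C) A K K
    have := Misc9.DimOne.dimensionLEOne (C := C) A K K
    have hC : ¬ IsField C := fun h => hne (eq_top_iff.2 fun z _ => by
      obtain ⟨a, b, -, rfl⟩ := IsFractionRing.div_surjective (A := C) z
      let _ := h.toField
      have hb : (algebraMap C K b) ⁻¹ = algebraMap C K b⁻¹ := (map_inv₀ (algebraMap C K) b).symm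
      rw [div_eq_mul_inv, hb, ← map_mul]
      exact (a * b⁻¹).2)
    let D := integralClosure C K
    have := Misc9.DimOne.isFractionRing_intClosure C K
    have := Misc9.DimOne.isDedekindDomain_intClosure C K
    have : IsFractionRing D K := Misc9.DimOne.isFractionRing_intClosure C K
    have : IsDedekindDomain D := Misc9.DimOne.isDedekindDomain_intClosure C K
    have : Algebra.IsIntegral C D := IsIntegralClosure.isIntegral_algebra C K
    have hD : ¬ IsField D := fun h => hC (isField_of_isIntegral_of_isField
      (Misc9.DimOne.algebraMap_injective (C := D) C K K) h)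
    obtain ⟨m, hm⟩ := Ideal.exists_maximal D
    let P : IsDedekindDomain.HeightOneSpectrum D :=
      ⟨m, hm.isPrime, Ring.ne_bot_of_isMaximal_of_not_isField hm hD⟩
    let O := IsDedekindDomain.HeightOneSpectrum.valuationSubringAtPrime K P
    have : IsLocalization.AtPrime O P.asIdeal := Localization.subalgebra.isLocalization_ofField K P.asIdeal.primeCompl P.asIdeal.primeCompl_le_nonZeroDivisors
    have hCO : C ≤ O.toSubring := fun z hz => (algebraMap D O (algebraMap C D ⟨z, hz⟩)).2
    exact ⟨O, IsLocalization.AtPrime.isDiscreteValuationRing_of_dedekind_domain D P.ne_bot _,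
      le_sup_left.trans hCO, le_sup_right.trans hCO⟩
  · rintro ⟨O, hO, hAO, hBO⟩ h
    refine IsDiscreteValuationRing.not_a_field O (IsLocalRing.isField_iff_maximalIdeal_eq.1 ?_)
    have htop : O = ⊤ := eq_top_iff.2 fun z _ => (h ▸ sup_le hAO hBO : (⊤ : Subring K) ≤ O.toSubring) (Subring.mem_top z)
    refine ⟨⟨0, 1, zero_ne_one⟩, mul_comm, fun {a} ha => ⟨⟨(a : K)⁻¹, htop ▸ trivial⟩, ?_⟩⟩
    exact Subtype.ext (mul_inv_cancel₀ fun h0 => ha (Subtype.ext h0))

end Groth.Agent.S7663
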