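import Groth.Statements.S5951
import Groth.Agent.Flat.CartierFibre

set_option autoImplicit false
universe u
open CategoryTheory CategoryTheory.Limits AlgebraicGeometry TopologicalSpace Opposite
open Nrm16

namespace Groth.Agent.S5951

theorem comap_pow {X Y : Scheme.{u}} (I : Y.IdealSheafData) (g : X ⟶ Y) (k : ℕ) :
    (I ^ k).comap g = (I.comap g) ^ k := by
  have hcov : ∀ x : X, ∃ (U : Y.affineOpens) (V : X.affineOpens), x ∈ V.1 ∧ V.1 ≤ g ⁻¹ᵁ U.1 := fun x => by
    obtain ⟨_, ⟨U, hU, rfl⟩, hxU, -⟩ :=
      Y.isBasis_affineOpens.exists_subset_of_mem_open (Set.mem_univ (g x)) isOpen_univ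
    obtain ⟨_, ⟨V, hV, rfl⟩, hxV, hle⟩ :=
      X.isBasis_affineOpens.exists_subset_of_mem_open (show x ∈ g ⁻¹ᵁ U from hxU) (g ⁻¹ᵁ U).2
    exact ⟨⟨U, hU⟩, ⟨V, hV⟩, hxV, hle⟩
  choose U V hxV hle using hcov
  refine Scheme.IdealSheafData.ext_of_iSup_eq_top V
    (eq_top_iff.mpr fun x _ => Opens.mem_iSup.mpr ⟨x, hxV x⟩) fun x => ?_
  simp only [Scheme.IdealSheafData.ideal_pow, Pi.pow_apply,
    Groth.Agent.Flat.CartierFibre.ideal_comap _ g (U x) (V x) (hle x), Ideal.map_pow]

/-- Let f : Y ⟶ X be a closed immersion, v : X' ⟶ X a morphism and Y' a fibre product of Y and X' over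
X, with projections u : Y' ⟶ Y and f' : Y' ⟶ X'. For each n let w be the morphism from the n-th
infinitesimal neighbourhood of f' to that of f compatible with the two inclusions and v (it is
unique, the inclusions being closed immersions). Then w and the inclusion of the neighbourhood of f'
into X' exhibit that neighbourhood as the fibre product of the n-th infinitesimal neighbourhood of f
with X' over X. (The published statement allows f to be any immersion, or any morphism with
surjective comorphism when v is flat; this row states the case of a closed immersion.) -/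
theorem result {Y X Y' X' : Scheme.{u}} (f : Y ⟶ X) [IsClosedImmersion f]
    (v : X' ⟶ X) (u : Y' ⟶ Y) (f' : Y' ⟶ X') (hsq : IsPullback u f' f v) (n : ℕ)
    (w : PrinPart.infNbhd f' n ⟶ PrinPart.infNbhd f n)
    (hw : w ≫ PrinPart.infNbhdι f n = PrinPart.infNbhdι f' n ≫ v) :
    IsPullback w (PrinPart.infNbhdι f' n) (PrinPart.infNbhdι f n) v := by
  haveI : IsClosedImmersion f' := MorphismProperty.of_isPullback hsq inferInstance
  haveI : IsClosedImmersion (PrinPart.infNbhdι f n) :=
    inferInstanceAs (IsClosedImmersion (Scheme.IdealSheafData.subschemeι _))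
  haveI : IsClosedImmersion (PrinPart.infNbhdι f' n) :=
    inferInstanceAs (IsClosedImmersion (Scheme.IdealSheafData.subschemeι _))
  refine (isPullback_of_isClosedImmersion _ _ w v hw.symm ?_).flip
  simp only [PrinPart.infNbhdι, Scheme.IdealSheafData.ker_subschemeι]
  rw [comap_pow]
  congr 1
  rw [← Scheme.IdealSheafData.ker_fst_of_isClosedImmersion, ← Scheme.Hom.ker_comp_of_isIso hsq.flip.isoPullback.hom,
    IsPullback.isoPullback_hom_fst]

end Groth.Agent.S5951
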