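import Groth.Statements.S10531
import Groth.Agent.AlgSpTopo.LocInst
import Groth.Agent.AlgSpTopo.OpenImm

set_option autoImplicit false
set_option backward.isDefEq.respectTransparency false
universe u
open CategoryTheory CategoryTheory.Limits AlgebraicGeometry
open AlgSp

namespace Groth.Agent.S10531

/-- The property of morphisms of algebraic spaces over S given by f is an open immersion (representable
by open immersions of schemes) is fpqc local on the base: for an fpqc covering of an algebraic space
Y by algebraic spaces Y_i, a morphism f : X ⟶ Y of algebraic spaces and cartesian squares X_i = Y_i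
×_Y X, f has the property if and only if every X_i ⟶ Y_i has it. -/
theorem result (S : Scheme.{u}) :
    AlgSp.IsLocalOnBase (AlgSp.IsFpqcCover (S := S)) (AlgSp.RepWith @IsOpenImmersion) :=
  by
  intro ι Y Yi g hY hYi hcov X f hX Xi p q hXi sqs
  refine ⟨fun hf i => MorphismProperty.of_isPullback (P := AlgSp.RepWith @IsOpenImmersion) (sqs i) hf, fun h => ?_⟩
  have hm : ∀ {A B : AlgSp.Sp S} (k : A ⟶ B), AlgSp.RepWith @IsOpenImmersion k → Mono k := fun k hk =>
    AlgSpTopo.mono_of_repWith k hk fun _ _ g hg => inferInstance
  have := AlgSpTopo.mono_fpqc hcov hX hXi sqs fun i => hm _ (h i)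
  refine AlgSpTopo.repWith_isOpenImmersion_of_etale_mono hX hY f ?_
  refine (AlgSpTopo.isEtaleMor_iff_locP hX hY f).2 ((AlgSpTopo.isLocalOnBase_fpqc AlgSpTopo.etaleLocal_etale
    Yi g hY hYi hcov f hX Xi p q hXi sqs).2 fun i => ?_)
  exact (AlgSpTopo.locP_iff_repWith AlgSpTopo.etaleLocal_etale (hXi i) (hYi i) (p i) (h i).rep).2
    ⟨(h i).rep, fun _ _ k fst snd sq => by
      have : IsOpenImmersion snd.left := (h i).property k fst snd sq
      change Etale snd.left
      infer_instance⟩

end Groth.Agent.S10531
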