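import Groth.Statements.S4447
import Groth.Agent.Misc9.ValLift
-- import your own Groth.Agent.* helpers here

set_option autoImplicit false
universe u
open CategoryTheory CategoryTheory.Limits AlgebraicGeometry
open EGA2

namespace Groth.Agent.S4447

/-- Let p : X ⟶ Y be a morphism, x a point of X, y = p(x) and y' a specialization of y distinct from y.
Then there are a valuation ring A which is not a field, with field of fractions the residue field
k(x), and a morphism Spec A ⟶ Y mapping the closed point to y' and restricting on Spec k(x) to the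
canonical morphism Spec k(x) ⟶ X ⟶ Y (in particular the generic point of Spec A goes to y). -/
theorem result {X Y : Scheme.{u}} (p : X ⟶ Y) (x : X) (y' : Y)
    (hsp : p.base x ⤳ y') (hne : y' ≠ p.base x) :
    ∃ (A : ValuationSubring (X.residueField x)) (h : Spec (CommRingCat.of A) ⟶ Y), A ≠ ⊤ ∧
      h.base (IsLocalRing.closedPoint A) = y' ∧
      Spec.map (CommRingCat.ofHom A.subtype) ≫ h = X.fromSpecResidueField x ≫ p := by
  obtain ⟨B, hB, hBlocal⟩ := IsLocalRing.exists_factor_valuationRing
    ((Y.presheaf.stalkSpecializes hsp) ≫ p.stalkMap x ≫ X.residue x).hom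
  let b : Y.presheaf.stalk y' ⟶ CommRingCat.of B := CommRingCat.ofHom (((Y.presheaf.stalkSpecializes hsp) ≫ p.stalkMap x ≫ X.residue x).hom.codRestrict _ hB)
  have hb : CategoryTheory.CategoryStruct.comp (Spec.map b) (Y.fromSpecStalk y') (IsLocalRing.closedPoint B) = y' := by
    rw [Scheme.Hom.comp_apply, show Spec.map b (IsLocalRing.closedPoint B) = IsLocalRing.closedPoint (Y.presheaf.stalk y') from
      IsLocalRing.comap_closedPoint (S := B) (RingHom.codRestrict _ B.toSubring hB), Y.fromSpecStalk_closedPoint]
  have hw : CategoryTheory.CategoryStruct.comp (Spec.map (CommRingCat.ofHom B.subtype)) (CategoryTheory.CategoryStruct.comp (Spec.map b) (Y.fromSpecStalk y')) =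
      CategoryTheory.CategoryStruct.comp (X.fromSpecResidueField x) p := by
    rw [← Spec.map_comp_assoc, show CategoryTheory.CategoryStruct.comp b (CommRingCat.ofHom B.subtype) = CategoryTheory.CategoryStruct.comp (Y.presheaf.stalkSpecializes hsp) (CategoryTheory.CategoryStruct.comp (p.stalkMap x) (X.residue x)) from rfl,
      Scheme.fromSpecResidueField, CategoryTheory.Category.assoc, ← Scheme.SpecMap_stalkMap_fromSpecStalk]
    simp only [Spec.map_comp, CategoryTheory.Category.assoc, Scheme.SpecMap_stalkSpecializes_fromSpecStalk]
  refine ⟨B, _, ?_, hb, hw⟩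
  intro htop
  subst htop
  apply hne
  rw [← hb]
  have e : Spec.map (CommRingCat.ofHom (⊤ : ValuationSubring (X.residueField x)).subtype) (IsLocalRing.closedPoint (X.residueField x)) =
      IsLocalRing.closedPoint (⊤ : ValuationSubring (X.residueField x)) := by
    apply PrimeSpectrum.ext
    exact IsLocalRing.eq_maximalIdeal (Ideal.comap_isMaximal_of_surjective _ (fun z => ⟨⟨z, trivial⟩, rfl⟩))
  rw [← e, ← Scheme.Hom.comp_apply, hw, Scheme.Hom.comp_apply, Scheme.fromSpecResidueField_apply]

end Groth.Agent.S4447
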