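import Groth.Statements.S2938
import Groth.Agent.IdealDepth.Localization
import Mathlib.RingTheory.Flat.FaithfullyFlat.Basic

set_option autoImplicit false
universe u
open scoped TensorProduct
open LocCoh

namespace Groth.Agent.S2938

/-- Suppose A and B are Noetherian rings with a ring map A → B, I is an ideal of A and M is a finitely
generated A-module. When B is A-flat, depth_{IB}(B ⊗_A M) ≥ depth_I(M); when B is faithfully flat
over A, the two depths are equal. -/
theorem result (A B : Type u) [CommRing A] [CommRing B] [Algebra A B] [IsNoetherianRing A] [IsNoetherianRing B] (I : Ideal A) (M : Type u) [AddCommGroup M] [Module A M] [Module.Finite A M] : (Module.Flat A B → LocCoh.idealDepth I M ≤ LocCoh.idealDepth (I.map (algebraMap A B)) (B ⊗[A] M)) ∧ (Module.FaithfullyFlat A B → LocCoh.idealDepth (I.map (algebraMap A B)) (B ⊗[A] M) = LocCoh.idealDepth I M) := by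
  have hle : Module.Flat A B → ∀ (n : ℕ), (n : ℕ∞) ≤ LocCoh.idealDepth I M →
      (n : ℕ∞) ≤ LocCoh.idealDepth (I.map (algebraMap A B)) (B ⊗[A] M) := by
    intro _ n hn
    obtain ⟨rs, ⟨hrs, hmem⟩, rfl⟩ := IdealDepth.natCast_le_iff_exists.1 hn
    have h := hrs.of_flat_of_isBaseChange (TensorProduct.isBaseChange A M B)
    refine le_of_eq_of_le (by simp) (IdealDepth.len_le (rs := rs.map (algebraMap A B)) ⟨h, fun r hr => ?_⟩)
    obtain ⟨a, ha, rfl⟩ := List.mem_map.1 hr
    exact Ideal.mem_map_of_mem _ (hmem a ha)
  refine ⟨fun hf => ENat.forall_natCast_le_iff_le.1 (hle hf), fun hf => ?_⟩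
  refine le_antisymm (ENat.forall_natCast_le_iff_le.1 fun n => ?_) (ENat.forall_natCast_le_iff_le.1 (hle inferInstance))
  clear hle
  induction n generalizing M with
  | zero => simp
  | succ n ih =>
    intro hn
    obtain ⟨x, hx, hreg⟩ : ∃ x ∈ I, IsSMulRegular M x := by
      refine IdealDepth.exists_regular_of_associatedPrimes fun p hp hIp => ?_
      obtain ⟨hpr, z, hz⟩ := isAssociatedPrime_iff.1 hp
      obtain ⟨y, hy, hyreg⟩ := IdealDepth.one_le_iff_exists.1 (le_trans (by norm_cast; omega) hn)
      have hker : ∀ b ∈ I.map (algebraMap A B), b • ((1 : B) ⊗ₜ[A] z) = 0 := by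
        intro b hb
        induction hb using Submodule.span_induction with
        | mem b hb =>
          obtain ⟨a, ha, rfl⟩ := hb
          have := hIp ha
          rw [hz, Submodule.mem_colon_singleton, Submodule.mem_bot] at this
          rw [algebraMap_smul, ← TensorProduct.tmul_smul, this, TensorProduct.tmul_zero]
        | zero => exact zero_smul _ _
        | add a b _ _ ha hb => rw [add_smul, ha, hb, add_zero]
        | smul c a _ ha => rw [smul_eq_mul, mul_smul, ha, smul_zero]
      have h0 : (1 : B) ⊗ₜ[A] z = 0 := hyreg (show y • _ = y • (0 : B ⊗[A] M) by rw [hker y hy, smul_zero])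
      rw [Module.FaithfullyFlat.one_tmul_eq_zero_iff] at h0
      exact hpr.ne_top ((Ideal.eq_top_iff_one _).2 (by
        rw [hz, Submodule.mem_colon_singleton, Submodule.mem_bot, h0, smul_zero]))
    have hxB : algebraMap A B x ∈ I.map (algebraMap A B) := Ideal.mem_map_of_mem _ hx
    have hregB : IsSMulRegular (B ⊗[A] M) (algebraMap A B x) :=
      hreg.of_flat_of_isBaseChange (TensorProduct.isBaseChange A M B)
    haveI : Module.Finite B (B ⊗[A] M) := inferInstance
    have h1 := IdealDepth.add_one_eq (M := B ⊗[A] M) hxB hregB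
    rw [IdealDepth.congr _ (QuotSMulTop.algebraMapTensorEquivTensorQuotSMulTop x M B)] at h1
    rw [← h1, Nat.cast_succ, ENat.add_le_add_iff_right (by simp)] at hn
    rw [← IdealDepth.add_one_eq hx hreg, Nat.cast_succ, ENat.add_le_add_iff_right (by simp)]
    exact ih _ hn

end Groth.Agent.S2938
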