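import Groth.Statements.S2559
import Groth.Agent.HensPair.OpenStalkDim

set_option autoImplicit false
open CategoryTheory AlgebraicGeometry
universe u
open EGA43

namespace Groth.Agent.S2559

/-- Let f : X ⟶ Y be a morphism of locally Noetherian schemes, x a point of X and y = f x. Suppose f is
open at the generic point of every irreducible component of the fibre over y passing through x. Then
dim O_{X,x} = dim O_{Y,y} + dim O_{X_y,x}. -/
theorem result {X Y : Scheme.{u}} [IsLocallyNoetherian X] [IsLocallyNoetherian Y]
    (f : X ⟶ Y) (x : X)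
    (h : ∀ z : ↥(f.fiber (f.base x)), f.asFiber x ∈ closure {z} →
      (∀ z' : ↥(f.fiber (f.base x)), z ∈ closure {z'} → z' = z) →
      EGA43.IsOpenAt f.base ((f.fiberι (f.base x)).base z)) :
    ringKrullDim (X.presheaf.stalk x) =
      ringKrullDim (Y.presheaf.stalk (f.base x)) +
        ringKrullDim ((f.fiber (f.base x)).presheaf.stalk (f.asFiber x)) := by
  refine le_antisymm (Groth.Agent.DimFibre.ringKrullDim_le_add f x (Groth.Agent.DimFibre.quot_dim_le_fibre_stalk f x)) ?_
  have hfinY : ringKrullDim (Y.presheaf.stalk (f.base x)) < ⊤ := ringKrullDim_lt_top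
  have hfinX : ringKrullDim (X.presheaf.stalk x) < ⊤ := ringKrullDim_lt_top
  obtain ⟨n, hn⟩ : ∃ n : ℕ, ringKrullDim (Y.presheaf.stalk (f.base x)) = (n : ℕ) := by
    rw [ringKrullDim_stalk_eq_coheight] at hfinY ⊢
    cases hc : Order.coheight (f.base x) with
    | top => rw [hc] at hfinY; exact absurd hfinY (lt_irrefl _)
    | coe n => exact ⟨n, rfl⟩
  have key := HensPair.OpenStalkDim.add_le_dim_of_openAt f x h
  rw [hn, ringKrullDim_stalk_eq_coheight, ringKrullDim_stalk_eq_coheight]
  cases hF : Order.coheight (f.asFiber x) with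
  | top =>
    exfalso
    rw [ringKrullDim_stalk_eq_coheight] at hfinX
    cases hc : Order.coheight x with
    | top => rw [hc] at hfinX; exact absurd hfinX (lt_irrefl _)
    | coe N =>
      have h1 := key (N + 1) 0 (by rw [hF]; exact le_top) (by rw [hn]; exact_mod_cast Nat.zero_le n)
      rw [hc] at h1
      have h2 : N + 1 + 0 ≤ N := by exact_mod_cast h1
      omega
  | coe k =>
    have h1 := key k n hF.ge hn.ge
    rw [add_comm] at h1
    exact_mod_cast h1

end Groth.Agent.S2559
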