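import Groth.Statements.S0116
import Groth.Agent.Fpqc.Fppf
import Mathlib.AlgebraicGeometry.Morphisms.FlatDescent
import Mathlib.AlgebraicGeometry.Noetherian
import Mathlib.AlgebraicGeometry.Sites.Fpqc
import Mathlib.AlgebraicGeometry.Morphisms.UniversallyOpen
import Mathlib.RingTheory.Flat.FaithfullyFlat.Algebra

set_option autoImplicit false
open CategoryTheory CategoryTheory.Limits AlgebraicGeometry Opposite
universe u
open EtBase

namespace Groth.Agent.S0116
open CategoryTheory CategoryTheory.Limits AlgebraicGeometry TopologicalSpace
set_option backward.isDefEq.respectTransparency.types false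

/-- If f : X → Y is surjective, flat and locally of finite presentation and X is locally Noetherian,
then Y is locally Noetherian. (This is the descent half of the statement that, for such f, X is
locally Noetherian if and only if Y is; the ascent half is the fact that a scheme locally of finite
type over a locally Noetherian scheme is locally Noetherian, and is not stated here.) -/
theorem result {X Y : Scheme.{u}} (f : X ⟶ Y) [Surjective f] [Flat f] [LocallyOfFinitePresentation f]
    [IsLocallyNoetherian X] : IsLocallyNoetherian Y := by
  have : ∀ i, IsAffine (Y.affineCover.X i) := fun i => inferInstance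
  rw [isLocallyNoetherian_iff_of_affine_openCover Y.affineCover]
  intro i
  let R := Y.affineCover.X i
  let f' := pullback.snd f (Y.affineCover.f i)
  have : IsLocallyNoetherian (pullback f (Y.affineCover.f i)) :=
    isLocallyNoetherian_of_isOpenImmersion (pullback.fst f (Y.affineCover.f i))
  obtain ⟨W, hW, e⟩ : ∃ W : (pullback f (Y.affineCover.f i)).Opens, IsCompact (W : Set ↥(pullback f (Y.affineCover.f i))) ∧ f' '' W = Set.univ := f'.isOpenMap.exists_opens_image_eq_of_prespectralSpace
    f'.continuous (by simp [f'.surjective.range_eq]) isOpen_univ isCompact_univ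
  have : CompactSpace W.toScheme := isCompact_iff_compactSpace.mp hW
  obtain ⟨T, p, hp, hp', hT⟩ := W.toScheme.exists_hom_isAffine_of_isZariskiLocalAtSource @IsLocalIso
  have : Flat p := IsLocalIso.le_of_isZariskiLocalAtSource @Flat _ _ p hp'
  have : LocallyOfFiniteType p := IsLocalIso.le_of_isZariskiLocalAtSource @LocallyOfFiniteType _ _ p hp'
  have : IsLocallyNoetherian T := LocallyOfFiniteType.isLocallyNoetherian p
  have : IsNoetherianRing Γ(T, ⊤) := IsLocallyNoetherian.component_noetherian (⟨⊤, isAffineOpen_top T⟩ : T.affineOpens)
  let q := p ≫ W.ι ≫ f'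
  have : Surjective q := ⟨fun y => by
    obtain ⟨w, hw, rfl⟩ := e.ge (Set.mem_univ y)
    obtain ⟨t, ht⟩ := hp.surj ⟨w, hw⟩
    exact ⟨t, congrArg (W.ι ≫ f') ht⟩⟩
  have hfs : q.appTop.hom.FaithfullyFlat := by
    have hs : Surjective (Spec.map q.appTop) := by
      have h := Scheme.toSpecΓ_naturality q
      have : Surjective (T.toSpecΓ ≫ Spec.map q.appTop) := h ▸ inferInstance
      exact Surjective.of_comp T.toSpecΓ _
    have hfl : Flat (Spec.map q.appTop) :=
      (HasRingHomProperty.Spec_iff (P := @Flat)).mpr q.flat_appTop
    exact (flat_and_surjective_SpecMap_iff q.appTop).mp ⟨hfl, hs⟩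
  algebraize [q.appTop.hom]
  exact Groth.Agent.Fpqc.Fppf.isNoetherianRing_of_faithfullyFlat _ Γ(T, ⊤)

end Groth.Agent.S0116
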