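import Groth.Statements.S0480
import Mathlib.Algebra.Homology.HomotopyCategory.MappingCone

set_option autoImplicit false
universe v u
open CategoryTheory
open CohDer

namespace Groth.Agent.S0480

open CategoryTheory.Limits in
/-- In an abelian category, if the product of a family of K-injective cochain complexes exists (it is
then the termwise product), it is again K-injective. -/
theorem result {A : Type u} [Category.{v} A] [Abelian A] {T : Type v} (I : T → CochainComplex A ℤ)
    [HasProduct I] (h : ∀ t, (I t).IsKInjective) : (∏ᶜ I).IsKInjective := by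
  constructor
  intro K f hK
  choose g hg using fun t => show ∃ g : CochainComplex.mappingCone (𝟙 K) ⟶ I t,
      CochainComplex.mappingCone.inr (𝟙 K) ≫ g = f ≫ Pi.π I t by
    haveI := h t
    let H := CochainComplex.IsKInjective.homotopyZero (f ≫ Pi.π I t) hK
    refine ⟨CochainComplex.mappingCone.desc (𝟙 K) (CochainComplex.HomComplex.Cochain.ofHomotopy H)
      (f ≫ Pi.π I t) ?_, CochainComplex.mappingCone.inr_desc _ _ _ _⟩
    simp
  have hf : f = CochainComplex.mappingCone.inr (𝟙 K) ≫ Pi.lift g := by
    refine Pi.hom_ext _ _ fun t => ?_
    simp [hg]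
  exact ⟨(Homotopy.ofEq (by rw [hf]; simp)).trans
    ((((CochainComplex.mappingCone.homotopyToZeroOfId K).compLeft
      (CochainComplex.mappingCone.inr (𝟙 K))).compRight (Pi.lift g)).trans
        (Homotopy.ofEq (by simp)))⟩

end Groth.Agent.S0480
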