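import Groth.Statements.S15346
import Groth.Agent.Lead.DVR.MonoVal
-- import your own Groth.Agent.* helpers here

set_option autoImplicit false
universe u
open CategoryTheory CategoryTheory.Limits AlgebraicGeometry
open Mor

namespace Groth.Agent.S15346

/-- Let X be a locally Noetherian scheme and f : Y ⟶ X a monomorphism. Suppose that for every discrete
valuation ring A with fraction field K and every commutative square Spec K ⟶ Y, Spec A ⟶ X over f
such that some morphism from the spectrum of the residue field of A to Y lies over Spec A ⟶ X, the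
square admits a lift Spec A ⟶ Y. Then after every base change X' ⟶ X the projection Y ×_X X' ⟶ X'
reflects specializations. -/
theorem result {X Y : Scheme.{u}} [IsLocallyNoetherian X]
    (f : Y ⟶ X) [Mono f]
    (h : ∀ S : ValuativeCommSq f, IsDiscreteValuationRing S.R →
        (∃ l₀ : Spec (CommRingCat.of (IsLocalRing.ResidueField S.R)) ⟶ Y,
            l₀ ≫ f = Spec.map (CommRingCat.ofHom (IsLocalRing.residue S.R)) ≫ S.i₂) →
          S.commSq.HasLift) :
    ∀ (X' : Scheme.{u}) (g : X' ⟶ X) (y₀ y₁ : ↥(pullback f g)),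
        (pullback.snd f g).base y₁ ⤳ (pullback.snd f g).base y₀ → y₁ ⤳ y₀ := by
  classical
  refine fun X' g y₀ y₁ hy => Groth.Agent.Lead.DVR.MonoVal.reflects_of_lift f (fun S => ?_) X' g y₀ y₁ hy
  rintro ⟨l₀, hl₀⟩
  obtain ⟨w₀, hw₀⟩ : ∃ w₀, S.i₂ (IsLocalRing.closedPoint S.R) = f w₀ := by
    refine ⟨l₀ (IsLocalRing.closedPoint _), ?_⟩
    rw [← Scheme.Hom.comp_apply, hl₀, Scheme.Hom.comp_apply]
    congr 1
    exact (IsLocalRing.comap_closedPoint (IsLocalRing.residue S.R)).symm
  obtain ⟨θ, hθ, hi₂⟩ := Groth.Agent.Lead.DVR.MonoVal.exists_stalk_to S.i₂ _ hw₀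
  haveI := hθ
  obtain ⟨⟨w₁, ι⟩, hi₁⟩ : ∃ P : Σ w : Y, Y.residueField w ⟶ CommRingCat.of S.K,
      Spec.map P.2 ≫ Y.fromSpecResidueField P.1 = S.i₁ :=
    ⟨Scheme.SpecToEquivOfField S.K Y S.i₁, (Scheme.SpecToEquivOfField S.K Y).symm_apply_apply S.i₁⟩
  dsimp only at hi₁
  let A : CommRingCat.{u} := CommRingCat.of S.R
  let alg : A ⟶ CommRingCat.of S.K := CommRingCat.ofHom (algebraMap S.R S.K)
  have hw : S.i₁ ≫ f = Spec.map alg ≫ S.i₂ := S.commSq.w
  have h10 : f w₁ ⤳ f w₀ := by
    rw [← hw₀]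
    have e := congrArg (fun q : Spec (CommRingCat.of S.K) ⟶ X => q.base (IsLocalRing.closedPoint _)) hw
    have e1 : S.i₁ (IsLocalRing.closedPoint S.K) = w₁ := by
      rw [← hi₁, Scheme.Hom.comp_apply, Scheme.fromSpecResidueField_apply]
    refine (specializes_of_eq ?_).trans ((IsLocalRing.specializes_closedPoint
      ((Spec.map alg).base (IsLocalRing.closedPoint S.K))).map S.i₂.continuous)
    simp only [Scheme.Hom.comp_base, TopCat.comp_app] at e
    rw [← e1]; exact e
  let ψ : X.presheaf.stalk (f w₀) ⟶ Y.residueField w₁ :=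
    X.presheaf.stalkSpecializes h10 ≫ f.stalkMap w₁ ≫ Y.residue w₁
  have hψ : Spec.map ψ ≫ X.fromSpecStalk (f w₀) = Y.fromSpecResidueField w₁ ≫ f := by
    simp only [ψ, Spec.map_comp, Category.assoc, Scheme.SpecMap_stalkSpecializes_fromSpecStalk,
      Scheme.SpecMap_stalkMap_fromSpecStalk, Scheme.fromSpecResidueField]
  have hψθ : ψ ≫ ι = θ ≫ alg := by
    apply Groth.Agent.Lead.DVR.MonoVal.stalk_hom_ext
    rw [Spec.map_comp ψ, Spec.map_comp θ, Category.assoc, Category.assoc, hi₂, ← hw, hψ, ← hi₁, Category.assoc]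
  let V : ValuationSubring (Y.residueField w₁) :=
    ((ValuationRing.valuation S.R S.K).valuationSubring).comap ι.hom
  have hmemV : ∀ z, z ∈ V ↔ ∃ r : S.R, algebraMap S.R S.K r = ι z := fun z =>
    ValuationRing.mem_integer_iff S.R S.K _
  have hψV : ∀ b, ψ b ∈ V := fun b => (hmemV _).mpr ⟨θ b, (ConcreteCategory.congr_hom hψθ b).symm⟩
  have hnonunit : ∀ (z : Y.residueField w₁) (r : S.R), algebraMap S.R S.K r = ι z →
      (V.valuation z < 1 ↔ ¬ IsUnit r) := by
    intro z r hr
    have hzV : z ∈ V := (hmemV _).mpr ⟨r, hr⟩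
    rw [← V.valuation_lt_one_iff ⟨z, hzV⟩, IsLocalRing.mem_maximalIdeal, mem_nonunits_iff, not_iff_not]
    constructor
    · intro hu
      obtain ⟨⟨z', hz'⟩, hzz⟩ := hu.exists_right_inv
      obtain ⟨r', hr'⟩ := (hmemV _).mp hz'
      refine IsUnit.of_mul_eq_one r' (IsFractionRing.injective S.R S.K ?_)
      rw [map_mul, map_one, hr, hr', ← map_mul, show z * z' = 1 from congrArg Subtype.val hzz, map_one]
    · intro hu
      obtain ⟨r', hrr⟩ := hu.exists_right_inv
      have h1 : ι z * algebraMap S.R S.K r' = 1 := by rw [← hr, ← map_mul, hrr, map_one]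
      have hz0 : z ≠ 0 := fun h0 => by simp [h0] at h1
      have hinv : z⁻¹ ∈ V := (hmemV _).mpr ⟨r', by rw [map_inv₀, eq_inv_of_mul_eq_one_right h1]⟩
      exact IsUnit.of_mul_eq_one ⟨z⁻¹, hinv⟩ (Subtype.ext (mul_inv_cancel₀ hz0))
  have hψm : ∀ b ∈ IsLocalRing.maximalIdeal (X.presheaf.stalk (f w₀)), V.valuation (ψ b) < 1 := fun b hb =>
    (hnonunit _ (θ b) (ConcreteCategory.congr_hom hψθ b).symm).mpr
      fun hu => hb ((isUnit_map_iff θ.hom b).mp hu)
  have key : ∃ hs : w₁ ⤳ w₀, ∀ a, (Y.presheaf.stalkSpecializes hs ≫ Y.residue w₁) a ∈ V ∧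
      (a ∈ IsLocalRing.maximalIdeal _ → V.valuation ((Y.presheaf.stalkSpecializes hs ≫ Y.residue w₁) a) < 1) := by
    by_cases hb : ∃ b ∈ IsLocalRing.maximalIdeal (X.presheaf.stalk (f w₀)), ψ b ≠ 0
    · haveI : IsNoetherianRing (X.presheaf.stalk (f w₀)) := inferInstance
      have hD : ∀ c ∈ V, ∃ (D : ValuationSubring (Y.residueField w₁)) (hs : w₁ ⤳ w₀),
          (∀ a, (Y.presheaf.stalkSpecializes hs ≫ Y.residue w₁) a ∈ D ∧
            (a ∈ IsLocalRing.maximalIdeal _ → D.valuation ((Y.presheaf.stalkSpecializes hs ≫ Y.residue w₁) a) < 1)) ∧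
          (V.valuation c < 1 → D.valuation c < 1) ∧ (¬ V.valuation c < 1 → ¬ D.valuation c < 1) := by
        intro c hc
        obtain ⟨D, hD, hψD, hψDm, h1, h2⟩ := Groth.Agent.Lead.DVR.MonoVal.exists_dvr_detect ψ.hom hb
          (Groth.Agent.Lead.DVR.MonoVal.closure_range_eq_top f w₁ _ h10) V hψV hψm c hc
        let θD : X.presheaf.stalk (f w₀) ⟶ CommRingCat.of D := CommRingCat.ofHom (ψ.hom.codRestrict D.toSubring hψD)
        haveI : IsLocalHom θD.hom := ⟨fun a ha => by
          by_contra hna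
          have h3 := hψDm a ((IsLocalRing.mem_maximalIdeal a).mpr hna)
          exact (IsLocalRing.mem_maximalIdeal _).mp ((D.valuation_lt_one_iff (θD.hom a)).mpr h3) ha⟩
        have hcp : (Spec.map θD ≫ X.fromSpecStalk (f w₀)) (IsLocalRing.closedPoint D) = f w₀ := by
          show (X.fromSpecStalk (f w₀)).base ((Spec.map θD).base (IsLocalRing.closedPoint D)) = f w₀
          rw [show (Spec.map θD).base (IsLocalRing.closedPoint D) = IsLocalRing.closedPoint (X.presheaf.stalk (f w₀)) from
            IsLocalRing.comap_closedPoint θD.hom]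
          exact X.fromSpecStalk_closedPoint
        have wD : Y.fromSpecResidueField w₁ ≫ f =
            Spec.map (CommRingCat.ofHom (algebraMap D (Y.residueField w₁))) ≫ Spec.map θD ≫ X.fromSpecStalk (f w₀) := by
          rw [← hψ, ← Spec.map_comp_assoc]; rfl
        obtain ⟨l⟩ := (h { R := D, K := Y.residueField w₁, i₁ := _, i₂ := _, commSq := ⟨wD⟩ } hD
          (Groth.Agent.Lead.DVR.MonoVal.exists_residue_lift f _ w₀ hcp)).exists_lift
        let lD : Spec (CommRingCat.of D) ⟶ Y := l.l
        have hl1 : lD ≫ f = Spec.map θD ≫ X.fromSpecStalk (f w₀) := l.fac_right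
        have hl2 : Spec.map (CommRingCat.ofHom (algebraMap D (Y.residueField w₁))) ≫ lD = Y.fromSpecResidueField w₁ :=
          l.fac_left
        have hl0 : lD (IsLocalRing.closedPoint D) = w₀ := by
          apply f.injective
          rw [← Scheme.Hom.comp_apply, hl1, hcp]
        have hs : w₁ ⤳ w₀ := by
          rw [← hl0]
          refine (specializes_of_eq ?_).trans ((IsLocalRing.specializes_closedPoint
            ((Spec.map (CommRingCat.ofHom (algebraMap D (Y.residueField w₁)))).base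
              (IsLocalRing.closedPoint _))).map lD.continuous)
          exact (Scheme.fromSpecResidueField_apply w₁ (IsLocalRing.closedPoint _)).symm.trans
            (congrArg (fun q : Spec (Y.residueField w₁) ⟶ Y => q.base (IsLocalRing.closedPoint _)) hl2).symm
        obtain ⟨χ, hχ, hχl⟩ := Groth.Agent.Lead.DVR.MonoVal.exists_stalk_to lD _ hl0
        have e : χ ≫ CommRingCat.ofHom (algebraMap D (Y.residueField w₁)) =
            Y.presheaf.stalkSpecializes hs ≫ Y.residue w₁ := by
          apply Groth.Agent.Lead.DVR.MonoVal.stalk_hom_ext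
          simp only [Spec.map_comp, Category.assoc, hχl, hl2, Scheme.SpecMap_stalkSpecializes_fromSpecStalk,
            Scheme.fromSpecResidueField]
        refine ⟨D, hs, fun a => ?_, h1, h2⟩
        rw [← e]
        exact ⟨(χ a).2, fun ha => (D.valuation_lt_one_iff (χ a)).mp
          ((IsLocalRing.mem_maximalIdeal _).mpr fun hu => ha ((isUnit_map_iff χ.hom a).mp hu))⟩
      obtain ⟨-, hs, -⟩ := hD 1 V.one_mem
      refine ⟨hs, fun a => ?_⟩
      have hV : (Y.presheaf.stalkSpecializes hs ≫ Y.residue w₁) a ∈ V := by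
        by_contra hn
        have hc := (V.mem_or_inv_mem _).resolve_left hn
        obtain ⟨D, hs', hD', h1, -⟩ := hD _ hc
        have hlt : V.valuation ((Y.presheaf.stalkSpecializes hs ≫ Y.residue w₁) a)⁻¹ < 1 := by
          rw [← V.valuation_le_one_iff] at hn
          rw [map_inv₀]
          exact inv_lt_one_of_one_lt₀ (not_le.mp hn)
        have h3 := h1 hlt
        have hne : (Y.presheaf.stalkSpecializes hs ≫ Y.residue w₁) a ≠ 0 := fun h0 => hn (h0 ▸ V.zero_mem)
        have h4 := (D.valuation_le_one_iff _).mpr (hD' a).1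
        rw [map_inv₀, inv_lt_one₀ (zero_lt_iff.mpr (by simpa using hne))] at h3
        exact not_le.mpr h3 h4
      refine ⟨hV, fun ha => ?_⟩
      by_contra hn
      obtain ⟨D, hs', hD', -, h2⟩ := hD _ hV
      exact h2 hn ((hD' a).2 ha)
    · push Not at hb
      have hloc : IsLocalHom ψ.hom := ⟨fun a ha => by
        by_contra hna
        exact ha.ne_zero (hb a ((IsLocalRing.mem_maximalIdeal a).mpr hna))⟩
      have hww : w₁ = w₀ := by
        apply f.injective
        have e := congrArg (fun q : Spec (Y.residueField w₁) ⟶ X => q.base (IsLocalRing.closedPoint _)) hψ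
        simp only [Scheme.Hom.comp_base, TopCat.comp_app] at e
        rw [show (Spec.map ψ).base (IsLocalRing.closedPoint (Y.residueField w₁)) = IsLocalRing.closedPoint _ from
          IsLocalRing.comap_closedPoint ψ.hom, Scheme.fromSpecStalk_closedPoint, Scheme.fromSpecResidueField_apply] at e
        exact e.symm
      subst hww
      refine ⟨specializes_rfl, fun a => ?_⟩
      obtain ⟨k, hk⟩ := (Groth.Agent.Lead.DVR.MonoVal.residueFieldMap_bijective f w₁).2 (Y.residue w₁ a)
      obtain ⟨b, rfl⟩ := X.residue_surjective (f w₁) k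
      have e : (Y.presheaf.stalkSpecializes (specializes_rfl (x := w₁)) ≫ Y.residue w₁) a = ψ b := by
        simp only [ψ, TopCat.Presheaf.stalkSpecializes_refl, Category.id_comp]
        exact hk.symm
      rw [e]
      refine ⟨hψV b, fun ha => ?_⟩
      have h0 : ψ b = 0 := by
        rw [← e]
        simp only [TopCat.Presheaf.stalkSpecializes_refl, Category.id_comp]
        exact (IsLocalRing.residue_eq_zero_iff a).mpr ha
      rw [h0, map_zero]
      exact zero_lt_one
  obtain ⟨hs, hk⟩ := key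
  let χ : Y.presheaf.stalk w₀ ⟶ Y.residueField w₁ := Y.presheaf.stalkSpecializes hs ≫ Y.residue w₁
  have hran : ∀ a, (χ ≫ ι) a ∈ (algebraMap S.R S.K).range := fun a => (hmemV _).mp (hk a).1
  let e := RingEquiv.ofBijective (algebraMap S.R S.K).rangeRestrict
    ⟨fun x y hxy => IsFractionRing.injective S.R S.K (congrArg Subtype.val hxy),
      (algebraMap S.R S.K).rangeRestrict_surjective⟩
  let φ : Y.presheaf.stalk w₀ ⟶ A := CommRingCat.ofHom (e.symm.toRingHom.comp ((χ ≫ ι).hom.codRestrict _ hran))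
  have hφ : φ ≫ alg = χ ≫ ι := CommRingCat.hom_ext (RingHom.ext fun a =>
    congrArg Subtype.val (e.apply_symm_apply ⟨(χ ≫ ι) a, hran a⟩))
  have hφ' : f.stalkMap w₀ ≫ φ = θ := by
    have : Mono alg := ConcreteCategory.mono_of_injective _ (IsFractionRing.injective S.R S.K)
    rw [← cancel_mono alg, Category.assoc, hφ]
    apply Groth.Agent.Lead.DVR.MonoVal.stalk_hom_ext
    simp only [Spec.map_comp, Category.assoc, χ, hi₂, Scheme.SpecMap_stalkMap_fromSpecStalk,
      Scheme.SpecMap_stalkSpecializes_fromSpecStalk_assoc]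
    rw [← hw, ← hi₁, Category.assoc, Scheme.fromSpecResidueField, Category.assoc]
  refine ⟨⟨⟨Spec.map φ ≫ Y.fromSpecStalk w₀, ?_, ?_⟩⟩⟩
  · show Spec.map alg ≫ Spec.map φ ≫ Y.fromSpecStalk w₀ = S.i₁
    rw [← Spec.map_comp_assoc, hφ, ← hi₁]
    simp only [χ, Spec.map_comp, Category.assoc, Scheme.SpecMap_stalkSpecializes_fromSpecStalk,
      Scheme.fromSpecResidueField]
  · rw [Category.assoc, ← Scheme.SpecMap_stalkMap_fromSpecStalk, ← Spec.map_comp_assoc, hφ', hi₂]

end Groth.Agent.S15346
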