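import Groth.Statements.S9219
import Groth.Agent.Lim.Topo
import Mathlib.AlgebraicGeometry.AffineTransitionLimit
-- import your own Groth.Agent.* helpers here

set_option autoImplicit false
universe u
open CategoryTheory CategoryTheory.Limits AlgebraicGeometry
open Lim

namespace Groth.Agent.S9219

set_option backward.isDefEq.respectTransparency false
set_option backward.defeqAttrib.useBackward true

/-- Let S = lim S_i be a cofiltered limit of schemes with affine transition morphisms (the S_i are not
assumed quasi-compact or quasi-separated), i an index, and X_i → S_i, Y_i → S_i morphisms locally of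
finite presentation with X_i, Y_i quasi-compact and quasi-separated; let X be the base change of X_i
to S (a pullback square). If two S_i-morphisms f_i, g_i : X_i → Y_i have the same base change to S
(equivalently, the same composite with X → X_i), then for some index j over i their base changes to
S_j agree, i.e. they have the same composite with X_i ×_{S_i} S_j → X_i. This is the faithfulness
part of the equivalence between the colimit of the categories of quasi-compact quasi-separated
schemes locally of finite presentation over the S_i and the corresponding category over S. -/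
theorem result {I : Type u} [SmallCategory I] [IsCofiltered I]
    (D : I ⥤ Scheme.{u}) (c : Limits.Cone D) (hc : Limits.IsLimit c)
    [∀ (i j : I) (f : i ⟶ j), IsAffineHom (D.map f)] (i : I)
    {Xi Yi : Scheme.{u}} (xi : Xi ⟶ D.obj i) (yi : Yi ⟶ D.obj i)
    [CompactSpace Xi] [QuasiSeparatedSpace Xi] [LocallyOfFinitePresentation xi]
    [CompactSpace Yi] [QuasiSeparatedSpace Yi] [LocallyOfFinitePresentation yi]
    {X : Scheme.{u}} (qX : X ⟶ Xi) (pX : X ⟶ c.pt) (hX : IsPullback qX pX xi (c.π.app i))
    (fi gi : Xi ⟶ Yi) (hfi : fi ≫ yi = xi) (hgi : gi ≫ yi = xi) (h : qX ≫ fi = qX ≫ gi) :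
    ∃ (j : I) (φ : j ⟶ i), pullback.fst xi (D.map φ) ≫ fi = pullback.fst xi (D.map φ) ≫ gi := by
  let E := Groth.Agent.Lim.Topo.bcDiagram D xi
  let cE := Groth.Agent.Lim.Topo.bcCone D c xi
  haveI : ∀ {a b : Over i} (g : a ⟶ b), IsAffineHom (E.map g) := fun g =>
    Groth.Agent.Lim.Topo.isAffineHom_bcDiagram_map D xi g
  haveI (a : Over i) : IsAffineHom (pullback.snd (D.map a.hom) xi) :=
    MorphismProperty.pullback_snd (P := @IsAffineHom) _ _ (inferInstance : IsAffineHom (D.map a.hom))
  haveI (a : Over i) : QuasiCompact (pullback.snd (D.map a.hom) xi) :=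
    @instQuasiCompactOfIsAffineHom _ _ _ (this a)
  haveI (a : Over i) : CompactSpace (E.obj a) :=
    QuasiCompact.compactSpace_of_compactSpace (pullback.snd (D.map a.hom) xi)
  let T : E ⟶ (Functor.const (Over i)).obj (D.obj i) :=
    { app := fun a => pullback.fst (D.map a.hom) xi ≫ D.map a.hom
      naturality := fun a b g => by
        simp [E, Groth.Agent.Lim.Topo.bcDiagram]
        simp [← D.map_comp] }
  let a₀ : Over i := Over.mk (𝟙 i)
  let u : E.obj a₀ ⟶ Xi := pullback.snd (D.map a₀.hom) xi
  have hu : T.app a₀ = u ≫ xi := by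
    simp only [T, u, pullback.condition]
  obtain ⟨a, φ, ha⟩ := Scheme.exists_hom_comp_eq_comp_of_locallyOfFiniteType E T yi cE
    (Groth.Agent.Lim.Topo.isLimitBcCone D c hc xi) (u ≫ fi) (u ≫ gi)
    (by rw [hu, Category.assoc, hfi]) (by rw [hu, Category.assoc, hgi]) (by
      have e : cE.π.app a₀ ≫ u = hX.flip.isoPullback.inv ≫ qX := by
        rw [Iso.eq_inv_comp]
        show _ ≫ pullback.map (c.π.app i) xi (D.map a₀.hom) xi (c.π.app a₀.left) (𝟙 Xi) (𝟙 _)
          (by simp [a₀]) (by simp) ≫ pullback.snd _ _ = _
        simp
      rw [reassoc_of% e, reassoc_of% e, h])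
  refine ⟨a.left, a.hom, ?_⟩
  have e1 : E.map φ ≫ u = pullback.snd (D.map a.hom) xi := by
    simp [E, u, Groth.Agent.Lim.Topo.bcDiagram]
  rw [reassoc_of% e1, reassoc_of% e1] at ha
  rw [← cancel_epi (pullbackSymmetry (D.map a.hom) xi).hom]
  simpa using ha

end Groth.Agent.S9219
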