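import Groth.Statements.S7402
import Groth.Agent.Misc9.SNAux
-- import your own Groth.Agent.* helpers here

set_option autoImplicit false
universe u
open CategoryTheory AlgebraicGeometry
open Polynomial
open Mor

namespace Groth.Agent.S7402

/-- Let `A` be a ring and `x, y ∈ A` with `x^3 = y^2`. Then `A → B = A[t]/(t^2 - x, t^3 - y)` induces a
universal homeomorphism on spectra and isomorphisms on residue fields. -/
theorem result (A : Type u) [CommRing A] (x y : A) (h : x ^ 3 = y ^ 2) :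
    FlatMor.IsUnivHomeo (Spec.map (CommRingCat.ofHom (algebraMap A
      (A[X] ⧸ Ideal.span ({X ^ 2 - C x, X ^ 3 - C y} : Set A[X]))))) ∧
    ∀ q : Spec (CommRingCat.of (A[X] ⧸ Ideal.span ({X ^ 2 - C x, X ^ 3 - C y} : Set A[X]))),
      Function.Surjective ((Spec.map (CommRingCat.ofHom (algebraMap A
        (A[X] ⧸ Ideal.span ({X ^ 2 - C x, X ^ 3 - C y} : Set A[X]))))).residueFieldMap q) := by
  open Groth.Agent.Misc9 Polynomial in
  have hb : ∀ b : A[X] ⧸ Ideal.span ({X ^ 2 - C x, X ^ 3 - C y} : Set A[X]), ∃ l : List _,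
      Seminormal.Tower (Seminormal.StepSC (A := A)) l ∧ b ∈ Algebra.adjoin A {z | z ∈ l} := fun b ↦
    SNAux.single_tower (step := Seminormal.StepSC) (fun _ _ _ h hle ↦ h.mono hle)
    ⟨Algebra.mem_bot.mpr ⟨x, (show Ideal.Quotient.mk (Ideal.span ({X ^ 2 - C x, X ^ 3 - C y} : Set A[X])) (C x) = _ from
        ((map_pow (Ideal.Quotient.mk _) X 2).symm.trans
          (Ideal.Quotient.eq.mpr (Ideal.subset_span (Set.mem_insert (X ^ 2 - C x) {X ^ 3 - C y})))).symm)⟩,
      Algebra.mem_bot.mpr ⟨y, (show Ideal.Quotient.mk (Ideal.span ({X ^ 2 - C x, X ^ 3 - C y} : Set A[X])) (C y) = _ from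
        ((map_pow (Ideal.Quotient.mk _) X 3).symm.trans
          (Ideal.Quotient.eq.mpr (Ideal.subset_span (Set.mem_insert_of_mem (X ^ 2 - C x) (Set.mem_singleton (X ^ 3 - C y)))))).symm)⟩⟩ b
  refine ⟨Seminormal.univHomeo_of_towers' (SNAux.comap_surjective_of_points _ fun K _ _ g ↦ ?_)
      fun b ↦ (hb b).imp fun l hl ↦ ⟨fun i ↦ Or.inl (hl.1 i), hl.2⟩,
    (Seminormal.resTriv_iff_surjective _).mpr (Seminormal.resTriv_of_towers hb)⟩
  have h' : g x ^ 3 = g y ^ 2 := by rw [← map_pow, h, map_pow]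
  obtain ⟨t, ht2, ht3⟩ : ∃ t : K, t ^ 2 = g x ∧ t ^ 3 = g y := by
    by_cases hx : g x = 0
    · refine ⟨0, by simp [hx], ?_⟩
      rw [hx, zero_pow three_ne_zero] at h'
      rw [zero_pow three_ne_zero]
      exact ((pow_eq_zero_iff two_ne_zero).mp h'.symm).symm
    · refine ⟨g y / g x, ?_, ?_⟩
      · rw [div_pow, ← h']; field_simp
      · have hy : g y ≠ 0 := fun h0 ↦ hx (by simpa [h0] using h')
        rw [div_pow, h']; field_simp
  refine ⟨Ideal.Quotient.lift _ (eval₂RingHom g t) (fun p hp ↦ ?_), RingHom.ext fun a ↦ ?_⟩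
  · refine (Ideal.span_le.mpr ?_ : Ideal.span _ ≤ RingHom.ker (eval₂RingHom g t)) hp
    rintro _ (rfl | rfl) <;> simp [RingHom.mem_ker, ht2, ht3]
  · show eval₂RingHom g t (C a) = g a
    simp

end Groth.Agent.S7402
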