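import Groth.Statements.S7403
import Groth.Agent.Misc9.SNAux
-- import your own Groth.Agent.* helpers here

set_option autoImplicit false
universe u
open CategoryTheory AlgebraicGeometry
open Polynomial
open Mor

namespace Groth.Agent.S7403

/-- Let `A` be a ring, `p` a prime number and `x, y ∈ A` with `p^p x = y^p`. Then `A → B = A[t]/(t^p -
x, p t - y)` induces a universal homeomorphism on spectra. -/
theorem result (A : Type u) [CommRing A] (p : ℕ) (hp : p.Prime) (x y : A)
    (h : (p : A) ^ p * x = y ^ p) :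
    FlatMor.IsUnivHomeo (Spec.map (CommRingCat.ofHom (algebraMap A
      (A[X] ⧸ Ideal.span ({X ^ p - C x, C (p : A) * X - C y} : Set A[X]))))) := by
  open Groth.Agent.Misc9 Polynomial in
  refine Seminormal.univHomeo_of_towers' (SNAux.comap_surjective_of_points _ fun K _ _ g ↦ ?_)
    fun b ↦ SNAux.single_tower (step := Seminormal.StepSCP) (fun _ _ _ h hle ↦ h.mono hle)
      (Or.inr ⟨p, hp, Algebra.mem_bot.mpr ⟨y, by
          rw [← map_natCast (Ideal.Quotient.mk _), ← map_mul]
          refine (Ideal.Quotient.eq.mpr ?_).symm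
          rw [← map_natCast (C : A →+* A[X])]
          exact Ideal.subset_span (Set.mem_insert_of_mem _ rfl)⟩, Algebra.mem_bot.mpr ⟨x, by
          rw [← map_pow]; exact (Ideal.Quotient.eq.mpr (Ideal.subset_span (Set.mem_insert _ _))).symm⟩⟩) b
  have h' : (p : K) ^ p * g x = g y ^ p := by rw [← map_pow g y, ← h, map_mul, map_pow, map_natCast]
  obtain ⟨t, ht1, ht2⟩ : ∃ t : K, t ^ p = g x ∧ (p : K) * t = g y := by
    by_cases hp0 : (p : K) = 0
    · obtain ⟨t, ht⟩ := IsAlgClosed.exists_pow_nat_eq (g x) hp.pos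
      refine ⟨t, ht, ?_⟩
      rw [hp0, zero_mul]
      rw [hp0, zero_pow hp.ne_zero, zero_mul] at h'
      exact ((pow_eq_zero_iff hp.ne_zero).mp h'.symm).symm
    · refine ⟨g y / (p : K), ?_, by field_simp⟩
      rw [div_pow, ← h']; field_simp
  refine ⟨Ideal.Quotient.lift _ (eval₂RingHom g t) (fun f hf ↦ ?_), RingHom.ext fun a ↦ ?_⟩
  · refine (Ideal.span_le.mpr ?_ : Ideal.span _ ≤ RingHom.ker (eval₂RingHom g t)) hf
    rintro _ (rfl | rfl) <;> simp [RingHom.mem_ker, ht1, ht2, map_natCast]
  · show eval₂RingHom g t (C a) = g a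
    simp

end Groth.Agent.S7403
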