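import Groth.Statements.S7471
import Mathlib.AlgebraicGeometry.Restrict
import Mathlib.RingTheory.Spectrum.Prime.Topology

set_option autoImplicit false
universe w u
open HTop

namespace Groth.Agent.S7471

open CategoryTheory CategoryTheory.Limits AlgebraicGeometry in
/-- If E is a V covering of T and T' -> T is any morphism of schemes, then the family of base changes T'
x_T T_i -> T' is a V covering of T'. -/
theorem result {T T' : Scheme.{u}} (g : T' ⟶ T) (E : PreZeroHypercover.{w} T) (hE : HTop.IsVCover E) : HTop.IsVCover (E.pullback₁ g) := by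
  rintro ⟨U', hU'⟩
  have hpt : ∀ x : T', x ∈ U' → ∃ W : T'.Opens, IsAffineOpen W ∧ x ∈ W ∧ W ≤ U' ∧
      ∃ V : T.affineOpens, W ≤ g ⁻¹ᵁ V.1 := by
    intro x hx
    obtain ⟨V, hV, hxV, -⟩ := exists_isAffineOpen_mem_and_subset (X := T) (x := g x) (U := ⊤) trivial
    obtain ⟨W, hW, hxW, hle⟩ := exists_isAffineOpen_mem_and_subset (x := x) (U := U' ⊓ g ⁻¹ᵁ V) ⟨hx, hxV⟩
    exact ⟨W, hW, hxW, fun y hy => (hle hy).1, ⟨V, hV⟩, fun y hy => (hle hy).2⟩
  choose W hW hxW hWU V hWV using hpt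
  obtain ⟨s, hs⟩ := hU'.isCompact.elim_finite_subcover (fun x : U' => (W x.1 x.2 : Set T'))
    (fun x => (W x.1 x.2).2) fun x hx => Set.mem_iUnion.mpr ⟨⟨x, hx⟩, hxW x hx⟩
  let n := Fintype.card s
  let e : Fin n ≃ s := (Fintype.equivFin s).symm
  let Wn : Fin n → T'.Opens := fun k => W (e k).1.1 (e k).1.2
  let Vn : Fin n → T.affineOpens := fun k => V (e k).1.1 (e k).1.2
  choose F hF hFE using fun k => hE (Vn k)
  let q : ∀ k, (Wn k : Scheme.{u}) ⟶ ((Vn k).1 : Scheme.{u}) := fun k => g.resLE (Vn k).1 (Wn k) (hWV _ _)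
  let G : PreZeroHypercover.{0} ((U' : T'.Opens) : Scheme.{u}) :=
    { I₀ := Σ k, (F k).I₀
      X := fun p => pullback ((F p.1).f p.2) (q p.1)
      f := fun p => pullback.snd ((F p.1).f p.2) (q p.1) ≫ T'.homOfLE (hWU _ _) }
  refine ⟨G, ⟨hU', ?_, ?_, ?_⟩, ?_⟩
  · haveI := fun k => (hF k).finite_index
    exact inferInstanceAs (Finite (Σ k, (F k).I₀))
  · rintro ⟨k, j⟩
    haveI := (hF k).isAffine_obj j
    haveI : IsAffine ((Vn k).1 : Scheme.{u}) := (Vn k).2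
    haveI : IsAffine (Wn k : Scheme.{u}) := hW _ _
    show IsAffine (pullback ((F k).f j) (q k))
    infer_instance
  · intro R _ _ g₀
    have hmem : (g₀ ≫ (U' : T'.Opens).ι) (IsLocalRing.closedPoint R) ∈ U' := by
      rw [Scheme.Hom.comp_apply]; exact (g₀ (IsLocalRing.closedPoint R)).2
    obtain ⟨z, hz, hzW⟩ := Set.mem_iUnion₂.mp (hs hmem)
    let k := e.symm ⟨z, hz⟩
    have hk : Wn k = W z.1 z.2 := by
      show W (e (e.symm ⟨z, hz⟩)).1.1 (e (e.symm ⟨z, hz⟩)).1.2 = _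
      simp only [e.apply_symm_apply]
    have htop : (g₀ ≫ U'.ι) ⁻¹ᵁ Wn k = ⊤ := (IsLocalRing.closedPoint_mem_iff _).mp (hk ▸ hzW)
    have hr : Set.range (g₀ ≫ U'.ι) ⊆ Set.range (Wn k).ι := by
      rw [Scheme.Opens.range_ι]
      rintro _ ⟨p, rfl⟩
      exact htop.ge (Set.mem_univ p)
    let g₁ := IsOpenImmersion.lift (Wn k).ι (g₀ ≫ U'.ι) hr
    obtain ⟨R', h1, h2, φ, hφ, j, g', hg'⟩ := (hF k).lift R (g₁ ≫ q k)
    refine ⟨R', h1, h2, φ, hφ, ⟨k, j⟩, pullback.lift g' (Spec.map φ ≫ g₁) (by rw [hg', Category.assoc]), ?_⟩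
    show pullback.lift g' (Spec.map φ ≫ g₁) _ ≫ pullback.snd ((F k).f j) (q k) ≫ T'.homOfLE _ = _
    rw [pullback.lift_snd_assoc, ← cancel_mono U'.ι, Category.assoc, Category.assoc, Category.assoc,
      Scheme.homOfLE_ι, IsOpenImmersion.lift_fac]
  · rintro ⟨k, j⟩
    obtain ⟨i, h, hh⟩ := hFE k j
    refine ⟨i, pullback.lift (pullback.snd ((F k).f j) (q k) ≫ (Wn k).ι) (pullback.fst ((F k).f j) (q k) ≫ h) ?_, ?_⟩
    · rw [Category.assoc, Category.assoc, hh, ← Category.assoc (pullback.fst _ _), pullback.condition,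
        Category.assoc, Scheme.Hom.resLE_comp_ι]
    · show pullback.lift _ _ _ ≫ pullback.fst g (E.f i) = (pullback.snd ((F k).f j) (q k) ≫ T'.homOfLE _) ≫ U'.ι
      rw [pullback.lift_fst, Category.assoc, Scheme.homOfLE_ι]

end Groth.Agent.S7471
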