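import Groth.Statements.S7472
import Groth.Agent.S7471

set_option autoImplicit false
universe w u
open HTop

namespace Groth.Agent.S7472

open CategoryTheory CategoryTheory.Limits AlgebraicGeometry in
/-- Let E be a V covering of a scheme T and, for every member T_i of E, let F_i be a V covering of T_i.
Then the composite family of all T_ij -> T is a V covering of T. -/
theorem result {T : Scheme.{u}} (E : PreZeroHypercover.{w} T) (hE : HTop.IsVCover E) (F : ∀ i, PreZeroHypercover.{w} (E.X i)) (hF : ∀ i, HTop.IsVCover (F i)) : HTop.IsVCover (E.bind F) := by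
  intro U
  obtain ⟨F₀, hF₀, href⟩ := hE U
  choose i h hh using href
  haveI := hF₀.isAffine_obj
  choose G hG hGE using fun j =>
    Groth.Agent.S7471.result (h j) (F (i j)) (hF (i j)) ⟨⊤, isAffineOpen_top (F₀.X j)⟩
  let K : PreZeroHypercover.{0} ((U : T.Opens) : Scheme.{u}) :=
    { I₀ := Σ j, (G j).I₀
      X := fun p => (G p.1).X p.2
      f := fun p => (G p.1).f p.2 ≫ (⊤ : (F₀.X p.1).Opens).ι ≫ F₀.f p.1 }
  refine ⟨K, ⟨hF₀.isAffine, ?_, ?_, ?_⟩, ?_⟩
  · haveI := hF₀.finite_index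
    haveI := fun j => (hG j).finite_index
    exact inferInstanceAs (Finite (Σ j, (G j).I₀))
  · rintro ⟨j, k⟩
    exact (hG j).isAffine_obj k
  · intro R _ _ g₀
    obtain ⟨R₁, h1, h2, φ, hφ, j, g', hg'⟩ := hF₀.lift R g₀
    obtain ⟨R₂, h3, h4, ψ, hψ, k, g'', hg''⟩ := (hG j).lift R₁ (g' ≫ (Scheme.topIso (F₀.X j)).inv)
    refine ⟨R₂, h3, h4, φ ≫ ψ, ⟨hψ.1.comp hφ.1, ?_⟩, ⟨j, k⟩, g'', ?_⟩
    · haveI := hψ.2
      haveI := hφ.2
      exact RingHom.isLocalHom_comp ψ.hom φ.hom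
    · show g'' ≫ (G j).f k ≫ (⊤ : (F₀.X j).Opens).ι ≫ F₀.f j = _
      rw [← Category.assoc, hg'', Spec.map_comp, Category.assoc, Category.assoc, Category.assoc,
        ← Scheme.topIso_hom, Iso.inv_hom_id_assoc, hg']
  · rintro ⟨j, k⟩
    obtain ⟨l, h', hh'⟩ := hGE j k
    refine ⟨⟨i j, l⟩, h' ≫ pullback.snd (h j) ((F (i j)).f l), ?_⟩
    change (h' ≫ pullback.snd (h j) ((F (i j)).f l)) ≫ (F (i j)).f l ≫ E.f (i j) =
      ((G j).f k ≫ (⊤ : (F₀.X j).Opens).ι ≫ F₀.f j) ≫ (U : T.Opens).ι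
    have hh'' : h' ≫ pullback.fst (h j) ((F (i j)).f l) = (G j).f k ≫ (⊤ : (F₀.X j).Opens).ι := hh'
    erw [Category.assoc, ← pullback.condition_assoc, ← Category.assoc, hh'', Category.assoc, Category.assoc,
      Category.assoc, hh]

end Groth.Agent.S7472
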