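import Groth.Statements.S5959
import Groth.Agent.ModStalk.PullbackQCoh
import Groth.Agent.ModStalk.QCoh
import Groth.Prelude.Def_OmegaPn

set_option autoImplicit false
universe u
open CategoryTheory CategoryTheory.Limits AlgebraicGeometry TopologicalSpace Opposite
open Nrm16

namespace Groth.Agent.S5959

theorem isHomeomorph_pr1 {X S : Scheme.{u}} (f : X ⟶ S) (n : ℕ) :
    IsHomeomorph (PrinPart.pr1 f n) := by
  rw [isHomeomorph_iff_exists_inverse]
  refine ⟨(PrinPart.pr1 f n).continuous, PrinPart.toNbhd f n, fun z => ?_, fun x => ?_,
    (PrinPart.toNbhd f n).continuous⟩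
  · obtain ⟨y, rfl⟩ := PrinPart.toInfNbhd_surjective (PrinPart.diagCl f) n z
    rw [← Scheme.Hom.comp_apply, ← Scheme.Hom.comp_apply, PrinPart.toNbhd_pr1_assoc]
  · rw [← Scheme.Hom.comp_apply, PrinPart.toNbhd_pr1]
    rfl

/-- Let f : X ⟶ S be a morphism of schemes, n a natural number and F a quasi-coherent O_X-module. Then
P^n_{X/S}(F), the sheaf of principal parts of order n of F with its left O_X-module structure, is a
quasi-coherent O_X-module. (The published statement asserts this for either of the two O_X-module
structures of P^n_{X/S}(F); this row states it for the left structure, the one the sheaf of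
principal parts carries here.) -/
theorem result {X S : Scheme.{u}} (f : X ⟶ S) (n : ℕ) (F : X.Modules)
    (hF : Coh.IsQCoh F) :
    Coh.IsQCoh (PrinPart.PMod f n F) := by
  have : F.IsQuasicoherent := hF
  have : ((Scheme.Modules.pullback (PrinPart.pr2 f n)).obj F).IsQuasicoherent :=
    Groth.Agent.ModStalk.isQuasicoherent_pullback _ _
  have hh := isHomeomorph_pr1 f n
  have : QuasiCompact (PrinPart.pr1 f n) :=
    ⟨fun U hU hUc => hh.homeomorph.isCompact_preimage.mpr hUc⟩
  have : QuasiSeparated (PrinPart.pr1 f n) := by
    apply HasAffineProperty.of_iSup_eq_top (P := @QuasiSeparated) _ (iSup_affineOpens_eq_top X)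
    intro U
    have : QuasiSeparatedSpace (U.1 : Scheme.{u}) := by
      have : IsAffine (U.1 : Scheme.{u}) := U.2
      infer_instance
    exact QuasiSeparatedSpace.of_isOpenEmbedding
      (f := (PrinPart.pr1 f n ∣_ U.1).base) (by
        rw [morphismRestrict_base]
        exact hh.isOpenEmbedding.restrictPreimage U.1.1)
  exact Groth.Agent.ModStalk.isQuasicoherent_pushforward _ _

end Groth.Agent.S5959
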