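import Groth.Statements.S0019
import Groth.Agent.ModStalk.QCoh

set_option autoImplicit false
universe u
open Coherent

namespace Groth.Agent.S0019

theorem finite_comp {A B N : Type*} [CommRing A] [CommRing B] [AddCommGroup N] [Module B N] [Module A N]
    (φ : A →+* B) (hφ : φ.Finite) (h : ∀ (a : A) (m : N), a • m = φ a • m) [Module.Finite B N] :
    Module.Finite A N := by
  algebraize [φ]
  have : IsScalarTower A B N := IsScalarTower.of_algebraMap_smul fun a m => (h a m).symm
  exact Module.Finite.trans B N


open AlgebraicGeometry in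
/-- If f : X → Y is a finite morphism of schemes with Y locally Noetherian and F is a coherent
O_X-module, then the direct image f_*F is a coherent O_Y-module. -/
theorem result {X Y : Scheme.{u}} (f : X ⟶ Y) [IsFinite f] [IsLocallyNoetherian Y]
    (M : X.Modules) (hM : Coh.IsCoh M) : Coh.IsCoh ((Coh.push f).obj M) := by
  have := hM.1
  have := hM.2
  have hq : Coh.IsQCoh ((Coh.push f).obj M) := Groth.Agent.ModStalk.isQuasicoherent_pushforward f M
  refine ⟨hq, @Groth.Agent.ModStalk.isFiniteType_of_finite _ _ hq fun U => ?_⟩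
  exact @finite_comp Γ(Y, U.1) Γ(X, f ⁻¹ᵁ U.1) Γ(M, f ⁻¹ᵁ U.1) _ _ _ _
    (show Module Γ(Y, U.1) Γ((Coh.push f).obj M, U.1) from inferInstance) (f.app U.1).hom
    (IsFinite.finite_app f U.1 U.2) (fun _ _ => rfl) (Groth.Agent.ModStalk.finite_sections (U.2.preimage f) M)

end Groth.Agent.S0019
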