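import Groth.Statements.S0045
import Groth.Agent.ModStalk.FiniteType
import Groth.Prelude.Def_RefPow

set_option autoImplicit false
universe u
open Coherent

namespace Groth.Agent.S0045

open AlgebraicGeometry CategoryTheory
theorem isIso_of_sections {X : Scheme.{u}} {A B : X.Modules} [A.IsQuasicoherent] [B.IsQuasicoherent]
    (φ : A ⟶ B) [Mono φ] (T : Finset X.affineOpens) (hT : ∀ x : X, ∃ U ∈ T, x ∈ U.1)
    (h : ∀ U ∈ T, Function.Surjective (φ.app U.1)) : IsIso φ := by
  have : Epi φ := by
    constructor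
    intro Z g₁ g₂ hg
    apply Scheme.Modules.hom_ext
    intro V
    ext t
    show g₁.app V t = g₂.app V t
    rw [← sub_eq_zero]
    apply Groth.Agent.ModStalk.section_eq_zero
    intro x hx
    rw [map_sub, sub_eq_zero, ← RefHull.stalkMapₗ_germ, ← RefHull.stalkMapₗ_germ]
    obtain ⟨U, hU, hxU⟩ := hT x
    obtain ⟨c, b, hc, hb⟩ := Groth.Agent.ModStalk.exists_smul_eq_germ B U.2 x hxU (B.presheaf.germ V x hx t)
    have hu := (Scheme.mem_basicOpen _ _ _ hxU).mp hc
    apply hu.smul_left_cancel.mp
    rw [← (RefHull.stalkMapₗ g₁ x).map_smul, ← (RefHull.stalkMapₗ g₂ x).map_smul, hb]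
    obtain ⟨a, rfl⟩ := h U hU b
    rw [RefHull.stalkMapₗ_germ, RefHull.stalkMapₗ_germ]
    congr 1
    have := congrArg (fun f => Scheme.Modules.Hom.app f U.1 a) hg
    exact this
  exact isIso_of_mono_of_epi φ

/-- On a Noetherian scheme, any increasing sequence of quasi-coherent submodules of a coherent module is
eventually constant. -/
theorem result (X : Scheme.{u}) [IsNoetherian X] (M : X.Modules)
    (hM : Coh.IsCoh M) (F : ℕ →o Subobject M) (hF : ∀ n, Coh.IsQCoh ((F n : Subobject M) : X.Modules)) :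
    ∃ n : ℕ, ∀ m : ℕ, n ≤ m → F m = F n := by
  have := hM.1
  have := hM.2
  have key : ∀ U : X.affineOpens, ∃ n, ∀ m, n ≤ m → Set.range ((F m).arrow.app U.1) ⊆ Set.range ((F n).arrow.app U.1) := by
    intro U
    have := IsLocallyNoetherian.component_noetherian U
    have := Groth.Agent.ModStalk.finite_sections U.2 M
    let N : ℕ →o Submodule Γ(X, U.1) Γ(M, U.1) :=
      ⟨fun n => LinearMap.range ({ toFun := (F n).arrow.app U.1,
                                      map_add' := map_add _,
                                      map_smul' := fun r a => (F n).arrow.app_smul r a } :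
            Γ(((F n : Subobject M) : X.Modules), U.1) →ₗ[Γ(X, U.1)] Γ(M, U.1)), by
        intro a b hab
        rintro _ ⟨z, rfl⟩
        refine ⟨(Subobject.ofLE (F a) (F b) (F.mono hab)).app U.1 z, ?_⟩
        exact congrArg (fun f => Scheme.Modules.Hom.app f U.1 z) (Subobject.ofLE_arrow (F.mono hab))⟩
    obtain ⟨n, hn⟩ := monotone_stabilizes_iff_noetherian.mpr
      (inferInstance : IsNoetherian Γ(X, U.1) Γ(M, U.1)) N
    exact ⟨n, fun m hm => Set.Subset.antisymm_iff.mp (congrArg SetLike.coe (hn m hm)) |>.2⟩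
  choose n hn using key
  obtain ⟨T, hT⟩ := isCompact_univ.elim_finite_subcover (fun V : X.affineOpens => ((V : X.Opens) : Set X))
    (fun V => V.1.isOpen) fun x _ => by
      obtain ⟨_, ⟨W, hW, rfl⟩, hxW, -⟩ :=
        X.isBasis_affineOpens.exists_subset_of_mem_open (Set.mem_univ x) isOpen_univ
      exact Set.mem_iUnion.mpr ⟨⟨W, hW⟩, hxW⟩
  refine ⟨T.sup n, fun m hm => ?_⟩
  have hle := F.mono hm
  let φ := Subobject.ofLE _ _ hle
  have := hF (T.sup n)
  have := hF m
  have hiso : IsIso φ := by
    refine isIso_of_sections φ T (fun x => by simpa using hT (Set.mem_univ x)) fun U hU b => ?_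
    have hnU : n U ≤ T.sup n := Finset.le_sup hU
    obtain ⟨a, ha⟩ := hn U m (hnU.trans hm) ⟨b, rfl⟩
    refine ⟨(Subobject.ofLE (F (n U)) (F (T.sup n)) (F.mono hnU)).app U.1 a, ?_⟩
    apply Groth.Agent.ModStalk.injective_app_of_mono M (F m).arrow U.1
    refine Eq.trans ?_ ha
    have h1 : (Subobject.ofLE (F (n U)) (F (T.sup n)) (F.mono hnU) ≫ φ) ≫ (F m).arrow = (F (n U)).arrow := by
      rw [Category.assoc, Subobject.ofLE_arrow, Subobject.ofLE_arrow]
    exact congrArg (fun f => Scheme.Modules.Hom.app f U.1 a) h1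
  exact le_antisymm (Subobject.le_of_comm (inv φ) (by rw [IsIso.inv_comp_eq]; exact (Subobject.ofLE_arrow hle).symm)) hle

end Groth.Agent.S0045
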