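import Groth.Statements.S0046
import Groth.Agent.ModStalk.FiniteType
import Groth.Prelude.Def_RefPow

set_option autoImplicit false
universe u
open Coherent

namespace Groth.Agent.S0046

open AlgebraicGeometry CategoryTheory in
/-- On a locally Noetherian scheme, a quasi-coherent submodule of a coherent module is coherent. (The
statement about quotients is omitted.) -/
theorem result (X : Scheme.{u}) [IsLocallyNoetherian X]
    (M N : X.Modules) (i : N ⟶ M) [Mono i] (hM : Coh.IsCoh M) (hN : Coh.IsQCoh N) : Coh.IsCoh N := by
  have := hN
  have := hM.1
  have := hM.2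
  refine ⟨hN, Groth.Agent.ModStalk.isFiniteType_of_finite N fun U => ?_⟩
  have := IsLocallyNoetherian.component_noetherian U
  have := Groth.Agent.ModStalk.finite_sections U.2 M
  exact Module.Finite.of_injective
    ({ toFun := i.app U.1, map_add' := map_add _, map_smul' := fun r a => i.app_smul r a } :
      Γ(N, U.1) →ₗ[Γ(X, U.1)] Γ(M, U.1))
    (Groth.Agent.ModStalk.injective_app_of_mono M i U.1)

end Groth.Agent.S0046
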