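import Groth.Statements.S0098
import Groth.Agent.UnrOnePt.Basic
import Mathlib.AlgebraicGeometry.Morphisms.FlatMono

set_option autoImplicit false
open CategoryTheory CategoryTheory.Limits AlgebraicGeometry Opposite
universe u
open EtBase

namespace Groth.Agent.S0098

/-- A finite étale morphism whose fibre over a point s is a single point with the same residue field is
an isomorphism over an open neighbourhood of s. -/
theorem result {X S : Scheme.{u}} (f : X ⟶ S) [IsFinite f] [AlgebraicGeometry.Etale f] (s : S) (x : X)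
    (hx : f.base ⁻¹' {s} = {x}) (hκ : Function.Surjective (f.residueFieldMap x)) :
    ∃ U : S.Opens, s ∈ U ∧ IsIso (f ∣_ U) := by
  obtain ⟨U, hsU, hU⟩ := Groth.Agent.UnrOnePt.exists_isClosedImmersion f s x hx hκ
  haveI := hU
  haveI : IsOpenImmersion (f ∣_ U) := IsOpenImmersion.of_flat_of_mono _
  let V : S.Opens := U.ι ''ᵁ (f ∣_ U).opensRange
  have hfs : f x = s := (hx.symm ▸ Set.mem_singleton x : x ∈ f.base ⁻¹' {s})
  have hxU : x ∈ f ⁻¹ᵁ U := show f x ∈ U from hfs.symm ▸ hsU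
  have hsV : s ∈ V := ⟨(f ∣_ U) ⟨x, hxU⟩, ⟨_, rfl⟩, by
    show U.ι ((f ∣_ U) ⟨x, hxU⟩) = s
    rw [← Scheme.Hom.comp_apply, morphismRestrict_ι]
    exact hfs⟩
  have hVU : V ≤ U := by
    rintro z ⟨w, -, rfl⟩
    exact w.2
  haveI : Surjective (f ∣_ V) := ⟨by
    rintro ⟨z, w, ⟨y, hy⟩, hz⟩
    have hyz : f ((f ⁻¹ᵁ U).ι y) = z := by
      rw [← Scheme.Hom.comp_apply, ← morphismRestrict_ι, Scheme.Hom.comp_apply, hy]
      exact hz
    refine ⟨⟨(f ⁻¹ᵁ U).ι y, ?_⟩, Subtype.ext ?_⟩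
    · show f ((f ⁻¹ᵁ U).ι y) ∈ V
      rw [hyz]
      exact ⟨w, ⟨y, hy⟩, hz⟩
    · show V.ι ((f ∣_ V) _) = z
      rw [← Scheme.Hom.comp_apply, morphismRestrict_ι]
      exact hyz⟩
  haveI : IsClosedImmersion ((f ∣_ U) ∣_ (U.ι ⁻¹ᵁ V)) := IsZariskiLocalAtTarget.restrict hU _
  haveI : IsClosedImmersion (f ∣_ V) := by
    have := (MorphismProperty.arrow_mk_iso_iff @IsClosedImmersion (morphismRestrictRestrict f U (U.ι ⁻¹ᵁ V))).1 ‹_›
    rwa [Scheme.Hom.image_preimage_eq_opensRange_inf, Scheme.Opens.opensRange_ι, inf_eq_right.2 hVU] at this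
  haveI : IsOpenImmersion (f ∣_ V) := IsOpenImmersion.of_flat_of_mono _
  haveI : Epi (f ∣_ V).base := (TopCat.epi_iff_surjective _).2 (f ∣_ V).surjective
  exact ⟨V, hsV, IsOpenImmersion.isIso _⟩

end Groth.Agent.S0098
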