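import Groth.Statements.S0119
import Groth.Agent.EtaleLocal.Basic
import Mathlib.AlgebraicGeometry.Noetherian
import Mathlib.RingTheory.Localization.AtPrime.Basic

set_option autoImplicit false
open CategoryTheory CategoryTheory.Limits AlgebraicGeometry Opposite
universe u
open EtBase

namespace Groth.Agent.S0119
open CategoryTheory AlgebraicGeometry IsLocalRing
open Groth.Agent.EtaleLocal.Basic

/-- Let f : X → Y be an étale morphism of schemes with Y locally Noetherian, and let x ∈ X. Then the
local ring O_{X,x} is reduced if and only if the local ring O_{Y,f(x)} is reduced. -/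
theorem result {X Y : Scheme.{u}} (f : X ⟶ Y) [AlgebraicGeometry.Etale f]
    [IsLocallyNoetherian Y] (x : X) :
    _root_.IsReduced (X.presheaf.stalk x) ↔ _root_.IsReduced (Y.presheaf.stalk (f.base x)) := by
  refine ⟨fun h => ?_, fun h => ?_⟩
  · algebraize [(f.stalkMap x).hom]
    have : IsLocalHom (algebraMap (Y.presheaf.stalk (f x)) (X.presheaf.stalk x)) :=
      inferInstanceAs <| IsLocalHom (f.stalkMap x).hom
    have : Module.Flat (Y.presheaf.stalk (f x)) (X.presheaf.stalk x) := Flat.stalkMap f x
    have : Module.FaithfullyFlat (Y.presheaf.stalk (f x)) (X.presheaf.stalk x) :=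
      Module.FaithfullyFlat.of_flat_of_isLocalHom
    exact isReduced_of_injective (f.stalkMap x).hom
      (FaithfulSMul.algebraMap_injective (Y.presheaf.stalk (f x)) (X.presheaf.stalk x))
  · have key := HasRingHomProperty.stalkMap_of_respectsIso (P := @Etale) (f := f)
      (Q' := fun {R S} _ _ (_ : R →+* S) => IsNoetherianRing R → _root_.IsReduced R → _root_.IsReduced S)
      ?_ ?_ inferInstance x
    · exact key inferInstance h
    · refine ⟨?_, ?_⟩
      · intro R S T _ _ _ φ e hφ h1 h2
        have := hφ h1 h2
        exact isReduced_of_injective e.symm.toRingHom e.symm.injective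
      · intro R S T _ _ _ φ e hφ h1 h2
        exact hφ (isNoetherianRing_of_ringEquiv _ e)
          (isReduced_of_injective e.symm.toRingHom e.symm.injective)
    · intro R S _ _ φ hφ J _ h1 h2
      letI := φ.toAlgebra
      have : Algebra.Etale R S := hφ
      exact isReduced_localization_of_etale R S J (J.comap φ) rfl

end Groth.Agent.S0119
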