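import Groth.Statements.S0191
import Mathlib.LinearAlgebra.TensorProduct.Basis
import Mathlib.Algebra.Central.Basic
import Mathlib.LinearAlgebra.TensorProduct.RightExactness
import Mathlib.RingTheory.TwoSidedIdeal.Operations
import Mathlib.LinearAlgebra.Basis.VectorSpace

set_option autoImplicit false
universe u v w
open scoped TensorProduct
open Curves

namespace Groth.Agent.S0191

/-- If K is a skew field with center k, every two-sided ideal of A ⊗ K is generated by the elements a ⊗
1 it contains. -/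
theorem result (k : Type u) [Field k] (A : Type v) [Ring A] [Algebra k A]
    (K : Type w) [DivisionRing K] [Algebra k K] [Algebra.IsCentral k K]
    (I : TwoSidedIdeal (A ⊗[k] K)) :
    I = TwoSidedIdeal.span ((fun a : A => a ⊗ₜ[k] (1 : K)) '' {a : A | a ⊗ₜ[k] (1 : K) ∈ I}) := by
  classical
  refine le_antisymm ?_ (TwoSidedIdeal.span_le.2 fun x hx => ?_)
  swap
  · obtain ⟨a, ha, rfl⟩ := hx; exact ha
  set J := TwoSidedIdeal.span ((fun a : A => a ⊗ₜ[k] (1 : K)) '' {a : A | a ⊗ₜ[k] (1 : K) ∈ I})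
  let J0 : Submodule k A :=
    { carrier := {a | a ⊗ₜ[k] (1 : K) ∈ I}
      add_mem' := fun {x y} hx hy => by rw [Set.mem_ofPred_eq, TensorProduct.add_tmul]; exact I.add_mem hx hy
      zero_mem' := by simp
      smul_mem' := fun c x hx => by
        rw [Set.mem_ofPred_eq, ← TensorProduct.smul_tmul', Algebra.smul_def]
        exact I.mul_mem_left _ _ hx }
  let π := LinearMap.rTensor K J0.mkQ
  have hker : ∀ z, π z = 0 → z ∈ J := fun z hz => by
    obtain ⟨w, rfl⟩ := (rTensor_exact K (LinearMap.exact_subtype_mkQ J0) J0.mkQ_surjective z).1 hz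
    clear hz
    induction w using TensorProduct.induction_on with
    | zero => simp
    | tmul a c =>
      rw [LinearMap.rTensor_tmul]
      have : (a : A) ⊗ₜ[k] c = ((1 : A) ⊗ₜ[k] c) * ((a : A) ⊗ₜ[k] (1 : K)) := by simp
      rw [Submodule.subtype_apply, this]
      exact J.mul_mem_left _ _ (TwoSidedIdeal.subset_span ⟨a, a.2, rfl⟩)
    | add _ _ h₁ h₂ => rw [map_add]; exact J.add_mem h₁ h₂
  have hJI : J ≤ I := TwoSidedIdeal.span_le.2 fun x hx => by obtain ⟨a, ha, rfl⟩ := hx; exact ha
  let b := Module.Basis.ofVectorSpace k (A ⧸ J0)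
  let cc := TensorProduct.equivFinsuppOfBasisLeft (N := K) b
  have hl : ∀ (c : K) (z : A ⊗[k] K) i, cc (π (((1 : A) ⊗ₜ[k] c) * z)) i = c * cc (π z) i := fun c z i => by
    induction z using TensorProduct.induction_on with
    | zero => simp
    | tmul a d => simp [π, cc, TensorProduct.equivFinsuppOfBasisLeft_apply_tmul_apply]
    | add _ _ h₁ h₂ => simp [mul_add, h₁, h₂]
  have hr : ∀ (c : K) (z : A ⊗[k] K) i, cc (π (z * ((1 : A) ⊗ₜ[k] c))) i = cc (π z) i * c := fun c z i => by
    induction z using TensorProduct.induction_on with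
    | zero => simp
    | tmul a d => simp [π, cc, TensorProduct.equivFinsuppOfBasisLeft_apply_tmul_apply]
    | add _ _ h₁ h₂ => simp [add_mul, h₁, h₂]
  suffices h : ∀ n, ∀ z ∈ I, (cc (π z)).support.card = n → π z = 0 from fun z hz => hker z (h _ z hz rfl)
  intro n
  induction n using Nat.strong_induction_on with
  | _ n ih =>
  intro z hz hn
  by_contra h0
  have hne : cc (π z) ≠ 0 := fun h => h0 (cc.map_eq_zero_iff.1 h)
  obtain ⟨j, hj⟩ := Finsupp.support_nonempty_iff.2 hne
  rw [Finsupp.mem_support_iff] at hj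
  set z' := z * ((1 : A) ⊗ₜ[k] (cc (π z) j)⁻¹) with hz'
  have hz'I : z' ∈ I := I.mul_mem_right _ _ hz
  have hj' : cc (π z') j = 1 := by rw [hz', hr, mul_inv_cancel₀ hj]
  have hsupp : (cc (π z')).support = (cc (π z)).support := by
    ext i; rw [Finsupp.mem_support_iff, Finsupp.mem_support_iff, hz', hr]; simp [hj]
  clear_value z'
  have hcomm : ∀ (c : K) i, c * cc (π z') i = cc (π z') i * c := fun c i => by
    have hmem : ((1 : A) ⊗ₜ[k] c) * z' - z' * ((1 : A) ⊗ₜ[k] c) ∈ I :=
      I.sub_mem (I.mul_mem_left _ _ hz'I) (I.mul_mem_right _ _ hz'I)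
    have hi : ∀ i, cc (π (((1 : A) ⊗ₜ[k] c) * z' - z' * ((1 : A) ⊗ₜ[k] c))) i = c * cc (π z') i - cc (π z') i * c := fun i => by
      rw [map_sub, map_sub, Finsupp.sub_apply, hl, hr]
    have h := ih _ ?_ _ hmem rfl
    · have := hi i; rw [h, map_zero, Finsupp.zero_apply] at this; exact sub_eq_zero.1 this.symm
    · rw [← hn, ← hsupp]
      refine Finset.card_lt_card ⟨fun i hi' => ?_, fun hsub => ?_⟩
      · rw [Finsupp.mem_support_iff, hi] at hi'
        rw [Finsupp.mem_support_iff]; intro h; rw [h] at hi'; simp at hi'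
      · have := hsub (Finsupp.mem_support_iff.2 (show cc (π z') j ≠ 0 by rw [hj']; exact one_ne_zero))
        rw [Finsupp.mem_support_iff, hi, hj'] at this; simp at this
  have hk : ∀ i, ∃ t : k, cc (π z') i = algebraMap k K t := fun i => by
    have : cc (π z') i ∈ Subalgebra.center k K := Subalgebra.mem_center_iff.2 fun c => hcomm c i
    rw [Algebra.IsCentral.center_eq_bot, Algebra.mem_bot] at this
    obtain ⟨t, ht⟩ := this
    exact ⟨t, ht.symm⟩
  choose t ht using hk
  obtain ⟨a, ha⟩ := J0.mkQ_surjective (∑ i ∈ (cc (π z')).support, t i • b i)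
  have heq : π z' = π (a ⊗ₜ[k] (1 : K)) := by
    refine cc.injective (Finsupp.ext fun i => ?_)
    show cc (π z') i = cc (LinearMap.rTensor K J0.mkQ (a ⊗ₜ[k] (1 : K))) i
    rw [LinearMap.rTensor_tmul, TensorProduct.equivFinsuppOfBasisLeft_apply_tmul_apply, ha, map_sum,
      Finsupp.finsetSum_apply]
    simp only [map_smul, Finsupp.smul_apply, Module.Basis.repr_self, Finsupp.single_apply, smul_eq_mul, mul_ite, mul_one,
      mul_zero, Finset.sum_ite_eq']
    split_ifs with h
    · rw [ht, Algebra.algebraMap_eq_smul_one]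
    · rw [Finsupp.notMem_support_iff.1 h, zero_smul]
  have haI : a ⊗ₜ[k] (1 : K) ∈ I := by
    have := hJI (hker (z' - a ⊗ₜ[k] (1 : K)) (by rw [map_sub, heq, sub_self]))
    have h2 := I.sub_mem hz'I this
    simpa using h2
  refine hj ?_
  have h1 : π z' = 0 := by
    rw [heq]
    show LinearMap.rTensor K J0.mkQ (a ⊗ₜ[k] (1 : K)) = 0
    rw [LinearMap.rTensor_tmul, show J0.mkQ a = 0 from (Submodule.Quotient.mk_eq_zero J0).2 haI, TensorProduct.zero_tmul]
  rw [h1, map_zero, Finsupp.zero_apply] at hj'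
  exact absurd hj'.symm one_ne_zero

end Groth.Agent.S0191
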