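import Groth.Statements.S0195
import Groth.Agent.CSA8.Similar
import Mathlib.Algebra.Central.Matrix
import Mathlib.LinearAlgebra.Matrix.Basis

set_option autoImplicit false
universe u v w
open scoped TensorProduct
open Curves

namespace Groth.Agent.S0195

/-- A finite extension k' of k splits a finite central simple algebra A exactly when some algebra
similar to A contains k' with dim equal to [k':k]^2. Uses Mathlib's bundled CSA and Brauer
equivalence. -/
theorem result (k : Type u) [Field k] (A : CSA.{u, u} k)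
    (k' : Type u) [Field k'] [Algebra k k'] [FiniteDimensional k k'] :
    Curves.Splits k A k' ↔ ∃ (B : CSA.{u, u} k) (_ : k' →ₐ[k] B), IsBrauerEquivalent A B ∧
      Module.finrank k B = Module.finrank k k' ^ 2 := by
  have := A.isCentral
  have := A.isSimple
  have := A.fin_dim
  constructor
  · intro h
    have : IsArtinianRing A := .of_finite k A
    obtain ⟨a, ha, D, _, _, _, ⟨e⟩⟩ := IsSimpleRing.exists_algEquiv_matrix_divisionRing_finite k A
    have : Nonempty (Fin a) := ⟨⟨0, Nat.pos_of_ne_zero ha.out⟩⟩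
    have : Algebra.IsCentral k (Matrix (Fin a) (Fin a) D) := Algebra.IsCentral.of_algEquiv k A _ e
    have : Algebra.IsCentral k D := ⟨fun z hz => by
      have hs : Matrix.scalar (Fin a) z ∈ Subalgebra.center k (Matrix (Fin a) (Fin a) D) :=
        Subalgebra.mem_center_iff.2 fun M => by
          ext i j; simp [Matrix.mul_diagonal, Matrix.diagonal_mul, (Subalgebra.mem_center_iff.1 hz (M i j))]
      rw [Algebra.IsCentral.center_eq_bot, Algebra.mem_bot] at hs
      obtain ⟨c, hc⟩ := hs
      refine Algebra.mem_bot.2 ⟨c, ?_⟩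
      have := congrFun (congrFun hc (Classical.arbitrary (Fin a))) (Classical.arbitrary (Fin a))
      simpa [Matrix.algebraMap_matrix_apply] using this⟩
    have hD : Curves.Splits k D k' :=
      Groth.Agent.CSA8.splits_of_matrix k' D ha.out (Groth.Agent.CSA8.splits_congr k' e.symm h)
    obtain ⟨m, hm, ⟨f⟩, hdim⟩ := Groth.Agent.CSA8.exists_embedding k' D hD
    have : Nonempty (Fin m) := ⟨⟨0, Nat.pos_of_ne_zero hm⟩⟩
    let B : CSA.{u, u} k := @CSA.mk k _ (AlgCat.of k (Matrix (Fin m) (Fin m) D)) (inferInstanceAs (Algebra.IsCentral k (Matrix (Fin m) (Fin m) D)))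
      (inferInstanceAs (IsSimpleRing (Matrix (Fin m) (Fin m) D))) (inferInstanceAs (FiniteDimensional k (Matrix (Fin m) (Fin m) D)))
    refine ⟨B, f, ⟨m, a, hm, ha.out, ⟨?_⟩⟩, ?_⟩
    · exact (e.mapMatrix.trans ((Matrix.compAlgEquiv (Fin m) (Fin a) D k).trans
        (Matrix.reindexAlgEquiv k D (Equiv.prodComm (Fin m) (Fin a))))).trans (Matrix.compAlgEquiv (Fin a) (Fin m) D k).symm
    · show Module.finrank k (Matrix (Fin m) (Fin m) D) = _
      rw [Module.finrank_matrix, Fintype.card_fin, hdim]
  · rintro ⟨B, f, ⟨p, q, hp, hq, ⟨e⟩⟩, hdim⟩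
    have := B.isCentral
    have := B.isSimple
    have := B.fin_dim
    exact Groth.Agent.CSA8.splits_of_matrix k' A hp
      (Groth.Agent.CSA8.splits_congr k' e (Groth.Agent.CSA8.splits_matrix k' B hq (Groth.Agent.CSA8.splits_of_embedding f hdim)))

end Groth.Agent.S0195
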