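import Groth.Statements.S0196
import Groth.Agent.CSA8.Simple
import Mathlib.RingTheory.SimpleRing.Field
import Mathlib.RingTheory.Artinian.Module
import Mathlib.RingTheory.Adjoin.Basic

set_option autoImplicit false
universe u v w
open scoped TensorProduct
open Curves

namespace Groth.Agent.S0196

/-- In a finite central skew field D over k, a maximal commutative k-subalgebra L satisfies dim D = (dim
L)^2. -/
theorem result (k : Type u) [Field k]
    (D : Type v) [DivisionRing D] [Algebra k D] [Algebra.IsCentral k D] [FiniteDimensional k D]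
    (L : Subalgebra k D) (hcomm : ∀ x ∈ L, ∀ y ∈ L, x * y = y * x)
    (hmax : ∀ L' : Subalgebra k D, (∀ x ∈ L', ∀ y ∈ L', x * y = y * x) → L ≤ L' → L' = L) :
    Module.finrank k D = Module.finrank k L ^ 2 := by
  classical
  let _ : CommRing L := { (inferInstance : Ring L) with mul_comm := fun x y => Subtype.ext (hcomm x x.2 y y.2) }
  have : IsDomain L := inferInstance
  have : IsArtinianRing L := .of_finite k L
  have : IsSimpleRing L := (isSimpleRing_iff_isField L).2 (IsArtinianRing.isField_of_isDomain L)
  obtain ⟨-, hd⟩ := Groth.Agent.CSA8.centralizer L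
  suffices hC : Subalgebra.centralizer k (L : Set D) = L by rw [hC] at hd; rw [hd, pow_two]
  refine le_antisymm (fun x hx => ?_) fun x hx => (Subalgebra.mem_centralizer_iff k).2 fun y hy => hcomm y hy x hx
  have hx' : ∀ y ∈ L, y * x = x * y := fun y hy => (Subalgebra.mem_centralizer_iff k).1 hx y hy
  let L' := Algebra.adjoin k ((L : Set D) ∪ {x})
  have hL' : ∀ a ∈ L', ∀ b ∈ L', a * b = b * a := by
    have hs : ∀ a ∈ (L : Set D) ∪ {x}, ∀ b ∈ (L : Set D) ∪ {x}, a * b = b * a := by
      rintro a (ha | rfl) b (hb | rfl)
      · exact hcomm a ha b hb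
      · exact hx' a ha
      · exact (hx' b hb).symm
      · rfl
    let _ : CommRing L' := { (inferInstance : Ring L') with mul_comm := (Algebra.isMulCommutative_adjoin k hs).is_comm.comm }
    exact fun a ha b hb => congrArg Subtype.val (mul_comm (⟨a, ha⟩ : L') ⟨b, hb⟩)
  have := hmax L' hL' fun y hy => Algebra.subset_adjoin (Or.inl hy)
  rw [← this]
  exact Algebra.subset_adjoin (Or.inr rfl)

end Groth.Agent.S0196
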