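import Groth.Statements.S0197
import Groth.Agent.CSA8.Split

set_option autoImplicit false
universe u v w
open scoped TensorProduct
open Curves

namespace Groth.Agent.S0197

/-- If a finite central skew field D has dimension d^2, the degree of any finite splitting field of D is
divisible by d. -/
theorem result (k : Type u) [Field k]
    (D : Type u) [DivisionRing D] [Algebra k D] [Algebra.IsCentral k D] [FiniteDimensional k D]
    (d : ℕ) (hd : Module.finrank k D = d ^ 2)
    (k' : Type u) [Field k'] [Algebra k k'] [FiniteDimensional k k'] (hs : Curves.Splits k D k') :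
    d ∣ Module.finrank k k' := by
  obtain ⟨n, hn, ⟨e⟩⟩ := hs
  have hnd : n = d := by
    have h := e.toLinearEquiv.finrank_eq
    rw [Module.finrank_baseChange, hd, Module.finrank_matrix, Fintype.card_fin, Module.finrank_self, mul_one, ← pow_two] at h
    exact (Nat.pow_left_injective two_ne_zero h).symm
  subst hnd
  let ρ : D →+* Module.End k' (Fin n → k') :=
    ((Matrix.toLinAlgEquiv' : Matrix (Fin n) (Fin n) k' ≃ₐ[k'] _).toAlgHom.toRingHom.comp e.toAlgHom.toRingHom).comp
      (Algebra.TensorProduct.includeRight : D →ₐ[k] k' ⊗[k] D).toRingHom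
  let _ : Module D (Fin n → k') := Module.compHom _ ρ
  have hsm : ∀ (x : D) (v : Fin n → k'), x • v = ρ x v := fun _ _ => rfl
  have : IsScalarTower k D (Fin n → k') := ⟨fun c x v => by
    rw [hsm, hsm, Algebra.smul_def, map_mul]
    show ρ (algebraMap k D c) (ρ x v) = _
    have : ρ (algebraMap k D c) = algebraMap k' (Module.End k' (Fin n → k')) (algebraMap k k' c) := by
      show Matrix.toLinAlgEquiv' (e ((Algebra.TensorProduct.includeRight : D →ₐ[k] k' ⊗[k] D) (algebraMap k D c))) = _
      rw [AlgHom.commutes, IsScalarTower.algebraMap_apply k k' (k' ⊗[k] D), e.commutes, AlgEquiv.commutes]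
    rw [this, Module.algebraMap_end_apply, algebraMap_smul]⟩
  have h := Module.finrank_mul_finrank k D (Fin n → k')
  rw [hd, Module.finrank_pi_fintype, Finset.sum_const, smul_eq_mul, Finset.card_univ, Fintype.card_fin] at h
  exact ⟨Module.finrank D (Fin n → k'), Nat.eq_of_mul_eq_mul_left (Nat.pos_of_ne_zero hn) (by rw [← h]; ring)⟩

end Groth.Agent.S0197
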