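import Groth.Statements.S0201
import Groth.Agent.CSA8.Split
import Mathlib.FieldTheory.Galois.Basic
import Mathlib.FieldTheory.IsSepClosed
import Mathlib.FieldTheory.Normal.Closure

set_option autoImplicit false
universe u v w
open scoped TensorProduct
open Curves

namespace Groth.Agent.S0201

/-- Every finite central simple algebra over k is split by a finite Galois extension of k. -/
theorem result (k : Type u) [Field k] (A : Type v) [Ring A] [Algebra k A]
    [Algebra.IsCentral k A] [IsSimpleRing A] [FiniteDimensional k A] :
    ∃ (k' : Type u) (_ : Field k') (_ : Algebra k k'), FiniteDimensional k k' ∧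
      IsGalois k k' ∧ Curves.Splits k A k' := by
  obtain ⟨k', i1, i2, hfd, hsep, hs⟩ := Groth.Agent.CSA8.exists_splitting (k := k) A
  let Ω := SeparableClosure k
  let f : k' →ₐ[k] Ω := IsSepClosed.lift
  let E := IntermediateField.normalClosure k f.fieldRange Ω
  have : FiniteDimensional k f.fieldRange := (AlgEquiv.ofInjectiveField f).toLinearEquiv.finiteDimensional
  have : Algebra.IsSeparable k f.fieldRange := AlgEquiv.Algebra.isSeparable (AlgEquiv.ofInjectiveField f)
  refine ⟨E, inferInstance, inferInstance, inferInstance, ?_, ?_⟩
  · exact IsGalois.normalClosure k f.fieldRange Ω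
  · refine Groth.Agent.CSA8.splits_mono E ((IntermediateField.inclusion (IntermediateField.le_normalClosure f.fieldRange)).comp (AlgEquiv.ofInjectiveField f).toAlgHom) hs

end Groth.Agent.S0201
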