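import Groth.Statements.S0226
import Mathlib
import Groth.Agent.WQ8.RegularUFD

set_option autoImplicit false
universe u
open Curves

namespace Groth.Agent.S0226

theorem principal_of_radical {A : Type u} [CommRing A] [IsDomain A] [UniqueFactorizationMonoid A] :
    ∀ (s : Finset (Ideal A)), (∀ p ∈ s, p.IsPrime ∧ ∃ f, Prime f ∧ p = Ideal.span {f}) →
      ∃ f : A, f ≠ 0 ∧ (∀ q : A, Prime q → q ∣ f → Ideal.span {q} ∈ s) ∧ s.inf id = Ideal.span {f} := by
  classical
  intro s
  induction s using Finset.induction_on with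
  | empty => intro _; exact ⟨1, one_ne_zero, fun q hq hd => absurd (isUnit_of_dvd_one hd) hq.not_unit, by simp⟩
  | insert p s hp ih =>
    intro hs
    obtain ⟨f, hf0, hfd, hfe⟩ := ih fun q hq => hs q (Finset.mem_insert_of_mem hq)
    obtain ⟨hpp, g, hg, rfl⟩ := hs p (Finset.mem_insert_self _ _)
    refine ⟨g * f, mul_ne_zero hg.ne_zero hf0, fun q hq hd => ?_, ?_⟩
    · rcases hq.dvd_or_dvd hd with h | h
      · exact Finset.mem_insert.2 (Or.inl (Ideal.span_singleton_eq_span_singleton.2 (hq.associated_of_dvd hg h)))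
      · exact Finset.mem_insert_of_mem (hfd q hq h)
    · rw [Finset.inf_insert, id_eq, hfe]
      have hnd : ¬ g ∣ f := fun h => hp (hfd g hg h)
      refine le_antisymm (fun a ⟨h1, h2⟩ => ?_) (Ideal.span_singleton_le_iff_mem _ |>.2
        ⟨Ideal.mem_span_singleton.2 (dvd_mul_right g f), Ideal.mem_span_singleton.2 (dvd_mul_left f g)⟩)
      obtain ⟨c, rfl⟩ := Ideal.mem_span_singleton.1 h2
      have : g ∣ c := (hg.dvd_or_dvd (Ideal.mem_span_singleton.1 h1)).resolve_left hnd
      obtain ⟨c', rfl⟩ := this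
      exact Ideal.mem_span_singleton.2 ⟨c', by ring⟩


/-- In a regular local ring of dimension two, an ideal inside the maximal ideal with reduced quotient is
zero, the maximal ideal, or principal. -/
theorem result (A : Type u) [CommRing A] [IsRegularLocalRing A] (hdim : ringKrullDim A = 2)
    (I : Ideal A) (hI : I ≤ IsLocalRing.maximalIdeal A) [IsReduced (A ⧸ I)] :
    I = ⊥ ∨ I = IsLocalRing.maximalIdeal A ∨ ∃ f ∈ IsLocalRing.maximalIdeal A, f ≠ 0 ∧ I = Ideal.span {f} := by
  classical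
  obtain ⟨hD, hU⟩ := Groth.Agent.WQ8.ufd_of_regular A
  have hrad : I.radical = I := (Ideal.isRadical_iff_quotient_reduced I).2 inferInstance |>.radical
  let m := IsLocalRing.maximalIdeal A
  by_cases hm : m ∈ I.minimalPrimes
  · refine Or.inr (Or.inl (le_antisymm hI ?_))
    rw [← hrad, ← Ideal.sInf_minimalPrimes]
    exact le_sInf fun p hp =>
      hm.2 hp.1 (IsLocalRing.le_maximalIdeal hp.isPrime.ne_top)
  by_cases hb : (⊥ : Ideal A) ∈ I.minimalPrimes
  · exact Or.inl (le_bot_iff.1 hb.1.2)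
  have hprin : ∀ p ∈ I.minimalPrimes, p.IsPrime ∧ ∃ f, Prime f ∧ p = Ideal.span {f} := by
    intro p hp
    haveI := hp.isPrime
    have hp0 : p ≠ ⊥ := fun h => hb (h ▸ hp)
    obtain ⟨f, hf, hfp⟩ := Ideal.IsPrime.exists_mem_prime_of_ne_bot hp.isPrime hp0
    refine ⟨hp.isPrime, f, hfp, ((Ideal.span_singleton_le_iff_mem _).2 hf).antisymm' ?_⟩
    haveI : (Ideal.span {f}).IsPrime := (Ideal.span_singleton_prime hfp.ne_zero).2 hfp
    by_contra hle
    have hlt : Ideal.span {f} < p := lt_of_le_of_ne ((Ideal.span_singleton_le_iff_mem _).2 hf) fun h => hle h.ge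
    have hlt0 : (⊥ : Ideal A) < Ideal.span {f} := bot_lt_iff_ne_bot.2 (by simp [hfp.ne_zero])
    have hpm : p < m := lt_of_le_of_ne (IsLocalRing.le_maximalIdeal hp.isPrime.ne_top) fun h => hm (h ▸ hp)
    let c : LTSeries (PrimeSpectrum A) :=
      (((RelSeries.singleton _ (⟨⊥, Ideal.isPrime_bot⟩ : PrimeSpectrum A)).snoc ⟨Ideal.span {f}, inferInstance⟩
        hlt0).snoc ⟨p, hp.isPrime⟩ (by rw [RelSeries.last_snoc]; exact hlt)).snoc ⟨m, inferInstance⟩
        (by rw [RelSeries.last_snoc]; exact hpm)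
    have h3 : ((c.length : ℕ) : WithBot ℕ∞) ≤ 2 := hdim ▸ Order.LTSeries.length_le_krullDim c
    have : c.length = 3 := rfl
    rw [this] at h3
    norm_cast at h3
  obtain ⟨f, hf0, hfd, hfe⟩ := principal_of_radical (I.finite_minimalPrimes_of_isNoetherianRing A).toFinset
    fun p hp => hprin p ((Set.Finite.mem_toFinset _).1 hp)
  have hIf : I = Ideal.span {f} := by
    rw [← hfe, Finset.inf_id_eq_sInf, Set.Finite.coe_toFinset, Ideal.sInf_minimalPrimes, hrad]
  exact Or.inr (Or.inr ⟨f, hI (hIf ▸ Ideal.mem_span_singleton_self f), hf0, hIf⟩)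

end Groth.Agent.S0226
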