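import Groth.Statements.S0235
import Groth.Agent.ModStalk.Semilocal
import Mathlib.AlgebraicGeometry.Morphisms.QuasiFinite

set_option autoImplicit false
universe u
open CategoryTheory CategoryTheory.Limits AlgebraicGeometry
open Curves

namespace Groth.Agent.S0235

/-- For a finite morphism π : X → Y and an invertible module L on X, every point y of Y has an open
neighbourhood V such that L is trivial on the preimage of V. -/
theorem result {X Y : Scheme.{u}} (π : X ⟶ Y) [IsFinite π]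
    (L : X.Modules) (hL : PicF.IsInvertible L) (y : Y) :
    ∃ V : Y.Opens, y ∈ V ∧ Nonempty (L.restrict (π ⁻¹ᵁ V).ι ≅ Coh.structureModule (↑(π ⁻¹ᵁ V))) := by
  let one : ∀ (Z : Scheme.{u}), FlatMod.freeMod Z 1 ≅ Coh.structureModule Z := fun Z =>
    CategoryTheory.Limits.coproductUniqueIso fun _ : Fin 1 => Coh.structureModule Z
  have hE' : FlatMod.IsFinLocFree L := fun x => by
    obtain ⟨U, hxU, ⟨e⟩⟩ := hL x
    exact ⟨U, 1, hxU, ⟨e ≪≫ (one U).symm⟩⟩
  have := Groth.Agent.ModStalk.isFinitePresentation_of_isFinLocFree L hE'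
  have := Groth.Agent.ModStalk.isFiniteType_of_isFinLocFree L hE'
  obtain ⟨hfree, -⟩ := Groth.Agent.ModStalk.free_stalk_of_isFinLocFree L hE'
  have hrank : ∀ x : X, Module.finrank (X.presheaf.stalk x) (L.presheaf.stalk x) = 1 := fun x => by
    obtain ⟨U, hxU, ⟨e⟩⟩ := hL x
    exact (Groth.Agent.ModStalk.free_stalk_of_pullback U.ι L
      (((AlgebraicGeometry.Scheme.Modules.restrictFunctorIsoPullback U.ι).app _).symm ≪≫ e ≪≫ (one U).symm) ⟨x, hxU⟩).2
  obtain ⟨_, ⟨V₀, hV₀, rfl⟩, hyV₀, -⟩ := Y.isBasis_affineOpens.exists_subset_of_mem_open (Set.mem_univ y) isOpen_univ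
  have hZV : π ⁻¹' {y} ⊆ (π ⁻¹ᵁ V₀ : X.Opens) := fun x hx => by
    show π x ∈ V₀
    rw [show π x = y from hx]
    exact hyV₀
  obtain ⟨U, hUV, s, hZU, hU⟩ := Groth.Agent.ModStalk.exists_sections_span_finite L (hV₀.preimage π) (π ⁻¹' {y})
    (π.finite_preimage_singleton y) hZV 1 (fun z _ => hfree z) (fun z _ => hrank z)
  let V : Y.Opens := ⟨(π '' (U : Set X)ᶜ)ᶜ, (π.isClosedMap _ U.isOpen.isClosed_compl).isOpen_compl⟩
  have hVU : π ⁻¹ᵁ V ≤ U := fun x hx => by
    by_contra h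
    exact hx ⟨x, h, rfl⟩
  refine ⟨V, fun ⟨x, hx, hxy⟩ => hx (hZU hxy), ?_⟩
  obtain ⟨e⟩ := Groth.Agent.ModStalk.nonempty_iso_of_span L
    (fun i => L.presheaf.map (homOfLE (hVU.trans hUV)).op (s i)) (fun x _ => hfree x) (fun x _ => hrank x) fun x hx => by
      simp only [TopCat.Presheaf.germ_res_apply]
      exact hU x (hVU hx)
  exact ⟨e ≪≫ one _⟩

end Groth.Agent.S0235
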