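import Groth.Statements.S0237
import Mathlib

set_option autoImplicit false
universe u
open Pi1

namespace Groth.Agent.S0237

open CategoryTheory.Limits in
open AlgebraicGeometry CategoryTheory in
/-- If a morphism of schemes has dense image, pulling back finite etale covers along it is faithful. -/
theorem result {X Y : Scheme.{u}} (f : X ⟶ Y)
    (h : DenseRange f.base) : (FEt.restrict f).Faithful := by
  constructor
  intro A B g g' hgg
  have key : pullback.fst A.hom f ≫ g.left = pullback.fst A.hom f ≫ g'.left := by
    have h := congrArg (fun k => k.left ≫ pullback.fst B.hom f) hgg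
    simp [FEt.restrict] at h
    exact ((pullback.lift_fst _ _ _).symm.trans h).trans (pullback.lift_fst _ _ _)
  haveI : IsFinite B.hom := B.prop.1
  haveI : Etale B.hom := B.prop.2
  haveI : Etale A.hom := A.prop.2
  have hg : g.left ≫ B.hom = g'.left ≫ B.hom := by simp
  let m : A.left ⟶ pullback B.hom B.hom := pullback.lift g.left g'.left hg
  let q : pullback (pullback.diagonal B.hom) m ⟶ A.left := pullback.snd _ _
  haveI : IsOpenImmersion q := inferInstanceAs (IsOpenImmersion (pullback.snd _ _))
  haveI : IsClosedImmersion q := inferInstanceAs (IsClosedImmersion (pullback.snd _ _))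
  let l : pullback A.hom f ⟶ pullback (pullback.diagonal B.hom) m :=
    pullback.lift (pullback.fst A.hom f ≫ g.left) (pullback.fst A.hom f) (by
      apply pullback.hom_ext
      · simp only [Category.assoc, pullback.diagonal_fst, Category.comp_id]
        exact (congrArg (pullback.fst A.hom f ≫ ·) (pullback.lift_fst _ _ _)).symm
      · simp only [Category.assoc, pullback.diagonal_snd, Category.comp_id]
        exact key.trans (congrArg (pullback.fst A.hom f ≫ ·) (pullback.lift_snd _ _ _)).symm)
  have hd : Dense (Set.range ⇑(pullback.fst A.hom f)) := by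
    rw [Scheme.Pullback.range_fst]
    exact h.preimage A.hom.isOpenMap
  have hsub : Set.range ⇑(pullback.fst A.hom f) ⊆ Set.range ⇑q := by
    rintro _ ⟨x, rfl⟩
    exact ⟨l x, by rw [← Scheme.Hom.comp_apply, pullback.lift_snd]⟩
  have hq : Function.Surjective ⇑q := by
    have hcl : IsClosed (Set.range ⇑q) := q.isClosedEmbedding.isClosed_range
    rw [← Set.range_eq_univ, ← hcl.closure_eq]
    exact Set.eq_univ_of_univ_subset (hd.closure_eq.symm.subset.trans (closure_mono hsub))
  haveI : Surjective q := ⟨hq⟩
  haveI : IsIso q := by
    rw [isIso_iff_isOpenImmersion_and_epi_base]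
    refine ⟨inferInstance, ?_⟩
    rw [TopCat.epi_iff_surjective]
    exact hq
  have h1 : pullback.fst (pullback.diagonal B.hom) m = q ≫ g.left := by
    have := congrArg (fun k => k ≫ pullback.fst B.hom B.hom) (pullback.condition (f := pullback.diagonal B.hom) (g := m))
    simp only [Category.assoc, pullback.diagonal_fst, Category.comp_id] at this
    exact this.trans (congrArg (q ≫ ·) (pullback.lift_fst _ _ _))
  have h2 : pullback.fst (pullback.diagonal B.hom) m = q ≫ g'.left := by
    have := congrArg (fun k => k ≫ pullback.snd B.hom B.hom) (pullback.condition (f := pullback.diagonal B.hom) (g := m))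
    simp only [Category.assoc, pullback.diagonal_snd, Category.comp_id] at this
    exact this.trans (congrArg (q ≫ ·) (pullback.lift_snd _ _ _))
  exact MorphismProperty.Over.Hom.ext ((cancel_epi q).1 (h1.symm.trans h2))

end Groth.Agent.S0237
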