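import Groth.Statements.S0267
import Groth.Agent.GalCat.Reconstruct

set_option autoImplicit false
universe u v
open Pi1

namespace Groth.Agent.S0267

open CategoryTheory CategoryTheory.Limits in
/-- For an exact functor H between Galois categories, H is fully faithful exactly when it carries
connected objects to connected objects (both are equivalent to surjectivity of the induced map on
fundamental groups). -/
theorem result {C : Type u} [Category.{v} C]
    [GaloisCategory C] {D : Type u} [Category.{v} D] [GaloisCategory D]
    (H : C ⥤ D) [PreservesFiniteLimits H] [PreservesFiniteColimits H] :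
    (H.Full ∧ H.Faithful) ↔
      ∀ X : C, PreGaloisCategory.IsConnected X → PreGaloisCategory.IsConnected (H.obj X) := by
  let F' := PreGaloisCategory.GaloisCategory.getFiberFunctor D
  let F := PreGaloisCategory.GaloisCategory.getFiberFunctor C
  haveI : PreservesFiniteCoproducts F' := PreGaloisCategory.FiberFunctor.preservesFiniteCoproducts
  haveI : PreservesColimitsOfShape (Discrete WalkingPair) (H ⋙ F') := comp_preservesColimitsOfShape H F'
  haveI : (H ⋙ F').PreservesEpimorphisms := ⟨fun f _ => inferInstanceAs (Epi (F'.map (H.map f)))⟩
  haveI : PreservesFiniteLimits (H ⋙ F') := comp_preservesFiniteLimits H F'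
  obtain ⟨e⟩ := Groth.Agent.GalCat.nonempty_iso F (H ⋙ F')
    (Groth.Agent.GalCat.isInitial_of_isEmpty F (H ⋙ F'))
  haveI : PreGaloisCategory.FiberFunctor (H ⋙ F') := Groth.Agent.GalCat.fiberFunctor_of_iso F e
  rw [← Groth.Agent.GalCat.surjective_iff_full H F']
  exact ⟨fun hs X _ => Groth.Agent.GalCat.connected_of_surjective H F' hs,
    Groth.Agent.GalCat.surjective_of_connected H F'⟩

end Groth.Agent.S0267
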