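import Groth.Statements.S0283
import Groth.Agent.Misc9.EtUH
-- import your own Groth.Agent.* helpers here

set_option autoImplicit false
universe u
open Pi1

namespace Groth.Agent.S0283

open AlgebraicGeometry CategoryTheory CategoryTheory.Limits in
/-- Let f : X → Y be a morphism of schemes which is integral, universally injective and surjective (that
is, a universal homeomorphism). Then base change along f, from finite étale covers of Y to finite
étale covers of X, is a full and faithful functor. -/
theorem result {X Y : Scheme.{u}} (f : X ⟶ Y) [IsIntegralHom f] [UniversallyInjective f] [Surjective f] :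
    (FEt.restrict f).Full ∧ (FEt.restrict f).Faithful := by
  have key : ∀ (U V : FEt.Cat Y), Function.Bijective (fun φ : U ⟶ V => (FEt.restrict f).map φ) := by
    intro U V
    have hE : AlgebraicGeometry.Etale V.toComma.hom := V.prop.2
    have hb := Groth.Agent.Misc9.EtUH.bijective f V.toComma U.toComma
    constructor
    · intro a b h
      refine MorphismProperty.Over.Hom.ext ?_
      exact congrArg CommaMorphism.left (hb.1 (a₁ := a.hom) (a₂ := b.hom) (congrArg (fun t ↦ t.hom) h))
    · intro ψ
      obtain ⟨φ, hφ⟩ := hb.2 ψ.hom
      refine ⟨⟨φ, trivial, trivial⟩, MorphismProperty.Over.Hom.ext ?_⟩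
      exact congrArg CommaMorphism.left hφ
  exact ⟨⟨fun {U V} ψ ↦ (key U V).2 ψ⟩, ⟨fun {U V} a b h ↦ (key U V).1 h⟩⟩

end Groth.Agent.S0283
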