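import Groth.Statements.S0291
import Groth.Agent.ZClosure.Hartogs
import Mathlib.RingTheory.Ideal.GoingUp

set_option autoImplicit false
universe u
open Pi1

namespace Groth.Agent.S0291

theorem two_le_depth_of_ringEquiv {R S : Type u} [CommRing R] [CommRing S] [IsLocalRing R] [IsLocalRing S]
    [IsNoetherianRing R] [IsNoetherianRing S] (σ : R ≃+* S) (h : (2 : ℕ∞) ≤ LocCoh.depth R R) :
    (2 : ℕ∞) ≤ LocCoh.depth S S := by
  obtain ⟨rs, ⟨hreg, hm⟩, hl⟩ := Groth.Agent.IdealDepth.natCast_le_iff_exists.mp
    (show ((2 : ℕ) : ℕ∞) ≤ LocCoh.idealDepth (IsLocalRing.maximalIdeal R) R from h)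
  refine Groth.Agent.IdealDepth.natCast_le_iff_exists (n := 2).mpr ⟨rs.map σ, ⟨?_, fun r hr => ?_⟩, by rw [List.length_map, hl]⟩
  · exact (AddEquiv.isWeaklyRegular_congr (e := σ.toAddEquiv) <| List.forall₂_map_right_iff.mpr <|
      List.forall₂_same.mpr fun r _ x => map_mul σ r x).mp hreg
  · obtain ⟨r', hr', rfl⟩ := List.mem_map.mp hr
    have := hm r' hr'
    rwa [IsLocalRing.mem_maximalIdeal, mem_nonunits_iff, MulEquiv.isUnit_map]


open AlgebraicGeometry CategoryTheory CategoryTheory.Limits in
/-- Let A be a Noetherian local ring and B a finite A-algebra such that the local rings of Spec B at all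
closed points have depth at least 2. Then restriction from global sections of Spec B to sections
over the preimage of the punctured spectrum of A is an isomorphism. -/
theorem result (A B : Type u) [CommRing A] [IsNoetherianRing A] [IsLocalRing A] [CommRing B] [Algebra A B]
    [Module.Finite A B]
    (h : ∀ (m : Ideal B) (_ : m.IsMaximal), (2 : ℕ∞) ≤ LocCoh.depth (Localization.AtPrime m) (Localization.AtPrime m)) :
    IsIso ((Spec (CommRingCat.of B)).presheaf.map (homOfLE (le_top :
      Spec.map (CommRingCat.ofHom (algebraMap A B)) ⁻¹ᵁ FEt.puncturedSpec A ≤ ⊤)).op) := by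
  have : IsNoetherianRing B := IsNoetherianRing.of_finite A B
  rw [ConcreteCategory.isIso_iff_bijective]
  refine Groth.Agent.ZClosure.bijective_resX_top _ fun x hx => ?_
  let q : PrimeSpectrum B := x
  have hmax : q.asIdeal.IsMaximal := by
    have hcl : (Spec.map (CommRingCat.ofHom (algebraMap A B))).base x = IsLocalRing.closedPoint A := not_not.mp hx
    have hcomap : q.asIdeal.comap (algebraMap A B) = IsLocalRing.maximalIdeal A := congrArg PrimeSpectrum.asIdeal hcl
    exact Ideal.isMaximal_of_isIntegral_of_isMaximal_comap q.asIdeal (by rw [hcomap]; exact IsLocalRing.maximalIdeal.isMaximal A)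
  have hloc := AlgebraicGeometry.StructureSheaf.IsLocalization.to_stalk B q
  let σ : Localization.AtPrime q.asIdeal ≃+* (Spec (CommRingCat.of B)).presheaf.stalk x :=
    (@IsLocalization.algEquiv B _ q.asIdeal.primeCompl (Localization.AtPrime q.asIdeal) _ _ _
      ((Spec.structureSheaf B).presheaf.stalk q) _ (AlgebraicGeometry.StructureSheaf.stalkAlgebra B q) hloc).toRingEquiv
  exact two_le_depth_of_ringEquiv σ (h q.asIdeal hmax)

end Groth.Agent.S0291
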