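import Groth.Statements.S0303
import Mathlib

set_option autoImplicit false
universe u v
open InjHull

namespace Groth.Agent.S0303

/-- If M → E is an injective hull and M → I is any embedding into an injective module, then E embeds
into I compatibly with M and its image is a direct summand of I. -/
theorem result (R : Type u) [CommRing R] (M : Type u) [AddCommGroup M] [Module R M] (E : Type u) [AddCommGroup E] [Module R E] (I : Type u) [AddCommGroup I] [Module R I] (f : M →ₗ[R] E) (hf : InjHull.IsInjectiveHull f) (i : M →ₗ[R] I) (hi : Function.Injective i) (hI : Module.Injective R I) : ∃ α : E →ₗ[R] I, Function.Injective α ∧ α ∘ₗ f = i ∧ ∃ I' : Submodule R I, IsCompl (LinearMap.range α) I' := by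
  obtain ⟨α, hα⟩ := hI.out f hf.injective i
  have hαi : α ∘ₗ f = i := LinearMap.ext hα
  have hinj : Function.Injective α := by
    rw [← LinearMap.ker_eq_bot]
    by_contra hne
    refine hf.essential _ hne ?_
    rw [eq_bot_iff]
    rintro e ⟨he, m, rfl⟩
    have : i m = 0 := (hα m).symm.trans he
    have hm : m = 0 := hi (this.trans (map_zero i).symm)
    simp [hm]
  obtain ⟨r, hr⟩ := hf.isInjective.out α hinj LinearMap.id
  refine ⟨α, hinj, hαi, LinearMap.ker r, ⟨?_, ?_⟩⟩
  · rw [Submodule.disjoint_def]
    rintro _ ⟨e, rfl⟩ he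
    have : r (α e) = 0 := he
    rw [hr e, LinearMap.id_apply] at this
    simp [this]
  · rw [codisjoint_iff, eq_top_iff]
    intro x _
    refine Submodule.mem_sup.mpr ⟨α (r x), ⟨_, rfl⟩, x - α (r x), ?_, by abel⟩
    show r (x - α (r x)) = 0
    rw [map_sub, hr (r x), LinearMap.id_apply, sub_self]

end Groth.Agent.S0303
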