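import Groth.Statements.S0318
import Groth.Agent.LocCoh.ExtCriterion
import Groth.Agent.IdealDepth.Basic

set_option autoImplicit false
universe u v
open LocCoh

namespace Groth.Agent.S0318

/-- Part (1): =(3): for a finite module M over a Noetherian ring and an ideal I with IM ≠ M, the I-depth
of M is the least degree in which the local cohomology of M with support in I is nonzero. -/
theorem result (R : Type u) [CommRing R] [IsNoetherianRing R] (I : Ideal R) (M : Type u) [AddCommGroup M] [Module R M] [Module.Finite R M] (hIM : I • (⊤ : Submodule R M) ≠ ⊤) (n : ℕ) : LocCoh.idealDepth I M = n ↔ ((∀ i : ℕ, i < n → Subsingleton (LocCoh.H I i M)) ∧ Nontrivial (LocCoh.H I n M)) := by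
  have key : ∀ m : ℕ, (m : ℕ∞) ≤ LocCoh.idealDepth I M ↔ ∀ i < m, Subsingleton (LocCoh.H I i M) := by
    intro m
    rw [IdealDepth.natCast_le_iff_ext]
    constructor
    · intro h i hi
      exact LocCoh.H_of_Vn (LocCoh.Vn_of_module m (R ⧸ I)
        (by rw [Module.support_eq_zeroLocus, Ideal.annihilator_quotient]) h) hi
    · intro h i hi
      exact Goren.kills_one_iff.1 (LocCoh.kills_finite (LocCoh.Vn_of_H m h) _
        (LocCoh.support_quotient_subset fun q hq => hq) hi)
  constructor
  · intro h
    refine ⟨(key n).1 h.ge, not_subsingleton_iff_nontrivial.1 fun hn => ?_⟩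
    have : ((n + 1 : ℕ) : ℕ∞) ≤ LocCoh.idealDepth I M := (key (n + 1)).2 fun i hi => by
      rcases Nat.lt_succ_iff_lt_or_eq.1 hi with hi | rfl
      · exact (key n).1 h.ge i hi
      · exact hn
    rw [h, Nat.cast_le] at this
    omega
  · rintro ⟨h1, h2⟩
    refine le_antisymm (not_lt.1 fun hlt => ?_) ((key n).2 h1)
    have h3 : ((n + 1 : ℕ) : ℕ∞) ≤ LocCoh.idealDepth I M := by
      rw [Nat.cast_succ]; exact Order.add_one_le_of_lt hlt
    exact not_subsingleton_iff_nontrivial.2 h2 ((key (n + 1)).1 h3 n (Nat.lt_succ_self n))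

end Groth.Agent.S0318
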