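import Groth.Statements.S0319
import Groth.Agent.IdealDepth.Basic

set_option autoImplicit false
universe u v
open CategoryTheory
open LocCoh

namespace Groth.Agent.S0319

/-- Part (1): =(2): for a finite module M over a Noetherian ring and an ideal I with IM ≠ M, the I-depth
of M is the least i with Ext^i(R/I, M) nonzero. (Close to Mathlib's Rees criterion; kept at low
weight to pin our depth to Mathlib's Ext.) -/
theorem result (R : Type u) [CommRing R] [IsNoetherianRing R] (I : Ideal R) (M : Type u) [AddCommGroup M] [Module R M] [Module.Finite R M] (hIM : I • (⊤ : Submodule R M) ≠ ⊤) (n : ℕ) : LocCoh.idealDepth I M = n ↔ ((∀ i : ℕ, i < n → Subsingleton (Abelian.Ext (ModuleCat.of R (R ⧸ I)) (ModuleCat.of R M) i)) ∧ Nontrivial (Abelian.Ext (ModuleCat.of R (R ⧸ I)) (ModuleCat.of R M) n)) := by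
  open Groth.Agent.IdealDepth in
  constructor
  · intro h
    have h1 : E I M n := natCast_le_iff_ext.1 h.ge
    have h2 : ¬ E I M (n + 1) := fun hE => by
      have := natCast_le_iff_ext.2 hE
      rw [h] at this
      exact absurd (ENat.coe_le_coe.1 this) (by omega)
    refine ⟨h1, not_subsingleton_iff_nontrivial.1 fun hs => h2 fun i hi => ?_⟩
    rcases Nat.lt_succ_iff_lt_or_eq.1 hi with hi | rfl
    exacts [h1 i hi, hs]
  · rintro ⟨h1, h2⟩
    refine le_antisymm (not_lt.1 fun hlt => ?_) (natCast_le_iff_ext.2 h1)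
    have h3 : ((n + 1 : ℕ) : ℕ∞) ≤ LocCoh.idealDepth I M := by push_cast; exact Order.add_one_le_of_lt hlt
    have := natCast_le_iff_ext.1 h3 n (Nat.lt_succ_self n)
    exact not_subsingleton _ this

end Groth.Agent.S0319
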