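import Groth.Statements.S0328
import Groth.Agent.LocCoh.Restrict
import Groth.Agent.LocCoh.Artinian
import Mathlib.RingTheory.KrullDimension.Module

set_option autoImplicit false
universe u v
open LocCoh

namespace Groth.Agent.S0328

/-- In a Noetherian local ring, if a prime p and a proper ideal I together have radical the maximal
ideal and dim R/p = d ≥ 1, then local cohomology with support in I does not vanish in all degrees ≥
d. -/
theorem result (R : Type u) [CommRing R] [IsLocalRing R] [IsNoetherianRing R] (I : Ideal R) (hI : I ≠ ⊤) (p : Ideal R) [p.IsPrime] (hpI : (p ⊔ I).radical = IsLocalRing.maximalIdeal R) (d : ℕ) (hd : ringKrullDim (R ⧸ p) = d) (hd1 : 1 ≤ d) : ¬ LocCoh.CdLE R I (d - 1) := by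
  intro hcd
  haveI : IsLocalRing (R ⧸ p) := IsLocalRing.of_surjective' (Ideal.Quotient.mk p) Ideal.Quotient.mk_surjective
  have hm : IsLocalRing.maximalIdeal (R ⧸ p) = (IsLocalRing.maximalIdeal R).map (Ideal.Quotient.mk p) :=
    (IsLocalRing.map_maximalIdeal_of_surjective _ Ideal.Quotient.mk_surjective).symm
  have hrad : (IsLocalRing.maximalIdeal (R ⧸ p)).radical = (I.map (algebraMap R (R ⧸ p))).radical := by
    rw [(IsLocalRing.maximalIdeal.isMaximal (R ⧸ p)).isPrime.radical]
    refine le_antisymm ?_ ((IsLocalRing.maximalIdeal.isMaximal (R ⧸ p)).isPrime.radical_le_iff.2 ?_)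
    · rw [hm, ← hpI]
      refine (Ideal.map_radical_le _).trans (Ideal.radical_mono ?_)
      rw [Ideal.map_sup, Ideal.map_quotient_self, bot_sup_eq]
      exact le_rfl
    · rw [hm]
      exact Ideal.map_mono (IsLocalRing.le_maximalIdeal hI)
  haveI : Nontrivial (LocCoh.H (IsLocalRing.maximalIdeal (R ⧸ p)) d (R ⧸ p)) :=
    Groth.Agent.LocCoh.nontrivial_H_dim d (R ⧸ p) (by rw [Module.supportDim_self_eq_ringKrullDim]; exact hd)
  obtain ⟨φ⟩ := Groth.Agent.LocCoh.Restrict.congr_radical hrad d (R ⧸ p)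
  haveI := hcd (R ⧸ p) d (by omega)
  haveI : Subsingleton (LocCoh.H (I.map (algebraMap R (R ⧸ p))) d (R ⧸ p)) :=
    (Groth.Agent.LocCoh.Restrict.subsingleton_iff (Groth.Agent.LocCoh.Restrict.sameTorsion_map I) d (R ⧸ p)).2 inferInstance
  exact not_subsingleton (LocCoh.H (IsLocalRing.maximalIdeal (R ⧸ p)) d (R ⧸ p)) φ.symm.toEquiv.subsingleton

end Groth.Agent.S0328
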