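import Groth.Statements.S0329
import Groth.Agent.LocCoh.Seq
import Groth.Agent.LocCoh.Vanishing

set_option autoImplicit false
universe u v
open LocCoh

namespace Groth.Agent.S0329

open CategoryTheory

/-- Part (1): ⇔(2) with T = V(I) (Faltings): for a finite module M over a Noetherian ring, the local
cohomology modules H^i_I(M) for i ≤ n are all finitely generated exactly when some ideal J with I
contained in the radical of J kills all of them. -/
theorem result (R : Type u) [CommRing R] [IsNoetherianRing R] (I : Ideal R) (M : Type u) [AddCommGroup M] [Module R M] [Module.Finite R M] (n : ℕ) : (∀ i : ℕ, i ≤ n → Module.Finite R (LocCoh.H I i M)) ↔ ∃ J : Ideal R, I ≤ J.radical ∧ ∀ i : ℕ, i ≤ n → ∀ a ∈ J, ∀ x : LocCoh.H I i M, a • x = 0 := by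
  classical
  constructor
  · intro h
    have hk : ∀ i ∈ Finset.range (n + 1), ∃ k, ∀ a ∈ I ^ k, ∀ x : LocCoh.H I i M, a • x = 0 := fun i hi => by
      haveI := h i (by simpa [Nat.lt_succ_iff] using hi)
      obtain ⟨k, hk⟩ := Groth.Agent.LocCoh.exists_pow_kills I (Groth.Agent.LocCoh.isPowerTorsion_H I i (ModuleCat.of R M))
        (S := ⊤) Module.Finite.fg_top
      exact ⟨k, fun a ha x => hk a ha x trivial⟩
    choose k hk using hk
    refine ⟨I ^ ((Finset.range (n + 1)).attach.sup fun i => k i.1 i.2), fun a ha => ⟨_, Ideal.pow_mem_pow ha _⟩,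
      fun i hi a ha x => hk i (Finset.mem_range.2 (Nat.lt_succ_iff.2 hi)) a (Ideal.pow_le_pow_right
        (Finset.le_sup (f := fun j : {x // x ∈ Finset.range (n + 1)} => k j.1 j.2) (Finset.mem_attach _ ⟨i, Finset.mem_range.2 (Nat.lt_succ_iff.2 hi)⟩)) ha) x⟩
  · rintro ⟨J, hJ, hkill⟩
    obtain ⟨k, hk⟩ := Ideal.exists_pow_le_of_le_radical_of_fg hJ (IsNoetherian.noetherian I)
    suffices key : ∀ (n k : ℕ) (M : Type u) [AddCommGroup M] [Module R M] [Module.Finite R M],
        (∀ i ≤ n, ∀ a ∈ I ^ k, ∀ x : LocCoh.H I i M, a • x = 0) → ∀ i ≤ n, Module.Finite R (LocCoh.H I i M) from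
      key n k M fun i hi a ha => hkill i hi a (hk ha)
    intro n
    induction n with
    | zero =>
      intro k M _ _ _ _ i hi
      obtain rfl := Nat.le_zero.1 hi
      exact Module.Finite.of_injective _ (Groth.Agent.LocCoh.h0_injective I (ModuleCat.of R M))
    | succ n ih =>
      intro k M _ _ _ h i hi
      rcases Nat.lt_or_eq_of_le hi with hlt | rfl
      · exact ih k M (fun i hi => h i (by omega)) i (by omega)
      let N := M ⧸ Groth.Agent.LocCoh.gamma I M
      let e := Groth.Agent.LocCoh.quotTorsionEquiv I (Groth.Agent.LocCoh.gamma I M) (Groth.Agent.LocCoh.isPowerTorsion_gamma I M)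
      have hbot := Groth.Agent.LocCoh.gamma_quotient_eq_bot I (M := M)
      have hN : ∀ i ≤ n + 1, ∀ a ∈ I ^ k, ∀ x : LocCoh.H I i N, a • x = 0 := fun i hi a ha x => by
        cases i with
        | zero =>
          refine Groth.Agent.LocCoh.h0_injective I (ModuleCat.of R N) ?_
          have hmem : Groth.Agent.LocCoh.h0 I (ModuleCat.of R N) x ∈ Groth.Agent.LocCoh.gamma I N :=
            (Groth.Agent.LocCoh.mem_range_h0 I (ModuleCat.of R N)).1 ⟨x, rfl⟩
          rw [hbot, Submodule.mem_bot] at hmem
          rw [map_smul, hmem, smul_zero, map_zero]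
        | succ j =>
          obtain ⟨y, rfl⟩ := (e j).surjective x
          rw [← map_smul, h (j + 1) hi a ha y, map_zero]
      suffices Module.Finite R (LocCoh.H I (n + 1) N) from Module.Finite.equiv (e n).symm
      obtain ⟨x₀, hx₀, hreg, -⟩ := Groth.Agent.LocCoh.exists_regular I hbot ∅ (fun _ hp => absurd hp (Finset.notMem_empty _))
      let x := x₀ ^ k
      have hxk : x ∈ I ^ k := Ideal.pow_mem_pow hx₀ k
      have hS := Groth.Agent.LocCoh.smulSeq_shortExact (hreg.pow k)
      have hQ : ∀ i ≤ n, ∀ a ∈ I ^ (k + k), ∀ z : LocCoh.H I i (QuotSMulTop x N), a • z = 0 := by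
        intro i hi a ha z
        rw [pow_add] at ha
        refine Submodule.mul_induction_on ha (fun b hb c hc => ?_) (fun b c hb hc => by rw [add_smul, hb, hc, add_zero])
        obtain ⟨w, hw⟩ := (Groth.Agent.LocCoh.exact₃ I i hS (c • z)).1 ((LinearMap.map_smul (Groth.Agent.LocCoh.delta I i hS) c z).trans (hN (i + 1) (by omega) c hc _))
        rw [mul_smul, ← hw]
        let G := ((Groth.Agent.LocCoh.HF I i).map ((ModuleCat.of R N).smulShortComplex x).g).hom
        have hbw : b • w = 0 := hN i (by omega) b hb w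
        exact (LinearMap.map_smul G b w).symm.trans ((congrArg G hbw).trans (map_zero G))
      haveI : Module.Finite R ((Groth.Agent.LocCoh.HF I n).obj ((ModuleCat.of R N).smulShortComplex x).X₃) :=
        ih (k + k) (QuotSMulTop x N) hQ n le_rfl
      refine Module.Finite.of_surjective (Groth.Agent.LocCoh.delta I n hS) fun y => ?_
      exact (Groth.Agent.LocCoh.exact₁ I n hS y).1 ((Groth.Agent.LocCoh.map_smulSeq I (n + 1) x y).trans (hN (n + 1) le_rfl x hxk y))

end Groth.Agent.S0329
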