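import Groth.Statements.S0330
import Groth.Agent.LocCoh.Seq
import Groth.Agent.LocCoh.Vanishing
import Mathlib.Algebra.Module.LocalizedModule.Exact
import Mathlib.RingTheory.Localization.Finiteness

set_option autoImplicit false
universe u v
open LocCoh

namespace Groth.Agent.S0330

open CategoryTheory

/-- For a finite module M over a Noetherian ring, finiteness of the local cohomology modules H^i_I(M)
for i ≤ n can be checked after localizing at each prime. -/
theorem result (R : Type u) [CommRing R] [IsNoetherianRing R] (I : Ideal R) (M : Type u) [AddCommGroup M] [Module R M] [Module.Finite R M] (n : ℕ) : (∀ i : ℕ, i ≤ n → Module.Finite R (LocCoh.H I i M)) ↔ ∀ (p : Ideal R) [p.IsPrime], ∀ i : ℕ, i ≤ n → Module.Finite (Localization.AtPrime p) (LocalizedModule p.primeCompl (LocCoh.H I i M)) := by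
  classical
  constructor
  · intro h p _ i hi
    haveI := h i hi
    exact Module.Finite.of_isLocalizedModule p.primeCompl (LocalizedModule.mkLinearMap p.primeCompl (LocCoh.H I i M))
  suffices key : ∀ (n : ℕ) (M : Type u) [AddCommGroup M] [Module R M] [Module.Finite R M],
      (∀ (p : Ideal R) [p.IsPrime], ∀ i ≤ n, Module.Finite (Localization.AtPrime p) (LocalizedModule p.primeCompl (LocCoh.H I i M))) →
      ∀ i ≤ n, Module.Finite R (LocCoh.H I i M) from fun h => key n M h
  intro n
  induction n with
  | zero =>
    intro M _ _ _ _ i hi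
    obtain rfl := Nat.le_zero.1 hi
    exact Module.Finite.of_injective _ (Groth.Agent.LocCoh.h0_injective I (ModuleCat.of R M))
  | succ n ih =>
    intro M _ _ _ h i hi
    rcases Nat.lt_or_eq_of_le hi with hlt | rfl
    · exact ih M (fun p _ i hi => h p i (by omega)) i (by omega)
    let N := M ⧸ Groth.Agent.LocCoh.gamma I M
    let e := Groth.Agent.LocCoh.quotTorsionEquiv I (Groth.Agent.LocCoh.gamma I M) (Groth.Agent.LocCoh.isPowerTorsion_gamma I M)
    have hbot := Groth.Agent.LocCoh.gamma_quotient_eq_bot I (M := M)
    have hN : ∀ (p : Ideal R) [p.IsPrime], ∀ i ≤ n + 1, Module.Finite (Localization.AtPrime p) (LocalizedModule p.primeCompl (LocCoh.H I i N)) := by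
      intro p _ i hi
      cases i with
      | zero =>
        haveI : Subsingleton (LocCoh.H I 0 N) := subsingleton_of_forall_eq 0 fun z => by
          refine Groth.Agent.LocCoh.h0_injective I (ModuleCat.of R N) ?_
          have hmem : Groth.Agent.LocCoh.h0 I (ModuleCat.of R N) z ∈ Groth.Agent.LocCoh.gamma I N :=
            (Groth.Agent.LocCoh.mem_range_h0 I (ModuleCat.of R N)).1 ⟨z, rfl⟩
          rw [hbot, Submodule.mem_bot] at hmem
          rw [hmem, map_zero]
        haveI : Module.Finite R (LocCoh.H I 0 N) := inferInstance
        exact Module.Finite.of_isLocalizedModule p.primeCompl (LocalizedModule.mkLinearMap p.primeCompl (LocCoh.H I 0 N))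
      | succ j =>
        haveI := h p (j + 1) hi
        exact Module.Finite.of_surjective (LocalizedModule.map p.primeCompl (e j).toLinearMap)
          (LocalizedModule.map_surjective p.primeCompl _ (e j).surjective)
    suffices hfin : Module.Finite R (LocCoh.H I (n + 1) N) from Module.Finite.equiv (e n).symm
    obtain ⟨x, hx, hreg, -⟩ := Groth.Agent.LocCoh.exists_regular I hbot ∅ (fun _ hp => absurd hp (Finset.notMem_empty _))
    let T := LocCoh.H I (n + 1) N
    let K : ℕ → Submodule R T := fun k => LinearMap.ker (x ^ k • (LinearMap.id : T →ₗ[R] T))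
    have hKmem : ∀ k (t : T), t ∈ K k ↔ x ^ k • t = 0 := fun k t => Iff.rfl
    have hK : ∀ k, (K k).FG := by
      intro k
      have hS := Groth.Agent.LocCoh.smulSeq_shortExact (hreg.pow k)
      have hQ : ∀ (p : Ideal R) [p.IsPrime], ∀ i ≤ n, Module.Finite (Localization.AtPrime p) (LocalizedModule p.primeCompl (LocCoh.H I i (QuotSMulTop (x ^ k) N))) := by
        intro p _ i hi
        let f : LocCoh.H I i N →ₗ[R] LocCoh.H I i (QuotSMulTop (x ^ k) N) := ((Groth.Agent.LocCoh.HF I i).map ((ModuleCat.of R N).smulShortComplex (x ^ k)).g).hom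
        let g : LocCoh.H I i (QuotSMulTop (x ^ k) N) →ₗ[R] LocCoh.H I (i + 1) N := Groth.Agent.LocCoh.delta I i hS
        have hex : Function.Exact f g := Groth.Agent.LocCoh.exact₃ I i hS
        haveI := hN p i (by omega)
        haveI := hN p (i + 1) (by omega)
        haveI : IsNoetherianRing (Localization.AtPrime p) := IsLocalization.isNoetherianRing p.primeCompl _ inferInstance
        have hex' : Function.Exact (LocalizedModule.map p.primeCompl f) (LocalizedModule.map p.primeCompl g) :=
          LocalizedModule.map_exact p.primeCompl f g hex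
        haveI := isNoetherian_of_range_eq_ker (LocalizedModule.map p.primeCompl f) (LocalizedModule.map p.primeCompl g) (LinearMap.exact_iff.1 hex').symm
        infer_instance
      haveI : Module.Finite R ((Groth.Agent.LocCoh.HF I n).obj ((ModuleCat.of R N).smulShortComplex (x ^ k)).X₃) :=
        ih (QuotSMulTop (x ^ k) N) hQ n le_rfl
      let δ : (Groth.Agent.LocCoh.HF I n).obj ((ModuleCat.of R N).smulShortComplex (x ^ k)).X₃ →ₗ[R] T := Groth.Agent.LocCoh.delta I n hS
      have hr : K k = LinearMap.range δ := by
        ext t
        rw [hKmem]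
        constructor
        · exact fun ht => (Groth.Agent.LocCoh.exact₁ I n hS t).1 ((Groth.Agent.LocCoh.map_smulSeq I (n + 1) (x ^ k) t).trans ht)
        · intro ht
          exact (Groth.Agent.LocCoh.map_smulSeq I (n + 1) (x ^ k) t).symm.trans ((Groth.Agent.LocCoh.exact₁ I n hS t).2 ht)
      rw [hr, LinearMap.range_eq_map]
      exact Submodule.FG.map δ Module.Finite.fg_top
    let a : ℕ →o Ideal R := ⟨fun k =>
      { carrier := {r | ∀ t ∈ K (k + 1), r • t ∈ K k}
        add_mem' := fun ha hb t ht => by rw [add_smul]; exact add_mem (ha t ht) (hb t ht)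
        zero_mem' := fun t _ => by rw [zero_smul]; exact zero_mem _
        smul_mem' := fun c r hr t ht => by rw [smul_eq_mul, mul_smul]; exact Submodule.smul_mem _ c (hr t ht) },
      monotone_nat_of_le_succ fun k r hr t ht => by
        have h1 : x • t ∈ K (k + 1) := by rw [hKmem, ← mul_smul, ← pow_succ]; exact (hKmem _ t).1 ht
        have h2 := (hKmem _ _).1 (hr _ h1)
        rw [hKmem, pow_succ, mul_smul, smul_comm x r t]
        exact h2⟩
    obtain ⟨l, hl⟩ := monotone_stabilizes_iff_noetherian.2 inferInstance a
    have htop : a l = ⊤ := by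
      by_contra hne
      obtain ⟨p, hp, hle⟩ := Ideal.exists_le_maximal _ hne
      haveI := hp.isPrime
      obtain ⟨s, hs⟩ := (hN p (n + 1) le_rfl).fg_top
      choose m hm using fun z : LocalizedModule p.primeCompl T => IsLocalizedModule.surj p.primeCompl (LocalizedModule.mkLinearMap p.primeCompl T) z
      choose kz hkz using fun t : T => Groth.Agent.LocCoh.isPowerTorsion_H I (n + 1) (ModuleCat.of R N) t
      let B := l + s.sup fun z => kz (m z).1
      have hkill : ∀ z : LocalizedModule p.primeCompl T, x ^ B • z = 0 := by
        intro z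
        have hz : z ∈ Submodule.span (Localization.AtPrime p) (s : Set (LocalizedModule p.primeCompl T)) := hs ▸ trivial
        induction hz using Submodule.span_induction with
        | zero => exact smul_zero _
        | add u v _ _ hu hv => rw [smul_add, hu, hv, add_zero]
        | smul c u _ hu => rw [smul_comm, hu, smul_zero]
        | mem u hu =>
          have h1 : x ^ B • (m u).1 = 0 := hkz _ _ (Ideal.pow_le_pow_right
            (le_add_left (Finset.le_sup (f := fun z => kz (m z).1) hu)) (Ideal.pow_mem_pow hx B))
          have hu2 : IsUnit (algebraMap R (Module.End R (LocalizedModule p.primeCompl T)) ((m u).2 : R)) :=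
            IsLocalizedModule.map_units (LocalizedModule.mkLinearMap p.primeCompl T) (m u).2
          refine ((Module.End.isUnit_iff _).1 hu2).1 ?_
          show ((m u).2 : R) • x ^ B • u = ((m u).2 : R) • 0
          rw [smul_zero, smul_comm, ← Submonoid.smul_def, hm u, ← map_smul, h1, map_zero]
      obtain ⟨g, hg⟩ := hK (B + 1)
      have hu : ∀ t : T, ∃ u : p.primeCompl, (u : R) • x ^ B • t = 0 := fun t => by
        obtain ⟨u, hu⟩ := IsLocalizedModule.exists_of_eq (S := p.primeCompl) (x₁ := x ^ B • t) (x₂ := 0)
          (((map_smul (LocalizedModule.mkLinearMap p.primeCompl T) _ t).trans (hkill _)).trans (map_zero _).symm)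
        exact ⟨u, by rw [Submonoid.smul_def, smul_zero] at hu; exact hu⟩
      choose u hu using hu
      have hprod : (∏ t ∈ g, (u t : R)) ∈ a B := by
        intro t ht
        rw [← hg] at ht
        induction ht using Submodule.span_induction with
        | zero => rw [smul_zero]; exact zero_mem _
        | add v w _ _ hv hw => rw [smul_add]; exact add_mem hv hw
        | smul c v _ hv => rw [smul_comm]; exact Submodule.smul_mem _ c hv
        | mem v hv =>
          obtain ⟨c, hc⟩ := Finset.dvd_prod_of_mem (fun t => (u t : R)) hv
          rw [hKmem, hc, smul_comm, mul_comm, mul_smul, hu v, smul_zero]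
      rw [← hl B (Nat.le_add_right _ _)] at hprod
      exact (Submonoid.prod_mem p.primeCompl (fun t _ => (u t).2) : ∏ t ∈ g, (u t : R) ∈ p.primeCompl) (hle hprod)
    have hall : ∀ k, K k ≤ K l := by
      intro k
      induction k with
      | zero => exact fun t ht => by rw [hKmem, pow_zero, one_smul] at ht; rw [ht]; exact zero_mem _
      | succ k ihk =>
        rcases Nat.lt_or_ge k l with hkl | hkl
        · intro t ht
          obtain ⟨d, rfl⟩ := Nat.exists_eq_add_of_le (Nat.succ_le_of_lt hkl)
          rw [hKmem] at ht ⊢
          rw [add_comm k.succ d, pow_add, mul_smul, ht, smul_zero]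
        · intro t ht
          refine ihk ?_
          have h1 : (1 : R) ∈ a k := by rw [← hl k hkl, htop]; trivial
          exact (one_smul R t) ▸ h1 t ht
    refine Module.finite_def.2 ?_
    rw [show (⊤ : Submodule R T) = K l from le_antisymm (fun t _ => ?_) le_top]
    · exact hK l
    · obtain ⟨j, hj⟩ := Groth.Agent.LocCoh.isPowerTorsion_H I (n + 1) (ModuleCat.of R N) t
      exact hall j ((hKmem j t).2 (hj _ (Ideal.pow_mem_pow hx j)))

end Groth.Agent.S0330
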