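import Groth.Statements.S0331
import Groth.Agent.LocCoh.Seq
import Groth.Agent.S0329
import Mathlib.Algebra.Module.LocalizedModule.Basic

set_option autoImplicit false
universe u v
open LocCoh

namespace Groth.Agent.S0331

open CategoryTheory CategoryTheory.Abelian

/-- Over a Noetherian ring, if H^i_I(R) is finitely generated for i ≤ n, then so is H^i_I(M) for i ≤ n
for every finite module M that becomes finite projective after inverting any single element of I. -/
theorem result (R : Type u) [CommRing R] [IsNoetherianRing R] (I : Ideal R) (n : ℕ) (hR : ∀ i : ℕ, i ≤ n → Module.Finite R (LocCoh.H I i R)) (M : Type u) [AddCommGroup M] [Module R M] [Module.Finite R M] (hM : ∀ f ∈ I, Module.Projective (Localization.Away f) (LocalizedModule (Submonoid.powers f) M)) (i : ℕ) (hi : i ≤ n) : Module.Finite R (LocCoh.H I i M) := by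
  classical
  suffices h : ∃ J : Ideal R, I ≤ J.radical ∧ ∀ i : ℕ, i ≤ n → ∀ a ∈ J, ∀ x : LocCoh.H I i M, a • x = 0 from
    (Groth.Agent.S0329.result R I M n).2 h i hi
  obtain ⟨J, hJ, hJk⟩ := (Groth.Agent.S0329.result R I R n).1 hR
  obtain ⟨t, π, hπ⟩ := Module.Finite.exists_fin' R M
  have hfree : ∀ (t i : ℕ), i ≤ n → ∀ a ∈ J, ∀ x : LocCoh.H I i (Fin t → R), a • x = 0 := by
    intro t i hi a ha x
    obtain ⟨k, ξ, rfl⟩ := Groth.Agent.LocCoh.exists_toH I i (ModuleCat.of R (Fin t → R)) x
    have hid : ξ = ∑ j : Fin t, (ξ.comp (Ext.mk₀ (ModuleCat.ofHom (LinearMap.proj j : (Fin t → R) →ₗ[R] R))) (add_zero i)).comp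
        (Ext.mk₀ (ModuleCat.ofHom (LinearMap.single R (fun _ : Fin t => R) j))) (add_zero i) := by
      simp only [Ext.comp_assoc_of_third_deg_zero, Ext.mk₀_comp_mk₀, ← Ext.comp_sum, ← Ext.mk₀_sum]
      have : (∑ j : Fin t, ModuleCat.ofHom (LinearMap.proj j : (Fin t → R) →ₗ[R] R) ≫
          ModuleCat.ofHom (LinearMap.single R (fun _ : Fin t => R) j)) = 𝟙 (ModuleCat.of R (Fin t → R)) := by
        refine ModuleCat.hom_ext (LinearMap.ext fun v => ?_)
        rw [ModuleCat.hom_sum, LinearMap.sum_apply]
        exact Finset.univ_sum_single v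
      rw [this, Ext.comp_mk₀_id]
    rw [hid, map_sum, Finset.smul_sum]
    refine Finset.sum_eq_zero fun j _ => ?_
    rw [← Groth.Agent.LocCoh.map_toH]
    refine (LinearMap.map_smul ((Groth.Agent.LocCoh.HF I i).map _).hom a _).symm.trans ?_
    rw [show a • Groth.Agent.LocCoh.toH I i (ModuleCat.of R R) k _ = 0 from hJk i hi a ha _]
    exact map_zero _
  have hsec : ∀ f ∈ I, ∃ (k : ℕ) (σ : M →ₗ[R] (Fin t → R)), ∀ m, π (σ m) = f ^ k • m := by
    intro f hf
    haveI := hM f hf
    let S := Submonoid.powers f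
    let Mf := LocalizedModule S M
    let Ff := LocalizedModule S (Fin t → R)
    let πf : Ff →ₗ[Localization S] Mf := LocalizedModule.map S π
    obtain ⟨σ, hσ⟩ := Module.projective_lifting_property πf LinearMap.id (LocalizedModule.map_surjective S π hπ)
    have hFin : Module.FinitePresentation R M := Module.finitePresentation_of_finite R M
    obtain ⟨⟨σ', s⟩, hs⟩ := IsLocalizedModule.surj S (LocalizedModule.map S : (M →ₗ[R] (Fin t → R)) →ₗ[R] _) σ
    obtain ⟨k, hk⟩ := s.2
    change f ^ k = (s : R) at hk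
    have heq : ∀ m : M, LocalizedModule.mkLinearMap S M (π (σ' m)) = LocalizedModule.mkLinearMap S M (f ^ k • m) := fun m => by
      have h1 := LinearMap.congr_fun hs (LocalizedModule.mk m 1)
      rw [Submonoid.smul_def, LinearMap.smul_apply] at h1
      simp only [LocalizedModule.map_mk] at h1
      have h2 := congrArg πf h1
      rw [LinearMap.map_smul_of_tower] at h2
      rw [show πf (σ (LocalizedModule.mk m 1)) = LocalizedModule.mk m 1 from LinearMap.congr_fun hσ _] at h2
      simp only [πf, LocalizedModule.map_mk] at h2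
      rw [← hk, LocalizedModule.smul'_mk] at h2
      exact (LocalizedModule.map_mk (S := S) π (σ' m) 1).symm.trans h2.symm
    choose u hu using fun m => IsLocalizedModule.exists_of_eq (S := S) (heq m)
    obtain ⟨g, hg⟩ := Module.Finite.fg_top (R := R) (M := M)
    choose l hl using fun m => (u m).2
    let L := g.sup l
    refine ⟨k + L, f ^ L • σ', fun m => ?_⟩
    have hm : m ∈ Submodule.span R (g : Set M) := hg ▸ trivial
    induction hm using Submodule.span_induction with
    | mem x hx =>
      obtain ⟨e, he⟩ := Nat.exists_eq_add_of_le (Finset.le_sup (f := l) hx)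
      rw [LinearMap.smul_apply, map_smul, show g.sup l = L from rfl] at *
      have hlx : (u x : R) = f ^ l x := (hl x).symm
      rw [he, add_comm (l x) e, pow_add, mul_smul, ← hlx, ← Submonoid.smul_def, hu x, Submonoid.smul_def, hlx, ← mul_smul, ← mul_smul]
      congr 1
      ring
    | zero => simp
    | add x y _ _ hx hy => rw [map_add, map_add, hx, hy, smul_add]
    | smul c x _ hx => rw [map_smul, map_smul, hx, smul_comm]
  choose k σ hσ using hsec
  refine ⟨⨆ f : I, Ideal.span {(f : R) ^ k f f.2} * J, fun f hf => ?_, fun i hi a ha x => ?_⟩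
  · obtain ⟨e, he⟩ := hJ hf
    refine ⟨k f hf + e, Submodule.mem_iSup_of_mem (⟨f, hf⟩ : I) ?_⟩
    rw [pow_add]
    exact Ideal.mul_mem_mul (Ideal.mem_span_singleton_self _) he
  · refine Submodule.iSup_induction _ (motive := fun a => a • x = 0) ha ?_ (zero_smul R x) (fun a b ha hb => by rw [add_smul, ha, hb, add_zero])
    · intro f a ha
      obtain ⟨c, hc, rfl⟩ := Ideal.mem_span_singleton_mul.1 ha
      rw [mul_smul]
      refine (Groth.Agent.LocCoh.map_smul_id I i (ModuleCat.of R M) ((f : R) ^ k f f.2) (c • x)).symm.trans ?_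
      rw [show ((f : R) ^ k f f.2) • 𝟙 (ModuleCat.of R M) = ModuleCat.ofHom (σ f f.2) ≫ ModuleCat.ofHom π from
        ModuleCat.hom_ext (LinearMap.ext fun m => (hσ f f.2 m).symm), Functor.map_comp]
      refine (congrArg ((Groth.Agent.LocCoh.HF I i).map (ModuleCat.ofHom π)).hom
        ((LinearMap.map_smul ((Groth.Agent.LocCoh.HF I i).map (ModuleCat.ofHom (σ f f.2))).hom c x).trans (hfree t i hi c hc _))).trans (map_zero _)

end Groth.Agent.S0331
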