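import Groth.Statements.S0333
import Groth.Agent.LocCoh.Vanishing
import Groth.Agent.LocCoh.ExtCriterion
import Mathlib.RingTheory.KrullDimension.Module

set_option autoImplicit false
universe u v
open LocCoh

namespace Groth.Agent.S0333

open CategoryTheory

/-- Over a Noetherian ring of dimension d, if H^d_I(M) = 0 for one finite module M whose support
contains every minimal prime p with dim R/p = d, then H^i_I vanishes in degrees ≥ d on all modules. -/
theorem result (R : Type u) [CommRing R] [IsNoetherianRing R] (I : Ideal R) (d : ℕ) (hd : ringKrullDim R = d) (M : Type u) [AddCommGroup M] [Module R M] [Module.Finite R M] (hsupp : ∀ p ∈ minimalPrimes R, ringKrullDim (R ⧸ p) = d → ∀ hp : p.IsPrime, (⟨p, hp⟩ : PrimeSpectrum R) ∈ Module.support R M) (hvan : Subsingleton (LocCoh.H I d M)) (N : Type u) [AddCommGroup N] [Module R N] (i : ℕ) (hi : d ≤ i) : Subsingleton (LocCoh.H I i N) := by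
  rcases Nat.lt_or_eq_of_le hi with hlt | rfl
  · exact Groth.Agent.LocCoh.subsingleton_of_supportDim_lt I i N
      (lt_of_le_of_lt (Module.supportDim_le_ringKrullDim R N) (by rw [hd]; exact_mod_cast hlt))
  have htop : ∀ (P : Type u) [AddCommGroup P] [Module R P], Subsingleton (LocCoh.H I (d + 1) P) := fun P _ _ =>
    Groth.Agent.LocCoh.subsingleton_of_supportDim_lt I (d + 1) P
      (lt_of_le_of_lt (Module.supportDim_le_ringKrullDim R P) (by rw [hd]; exact_mod_cast Nat.lt_succ_self d))
  have hquot : ∀ (P Q : Type u) [AddCommGroup P] [Module R P] [AddCommGroup Q] [Module R Q] (g : P →ₗ[R] Q),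
      Function.Surjective g → Subsingleton (LocCoh.H I d P) → Subsingleton (LocCoh.H I d Q) := by
    intro P Q _ _ _ _ g hg hP
    have hS := LinearMap.shortExact_shortComplexKer hg
    refine subsingleton_of_forall_eq 0 fun y => ?_
    haveI := htop (LinearMap.ker g)
    obtain ⟨z, rfl⟩ := (Groth.Agent.LocCoh.exact₃ I d hS y).1 (Subsingleton.elim (α := LocCoh.H I (d + 1) (LinearMap.ker g)) _ _)
    rw [Subsingleton.elim (α := LocCoh.H I d P) z 0]
    exact map_zero _
  have hprime : ∀ q : PrimeSpectrum R, Subsingleton (LocCoh.H I d (R ⧸ q.asIdeal)) := by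
    intro q
    by_cases hlt : ringKrullDim (R ⧸ q.asIdeal) < (d : WithBot ℕ∞)
    · exact Groth.Agent.LocCoh.subsingleton_of_supportDim_lt I d _ (by rw [Module.supportDim_quotient_eq_ringKrullDim]; exact hlt)
    rw [not_lt] at hlt
    have hmin : q.asIdeal ∈ minimalPrimes R := by
      obtain ⟨r, hr, hle⟩ := Ideal.exists_minimalPrimes_le (bot_le (a := q.asIdeal))
      rcases hle.lt_or_eq with hlt' | rfl
      · rw [ringKrullDim_quotient] at hlt
        obtain ⟨l, hl⟩ := Order.le_krullDim_iff.1 hlt
        have h2 := Order.LTSeries.length_le_krullDim ((l.map (fun p => (p : PrimeSpectrum R)) fun a b hab => hab).cons ⟨r, hr.1.1⟩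
          (lt_of_lt_of_le (show (⟨r, hr.1.1⟩ : PrimeSpectrum R) < q from hlt') l.head.2))
        simp only [RelSeries.cons, RelSeries.append, RelSeries.singleton_length, LTSeries.map_length, hl, Nat.zero_add] at h2
        rw [show Order.krullDim (PrimeSpectrum R) = ringKrullDim R from rfl, hd] at h2
        exact absurd h2 (not_le.2 (Nat.cast_lt.2 (by first | omega | exact (show d < l.length + 1 by omega))))
      · exact hr
    have hqd : ringKrullDim (R ⧸ q.asIdeal) = d := le_antisymm (hd ▸ ringKrullDim_quotient_le _) hlt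
    obtain ⟨φ, hφ⟩ := Groth.Agent.LocCoh.exists_map_ne_zero M q (hsupp _ hmin hqd q.isPrime)
    haveI := hquot M (LinearMap.range φ) φ.rangeRestrict φ.surjective_rangeRestrict hvan
    haveI : Subsingleton (LocCoh.H I d ((R ⧸ q.asIdeal) ⧸ LinearMap.range φ)) := by
      refine Groth.Agent.LocCoh.subsingleton_of_supportDim_lt I d _ ?_
      obtain ⟨m, hm⟩ : ∃ m, φ m ≠ 0 := by by_contra! h; exact hφ (LinearMap.ext h)
      obtain ⟨a, ha⟩ := Submodule.Quotient.mk_surjective _ (φ m)
      have hsub : Module.support R ((R ⧸ q.asIdeal) ⧸ LinearMap.range φ) ⊆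
          PrimeSpectrum.zeroLocus ((q.asIdeal ⊔ Ideal.span {a} : Ideal R) : Set R) := fun r hr => by
        rw [PrimeSpectrum.mem_zeroLocus, SetLike.coe_subset_coe]
        refine le_trans ?_ (Module.mem_support_iff_of_finite.1 hr)
        refine sup_le (fun c hc => Module.mem_annihilator.2 fun z => ?_) ((Ideal.span_singleton_le_iff_mem _).2 (Module.mem_annihilator.2 fun z => ?_))
        all_goals
          obtain ⟨z, rfl⟩ := Submodule.Quotient.mk_surjective _ z
          obtain ⟨z, rfl⟩ := Submodule.Quotient.mk_surjective _ z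
          rw [← Submodule.Quotient.mk_smul, Submodule.Quotient.mk_eq_zero, ← Submodule.Quotient.mk_smul]
        · rw [show (Submodule.Quotient.mk (c • z) : R ⧸ q.asIdeal) = 0 from (Submodule.Quotient.mk_eq_zero _).2 (Ideal.mul_mem_right z _ hc)]
          exact zero_mem _
        · rw [smul_eq_mul, mul_comm, ← smul_eq_mul, Submodule.Quotient.mk_smul, ha, ← map_smul]
          exact LinearMap.mem_range_self φ _
      refine lt_of_le_of_lt (Order.krullDim_le_of_strictMono (Set.inclusion hsub) fun a b hab => hab) (lt_of_not_ge fun hge => ?_)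
      obtain ⟨l, hl⟩ := Order.le_krullDim_iff.1 hge
      have haq : a ∉ q.asIdeal := fun h => hm (ha.symm.trans ((Submodule.Quotient.mk_eq_zero _).2 h))
      have hgt : q < (l.head : PrimeSpectrum R) := lt_of_le_of_ne (show q.asIdeal ≤ (l.head : PrimeSpectrum R).asIdeal from le_sup_left.trans l.head.2) fun he =>
        haq (he ▸ l.head.2 (Ideal.mem_sup_right (Ideal.mem_span_singleton_self a)))
      have h2 := hqd
      rw [ringKrullDim_quotient] at h2
      have h3 := Order.LTSeries.length_le_krullDim ((l.map (fun r => (⟨r.1, show q.asIdeal ≤ r.1.asIdeal from le_sup_left.trans r.2⟩ : PrimeSpectrum.zeroLocus (q.asIdeal : Set R))) fun a b hab => hab).cons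
        ⟨q, le_refl q.asIdeal⟩ hgt)
      simp only [RelSeries.cons, RelSeries.append, RelSeries.singleton_length, LTSeries.map_length, hl, Nat.zero_add] at h3
      rw [h2] at h3
      exact absurd h3 (not_le.2 (Nat.cast_lt.2 (by first | omega | exact (show d < l.length + 1 by omega))))
    exact Groth.Agent.LocCoh.subsingleton_mid I d (LinearMap.range φ).subtype (LinearMap.range φ).mkQ Subtype.val_injective
      (Submodule.mkQ_surjective _) (LinearMap.exact_iff.2 ((Submodule.ker_mkQ _).trans (Submodule.range_subtype _).symm))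
  refine Groth.Agent.LocCoh.subsingleton_of_finite I d N fun P hP => ?_
  haveI : Module.Finite R P := Module.Finite.iff_fg.2 hP
  suffices ∀ (P : Type u) [AddCommGroup P] [Module R P] [Module.Finite R P], Subsingleton (LocCoh.H I d P) from this P
  intro P _ _ hfin
  induction hfin using IsNoetherianRing.induction_on_isQuotientEquivQuotientPrime with
  | subsingleton Q => exact Groth.Agent.LocCoh.subsingleton_H_of_subsingleton I d Q
  | exact N₁ N₂ N₃ f g hf hg hfg ih1 ih3 => exact Groth.Agent.LocCoh.subsingleton_mid I d f g hf hg hfg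
  | quotient Q q e => haveI := hprime q; exact (Groth.Agent.LocCoh.congrH I d e).subsingleton

end Groth.Agent.S0333
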