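import Groth.Statements.S0334
import Groth.Agent.LocCoh.Seq
import Groth.Agent.LocCoh.Vanishing
import Mathlib.RingTheory.KrullDimension.Module

set_option autoImplicit false
universe u v
open LocCoh

namespace Groth.Agent.S0334

open CategoryTheory

/-- Over a Noetherian local ring of dimension d, multiplication by an element lying in no minimal prime
p with dim R/p = d is surjective on H^d_I(M) for every finite module M and every ideal I. -/
theorem result (R : Type u) [CommRing R] [IsLocalRing R] [IsNoetherianRing R] (I : Ideal R) (d : ℕ) (hd : ringKrullDim R = d) (f : R) (hf : ∀ p ∈ minimalPrimes R, ringKrullDim (R ⧸ p) = d → f ∉ p) (M : Type u) [AddCommGroup M] [Module R M] [Module.Finite R M] : Function.Surjective (fun x : LocCoh.H I d M => f • x) := by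
  have hdimR : ∀ (N : Type u) [AddCommGroup N] [Module R N], Subsingleton (LocCoh.H I (d + 1) N) := fun N _ _ =>
    Groth.Agent.LocCoh.subsingleton_of_supportDim_lt I (d + 1) N
      (lt_of_le_of_lt (Module.supportDim_le_ringKrullDim R N) (by rw [hd]; exact_mod_cast Nat.lt_succ_self d))
  let φ : M →ₗ[R] M := f • LinearMap.id
  let K := LinearMap.range φ
  have hlt : Module.supportDim R (M ⧸ K) < (d : WithBot ℕ∞) := by
    have hsub : Module.support R (M ⧸ K) ⊆ PrimeSpectrum.zeroLocus ((Ideal.span {f} : Ideal R) : Set R) := fun p hp => by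
      rw [PrimeSpectrum.mem_zeroLocus, SetLike.coe_subset_coe, Ideal.span_singleton_le_iff_mem]
      refine Module.mem_support_iff_of_finite.1 hp (Module.mem_annihilator.2 fun z => ?_)
      obtain ⟨z, rfl⟩ := Submodule.Quotient.mk_surjective _ z
      rw [← Submodule.Quotient.mk_smul, Submodule.Quotient.mk_eq_zero]
      exact ⟨z, rfl⟩
    refine lt_of_le_of_lt (Order.krullDim_le_of_strictMono (Set.inclusion hsub) fun a b hab => hab) ?_
    refine lt_of_le_of_ne ?_ fun he => ?_
    · rw [← ringKrullDim_quotient, ← hd]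
      exact ringKrullDim_quotient_le _
    · haveI : Nonempty (PrimeSpectrum.zeroLocus ((Ideal.span {f} : Ideal R) : Set R)) :=
        Order.krullDim_nonneg_iff.1 (he ▸ by exact_mod_cast Nat.zero_le d)
      obtain ⟨l, hl⟩ := Order.le_krullDim_iff.1 he.ge
      have hmin : (l.head : PrimeSpectrum R).asIdeal ∈ minimalPrimes R := by
        obtain ⟨q, hq, hle⟩ := Ideal.exists_minimalPrimes_le (bot_le (a := (l.head : PrimeSpectrum R).asIdeal))
        rcases hle.lt_or_eq with hlt | rfl
        · have h2 := Order.LTSeries.length_le_krullDim ((l.map (fun p => (p : PrimeSpectrum R)) fun a b hab => hab).cons ⟨q, hq.1.1⟩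
            (show (⟨q, hq.1.1⟩ : PrimeSpectrum R) < (l.head : PrimeSpectrum R) from hlt))
          simp only [RelSeries.cons, RelSeries.append, RelSeries.singleton_length, LTSeries.map_length, hl, Nat.zero_add] at h2
          have : ringKrullDim R = Order.krullDim (PrimeSpectrum R) := rfl
          rw [← this, hd] at h2
          exact absurd h2 (not_le.2 (Nat.cast_lt.2 (by first | omega | exact (show d < l.length + 1 by omega))))
        · exact hq
      refine hf _ hmin (le_antisymm (hd ▸ ringKrullDim_quotient_le _) ?_) (l.head.2 (Ideal.mem_span_singleton_self f))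
      rw [ringKrullDim_quotient]
      refine Order.le_krullDim_iff.2 ⟨⟨l.length, fun j => ⟨(l j : PrimeSpectrum R), l.monotone (Fin.zero_le j)⟩, fun j => l.step j⟩, hl⟩
  haveI := Groth.Agent.LocCoh.subsingleton_of_supportDim_lt I d (M ⧸ K) hlt
  haveI := hdimR (LinearMap.ker φ)
  let S₁ : ShortComplex (ModuleCat.{u} R) := ShortComplex.mk (ModuleCat.ofHom (LinearMap.ker φ).subtype)
    (ModuleCat.ofHom φ.rangeRestrict) (ModuleCat.hom_ext (LinearMap.ext fun z => Subtype.ext z.2))
  have hS₁ : S₁.ShortExact :=
    { exact := (ShortComplex.ShortExact.moduleCat_exact_iff_function_exact S₁).2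
        (LinearMap.exact_iff.2 ((LinearMap.ker_rangeRestrict φ).trans (Submodule.range_subtype _).symm))
      mono_f := (ModuleCat.mono_iff_injective _).2 Subtype.val_injective
      epi_g := (ModuleCat.epi_iff_surjective _).2 φ.surjective_rangeRestrict }
  have h1 : Function.Surjective ((Groth.Agent.LocCoh.HF I d).map S₁.g).hom := fun z =>
    (Groth.Agent.LocCoh.exact₃ I d hS₁ z).1 (Subsingleton.elim (α := LocCoh.H I (d + 1) (LinearMap.ker φ)) _ _)
  have h2 : Function.Surjective ((Groth.Agent.LocCoh.HF I d).map (Groth.Agent.LocCoh.subSeq K).f).hom := fun z =>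
    (Groth.Agent.LocCoh.exact₂ I d (Groth.Agent.LocCoh.subSeq_shortExact K) z).1 (Subsingleton.elim (α := LocCoh.H I d (M ⧸ K)) _ _)
  intro y
  obtain ⟨z, rfl⟩ := h2 y
  obtain ⟨w, rfl⟩ := h1 z
  refine ⟨w, (Groth.Agent.LocCoh.map_smul_id I d (ModuleCat.of R M) f w).symm.trans ?_⟩
  rw [show f • 𝟙 (ModuleCat.of R M) = S₁.g ≫ (Groth.Agent.LocCoh.subSeq K).f from ModuleCat.hom_ext (LinearMap.ext fun m => rfl),
    Functor.map_comp]
  rfl

end Groth.Agent.S0334
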