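import Groth.Statements.S0337
import Mathlib.Algebra.Category.ModuleCat.ChangeOfRings
import Mathlib.RingTheory.Finiteness.Cardinality
import Mathlib.RingTheory.Nakayama
import Mathlib.RingTheory.LocalRing.Module

set_option autoImplicit false
universe u v
open CategoryTheory
open LocCoh

namespace Groth.Agent.S0337

/-- Over a Noetherian local ring of prime characteristic p, a finite module isomorphic to its own base
change along Frobenius is free. -/
theorem result (p : ℕ) [Fact p.Prime] (R : Type u) [CommRing R] [IsLocalRing R] [IsNoetherianRing R] [CharP R p] (M : Type u) [AddCommGroup M] [Module R M] [Module.Finite R M] (h : Nonempty ((ModuleCat.extendScalars (frobenius R p)).obj (ModuleCat.of R M) ≅ ModuleCat.of R M)) : Module.Free R M := by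
  classical
  obtain ⟨e⟩ := h
  let f := frobenius R p
  let m := IsLocalRing.maximalIdeal R
  obtain ⟨n, g, hg, hker⟩ : ∃ (n : ℕ) (g : (Fin n → R) →ₗ[R] M), Function.Surjective g ∧
      ∀ v, g v = 0 → ∀ i, v i ∈ m := by
    have hne : ∃ n : ℕ, ∃ g : (Fin n → R) →ₗ[R] M, Function.Surjective g :=
      Module.Finite.exists_fin' R M
    obtain ⟨g, hg⟩ := Nat.find_spec hne
    refine ⟨_, g, hg, fun v hv i => ?_⟩
    by_contra hi
    obtain ⟨u, hu⟩ : IsUnit (v i) := by simpa [m, IsLocalRing.mem_maximalIdeal, mem_nonunits_iff] using hi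
    generalize hN : Nat.find hne = N at g hg v hv i u hu hi
    obtain ⟨k, rfl⟩ : ∃ k, N = k + 1 := ⟨N - 1, by have := i.pos; omega⟩
    have : Nat.find hne ≤ k := by
      let ins : (Fin k → R) →ₗ[R] (Fin (k + 1) → R) :=
        { toFun := fun w => i.insertNth 0 w
          map_add' := fun a b => by
            funext j; refine Fin.succAboveCases i ?_ (fun j => ?_) j <;> simp
          map_smul' := fun a b => by
            funext j; refine Fin.succAboveCases i ?_ (fun j => ?_) j <;> simp }
      refine Nat.find_le ⟨g ∘ₗ ins, fun x => ?_⟩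
      obtain ⟨w, rfl⟩ := hg x
      let w' := w - (w i * (↑u⁻¹ : R)) • v
      have hwi : w' i = 0 := by simp [w', ← hu, mul_assoc]
      refine ⟨i.removeNth w', ?_⟩
      show g (i.insertNth 0 (i.removeNth w')) = g w
      rw [← hwi, Fin.insertNth_self_removeNth]
      simp [w', hv]
    omega
  -- the ideal of relation coefficients
  let J : Ideal R := Ideal.span {r | ∃ v i, g v = 0 ∧ v i = r}
  have hJm : J ≤ m := Ideal.span_le.2 (by rintro _ ⟨v, i, hv, rfl⟩; exact hker v hv i)
  let J' : Ideal R := J.map f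
  have hJ' : J' ≤ m * J := by
    refine Ideal.map_le_iff_le_comap.2 fun x hx => ?_
    have hp : 2 ≤ p := (Fact.out : p.Prime).two_le
    rw [Ideal.mem_comap, frobenius_def, show p = p - 2 + 2 by omega, pow_add, pow_two]
    exact Ideal.mul_mem_left _ _ (Ideal.mul_mem_mul (hJm hx) hx)
  -- a functional on the Frobenius pullback
  let Y : ModuleCat.{u} R := ModuleCat.of R (Fin n → R ⧸ J')
  let q : (Fin n → R) → (Fin n → R ⧸ J') := fun v i => Ideal.Quotient.mk J' (f (v i))
  have hqz : ∀ v, g v = 0 → q v = 0 := fun v hv => funext fun i =>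
    Ideal.Quotient.eq_zero_iff_mem.2 (Ideal.mem_map_of_mem f (Ideal.subset_span ⟨v, i, hv, rfl⟩))
  have hqe : ∀ v w, g v = g w → q v = q w := fun v w hvw => by
    have h0 := hqz (v - w) (by rw [map_sub, hvw, sub_self])
    funext i
    have := congrFun h0 i
    simpa [q, map_sub, sub_eq_zero] using this
  choose s hs using hg
  let φ : ModuleCat.of R M ⟶ (ModuleCat.restrictScalars f).obj Y := ModuleCat.ofHom
    (Y := (ModuleCat.restrictScalars f).obj Y)
    { toFun := fun x => q (s x)
      map_add' := fun x y => by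
        show q (s (x + y)) = q (s x) + q (s y)
        rw [hqe _ (s x + s y) (by simp [hs])]
        funext i; simp [q]
      map_smul' := fun r x => by
        show q (s (r • x)) = (f r • q (s x) : Fin n → R ⧸ J')
        rw [hqe _ (r • s x) (by simp [hs])]
        funext i; simp [q, Algebra.smul_def] }
  let Φ : (ModuleCat.extendScalars f).obj (ModuleCat.of R M) ⟶ Y :=
    ((ModuleCat.extendRestrictScalarsAdj f).homEquiv _ _).symm φ
  let ψ : M →ₗ[R] (Fin n → R ⧸ J') := (e.inv ≫ Φ).hom
  let θ : (Fin n → R) →ₗ[R] (Fin n → R ⧸ J') := ψ ∘ₗ g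
  -- θ is surjective
  have hψ : Function.Surjective ψ := by
    have hb : ∀ v : Fin n → R, ∃ x, ψ x = fun i => Ideal.Quotient.mk J' (v i) := by
      intro v
      have h1 : ∀ x : M, ∃ y, ψ y = q (s x) := fun x => by
        refine ⟨e.hom.hom (((ModuleCat.extendRestrictScalarsAdj f).unit.app (ModuleCat.of R M)).hom x), ?_⟩
        show Φ.hom (e.inv.hom (e.hom.hom _)) = _
        refine (congrArg Φ.hom (e.hom_inv_id_apply _)).trans ?_
        have := congrArg (fun t => t.hom x) (((ModuleCat.extendRestrictScalarsAdj f).homEquiv_unit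
          (f := Φ)).symm.trans (((ModuleCat.extendRestrictScalarsAdj f).homEquiv _ _).apply_symm_apply φ))
        exact this
      have h2 : ∀ i, ∃ y, ψ y = Pi.single i (1 : R ⧸ J') := fun i => by
        obtain ⟨y, hy⟩ := h1 (g (Pi.single i 1))
        refine ⟨y, hy.trans ?_⟩
        rw [hqe _ (Pi.single i 1) (hs _)]
        funext j
        rcases eq_or_ne j i with rfl | hj <;> simp [q, *]
      choose y hy using h2
      refine ⟨∑ i, v i • y i, ?_⟩
      rw [map_sum]
      funext j
      simp only [map_smul, hy, Finset.sum_apply, Pi.smul_apply]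
      rw [Finset.sum_eq_single j (fun b _ hb => by simp [Pi.single_eq_of_ne hb.symm]) (by simp)]
      simp [Algebra.smul_def]
    intro w
    choose v hv using fun i => Ideal.Quotient.mk_surjective (w i)
    obtain ⟨x, hx⟩ := hb v
    exact ⟨x, hx.trans (funext hv)⟩
  -- lift θ to a surjective, hence bijective, endomorphism
  choose c hc using fun j i => Ideal.Quotient.mk_surjective (θ (Pi.single j 1) i)
  let P : (Fin n → R) →ₗ[R] (Fin n → R) := Fintype.linearCombination R fun j i => c j i
  have hP : ∀ v i, Ideal.Quotient.mk J' (P v i) = θ v i := by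
    intro v i
    conv_rhs => rw [pi_eq_sum_univ' v]
    simp only [P, Fintype.linearCombination_apply, map_sum, map_smul, Finset.sum_apply, Pi.smul_apply,
      smul_eq_mul, map_mul, hc]
    rfl
  have hPs : Function.Surjective P := by
    rw [← LinearMap.range_eq_top]
    refine eq_top_iff.2 (Submodule.le_of_le_smul_of_le_jacobson_bot (I := m) Module.Finite.fg_top
      (IsLocalRing.jacobson_eq_maximalIdeal ⊥ bot_ne_top).ge fun w _ => ?_)
    obtain ⟨x, hx⟩ := hψ fun i => Ideal.Quotient.mk J' (w i)
    obtain ⟨v, rfl⟩ : ∃ v, g v = x := ⟨s x, hs x⟩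
    refine Submodule.mem_sup.2 ⟨P v, ⟨v, rfl⟩, w - P v, ?_, add_sub_cancel _ _⟩
    rw [pi_eq_sum_univ' (w - P v)]
    refine Submodule.sum_mem _ fun i _ => Submodule.smul_mem_smul ?_ trivial
    exact Ideal.mul_le_left (hJ' (Ideal.Quotient.eq.1 (((congrFun hx i).symm.trans (hP v i).symm))))
  have hPi : Function.Injective P :=
    OrzechProperty.injective_of_surjective_endomorphism P hPs
  let Pe := LinearEquiv.ofBijective P ⟨hPi, hPs⟩
  have hJJ : J ≤ J' := by
    refine Ideal.span_le.2 ?_
    rintro _ ⟨v, i, hv, rfl⟩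
    have hw : ∀ j, P v j ∈ J' := fun j =>
      Ideal.Quotient.eq_zero_iff_mem.1 (by rw [hP]; simp [θ, hv])
    have hv' : v = Pe.symm (P v) := (Pe.symm_apply_apply v).symm
    rw [SetLike.mem_coe, hv', pi_eq_sum_univ' (P v), map_sum, Finset.sum_apply]
    refine Ideal.sum_mem _ fun j _ => ?_
    rw [map_smul, Pi.smul_apply, smul_eq_mul]
    exact Ideal.mul_mem_right _ _ (hw j)
  have hJ0 : J = ⊥ := Submodule.eq_bot_of_le_smul_of_le_jacobson_bot m J (IsNoetherian.noetherian J)
    (hJJ.trans hJ') (IsLocalRing.jacobson_eq_maximalIdeal ⊥ bot_ne_top).ge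
  have hgi : Function.Injective g := by
    rw [injective_iff_map_eq_zero]
    intro v hv
    funext i
    have : v i ∈ J := Ideal.subset_span ⟨v, i, hv, rfl⟩
    rwa [hJ0] at this
  exact Module.Free.of_equiv (LinearEquiv.ofBijective g ⟨hgi, fun x => ⟨s x, hs x⟩⟩)

end Groth.Agent.S0337
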