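import Groth.Statements.S0342
import Groth.Agent.Goren.Basic

set_option autoImplicit false
universe u v
open Goren

namespace Groth.Agent.S0342
open CategoryTheory CategoryTheory.Abelian

/-- Regular local rings have finite injective dimension over themselves, i.e. are Gorenstein. -/
theorem result (A : Type u) [CommRing A] [IsRegularLocalRing A] : LocCoh.IsGorensteinLocalRing A := by
  refine { exists_hasInjectiveDimensionLT := ⟨(IsLocalRing.maximalIdeal A).spanFinrank + 1, ?_⟩ }
  refine hasInjectiveDimensionLT_of_enoughProjectives _ _ fun Y => ?_
  haveI : HasProjectiveDimensionLT (ModuleCat.of A Y) ((IsLocalRing.maximalIdeal A).spanFinrank + 1) :=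
    RegularLocal.GlobalDim.pdLT (R := A) Y
  exact HasProjectiveDimensionLT.subsingleton (ModuleCat.of A Y) _ _ le_rfl _

end Groth.Agent.S0342
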