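import Groth.Statements.S0343
import Groth.Agent.Goren.ChangeRings

set_option autoImplicit false
universe u v
open Goren

namespace Groth.Agent.S0343

open CategoryTheory CategoryTheory.Abelian

/-- For a Noetherian local ring A and a non-zero-divisor f in the maximal ideal, A is Gorenstein exactly
when A/(f) is. -/
theorem result (A : Type u) [CommRing A] [IsLocalRing A] [IsNoetherianRing A] (f : A) (hf : f ∈ IsLocalRing.maximalIdeal A) (hreg : IsSMulRegular A f) : LocCoh.IsGorensteinLocalRing A ↔ LocCoh.IsGorensteinLocalRing (A ⧸ Ideal.span {f}) := by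
  have hle : Ideal.span {f} ≤ IsLocalRing.maximalIdeal A := (Ideal.span_singleton_le_iff_mem _).2 hf
  haveI : IsLocalRing (A ⧸ Ideal.span {f}) := RegularLocal.Basic.isLocalRing_quotient (RegularLocal.Basic.ne_top_of_le_maximalIdeal hle)
  have hm : IsLocalRing.maximalIdeal (A ⧸ Ideal.span {f}) =
      (IsLocalRing.maximalIdeal A).map (Ideal.Quotient.mkₐ A (Ideal.span {f})) :=
    (RegularLocal.Basic.map_maximalIdeal_quotient _).symm
  let e : (A ⧸ IsLocalRing.maximalIdeal A) ≃ₗ[A] (A ⧸ Ideal.span {f}) ⧸ IsLocalRing.maximalIdeal (A ⧸ Ideal.span {f}) :=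
    ((Ideal.quotientEquivAlgOfEq A hm).trans (DoubleQuot.quotQuotEquivQuotOfLEₐ A hle)).symm.toLinearEquiv
  haveI : Module.Finite A ((A ⧸ Ideal.span {f}) ⧸ IsLocalRing.maximalIdeal (A ⧸ Ideal.span {f})) :=
    Module.Finite.equiv e
  constructor
  · intro h
    obtain ⟨n, hn⟩ := h.exists_hasInjectiveDimensionLT
    refine { exists_hasInjectiveDimensionLT := ⟨n + 2, Goren.injLT_of_residue (n + 1) fun i hi => ?_⟩ }
    obtain ⟨j, rfl⟩ := Nat.exists_eq_add_of_le hi
    rw [show n + 1 + j = (n + j) + 1 by omega]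
    exact (Goren.ext_quotient_iff hreg (n + j) _).2 fun ξ => by
      rw [one_smul]; exact Ext.eq_zero_of_hasInjectiveDimensionLT ξ n (by omega)
  · intro h
    obtain ⟨n, hn⟩ := h.exists_hasInjectiveDimensionLT
    refine { exists_hasInjectiveDimensionLT := ⟨n + 3, Goren.injLT_of_residue (n + 2) fun i hi => ?_⟩ }
    obtain ⟨j, rfl⟩ := Nat.exists_eq_add_of_le hi
    rw [show n + 2 + j = (n + j) + 2 by omega]
    exact Goren.kills_congr e.symm ((Goren.ext_quotient_iff hreg (n + j) _).1 fun ξ => by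
      rw [one_smul]; exact Ext.eq_zero_of_hasInjectiveDimensionLT ξ n (by omega))

end Groth.Agent.S0343
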