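import Groth.Statements.S0380
import Groth.Agent.LocCoh.BaseChange
import Mathlib.RingTheory.Support

set_option autoImplicit false
universe u v
open LocCoh

namespace Groth.Agent.S0380

/-- Local cohomology with support in I vanishes above degree d on all modules exactly when, for every
prime p, local cohomology over A_p with support in I A_p vanishes above degree d on all A_p-modules. -/
theorem result (R : Type u) [CommRing R] [IsNoetherianRing R] (I : Ideal R) (d : ℕ) : LocCoh.CdLE R I d ↔ ∀ (p : Ideal R) [p.IsPrime], LocCoh.CdLE (Localization.AtPrime p) (I.map (algebraMap R (Localization.AtPrime p))) d := by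
  refine ⟨fun h p _ => ?_, fun h M _ _ i hi => ?_⟩
  · haveI : IsNoetherianRing (Localization.AtPrime p) := IsLocalization.isNoetherianRing p.primeCompl _ inferInstance
    exact Groth.Agent.LocCoh.Restrict.cdLE_map h
  · rw [← Module.support_eq_empty_iff (R := R), Set.eq_empty_iff_forall_notMem]
    intro p hp
    haveI : IsNoetherianRing (Localization.AtPrime p.asIdeal) := IsLocalization.isNoetherianRing p.asIdeal.primeCompl _ inferInstance
    obtain ⟨e⟩ := Groth.Agent.LocCoh.BaseChange.nonempty_localized_equiv I p.asIdeal.primeCompl M i
    haveI := h p.asIdeal (LocalizedModule p.asIdeal.primeCompl M) i hi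
    exact not_subsingleton_iff_nontrivial.2 hp e.toEquiv.subsingleton

end Groth.Agent.S0380
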