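import Groth.Statements.S0381
import Groth.Agent.LocCoh.Cd
import Groth.Agent.LocCoh.Seq

set_option autoImplicit false
universe u v
open LocCoh

namespace Groth.Agent.S0381

open CategoryTheory Groth.Agent.LocCoh

variable {R : Type u} [CommRing R] [IsNoetherianRing R] (I J : Ideal R)

omit [IsNoetherianRing R] in
lemma gamma_eq_bot_iff (M : Type u) [AddCommGroup M] [Module R M] :
    gamma J M = ⊥ ↔ Subsingleton (LocCoh.H J 0 M) := by
  rw [Submodule.eq_bot_iff]
  refine ⟨fun h => subsingleton_of_forall_eq 0 fun x => h0_injective J (ModuleCat.of R M) ?_, fun h m hm => ?_⟩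
  · rw [map_zero]
    exact h _ ((mem_range_h0 J (ModuleCat.of R M)).1 ⟨x, rfl⟩)
  · obtain ⟨x, rfl⟩ := (mem_range_h0 J (ModuleCat.of R M)).2 hm
    rw [Subsingleton.elim (α := LocCoh.H J 0 M) x 0]
    exact map_zero _

lemma sup_torsion_iff (i : ℕ) (T : Type u) [AddCommGroup T] [Module R T] (hT : LocCoh.IsPowerTorsion J T) :
    Subsingleton (LocCoh.H (I ⊔ J) (i + 1) T) ↔ Subsingleton (LocCoh.H I (i + 1) T) := by
  classical
  obtain ⟨s, rfl⟩ := IsNoetherian.noetherian J
  suffices h : ∀ t : Finset R, t ⊆ s → (Subsingleton (LocCoh.H (I ⊔ Ideal.span (t : Set R)) (i + 1) T) ↔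
      Subsingleton (LocCoh.H I (i + 1) T)) from h s subset_rfl
  intro t
  induction t using Finset.induction with
  | empty => intro _; rw [Finset.coe_empty, Ideal.span_empty, sup_bot_eq]
  | insert x t hxt ih =>
    intro hts
    rw [Finset.coe_insert, Ideal.span_insert, sup_comm (Ideal.span {x}), ← sup_assoc]
    refine (subsingleton_sup_span_iff i T fun m => ?_).trans (ih fun y hy => hts (Finset.mem_insert_of_mem hy))
    obtain ⟨n, hn⟩ := hT m
    exact ⟨n, hn _ (Ideal.pow_mem_pow (Ideal.subset_span (hts (Finset.mem_insert_self x t))) n)⟩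

/-- if all `H_J(N)` vanish then all `H_{I+J}(N)` vanish -/
lemma subsingleton_of_all : ∀ (i : ℕ) (N : Type u) [AddCommGroup N] [Module R N],
    (∀ j, Subsingleton (LocCoh.H J j N)) → Subsingleton (LocCoh.H (I ⊔ J) i N)
  | 0, N, _, _, h => by
    refine (gamma_eq_bot_iff (I ⊔ J) N).1 (eq_bot_iff.2 fun m hm => ?_)
    rw [← (gamma_eq_bot_iff J N).2 (h 0)]
    exact hm.imp fun n hn a ha => hn a (Ideal.pow_right_mono le_sup_right n ha)
  | i + 1, N, _, _, h => by
    let ⟨pres⟩ := EnoughInjectives.presentation (ModuleCat.of R N)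
    haveI := pres.injective
    haveI : Module.Injective R pres.J :=
      (Module.injective_iff_injective_object R pres.J).2 (inferInstance : Injective (ModuleCat.of R pres.J))
    let G := gamma J pres.J
    haveI := injective_gamma J pres.J
    haveI : Injective (ModuleCat.of R G) := (Module.injective_iff_injective_object R _).1 inferInstance
    let f : N →ₗ[R] pres.J ⧸ G := G.mkQ ∘ₗ pres.f.hom
    have hinj : Function.Injective pres.f.hom := (ModuleCat.mono_iff_injective pres.f).1 pres.mono
    have hf : Function.Injective f := (injective_iff_map_eq_zero f).2 fun m hm => by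
      obtain ⟨n, hn⟩ := (Submodule.Quotient.mk_eq_zero _).1 hm
      have h1 : m ∈ gamma J N := ⟨n, fun a ha => hinj (by rw [map_smul, map_zero]; exact hn a ha)⟩
      rwa [(gamma_eq_bot_iff J N).2 (h 0), Submodule.mem_bot] at h1
    have hEI : ∀ k, 0 < k → Subsingleton (LocCoh.H (I ⊔ J) k (pres.J ⧸ G)) := fun k hk => by
      haveI := Groth.Agent.LocCoh.subsingleton_of_injective (I ⊔ J) k (ModuleCat.of R pres.J) hk
      haveI := Groth.Agent.LocCoh.subsingleton_of_injective (I ⊔ J) (k + 1) (ModuleCat.of R G) (Nat.succ_pos k)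
      refine subsingleton_of_forall_eq 0 fun y => ?_
      obtain ⟨z, rfl⟩ := (exact₃ (I ⊔ J) k (subSeq_shortExact G) y).1
        (Subsingleton.elim (α := (HF (I ⊔ J) (k + 1)).obj (ModuleCat.of R G)) _ _)
      rw [Subsingleton.elim (α := (HF (I ⊔ J) k).obj (ModuleCat.of R pres.J)) z 0]
      exact map_zero _
    have hEJ : ∀ k, Subsingleton (LocCoh.H J k (pres.J ⧸ G)) := by
      intro k
      cases k with
      | zero =>
        haveI := Groth.Agent.LocCoh.subsingleton_of_injective J 1 (ModuleCat.of R G) Nat.one_pos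
        refine subsingleton_of_forall_eq 0 fun y => ?_
        obtain ⟨z, rfl⟩ := (exact₃ J 0 (subSeq_shortExact G) y).1
          (Subsingleton.elim (α := (HF J 1).obj (ModuleCat.of R G)) _ _)
        refine h0_injective J (subSeq G).X₃ ?_
        rw [map_zero, h0_map]
        exact (Submodule.Quotient.mk_eq_zero _).2 ((mem_range_h0 J (subSeq G).X₂).1 ⟨z, rfl⟩)
      | succ k =>
        haveI := Groth.Agent.LocCoh.subsingleton_of_injective J (k + 1) (ModuleCat.of R pres.J) (Nat.succ_pos k)
        exact (quotTorsionEquiv J G (isPowerTorsion_gamma J pres.J) k).toEquiv.symm.subsingleton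
    have hS := subSeq_shortExact (LinearMap.range f)
    let e : N ≃ₗ[R] LinearMap.range f := LinearEquiv.ofInjective f hf
    have hC : ∀ k, Subsingleton (LocCoh.H J k ((pres.J ⧸ G) ⧸ LinearMap.range f)) := fun k => by
      haveI := hEJ k
      haveI : Subsingleton (LocCoh.H J (k + 1) (LinearMap.range f)) := by
        haveI := h (k + 1)
        exact (congrH J (k + 1) e).symm.toEquiv.subsingleton
      refine subsingleton_of_forall_eq 0 fun y => ?_
      obtain ⟨z, rfl⟩ := (exact₃ J k hS y).1 (Subsingleton.elim (α := LocCoh.H J (k + 1) (LinearMap.range f)) _ _)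
      rw [Subsingleton.elim (α := LocCoh.H J k (pres.J ⧸ G)) z 0]
      exact map_zero _
    haveI := hEI (i + 1) (Nat.succ_pos i)
    haveI := subsingleton_of_all i _ hC
    haveI : Subsingleton (LocCoh.H (I ⊔ J) (i + 1) (LinearMap.range f)) := by
      refine subsingleton_of_forall_eq 0 fun y => ?_
      obtain ⟨z, rfl⟩ := (exact₁ (I ⊔ J) i hS y).1 (Subsingleton.elim (α := LocCoh.H (I ⊔ J) (i + 1) (pres.J ⧸ G)) _ _)
      rw [Subsingleton.elim (α := LocCoh.H (I ⊔ J) i ((pres.J ⧸ G) ⧸ LinearMap.range f)) z 0]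
      exact map_zero _
    exact (congrH (I ⊔ J) (i + 1) e).toEquiv.subsingleton

lemma main {a : ℕ} (hI : LocCoh.CdLE R I a) : ∀ (k : ℕ) (M : Type u) [AddCommGroup M] [Module R M],
    (∀ j, k < j → Subsingleton (LocCoh.H J j M)) → ∀ i, a + k < i → Subsingleton (LocCoh.H (I ⊔ J) i M)
  | 0, M, _, _, h, i, hi => by
    obtain ⟨i, rfl⟩ := Nat.exists_eq_succ_of_ne_zero (n := i) (by omega)
    let T := gamma J M
    haveI := (sup_torsion_iff I J i T (isPowerTorsion_gamma J M)).2 (hI T (i + 1) (by omega))
    haveI : Subsingleton (LocCoh.H (I ⊔ J) (i + 1) (M ⧸ T)) := by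
      refine subsingleton_of_all I J (i + 1) _ fun j => ?_
      cases j with
      | zero =>
        haveI : Subsingleton (LocCoh.H J (0 + 1) T) := subsingleton_torsion J 0 T (isPowerTorsion_gamma J M)
        refine subsingleton_of_forall_eq 0 fun y => ?_
        obtain ⟨z, rfl⟩ := (exact₃ J 0 (subSeq_shortExact T) y).1
          (Subsingleton.elim (α := LocCoh.H J (0 + 1) T) _ _)
        refine h0_injective J (subSeq T).X₃ ?_
        rw [map_zero, h0_map]
        exact (Submodule.Quotient.mk_eq_zero _).2 ((mem_range_h0 J (subSeq T).X₂).1 ⟨z, rfl⟩)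
      | succ j =>
        haveI := h (j + 1) (Nat.succ_pos j)
        exact (quotTorsionEquiv J T (isPowerTorsion_gamma J M) j).toEquiv.symm.subsingleton
    exact subsingleton_mid (I ⊔ J) (i + 1) T.subtype T.mkQ Subtype.val_injective (Submodule.mkQ_surjective T)
      (LinearMap.exact_iff.2 ((Submodule.ker_mkQ T).trans (Submodule.range_subtype T).symm))
  | k + 1, M, _, _, h, i, hi => by
    obtain ⟨i, rfl⟩ := Nat.exists_eq_succ_of_ne_zero (n := i) (by omega)
    let ⟨pres⟩ := EnoughInjectives.presentation (ModuleCat.of R M)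
    haveI := pres.injective
    haveI : Injective (ModuleCat.of R pres.J) := pres.injective
    have hinj : Function.Injective pres.f.hom := (ModuleCat.mono_iff_injective pres.f).1 pres.mono
    let e : M ≃ₗ[R] LinearMap.range pres.f.hom := LinearEquiv.ofInjective pres.f.hom hinj
    have hS := subSeq_shortExact (LinearMap.range pres.f.hom)
    have hC : ∀ j, k < j → Subsingleton (LocCoh.H J j (pres.J ⧸ LinearMap.range pres.f.hom)) := fun j hj => by
      haveI := Groth.Agent.LocCoh.subsingleton_of_injective J j (ModuleCat.of R pres.J) (by omega)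
      haveI : Subsingleton (LocCoh.H J (j + 1) (LinearMap.range pres.f.hom)) := by
        haveI := h (j + 1) (by omega)
        exact (congrH J (j + 1) e).symm.toEquiv.subsingleton
      refine subsingleton_of_forall_eq 0 fun y => ?_
      obtain ⟨z, rfl⟩ := (exact₃ J j hS y).1 (Subsingleton.elim (α := LocCoh.H J (j + 1) (LinearMap.range pres.f.hom)) _ _)
      rw [Subsingleton.elim (α := (HF J j).obj (ModuleCat.of R pres.J)) z 0]
      exact map_zero _
    haveI := main hI k _ hC i (by omega)
    haveI := Groth.Agent.LocCoh.subsingleton_of_injective (I ⊔ J) (i + 1) (ModuleCat.of R pres.J) (Nat.succ_pos i)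
    haveI : Subsingleton (LocCoh.H (I ⊔ J) (i + 1) (LinearMap.range pres.f.hom)) := by
      refine subsingleton_of_forall_eq 0 fun y => ?_
      obtain ⟨z, rfl⟩ := (exact₁ (I ⊔ J) i hS y).1 (Subsingleton.elim (α := (HF (I ⊔ J) (i + 1)).obj (ModuleCat.of R pres.J)) _ _)
      rw [Subsingleton.elim (α := LocCoh.H (I ⊔ J) i (pres.J ⧸ LinearMap.range pres.f.hom)) z 0]
      exact map_zero _
    exact (congrH (I ⊔ J) (i + 1) e).toEquiv.subsingleton


/-- If local cohomology with support in I vanishes above degree a and with support in J above degree b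
(on all modules), then local cohomology with support in I + J vanishes above degree a + b. -/
theorem result (R : Type u) [CommRing R] [IsNoetherianRing R] (I J : Ideal R) (a b : ℕ) (hI : LocCoh.CdLE R I a) (hJ : LocCoh.CdLE R J b) : LocCoh.CdLE R (I ⊔ J) (a + b) := by
  intro M _ _ i hi
  exact main I J hI b M (fun j hj => hJ M j hj) i hi

end Groth.Agent.S0381
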