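-- Proof of S0392.
import Mathlib.RingTheory.Flat.Basic
import Mathlib.RingTheory.LocalRing.ResidueField.Defs
import Mathlib.RingTheory.Noetherian.Basic
import Mathlib.RingTheory.Ideal.Quotient.Operations
import Mathlib.LinearAlgebra.TensorProduct.RightExactness
import Mathlib.RingTheory.Finiteness.Defs
import Mathlib.RingTheory.LocalRing.RingHom.Basic
import Groth.Agent.Flat.Criteria
import Mathlib.RingTheory.Nakayama

set_option autoImplicit false
universe u
namespace FlatMor
end FlatMor
open FlatMor

namespace Groth.Agent.S0392

open TensorProduct in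
theorem faithfullyFlat_of_finite {S S' M : Type u} [CommRing S] [CommRing S'] [IsLocalRing S]
    [IsLocalRing S'] [Algebra S S'] [IsLocalHom (algebraMap S S')] [AddCommGroup M] [Module S' M]
    [Module S M] [IsScalarTower S S' M] [Module.Finite S' M] [Nontrivial M] [Module.Flat S M] :
    Module.FaithfullyFlat S M where
  submodule_ne_top m hm h := by
    have hle : m.map (algebraMap S S') ≤ IsLocalRing.maximalIdeal S' := by
      rw [IsLocalRing.eq_maximalIdeal hm]
      exact Ideal.map_le_iff_le_comap.mpr (IsLocalRing.maximalIdeal_comap (algebraMap S S')).ge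
    refine Submodule.top_ne_ideal_smul_of_le_jacobson_annihilator (R := S') (M := M)
      (hle.trans ((IsLocalRing.maximalIdeal_le_jacobson ⊥).trans (Ideal.jacobson_mono bot_le))) ?_
    refine (eq_top_iff.mpr fun x _ => ?_).symm
    have hx : x ∈ m ^ 1 • (⊤ : Submodule S M) := by rw [pow_one, h]; trivial
    simpa using Groth.Agent.Flat.Criteria.mem_map_pow_smul (S := S') m hx

open TensorProduct in
theorem flat_of_flat_tensor {R S M : Type u} [CommRing R] [CommRing S] [Algebra R S]
    [AddCommGroup M] [Module S M] [Module R M] [IsScalarTower R S M] [Module.FaithfullyFlat S M]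
    [Module.Flat R M] : Module.Flat R S := by
  rw [Module.Flat.iff_lTensor_injective']
  intro a
  have h := Module.Flat.lTensor_preserves_injective_linearMap (M := M) a.subtype
    (Submodule.injective_subtype a)
  have h' : Function.Injective ((a.subtype.baseChange S).lTensor M) := by
    intro x y hxy
    refine (TensorProduct.AlgebraTensorModule.cancelBaseChange R S S M a).injective (h ?_)
    rw [← Groth.Agent.Flat.LocalCriterion.cancel_lTensor,
      ← Groth.Agent.Flat.LocalCriterion.cancel_lTensor, hxy]
  exact (Module.FaithfullyFlat.lTensor_injective_iff_injective S M _).mp h'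

open TensorProduct in
/-- Fibrewise criterion of flatness, Noetherian local form: for local homomorphisms R → S → S' of
Noetherian local rings and a nonzero finite S'-module M that is flat over R and whose reduction
modulo the maximal ideal of R is flat over the corresponding fibre ring of S, the ring S is flat
over R and M is flat over S. -/
theorem result {R S S' M : Type u} [CommRing R] [CommRing S] [CommRing S'] [IsLocalRing R] [IsLocalRing S] [IsLocalRing S']
    [IsNoetherianRing R] [IsNoetherianRing S] [IsNoetherianRing S'] [Algebra R S] [Algebra S S'] [Algebra R S'] [IsScalarTower R S S']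
    [IsLocalHom (algebraMap R S)] [IsLocalHom (algebraMap S S')]
    [AddCommGroup M] [Module S' M] [Module S M] [Module R M] [IsScalarTower S S' M] [IsScalarTower R S M]
    [Module.Finite S' M] [Nontrivial M] [Module.Flat R M]
    (h : Module.Flat (S ⧸ ((IsLocalRing.maximalIdeal R).map (algebraMap R S))) ((S ⧸ ((IsLocalRing.maximalIdeal R).map (algebraMap R S))) ⊗[S] M)) :
    Module.Flat R S ∧ Module.Flat S M := by
  let I : Ideal S := (IsLocalRing.maximalIdeal R).map (algebraMap R S)
  have hI : I.map (algebraMap S S') ≤ Ideal.jacobson ⊥ := by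
    refine le_trans ?_ (IsLocalRing.maximalIdeal_le_jacobson _)
    refine (Ideal.map_mono (Ideal.map_le_iff_le_comap.mpr
      (IsLocalRing.maximalIdeal_comap (algebraMap R S)).ge)).trans ?_
    exact Ideal.map_le_iff_le_comap.mpr (IsLocalRing.maximalIdeal_comap (algebraMap S S')).ge
  let ι : ↥(IsLocalRing.maximalIdeal R) →ₗ[R] I :=
    LinearMap.codRestrict (I.restrictScalars R)
      (Algebra.linearMap R S ∘ₗ (IsLocalRing.maximalIdeal R).subtype)
      fun x => Ideal.mem_map_of_mem _ x.2
  let φ : ↥(IsLocalRing.maximalIdeal R) ⊗[R] M →ₗ[R] I ⊗[S] M :=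
    TensorProduct.lift (LinearMap.mk₂ R (fun x m => (ι x) ⊗ₜ[S] m)
      (fun x y m => by simp [TensorProduct.add_tmul])
      (fun r x m => by rw [map_smul, TensorProduct.smul_tmul'])
      (fun x m n => TensorProduct.tmul_add _ _ _)
      (fun r x m => by rw [TensorProduct.tmul_smul]))
  have hφ : Function.Surjective φ := by
    intro w
    induction w using TensorProduct.induction_on with
    | zero => exact ⟨0, map_zero _⟩
    | add p q hp hq =>
      obtain ⟨a, rfl⟩ := hp
      obtain ⟨b, rfl⟩ := hq
      exact ⟨a + b, map_add _ _ _⟩
    | tmul i m =>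
      obtain ⟨i, hi⟩ := i
      induction hi using Submodule.span_induction generalizing m with
      | mem x hx =>
        obtain ⟨r, hr, rfl⟩ := hx
        exact ⟨⟨r, hr⟩ ⊗ₜ m, rfl⟩
      | zero => exact ⟨0, by rw [map_zero]; exact (TensorProduct.zero_tmul _ m).symm⟩
      | add x y hx hy ihx ihy =>
        obtain ⟨a, ha⟩ := ihx m
        obtain ⟨b, hb⟩ := ihy m
        refine ⟨a + b, ?_⟩
        rw [map_add, ha, hb, ← TensorProduct.add_tmul]
        rfl
      | smul s x hx ih =>
        obtain ⟨a, ha⟩ := ih (s • m)
        refine ⟨a, ha.trans ?_⟩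
        rw [← TensorProduct.smul_tmul]
        rfl
  have h1 : Function.Injective (I.subtype.rTensor M) := by
    have hc : ∀ z, TensorProduct.lid S M (I.subtype.rTensor M (φ z)) =
        Groth.Agent.Flat.Criteria.mu (IsLocalRing.maximalIdeal R) M z := by
      intro z
      induction z using TensorProduct.induction_on with
      | zero => simp
      | add p q hp hq => simp only [map_add, hp, hq]
      | tmul x m =>
        show (algebraMap R S (x : R)) • m = (x : R) • m
        exact algebraMap_smul S (x : R) m
    intro x y hxy
    obtain ⟨x, rfl⟩ := hφ x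
    obtain ⟨y, rfl⟩ := hφ y
    refine congrArg φ ?_
    refine Module.Flat.rTensor_preserves_injective_linearMap (M := M)
      (IsLocalRing.maximalIdeal R).subtype (Submodule.injective_subtype _)
      ((TensorProduct.lid R M).injective ?_)
    have hx := hc x
    rw [hxy, hc] at hx
    exact hx.symm
  haveI : Module.Flat S M := Groth.Agent.Flat.Criteria.local_criterion (S := S') I hI h1 h
  haveI : Module.FaithfullyFlat S M := faithfullyFlat_of_finite (S' := S')
  exact ⟨flat_of_flat_tensor (M := M), inferInstance⟩

end Groth.Agent.S0392
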