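-- Proof of S0394.
import Mathlib.RingTheory.Flat.Basic
import Mathlib.RingTheory.LocalRing.ResidueField.Defs
import Mathlib.RingTheory.Noetherian.Basic
import Mathlib.RingTheory.Ideal.Quotient.Operations
import Mathlib.LinearAlgebra.TensorProduct.RightExactness
import Mathlib.RingTheory.Finiteness.Defs
import Mathlib.RingTheory.LocalRing.RingHom.Basic
import Groth.Agent.Flat.Criteria
import Mathlib.RingTheory.Nakayama

set_option autoImplicit false
universe u
namespace FlatMor
end FlatMor
open FlatMor

namespace Groth.Agent.S0394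

open TensorProduct in
/-- For a local homomorphism R → S of Noetherian local rings and a nonzero finite S-module M flat over R
whose fibre M/mM is free over S/mS (m the maximal ideal of R), M is free over S and S is flat over
R. -/
theorem result {R S M : Type u} [CommRing R] [CommRing S] [IsLocalRing R] [IsLocalRing S] [IsNoetherianRing R] [IsNoetherianRing S] [Algebra R S] [IsLocalHom (algebraMap R S)]
    [AddCommGroup M] [Module R M] [Module S M] [IsScalarTower R S M] [Module.Finite S M] [Nontrivial M] [Module.Flat R M]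
    (h : Module.Free (S ⧸ ((IsLocalRing.maximalIdeal R).map (algebraMap R S))) ((S ⧸ ((IsLocalRing.maximalIdeal R).map (algebraMap R S))) ⊗[S] M)) :
    Module.Free S M ∧ Module.Flat R S := by
  let m := IsLocalRing.maximalIdeal R
  let mS : Ideal S := m.map (algebraMap R S)
  have hmS : mS ≤ IsLocalRing.maximalIdeal S :=
    Ideal.map_le_iff_le_comap.mpr (IsLocalRing.maximalIdeal_comap (algebraMap R S)).ge
  haveI : Nontrivial (S ⧸ mS) := Ideal.Quotient.nontrivial_iff.mpr fun e =>
    (IsLocalRing.maximalIdeal.isMaximal S).ne_top (top_le_iff.mp (e ▸ hmS))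
  haveI : Module.Free (S ⧸ mS) ((S ⧸ mS) ⊗[S] M) := h
  let b := Module.Free.chooseBasis (S ⧸ mS) ((S ⧸ mS) ⊗[S] M)
  let ι := Module.Free.ChooseBasisIndex (S ⧸ mS) ((S ⧸ mS) ⊗[S] M)
  haveI : Finite ι := Module.Finite.finite_basis b
  choose v hv using fun i =>
    TensorProduct.mk_surjective S M (S ⧸ mS) Ideal.Quotient.mk_surjective (b i)
  let u : (ι →₀ S) →ₗ[S] M := Finsupp.linearCombination S v
  have hu1 : ∀ c : ι →₀ S, (1 : S ⧸ mS) ⊗ₜ[S] u c =
      Finsupp.linearCombination (S ⧸ mS) b (Finsupp.mapRange (Ideal.Quotient.mk mS) (map_zero _) c) := by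
    intro c
    induction c using Finsupp.induction_linear with
    | zero => simp
    | add p q hp hq =>
      rw [map_add, TensorProduct.tmul_add, hp, hq, Finsupp.mapRange_add (by simp), map_add]
    | single i s =>
      show (1 : S ⧸ mS) ⊗ₜ[S] Finsupp.linearCombination S v (Finsupp.single i s) = _
      rw [Finsupp.mapRange_single, Finsupp.linearCombination_single,
        Finsupp.linearCombination_single, ← hv i, TensorProduct.mk_apply, TensorProduct.tmul_smul,
        TensorProduct.smul_tmul', TensorProduct.smul_tmul', smul_eq_mul, mul_one,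
        Algebra.smul_def, mul_one, Ideal.Quotient.algebraMap_eq]
  have hsurj : Function.Surjective u := by
    rw [← LinearMap.range_eq_top, eq_top_iff]
    refine Submodule.le_of_le_smul_of_le_jacobson_bot (I := mS) Module.Finite.fg_top
      (hmS.trans (IsLocalRing.maximalIdeal_le_jacobson _)) fun x _ => ?_
    obtain ⟨c, hc⟩ := Finsupp.mapRange_surjective (Ideal.Quotient.mk mS) (map_zero _)
      Ideal.Quotient.mk_surjective (b.repr ((1 : S ⧸ mS) ⊗ₜ[S] x))
    have h0 : (1 : S ⧸ mS) ⊗ₜ[S] (x - u c) = 0 := by
      rw [TensorProduct.tmul_sub, hu1, hc, b.linearCombination_repr, sub_self]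
    have hx : x - u c ∈ mS • (⊤ : Submodule S M) := by
      have e := TensorProduct.quotTensorEquivQuotSMul_mk_tmul mS (1 : S) (x - u c)
      rw [one_smul, map_one, h0, map_zero, eq_comm, Submodule.Quotient.mk_eq_zero] at e
      exact e
    have hxe : x = u c + (x - u c) := by abel
    rw [hxe]
    exact add_mem (Submodule.mem_sup_left ⟨c, rfl⟩) (Submodule.mem_sup_right hx)
  have hk : Function.Injective ((u.restrictScalars R).lTensor (R ⧸ m)) := by
    refine Groth.Agent.Flat.Criteria.lTensor_quot_injective _ m fun c hc => ?_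
    have hc' : u c ∈ mS • (⊤ : Submodule S M) := by
      have := Groth.Agent.Flat.Criteria.mem_map_pow_smul (S := S) (N := M) m (k := 1)
        (x := u c) (by rw [pow_one]; exact hc)
      simpa using this
    have h0 : (1 : S ⧸ mS) ⊗ₜ[S] u c = 0 := by
      refine (TensorProduct.quotTensorEquivQuotSMul M mS).injective ?_
      have e := TensorProduct.quotTensorEquivQuotSMul_mk_tmul mS (1 : S) (u c)
      rw [one_smul, map_one, (Submodule.Quotient.mk_eq_zero _).mpr hc'] at e
      rw [e, map_zero]
    rw [hu1] at h0
    have h1 := linearIndependent_iff.mp b.linearIndependent _ h0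
    rw [← Finsupp.sum_single c]
    refine Submodule.sum_mem _ fun i _ => ?_
    have hi : c i ∈ m • (⊤ : Submodule R S) := by
      rw [Ideal.smul_top_eq_map]
      exact Ideal.Quotient.eq_zero_iff_mem.mp (by simpa using DFunLike.congr_fun h1 i)
    refine Submodule.smul_induction_on hi (fun r hr s _ => ?_) (fun p q hp hq => ?_)
    · rw [← Finsupp.smul_single]
      exact Submodule.smul_mem_smul hr trivial
    · rw [Finsupp.single_add]; exact add_mem hp hq
  obtain ⟨hinj, -⟩ := Groth.Agent.Flat.Criteria.injective_and_flat_quotient (S := S)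
    (u.restrictScalars R) m (hmS.trans (IsLocalRing.maximalIdeal_le_jacobson _)) hk
  let e : (ι →₀ S) ≃ₗ[S] M := LinearEquiv.ofBijective u ⟨hinj, hsurj⟩
  refine ⟨Module.Free.of_equiv e, ?_⟩
  haveI : Nonempty ι := by
    by_contra hne
    rw [not_nonempty_iff] at hne
    obtain ⟨x, y, hxy⟩ := exists_pair_ne M
    exact hxy (e.symm.injective (Subsingleton.elim _ _))
  obtain ⟨i⟩ := ‹Nonempty ι›
  haveI : Module.Flat R (ι →₀ S) := Module.Flat.of_linearEquiv (e.restrictScalars R)
  exact Module.Flat.of_retract ((Finsupp.lsingle i : S →ₗ[S] _).restrictScalars R)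
    ((Finsupp.lapply i : _ →ₗ[S] S).restrictScalars R) (LinearMap.ext fun s => by simp)

end Groth.Agent.S0394
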