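-- Proof of S0395.
import Mathlib.RingTheory.Flat.Basic
import Mathlib.RingTheory.LocalRing.ResidueField.Defs
import Mathlib.RingTheory.Noetherian.Basic
import Mathlib.RingTheory.Ideal.Quotient.Operations
import Mathlib.LinearAlgebra.TensorProduct.RightExactness
import Mathlib.RingTheory.Finiteness.Defs
import Mathlib.RingTheory.LocalRing.RingHom.Basic
import Groth.Agent.Flat.Criteria

set_option autoImplicit false
universe u
namespace FlatMor
end FlatMor
open FlatMor

namespace Groth.Agent.S0395

open TensorProduct nonZeroDivisors in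
/-- For a flat local homomorphism R → S of Noetherian local rings and an element f of S that is regular
on the fibre ring S/mS, the quotient of S by f is again R-flat and f is regular on S. -/
theorem result {R S : Type u} [CommRing R] [CommRing S] [IsLocalRing R] [IsLocalRing S] [IsNoetherianRing R] [IsNoetherianRing S] [Algebra R S] [IsLocalHom (algebraMap R S)] [Module.Flat R S]
    (f : S) (hf : Ideal.Quotient.mk ((IsLocalRing.maximalIdeal R).map (algebraMap R S)) f ∈ nonZeroDivisors (S ⧸ ((IsLocalRing.maximalIdeal R).map (algebraMap R S)))) :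
    Module.Flat R (S ⧸ Ideal.span {f}) ∧ f ∈ nonZeroDivisors S := by
  let m := IsLocalRing.maximalIdeal R
  let u : S →ₗ[R] S := LinearMap.mulLeft R f
  have hm : ∀ x : S, x ∈ m • (⊤ : Submodule R S) ↔ x ∈ m.map (algebraMap R S) := fun x => by
    rw [Ideal.smul_top_eq_map]; rfl
  have hu : Function.Injective (u.lTensor (R ⧸ m)) := by
    refine Groth.Agent.Flat.Criteria.lTensor_quot_injective u m fun x hx => ?_
    rw [hm]
    have hx' : f * x ∈ m.map (algebraMap R S) := (hm _).mp hx
    rw [← Ideal.Quotient.eq_zero_iff_mem, map_mul] at hx'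
    rw [← Ideal.Quotient.eq_zero_iff_mem]
    exact (mem_nonZeroDivisors_iff.mp hf).1 _ hx'
  obtain ⟨hinj, hflat⟩ := Groth.Agent.Flat.Criteria.injective_and_flat_quotient (S := S) u m
    ((Ideal.map_le_iff_le_comap.mpr (IsLocalRing.maximalIdeal_comap (algebraMap R S)).ge).trans
      (IsLocalRing.maximalIdeal_le_jacobson _)) hu
  refine ⟨?_, ?_⟩
  · have e : (Ideal.span {f} : Ideal S).restrictScalars R = LinearMap.range u := by
      ext x
      simp [u, Ideal.mem_span_singleton, dvd_iff_exists_eq_mul_right, eq_comm]
    exact Module.Flat.of_linearEquiv ((Submodule.Quotient.restrictScalarsEquiv R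
      (Ideal.span {f} : Ideal S)).symm.trans (Submodule.quotEquivOfEq _ _ e))
  · rw [mem_nonZeroDivisors_iff]
    exact ⟨fun x hx => hinj (by simpa [u] using hx),
      fun x hx => hinj (by simpa [u, mul_comm x f] using hx)⟩

end Groth.Agent.S0395
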