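-- Proof of S0396.
import Mathlib.RingTheory.Flat.Basic
import Mathlib.RingTheory.LocalRing.ResidueField.Defs
import Mathlib.RingTheory.Noetherian.Basic
import Mathlib.RingTheory.Ideal.Quotient.Operations
import Mathlib.LinearAlgebra.TensorProduct.RightExactness
import Mathlib.RingTheory.Finiteness.Defs
import Mathlib.RingTheory.LocalRing.RingHom.Basic
import Mathlib.Algebra.Module.LocalizedModule.Basic
import Groth.Agent.Flat.Criteria
import Mathlib.Algebra.Module.LocalizedModule.Basic
import Mathlib.RingTheory.Localization.Submodule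
import Mathlib.RingTheory.Localization.Finiteness

set_option autoImplicit false
universe u
namespace FlatMor
end FlatMor
open FlatMor

namespace Groth.Agent.S0396

open TensorProduct in
/-- For a map of Noetherian rings R → S, an ideal I of R and a finite S-module M such that M/IⁿM is flat
over R/Iⁿ for every n ≥ 1, the localization of M at any prime of S containing IS is flat over R. -/
theorem result {R S M : Type u} [CommRing R] [CommRing S] [IsNoetherianRing R] [IsNoetherianRing S] [Algebra R S]
    [AddCommGroup M] [Module R M] [Module S M] [IsScalarTower R S M] [Module.Finite S M] (I : Ideal R)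
    (h : ∀ n : ℕ, 0 < n → Module.Flat (R ⧸ I ^ n) ((R ⧸ I ^ n) ⊗[R] M))
    (q : Ideal S) [q.IsPrime] (hq : I.map (algebraMap R S) ≤ q) :
    Module.Flat R (LocalizedModule q.primeCompl M) := by
  let Sq := Localization q.primeCompl
  let L := LocalizedModule q.primeCompl M
  let ℓ : M →ₗ[S] L := LocalizedModule.mkLinearMap q.primeCompl M
  haveI : Module.Finite Sq L := Module.Finite.of_isLocalizedModule q.primeCompl ℓ
  haveI : IsNoetherianRing Sq := IsLocalization.isNoetherianRing q.primeCompl Sq inferInstance
  have hI : I.map (algebraMap R Sq) ≤ Ideal.jacobson ⊥ := by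
    refine le_trans ?_ (IsLocalRing.maximalIdeal_le_jacobson _)
    rw [IsScalarTower.algebraMap_eq R S Sq, ← Ideal.map_map]
    refine (Ideal.map_mono hq).trans ?_
    rw [Localization.AtPrime.map_eq_maximalIdeal]
  have hinj : ∀ (a : Ideal R) (n : ℕ), Function.Injective
      (((a.map (Ideal.Quotient.mk (I ^ n))).restrictScalars R).subtype.lTensor M) := by
    intro a n
    rcases Nat.eq_zero_or_pos n with rfl | hn
    · haveI : Subsingleton (R ⧸ I ^ 0) := Ideal.Quotient.subsingleton_iff.mpr (by simp)
      haveI := (Submodule.injective_subtype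
        ((a.map (Ideal.Quotient.mk (I ^ 0))).restrictScalars R)).subsingleton
      intro x y _
      exact Subsingleton.elim _ _
    · exact Groth.Agent.Flat.LocalCriterion.lTensor_restrictScalars_injective (h n hn)
        (a.map (Ideal.Quotient.mk (I ^ n))).subtype (Submodule.injective_subtype _)
  rw [Module.Flat.iff_lTensor_injective']
  intro a
  rw [injective_iff_map_eq_zero]
  intro y hy
  let G : M ⊗[R] a →ₗ[S] L ⊗[R] a := TensorProduct.AlgebraTensorModule.map ℓ LinearMap.id
  obtain ⟨⟨s, x⟩, hsx⟩ : ∃ p : q.primeCompl × (M ⊗[R] a), (p.1 : S) • y = G p.2 := by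
    clear hy
    induction y using TensorProduct.induction_on with
    | zero => exact ⟨⟨1, 0⟩, by simp⟩
    | add y y' h h' =>
      obtain ⟨⟨s, x⟩, hx⟩ := h
      obtain ⟨⟨s', x'⟩, hx'⟩ := h'
      refine ⟨⟨s * s', (s' : S) • x + (s : S) • x'⟩, ?_⟩
      rw [map_add, map_smul, map_smul, ← hx, ← hx', smul_smul, smul_smul, Submonoid.coe_mul,
        smul_add, mul_comm (s' : S)]
    | tmul l r =>
      obtain ⟨⟨m, s⟩, hm⟩ := IsLocalizedModule.surj q.primeCompl ℓ l
      refine ⟨⟨s, m ⊗ₜ r⟩, ?_⟩
      simp only [G, TensorProduct.AlgebraTensorModule.map_tmul, LinearMap.id_apply]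
      rw [TensorProduct.smul_tmul', ← hm]
      rfl
  let μ : M ⊗[R] a →ₗ[S] M :=
    (TensorProduct.AlgebraTensorModule.rid R S M).toLinearMap ∘ₗ
      TensorProduct.AlgebraTensorModule.map LinearMap.id a.subtype
  let μL : L ⊗[R] a →ₗ[S] L :=
    (TensorProduct.AlgebraTensorModule.rid R S L).toLinearMap ∘ₗ
      TensorProduct.AlgebraTensorModule.map LinearMap.id a.subtype
  have hμ : μL ∘ₗ G = ℓ ∘ₗ μ := by
    ext m r
    simp [μ, μL, G, ← LinearMap.map_smul_of_tower]
  have hy' : μL y = 0 := by
    show TensorProduct.AlgebraTensorModule.rid R S L (a.subtype.lTensor L y) = 0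
    rw [hy, map_zero]
  have hℓ : ℓ (μ x) = 0 := by
    rw [← LinearMap.comp_apply, ← hμ, LinearMap.comp_apply, ← hsx, map_smul, hy', smul_zero]
  obtain ⟨t, ht⟩ := (IsLocalizedModule.eq_zero_iff q.primeCompl ℓ).mp hℓ
  have hker : a.subtype.lTensor M ((t : S) • x) = 0 := by
    refine (TensorProduct.AlgebraTensorModule.rid R S M).injective ?_
    show μ ((t : S) • x) = _
    rw [map_smul, map_zero]
    exact ht
  have hG : G ((t : S) • x) = 0 := by
    haveI : Module.Finite R a := Module.Finite.iff_fg.mpr (IsNoetherian.noetherian a)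
    haveI : Module.Finite Sq (L ⊗[R] a) := Groth.Agent.Flat.Criteria.finite_tensor a
    refine Groth.Agent.Flat.Criteria.eq_zero_of_forall_mem (S := Sq) I hI fun k => ?_
    have := Groth.Agent.Flat.LocalCriterion.ker_le_pow_smul I a (hinj a) hker k
    refine Submodule.smul_induction_on this (fun r hr p _ => ?_) (fun p p' hp hp' => ?_)
    · rw [LinearMap.map_smul_of_tower]
      exact Submodule.smul_mem_smul hr trivial
    · rw [map_add]; exact add_mem hp hp'
  rw [map_smul, ← hsx, smul_smul, ← algebraMap_smul Sq] at hG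
  exact ((IsLocalization.map_units Sq (t * s)).smul_eq_zero).mp (by simpa using hG)

end Groth.Agent.S0396
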