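import Groth.Statements.S0397
import Groth.Agent.Flat.FreeStrata

set_option autoImplicit false
universe u
open FlatMor

namespace Groth.Agent.S0397

/-- Over a local ring whose maximal ideal is nilpotent, every flat module (not necessarily finitely
generated) is free. -/
theorem result {R M : Type u} [CommRing R] [IsLocalRing R] (hR : IsNilpotent (IsLocalRing.maximalIdeal R))
    [AddCommGroup M] [Module R M] [Module.Flat R M] : Module.Free R M := by
  letI : Algebra R R := Algebra.id R
  haveI : Module.Flat R (TensorProduct R R M) := Module.Flat.of_linearEquiv (TensorProduct.lid R M)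
  haveI : (IsLocalRing.maximalIdeal R).IsMaximal := inferInstance
  letI := Ideal.Quotient.field (IsLocalRing.maximalIdeal R)
  haveI : Module.Free R (TensorProduct R R M) :=
    Groth.Agent.Flat.FreeStrata.free_of_nilpotent (R := R) (M := M) (IsLocalRing.maximalIdeal R) hR
      (Module.Free.of_divisionRing _ _)
  exact Module.Free.of_equiv (TensorProduct.lid R M)

end Groth.Agent.S0397
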