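-- Proof of S0398.
import Mathlib.RingTheory.Flat.Basic
import Mathlib.RingTheory.Artinian.Ring
import Groth.Agent.Flat.FreeLift
import Mathlib.RingTheory.HopkinsLevitzki
import Mathlib.RingTheory.Artinian.Module

set_option autoImplicit false
universe u
namespace FlatMor
end FlatMor
open FlatMor

namespace Groth.Agent.S0398

open TensorProduct in
/-- For an injective ring map R → S with R Artinian and an R-module M, if S ⊗ M is flat over S then M is
flat over R. -/
theorem result {R S M : Type u} [CommRing R] [CommRing S] [IsArtinianRing R] [Algebra R S] (hinj : Function.Injective (algebraMap R S))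
    [AddCommGroup M] [Module R M] [Module.Flat S (S ⊗[R] M)] : Module.Flat R M := by
  refine Groth.Agent.Flat.FreeLift.flat_of_family ?_ (fun _ : PUnit.{u + 1} => S)
    (fun a h => hinj ((h PUnit.unit).trans (map_zero _).symm)) M fun _ => inferInstance
  exact IsSemiprimaryRing.isNilpotent

end Groth.Agent.S0398
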