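-- Proof of S0399.
import Mathlib.RingTheory.Flat.Basic
import Mathlib.Algebra.Module.LocalizedModule.Basic
import Mathlib.RingTheory.Localization.Away.Basic
import Mathlib.RingTheory.Ideal.Quotient.Operations
import Groth.Agent.Flat.Criteria
import Mathlib.RingTheory.Flat.Localization
import Mathlib.RingTheory.Localization.BaseChange
import Mathlib.RingTheory.Flat.Stability

set_option autoImplicit false
universe u
namespace FlatMor
end FlatMor
open FlatMor

namespace Groth.Agent.S0399

open TensorProduct in
/-- For a ring A, a module M and an element f that is a nonzerodivisor on A and on M, if M_f is flat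
over A_f and M/fM is flat over A/fA then M is flat over A (the source's companion statement for
faithful flatness is not stated). -/
theorem result {A M : Type u} [CommRing A] [AddCommGroup M] [Module A M] (f : A) (hA : f ∈ nonZeroDivisors A) (hM : IsSMulRegular M f)
    [Module.Flat (Localization.Away f) (LocalizedModule (Submonoid.powers f) M)]
    [Module.Flat (A ⧸ Ideal.span {f}) ((A ⧸ Ideal.span {f}) ⊗[A] M)] : Module.Flat A M := by
  have h1 : Function.Injective ((Ideal.span {f}).subtype.rTensor M) := by
    rw [injective_iff_map_eq_zero]
    intro z hz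
    obtain ⟨m, rfl⟩ : ∃ m : M, (⟨f, Ideal.mem_span_singleton_self f⟩ : Ideal.span {f}) ⊗ₜ[A] m = z := by
      clear hz
      induction z using TensorProduct.induction_on with
      | zero => exact ⟨0, TensorProduct.tmul_zero _ _⟩
      | add p q hp hq =>
        obtain ⟨a, rfl⟩ := hp
        obtain ⟨b, rfl⟩ := hq
        exact ⟨a + b, TensorProduct.tmul_add _ _ _⟩
      | tmul r m =>
        obtain ⟨c, hc⟩ := Ideal.mem_span_singleton'.mp r.2
        refine ⟨c • m, ?_⟩
        rw [← TensorProduct.smul_tmul]
        congr 1
        exact Subtype.ext hc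
    have hm : f • m = 0 := by simpa using congrArg (TensorProduct.lid A M) hz
    rw [hM (show f • m = f • 0 by rw [hm, smul_zero]), TensorProduct.tmul_zero]
  rw [Module.Flat.iff_lTensor_injective']
  intro a
  rw [injective_iff_map_eq_zero]
  intro x hx
  let ℓ := LocalizedModule.mkLinearMap (Submonoid.powers f) M
  haveI : Module.Flat A (Localization.Away f) := IsLocalization.flat _ (Submonoid.powers f)
  haveI : Module.Flat A (LocalizedModule (Submonoid.powers f) M) :=
    Module.Flat.trans A (Localization.Away f) _
  let G := TensorProduct.AlgebraTensorModule.rTensor (A := A) A a ℓ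
  have hG : G x = 0 := by
    refine Module.Flat.lTensor_preserves_injective_linearMap
      (M := LocalizedModule (Submonoid.powers f) M) a.subtype (Submodule.injective_subtype a) ?_
    have : ∀ y, a.subtype.lTensor (LocalizedModule (Submonoid.powers f) M) (G y) =
        ℓ.rTensor A (a.subtype.lTensor M y) := by
      intro y
      induction y using TensorProduct.induction_on with
      | zero => simp
      | add p q hp hq => simp only [map_add, hp, hq]
      | tmul m r => simp [G]
    rw [this, hx, map_zero, map_zero]
  obtain ⟨⟨s, n, rfl⟩, hs⟩ := (IsLocalizedModule.eq_zero_iff (Submonoid.powers f) G).mp hG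
  have hs' : f ^ n • x = 0 := hs
  clear hs hx hG
  let φ : a →ₗ[A] a := f • LinearMap.id
  have hφ : Function.Injective φ := by
    rw [injective_iff_map_eq_zero]
    intro y hy
    refine Subtype.ext ?_
    exact (mem_nonZeroDivisors_iff.mp hA).1 _ (congrArg Subtype.val hy)
  have hinj : Function.Injective (φ.lTensor M) := by
    refine (Groth.Agent.Flat.LocalCriterion.torZero_of_killed (Ideal.span {f}) h1 ‹_›
      (↥a ⧸ LinearMap.range φ) fun r hr y => ?_).lTensor_injective hφ
      (LinearMap.exact_map_mkQ_range φ) (Submodule.mkQ_surjective _)
    obtain ⟨c, rfl⟩ := Ideal.mem_span_singleton'.mp hr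
    obtain ⟨y, rfl⟩ := Submodule.mkQ_surjective _ y
    rw [← map_smul, Submodule.mkQ_apply, Submodule.Quotient.mk_eq_zero]
    exact ⟨c • y, by simp [φ, smul_smul, mul_comm c]⟩
  induction n with
  | zero => simpa using hs'
  | succ n ih =>
    refine ih (hinj ?_)
    rw [map_zero, LinearMap.lTensor_smul, LinearMap.lTensor_id, LinearMap.smul_apply,
      LinearMap.id_apply, smul_smul, ← pow_succ']
    exact hs'

end Groth.Agent.S0399
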