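import Groth.Statements.S0401

set_option autoImplicit false
universe u
open FlatMor

namespace Groth.Agent.S0401

/-- For a finite type ring map R → S quasi-finite at a prime q lying over p, the dimension of S_q is at
most the dimension of R_p. -/
theorem result {R S : Type u} [CommRing R] [CommRing S] [Algebra R S] [Algebra.FiniteType R S] (q : Ideal S) [q.IsPrime] [Algebra.QuasiFiniteAt R q] :
    ringKrullDim (Localization.AtPrime q) ≤ ringKrullDim (Localization.AtPrime (q.under R)) := by
  refine Order.krullDim_le_of_strictMono (fun P : PrimeSpectrum (Localization.AtPrime q) =>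
    PrimeSpectrum.comap (Localization.localRingHom (q.under R) q (algebraMap R S) rfl) P)
    fun a b hab => ?_
  have hle : a.asIdeal ≤ b.asIdeal := hab.le
  refine lt_of_le_of_ne (Ideal.comap_mono hle) fun he => hab.ne (PrimeSpectrum.ext ?_)
  refine Algebra.QuasiFinite.eq_of_le_of_under_eq (R := R) a.asIdeal b.asIdeal hle ?_
  have := congrArg (fun P : PrimeSpectrum (Localization.AtPrime (q.under R)) =>
    P.asIdeal.comap (algebraMap R (Localization.AtPrime (q.under R)))) he
  simp only [PrimeSpectrum.comap_asIdeal, Ideal.comap_comap] at this
  have hc : (Localization.localRingHom (q.under R) q (algebraMap R S) rfl).comp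
      (algebraMap R (Localization.AtPrime (q.under R))) = algebraMap R (Localization.AtPrime q) :=
    RingHom.ext fun r => by
      rw [RingHom.comp_apply, Localization.localRingHom_to_map, ← IsScalarTower.algebraMap_apply]
  rwa [hc] at this

end Groth.Agent.S0401
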