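import Groth.Statements.S0404
import Groth.Agent.HensPair.RelDim
import Groth.Agent.CMFlat.Locus

set_option autoImplicit false
universe u
open FlatMor

namespace Groth.Agent.S0404

open AlgebraicGeometry CategoryTheory Limits in
/-- For a flat morphism of finite presentation (here: flat, quasi-compact, quasi-separated and locally
of finite presentation) the dimension of the fibre is a lower semicontinuous function on the target. -/
theorem result {X S : Scheme.{u}} (f : X ⟶ S) [Flat f] [LocallyOfFinitePresentation f] [QuasiCompact f] [QuasiSeparated f] (c : WithBot ℕ∞) :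
    IsOpen {s : S | c < topologicalKrullDim (f.fiber s)} := by
  open Groth.Agent.HensPair in
  refine isOpen_iff_forall_mem_open.mpr fun s hs => ?_
  obtain ⟨x, hfx, hx⟩ : ∃ x, f x = s ∧ c < FlatMor.fibreDimAt f x := by
    by_contra hno
    push Not at hno
    exact (lt_irrefl c) (lt_of_lt_of_le hs ((Groth.Agent.Equidim.dim_fiber_le_iff f s c).mpr hno))
  obtain ⟨a, -, hmax, hdim⟩ := FibreTrdeg.exists_maximal_dim f x
  let z := f.fiberι (f x) a
  have hfz : f z = s := ((f.range_fiberι (f x)).subset ⟨a, rfl⟩).trans hfx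
  have hmax' : ∀ p : ↥(f.fiber (f z)), p ⤳ f.asFiber z → p = f.asFiber z := fun p hp => by
    have h1 : f.fiberι (f z) p ⤳ z := (hp.map (f.fiberι (f z)).continuous).trans (specializes_of_eq (f.fiberι_asFiber z))
    obtain ⟨p', hp'⟩ : f.fiberι (f z) p ∈ Set.range (f.fiberι (f x)) := by
      rw [f.range_fiberι]; exact ((f.range_fiberι (f z)).subset ⟨p, rfl⟩).trans (hfz.trans hfx.symm)
    rw [← hp'] at h1
    have h2 := hmax p' ((f.fiberι (f x)).isEmbedding.isInducing.specializes_iff.mp h1)
    refine (f.fiberι (f z)).isEmbedding.injective ?_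
    rw [← hp', h2, Scheme.Hom.fiberι_asFiber]
  obtain ⟨d, V, g, hzV, hgq, hflat, hqf, hd⟩ :=
    Groth.Agent.CMFlat.Locus.exists_flat_param f z (Groth.Agent.CMFlat.Locus.isCMAt_of_maximal f z hmax')
  haveI := hflat
  haveI := hqf
  refine ⟨f '' (V : Set X), ?_, f.isOpenMap _ V.isOpen, ⟨z, hzV, hfz⟩⟩
  rintro _ ⟨w, hw, rfl⟩
  refine lt_of_lt_of_le (hx.trans_le hdim) ?_
  rw [hd, ← RelDim.fibreDimAt_const_of_flat_param f V g hgq w hw]
  exact Groth.Agent.Equidim.fibreDimAt_le_dim f w

end Groth.Agent.S0404
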