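import Groth.Statements.S0415
import Groth.Agent.UnivHomeo.Affine

set_option autoImplicit false
universe u
open FlatMor

namespace Groth.Agent.S0415

open AlgebraicGeometry CategoryTheory Limits in
/-- A morphism of schemes is a universal homeomorphism if and only if it is integral, universally
injective and surjective. -/
theorem result {X Y : Scheme.{u}} (f : X ⟶ Y) :
    FlatMor.IsUnivHomeo f ↔ IsIntegralHom f ∧ UniversallyInjective f ∧ Surjective f := by
  refine ⟨fun h => ⟨Groth.Agent.UnivHomeo.isIntegralHom_of_univHomeo h,
    Groth.Agent.UnivHomeo.Basic.universallyInjective_of_isUnivHomeo h,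
    Groth.Agent.UnivHomeo.Basic.surjective_of_isUnivHomeo h⟩, fun ⟨h1, h2, h3⟩ => ?_⟩
  exact Groth.Agent.UnivHomeo.Basic.isUnivHomeo_of f

end Groth.Agent.S0415
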