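import Groth.Statements.S0416
import Mathlib

set_option autoImplicit false
set_option backward.isDefEq.respectTransparency false
set_option backward.isDefEq.respectTransparency.types false
universe u
open FlatMor

namespace Groth.Agent.S0416

open AlgebraicGeometry CategoryTheory Limits in
/-- When a composite of two morphisms is a universal homeomorphism and so is either factor, the
remaining factor is a universal homeomorphism as well. -/
theorem result {X Y Z : Scheme.{u}} (g : X ⟶ Y) (h : Y ⟶ Z) :
    (FlatMor.IsUnivHomeo (g ≫ h) → FlatMor.IsUnivHomeo g → FlatMor.IsUnivHomeo h) ∧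
    (FlatMor.IsUnivHomeo (g ≫ h) → FlatMor.IsUnivHomeo h → FlatMor.IsUnivHomeo g) := by
  refine ⟨fun hgh hg => ?_, fun hgh hh => ?_⟩
  · intro T Z' i j h' hsq
    obtain ⟨W, a, g', hW⟩ : ∃ (W : Scheme.{u}) (a : W ⟶ X) (g' : W ⟶ T), IsPullback a g' g i :=
      ⟨_, _, _, IsPullback.of_hasPullback g i⟩
    have h1 : IsHomeomorph g' := hg _ _ _ hW.flip
    have h2 : IsHomeomorph (g' ≫ h') := hgh _ _ _ (hW.paste_vert hsq.flip).flip
    show IsHomeomorph h'
    have h3 : (h' : T → Z') = (g' ≫ h' : W ⟶ Z') ∘ h1.homeomorph.symm := by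
      funext t
      show _ = h' (g' (h1.homeomorph.symm t))
      exact congrArg h' (h1.homeomorph.apply_symm_apply t).symm
    rw [h3]
    exact h2.comp h1.homeomorph.symm.isHomeomorph
  · have hp : FlatMor.IsUnivHomeo (pullback.fst (g ≫ h) h) :=
      (MorphismProperty.universally_isStableUnderBaseChange _).of_isPullback
        (IsPullback.of_hasPullback (g ≫ h) h).flip hh
    have hq : FlatMor.IsUnivHomeo (pullback.snd (g ≫ h) h) :=
      (MorphismProperty.universally_isStableUnderBaseChange _).of_isPullback
        (IsPullback.of_hasPullback (g ≫ h) h) hgh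
    let s : X ⟶ pullback (g ≫ h) h := pullback.lift (𝟙 X) g (by simp)
    haveI : IsImmersion (s ≫ pullback.fst (g ≫ h) h) := by
      rw [pullback.lift_fst]; infer_instance
    haveI : IsImmersion s := IsImmersion.of_comp s (pullback.fst (g ≫ h) h)
    haveI : Surjective s := ⟨fun z => ⟨pullback.fst (g ≫ h) h z, by
      have hb : IsHomeomorph (pullback.fst (g ≫ h) h) :=
        hp _ _ _ (IsPullback.id_vert _)
      refine hb.injective ?_
      rw [← Scheme.Hom.comp_apply, pullback.lift_fst]
      rfl⟩⟩
    intro T X' i j g' hsq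
    show IsHomeomorph g'
    obtain ⟨W, b, q', hW⟩ : ∃ (W : Scheme.{u}) (b : W ⟶ pullback (g ≫ h) h) (q' : W ⟶ X'),
        IsPullback b q' (pullback.snd (g ≫ h) h) j := ⟨_, _, _, IsPullback.of_hasPullback _ j⟩
    let s' : T ⟶ W := hW.lift (i ≫ s) g' (by rw [Category.assoc, pullback.lift_snd]; exact hsq.w.symm)
    have hs' : IsPullback i s' s b := IsPullback.of_bot (by
      rw [hW.lift_snd, pullback.lift_snd]; exact hsq.flip) (hW.lift_fst _ _ _).symm hW
    haveI : IsImmersion s' := MorphismProperty.of_isPullback (P := @IsImmersion) hs' inferInstance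
    haveI : Surjective s' :=
      MorphismProperty.of_isPullback (P := @Surjective.{u}) hs' inferInstance
    have h4 : IsHomeomorph (s' ≫ q') := by
      have h5 : IsHomeomorph q' := hq _ _ _ hW.flip
      rw [Scheme.Hom.comp_base]
      exact h5.comp (s'.isEmbedding.toHomeomorphOfSurjective s'.surjective).isHomeomorph
    rwa [hW.lift_snd] at h4

end Groth.Agent.S0416
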