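import Groth.Statements.S0424
import Groth.Agent.FlatMor.AbsFlat

set_option autoImplicit false
universe u
open FlatMor

namespace Groth.Agent.S0424

open AlgebraicGeometry CategoryTheory Limits in
/-- A weakly étale morphism locally of finite presentation is étale. -/
theorem result {X Y : Scheme.{u}} (f : X ⟶ Y) [WeaklyEtale f] [LocallyOfFinitePresentation f] : Etale f := by
  rw [Etale.iff_flat_and_formallyUnramified]
  exact ⟨inferInstance, ⟨fun {U} hU {V} hV e =>
    letI := (f.appLE U V e).hom.toAlgebra
    haveI := Groth.Agent.FlatMor.AbsFlat.weaklyEtale_appLE f hU hV e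
    Groth.Agent.FlatMor.AbsFlat.formallyUnramified Γ(Y, U) Γ(X, V)⟩, inferInstance⟩

end Groth.Agent.S0424
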