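import Groth.Statements.S0425
import Groth.Agent.UnivHomeo.Affine
import Mathlib

set_option autoImplicit false
universe u
open FlatMor

namespace Groth.Agent.S0425

open AlgebraicGeometry CategoryTheory Limits in
/-- A weakly étale universal homeomorphism is an isomorphism. -/
theorem result {X Y : Scheme.{u}} (f : X ⟶ Y) [WeaklyEtale f] (h : FlatMor.IsUnivHomeo f) : IsIso f := by
  haveI := Groth.Agent.UnivHomeo.isIntegralHom_of_univHomeo h
  haveI := Groth.Agent.UnivHomeo.Basic.universallyInjective_of_isUnivHomeo h
  haveI := Groth.Agent.UnivHomeo.Basic.surjective_of_isUnivHomeo h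
  haveI hs : Surjective (pullback.diagonal f) :=
    by
    have := ‹UniversallyInjective f›
    rw [universallyInjective_eq_diagonal] at this
    exact this
  haveI : IsIso (pullback.diagonal f) := by
    rw [isIso_iff_isIso_stalkMap]
    have hb : IsHomeomorph (pullback.diagonal f).base := isHomeomorph_iff_isEmbedding_surjective.mpr
      ⟨(pullback.diagonal f).isClosedEmbedding.isEmbedding, (pullback.diagonal f).surjective⟩
    refine ⟨(TopCat.isoOfHomeo hb.homeomorph).isIso_hom, fun x => ?_⟩
    rw [ConcreteCategory.isIso_iff_bijective]
    refine ⟨?_, (pullback.diagonal f).stalkMap_surjective x⟩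
    have h2 := Flat.stalkMap (pullback.diagonal f) x
    algebraize [((pullback.diagonal f).stalkMap x).hom]
    haveI : IsLocalHom (algebraMap ↑((pullback.diagonalObj f).presheaf.stalk (pullback.diagonal f x))
        ↑(X.presheaf.stalk x)) := inferInstanceAs (IsLocalHom ((pullback.diagonal f).stalkMap x).hom)
    haveI := Module.FaithfullyFlat.of_flat_of_isLocalHom
      (A := ↑((pullback.diagonalObj f).presheaf.stalk (pullback.diagonal f x))) (B := ↑(X.presheaf.stalk x))
    exact FaithfulSMul.algebraMap_injective
      ↑((pullback.diagonalObj f).presheaf.stalk (pullback.diagonal f x)) ↑(X.presheaf.stalk x)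
  haveI : Mono f := by
    exact (pullback.isIso_diagonal_iff f).mp inferInstance
  exact Flat.isIso_of_surjective_of_mono f

end Groth.Agent.S0425
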