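import Groth.Statements.S0443
import Mathlib
-- import your own Groth.Agent.* helpers here

set_option autoImplicit false
universe u
open FlatMor

namespace Groth.Agent.S0443

theorem finite_localRingHom {A B : Type u} [CommRing A] [CommRing B] (p : Ideal A) [p.IsPrime]
    (q : Ideal B) [q.IsPrime] (φ : A →+* B) (hpq : p = q.comap φ) (hfin : φ.Finite)
    (huniq : ∀ P : Ideal B, [P.IsPrime] → P.comap φ = p → P = q) :
    (Localization.localRingHom p q φ hpq).Finite := by
  algebraize [φ, Localization.localRingHom p q φ hpq]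
  haveI : IsScalarTower A (Localization.AtPrime p) (Localization.AtPrime q) := by
    refine IsScalarTower.of_algebraMap_eq (fun a => ?_)
    rw [IsScalarTower.algebraMap_apply A B (Localization.AtPrime q)]
    exact (Localization.localRingHom_to_map p q φ hpq a).symm
  have hle : Algebra.algebraMapSubmonoid B p.primeCompl ≤ q.primeCompl := by
    rintro b ⟨a, ha, rfl⟩ hb
    exact ha (hpq ▸ hb)
  haveI : IsLocalization q.primeCompl (Localization (Algebra.algebraMapSubmonoid B p.primeCompl)) := by
    refine IsLocalization.isLocalization_of_is_exists_mul_mem _ (Algebra.algebraMapSubmonoid B p.primeCompl) q.primeCompl hle ?_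
    intro s
    by_contra hs
    have hdis : Disjoint (Ideal.span {(s : B)} : Set B) (Algebra.algebraMapSubmonoid B p.primeCompl : Set B) := by
      rw [Set.disjoint_left]
      intro b hb hb'
      obtain ⟨c, hc⟩ := Ideal.mem_span_singleton'.mp hb
      exact hs ⟨c, hc.symm ▸ hb'⟩
    obtain ⟨P, hP, hPs, hPd⟩ := Ideal.exists_le_prime_disjoint _ _ hdis
    have hPp : P.comap φ ≤ p := by
      intro a ha
      by_contra ha'
      exact Set.disjoint_left.mp hPd ha ⟨a, ha', rfl⟩
    haveI := hP
    obtain ⟨Q, hPQ, hQ, hQp⟩ := Ideal.exists_ideal_over_prime_of_isIntegral p P hPp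
    haveI := hQ
    have := huniq Q hQp
    have hsQ : (s : B) ∈ Q := hPQ (hPs (Ideal.mem_span_singleton_self _))
    exact s.2 (le_of_eq this hsQ)
  haveI : IsLocalization (Algebra.algebraMapSubmonoid B p.primeCompl) (Localization.AtPrime q) :=
    IsLocalization.isLocalization_of_algEquiv _
      (IsLocalization.algEquiv q.primeCompl (Localization (Algebra.algebraMapSubmonoid B p.primeCompl)) (Localization.AtPrime q))
  exact Module.Finite.of_isLocalization A B p.primeCompl

open AlgebraicGeometry CategoryTheory Limits in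
/-- For a finite morphism π : X → Y and a point x of X that is the only point of its fibre, the induced
homomorphism of local rings O_{Y,π(x)} → O_{X,x} is finite. (The published lemma has further parts,
not stated here.) -/
theorem result {X Y : Scheme.{u}} (π : X ⟶ Y) [IsFinite π] (x : X) (hx : ∀ x' : ↑X, π x' = π x → x' = x) :
    (π.stalkMap x).hom.Finite := by
  obtain ⟨V, hV, hxV, -⟩ := exists_isAffineOpen_mem_and_subset (X := Y) (x := π x) (U := ⊤) trivial
  let W := π ⁻¹ᵁ V
  have hW : IsAffineOpen W := hV.preimage π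
  have hWV : W ≤ π ⁻¹ᵁ V := le_rfl
  rw [RingHom.finite_respectsIso.arrow_mk_iso_iff (IsAffineOpen.arrowStalkMapIso π V hV W hW hWV hxV)]
  have hfin : (π.appLE V W hWV).hom.Finite := by
    rw [Scheme.Hom.appLE_eq_app]; exact IsFinite.finite_app (f := π) V hV
  have huniq : ∀ P : Ideal Γ(X, W), [P.IsPrime] → P.comap (π.appLE V W hWV).hom = (hV.primeIdealOf ⟨π x, hxV⟩).asIdeal →
      P = (hW.primeIdealOf ⟨x, hxV⟩).asIdeal := by
    intro P _ hP
    let y := hW.fromSpec ⟨P, inferInstance⟩
    have hy : y ∈ W := by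
      have h0 : y ∈ Set.range hW.fromSpec := ⟨_, rfl⟩
      rwa [hW.range_fromSpec] at h0
    have hPy : hW.primeIdealOf ⟨y, hy⟩ = ⟨P, inferInstance⟩ :=
      hW.fromSpec.isOpenEmbedding.injective (hW.fromSpec_primeIdealOf ⟨y, hy⟩)
    have h1 := IsAffineOpen.comap_primeIdealOf_appLE (f := π) V hV W hW hWV hy
    rw [hPy] at h1
    have h2 : hV.primeIdealOf ⟨π y, hWV hy⟩ = hV.primeIdealOf ⟨π x, hxV⟩ := by
      rw [← h1]; exact PrimeSpectrum.ext hP
    have h3 : π y = π x := by
      have := congrArg hV.fromSpec h2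
      rwa [hV.fromSpec_primeIdealOf, hV.fromSpec_primeIdealOf] at this
    have h4 := hx y h3
    have h5 : hW.primeIdealOf ⟨y, hy⟩ = hW.primeIdealOf ⟨x, hxV⟩ := by congr 1; exact Subtype.ext h4
    rw [← h5, hPy]
  exact finite_localRingHom _ _ _ (congrArg PrimeSpectrum.asIdeal (IsAffineOpen.comap_primeIdealOf_appLE (f := π) V hV W hW hWV hxV)).symm hfin huniq

end Groth.Agent.S0443
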