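-- Proof of S0448.
import Mathlib.RingTheory.Flat.Basic
import Mathlib.RingTheory.LocalRing.ResidueField.Basic
import Mathlib.Algebra.Module.Projective
import Mathlib.LinearAlgebra.TensorProduct.RightExactness
import Groth.Agent.Flat.UnivInjective

set_option autoImplicit false
universe u
namespace FlatMor
end FlatMor
open FlatMor

namespace Groth.Agent.S0448

open TensorProduct in
/-- Over a local ring, a linear map from a projective module to a flat module which is injective modulo
the maximal ideal is universally injective (injective after tensoring with any module). -/
theorem result {R M N : Type u} [CommRing R] [IsLocalRing R] [AddCommGroup M] [Module R M] [Module.Projective R M]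
    [AddCommGroup N] [Module R N] [Module.Flat R N] (u : M →ₗ[R] N)
    (h : Function.Injective (LinearMap.lTensor (IsLocalRing.ResidueField R) u)) :
    ∀ (Q : Type u) [AddCommGroup Q] [Module R Q], Function.Injective (LinearMap.rTensor Q u) := by
  intro Q _ _
  refine Groth.Agent.Flat.UnivInjective.rTensor_injective_of_projective u (fun x hx => ?_) Q
  refine Groth.Agent.Flat.FreeLift.mem_smul_top_of_tmul_eq_zero (IsLocalRing.maximalIdeal R) ?_
  refine h ?_
  refine Eq.trans ?_ (map_zero _).symm
  exact Groth.Agent.Flat.FreeLift.tmul_eq_zero_of_mem (IsLocalRing.maximalIdeal R) hx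

end Groth.Agent.S0448
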