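import Groth.Statements.S0460
import Groth.Agent.Lead.Flasque.Top
import Groth.Agent.Lead.Flasque.Ext
import Mathlib.Topology.Sheaves.AddCommGrpCat
import Mathlib.CategoryTheory.Sites.LocallyBijective
-- import your own Groth.Agent.* helpers here

set_option autoImplicit false
universe u
open CategoryTheory
open CohTop TopologicalSpace Opposite Abelian
open Groth.Agent.Lead.Flasque.Top

namespace Groth.Agent.S0460

open TopologicalSpace in
/-- Given an abelian sheaf F, an open U and a class ξ in H^(n+1)(U, F), there is an open covering of U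
on each member of which ξ restricts to zero. -/
theorem result {X : TopCat.{u}} (F : CohTop.Ab X) (U : Opens X) (n : ℕ)
    (ξ : CohTop.HU F (n + 1) U) :
    ∃ (ι : Type u) (V : ι → Opens X) (hV : ∀ i, V i ≤ U), iSup V = U ∧
      ∀ i, CohTop.res F (n + 1) (hV i) ξ = 0 := by
  let G : CohTop.Ab X := freeSh.obj U
  obtain ⟨B, π, hπ, hξ⟩ := Lead.Flasque.exists_epi_kill (A := CohTop.Ab X) n (X := G) ξ
  have hs : TopCat.Presheaf.IsLocallySurjective π.hom := (TopCat.Sheaf.isLocallySurjective_iff_epi (X := X) _).2 hπ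
  have hloc := fun x : U => (TopCat.Presheaf.isLocallySurjective_iff _).1 hs U (freeEquiv U G (𝟙 _)) x.1 x.2
  choose V hVU ht hxV using hloc
  refine ⟨U, V, hVU, le_antisymm (iSup_le hVU) fun x hx => Opens.mem_iSup.2 ⟨⟨x, hx⟩, hxV ⟨x, hx⟩⟩, fun x => ?_⟩
  obtain ⟨t, ht⟩ := ht x
  obtain ⟨g, rfl⟩ := (freeEquiv (V x) B).surjective t
  have e : g ≫ π = freeSh.map (homOfLE (hVU x)) := by
    apply (freeEquiv (V x) G).injective
    rw [freeEquiv_comp]
    refine ht.trans ?_
    rw [← Category.comp_id (freeSh.map _), freeEquiv_map]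
    rfl
  show (Ext.mk₀ (freeSh.map (homOfLE (hVU x)))).comp ξ (zero_add (n + 1)) = 0
  rw [← e, ← Ext.mk₀_comp_mk₀_assoc, hξ, Ext.comp_zero]

end Groth.Agent.S0460
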