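import Groth.Statements.S0482
import Groth.Agent.Lead.SiteCoh.TA
import Groth.Agent.Lead.Flasque.ExtCompute
import Groth.Prelude.Def_FreeSh
-- import your own Groth.Agent.* helpers here

set_option autoImplicit false
universe u
open CategoryTheory CategoryTheory.Limits
open CohSite

namespace Groth.Agent.S0482

/-- For a sheaf of abelian groups F on a small site and an object U, H^n(U, F) (Ext out of the free
abelian sheaf on U) is isomorphic to the cohomology of the restriction of F to the site of objects
over U (existence of a group isomorphism). -/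
theorem result {C : Type u} [SmallCategory C] (J : GrothendieckTopology C)
    (F : Sheaf J AddCommGrpCat.{u}) (U : C) (n : ℕ) :
    Nonempty (CohSite.HU F n U ≃+ Sheaf.H.{u} (F.over U) n) := by
  let G := (Over.forget U).sheafPushforwardContinuous AddCommGrpCat.{u} (J.over U) J
  haveI : PreservesFiniteColimits G :=
    by
    haveI := ((Over.forget U).sheafAdjunctionCocontinuous AddCommGrpCat.{u} (J.over U) J).leftAdjoint_preservesColimits.{0, 0}
    exact ⟨fun L _ _ => inferInstance⟩
  haveI : PreservesFiniteLimits G :=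
    by
    haveI := (Groth.Agent.OverExtend.KInjective.extendAdj J U).rightAdjoint_preservesLimits.{0, 0}
    exact ⟨fun L _ _ => inferInstance⟩
  haveI : G.Additive := Functor.additive_of_preserves_binary_products G
  let R := injectiveResolution F
  have hz : ∀ q : ℕ, IsZero ((G.rightDerived (q + 1)).obj F) := fun q => by
    refine IsZero.of_iso ?_ (R.isoRightDerivedObj G (q + 1))
    exact (HomologicalComplex.exactAt_iff_isZero_homology _ _).1
      ((R.cocomplex_exactAt_succ q).map G)
  obtain ⟨R', hR'⟩ := Groth.Agent.Lead.Flasque.ExtCompute.nonempty_mapResolution R G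
    (fun I hI => @Groth.Agent.Lead.SiteCoh.injective_over _ _ _ U I hI) hz
  have hT : IsTerminal (Over.mk (𝟙 U)) := Over.mkIdTerminal
  let a : ∀ A : Sheaf J AddCommGrpCat.{u}, (CohCx.freeSheaf J U ⟶ A) ≃+
      ((constantSheaf (J.over U) AddCommGrpCat.{u}).obj (AddCommGrpCat.of (ULift ℤ)) ⟶ G.obj A) := fun A =>
    (CohFree.homEquivSect J U A).trans
      (((constantSheafAdj (J.over U) AddCommGrpCat.{u} hT).homAddEquiv _ (G.obj A)).trans
        (AddCommGrpCat.uliftZMultiplesAddEquiv _)).symm
  have ha : ∀ (A B : Sheaf J AddCommGrpCat.{u}) (φ : A ⟶ B) (f : CohCx.freeSheaf J U ⟶ A),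
      a B (f ≫ φ) = a A f ≫ G.map φ := fun A B φ f => by
    let E : ∀ A : Sheaf J AddCommGrpCat.{u},
        ((constantSheaf (J.over U) AddCommGrpCat.{u}).obj (AddCommGrpCat.of (ULift ℤ)) ⟶ G.obj A) ≃+ A.obj.obj (Opposite.op U) :=
      fun A => ((constantSheafAdj (J.over U) AddCommGrpCat.{u} hT).homAddEquiv _ (G.obj A)).trans
        (AddCommGrpCat.uliftZMultiplesAddEquiv _)
    have hE : ∀ g, E B (g ≫ G.map φ) = φ.hom.app (Opposite.op U) (E A g) := fun g => by
      simp only [E, AddEquiv.trans_apply, Adjunction.homAddEquiv_apply]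
      rw [Adjunction.homEquiv_naturality_right]
      rfl
    apply (E B).injective
    refine ((E B).apply_symm_apply (CohFree.homEquivSect J U B (f ≫ φ))).trans ?_
    refine Eq.trans ?_ (hE _).symm
    refine Eq.trans ?_ (congrArg (φ.hom.app (Opposite.op U)) ((E A).apply_symm_apply (CohFree.homEquivSect J U A f))).symm
    rfl
  obtain @⟨cR', inj, hh, ι', qi⟩ := R'
  subst hR'
  exact Groth.Agent.Lead.Flasque.ExtCompute.nonempty_extCongr R (@InjectiveResolution.mk _ _ _ _ _ _ inj hh ι' qi) (fun n => a (R.cocomplex.X n)) (fun n f => ha (R.cocomplex.X n) (R.cocomplex.X (n + 1)) (R.cocomplex.d n (n + 1)) f) n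

end Groth.Agent.S0482
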