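import Groth.Statements.S0483
import Mathlib
-- import your own Groth.Agent.* helpers here

set_option autoImplicit false
universe u
open CategoryTheory
open CohSite

namespace Groth.Agent.S0483

/-- For an abelian sheaf F on a small site, an object U and a class ξ in H^(n+1)(U, F), there is a
covering sieve of U such that ξ pulls back to zero along every arrow of the sieve. -/
theorem result {C : Type u} [SmallCategory C] (J : GrothendieckTopology C)
    (F : Sheaf J AddCommGrpCat.{u}) (U : C) (n : ℕ) (ξ : CohSite.HU F (n + 1) U) :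
    ∃ (S : J.Cover U), ∀ (a : S.Arrow), CohSite.res F (n + 1) a.f ξ = 0 := by
  let adj := (AddCommGrpCat.adj.whiskerRight Cᵒᵖ).comp (sheafificationAdjunction J AddCommGrpCat.{u})
  let P : C ⥤ Sheaf J AddCommGrpCat.{u} :=
    yoneda ⋙ (Functor.whiskeringRight _ _ _).obj AddCommGrpCat.free ⋙ presheafToSheaf _ _
  have key : ∀ (n : ℕ) (F : Sheaf J AddCommGrpCat.{u}) (ξ : Abelian.Ext (P.obj U) F (n + 1)),
      ∃ S : J.Cover U, ∀ a : S.Arrow, (Abelian.Ext.mk₀ (P.map a.f)).comp ξ (zero_add _) = 0 := by
    intro n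
    induction n with
    | zero =>
      intro F ξ
      let SS : ShortComplex (Sheaf J AddCommGrpCat.{u}) :=
        ShortComplex.mk (Injective.ι F) (Limits.cokernel.π _) (Limits.cokernel.condition _)
      have hS : SS.ShortExact := { exact := ShortComplex.exact_cokernel _ }
      obtain ⟨η, rfl⟩ := Abelian.Ext.covariant_sequence_exact₁ _ hS ξ (Abelian.Ext.eq_zero_of_injective _) (n₀ := 0) rfl
      obtain ⟨g, rfl⟩ := (Abelian.Ext.mk₀_bijective _ _).2 η
      haveI := (Sheaf.isLocallySurjective_iff_epi' (A := AddCommGrpCat.{u}) SS.g).2 hS.epi_g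
      let y : SS.X₃.obj.obj (Opposite.op U) := yonedaEquiv (adj.homEquiv (yoneda.obj U) SS.X₃ g)
      refine ⟨⟨_, Presheaf.imageSieve_mem J SS.g.hom y⟩, fun a => ?_⟩
      obtain ⟨x, hx⟩ := a.hf
      have hg : P.map a.f ≫ g = (adj.homEquiv (yoneda.obj a.Y) SS.X₂).symm (yonedaEquiv.symm x) ≫ SS.g := by
        refine (adj.homEquiv (yoneda.obj a.Y) SS.X₃).injective ?_
        refine (adj.homEquiv_naturality_left _ g).trans (Eq.trans ?_ (adj.homEquiv_naturality_right _ _).symm)
        rw [Equiv.apply_symm_apply]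
        refine yonedaEquiv.injective ?_
        refine (yonedaEquiv_naturality _ a.f).symm.trans ?_
        rw [yonedaEquiv_comp, Equiv.apply_symm_apply]
        exact hx.symm
      rw [← Abelian.Ext.comp_assoc_of_second_deg_zero, Abelian.Ext.mk₀_comp_mk₀, hg,
        ← Abelian.Ext.mk₀_comp_mk₀, Abelian.Ext.comp_assoc_of_second_deg_zero, hS.comp_extClass,
        Abelian.Ext.comp_zero]
    | succ n ih =>
      intro F ξ
      let SS : ShortComplex (Sheaf J AddCommGrpCat.{u}) :=
        ShortComplex.mk (Injective.ι F) (Limits.cokernel.π _) (Limits.cokernel.condition _)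
      have hS : SS.ShortExact := { exact := ShortComplex.exact_cokernel _ }
      obtain ⟨η, rfl⟩ := Abelian.Ext.covariant_sequence_exact₁ _ hS ξ (Abelian.Ext.eq_zero_of_injective _) (n₀ := n + 1) rfl
      obtain ⟨S, hS'⟩ := ih _ η
      refine ⟨S, fun a => ?_⟩
      rw [← Abelian.Ext.comp_assoc (Abelian.Ext.mk₀ (P.map a.f)) η hS.extClass (zero_add _) rfl (by omega),
        hS' a, Abelian.Ext.zero_comp]
  exact key n F ξ

end Groth.Agent.S0483
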