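import Groth.Statements.S0488
import Groth.Agent.OverExtend.KInjective
import Mathlib.Topology.Sheaves.Over
import Mathlib.CategoryTheory.Preadditive.AdditiveFunctor

set_option autoImplicit false
universe u
open CohTop

namespace Groth.Agent.S0488

open TopologicalSpace in
/-- For an open U of X, restriction to U sends K-injective complexes of abelian sheaves on X to
K-injective complexes on U. -/
theorem result {X : TopCat.{u}} (U : Opens X) (I : CochainComplex (CohTop.Ab X) ℤ)
    (h : I.IsKInjective) :
    CochainComplex.IsKInjective (((CohTop.restrFunctor U).mapHomologicalComplex (ComplexShape.up ℤ)).obj I) := by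
  haveI := h
  let R₁ := (Opens.grothendieckTopology X).overPullback AddCommGrpCat.{u} U
  let E := U.sheafEquivOver (A := AddCommGrpCat.{u})
  haveI : CochainComplex.IsKInjective ((R₁.mapHomologicalComplex (ComplexShape.up ℤ)).obj I) :=
    OverExtend.KInjective.isKInjective_over _ U I
  haveI : R₁.Additive := OverExtend.KInjective.overPullback_additive _ U
  haveI := CategoryTheory.Limits.preservesBinaryBiproducts_of_preservesBinaryProducts E.inverse
  haveI := CategoryTheory.Limits.preservesBinaryBiproducts_of_preservesBinaryProducts E.functor
  haveI : E.inverse.Additive := CategoryTheory.Functor.additive_of_preservesBinaryBiproducts _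
  haveI : E.functor.Additive := CategoryTheory.Functor.additive_of_preservesBinaryBiproducts _
  haveI : E.inverse.PreservesHomology :=
    OverExtend.KInjective.preservesHomology_of_preservesMonomorphisms E.symm.toAdjunction
  haveI : E.symm.functor.Additive := inferInstanceAs E.inverse.Additive
  haveI : E.symm.inverse.Additive := inferInstanceAs E.functor.Additive
  haveI : E.symm.functor.PreservesHomology := inferInstanceAs E.inverse.PreservesHomology
  exact OverExtend.KInjective.isKInjective_map E.symm.toAdjunction
    ((R₁.mapHomologicalComplex (ComplexShape.up ℤ)).obj I)

end Groth.Agent.S0488
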