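import Groth.Statements.S0489
import Mathlib.Algebra.Homology.HomotopyCategory.KInjective
import Mathlib.Algebra.Homology.HomologicalComplexLimits
import Mathlib.CategoryTheory.Functor.OfSequence
-- import your own Groth.Agent.* helpers here

set_option autoImplicit false
universe v u
open CategoryTheory
open CohDer Limits CochainComplex HomComplex Opposite

namespace Groth.Agent.S0489

open CategoryTheory.Limits Opposite in
/-- Let … → I_3 → I_2 → I_1 be an inverse system of K-injective cochain complexes in an abelian category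
with sequential limits, such that each transition map is a split epimorphism in each degree. Then
the (termwise) limit complex is K-injective. -/
theorem result {A : Type u} [Category.{v} A] [Abelian A] [HasLimitsOfShape ℕᵒᵖ A]
    (I : ℕᵒᵖ ⥤ CochainComplex A ℤ) (h1 : ∀ n : ℕ, (I.obj (op n)).IsKInjective)
    (h2 : ∀ (n : ℕ) (m : ℤ), IsSplitEpi ((I.map (homOfLE (Nat.le_succ n)).op).f m)) :
    (limit I).IsKInjective := by
  classical
  refine ⟨fun {K} f hK => ?_⟩
  obtain ⟨Z, hZ0, hZs⟩ : ∃ Z : ∀ n : ℕ, Cochain K (I.obj (op n)) (-1),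
      (∀ n, δ (-1) 0 (Z n) = Cochain.ofHom (f ≫ limit.π I (op n))) ∧
      ∀ n, (Z (n + 1)).comp (Cochain.ofHom (I.map (homOfLE (Nat.le_succ n)).op)) (add_zero (-1)) = Z n := by
    have base : ∀ n : ℕ, ∃ z : Cochain K (I.obj (op n)) (-1), δ (-1) 0 z = Cochain.ofHom (f ≫ limit.π I (op n)) := by
      intro n
      haveI := h1 n
      exact IsKInjective.eq_δ_of_cocycle (Cocycle.ofHom (f ≫ limit.π I (op n))) hK (-1) (by simp)
    have step : ∀ (n : ℕ) (z : Cochain K (I.obj (op n)) (-1)), δ (-1) 0 z = Cochain.ofHom (f ≫ limit.π I (op n)) →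
        ∃ z' : Cochain K (I.obj (op (n + 1))) (-1), δ (-1) 0 z' = Cochain.ofHom (f ≫ limit.π I (op (n + 1))) ∧
          z'.comp (Cochain.ofHom (I.map (homOfLE (Nat.le_succ n)).op)) (add_zero (-1)) = z := by
      intro n z hz
      obtain ⟨z', hz'⟩ := base (n + 1)
      let p := I.map (homOfLE (Nat.le_succ n)).op
      haveI := h1 n
      have hcoc : δ (-1) 0 (z'.comp (Cochain.ofHom p) (add_zero (-1)) - z) = 0 := by
        rw [δ_sub, δ_comp_ofHom, hz', hz, ← Cochain.ofHom_comp, Category.assoc, limit.w, sub_self]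
      obtain ⟨β, hβ⟩ := IsKInjective.eq_δ_of_cocycle (Cocycle.mk _ 0 (by simp) hcoc) hK (-2) (by simp)
      let s : Cochain (I.obj (op n)) (I.obj (op (n + 1))) 0 :=
        Cochain.ofHoms (fun m => (h2 n m).exists_splitEpi.some.section_)
      refine ⟨z' - δ (-2) (-1) (β.comp s (add_zero (-2))), by rw [δ_sub, hz', δ_δ, sub_zero], ?_⟩
      have hs : (β.comp s (add_zero (-2))).comp (Cochain.ofHom p) (add_zero (-2)) = β := by
        ext q r hqr
        simp only [Cochain.comp_zero_cochain_v, s, Cochain.ofHoms_v, Cochain.ofHom_v, Category.assoc]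
        exact (congrArg (_ ≫ ·) (h2 n r).exists_splitEpi.some.id).trans (Category.comp_id _)
      rw [Cochain.sub_comp, ← δ_comp_ofHom, hs, hβ]
      exact sub_sub_cancel _ _
    let Z : ∀ n : ℕ, { z : Cochain K (I.obj (op n)) (-1) // δ (-1) 0 z = Cochain.ofHom (f ≫ limit.π I (op n)) } :=
      fun n => Nat.rec ⟨(base 0).choose, (base 0).choose_spec⟩
        (fun n ih => ⟨(step n ih.1 ih.2).choose, (step n ih.1 ih.2).choose_spec.1⟩) n
    exact ⟨fun n => (Z n).1, fun n => (Z n).2, fun n => (step n (Z n).1 (Z n).2).choose_spec.2⟩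
  let hl : ∀ q : ℤ, IsLimit ((HomologicalComplex.eval A (ComplexShape.up ℤ) q).mapCone (limit.cone I)) :=
    fun q => isLimitOfPreserves _ (limit.isLimit I)
  let nat : ∀ (p q : ℤ) (_ : p + (-1) = q), (Functor.const ℕᵒᵖ).obj (K.X p) ⟶
      I ⋙ HomologicalComplex.eval A (ComplexShape.up ℤ) q := fun p q hpq =>
    NatTrans.ofOpSequence (fun n => (Z n).v p q hpq) (fun n => by
      have := Cochain.congr_v (hZs n) p q hpq
      rw [Cochain.comp_zero_cochain_v, Cochain.ofHom_v] at this
      exact (Category.id_comp _).trans this.symm)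
  let w : Cochain K (limit I) (-1) := Cochain.mk fun p q hpq => (hl q).lift ⟨K.X p, nat p q hpq⟩
  have hw : ∀ n : ℕ, w.comp (Cochain.ofHom (limit.π I (op n))) (add_zero (-1)) = Z n := fun n => by
    ext p q hpq
    rw [Cochain.comp_zero_cochain_v, Cochain.ofHom_v]
    exact (hl q).fac ⟨K.X p, nat p q hpq⟩ (op n)
  refine ⟨(Cochain.equivHomotopy f 0).symm ⟨w, ?_⟩⟩
  rw [Cochain.ofHom_zero, add_zero]
  ext p
  refine (hl p).hom_ext fun n => ?_
  have h := congrArg (fun z => Cochain.v z p p (add_zero p)) (hZ0 n.unop)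
  simp only [← hw n.unop, δ_comp_ofHom, Cochain.comp_zero_cochain_v, Cochain.ofHom_v] at h
  rw [Cochain.ofHom_v]
  exact h.symm

end Groth.Agent.S0489
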