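import Groth.Statements.S0491
import Groth.Agent.Lead.SiteCoh.AcycExt
import Groth.Agent.Lead.SiteCoh.ModAcyclic
import Groth.Agent.Lead.SiteCoh.TA
import Groth.Agent.ModSite9.ToSheaf
import Groth.Agent.ShMod.Grothendieck
import Mathlib.GroupTheory.FreeAbelianGroup
import Mathlib.Algebra.Category.ModuleCat.Sheaf
-- import your own Groth.Agent.* helpers here

set_option autoImplicit false
universe u
open CategoryTheory
open CohSite

namespace Groth.Agent.S0491

/-- For a sheaf of rings O on a small site and an O-module M, the Ext groups Ext^n_O(O, M) in the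
category of O-modules (= H^n(C, M) computed with O-module injective resolutions) are isomorphic to
H^n of the underlying abelian sheaf of M (existence of a group isomorphism). The Ext instance on
O-modules is taken as a hypothesis. -/
theorem result {C : Type u} [SmallCategory C] (J : GrothendieckTopology C)
    (R : Sheaf J RingCat.{u}) [HasExt.{u} (SheafOfModules.{u} R)] (M : SheafOfModules.{u} R) (n : ℕ) :
    Nonempty (Abelian.Ext (SheafOfModules.unit R) M n ≃+ Sheaf.H.{u} ((SheafOfModules.toSheaf R).obj M) n) := by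
  haveI := Groth.Agent.ShMod.Grothendieck.enoughInjectives R
  haveI : Limits.PreservesFiniteColimits (SheafOfModules.toSheaf.{u} R) :=
    Limits.PreservesColimitsOfSize.preservesFiniteColimits (SheafOfModules.toSheaf.{u} R)
  let P : Cᵒᵖ ⥤ Type u := (Functor.const _).obj PUnit.{u + 1}
  let one : AddCommGrpCat.free.{u}.obj PUnit.{u + 1} ≅ AddCommGrpCat.of (ULift.{u} ℤ) :=
    AddEquiv.toAddCommGrpIso ((FreeAbelianGroup.uniqueEquiv PUnit.{u + 1}).trans AddEquiv.ulift.symm)
  let iso : Groth.Agent.Lead.SiteCoh.freeP (J := J) P ≅ (constantSheaf J AddCommGrpCat.{u}).obj (AddCommGrpCat.of (ULift.{u} ℤ)) :=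
    (presheafToSheaf J AddCommGrpCat.{u}).mapIso (NatIso.ofComponents (fun _ => one) (fun f => by
      show AddCommGrpCat.free.map (𝟙 PUnit.{u + 1}) ≫ one.hom = one.hom ≫ 𝟙 _
      rw [CategoryTheory.Functor.map_id, Category.id_comp, Category.comp_id]))
  let secEquiv : ∀ (N : SheafOfModules.{u} R),
      (SheafOfModules.unit R ⟶ N) ≃ (Groth.Agent.Lead.SiteCoh.freeP (J := J) P ⟶ (SheafOfModules.toSheaf R).obj N) := fun N =>
    N.unitHomEquiv.trans (Equiv.trans
      { toFun := fun s => ({ app := fun V => TypeCat.ofHom fun _ => s.val V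
                             naturality := fun V W f => by ext; exact (s.property f).symm } :
          P ⟶ ((SheafOfModules.toSheaf R).obj N).obj ⋙ forget AddCommGrpCat.{u})
        invFun := fun t => ⟨fun V => t.app V PUnit.unit, fun {V W} f => (NatTrans.naturality_apply t f PUnit.unit).symm⟩
        left_inv := fun s => rfl
        right_inv := fun t => rfl }
      (Groth.Agent.Lead.SiteCoh.setEquiv P _).symm)
  let b : ∀ N : SheafOfModules.{u} R,
      (SheafOfModules.unit R ⟶ N) ≃ ((constantSheaf J AddCommGrpCat.{u}).obj (AddCommGrpCat.of (ULift.{u} ℤ)) ⟶ (SheafOfModules.toSheaf R).obj N) :=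
    fun N => (secEquiv N).trans iso.homFromEquiv
  have hb : ∀ (N N' : SheafOfModules.{u} R) (φ : N ⟶ N') (f : SheafOfModules.unit R ⟶ N),
      b N' (f ≫ φ) = b N f ≫ (SheafOfModules.toSheaf R).map φ := fun N N' φ f => by
    have h : secEquiv N' (f ≫ φ) = secEquiv N f ≫ (SheafOfModules.toSheaf R).map φ := by
      apply (Groth.Agent.Lead.SiteCoh.setEquiv P _).injective
      rw [Groth.Agent.Lead.SiteCoh.setEquiv_comp]
      simp only [secEquiv, Equiv.trans_apply, Equiv.apply_symm_apply]
      rfl
    show iso.inv ≫ secEquiv N' (f ≫ φ) = (iso.inv ≫ secEquiv N f) ≫ (SheafOfModules.toSheaf R).map φ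
    rw [h, Category.assoc]
  let a : ∀ N : SheafOfModules.{u} R, (SheafOfModules.unit R ⟶ N) ≃+
      ((constantSheaf J AddCommGrpCat.{u}).obj (AddCommGrpCat.of (ULift.{u} ℤ)) ⟶ (SheafOfModules.toSheaf R).obj N) := fun N =>
    { b N with
      map_add' := fun f g => by
        have hA : ∀ (φ : SheafOfModules.unit R ⟶ N), b N φ = b _ (𝟙 _) ≫ (SheafOfModules.toSheaf R).map φ := fun φ => by
          rw [← hb, Category.id_comp]
        show b N (f + g) = b N f + b N g
        rw [hA, hA f, hA g, Functor.map_add, Preadditive.comp_add] }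
  exact Groth.Agent.Lead.SiteCoh.nonempty_ext_addEquiv (SheafOfModules.toSheaf.{u} R) a hb
    (fun I _ q => Groth.Agent.Lead.SiteCoh.subsingleton_ext_of_iso iso.symm (q + 1)
      (Groth.Agent.Lead.SiteCoh.subsingleton_ext_freeP (Groth.Agent.Lead.SiteCoh.ModAcyclic.isTotallyAcyclic R I) P q)) n M

end Groth.Agent.S0491
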