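import Groth.Statements.S0495
import Mathlib.RingTheory.Henselian
import Mathlib.RingTheory.KrullDimension.Zero
import Mathlib.RingTheory.Nilpotent.Lemmas

set_option autoImplicit false
universe u
open Hensel

namespace Groth.Agent.S0495

/-- A local ring whose Krull dimension is zero is henselian. -/
theorem result (R : Type u) [CommRing R] [IsLocalRing R]
    (h : ringKrullDim R = 0) : HenselianLocalRing R := by
  have : Ring.KrullDimLE 0 R := (Ring.krullDimLE_iff).mpr h.le
  refine ⟨fun f hf a₀ h₁ h₂ => ?_⟩
  obtain ⟨N, hN⟩ : IsNilpotent (f.eval a₀) := by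
    rwa [← mem_nilradical, Ring.KrullDimLE.nilradical_eq_maximalIdeal]
  set J := Ideal.span {f.eval a₀} with hJ
  have hJN : J ^ N = ⊥ := by rw [hJ, Ideal.span_singleton_pow, hN, Ideal.span_singleton_zero]
  have : IsAdicComplete J R :=
    { haus' := fun x hx => by
        have := hx N
        rwa [hJN, Submodule.bot_smul, SModEq.zero, Submodule.mem_bot] at this
      prec' := fun g hg => ⟨g N, fun n => by
        rcases le_total n N with hle | hle
        · exact hg hle
        · have := hg hle
          rw [hJN, Submodule.bot_smul, SModEq.sub_mem, Submodule.mem_bot, sub_eq_zero] at this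
          rw [this]⟩ }
  obtain ⟨a, ha, haa⟩ := HenselianRing.is_henselian (I := J) f hf a₀
    (Ideal.mem_span_singleton_self _) (h₂.map _)
  exact ⟨a, ha, (Ideal.span_singleton_le_iff_mem _).mpr h₁ haa⟩

end Groth.Agent.S0495
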