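import Groth.Statements.S0512
import Groth.Agent.HensPair.LocalFacts
import Mathlib.RingTheory.Ideal.GoingDown

set_option autoImplicit false
universe u
open Hensel

namespace Groth.Agent.S0512

/-- The henselization of a local ring has the same Krull dimension as the ring. -/
theorem result (R : Type u) [CommRing R] [IsLocalRing R] (S : Type u) [CommRing S] [IsLocalRing S]
    [Algebra R S] [IsLocalHom (algebraMap R S)] [Hensel.IsHenselization R S] :
    ringKrullDim S = ringKrullDim R := by
  have hB := HensPair.Local.isPairHenselization (A := R) (B := S)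
  have := HensPair.LocalFacts.faithfullyFlat (R := R) (S := S)
  refine le_antisymm ?_ ?_
  · refine Order.krullDim_le_of_strictMono (PrimeSpectrum.comap (algebraMap R S)) fun P Q hlt => ?_
    refine lt_of_le_of_ne (Ideal.comap_mono hlt.le) fun h => hlt.ne (PrimeSpectrum.ext ?_)
    exact HensPair.LocalFacts.eq_of_le_of_under_eq hB hlt.le (congrArg PrimeSpectrum.asIdeal h)
  · refine iSup_le fun l => ?_
    obtain ⟨P, hP⟩ := PrimeSpectrum.comap_surjective_of_faithfullyFlat (A := R) (B := S) l.last
    have : P.asIdeal.LiesOver l.last.asIdeal := ⟨(congrArg PrimeSpectrum.asIdeal hP).symm⟩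
    obtain ⟨L, hL, -, -⟩ := Ideal.exists_ltSeries_of_hasGoingDown (S := S) l P.asIdeal
    exact hL ▸ Order.LTSeries.length_le_krullDim L

end Groth.Agent.S0512
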