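import Groth.Statements.S0514
import Groth.Agent.HensPair.LocalFacts
import Groth.Agent.FlatMor.AbsFlat

set_option autoImplicit false
universe u
open Hensel

namespace Groth.Agent.S0514

/-- A local ring is reduced exactly when its henselization is reduced. -/
theorem result (R : Type u) [CommRing R] [IsLocalRing R] (S : Type u) [CommRing S] [IsLocalRing S]
    [Algebra R S] [IsLocalHom (algebraMap R S)] [Hensel.IsHenselization R S] :
    IsReduced R ↔ IsReduced S := by
  have hB := HensPair.Local.isPairHenselization (A := R) (B := S)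
  have := HensPair.LocalFacts.faithfullyFlat (R := R) (S := S)
  refine ⟨fun _ => ⟨fun x hx => ?_⟩, fun _ =>
    isReduced_of_injective (algebraMap R S) (FaithfulSMul.algebraMap_injective R S)⟩
  obtain ⟨n, hn⟩ := hx
  obtain ⟨A', _, _, h, φ, hr⟩ := HensPair.Henselization.exists_nbhd_rep hB fun _ : Unit => x
  obtain ⟨r, rfl⟩ := hr ()
  obtain ⟨A'', _, _, h', ψ, hψ⟩ := HensPair.Henselization.exists_nbhd_kill hB h φ
    (fun _ : Unit => r ^ n) fun _ => by rw [map_pow, hn]
  have := h'.etale
  have := FlatMor.AbsFlat.isReduced_of_weaklyEtale R A''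
  obtain ⟨χ⟩ := HensPair.Henselization.exists_nbhd_hom hB A'' h'
  have h0 : ψ r = 0 := IsNilpotent.eq_zero ⟨n, by rw [← map_pow]; exact hψ ()⟩
  rw [← HensPair.Henselization.nbhd_hom_eq hB h (χ.comp ψ) φ, AlgHom.comp_apply, h0, map_zero]

end Groth.Agent.S0514
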