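import Groth.Statements.S0515
import Groth.Agent.HensPoint.Normal
import Groth.Agent.HensPoint.StrictProps
import Groth.Agent.HensPair.LocalFacts

set_option autoImplicit false
universe u
open Hensel

namespace Groth.Agent.S0515

/-- A local ring is an integrally closed domain exactly when its henselization is. -/
theorem result (R : Type u) [CommRing R] [IsLocalRing R] (S : Type u) [CommRing S] [IsLocalRing S]
    [Algebra R S] [IsLocalHom (algebraMap R S)] [Hensel.IsHenselization R S] :
    (IsDomain R ∧ IsIntegrallyClosed R) ↔ (IsDomain S ∧ IsIntegrallyClosed S) := by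
  have hE := HensPoint.StrictProps.hens (R := R) (S := S)
  have := HensPair.LocalFacts.faithfullyFlat (R := R) (S := S)
  exact ⟨fun ⟨_, _⟩ => HensPoint.Normal.isIntegrallyClosed hE
      (FaithfulSMul.algebraMap_injective R S),
    fun ⟨_, _⟩ => HensPoint.Normal.of_faithfullyFlat (A := R) (B := S)⟩

end Groth.Agent.S0515
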