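import Groth.Statements.S0517
import Groth.Agent.Hensel.Points

set_option autoImplicit false
universe u
open Hensel

namespace Groth.Agent.S0517

/-- Given strictly henselian local rings `R` and `S`, a local ring map `φ` between them, and a square
system of `n` polynomial equations in `n` unknowns over `R` whose quotient algebra is étale over
`R`, applying `φ` coordinatewise matches the solutions of the system in `Rⁿ` bijectively with the
solutions of the transported system in `Sⁿ`. -/
theorem result (R : Type u) [CommRing R]
    [HenselianLocalRing R] [IsSepClosed (IsLocalRing.ResidueField R)] (S : Type u) [CommRing S]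
    [HenselianLocalRing S] [IsSepClosed (IsLocalRing.ResidueField S)] (φ : R →+* S) [IsLocalHom φ] (n : ℕ)
    (P : Fin n → MvPolynomial (Fin n) R)
    [Algebra.Etale R (MvPolynomial (Fin n) R ⧸ Ideal.span (Set.range P))] :
    Set.BijOn (fun r : Fin n → R => φ ∘ r)
      {r : Fin n → R | ∀ i, MvPolynomial.eval r (P i) = 0}
      {s : Fin n → S | ∀ i, MvPolynomial.eval s (MvPolynomial.map φ (P i)) = 0} := by
  let _ : Algebra R S := φ.toAlgebra
  have : IsLocalHom (algebraMap R S) := ‹IsLocalHom φ›
  have hb := Groth.Agent.Hensel.Points.bijective_comp (R := R) (S := S)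
    (C := MvPolynomial (Fin n) R ⧸ Ideal.span (Set.range P))
  have hmap : ∀ (r : Fin n → R) i,
      MvPolynomial.eval (φ ∘ r) (MvPolynomial.map φ (P i)) = φ (MvPolynomial.eval r (P i)) := by
    intro r i
    rw [MvPolynomial.eval_map]
    exact (MvPolynomial.eval₂_comp φ r (P i)).symm
  let pt : ∀ (r : Fin n → R), (∀ i, MvPolynomial.eval r (P i) = 0) →
      (MvPolynomial (Fin n) R ⧸ Ideal.span (Set.range P)) →ₐ[R] R := fun r hr =>
    Ideal.Quotient.liftₐ _ (MvPolynomial.aeval r) fun p hp => by
      have hle : Ideal.span (Set.range P) ≤ RingHom.ker (MvPolynomial.aeval r) :=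
        Ideal.span_le.mpr (by rintro _ ⟨i, rfl⟩; exact hr i)
      exact hle hp
  refine ⟨fun r hr i => by rw [hmap, hr i, map_zero], fun r hr r' hr' h => ?_, fun s hs => ?_⟩
  · have : pt r hr = pt r' hr' := hb.1 (Ideal.Quotient.algHom_ext _ (MvPolynomial.algHom_ext fun j => by
      simpa [pt, Algebra.ofId_apply, RingHom.algebraMap_toAlgebra] using congrFun h j))
    ext j
    simpa [pt] using AlgHom.congr_fun this (Ideal.Quotient.mk _ (MvPolynomial.X j))
  · obtain ⟨f, hf⟩ := hb.2 (Ideal.Quotient.liftₐ _ (MvPolynomial.aeval s) fun p hp => by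
      have hle : Ideal.span (Set.range P) ≤
          RingHom.ker (MvPolynomial.aeval (R := R) s) := Ideal.span_le.mpr (by
        rintro _ ⟨i, rfl⟩
        have := hs i
        rw [MvPolynomial.eval_map] at this
        exact this)
      exact hle hp)
    let g := f.comp (Ideal.Quotient.mkₐ R (Ideal.span (Set.range P)))
    refine ⟨fun j => g (MvPolynomial.X j), fun i => ?_, funext fun j => ?_⟩
    · have h1 : g (P i) = 0 := by
        simp [g, Ideal.Quotient.eq_zero_iff_mem.mpr (Ideal.subset_span (Set.mem_range_self i))]
      rw [MvPolynomial.aeval_unique g] at h1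
      exact h1
    · exact (AlgHom.congr_fun hf (Ideal.Quotient.mk _ (MvPolynomial.X j))).trans (MvPolynomial.aeval_X _ j)

end Groth.Agent.S0517
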