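import Groth.Statements.S0519
import Groth.Agent.Hensel.FiniteEtale

set_option autoImplicit false
universe u
open Hensel

namespace Groth.Agent.S0519

/-- Over a henselian local ring `R` with residue field `κ`, base change to `κ` gives a bijection between
`R`-algebra maps of two finite étale `R`-algebras and `κ`-algebra maps of their base changes. -/
theorem result (R : Type u) [CommRing R]
    [HenselianLocalRing R] (S₁ S₂ : Type u) [CommRing S₁] [CommRing S₂] [Algebra R S₁]
    [Algebra R S₂] [Module.Finite R S₁] [Algebra.Etale R S₁] [Module.Finite R S₂]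
    [Algebra.Etale R S₂] :
    Function.Bijective (fun φ : S₁ →ₐ[R] S₂ =>
      Algebra.TensorProduct.map (AlgHom.id (IsLocalRing.ResidueField R) (IsLocalRing.ResidueField R)) φ) := by
  let inc : S₂ →ₐ[R] TensorProduct R (IsLocalRing.ResidueField R) S₂ := Algebra.TensorProduct.includeRight
  have hb := Groth.Agent.Hensel.FiniteEtale.bijective_comp inc
    (Groth.Agent.Hensel.FiniteEtale.includeRight_surjective S₂)
    (Groth.Agent.Hensel.FiniteEtale.ker_includeRight S₂) S₁
  refine ⟨fun f g hfg => hb.1 (AlgHom.ext fun x => ?_), fun χ => ?_⟩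
  · simpa [inc] using AlgHom.congr_fun hfg (1 ⊗ₜ x)
  · obtain ⟨f, hf⟩ := hb.2 ((χ.restrictScalars R).comp Algebra.TensorProduct.includeRight)
    refine ⟨f, Algebra.TensorProduct.ext (Algebra.ext_id _ _ _) (AlgHom.ext fun x => ?_)⟩
    simpa [inc] using AlgHom.congr_fun hf x

end Groth.Agent.S0519
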