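import Groth.Statements.S0529
import Groth.Agent.HensPair.Radical
import Mathlib.Algebra.Group.Pi.Units

set_option autoImplicit false
universe u
open Hensel

namespace Groth.Agent.S0529

/-- A product of rings, with the product ideal, is Henselian exactly when every factor is Henselian at
its ideal. -/
theorem result (J : Type u) (A : J → Type u) [∀ j, CommRing (A j)]
    (I : ∀ j, Ideal (A j)) :
    HenselianRing (∀ j, A j) (⨅ j, Ideal.comap (Pi.evalRingHom A j) (I j)) ↔
      ∀ j, HenselianRing (A j) (I j) := by
  classical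
  set K := ⨅ j, Ideal.comap (Pi.evalRingHom A j) (I j) with hK
  have hmemK : ∀ x, x ∈ K ↔ ∀ j, x j ∈ I j := fun x => by
    rw [hK, Ideal.mem_iInf]; rfl
  constructor
  · intro h j
    let : Algebra (∀ k, A k) (A j) := (Pi.evalRingHom A j).toAlgebra
    have hsurj : Function.Surjective (algebraMap (∀ k, A k) (A j)) := fun x =>
      ⟨Pi.single j x, Pi.single_eq_same j x⟩
    have : Algebra.IsIntegral (∀ k, A k) (A j) :=
      ⟨fun x => by obtain ⟨a, rfl⟩ := hsurj x; exact isIntegral_algebraMap⟩
    have hh := HensPair.Basic.henselian_of_isIntegral (I := K) (A j)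
    have hmap : K.map (algebraMap (∀ k, A k) (A j)) = I j := by
      refine le_antisymm (Ideal.map_le_iff_le_comap.mpr fun x hx => (hmemK x).mp hx j) fun x hx => ?_
      rw [← Pi.single_eq_same (M := A) j x]
      refine Ideal.mem_map_of_mem (algebraMap (∀ k, A k) (A j)) ((hmemK (Pi.single j x)).mpr fun k => ?_)
      by_cases hk : k = j
      · subst hk; rwa [Pi.single_eq_same]
      · rw [Pi.single_eq_of_ne hk]; exact zero_mem _
    rwa [hmap] at hh
  · intro h
    refine ⟨fun x hx => Ideal.mem_jacobson_bot.mpr fun y => (Pi.isUnit_iff (M := A)).mpr fun j => ?_,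
      fun f hf a₀ h₀ hu => ?_⟩
    · exact Ideal.mem_jacobson_bot.mp ((h j).jac ((hmemK x).mp hx j)) (y j)
    · have hj : ∀ j, ∃ a : A j, (f.map (Pi.evalRingHom A j)).IsRoot a ∧ a - a₀ j ∈ I j := fun j => by
        have := h j
        refine HenselianRing.is_henselian _ (hf.map _) (a₀ j) ?_ ?_
        · exact (Polynomial.eval_map_apply (Pi.evalRingHom A j) a₀).symm ▸ (hmemK _).mp h₀ j
        · rw [Polynomial.derivative_map,
            show (f.derivative.map (Pi.evalRingHom A j)).eval (a₀ j) = _ from
              Polynomial.eval_map_apply (Pi.evalRingHom A j) a₀]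
          have hle : K ≤ Ideal.comap (Pi.evalRingHom A j) (I j) := iInf_le _ j
          exact hu.map (Ideal.quotientMap (I j) (Pi.evalRingHom A j) hle)
      choose a ha haI using hj
      refine ⟨a, funext fun j => ?_, (hmemK _).mpr haI⟩
      exact (Polynomial.eval_map_apply (Pi.evalRingHom A j) a).symm.trans (ha j)

end Groth.Agent.S0529
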