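import Groth.Statements.S0530
import Groth.Agent.HensPair.Basic

set_option autoImplicit false
universe u
open Hensel

namespace Groth.Agent.S0530

/-- If `A` is Henselian at `I` and `p` is a prime ideal of `A`, then the spectrum of `A/(p + I)` is
connected. -/
theorem result (A : Type u) [CommRing A] (I : Ideal A) [HenselianRing A I]
    (p : Ideal A) [p.IsPrime] : ConnectedSpace (PrimeSpectrum (A ⧸ p ⊔ I)) := by
  have hne : p ⊔ I ≠ ⊤ := fun htop => by
    obtain ⟨M, hM, hpM⟩ := Ideal.exists_le_maximal p (Ideal.IsPrime.ne_top ‹_›)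
    exact hM.ne_top (top_le_iff.mp (htop ▸ sup_le hpM fun x hx =>
      Hensel.Idem.mem_of_mem_jacobson (HenselianRing.jac hx) M))
  have : Nontrivial (A ⧸ p ⊔ I) := Ideal.Quotient.nontrivial_iff.mpr hne
  refine { toPreconnectedSpace := ?_, toNonempty := inferInstance }
  rw [preconnectedSpace_iff_clopen]
  intro U hU
  obtain ⟨x, hx, hxU⟩ := PrimeSpectrum.isClopen_iff.mp hU
  obtain ⟨a, rfl⟩ := Ideal.Quotient.mk_surjective x
  let J := I.map (algebraMap A (A ⧸ p))
  let π := Ideal.Quotient.factor (show p ≤ p ⊔ I from le_sup_left)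
  have hπ : ∀ y, π y = 0 ↔ y ∈ J := fun y => by
    obtain ⟨y, rfl⟩ := Ideal.Quotient.mk_surjective y
    rw [Ideal.Quotient.factor_mk, Ideal.Quotient.eq_zero_iff_mem]
    show _ ↔ _ ∈ I.map (Ideal.Quotient.mk p)
    rw [← Ideal.mem_comap, Ideal.comap_map_of_surjective _ Ideal.Quotient.mk_surjective,
      ← RingHom.ker_eq_comap_bot, Ideal.mk_ker, sup_comm]
  obtain ⟨e, he, hea⟩ := HensPair.Basic.exists_idempotent (I := I) (A ⧸ p) (Ideal.Quotient.mk p a) (by
    rw [← hπ, map_sub, map_pow, Ideal.Quotient.factor_mk, sq, hx.eq, sub_self])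
  have hee : π e = Ideal.Quotient.mk (p ⊔ I) a := by
    rw [← sub_eq_zero, ← Ideal.Quotient.factor_mk (show p ≤ p ⊔ I from le_sup_left) a, ← map_sub, hπ]
    exact hea
  rw [hxU, ← hee]
  rcases IsIdempotentElem.iff_eq_zero_or_one.mp he with h | h
  · left; rw [h, map_zero]; simp
  · right; rw [h, map_one]; simp

end Groth.Agent.S0530
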