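import Groth.Statements.S0531
import Groth.Agent.HensPair.Radical

set_option autoImplicit false
universe u
open Hensel

namespace Groth.Agent.S0531

/-- Every ring has a largest ideal at which it is Henselian. -/
theorem result (A : Type u) [CommRing A] :
    ∃ I : Ideal A, HenselianRing A I ∧ ∀ J : Ideal A, HenselianRing A J → J ≤ I := by
  let s : Set (Ideal A) := {J | HenselianRing A J}
  have hne : s.Nonempty := ⟨⊥, HensPair.Radical.henselian_bot A⟩
  have hdir : DirectedOn (· ≤ ·) s := fun I hI J hJ => by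
    have : HenselianRing A I := hI
    have : HenselianRing A J := hJ
    have hq : (I ⊔ J).map (Ideal.Quotient.mk I) = J.map (Ideal.Quotient.mk I) := by
      rw [Ideal.map_sup, Ideal.map_quotient_self, bot_sup_eq]
    have : HenselianRing (A ⧸ I) ((I ⊔ J).map (Ideal.Quotient.mk I)) :=
      hq ▸ HensPair.Radical.henselian_quotient (J := J) I
    exact ⟨I ⊔ J, HensPair.Radical.henselian_of_quotient le_sup_left, le_sup_left, le_sup_right⟩
  have hjac : sSup s ≤ Ideal.jacobson ⊥ := sSup_le fun J hJ => hJ.jac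
  refine ⟨sSup s, ⟨hjac, fun f hf a₀ h₀ hu => ?_⟩, fun J hJ => le_sSup hJ⟩
  obtain ⟨K, hK, hK0⟩ := (Submodule.mem_sSup_of_directed hne hdir).mp h₀
  obtain ⟨a, ha, haK⟩ := (show HenselianRing A K from hK).is_henselian f hf a₀ hK0
    ((HensPair.Criteria.isUnit_of_mk_isUnit hjac hu).map _)
  exact ⟨a, ha, le_sSup hK haK⟩

end Groth.Agent.S0531
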