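import Groth.Statements.S0533
import Groth.Agent.HensPair.Basic

set_option autoImplicit false
universe u
open Hensel

namespace Groth.Agent.S0533

/-- If `A` is Henselian at `I`, base change to `A/I` gives a bijection between `A`-algebra maps of two
finite étale `A`-algebras and `A/I`-algebra maps of their reductions. -/
theorem result (A : Type u) [CommRing A] (I : Ideal A) [HenselianRing A I]
    (B₁ B₂ : Type u) [CommRing B₁] [CommRing B₂] [Algebra A B₁] [Algebra A B₂]
    [Module.Finite A B₁] [Algebra.Etale A B₁] [Module.Finite A B₂] [Algebra.Etale A B₂] :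
    Function.Bijective (fun φ : B₁ →ₐ[A] B₂ =>
      Algebra.TensorProduct.map (AlgHom.id (A ⧸ I) (A ⧸ I)) φ) := by
  let J := I.map (algebraMap A B₂)
  have := HensPair.Basic.henselian_of_isIntegral (I := I) B₂
  let e : (TensorProduct A (A ⧸ I) B₂) ≃ₐ[A] B₂ ⧸ J :=
    (Algebra.TensorProduct.comm A (A ⧸ I) B₂).trans
      ((Algebra.TensorProduct.quotIdealMapEquivTensorQuot B₂ I).symm.restrictScalars A)
  have he : ∀ b, e ((1 : A ⧸ I) ⊗ₜ[A] b) = Ideal.Quotient.mk J b := fun b => by
    simp only [e, AlgEquiv.trans_apply, Algebra.TensorProduct.comm_tmul, AlgEquiv.restrictScalars_apply]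
    rw [AlgEquiv.symm_apply_eq, Algebra.TensorProduct.quotIdealMapEquivTensorQuot_mk]
  refine ⟨fun φ₁ φ₂ h => ?_, fun ψ => ?_⟩
  · have hs : ∀ x, Ideal.Quotient.mk J (φ₁ x) = Ideal.Quotient.mk J (φ₂ x) := fun x => by
      have := congrArg e (DFunLike.congr_fun h ((1 : A ⧸ I) ⊗ₜ[A] x))
      simpa [he] using this
    obtain ⟨τ, -, hu⟩ := HensPair.Basic.existsUnique_lift B₁ ((Ideal.Quotient.mkₐ A J).comp φ₁)
    exact (hu φ₁ rfl).trans (hu φ₂ (AlgHom.ext fun x => (hs x).symm)).symm
  · obtain ⟨τ, hτ, -⟩ := HensPair.Basic.existsUnique_lift B₁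
      ((e.toAlgHom.comp (ψ.restrictScalars A)).comp Algebra.TensorProduct.includeRight)
    refine ⟨τ, AlgHom.ext fun t => ?_⟩
    obtain ⟨x, rfl⟩ := TensorProduct.mk_surjective A B₁ (A ⧸ I) Ideal.Quotient.mk_surjective t
    refine e.injective ?_
    simp only [TensorProduct.mk_apply, Algebra.TensorProduct.map_tmul, map_one, he]
    exact DFunLike.congr_fun hτ x

end Groth.Agent.S0533
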