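import Groth.Statements.S0535
import Groth.Agent.Hensel.Idem
import Mathlib.RingTheory.Nakayama

set_option autoImplicit false
universe u
open Hensel

namespace Groth.Agent.S0535

/-- If `R` is Henselian at `I` and two finitely generated projective `R`-modules become isomorphic after
base change to `R/I`, then they are isomorphic. -/
theorem result (R : Type u) [CommRing R] (I : Ideal R)
    [HenselianRing R I] (P₁ P₂ : Type u) [AddCommGroup P₁] [Module R P₁] [AddCommGroup P₂]
    [Module R P₂] [Module.Finite R P₁] [Module.Projective R P₁] [Module.Finite R P₂]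
    [Module.Projective R P₂]
    (e : TensorProduct R (R ⧸ I) P₁ ≃ₗ[R ⧸ I] TensorProduct R (R ⧸ I) P₂) :
    Nonempty (P₁ ≃ₗ[R] P₂) := by
  have hjac : I ≤ Ideal.jacobson ⊥ := HenselianRing.jac
  obtain ⟨g, hg⟩ := Module.projective_lifting_property (R := R)
    (TensorProduct.mk R (R ⧸ I) P₂ 1) ((e.restrictScalars R).toLinearMap ∘ₗ TensorProduct.mk R (R ⧸ I) P₁ 1)
    (TensorProduct.mk_surjective R P₂ (R ⧸ I) Ideal.Quotient.mk_surjective)
  obtain ⟨g', hg'⟩ := Module.projective_lifting_property (R := R)
    (TensorProduct.mk R (R ⧸ I) P₁ 1) ((e.symm.restrictScalars R).toLinearMap ∘ₗ TensorProduct.mk R (R ⧸ I) P₂ 1)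
    (TensorProduct.mk_surjective R P₁ (R ⧸ I) Ideal.Quotient.mk_surjective)
  have key : ∀ (P : Type u) [AddCommGroup P] [Module R P] [Module.Finite R P] (f : P →ₗ[R] P),
      (∀ x, TensorProduct.mk R (R ⧸ I) P 1 (f x) = TensorProduct.mk R (R ⧸ I) P 1 x) →
      Function.Bijective f := by
    intro P _ _ _ f hf
    refine OrzechProperty.bijective_of_surjective_endomorphism f (LinearMap.range_eq_top.mp ?_)
    refine top_le_iff.mp (Submodule.le_of_le_smul_of_le_jacobson_bot (Module.Finite.fg_top) hjac ?_)
    intro x _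
    have h1 : x - f x ∈ I • (⊤ : Submodule R P) := by
      refine (Submodule.Quotient.mk_eq_zero _).mp ?_
      rw [Submodule.Quotient.mk_sub, sub_eq_zero]
      refine (TensorProduct.quotTensorEquivQuotSMul P I).symm.injective ?_
      simpa using (hf x).symm
    exact Submodule.mem_sup.mpr ⟨f x, LinearMap.mem_range_self f x, _, h1, add_sub_cancel _ _⟩
  have h12 := key P₁ (g' ∘ₗ g) fun x => by
    refine ((LinearMap.congr_fun hg' (g x)).trans (congrArg e.symm (LinearMap.congr_fun hg x))).trans ?_
    exact e.symm_apply_apply _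
  have h21 := key P₂ (g ∘ₗ g') fun x => by
    refine ((LinearMap.congr_fun hg (g' x)).trans (congrArg e (LinearMap.congr_fun hg' x))).trans ?_
    exact e.apply_symm_apply _
  refine ⟨LinearEquiv.ofBijective g ⟨?_, ?_⟩⟩
  · exact Function.Injective.of_comp (f := g') h12.1
  · exact Function.Surjective.of_comp (g := g') h21.2

end Groth.Agent.S0535
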