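import Groth.Statements.S0541
import Groth.Agent.HensPoint.StrictProps

set_option autoImplicit false
universe u
open Hensel

namespace Groth.Agent.S0541

/-- The strict henselization of a local ring has the same Krull dimension as the ring. -/
theorem result (R : Type u) [CommRing R] [IsLocalRing R] (S : Type u) [CommRing S] [IsLocalRing S]
    [Algebra R S] [IsLocalHom (algebraMap R S)] [Hensel.IsStrictHenselization R S] :
    ringKrullDim S = ringKrullDim R := by
  have hE := HensPoint.StrictProps.strict (R := R) (S := S)
  have := HensPoint.Strict.faithfullyFlat (R := R) (S := S)
  exact hE.ringKrullDim_eq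

end Groth.Agent.S0541
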