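import Groth.Statements.S0544
import Mathlib.RingTheory.AdicCompletion.Functoriality
import Mathlib.RingTheory.Finiteness.Cardinality

set_option autoImplicit false
universe u
open CAlg

namespace Groth.Agent.S0544


theorem isPrecomplete_pi {R : Type u} [CommRing R] (I : Ideal R) [IsAdicComplete I R] (n : ℕ) :
    IsPrecomplete I (Fin n → R) := by
  refine ⟨fun f hf => ?_⟩
  have hmem : ∀ (x : Fin n → R) m, x ∈ (I ^ m • ⊤ : Submodule R (Fin n → R)) → ∀ i, x i ∈ (I ^ m • ⊤ : Submodule R R) :=
    fun x m hx i => by
      have := Submodule.mem_map_of_mem (f := LinearMap.proj (R := R) (φ := fun _ : Fin n => R) i) hx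
      rw [Submodule.map_smul''] at this
      exact Submodule.smul_mono le_rfl le_top this
  have h1 : ∀ i, ∃ L, ∀ m, f m i ≡ L [SMOD (I ^ m • ⊤ : Submodule R R)] := fun i =>
    IsPrecomplete.prec (I := I) (M := R) inferInstance fun {a b} hab => by
      rw [SModEq.sub_mem]; exact hmem _ _ (SModEq.sub_mem.mp (hf hab)) i
  choose L hL using h1
  refine ⟨L, fun m => ?_⟩
  rw [SModEq.sub_mem, pi_eq_sum_univ (f m - L)]
  refine Submodule.sum_mem _ fun i _ => Submodule.smul_mem_smul ?_ Submodule.mem_top
  have := SModEq.sub_mem.mp (hL i m)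
  rw [Ideal.smul_eq_mul, Ideal.mul_top] at this
  exact this

/-- Let `R` be complete with respect to an ideal `I` and `M` an `R`-module which is `I`-adically
separated and such that `M/IM` is finitely generated. Then `M` is a finitely generated `R`-module. -/
theorem result (R : Type u) [CommRing R]
    (I : Ideal R) [IsAdicComplete I R] (M : Type u) [AddCommGroup M] [Module R M] [IsHausdorff I M]
    (h : Module.Finite R (M ⧸ (I • ⊤ : Submodule R M))) : Module.Finite R M := by
  obtain ⟨n, f, hf⟩ := Module.Finite.exists_fin' R (M ⧸ (I • ⊤ : Submodule R M))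
  choose m hm using fun i => Submodule.mkQ_surjective (I • ⊤ : Submodule R M) (f (Pi.single i 1))
  let F : (Fin n → R) →ₗ[R] M := Fintype.linearCombination R m
  have hF : (I • ⊤ : Submodule R M).mkQ ∘ₗ F = f := LinearMap.pi_ext' fun i => LinearMap.ext_ring (by simpa [F] using hm i)
  haveI : IsPrecomplete I (Fin n → R) := isPrecomplete_pi I n
  exact Module.Finite.of_surjective F (surjective_of_mkQ_comp_surjective (I := I) (by rw [hF]; exact hf))

end Groth.Agent.S0544
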