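import Groth.Statements.S0546
import Mathlib.RingTheory.AdicCompletion.Basic
import Mathlib.RingTheory.Finiteness.Ideal

set_option autoImplicit false
universe u
open CAlg

namespace Groth.Agent.S0546

lemma exists_sum_smul_of_mem_span_smul {A : Type u} [CommRing A] {M : Type u} [AddCommGroup M] [Module A M]
    {r : ℕ} (h : Fin r → A) (N : Submodule A M) {x : M} (hx : x ∈ Ideal.span (Set.range h) • N) :
    ∃ y : Fin r → M, (∀ k, y k ∈ N) ∧ ∑ k, h k • y k = x := by
  induction hx using Submodule.smul_induction_on' with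
  | smul c hc n hn =>
    obtain ⟨t, rfl⟩ := (Submodule.mem_span_range_iff_exists_fun A).1 hc
    exact ⟨fun k => t k • n, fun k => N.smul_mem _ hn, by simp [Finset.sum_smul, smul_smul, mul_comm]⟩
  | add a _ b _ ha hb =>
    obtain ⟨y, hy, rfl⟩ := ha
    obtain ⟨z, hz, rfl⟩ := hb
    exact ⟨y + z, fun k => N.add_mem (hy k) (hz k), by simp [Finset.sum_add_distrib, smul_add]⟩

/-- If `I ≤ J` are ideals with `I` finitely generated and `M` is `J`-adically complete, then `M` is
`I`-adically complete. -/
theorem result (A : Type u) [CommRing A] (I J : Ideal A) (hIJ : I ≤ J)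
    (hI : I.FG) (M : Type u) [AddCommGroup M] [Module A M] [IsAdicComplete J M] :
    IsAdicComplete I M := by
  haveI : IsHausdorff I M := ⟨fun x hx => IsHausdorff.haus (I := J) inferInstance x fun n =>
    (hx n).mono (Submodule.smul_mono_left (Ideal.pow_right_mono hIJ n))⟩
  haveI : IsPrecomplete I M := ⟨fun f hf => by
    have hd : ∀ m, f (m + 1) - f m ∈ (I ^ m • ⊤ : Submodule A M) := fun m =>
      SModEq.sub_mem.1 (hf (Nat.le_succ m)).symm
    obtain ⟨L, hL⟩ := IsPrecomplete.prec (I := J) inferInstance (f := f) (fun {m n} hmn =>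
      (hf hmn).mono (Submodule.smul_mono_left (Ideal.pow_right_mono hIJ m)))
    refine ⟨L, fun n => SModEq.symm (SModEq.sub_mem.2 ?_)⟩
    obtain ⟨r, h, hh⟩ := Submodule.fg_iff_exists_fin_generating_family.1 (Ideal.FG.pow hI (n := n))
    choose y hy hy' using fun t => exists_sum_smul_of_mem_span_smul h (I ^ t • ⊤ : Submodule A M) (x := f (n + t + 1) - f (n + t)) (by
      rw [show Ideal.span (Set.range h) = I ^ n from hh, ← mul_smul, ← pow_add]
      exact hd (n + t))
    choose C hC using fun k => IsPrecomplete.prec (I := J) inferInstance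
      (f := fun t => ∑ s ∈ Finset.range t, y s k) (fun {a b} hab => by
        refine (SModEq.sub_mem.2 ?_).symm
        rw [← Finset.sum_Ico_eq_sub _ hab]
        refine Submodule.sum_mem _ fun s hs => ?_
        exact Submodule.smul_mono_left ((Ideal.pow_right_mono hIJ s).trans (Ideal.pow_le_pow_right (Finset.mem_Ico.1 hs).1)) (hy s k))
    have hsum : ∀ t, f (n + t) - f n = ∑ k, h k • ∑ s ∈ Finset.range t, y s k := by
      intro t
      simp only [Finset.smul_sum]
      rw [Finset.sum_comm, Finset.sum_congr rfl fun s _ => hy' s]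
      exact (Finset.sum_range_sub (fun s => f (n + s)) t).symm
    have : L - f n = ∑ k, h k • C k := by
      rw [← sub_eq_zero]
      refine IsHausdorff.haus (I := J) inferInstance _ fun t => SModEq.zero.2 ?_
      have h1 : f (n + t) - L ∈ (J ^ t • ⊤ : Submodule A M) :=
        Submodule.smul_mono_left (Ideal.pow_le_pow_right (by omega)) (SModEq.sub_mem.1 (hL (n + t)))
      have h2 : ∑ k, h k • ((∑ s ∈ Finset.range t, y s k) - C k) ∈ (J ^ t • ⊤ : Submodule A M) :=
        Submodule.sum_mem _ fun k _ => Submodule.smul_mem _ _ (SModEq.sub_mem.1 (hC k t))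
      have := sub_mem h2 h1
      simp only [smul_sub, Finset.sum_sub_distrib, ← hsum t] at this
      convert this using 1
      abel
    rw [this]
    refine Submodule.sum_mem _ fun k _ => Submodule.smul_mem_smul ?_ Submodule.mem_top
    rw [← show Ideal.span (Set.range h) = I ^ n from hh]
    exact Ideal.subset_span ⟨k, rfl⟩⟩
  exact ⟨⟩

end Groth.Agent.S0546
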