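import Groth.Statements.S0545
import Groth.Agent.S0546
import Groth.Agent.Completion.NoetherianComplete
import Mathlib.RingTheory.AdicCompletion.Exactness
import Mathlib.RingTheory.AdicCompletion.Noetherian
import Mathlib.RingTheory.AdicCompletion.Completeness

set_option autoImplicit false
universe u
open CAlg

namespace Groth.Agent.S0545

lemma map_sum_smul {A : Type u} [CommRing A] (K : Ideal A) {r : ℕ} (g : Fin r → A)
    (y : AdicCompletion K (Fin r → A)) :
    AdicCompletion.map K (∑ j, g j • (LinearMap.proj j : (Fin r → A) →ₗ[A] A)) y =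
      ∑ j, g j • AdicCompletion.map K (LinearMap.proj j : (Fin r → A) →ₗ[A] A) y := by
  ext n
  obtain ⟨z, hz⟩ := Submodule.Quotient.mk_surjective _ (y.val n)
  simp only [AdicCompletion.val_sum_apply, AdicCompletion.val_smul_apply, AdicCompletion.map_val_apply, ← hz,
    LinearMap.reduceModIdeal_apply]
  simp [Algebra.smul_def]

/-- For a Noetherian ring `A` with two ideals `I` and `J`, completeness of `A` along `I` together with
completeness of the quotient `A/I` along the image of `J` forces completeness of `A` along `J`. -/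
theorem result (A : Type u) [CommRing A] [IsNoetherianRing A]
    (I J : Ideal A) [IsAdicComplete I A]
    [IsAdicComplete (Ideal.map (Ideal.Quotient.mk I) J) (A ⧸ I)] : IsAdicComplete J A := by
  set K := I ⊔ J with hK
  have hIjac := IsAdicComplete.le_jacobson_bot (R := A) I
  have hJq : J.map (Ideal.Quotient.mk I) ≤ Ideal.jacobson ⊥ := IsAdicComplete.le_jacobson_bot _
  have hKjac : K ≤ Ideal.jacobson ⊥ := by
    refine sup_le hIjac fun x hx => Ideal.mem_jacobson_bot.2 fun y => ?_
    have hu := Ideal.mem_jacobson_bot.1 (hJq (Ideal.mem_map_of_mem _ hx)) (Ideal.Quotient.mk I y)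
    obtain ⟨v, hv⟩ := hu.exists_right_inv
    obtain ⟨v, rfl⟩ := Ideal.Quotient.mk_surjective v
    rw [← map_mul, ← map_one (Ideal.Quotient.mk I), ← map_add, ← map_mul, Ideal.Quotient.eq] at hv
    have hu2 := Ideal.mem_jacobson_bot.1 (hIjac hv) 1
    rw [mul_one, sub_add_cancel] at hu2
    exact isUnit_of_mul_isUnit_left hu2
  haveI : IsHausdorff K A := IsHausdorff.of_le_jacobson K A hKjac
  haveI : IsAdicComplete (K.map (algebraMap A (A ⧸ I))) (A ⧸ I) := by
    rw [show K.map (algebraMap A (A ⧸ I)) = J.map (Ideal.Quotient.mk I) by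
      rw [hK, Ideal.map_sup, Ideal.Quotient.algebraMap_eq, Ideal.map_quotient_self, bot_sup_eq]]
    infer_instance
  haveI hAI : IsAdicComplete K (A ⧸ I) := (IsAdicComplete.map_algebraMap_iff (S := A ⧸ I) K (A ⧸ I)).1 inferInstance
  obtain ⟨r, g, hg⟩ := Submodule.fg_iff_exists_fin_generating_family.1 (IsNoetherian.noetherian I)
  let φ : (Fin r → A) →ₗ[A] A := ∑ j, g j • LinearMap.proj j
  have hφmem : ∀ x, φ x ∈ I := fun x => by
    rw [← show Ideal.span (Set.range g) = I from hg]
    simp only [φ, LinearMap.sum_apply, LinearMap.smul_apply, LinearMap.proj_apply, smul_eq_mul]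
    exact Ideal.sum_mem _ fun j _ => Ideal.mul_mem_right _ _ (Ideal.subset_span ⟨j, rfl⟩)
  let φ' := φ.codRestrict I hφmem
  have hφ' : Function.Surjective φ' := by
    intro x
    obtain ⟨c, hc⟩ := (Submodule.mem_span_range_iff_exists_fun A).1 (hg.symm ▸ x.2 : (x : A) ∈ Submodule.span A (Set.range g))
    refine ⟨c, Subtype.ext ?_⟩
    simp [φ', φ, ← hc, mul_comm]
  let C := AdicCompletion K A
  let KC := K.map (algebraMap A C)
  have hex := AdicCompletion.map_exact (I := K) (f := (I : Submodule A A).subtype) (g := (I : Submodule A A).mkQ)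
    (Submodule.injective_subtype _) (LinearMap.exact_subtype_mkQ _) (Submodule.mkQ_surjective _)
  have hstep : ∀ b : C, ∃ a : A, b - AdicCompletion.of K A a ∈ (I • ⊤ : Submodule A C) := by
    intro b
    obtain ⟨w, hw⟩ := AdicCompletion.of_surjective K (A ⧸ I) (AdicCompletion.map K (I : Submodule A A).mkQ b)
    obtain ⟨a, rfl⟩ := Ideal.Quotient.mk_surjective w
    refine ⟨a, ?_⟩
    obtain ⟨z, hz⟩ := (hex (b - AdicCompletion.of K A a)).1 (by
      rw [map_sub, AdicCompletion.map_of, ← hw, sub_eq_zero]; rfl)
    obtain ⟨y, rfl⟩ := AdicCompletion.map_surjective K hφ' z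
    rw [AdicCompletion.map_comp_apply, show (I : Submodule A A).subtype ∘ₗ φ' = φ from LinearMap.ext fun x => rfl,
      map_sum_smul] at hz
    rw [← hz]
    exact Submodule.sum_mem _ fun j _ => Submodule.smul_mem_smul
      (by rw [← show Ideal.span (Set.range g) = I from hg]; exact Ideal.subset_span ⟨j, rfl⟩) Submodule.mem_top
  haveI : IsNoetherianRing (A ⧸ K) := isNoetherianRing_of_surjective _ _ (Ideal.Quotient.mk K) Ideal.Quotient.mk_surjective
  haveI : IsNoetherianRing C := Groth.Agent.Completion.NoetherianComplete.isNoetherianRing_adicCompletion K (IsNoetherian.noetherian K)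
  haveI : IsAdicComplete KC C := (IsAdicComplete.map_algebraMap_iff K C).2 (AdicCompletion.isAdicComplete (IsNoetherian.noetherian K))
  have hIC : IsHausdorff (I.map (algebraMap A C)) C :=
    IsHausdorff.of_le_jacobson _ C ((Ideal.map_mono le_sup_left).trans (IsAdicComplete.le_jacobson_bot KC))
  haveI hIC' : IsHausdorff I C := (IsHausdorff.map_algebraMap_iff (M := C) (I := I) (S := C)).1 hIC
  have hbij : Function.Bijective (AdicCompletion.of K A) := by
    refine ⟨AdicCompletion.of_injective K A, fun b => ?_⟩
    let P : ℕ → A → Prop := fun n a => b - AdicCompletion.of K A a ∈ (I ^ n • ⊤ : Submodule A C)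
    have hnext : ∀ n a, P n a → ∃ d ∈ I ^ n, P (n + 1) (a + d) := by
      intro n a ha
      suffices H : ∀ w ∈ (I ^ n • ⊤ : Submodule A C), ∃ d ∈ I ^ n, w - AdicCompletion.of K A d ∈ (I ^ (n + 1) • ⊤ : Submodule A C) by
        obtain ⟨d, hd, hd'⟩ := H _ ha
        exact ⟨d, hd, by simpa [P, map_add, sub_sub] using hd'⟩
      intro w hw
      induction hw using Submodule.smul_induction_on' with
      | smul c hc n' _ =>
        obtain ⟨a', ha'⟩ := hstep n'
        refine ⟨c * a', Ideal.mul_mem_right _ _ hc, ?_⟩
        rw [← smul_eq_mul c a', map_smul, ← smul_sub, pow_succ, mul_smul]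
        exact Submodule.smul_mem_smul hc ha'
      | add a _ b _ ha hb =>
        obtain ⟨d, hd, hd'⟩ := ha
        obtain ⟨e, he, he'⟩ := hb
        exact ⟨d + e, add_mem hd he, by rw [map_add, add_sub_add_comm]; exact add_mem hd' he'⟩
    choose! nx hnx hnx' using hnext
    let a : ℕ → A := fun n => n.rec 0 fun n an => an + nx n an
    have haP : ∀ n, P n (a n) := by
      intro n
      induction n with
      | zero =>
        show _ ∈ (I ^ 0 • ⊤ : Submodule A C)
        rw [Submodule.pow_zero, Ideal.one_eq_top, Submodule.top_smul]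
        exact Submodule.mem_top
      | succ n ih => exact hnx' n _ ih
    obtain ⟨L, hL⟩ := IsPrecomplete.prec (I := I) inferInstance (f := a) (fun {m n} hmn => by
      induction hmn with
      | refl => exact SModEq.rfl
      | @step n hmn ih =>
        refine ih.trans (SModEq.sub_mem.2 ?_)
        show a n - (a n + nx n (a n)) ∈ _
        rw [sub_add_cancel_left, smul_eq_mul, Ideal.mul_top]
        exact neg_mem (Ideal.pow_le_pow_right hmn (hnx n _ (haP n))))
    refine ⟨L, (sub_eq_zero.1 (IsHausdorff.haus hIC' _ fun n => SModEq.zero.2 ?_)).symm⟩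
    have h1 : AdicCompletion.of K A (a n - L) ∈ (I ^ n • ⊤ : Submodule A C) := by
      have := Submodule.mem_map_of_mem (f := AdicCompletion.of K A) (SModEq.sub_mem.1 (hL n))
      rw [Submodule.map_smul''] at this
      exact (smul_mono_right (I ^ n) le_top : _ ≤ (I ^ n • ⊤ : Submodule A C)) this
    have h2 := add_mem (haP n) h1
    simpa [map_sub] using h2
  haveI : IsAdicComplete K A := AdicCompletion.of_bijective_iff.1 hbij
  exact Groth.Agent.S0546.result A J K le_sup_right (IsNoetherian.noetherian J) A

end Groth.Agent.S0545
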