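import Groth.Statements.S19474
import Groth.Agent.Completion.NoetherianComplete
import Groth.Agent.EtaleLocal.Basic
import Mathlib.RingTheory.AdicCompletion.AsTensorProduct

set_option autoImplicit false
universe u
open CAlg

namespace Groth.Agent.S19474

/-- Let A be a Noetherian local ring and I an ideal of A different from A. Then the I-adic completion of
A has the same Krull dimension as A, and A is a regular local ring if and only if the I-adic
completion of A is a regular local ring (in particular the completion is then local and Noetherian).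
The case where I is the maximal ideal is the classical one; here I is any proper ideal. -/
theorem result (A : Type u) [CommRing A]
    [IsLocalRing A] [IsNoetherianRing A] (I : Ideal A) (hI : I ≠ ⊤) :
    ringKrullDim (AdicCompletion I A) = ringKrullDim A ∧
      (IsRegularLocalRing A ↔ IsRegularLocalRing (AdicCompletion I A)) := by
  let C := AdicCompletion I A
  have hfg : I.FG := IsNoetherian.noetherian I
  haveI : IsNoetherianRing C := Groth.Agent.Completion.NoetherianComplete.isNoetherianRing_adicCompletion I hfg
  let J : Ideal C := I.map (algebraMap A C)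
  haveI : IsAdicComplete J C :=
    (IsAdicComplete.map_algebraMap_iff I C).2 (AdicCompletion.isAdicComplete hfg)
  haveI : Module.Flat A C := AdicCompletion.flat_of_isNoetherian I
  let m := IsLocalRing.maximalIdeal A
  have hIm : I ≤ m := IsLocalRing.le_maximalIdeal hI
  have hker := AdicCompletion.ker_evalOneₐ_eq_map I hfg
  have hcong : ∀ x : C, ∃ a : A, x - algebraMap A C a ∈ J := fun x => by
    obtain ⟨a, ha⟩ := Ideal.Quotient.mk_surjective (AdicCompletion.evalOneₐ I x)
    refine ⟨a, hker.le ?_⟩
    show AdicCompletion.evalOneₐ I (x - algebraMap A C a) = 0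
    rw [map_sub, AlgHom.commutes, sub_eq_zero, ← ha]
    rfl
  haveI : Nontrivial C := by
    haveI : Nontrivial (A ⧸ I) := Ideal.Quotient.nontrivial_iff.2 hI
    exact (AdicCompletion.evalOneₐ_surjective I).nontrivial
  have huniq : ∀ M : Ideal C, M.IsMaximal → M = m.map (algebraMap A C) := fun M hM => by
    have hJM : J ≤ M := (IsAdicComplete.le_jacobson_bot J).trans (sInf_le ⟨bot_le, hM⟩)
    have hcm : M.comap (algebraMap A C) = m := by
      have hs : Function.Surjective ((Ideal.Quotient.mk M).comp (algebraMap A C)) := fun y => by
        obtain ⟨x, rfl⟩ := Ideal.Quotient.mk_surjective y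
        obtain ⟨a, ha⟩ := hcong x
        exact ⟨a, (Ideal.Quotient.eq.2 (hJM ha)).symm⟩
      haveI := hM
      letI := Ideal.Quotient.field M
      refine IsLocalRing.eq_maximalIdeal ?_
      have h := RingHom.ker_isMaximal_of_surjective ((Ideal.Quotient.mk M).comp (algebraMap A C)) hs
      have hk : RingHom.ker ((Ideal.Quotient.mk M).comp (algebraMap A C)) = M.comap (algebraMap A C) := by
        ext z; exact Ideal.Quotient.eq_zero_iff_mem
      rwa [hk] at h
    refine le_antisymm (fun x hx => ?_) (Ideal.map_le_iff_le_comap.2 hcm.ge)
    obtain ⟨a, ha⟩ := hcong x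
    have hJle : J ≤ m.map (algebraMap A C) := Ideal.map_mono hIm
    have ham : a ∈ m := hcm ▸ (show algebraMap A C a ∈ M by simpa using sub_mem hx (hJM ha))
    simpa using add_mem (hJle ha) (Ideal.mem_map_of_mem (algebraMap A C) ham)
  haveI : IsLocalRing C := by
    obtain ⟨M, hM⟩ := Ideal.exists_maximal C
    exact IsLocalRing.of_unique_max_ideal ⟨M, hM, fun M' hM' => (huniq M' hM').trans (huniq M hM).symm⟩
  have hmax : m.map (algebraMap A C) = IsLocalRing.maximalIdeal C :=
    (huniq _ (IsLocalRing.maximalIdeal.isMaximal C)).symm
  haveI : IsLocalHom (algebraMap A C) :=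
    ((IsLocalRing.local_hom_TFAE (algebraMap A C)).out 2 0).1 hmax.le
  exact ⟨Groth.Agent.EtaleLocal.Basic.ringKrullDim_eq hmax, Groth.Agent.EtaleLocal.Basic.isRegularLocalRing_iff hmax⟩

end Groth.Agent.S19474
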