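import Groth.Statements.S0550
import Groth.Agent.Alg.CompletionExact
import Mathlib.RingTheory.Flat.EquationalCriterion

set_option autoImplicit false
universe u
open CAlg

namespace Groth.Agent.S0550


open Groth.Agent.Alg.CompletionExact

/-- Over a Noetherian ring `R` with an ideal `I`, the `I`-adic completion of a free module (on any index
set) is a flat `R`-module. -/
theorem result (R : Type u) [CommRing R] [IsNoetherianRing R]
    (I : Ideal R) (α : Type u) : Module.Flat R (AdicCompletion I (α →₀ R)) := by
  classical
  refine Module.Flat.of_forall_isTrivialRelation fun {l a x} hx => ?_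
  let φ : (Fin l → R) →ₗ[R] R := Fintype.linearCombination R a
  obtain ⟨p, ψ, hψ⟩ := Module.Finite.exists_fin' R (LinearMap.ker φ)
  let ψ' : (Fin p → R) →ₗ[R] (Fin l → R) := (LinearMap.ker φ).subtype ∘ₗ ψ
  have hex : Function.Exact ψ' φ := by
    rw [LinearMap.exact_iff]
    simp [ψ', LinearMap.range_comp, LinearMap.range_eq_top.mpr hψ]
  have hexα : Function.Exact (Finsupp.mapRange.linearMap (α := α) ψ')
      (Finsupp.mapRange.linearMap (α := α) φ) := by
    refine LinearMap.exact_of_comp_eq_zero_of_ker_le_range ?_ fun y hy => ?_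
    · exact LinearMap.ext fun z => Finsupp.ext fun t => by simp [hex.apply_apply_eq_zero]
    · have ht : ∀ t, ∃ w, ψ' w = y t := fun t => (hex _).mp (by simpa using DFunLike.congr_fun hy t)
      choose w hw using ht
      refine ⟨∑ t ∈ y.support, Finsupp.single t (w t), ?_⟩
      conv_rhs => rw [← Finsupp.sum_single y]
      simp [Finsupp.sum, hw, _root_.map_sum]
  have hexC := map_exact_of_hasAR I hexα (hasAR_mapRange I α (hasAR_of_finite I ψ'))
    (hasAR_mapRange I α (hasAR_of_finite I φ))
  let ι (i : Fin l) := Finsupp.mapRange.linearMap (α := α) (LinearMap.single R (fun _ => R) i)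
  let X : AdicCompletion I (α →₀ (Fin l → R)) := ∑ i, AdicCompletion.map I (ι i) (x i)
  have hX : AdicCompletion.map I (Finsupp.mapRange.linearMap (α := α) φ) X = 0 := by
    simp only [X, _root_.map_sum, AdicCompletion.map_comp_apply]
    refine Eq.trans (Finset.sum_congr rfl fun i _ => ?_) hx
    rw [← map_smul_id I (a i) (x i)]
    congr 1
    refine congrArg (AdicCompletion.map I) (LinearMap.ext fun z => Finsupp.ext fun t => ?_)
    simp [ι, φ, Fintype.linearCombination_apply, Pi.single_apply, mul_comm]
  obtain ⟨Z, hZ⟩ := (hexC _).mp hX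
  let π (j : Fin p) := Finsupp.mapRange.linearMap (α := α) (LinearMap.proj (R := R) (φ := fun _ : Fin p => R) j)
  refine ⟨p, fun i j => ψ' (Pi.single j 1) i, fun j => AdicCompletion.map I (π j) Z, fun i => ?_,
    fun j => ?_⟩
  · let π' := Finsupp.mapRange.linearMap (α := α) (LinearMap.proj (R := R) (φ := fun _ : Fin l => R) i)
    have h1 : AdicCompletion.map I π' X = x i := by
      simp only [X, _root_.map_sum, AdicCompletion.map_comp_apply]
      rw [Finset.sum_eq_single i]
      · have : π' ∘ₗ ι i = LinearMap.id := LinearMap.ext fun z => Finsupp.ext fun t => by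
          simp [π', ι]
        rw [this, AdicCompletion.map_id]; rfl
      · intro j _ hj
        have : π' ∘ₗ ι j = 0 := LinearMap.ext fun z => Finsupp.ext fun t => by
          simp [π', ι, Pi.single_eq_of_ne (Ne.symm hj)]
        rw [this, AdicCompletion.map_zero]; rfl
      · simp
    rw [← h1, ← hZ, AdicCompletion.map_comp_apply]
    have h2 : π' ∘ₗ Finsupp.mapRange.linearMap (α := α) ψ' = ∑ j, (ψ' (Pi.single j 1) i) • π j := by
      refine LinearMap.ext fun z => Finsupp.ext fun t => ?_
      have hz : z t = ∑ j, z t j • (Pi.single j 1 : Fin p → R) := pi_eq_sum_univ' (z t)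
      simp only [LinearMap.comp_apply, LinearMap.sum_apply, Finsupp.finsetSum_apply]
      simp only [π', π, LinearMap.smul_apply, Finsupp.smul_apply, Finsupp.mapRange.linearMap_apply,
        Finsupp.mapRange_apply, LinearMap.proj_apply]
      conv_lhs => rw [hz]
      simp [_root_.map_sum, mul_comm]
    rw [h2, Alg.CompletionExact.map_sum]
    simp only [Alg.CompletionExact.map_smul]
  · have h := (ψ (Pi.single j 1)).2
    rw [LinearMap.mem_ker, Fintype.linearCombination_apply] at h
    simpa [ψ', mul_comm] using h

end Groth.Agent.S0550
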