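import Groth.Statements.S0572
import Mathlib.RingTheory.Ideal.AssociatedPrime.Localization
import Mathlib.RingTheory.Ideal.AssociatedPrime.Finiteness
import Mathlib.RingTheory.IntegralClosure.IntegrallyClosed
import Mathlib.RingTheory.Localization.Integral
-- import your own Groth.Agent.* helpers here

set_option autoImplicit false
universe u
open CAlg

namespace Groth.Agent.S0572

/-- Let `R` be a Noetherian domain such that `R_f` is integrally closed for some nonzero `f`. Then the
set of primes `p` with `R_p` integrally closed is open in `Spec R`. -/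
theorem result (R : Type u) [CommRing R] [IsDomain R] [IsNoetherianRing R] (f : R)
    (hf : f ≠ 0) (hn : IsIntegrallyClosed (Localization.Away f)) :
    IsOpen {p : PrimeSpectrum R | IsIntegrallyClosed (Localization.AtPrime p.asIdeal)} := by
  classical
  let K := FractionRing R
  let bad : PrimeSpectrum R → Prop := fun p => ∃ x : K, IsIntegral R x ∧ ∀ s : R, s ∉ p.asIdeal → ¬ ∃ r : R, algebraMap R K r = algebraMap R K s * x
  have hcrit : ∀ p : PrimeSpectrum R, IsIntegrallyClosed (Localization.AtPrime p.asIdeal) ↔ ¬ bad p := by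
    intro p
    let A := Localization.AtPrime p.asIdeal
    letI : Algebra A K := IsLocalization.localizationAlgebraOfSubmonoidLe A K p.asIdeal.primeCompl (nonZeroDivisors R) p.asIdeal.primeCompl_le_nonZeroDivisors
    haveI : IsScalarTower R A K := IsLocalization.localization_isScalarTower_of_submonoid_le _ _ _ _ _
    haveI : IsFractionRing A K := IsFractionRing.isFractionRing_of_isDomain_of_isLocalization p.asIdeal.primeCompl A K
    constructor
    · rintro h ⟨x, hx, hno⟩
      obtain ⟨a, rfl⟩ := IsIntegrallyClosed.algebraMap_eq_of_integral (R := A) (K := K) hx.tower_top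
      obtain ⟨⟨r, s⟩, hrs⟩ := IsLocalization.surj p.asIdeal.primeCompl a
      refine hno s.1 s.2 ⟨r, ?_⟩
      rw [IsScalarTower.algebraMap_apply R A K, ← hrs, map_mul, mul_comm, ← IsScalarTower.algebraMap_apply R A K]
    · intro h
      refine (isIntegrallyClosed_iff K).2 fun {x} hx => ?_
      obtain ⟨⟨s, hs⟩, hsx⟩ := IsIntegral.exists_multiple_integral_of_isLocalization p.asIdeal.primeCompl x hx
      by_contra hn
      refine h ⟨_, hsx, fun t ht ⟨r, hr⟩ => hn ?_⟩
      refine ⟨IsLocalization.mk' A r ⟨t * s, p.asIdeal.primeCompl.mul_mem ht hs⟩, ?_⟩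
      have hne : algebraMap R K (t * s) ≠ 0 := by
        intro h0
        have := (IsFractionRing.injective R K) (h0.trans (map_zero _).symm)
        exact (p.asIdeal.primeCompl.mul_mem ht hs) (this ▸ p.asIdeal.zero_mem)
      apply mul_left_cancel₀ hne
      rw [IsScalarTower.algebraMap_apply R A K (t * s), ← map_mul, IsLocalization.mk'_spec'_mk A r (t * s) _, ← IsScalarTower.algebraMap_apply R A K, hr,
        ← IsScalarTower.algebraMap_apply R A K, map_mul]
      show _ * (s • x) = _
      rw [Algebra.smul_def]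
      ring
  have hf' : algebraMap R K f ≠ 0 := fun h0 => hf ((IsFractionRing.injective R K) (h0.trans (map_zero _).symm))
  have hpow : ∀ x : K, IsIntegral R x → ∃ n, ∃ r : R, algebraMap R K r = algebraMap R K (f ^ n) * x := by
    intro x hx
    letI : Algebra (Localization.Away f) K := IsLocalization.localizationAlgebraOfSubmonoidLe _ K (Submonoid.powers f) (nonZeroDivisors R)
      (powers_le_nonZeroDivisors_of_noZeroDivisors hf)
    haveI : IsScalarTower R (Localization.Away f) K := IsLocalization.localization_isScalarTower_of_submonoid_le _ _ _ _ _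
    haveI : IsFractionRing (Localization.Away f) K := IsFractionRing.isFractionRing_of_isDomain_of_isLocalization (Submonoid.powers f) _ K
    haveI := hn
    obtain ⟨a, rfl⟩ := IsIntegrallyClosed.algebraMap_eq_of_integral (R := Localization.Away f) (K := K) hx.tower_top
    obtain ⟨⟨r, s⟩, hrs⟩ := IsLocalization.surj (Submonoid.powers f) a
    obtain ⟨n, hns⟩ := s.2
    refine ⟨n, r, ?_⟩
    rw [show f ^ n = (s : R) from hns, IsScalarTower.algebraMap_apply R (Localization.Away f) K, ← hrs, map_mul, mul_comm, ← IsScalarTower.algebraMap_apply R (Localization.Away f) K]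
  let M := R ⧸ Ideal.span {f}
  have key : ∀ p, bad p → ∃ q : PrimeSpectrum R, q.asIdeal ∈ associatedPrimes R M ∧ bad q ∧ q ≤ p := by
    rintro p ⟨x, hx, hno⟩
    obtain ⟨n, hn0⟩ := hpow x hx
    let P : ℕ → Prop := fun k => ∃ s : R, s ∉ p.asIdeal ∧ ∃ r : R, algebraMap R K r = algebraMap R K s * (algebraMap R K (f ^ k) * x)
    have hP : ∃ k, P k := ⟨n, 1, fun h1 => p.isPrime.ne_top ((Ideal.eq_top_iff_one _).2 h1), by simpa using hn0⟩
    have hP0 : Nat.find hP ≠ 0 := by
      intro h0
      obtain ⟨s, hs, r, hr⟩ := Nat.find_spec hP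
      exact hno s hs ⟨r, by rw [hr, h0]; simp⟩
    obtain ⟨k, hk⟩ := Nat.exists_eq_succ_of_ne_zero hP0
    obtain ⟨s, hs, r, hr⟩ := Nat.find_spec hP
    let y := algebraMap R K s * (algebraMap R K (f ^ k) * x)
    have hyf : algebraMap R K r = algebraMap R K f * y := by
      rw [hr, hk]
      simp only [y, Nat.succ_eq_add_one, map_pow, map_mul, pow_succ]
      ring
    have hyp : ∀ t : R, t ∉ p.asIdeal → ¬ ∃ r' : R, algebraMap R K r' = algebraMap R K t * y := by
      rintro t ht ⟨r', hr'⟩
      exact Nat.find_min hP (by omega : k < Nat.find hP) ⟨t * s, fun h2 => (p.isPrime.mem_or_mem h2).elim ht hs, r', by rw [hr', map_mul]; ring⟩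
    let N : Submodule R M := Submodule.span R {(Ideal.Quotient.mk (Ideal.span {f}) r : M)}
    have hann : Module.annihilator R N ≤ p.asIdeal := by
      intro t ht
      by_contra htp
      have h0 := Module.mem_annihilator.1 ht ⟨_, Submodule.mem_span_singleton_self _⟩
      have h0' : (Ideal.Quotient.mk (Ideal.span {f}) (t * r) : M) = 0 := congrArg Subtype.val h0
      obtain ⟨r', hr'⟩ := Ideal.mem_span_singleton'.1 (Ideal.Quotient.eq_zero_iff_mem.1 h0')
      refine hyp t htp ⟨r', mul_left_cancel₀ hf' ?_⟩
      rw [← map_mul, mul_comm f r', hr', map_mul, hyf]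
      ring
    haveI := p.isPrime
    obtain ⟨q, hq, hqp⟩ := Ideal.exists_minimalPrimes_le hann
    refine ⟨⟨q, hq.1.1⟩, associatedPrimes.subset_of_injective N.injective_subtype (Module.associatedPrimes.minimalPrimes_annihilator_subset_associatedPrimes R N hq), ?_, hqp⟩
    refine ⟨y, ?_, fun t ht => ?_⟩
    · exact (isIntegral_algebraMap).mul ((isIntegral_algebraMap).mul hx)
    · rintro ⟨r', hr'⟩
      refine ht (hq.1.2 (Module.mem_annihilator.2 ?_))
      rintro ⟨m, hm⟩
      obtain ⟨c, rfl⟩ := Submodule.mem_span_singleton.1 hm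
      apply Subtype.ext
      show t • c • (Ideal.Quotient.mk (Ideal.span {f}) r : M) = 0
      rw [smul_comm]
      have : (t • (Ideal.Quotient.mk (Ideal.span {f}) r : M)) = 0 := by
        show Ideal.Quotient.mk (Ideal.span {f}) (t * r) = 0
        rw [Ideal.Quotient.eq_zero_iff_mem, Ideal.mem_span_singleton']
        refine ⟨r', IsFractionRing.injective R K ?_⟩
        rw [map_mul, map_mul, hr', hyf]
        ring
      rw [this, smul_zero]
  have hset : {p : PrimeSpectrum R | IsIntegrallyClosed (Localization.AtPrime p.asIdeal)} =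
      (⋃ q ∈ {q : PrimeSpectrum R | q.asIdeal ∈ associatedPrimes R M ∧ bad q}, PrimeSpectrum.zeroLocus (q.asIdeal : Set R))ᶜ := by
    ext p
    rw [Set.mem_setOf_eq, hcrit, Set.mem_compl_iff, Set.mem_iUnion₂, not_iff_not]
    constructor
    · intro hp
      obtain ⟨q, h1, h2, h3⟩ := key p hp
      exact ⟨q, ⟨h1, h2⟩, h3⟩
    · rintro ⟨q, ⟨-, x, hx, hno⟩, hqp⟩
      exact ⟨x, hx, fun s hs => hno s fun h => hs (hqp h)⟩
  rw [hset]
  refine (Set.Finite.isClosed_biUnion ?_ fun q _ => PrimeSpectrum.isClosed_zeroLocus _).isOpen_compl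
  exact ((associatedPrimes.finite R M).preimage (fun a _ b _ h => PrimeSpectrum.ext h)).subset fun q hq => hq.1

end Groth.Agent.S0572
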