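import Groth.Statements.S0574
import Mathlib.RingTheory.DedekindDomain.IntegralClosure
import Mathlib.FieldTheory.Perfect
-- import your own Groth.Agent.* helpers here

set_option autoImplicit false
universe u
open CAlg

namespace Groth.Agent.S0574

/-- For Noetherian domains of characteristic zero the conditions N-1 and N-2 coincide. -/
theorem result (R : Type u) [CommRing R] [IsDomain R] [IsNoetherianRing R]
    [CharZero R] : CAlg.IsN1 R ↔ CAlg.IsN2 R := by
  constructor
  · intro h L _ _ _ _ hL
    have : CharZero (FractionRing R) :=
      charZero_of_injective_ringHom (IsFractionRing.injective R (FractionRing R))
    let A := integralClosure R (FractionRing R)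
    have : Module.Finite R A := h
    have : IsNoetherianRing A := isNoetherianRing_iff.2
      (isNoetherian_of_tower R inferInstance)
    have : IsFractionRing A (FractionRing R) :=
      integralClosure.isFractionRing_of_finite_extension (FractionRing R) (FractionRing R)
    have : IsIntegrallyClosed A :=
      integralClosure.isIntegrallyClosedOfFiniteExtension (FractionRing R)
    have : FiniteDimensional (FractionRing R) L := hL
    have : IsIntegralClosure (integralClosure R L) R L := inferInstance
    have : Module.Finite A (integralClosure A L) :=
      IsIntegralClosure.finite A (FractionRing R) L (integralClosure A L)
    have : Module.Finite R (integralClosure A L) := Module.Finite.trans A _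
    have : Algebra.IsIntegral R A := Algebra.IsIntegral.of_finite R A
    have e : (integralClosure R L) = (integralClosure A L).restrictScalars R := by
      ext x
      exact ⟨fun hx => hx.tower_top, fun hx => isIntegral_trans x hx⟩
    rw [e]
    exact (inferInstance : Module.Finite R (integralClosure A L))
  · intro h
    exact h (FractionRing R) inferInstance

end Groth.Agent.S0574
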