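import Groth.Statements.S0578
import Groth.Agent.ResidueExt.Construction
import Mathlib.RingTheory.DiscreteValuationRing.Basic
import Mathlib.RingTheory.Regular.Flat
import Mathlib.Algebra.CharP.Basic
import Mathlib.RingTheory.Int.Basic
import Mathlib.RingTheory.AdicCompletion.LocalRing

set_option autoImplicit false
universe u
open CAlg

namespace Groth.Agent.S0578

open IsLocalRing

lemma exists_dvr (A : Type u) [CommRing A] [IsLocalRing A] [IsAdicComplete (maximalIdeal A) A] (π : A)
    (hm : maximalIdeal A = Ideal.span {π}) (hπ : ∀ n, π ^ n ≠ 0) :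
    ∃ (_ : IsDomain A), IsDiscreteValuationRing A := by
  classical
  have hfac : ∀ x : A, x ≠ 0 → ∃ (n : ℕ) (u : Aˣ), π ^ n * u = x := by
    intro x hx
    have hex : ∃ n, x ∉ maximalIdeal A ^ n := by
      by_contra h
      simp only [not_exists, not_not] at h
      exact hx (IsHausdorff.haus (I := maximalIdeal A) inferInstance x fun n => by
        rw [SModEq.zero, smul_eq_mul, Ideal.mul_top]; exact h n)
    have hne : Nat.find hex ≠ 0 := fun h => by
      have := Nat.find_spec hex
      rw [h, pow_zero] at this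
      exact this (by simp)
    obtain ⟨n, hn⟩ := Nat.exists_eq_succ_of_ne_zero hne
    have h1 : x ∈ maximalIdeal A ^ n := not_not.1 (Nat.find_min hex (by omega))
    rw [hm, Ideal.span_singleton_pow, Ideal.mem_span_singleton] at h1
    obtain ⟨c, rfl⟩ := h1
    have hc : IsUnit c := by
      by_contra hc
      refine Nat.find_spec hex ?_
      rw [hn, pow_succ]
      exact Ideal.mul_mem_mul (Ideal.pow_mem_pow (hm ▸ Ideal.mem_span_singleton_self π) n) hc
    exact ⟨n, hc.unit, by simp⟩
  have : NoZeroDivisors A := ⟨fun {x y} hxy => by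
    by_contra! h
    obtain ⟨a, u, rfl⟩ := hfac x h.1
    obtain ⟨b, v, rfl⟩ := hfac y h.2
    refine hπ (a + b) (((u * v).isUnit.mul_left_eq_zero).1 ?_)
    rw [← hxy, pow_add, Units.val_mul]; ring⟩
  haveI : IsDomain A := NoZeroDivisors.to_isDomain A
  refine ⟨‹IsDomain A›, IsDiscreteValuationRing.ofHasUnitMulPowIrreducibleFactorization
    ⟨π, ⟨fun h => ?_, fun a b hab => ?_⟩, fun {x} hx => ?_⟩⟩
  · exact (mem_maximalIdeal π).1 (hm ▸ Ideal.mem_span_singleton_self π) h
  · by_contra! h
    have ha : a ∈ maximalIdeal A := h.1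
    have hb : b ∈ maximalIdeal A := h.2
    rw [hm, Ideal.mem_span_singleton] at ha hb
    obtain ⟨a, rfl⟩ := ha
    obtain ⟨b, rfl⟩ := hb
    have h1 : π * (1 - π * (a * b)) = 0 := by linear_combination hab
    have hu : IsUnit (1 - π * (a * b)) := isUnit_one_sub_self_of_mem_nonunits _
      (Ideal.mul_mem_right _ _ (hm ▸ Ideal.mem_span_singleton_self π : π ∈ maximalIdeal A))
    exact hπ 1 (by rw [pow_one]; exact hu.mul_left_eq_zero.1 h1)
  · obtain ⟨n, u, hu⟩ := hfac x hx
    exact ⟨n, u, hu⟩

/-- For every prime `p` and every field `k` of characteristic `p` there is a Cohen ring (a complete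
discrete valuation ring with uniformizer `p`) whose residue field is isomorphic to `k`. -/
theorem result (p : ℕ) [Fact p.Prime] (k : Type u) [Field k] [CharP k p] :
    ∃ (Λ : Type u) (_ : CommRing Λ) (_ : IsLocalRing Λ), CAlg.IsCohenRing Λ ∧
      Nonempty (IsLocalRing.ResidueField Λ ≃+* k) := by
  classical
  have hpp : p.Prime := Fact.out
  let P : Ideal (ULift.{u} ℤ) := (Ideal.span {(p : ℤ)}).comap (ULift.ringEquiv : ULift.{u} ℤ ≃+* ℤ).toRingHom
  haveI : (Ideal.span {(p : ℤ)}).IsPrime := by
    rw [Ideal.span_singleton_prime (by exact_mod_cast hpp.ne_zero)]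
    exact Nat.prime_iff_prime_int.1 hpp
  haveI : P.IsPrime := Ideal.IsPrime.comap _
  have hP : P = Ideal.span {(p : ULift.{u} ℤ)} := by
    ext x
    simp only [P, Ideal.mem_comap, Ideal.mem_span_singleton, RingEquiv.toRingHom_eq_coe, RingHom.coe_coe]
    constructor
    · rintro ⟨c, hc⟩
      exact ⟨ULift.up c, ULift.ringEquiv.injective (by rw [map_mul, map_natCast]; exact hc)⟩
    · rintro ⟨c, rfl⟩
      exact ⟨c.down, by rw [map_mul, map_natCast]; rfl⟩
  let R := Localization.AtPrime P
  haveI : IsDomain (ULift.{u} ℤ) := MulEquiv.isDomain ℤ (ULift.ringEquiv : ULift.{u} ℤ ≃+* ℤ).toMulEquiv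
  haveI : IsDomain R := IsLocalization.isDomain_localization P.primeCompl_le_nonZeroDivisors
  let ι : ULift.{u} ℤ →+* k := (Int.castRingHom k).comp (ULift.ringEquiv : ULift.{u} ℤ ≃+* ℤ).toRingHom
  have hunit : ∀ y : P.primeCompl, IsUnit (ι y) := fun y => isUnit_iff_ne_zero.2 fun h => y.2 (by
    show ULift.ringEquiv (y : ULift.{u} ℤ) ∈ Ideal.span {(p : ℤ)}
    exact Ideal.mem_span_singleton.2 ((CharP.intCast_eq_zero_iff k p _).1 h))
  let φ : R →+* k := IsLocalization.lift (M := P.primeCompl) hunit
  have hmR : maximalIdeal R = Ideal.span {(p : R)} := by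
    rw [← Localization.AtPrime.map_eq_maximalIdeal]
    refine (congrArg (Ideal.map (algebraMap (ULift.{u} ℤ) R)) hP).trans ?_
    rw [Ideal.map_span, Set.image_singleton, map_natCast]
  haveI : IsLocalHom φ := by
    refine ⟨fun a ha => by_contra fun h => ?_⟩
    have : a ∈ maximalIdeal R := h
    rw [hmR, Ideal.mem_span_singleton] at this
    obtain ⟨c, rfl⟩ := this
    simp [CharP.cast_eq_zero] at ha
  letI : Algebra (ResidueField R) k := (ResidueField.lift φ).toAlgebra
  obtain ⟨S, _, _, _, ψ, hflat, hmax, hsurj, hker, -⟩ :=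
    Groth.Agent.ResidueExt.Construction.exists_flat_extension R k
  have hmS : maximalIdeal S = Ideal.span {(p : S)} := by
    rw [← hmax, hmR, Ideal.map_span, Set.image_singleton, map_natCast]
  have hfg : (maximalIdeal S).FG := hmS ▸ ⟨{(p : S)}, by simp⟩
  haveI := hflat
  have hreg : ∀ x : S, (p : S) * x = 0 → x = 0 := by
    intro x hx
    have h : IsSMulRegular S (algebraMap R S (p : R)) := by
      refine IsSMulRegular.of_flat ?_
      intro a b hab
      have hinj : Function.Injective (algebraMap (ULift.{u} ℤ) R) :=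
        IsLocalization.injective R P.primeCompl_le_nonZeroDivisors
      refine mul_left_cancel₀ (a := (p : R)) ?_ hab
      rw [← map_natCast (algebraMap (ULift.{u} ℤ) R), ← map_zero (algebraMap (ULift.{u} ℤ) R)]
      exact fun h => hpp.ne_zero (by simpa using congrArg ULift.down (hinj h))
    exact h (show algebraMap R S (p : R) • x = algebraMap R S (p : R) • (0 : S) by simpa using hx)
  let Λ := AdicCompletion (maximalIdeal S) S
  haveI : IsLocalRing Λ := AdicCompletion.isLocalRing_of_fg hfg
  haveI hcomp : IsAdicComplete (maximalIdeal Λ) Λ := AdicCompletion.isAdicComplete_of_fg hfg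
  have hmΛ : maximalIdeal Λ = Ideal.span {(p : Λ)} := by
    have h := AdicCompletion.maximalIdeal_eq_map_of_fg hfg
    refine h.trans ?_
    conv_lhs => arg 2; rw [hmS]
    rw [Ideal.map_span, Set.image_singleton, map_natCast]
  have hpow : ∀ n, (p : Λ) ^ n ≠ 0 := by
    intro n hn
    have h : (AdicCompletion.evalₐ (maximalIdeal S) (n + 1)) (algebraMap S Λ ((p : S) ^ n)) = 0 := by
      rw [map_pow, map_natCast]
      rw [hn, map_zero]
    rw [AlgHom.commutes, Ideal.Quotient.algebraMap_eq, Ideal.Quotient.eq_zero_iff_mem, hmS,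
      Ideal.span_singleton_pow, Ideal.mem_span_singleton] at h
    obtain ⟨c, hc⟩ := h
    have h1 : (p : S) ^ n * (1 - p * c) = 0 := by linear_combination hc
    have hu : IsUnit (1 - (p : S) * c) := isUnit_one_sub_self_of_mem_nonunits _
      (Ideal.mul_mem_right _ _ (hmS ▸ Ideal.mem_span_singleton_self _ : (p : S) ∈ maximalIdeal S))
    have h2 := hu.mul_left_eq_zero.1 h1
    clear h1 hc hn
    induction n with
    | zero => exact one_ne_zero (α := S) (by simpa using h2)
    | succ n ih => exact ih (hreg _ (by rwa [pow_succ'] at h2))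
  obtain ⟨hdom, hdvr⟩ := exists_dvr Λ (p : Λ) hmΛ hpow
  refine ⟨Λ, inferInstance, inferInstance, ⟨hdom, hdvr, hcomp, p, hpp, hmΛ⟩, ?_⟩
  haveI := AdicCompletion.algebraMap_isLocalHom_of_fg hfg
  exact ⟨(RingEquiv.ofBijective _ (AdicCompletion.residueField_map_bijective_of_fg hfg)).symm.trans
    ((Ideal.quotEquivOfEq hker.symm).trans (RingHom.quotientKerEquivOfSurjective hsurj))⟩

end Groth.Agent.S0578
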