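import Groth.Statements.S0579
import Mathlib.RingTheory.Henselian
import Mathlib.RingTheory.LocalRing.ResidueField.Basic
import Mathlib.FieldTheory.Minpoly.Field
import Mathlib.Algebra.Polynomial.Derivative
import Mathlib.Order.Zorn

set_option autoImplicit false
universe u
open CAlg

namespace Groth.Agent.S0579

open IsLocalRing Polynomial

lemma exists_coefficient_field {R : Type u} [CommRing R] [IsLocalRing R]
    [HenselianRing R (maximalIdeal R)] [CharZero (ResidueField R)] :
    ∃ s : ResidueField R →+* R, (residue R).comp s = RingHom.id _ := by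
  classical
  let P : Set (Subring R) := {S | ∀ x ∈ S, residue R x = 0 → x = 0}
  have h0 : (⊥ : Subring R) ∈ P := by
    intro x hx h
    obtain ⟨n, rfl⟩ := Subring.mem_bot.1 hx
    rw [map_intCast, Int.cast_eq_zero] at h
    simp [h]
  obtain ⟨S, -, hmax⟩ := zorn_le_nonempty₀ P (fun c hcP hc y hy => ⟨sSup c, fun x hx h => by
    obtain ⟨S, hS, hxS⟩ := (Subring.mem_sSup_of_directedOn ⟨y, hy⟩ hc.directedOn).1 hx
    exact hcP hS x hxS h, fun z hz => le_sSup hz⟩) _ h0
  have hS : ∀ x ∈ S, residue R x = 0 → x = 0 := hmax.1
  let φ : S →+* ResidueField R := (residue R).comp S.subtype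
  have hφ : Function.Injective φ := (injective_iff_map_eq_zero φ).2 fun x hx => Subtype.ext (hS _ x.2 hx)
  have hfield : ∀ x : S, x ≠ 0 → ∃ y : S, x * y = 1 := by
    intro x hx
    have hu : IsUnit (x : R) := (residue_ne_zero_iff_isUnit _).1 fun h => hx (Subtype.ext (hS _ x.2 h))
    obtain ⟨u, hu⟩ := hu
    have hle : Subring.closure (insert ((↑u⁻¹ : R)) (S : Set R)) ∈ P := by
      have : ∀ z ∈ Subring.closure (insert ((↑u⁻¹ : R)) (S : Set R)), ∃ k : ℕ, (u : R) ^ k * z ∈ S := by
        intro z hz
        induction hz using Subring.closure_induction with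
        | mem z hz =>
          rcases hz with rfl | hz
          · exact ⟨1, by simp⟩
          · exact ⟨0, by simpa using hz⟩
        | zero => exact ⟨0, by simp⟩
        | one => exact ⟨0, by simp⟩
        | add a b _ _ ha hb =>
          obtain ⟨k, hk⟩ := ha
          obtain ⟨l, hl⟩ := hb
          refine ⟨k + l, ?_⟩
          have hu' : (u : R) ∈ S := hu ▸ x.2
          rw [show (u : R) ^ (k + l) * (a + b) = (u : R) ^ l * ((u : R) ^ k * a) + (u : R) ^ k * ((u : R) ^ l * b) by ring]
          exact add_mem (mul_mem (pow_mem hu' _) hk) (mul_mem (pow_mem hu' _) hl)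
        | neg a _ ha =>
          obtain ⟨k, hk⟩ := ha
          exact ⟨k, by simpa using neg_mem hk⟩
        | mul a b _ _ ha hb =>
          obtain ⟨k, hk⟩ := ha
          obtain ⟨l, hl⟩ := hb
          exact ⟨k + l, by rw [show (u : R) ^ (k + l) * (a * b) = ((u : R) ^ k * a) * ((u : R) ^ l * b) by ring]; exact mul_mem hk hl⟩
      intro z hz h
      obtain ⟨k, hk⟩ := this z hz
      have := hS _ hk (by rw [map_mul, h, mul_zero])
      exact (IsUnit.mul_right_eq_zero (u.isUnit.pow k)).1 this
    have hmem : ((↑u⁻¹ : R)) ∈ S := hmax.2 hle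
      (fun z hz => Subring.subset_closure (Set.mem_insert_of_mem _ hz)) (Subring.subset_closure (Set.mem_insert _ _))
    exact ⟨⟨_, hmem⟩, Subtype.ext (by simp [← hu])⟩
  haveI : Nontrivial S := ⟨0, 1, fun h => zero_ne_one (congrArg Subtype.val h)⟩
  letI : Field S := (show IsField S from ⟨exists_pair_ne _, mul_comm, fun {x} hx => hfield x hx⟩).toField
  letI : Algebra S (ResidueField R) := φ.toAlgebra
  have key : ∀ T : R, (∀ p : (↥S)[X], residue R (p.eval₂ S.subtype T) = 0 → p.eval₂ S.subtype T = 0) → T ∈ S := by
    intro T hT
    have hmem : (eval₂RingHom S.subtype T).range ∈ P := by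
      rintro _ ⟨p, rfl⟩ h
      exact hT p h
    exact hmax.2 hmem (fun z hz => ⟨C ⟨z, hz⟩, by simp⟩) ⟨X, by simp⟩
  have haeval : ∀ (p : (↥S)[X]) (T : R), residue R (p.eval₂ S.subtype T) = aeval (residue R T) p :=
    fun p T => hom_eval₂ p S.subtype (residue R) T
  have hsurj : Function.Surjective φ := by
    intro x
    obtain ⟨T, rfl⟩ := residue_surjective x
    by_cases halg : IsAlgebraic S (residue R T)
    · have hint := halg.isIntegral
      let g := minpoly S (residue R T)
      have hroot : residue R (g.eval₂ S.subtype T) = 0 := by rw [haeval]; exact minpoly.aeval _ _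
      have hder : residue R (g.derivative.eval₂ S.subtype T) ≠ 0 := by
        rw [haeval]
        haveI : CharZero S := RingHom.charZero φ
        intro h
        have hd : g.derivative ≠ 0 := fun h0 => by
          have := natDegree_eq_zero_of_derivative_eq_zero h0
          exact (minpoly.natDegree_pos hint).ne' this
        exact absurd (degree_derivative_lt (minpoly.ne_zero hint)) (not_lt.2 (minpoly.degree_le_of_ne_zero S _ hd h))
      obtain ⟨T', hT', hdiff⟩ := HenselianRing.is_henselian (I := maximalIdeal R) (g.map S.subtype)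
        ((minpoly.monic hint).map _) T
        (by rw [eval_map, ← residue_eq_zero_iff]; exact hroot)
        (by rw [derivative_map, eval_map]
            exact ((residue_ne_zero_iff_isUnit _).1 hder).map _)
      have hres : residue R T' = residue R T := by
        rw [← sub_eq_zero, ← map_sub, residue_eq_zero_iff]; exact hdiff
      have hmem : T' ∈ S := key T' fun p hp => by
        rw [haeval, hres] at hp
        obtain ⟨q, rfl⟩ := minpoly.dvd S _ hp
        rw [eval₂_mul, ← eval_map, show (g.map S.subtype).eval T' = 0 from hT', zero_mul]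
      exact ⟨⟨T', hmem⟩, hres⟩
    · have hmem : T ∈ S := key T fun p hp => by
        rw [haeval] at hp
        rw [show p = 0 from by_contra fun h => halg ⟨p, h, hp⟩, eval₂_zero]
      exact ⟨⟨T, hmem⟩, rfl⟩
  refine ⟨S.subtype.comp (RingEquiv.ofBijective φ ⟨hφ, hsurj⟩).symm.toRingHom, RingHom.ext fun x => ?_⟩
  exact (RingEquiv.ofBijective φ ⟨hφ, hsurj⟩).apply_symm_apply x

/-- A local ring which is complete with respect to its maximal ideal and whose residue field has
characteristic zero admits a coefficient field: there is a ring homomorphism from the residue field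
to the ring which is a section of the residue map. -/
theorem result (R : Type u) [CommRing R] [IsLocalRing R]
    [IsAdicComplete (IsLocalRing.maximalIdeal R) R] [CharZero (IsLocalRing.ResidueField R)] :
    ∃ s : IsLocalRing.ResidueField R →+* R, (IsLocalRing.residue R).comp s = RingHom.id _ := by
  exact exists_coefficient_field

end Groth.Agent.S0579
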