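import Groth.Statements.S0582
import Groth.Agent.LocalAlg.Kaplansky
import Mathlib.Algebra.Module.Projective
import Mathlib.LinearAlgebra.DFinsupp
import Mathlib.LinearAlgebra.Matrix.NonsingularInverse
import Mathlib.LinearAlgebra.Matrix.ToLin
import Mathlib.RingTheory.LocalRing.ResidueField.Basic
import Mathlib.LinearAlgebra.FreeModule.Basic
import Mathlib.Algebra.Algebra.Pi
import Mathlib.Tactic.LinearCombination

set_option autoImplicit false
universe u
open CAlg

namespace Groth.Agent.S0582

open IsLocalRing Matrix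

open scoped Classical in
lemma exists_step {R : Type u} [CommRing R] [IsLocalRing R] {P : Type u} [AddCommGroup P] [Module R P]
    [Module.Projective R P] (p : P →ₗ[R] P) (hp : ∀ x, p (p x) = p x) (x : P) :
    ∃ (k : ℕ) (φ : (Fin k → R) →ₗ[R] P) (r : P →ₗ[R] (Fin k → R)),
      (∀ a, p (φ a) = φ a) ∧ (∀ a, r (φ a) = a) ∧ (∀ y, r (p y) = r y) ∧ φ (r x) = p x := by
  obtain ⟨σ, hσ⟩ := Module.projective_def'.1 (inferInstance : Module.Projective R P)
  have hex : ∃ k, ∃ (a : Fin k → R) (φ : (Fin k → R) →ₗ[R] P) (q : P →ₗ[R] (Fin k → R)),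
      φ a = p x ∧ q (p x) = a := by
    let s := (σ (p x)).support
    let e : Fin s.card → P := fun i => (s.equivFin.symm i : P)
    refine ⟨s.card, fun i => σ (p x) (e i), Fintype.linearCombination R e,
      LinearMap.pi fun i => Finsupp.lapply (e i) ∘ₗ σ, ?_, rfl⟩
    have := LinearMap.congr_fun hσ (p x)
    simp only [LinearMap.comp_apply, LinearMap.id_apply, Finsupp.linearCombination_apply, id] at this
    rw [Fintype.linearCombination_apply]
    refine Eq.trans ?_ this
    rw [Finsupp.sum, ← Finset.sum_coe_sort s]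
    exact s.equivFin.symm.sum_comp (fun i : s => σ (p x) i • (i : P))
  obtain ⟨a, φ, q, hφ, hq⟩ := Nat.find_spec hex
  let φ' := p ∘ₗ φ
  let q' := q ∘ₗ p
  have hφ' : φ' a = p x := by simp [φ', hφ, hp]
  have hq' : q' (p x) = a := by simp [q', hp, hq]
  let B := LinearMap.toMatrix' (q' ∘ₗ φ')
  let D : Matrix (Fin (Nat.find hex)) (Fin (Nat.find hex)) R := 1 - B
  have hBa : B *ᵥ a = a := by
    rw [← Matrix.toLin'_apply, Matrix.toLin'_toMatrix', LinearMap.comp_apply, hφ', hq']
  have hunit : ∀ j i, D j i ∈ maximalIdeal R := by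
    intro j i
    by_contra h
    rw [mem_maximalIdeal, mem_nonunits_iff, not_not] at h
    obtain ⟨u, hu⟩ := h.exists_left_inv
    have h0 : (D *ᵥ a) j = 0 := by rw [Matrix.sub_mulVec, Matrix.one_mulVec, hBa, sub_self]; rfl
    rw [Matrix.mulVec, dotProduct, ← Finset.add_sum_erase _ _ (Finset.mem_univ i)] at h0
    let n := Nat.find hex
    obtain ⟨k, hk⟩ : ∃ k, Nat.find hex = k + 1 := ⟨Nat.find hex - 1, by have := i.isLt; omega⟩
    let em : Fin k → Fin (Nat.find hex) := fun t => Fin.cast hk.symm ((Fin.cast hk i).succAbove t)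
    have hem : ∀ t : Fin (Nat.find hex), t ≠ i → ∃ t', em t' = t := fun t ht => by
      obtain ⟨t', ht'⟩ := Fin.exists_succAbove_eq (x := Fin.cast hk t) (y := Fin.cast hk i)
        (fun h => ht (Fin.cast_injective _ h))
      exact ⟨t', by simp [em, ht']⟩
    have hem' : Function.Injective em := (Fin.cast_injective _).comp Fin.succAbove_right_injective
    let ext : (Fin k → R) →ₗ[R] (Fin (Nat.find hex) → R) :=
      ∑ t, (LinearMap.proj t).smulRight (Pi.single (em t) (1 : R) - (u * D j (em t)) • Pi.single i 1)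
    have hext : ext (a ∘ em) = a := by
      funext m
      simp only [ext, LinearMap.sum_apply, LinearMap.smulRight_apply, LinearMap.proj_apply,
        Finset.sum_apply, Pi.smul_apply, Pi.sub_apply, smul_eq_mul, Function.comp_apply]
      by_cases hm : m = i
      · subst hm
        have hne : ∀ t, em t ≠ m := fun t h => Fin.succAbove_ne (Fin.cast hk m) t
          (by conv_rhs => rw [← h]
              simp [em])
        have hs : ∑ t, a (em t) * D j (em t) =
            ∑ t ∈ Finset.univ.erase m, D j t * a t := by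
          refine Finset.sum_bij (fun t _ => em t) (fun t _ => Finset.mem_erase.2 ⟨hne t, Finset.mem_univ _⟩)
            (fun _ _ _ _ h => hem' h) (fun t ht => ?_) (fun t _ => mul_comm _ _)
          obtain ⟨t', ht'⟩ := hem t (Finset.mem_erase.1 ht).1
          exact ⟨t', Finset.mem_univ _, ht'⟩
        simp only [Pi.single_eq_of_ne' (hne _), Pi.single_eq_same, mul_one, zero_sub, mul_neg,
          Finset.sum_neg_distrib]
        rw [show ∑ t, a (em t) * (u * D j (em t)) =
            u * ∑ t, a (em t) * D j (em t) by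
          rw [Finset.mul_sum]; exact Finset.sum_congr rfl fun t _ => by ring, hs,
          show (∑ t ∈ Finset.univ.erase m, D j t * a t) =
            -(D j m * a m) from eq_neg_of_add_eq_zero_right h0]
        linear_combination a m * hu
      · obtain ⟨t', rfl⟩ := hem m hm
        rw [Finset.sum_eq_single t' (fun t _ ht => by simp [Pi.single_eq_of_ne (hem'.ne ht).symm, hm])
          (by simp)]
        simp [hm]
    exact Nat.find_min hex (m := k) (by omega)
      ⟨a ∘ em, φ ∘ₗ ext, LinearMap.funLeft R R em ∘ₗ q, by simp [hext, hφ], by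
        simp [hq, LinearMap.funLeft]⟩
  have hdet : IsUnit B.det := by
    rw [← isUnit_map_iff (IsLocalRing.residue R), RingHom.map_det]
    have : (IsLocalRing.residue R).mapMatrix B = 1 := by
      ext j i
      have := (IsLocalRing.residue_eq_zero_iff _).2 (hunit j i)
      simp only [D, Matrix.sub_apply, map_sub, sub_eq_zero] at this
      rw [RingHom.mapMatrix_apply, Matrix.map_apply, ← this]
      by_cases hji : j = i <;> simp [Matrix.one_apply, hji]
    rw [this]
    simp
  let r := Matrix.toLin' B⁻¹ ∘ₗ q'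
  refine ⟨_, φ', r, fun b => by simp [φ', hp], fun b => ?_, fun y => by simp [r, q', hp], ?_⟩
  · show B⁻¹ *ᵥ (q' ∘ₗ φ') b = b
    rw [← Matrix.toLin'_toMatrix' (q' ∘ₗ φ'), Matrix.toLin'_apply, Matrix.mulVec_mulVec,
      Matrix.nonsing_inv_mul _ hdet, Matrix.one_mulVec]
  · have : r x = a := by
      show B⁻¹ *ᵥ q' x = a
      rw [show q' x = a by simp [q', hq]]
      conv_lhs => rw [← hBa, Matrix.mulVec_mulVec, Matrix.nonsing_inv_mul _ hdet, Matrix.one_mulVec]
    rw [this, hφ']

lemma free_of_countable {R : Type u} [CommRing R] [IsLocalRing R] {P : Type u} [AddCommGroup P]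
    [Module R P] [Module.Projective R P] (hc : CAlg.IsCountablyGenerated R P) : Module.Free R P := by
  classical
  obtain ⟨s, hs, hspan⟩ := hc
  obtain ⟨x, hx⟩ := (hs.insert 0).exists_eq_range (Set.insert_nonempty 0 s)
  choose k φ r h1 h2 h3 h4 using fun (p : {p : P →ₗ[R] P // ∀ y, p (p y) = p y}) y => exists_step p.1 p.2 y
  let step : {p : P →ₗ[R] P // ∀ y, p (p y) = p y} → P → {p : P →ₗ[R] P // ∀ y, p (p y) = p y} :=
    fun p y => ⟨p.1 - φ p y ∘ₗ r p y, fun z => by simp [p.2, h1, h2, h3]⟩
  let st : ℕ → {p : P →ₗ[R] P // ∀ y, p (p y) = p y} := fun n =>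
    n.rec ⟨LinearMap.id, fun _ => rfl⟩ fun n q => step q (x n)
  have hst : ∀ n y, (st (n + 1)).1 y = (st n).1 y - φ (st n) (x n) (r (st n) (x n) y) := fun _ _ => rfl
  have hle : ∀ m n, m ≤ n → ∀ y, (st n).1 ((st m).1 y) = (st n).1 y := by
    intro m n hmn
    induction hmn with
    | refl => exact (st m).2
    | @step n _ ih => intro y; rw [hst, hst, ih, ← h3 (st n), ih, h3]
  have hkill : ∀ m n, m < n → ∀ a, (st n).1 (φ (st m) (x m) a) = 0 := by
    intro m n hmn a
    rw [← hle (m + 1) n hmn, hst, h1, h2, sub_self, map_zero]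
  have hr : ∀ m n a, m ≠ n → r (st n) (x n) (φ (st m) (x m) a) = 0 := by
    intro m n a hne
    rcases lt_or_gt_of_ne hne with h | h
    · rw [← h3, hkill m n h, map_zero]
    · rw [← h1 (st m) (x m) a, ← hle (n + 1) m h, hle (n + 1) m h]
      have : ∀ j, n < j → ∀ y, r (st n) (x n) ((st j).1 y) = 0 := by
        intro j hj
        induction hj with
        | refl => intro y; rw [hst, map_sub, h3, h2, sub_self]
        | @step j hj' ih =>
          intro y
          rw [hst, map_sub, ih, zero_sub, ← h1 (st j), ih, neg_zero]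
      exact this m h _
  let F := LinearMap.range (DFinsupp.lsum ℕ fun n => φ (st n) (x n) : (Π₀ n, (Fin (k (st n) (x n)) → R)) →ₗ[R] P)
  have hφF : ∀ n a, φ (st n) (x n) a ∈ F := fun n a => ⟨DFinsupp.single n a, by simp⟩
  have hdiff : ∀ n y, y - (st n).1 y ∈ F := by
    intro n
    induction n with
    | zero => intro y; simp [st]
    | succ n ih =>
      intro y
      rw [hst, sub_sub_eq_add_sub, add_sub_right_comm]
      exact add_mem (ih y) (hφF _ _)
  have hsurj : F = ⊤ := by
    rw [← top_le_iff, ← hspan, Submodule.span_le]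
    intro z hz
    obtain ⟨n, rfl⟩ : z ∈ Set.range x := hx ▸ Set.mem_insert_of_mem 0 hz
    have h0 : (st (n + 1)).1 (x n) = 0 := by rw [hst, h4, sub_self]
    simpa [h0] using hdiff (n + 1) (x n)
  refine Module.Free.of_equiv (LinearEquiv.ofBijective _ ⟨?_, LinearMap.range_eq_top.1 hsurj⟩)
  rw [← LinearMap.ker_eq_bot, LinearMap.ker_eq_bot']
  intro v hv
  ext n : 1
  have hcomp : r (st n) (x n) ∘ₗ DFinsupp.lsum ℕ (fun n => φ (st n) (x n)) =
      DFinsupp.lapply (R := R) (M := fun n => Fin (k (st n) (x n)) → R) n := by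
    refine DFinsupp.lhom_ext fun m a => ?_
    rw [LinearMap.comp_apply, DFinsupp.lsum_single, DFinsupp.lapply_apply]
    by_cases hmn : m = n
    · subst hmn; simp [h2]
    · rw [hr m n a hmn, DFinsupp.single_eq_of_ne (Ne.symm hmn)]
  have := LinearMap.congr_fun hcomp v
  rw [LinearMap.comp_apply, hv, map_zero] at this
  exact this.symm

lemma free_of_isInternal {R : Type u} [CommRing R] [IsLocalRing R] {M : Type u} [AddCommGroup M]
    [Module R M] [Module.Projective R M] {κ : Type u} [DecidableEq κ] (L : κ → Submodule R M)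
    (hL : DirectSum.IsInternal L) (hLc : ∀ i, CAlg.IsCountablyGenerated R (L i)) : Module.Free R M := by
  let E : (DirectSum κ fun i => L i) ≃ₗ[R] M := LinearEquiv.ofBijective (DirectSum.coeLinearMap L) hL
  haveI : ∀ i, Module.Free R (L i) := fun i => by
    haveI : Module.Projective R (L i) := Module.Projective.of_split (L i).subtype
      (DirectSum.component R κ (fun i => L i) i ∘ₗ E.symm.toLinearMap) (LinearMap.ext fun y => by
        have : E.symm (y : M) = DirectSum.lof R κ (fun i => L i) i y := by
          rw [LinearEquiv.symm_apply_eq]; exact (DirectSum.coeLinearMap_of L i y).symm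
        simp [this])
    exact free_of_countable (hLc i)
  haveI : Module.Free R (DirectSum κ fun i => L i) :=
    Module.Free.of_basis (DFinsupp.basis fun i => Module.Free.chooseBasis R (L i))
  exact Module.Free.of_equiv E

/-- A projective module, not necessarily finitely generated, over a local ring is free. -/
theorem result (R : Type u) [CommRing R] [IsLocalRing R] (P : Type u)
    [AddCommGroup P] [Module R P] [Module.Projective R P] : Module.Free R P := by
  classical
  obtain ⟨σ, hσ⟩ := Module.projective_def'.1 (inferInstance : Module.Projective R P)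
  let N : P → Submodule R (P →₀ R) := fun i => LinearMap.range (Finsupp.lsingle i)
  have hN : DirectSum.IsInternal N :=
    (DirectSum.isInternal_submodule_iff_iSupIndep_and_iSup_eq_top N).2
      ⟨fun i => (Finsupp.disjoint_lsingle_lsingle {i} {j | j ≠ i} (by simp)).mono (by simp [N]) (by simp [N]),
        Finsupp.iSup_lsingle_range⟩
  have hNc : ∀ i, CAlg.IsCountablyGenerated R (N i) := fun i =>
    ⟨{⟨Finsupp.single i 1, ⟨1, rfl⟩⟩}, Set.countable_singleton _, by
      rw [eq_top_iff]
      rintro ⟨_, c, rfl⟩ -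
      exact Submodule.mem_span_singleton.2 ⟨c, Subtype.ext (by simp)⟩⟩
  have hid : ∀ a, Finsupp.linearCombination R id (σ a) = a := fun a => LinearMap.congr_fun hσ a
  have hproj : ∀ z : LinearMap.range σ, (σ.rangeRestrict ∘ₗ Finsupp.linearCombination R id) z = z := by
    rintro ⟨_, y, rfl⟩
    exact Subtype.ext (congrArg σ (hid y))
  obtain ⟨κ, _, L, hL, hLc⟩ := Groth.Agent.LocalAlg.Kaplansky.exists_isInternal_countable N hN hNc
    (LinearMap.range σ) _ (LinearMap.isCompl_of_proj (f := σ.rangeRestrict ∘ₗ Finsupp.linearCombination R id) hproj)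
  have hinj : Function.Injective σ := fun a b h => by rw [← hid a, ← hid b, h]
  haveI : Module.Projective R (LinearMap.range σ) := Module.Projective.of_equiv (LinearEquiv.ofInjective σ hinj)
  haveI : Module.Free R (LinearMap.range σ) := @free_of_isInternal R _ _ (LinearMap.range σ) (Submodule.addCommGroup _) _ this κ _ L hL hLc
  exact Module.Free.of_equiv (LinearEquiv.ofInjective σ hinj).symm

end Groth.Agent.S0582
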