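import Groth.Statements.S0587
import Mathlib.LinearAlgebra.TensorProduct.Pi
import Mathlib.RingTheory.Finiteness.Basic
import Mathlib.LinearAlgebra.TensorProduct.Finiteness

set_option autoImplicit false
universe u
open CAlg

namespace Groth.Agent.S0587
open scoped TensorProduct

/-- A module `M` is finitely generated exactly when for every family of modules `(Qᵢ)` the natural map
from `M ⊗ ∏ Qᵢ` to `∏ (M ⊗ Qᵢ)` is surjective. -/
theorem result (R : Type u) [CommRing R] (M : Type u)
    [AddCommGroup M] [Module R M] :
    Module.Finite R M ↔ ∀ (ι : Type u) (Q : ι → Type u) [∀ i, AddCommGroup (Q i)]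
      [∀ i, Module R (Q i)], Function.Surjective (TensorProduct.piRightHom R R M Q) := by
  classical
  constructor
  · intro h ι Q _ _ y
    obtain ⟨n, v, hv⟩ := Module.Finite.exists_fin (R := R) (M := M)
    have hrep : ∀ (i : ι) (z : M ⊗[R] Q i), ∃ q : Fin n → Q i, z = ∑ j, v j ⊗ₜ q j := fun i z => by
      induction z using TensorProduct.induction_on with
      | zero => exact ⟨0, by simp⟩
      | tmul m q =>
        have hm : m ∈ Submodule.span R (Set.range v) := by rw [hv]; exact Submodule.mem_top
        obtain ⟨c, rfl⟩ := (Submodule.mem_span_range_iff_exists_fun R).1 hm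
        exact ⟨fun j => c j • q, by rw [TensorProduct.sum_tmul]; simp [TensorProduct.smul_tmul]⟩
      | add a b ha hb =>
        obtain ⟨qa, rfl⟩ := ha
        obtain ⟨qb, rfl⟩ := hb
        exact ⟨qa + qb, by simp [TensorProduct.tmul_add, Finset.sum_add_distrib]⟩
    choose q hq using fun i => hrep i (y i)
    refine ⟨∑ j, v j ⊗ₜ fun i => q i j, funext fun i => ?_⟩
    rw [map_sum, Finset.sum_apply, hq i]
    simp
  · intro h
    obtain ⟨z, hz⟩ := h M (fun _ => R) (fun m => m ⊗ₜ 1)
    obtain ⟨S, rfl⟩ := TensorProduct.exists_finset z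
    refine ⟨⟨S.image Prod.fst, eq_top_iff.2 fun m _ => ?_⟩⟩
    have h1 := congrArg (TensorProduct.rid R M) (congrFun hz m)
    rw [map_sum, Finset.sum_apply, map_sum] at h1
    simp at h1
    rw [← h1]
    refine Submodule.sum_mem _ fun x hx => Submodule.smul_mem _ _ (Submodule.subset_span ?_)
    simp only [Finset.coe_image]
    exact ⟨x, hx, rfl⟩

end Groth.Agent.S0587
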