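import Groth.Statements.S0588
import Groth.Agent.ML.Module
import Groth.Agent.S0587

set_option autoImplicit false
universe u
open CAlg

namespace Groth.Agent.S0588


open Groth.Agent.ML.Module TensorProduct

/-- A module `M` is finitely presented exactly when for every family of modules `(Qᵢ)` the natural map
from `M ⊗ ∏ Qᵢ` to `∏ (M ⊗ Qᵢ)` is bijective. -/
theorem result (R : Type u) [CommRing R] (M : Type u)
    [AddCommGroup M] [Module R M] :
    Module.FinitePresentation R M ↔ ∀ (ι : Type u) (Q : ι → Type u) [∀ i, AddCommGroup (Q i)]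
      [∀ i, Module R (Q i)], Function.Bijective (TensorProduct.piRightHom R R M Q) := by
  classical
  refine ⟨fun _ ι Q _ _ => ⟨of_finitePresentation M ι Q, pi_surjective M⟩, fun h => ?_⟩
  haveI : Module.Finite R M :=
    (Groth.Agent.S0587.result R M).mpr fun ι Q _ _ => (h ι Q).2
  obtain ⟨n, π, hπ⟩ := Module.Finite.exists_fin' R M
  refine Module.finitePresentation_of_surjective π hπ ?_
  let K := LinearMap.ker π
  let x : (Fin n → R) ⊗[R] (K → R) := ∑ i, Pi.single i 1 ⊗ₜ fun k : K => (k : Fin n → R) i
  have hx : π.rTensor (K → R) x = 0 := by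
    refine (h K fun _ => R).1 (funext fun k => ?_)
    apply (TensorProduct.rid R M).injective
    have hk : π (k : Fin n → R) = 0 := k.2
    rw [pi_eq_sum_univ' (k : Fin n → R)] at hk
    simpa [x, map_sum, Finset.sum_apply] using hk
  obtain ⟨w, hw⟩ := (rTensor_exact (K → R) (M := LinearMap.ker π) (LinearMap.exact_subtype_ker_map π) hπ x).mp hx
  obtain ⟨m, v, c, rfl⟩ := TensorProduct.exists_sum_tmul_eq w
  refine ⟨Finset.univ.image fun j => (v j : Fin n → R), le_antisymm ?_ fun k hk => ?_⟩
  · rw [Submodule.span_le]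
    intro y hy
    obtain ⟨j, -, rfl⟩ := Finset.mem_image.mp hy
    exact (v j).2
  · let k' : K := ⟨k, hk⟩
    have h2 := congrArg ((TensorProduct.rid R (Fin n → R)).toLinearMap ∘ₗ
      (LinearMap.proj (R := R) (φ := fun _ : K => R) k').lTensor (Fin n → R)) hw
    have h3 : k = ∑ j, c j k' • (v j : Fin n → R) := by
      conv_lhs => rw [pi_eq_sum_univ' k]
      simpa [x, k', map_sum] using h2.symm
    rw [h3]
    exact Submodule.sum_mem _ fun j _ => Submodule.smul_mem _ _
      (Submodule.subset_span (by simp))

end Groth.Agent.S0588
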