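import Groth.Statements.S0592
import Groth.Agent.Lead.Lim.Separated
-- import your own Groth.Agent.* helpers here

set_option autoImplicit false
universe u
open CategoryTheory AlgebraicGeometry
open Lim

namespace Groth.Agent.S0592

/-- Let `S` be the limit of a cofiltered system of quasi-compact quasi-separated schemes with affine
transition morphisms. If `S` is separated, then there is an index `i₀` such that every stage mapping
to `i₀` is separated. -/
theorem result {I : Type u} [SmallCategory I] [IsCofiltered I]
    (D : I ⥤ Scheme.{u}) (c : Limits.Cone D) (hc : Limits.IsLimit c)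
    [∀ (i j : I) (f : i ⟶ j), IsAffineHom (D.map f)] [∀ i, CompactSpace (D.obj i)]
    [∀ i, QuasiSeparatedSpace (D.obj i)]
    [IsSeparated (Limits.IsTerminal.from specULiftZIsTerminal c.pt)] :
    ∃ i₀ : I, ∀ (i : I) (_ : i ⟶ i₀),
      IsSeparated (Limits.IsTerminal.from specULiftZIsTerminal (D.obj i)) := by
  have h1 : ∀ X : Scheme.{u}, IsSeparated (Limits.IsTerminal.from specULiftZIsTerminal X) → X.IsSeparated := fun X h => by
    refine ⟨?_⟩
    rw [show Limits.terminal.from X = Limits.IsTerminal.from specULiftZIsTerminal X ≫ Limits.terminal.from _ from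
      Limits.terminal.hom_ext _ _]
    infer_instance
  haveI : ∀ {i j : I} (f : i ⟶ j), IsAffineHom (D.map f) := fun f => ‹∀ (i j : I) (f : i ⟶ j), IsAffineHom (D.map f)› _ _ f
  haveI := h1 c.pt ‹_›
  obtain ⟨i₀, hi₀⟩ := Groth.Agent.Lead.Lim.exists_isSeparated D c hc
  refine ⟨i₀, fun i f => ?_⟩
  rw [show Limits.IsTerminal.from specULiftZIsTerminal (D.obj i) =
    D.map f ≫ Limits.IsTerminal.from specULiftZIsTerminal (D.obj i₀) from specULiftZIsTerminal.hom_ext _ _]
  infer_instance

end Groth.Agent.S0592
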