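import Groth.Statements.S0608
import Mathlib
import Groth.Agent.RegSeq.Rees

set_option autoImplicit false
universe u
open RRAlg

namespace Groth.Agent.S0608

/-- Let a_1, …, a_n be a weakly regular sequence in a commutative ring A (each a_i is a non-zero-divisor
modulo (a_1, …, a_(i−1)); the a_i are allowed to generate the unit ideal). Then the kernel of the
A-algebra map A[X_1, …, X_n] → A[T] sending X_i to a_i·T, whose image is the Rees algebra of the
ideal (a_1, …, a_n), is the ideal generated by the elements a_i X_j − a_j X_i. (The published
statement assumes a regular sequence; only weak regularity is assumed here.) -/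
theorem result {A : Type u} [CommRing A] {n : ℕ} (a : Fin n → A)
    (ha : RingTheory.Sequence.IsWeaklyRegular A (List.ofFn a)) :
    RingHom.ker (MvPolynomial.aeval (R := A)
      (fun i : Fin n => Polynomial.C (a i) * (Polynomial.X : Polynomial A))) =
      Ideal.span {q : MvPolynomial (Fin n) A | ∃ i j : Fin n,
        q = MvPolynomial.C (a i) * MvPolynomial.X j - MvPolynomial.C (a j) * MvPolynomial.X i} := by
  refine le_antisymm ?_ (Ideal.span_le.mpr ?_)
  · intro f hf
    rw [RingHom.mem_ker] at hf
    have key : ∀ (k : ℕ) (φ : MvPolynomial (Fin n) A), φ.IsHomogeneous k →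
        MvPolynomial.aeval (fun i : Fin n => Polynomial.C (a i) * (Polynomial.X : Polynomial A)) φ =
          Polynomial.C (MvPolynomial.eval a φ) * Polynomial.X ^ k := by
      intro k φ hφ
      rw [φ.as_sum, map_sum, map_sum, map_sum, Finset.sum_mul]
      refine Finset.sum_congr rfl fun m hm => ?_
      have hm' : m.degree = k :=
        by_contra fun h => MvPolynomial.mem_support_iff.mp hm (hφ.coeff_eq_zero h)
      rw [MvPolynomial.aeval_monomial, MvPolynomial.eval_monomial, map_mul, mul_assoc]
      congr 1
      rw [← hm', map_finsuppProd]
      simp only [Finsupp.prod, mul_pow, Finset.prod_mul_distrib, Finsupp.degree_apply,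
        Finset.prod_pow_eq_pow_sum, map_pow]
    rw [← MvPolynomial.sum_homogeneousComponent f] at hf ⊢
    refine Ideal.sum_mem _ fun k hk => Groth.Agent.RegSeq.Rees.mem_K a ha k _
      (MvPolynomial.homogeneousComponent_isHomogeneous k f) ?_
    rw [map_sum] at hf
    have h := congrArg (Polynomial.coeff · k) hf
    simp only [Polynomial.finsetSum_coeff, Polynomial.coeff_zero] at h
    rw [Finset.sum_eq_single k] at h
    · rw [key k _ (MvPolynomial.homogeneousComponent_isHomogeneous k f), Polynomial.coeff_C_mul_X_pow,
        if_pos rfl] at h
      exact h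
    · intro j _ hjk
      rw [key j _ (MvPolynomial.homogeneousComponent_isHomogeneous j f), Polynomial.coeff_C_mul_X_pow,
        if_neg (Ne.symm hjk)]
    · exact fun h' => absurd hk h'
  · rintro _ ⟨i, j, rfl⟩
    simp only [SetLike.mem_coe, RingHom.mem_ker, map_sub, map_mul, MvPolynomial.aeval_C,
      MvPolynomial.aeval_X, Polynomial.algebraMap_eq]
    ring

end Groth.Agent.S0608
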