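import Groth.Statements.S0611
import Groth.Agent.RegSeq.SameSpan
import Groth.Agent.RegSeq.Cotangent

set_option autoImplicit false
universe u
open RRAlg

namespace Groth.Agent.S0611

/-- In a Noetherian local ring, any minimal generating set of an ideal generated by a regular sequence
is again a regular sequence: if a₁, …, aₙ is a regular sequence and b₁, …, bₙ are n elements
generating the same ideal, then b₁, …, bₙ is a regular sequence. (A regular sequence of length n
generating an ideal I is a minimal generating set of I, so "minimal" amounts to "of length n".) -/
theorem result {A : Type u} [CommRing A] [IsLocalRing A] [IsNoetherianRing A]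
    {n : ℕ} (a b : Fin n → A) (ha : RingTheory.Sequence.IsRegular A (List.ofFn a))
    (hab : Ideal.span (Set.range a) = Ideal.span (Set.range b)) :
    RingTheory.Sequence.IsRegular A (List.ofFn b) := by
  refine (RegSeq.SameSpan.main n (List.ofFn a) (List.ofFn b) (by simp) (by simp) ha ?_).2
  rw [RegSeq.Cotangent.ofList_ofFn, RegSeq.Cotangent.ofList_ofFn, hab]

end Groth.Agent.S0611
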