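import Groth.Statements.S0615
import Mathlib
import Groth.Agent.RegSeq.Rees

set_option autoImplicit false
universe u
open RRAlg

namespace Groth.Agent.S0615

/-- Let A be a commutative ring and a_0, a_1, …, a_n a weakly regular sequence in A (for each i, a_i is
a non-zero-divisor on A/(a_0, …, a_{i−1}); the sequence is indexed here by Fin (n+1)). Then the
kernel of the A-algebra homomorphism A[T_1, …, T_n] → A[1/a_0] sending T_i to a_i/a_0 is the ideal
generated by the elements a_0 T_i − a_i for 1 ≤ i ≤ n (a presentation of the affine blow-up algebra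
A[a_1/a_0, …, a_n/a_0]). -/
theorem result {A : Type u} [CommRing A] {n : ℕ}
    (a : Fin (n + 1) → A) (ha : RingTheory.Sequence.IsWeaklyRegular A (List.ofFn a)) :
    RingHom.ker (MvPolynomial.aeval (R := A) (S₁ := Localization.Away (a 0))
      (fun i : Fin n => IsLocalization.mk' (Localization.Away (a 0)) (a i.succ)
        (⟨a 0, Submonoid.mem_powers (a 0)⟩ : Submonoid.powers (a 0)))) =
      Ideal.span (Set.range fun i : Fin n =>
        MvPolynomial.C (a 0) * MvPolynomial.X i - MvPolynomial.C (a i.succ)) := by
  set L := Localization.Away (a 0)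
  set v : Fin n → L := fun i => IsLocalization.mk' L (a i.succ)
    (⟨a 0, Submonoid.mem_powers (a 0)⟩ : Submonoid.powers (a 0)) with hv
  have hv' : ∀ i, algebraMap A L (a 0) * v i = algebraMap A L (a i.succ) := fun i =>
    IsLocalization.mk'_spec' L (a i.succ) (⟨a 0, Submonoid.mem_powers (a 0)⟩ : Submonoid.powers (a 0))
  refine le_antisymm ?_ (Ideal.span_le.mpr ?_)
  · intro f hf
    rw [RingHom.mem_ker] at hf
    set D := f.totalDegree with hD
    set F : MvPolynomial (Fin (n + 1)) A := ∑ k ∈ Finset.range (D + 1),
      MvPolynomial.X 0 ^ (D - k) * MvPolynomial.rename Fin.succ (f.homogeneousComponent k) with hF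
    have hFhom : F.IsHomogeneous D := MvPolynomial.IsHomogeneous.sum _ _ _ fun k hk => by
      have hk' : k ≤ D := Nat.lt_succ_iff.mp (Finset.mem_range.mp hk)
      have h := ((MvPolynomial.isHomogeneous_X A (0 : Fin (n + 1))).pow (D - k)).mul
        ((MvPolynomial.homogeneousComponent_isHomogeneous k f).rename_isHomogeneous (f := Fin.succ))
      rwa [one_mul, Nat.sub_add_cancel hk'] at h
    have scale : ∀ (k : ℕ) (φ : MvPolynomial (Fin n) A), φ.IsHomogeneous k →
        algebraMap A L (MvPolynomial.eval (fun i => a i.succ) φ) =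
          algebraMap A L (a 0) ^ k * MvPolynomial.aeval v φ := by
      intro k φ hφ
      rw [φ.as_sum, map_sum, map_sum, map_sum, Finset.mul_sum]
      refine Finset.sum_congr rfl fun m hm => ?_
      have hm' : m.degree = k :=
        by_contra fun h => MvPolynomial.mem_support_iff.mp hm (hφ.coeff_eq_zero h)
      rw [MvPolynomial.aeval_monomial, MvPolynomial.eval_monomial, map_mul, mul_left_comm]
      congr 1
      rw [← hm', map_finsuppProd]
      simp only [Finsupp.prod, map_pow, ← hv', mul_pow, Finset.prod_mul_distrib, Finsupp.degree_apply,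
        Finset.prod_pow_eq_pow_sum]
    have hF0 : algebraMap A L (MvPolynomial.eval a F) = 0 := by
      simp only [hF, map_sum, map_mul, map_pow, MvPolynomial.eval_X, MvPolynomial.eval_rename]
      rw [Finset.sum_congr rfl fun k hk => by
        rw [show (a ∘ Fin.succ) = (fun i => a i.succ) from rfl,
          scale k _ (MvPolynomial.homogeneousComponent_isHomogeneous k f), ← mul_assoc, ← pow_add,
          Nat.sub_add_cancel (Nat.lt_succ_iff.mp (Finset.mem_range.mp hk))]]
      rw [← Finset.mul_sum, ← map_sum, MvPolynomial.sum_homogeneousComponent, hf, mul_zero]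
    have ha0 : IsSMulRegular A (a 0) := by
      rw [List.ofFn_succ, RingTheory.Sequence.isWeaklyRegular_cons_iff] at ha
      exact ha.1
    obtain ⟨⟨c, N, rfl⟩, hc⟩ := (IsLocalization.map_eq_zero_iff (Submonoid.powers (a 0)) L _).mp hF0
    have hK := Groth.Agent.RegSeq.Rees.mem_K a ha D F hFhom ((ha0.pow N) (show (a 0 ^ N) • (MvPolynomial.eval a) F = (a 0 ^ N) • 0 by rw [smul_zero, smul_eq_mul]; exact hc))
    set dh : MvPolynomial (Fin (n + 1)) A →ₐ[A] MvPolynomial (Fin n) A :=
      MvPolynomial.aeval (Fin.cons 1 MvPolynomial.X) with hdh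
    have hFf : dh F = f := by
      conv_rhs => rw [← MvPolynomial.sum_homogeneousComponent f]
      simp only [hF, map_sum, map_mul, map_pow, hdh, MvPolynomial.aeval_X, Fin.cons_zero, one_pow,
        one_mul, MvPolynomial.aeval_rename]
      refine Finset.sum_congr rfl fun k _ => ?_
      rw [show (Fin.cons (1 : MvPolynomial (Fin n) A) MvPolynomial.X ∘ Fin.succ) = MvPolynomial.X from
        funext fun i => Fin.cons_succ _ _ i, MvPolynomial.aeval_X_left_apply]
    rw [← hFf]
    refine (Ideal.span_le (I := Ideal.comap dh.toRingHom (Ideal.span (Set.range fun i : Fin n =>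
      MvPolynomial.C (a 0) * MvPolynomial.X i - MvPolynomial.C (a i.succ))))).mpr ?_ hK
    have hgen : ∀ i : Fin n, MvPolynomial.C (a 0) * MvPolynomial.X i - MvPolynomial.C (a i.succ) ∈
        Ideal.span (Set.range fun i : Fin n =>
          MvPolynomial.C (a 0) * MvPolynomial.X i - MvPolynomial.C (a i.succ)) :=
      fun i => Ideal.subset_span ⟨i, rfl⟩
    rintro _ ⟨i, j, rfl⟩
    simp only [SetLike.mem_coe, Ideal.mem_comap, AlgHom.toRingHom_eq_coe, RingHom.coe_coe, map_sub,
      map_mul, hdh, MvPolynomial.aeval_C, MvPolynomial.aeval_X, MvPolynomial.algebraMap_eq]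
    induction i using Fin.cases with
    | zero =>
      induction j using Fin.cases with
      | zero => simp
      | succ j =>
        simp only [Fin.cons_zero, Fin.cons_succ, mul_one]
        exact hgen j
    | succ i =>
      induction j using Fin.cases with
      | zero =>
        simp only [Fin.cons_zero, Fin.cons_succ, mul_one]
        rw [← neg_sub]
        exact neg_mem (hgen i)
      | succ j =>
        simp only [Fin.cons_succ]
        rw [show MvPolynomial.C (a i.succ) * MvPolynomial.X j - MvPolynomial.C (a j.succ) * MvPolynomial.X i =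
          MvPolynomial.X i * (MvPolynomial.C (a 0) * MvPolynomial.X j - MvPolynomial.C (a j.succ)) -
          MvPolynomial.X j * (MvPolynomial.C (a 0) * MvPolynomial.X i - MvPolynomial.C (a i.succ)) by ring]
        exact sub_mem (Ideal.mul_mem_left _ _ (hgen j)) (Ideal.mul_mem_left _ _ (hgen i))
  · rintro _ ⟨i, rfl⟩
    simp only [SetLike.mem_coe, RingHom.mem_ker, map_sub, map_mul, MvPolynomial.aeval_C,
      MvPolynomial.aeval_X]
    exact sub_eq_zero.mpr (hv' i)

end Groth.Agent.S0615
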