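import Groth.Statements.S0643
import Mathlib.Tactic.LinearCombination
-- import your own Groth.Agent.* helpers here

set_option autoImplicit false
universe u
open EtCore

namespace Groth.Agent.S0643

open Polynomial in
/-- Let A be a ring, assumed nonzero here (the published statement does not say so; over the zero ring
no polynomial has positive degree in Lean's sense), and a, b elements generating the unit ideal such
that some positive power of a is congruent to 1 modulo b. Then there is a monic polynomial P of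
positive degree over A such that in B = A[y]/(P) the element a - b y is a unit. -/
theorem result (A : Type u) [CommRing A] [Nontrivial A] (a b : A) (hab : IsCoprime a b)
    (hroot : ∃ n : ℕ, 0 < n ∧ a ^ n - 1 ∈ Ideal.span ({b} : Set A)) :
    ∃ P : A[X], P.Monic ∧ 0 < P.natDegree ∧
      IsUnit (algebraMap A (AdjoinRoot P) a - algebraMap A (AdjoinRoot P) b * AdjoinRoot.root P) := by
  obtain ⟨n, hn, hb⟩ := hroot
  obtain ⟨c, hc⟩ := Ideal.mem_span_singleton.1 hb
  obtain ⟨s, t, hst⟩ := hab
  set p : ℕ → A := fun i => -(c * (s ^ i * t ^ (n - 1 - i) * ((n - 1).choose i : A))) with hp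
  have hsum : a ^ n + ∑ i ∈ Finset.range n, p i * (a ^ i * b ^ (n - i)) = 1 := by
    have h1 : (1 : A) = ∑ i ∈ Finset.range n,
        (s * a) ^ i * (t * b) ^ (n - 1 - i) * ((n - 1).choose i : A) := by
      rw [show n = (n - 1) + 1 by omega]
      simp only [Nat.add_sub_cancel]
      rw [← add_pow, hst, one_pow]
    have h2 : ∑ i ∈ Finset.range n, p i * (a ^ i * b ^ (n - i)) = -(c * b) := by
      have : -(c * b) = -(c * b) * ∑ i ∈ Finset.range n,
          (s * a) ^ i * (t * b) ^ (n - 1 - i) * ((n - 1).choose i : A) := by rw [← h1, mul_one]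
      rw [this, Finset.mul_sum]
      refine Finset.sum_congr rfl fun i hi => ?_
      rw [Finset.mem_range] at hi
      rw [show n - i = (n - 1 - i) + 1 by omega, pow_succ]
      simp only [hp, mul_pow]; ring
    rw [h2]; linear_combination hc
  set P : A[X] := X ^ n + ∑ i ∈ Finset.range n, C (p i) * X ^ i with hP
  have hdeg : (∑ i ∈ Finset.range n, C (p i) * X ^ i).degree < (n : WithBot ℕ) := by
    rw [degree_lt_iff_coeff_zero]
    intro k hk
    rw [finsetSum_coeff]
    refine Finset.sum_eq_zero fun i hi => ?_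
    rw [coeff_C_mul_X_pow, if_neg]
    rw [Finset.mem_range] at hi
    omega
  have hmon : P.Monic := monic_X_pow_add hdeg
  have hnd : P.natDegree = n := by
    apply natDegree_eq_of_degree_eq_some
    rw [hP, degree_add_eq_left_of_degree_lt (by simpa using hdeg), degree_X_pow]
  refine ⟨P, hmon, hnd ▸ hn, ?_⟩
  set y := AdjoinRoot.root P
  set φ := algebraMap A (AdjoinRoot P) with hφ
  have hy : y ^ n + ∑ i ∈ Finset.range n, φ (p i) * y ^ i = 0 := by
    have := AdjoinRoot.eval₂_root P
    simpa [hP, eval₂_finsetSum, hφ, AdjoinRoot.algebraMap_eq] using this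
  apply isUnit_of_dvd_one
  have hd : ∀ i, φ a - φ b * y ∣ φ a ^ i - (φ b * y) ^ i := fun i => sub_dvd_pow_sub_pow _ _ i
  have h1 : (1 : AdjoinRoot P) =
      (φ a ^ n - (φ b * y) ^ n) +
      ∑ i ∈ Finset.range n, φ (p i) * φ b ^ (n - i) * (φ a ^ i - (φ b * y) ^ i) := by
    have e1 : (1 : AdjoinRoot P) = φ a ^ n + ∑ i ∈ Finset.range n, φ (p i) * (φ a ^ i * φ b ^ (n - i)) := by
      rw [← map_one φ, ← hsum]; simp only [map_add, map_sum, map_mul, map_pow]
    have e2 : ∑ i ∈ Finset.range n, φ (p i) * φ b ^ (n - i) * (φ b * y) ^ i =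
        φ b ^ n * ∑ i ∈ Finset.range n, φ (p i) * y ^ i := by
      rw [Finset.mul_sum]
      refine Finset.sum_congr rfl fun i hi => ?_
      rw [Finset.mem_range] at hi
      rw [show φ b ^ n = φ b ^ (n - i) * φ b ^ i by rw [← pow_add]; congr 1; omega, mul_pow]; ring
    have e3 : ∑ i ∈ Finset.range n, φ (p i) * φ b ^ (n - i) * φ a ^ i =
        ∑ i ∈ Finset.range n, φ (p i) * (φ a ^ i * φ b ^ (n - i)) :=
      Finset.sum_congr rfl fun i _ => by ring
    simp only [mul_sub, Finset.sum_sub_distrib]
    rw [e2, e3, mul_pow]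
    linear_combination e1 + φ b ^ n * hy
  rw [h1]
  exact dvd_add (hd n) (Finset.dvd_sum fun i _ => (hd i).mul_left _)

end Groth.Agent.S0643
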