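import Groth.Statements.S0647
import Groth.Agent.ExtZero9.LanFib
-- import your own Groth.Agent.* helpers here

set_option autoImplicit false
open CategoryTheory CategoryTheory.Limits AlgebraicGeometry Opposite
universe u
open EtCore

namespace Groth.Agent.S0647

/-- Stalks of the extension by zero: let j : U → X be an étale morphism of schemes, F an abelian sheaf
on the small étale site of U and ξ : Spec Ω → X a geometric point (Ω separably closed). Then the
stalk of the extension by zero j_!F at ξ is isomorphic to the direct sum, over the geometric points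
u : Spec Ω → U with j ∘ u = ξ, of the stalks F_u. Only the existence of an isomorphism is asserted
(the identification is in fact canonical). (Continuity of the composition functor of étale sites
along j is carried as an instance binder.) -/
theorem result {U X : Scheme.{u}} (j : U ⟶ X) [AlgebraicGeometry.Etale j] [EtShriek.JCont j]
    (F : EtCoh.Ab U) {Ω : Type u} [Field Ω] [IsSepClosed Ω] (ξ : Spec (CommRingCat.of Ω) ⟶ X) :
    Nonempty ((EtCoh.stalk ξ).obj ((EtShriek.extZero j).obj F) ≅
      ∐ fun u : {u : Spec (CommRingCat.of Ω) ⟶ U // u ≫ j = ξ} => (EtCoh.stalk u.1).obj F) := by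
  let G := EtShriek.compEtale j
  let p := Scheme.pointSmallEtale ξ
  let q : {u : Spec (CommRingCat.of Ω) ⟶ U // u ≫ j = ξ} → U.smallEtaleTopology.Point :=
    fun u => Scheme.pointSmallEtale u.1
  let e : ∀ W : U.Etale, (Σ u, (q u).fiber.obj W) ≃ p.fiber.obj (G.obj W) := fun W =>
    { toFun := fun s => Over.homMk s.2.left (by
        show s.2.left ≫ W.hom ≫ j = ξ
        exact (Category.assoc _ _ _).symm.trans ((congrArg (· ≫ j) (Over.w s.2)).trans s.1.2))
      invFun := fun t => ⟨⟨t.left ≫ W.hom, (Category.assoc _ _ _).trans (Over.w t)⟩, Over.homMk t.left rfl⟩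
      left_inv := fun ⟨⟨u, hu⟩, z⟩ => by
        have key : ∀ (u' : Spec (CommRingCat.of Ω) ⟶ U) (_ : u' = u) (hu' : u' ≫ j = ξ)
            (z' : (q ⟨u', hu'⟩).fiber.obj W), z'.left = z.left →
            (⟨⟨u', hu'⟩, z'⟩ : Σ u, (q u).fiber.obj W) = ⟨⟨u, hu⟩, z⟩ := by
          rintro _ rfl hu' z' hz
          obtain rfl : z' = z := Over.OverMorphism.ext hz
          rfl
        exact key _ (Over.w z) _ _ rfl
      right_inv := fun t => rfl }
  let L := Functor.sheafPullbackConstruction.sheafPullback G AddCommGrpCat.{u + 1} U.smallEtaleTopology X.smallEtaleTopology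
  let η := CategoryTheory.toSheafify X.smallEtaleTopology (G.op.leftKanExtension F.obj)
  haveI : Limits.PreservesFilteredColimitsOfSize.{u, u} (forget AddCommGrpCat.{u + 1}) :=
    Limits.preservesFilteredColimitsOfSize_shrink.{u, u + 1, u, u + 1} _
  haveI := p.W_isInvertedBy_presheafFiber' η (X.smallEtaleTopology.W_toSheafify _)
  exact ⟨(EtCoh.stalk ξ).mapIso ((Functor.sheafPullbackConstruction.sheafPullbackIso G AddCommGrpCat.{u + 1}
      U.smallEtaleTopology X.smallEtaleTopology).app F) ≪≫
    (asIso (p.presheafFiber.map η)).symm ≪≫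
    ExtZero9.lanFibIso G p q e (fun _ _ g i z => Over.OverMorphism.ext rfl) F.obj⟩

end Groth.Agent.S0647
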