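import Groth.Statements.S0649
-- import your own Groth.Agent.* helpers here

set_option autoImplicit false
open CategoryTheory CategoryTheory.Limits AlgebraicGeometry Opposite
universe u
open EtCore

namespace Groth.Agent.S0649

/-- Extension by zero commutes with pullback, for abelian sheaves. Let f : Y → X be a morphism of
schemes and j : V → X étale, and let V' = Y ×_X V with projections j' : V' → Y and f' : V' → V. Then
the functors j'_! ∘ f'^(-1) and f^(-1) ∘ j_! from abelian sheaves on V_ét to abelian sheaves on Y_ét
are isomorphic. Only the existence of an isomorphism of functors is asserted; the published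
statement gives the canonical one. (Continuity of the composition functor of étale sites, which
always holds, is carried as an instance hypothesis.) -/
theorem result {V' V Y X : Scheme.{u}} (j : V ⟶ X) [AlgebraicGeometry.Etale j] [EtShriek.JCont j]
    (f : Y ⟶ X) (j' : V' ⟶ Y) [AlgebraicGeometry.Etale j'] [EtShriek.JCont j'] (f' : V' ⟶ V)
    (h : IsPullback j' f' f j) :
    Nonempty (EtCoh.pull f' ⋙ EtShriek.extZero j' ≅ EtShriek.extZero j ⋙ EtCoh.pull f) := by
  let A := AddCommGrpCat.{u + 1}
  let α : EtCoh.bc f' ⋙ EtShriek.compEtale j' ≅ EtShriek.compEtale j ⋙ EtCoh.bc f :=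
    NatIso.ofComponents (fun W =>
      have hp := (IsPullback.of_hasPullback W.hom f').paste_vert h.flip
      MorphismProperty.Over.isoMk hp.isoPullback hp.isoPullback_hom_snd)
      (fun {W W'} g => by
        have hp := (IsPullback.of_hasPullback W.hom f').paste_vert h.flip
        have hp' := (IsPullback.of_hasPullback W'.hom f').paste_vert h.flip
        apply MorphismProperty.Over.Hom.ext
        show ((EtCoh.bc f').map g).left ≫ hp'.isoPullback.hom =
          hp.isoPullback.hom ≫ ((EtCoh.bc f).map ((EtShriek.compEtale j).map g)).left
        apply Limits.pullback.hom_ext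
        · refine (Category.assoc _ _ _).trans ?_
          refine (congrArg (_ ≫ ·) hp'.isoPullback_hom_fst).trans ?_
          refine (Limits.pullback.lift_fst _ _ _).trans ?_
          refine Eq.trans ?_ (Category.assoc _ _ _).symm
          refine Eq.trans ?_ (congrArg (_ ≫ ·) (Limits.pullback.lift_fst _ _ _).symm)
          exact (hp.isoPullback_hom_fst_assoc _).symm
        · refine (Category.assoc _ _ _).trans ?_
          refine (congrArg (_ ≫ ·) hp'.isoPullback_hom_snd).trans ?_
          refine (Category.assoc _ _ _).symm.trans ?_
          refine (congrArg (· ≫ j') (Limits.pullback.lift_snd _ _ _)).trans ?_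
          refine Eq.trans ?_ (Category.assoc _ _ _).symm
          refine Eq.trans ?_ (congrArg (_ ≫ ·) (Limits.pullback.lift_snd _ _ _).symm)
          exact hp.isoPullback_hom_snd.symm)
  let R : EtShriek.restrAlong j' ⋙ EtCoh.push f' ≅ EtCoh.push f ⋙ EtShriek.restrAlong j :=
    NatIso.ofComponents (fun G => (fullyFaithfulSheafToPresheaf _ _).preimageIso
        (Functor.isoWhiskerRight (NatIso.op α.symm) G.obj))
      (fun {G G'} φ => by
        apply (sheafToPresheaf _ _).map_injective
        ext1; ext1 W
        simp only [Functor.map_comp, NatTrans.comp_app, Functor.FullyFaithful.preimageIso_hom, Functor.FullyFaithful.map_preimage]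
        exact (φ.hom.naturality (α.inv.app W.unop).op).symm)
  exact ⟨((EtCoh.pullPushAdj f').comp (EtShriek.extZeroAdj j')).leftAdjointUniq
    (((EtShriek.extZeroAdj j).comp (EtCoh.pullPushAdj f)).ofNatIsoRight R.symm)⟩

end Groth.Agent.S0649
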