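import Groth.Statements.S0706
import Mathlib

set_option autoImplicit false
open CategoryTheory CategoryTheory.Limits AlgebraicGeometry Opposite Topology
universe u
open ProEtW

namespace Groth.Agent.S0706

/-- Let f be an element and I an ideal of A, and Z the intersection of D(f) and V(I) in Spec A. There is
a multiplicative subset S of A for which the image of Spec(S^{-1}A) in Spec A consists precisely of
the points having a specialization in Z. -/
theorem result (A : Type u) [CommRing A] (f : A) (I : Ideal A) :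
    ∃ S : Submonoid A,
      Set.range (PrimeSpectrum.comap (algebraMap A (Localization S))) =
        {x | ∃ z : PrimeSpectrum A,
          z ∈ (PrimeSpectrum.basicOpen f : Set (PrimeSpectrum A)) ∩ PrimeSpectrum.zeroLocus I ∧ x ⤳ z} := by
  let q := Ideal.Quotient.mk I
  let L := Localization.Away (q f)
  let φ : A →+* L := (algebraMap (A ⧸ I) L).comp q
  let S : Submonoid A := (IsUnit.submonoid L).comap φ.toMonoidHom
  have hfS : IsUnit (φ f) := IsLocalization.Away.algebraMap_isUnit (q f)
  refine ⟨S, ?_⟩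
  rw [PrimeSpectrum.localization_comap_range (Localization S) S]
  ext x
  simp only [Set.mem_setOf_eq, Set.mem_inter_iff, SetLike.mem_coe, PrimeSpectrum.mem_basicOpen, PrimeSpectrum.mem_zeroLocus]
  constructor
  · intro hdis
    have hne : x.asIdeal.map φ ≠ ⊤ := by
      intro htop
      have h1 : (1 : L) ∈ (x.asIdeal.map q).map (algebraMap (A ⧸ I) L) := by
        rw [Ideal.map_map]; show (1 : L) ∈ x.asIdeal.map φ; rw [htop]; trivial
      obtain ⟨⟨⟨a, ha⟩, s⟩, hs⟩ := (IsLocalization.mem_map_algebraMap_iff (Submonoid.powers (q f)) L).mp h1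
      obtain ⟨y, hy, rfl⟩ := (Ideal.mem_map_iff_of_surjective q Ideal.Quotient.mk_surjective).mp ha
      rw [one_mul] at hs
      refine Set.disjoint_left.mp hdis (show y ∈ S from ?_) hy
      show IsUnit (φ y)
      simp only [φ, RingHom.comp_apply]
      rw [← hs]
      exact IsLocalization.map_units L s
    obtain ⟨m, hm, hle⟩ := Ideal.exists_le_maximal _ hne
    refine ⟨⟨m.comap φ, Ideal.IsPrime.comap φ⟩, ⟨?_, ?_⟩, ?_⟩
    · intro hf'
      exact hm.ne_top (Ideal.eq_top_of_isUnit_mem _ hf' hfS)
    · intro a ha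
      have h0 : φ a = 0 := by simp [φ, q, Ideal.Quotient.eq_zero_iff_mem.mpr ha]
      show φ a ∈ m
      rw [h0]; exact m.zero_mem
    · rw [← PrimeSpectrum.le_iff_specializes]
      exact fun a ha => hle (Ideal.mem_map_of_mem φ ha)
  · rintro ⟨z, ⟨hfz, hIz⟩, hxz⟩
    rw [← PrimeSpectrum.le_iff_specializes] at hxz
    refine Set.disjoint_left.mpr fun a ha hax => ?_
    obtain ⟨c, hc⟩ := IsUnit.exists_right_inv (show IsUnit (φ a) from ha)
    obtain ⟨⟨c0, ⟨_, k, rfl⟩⟩, hc0⟩ := IsLocalization.surj (Submonoid.powers (q f)) c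
    obtain ⟨c1, rfl⟩ := Ideal.Quotient.mk_surjective c0
    have h2 : algebraMap (A ⧸ I) L (q (a * c1)) = algebraMap (A ⧸ I) L (q (f ^ k)) := by
      rw [map_mul, map_mul, ← hc0, ← mul_assoc]
      show φ a * c * _ = _
      rw [hc, one_mul, map_pow, map_pow, map_pow]
    obtain ⟨⟨_, j, rfl⟩, hj⟩ := (IsLocalization.eq_iff_exists (Submonoid.powers (q f)) L).mp h2
    simp only [← map_pow, ← map_mul, q, Ideal.Quotient.eq] at hj
    have h3 : f ^ j * (a * c1) ∈ z.asIdeal := Ideal.mul_mem_left _ _ (Ideal.mul_mem_right _ _ (hxz hax))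
    have h4 := z.asIdeal.sub_mem h3 (hIz hj)
    simp only [sub_sub_cancel, ← pow_add] at h4
    exact hfz (z.isPrime.mem_of_pow_mem _ h4)

end Groth.Agent.S0706
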