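import Groth.Statements.S0733
import Mathlib.Algebra.Category.Ring.Under.Basic
import Mathlib.Algebra.Category.Ring.Colimits
import Mathlib.Algebra.Category.Ring.Constructions
import Mathlib.CategoryTheory.Comma.Over.Pullback
import Mathlib.RingTheory.Etale.Basic

set_option autoImplicit false
open CategoryTheory CategoryTheory.Limits AlgebraicGeometry Opposite Topology
universe u
open scoped TensorProduct
open ProEtW

namespace Groth.Agent.S0733

/-- If A -> B is ind-etale (a filtered colimit of etale A-algebras) and A -> A' is any ring map, then A'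
-> A' (x)_A B is ind-etale. -/
theorem result (A B A' : Type u) [CommRing A] [CommRing B] [CommRing A']
    [Algebra A B] [Algebra A A'] (h : EtPBC.IsIndEtale A B) :
    EtPBC.IsIndEtale A' (A' ⊗[A] B) := by
  obtain ⟨J, i1, i2, D, c, hc, het, ⟨e⟩⟩ := h
  let R := CommRingCat.of A
  let S := CommRingCat.of A'
  let F : Under R ⥤ Under S := CommRingCat.tensorProd R S
  haveI : F.IsLeftAdjoint := by
    haveI := (Under.mapPushoutAdj (CommRingCat.ofHom (algebraMap R S))).isLeftAdjoint
    exact Functor.isLeftAdjoint_of_iso (CommRingCat.tensorProdIsoPushout R S).symm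
  haveI : PreservesColimitsOfShape J F := inferInstance
  let U : Under R := Under.mk (CommRingCat.ofHom (algebraMap A B))
  letI : Algebra A U.right := U.hom.hom.toAlgebra
  let e0 : U.right ≃ₐ[A] B := { RingEquiv.refl B with commutes' := fun a => rfl }
  let e1 : (A' ⊗[A] U.right) ≃ₐ[A'] A' ⊗[A] B := Algebra.TensorProduct.congr (AlgEquiv.refl (R := A') (A₁ := A')) e0
  refine ⟨J, i1, i2, D ⋙ F, F.mapCocone c, isColimitOfPreserves F hc, fun j => ?_, ⟨F.mapIso e ≪≫ e1.toUnder⟩⟩
  letI := (D.obj j).hom.hom.toAlgebra
  haveI : Algebra.Etale A (D.obj j).right := het j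
  letI : Algebra A' ((D ⋙ F).obj j).right := ((D ⋙ F).obj j).hom.hom.toAlgebra
  exact Algebra.Etale.of_equiv (A := A' ⊗[A] (D.obj j).right)
    { RingEquiv.refl _ with commutes' := fun a => rfl }

end Groth.Agent.S0733
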