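import Groth.Statements.S0754
import Groth.Agent.HensPoint.StrictProps
import Groth.Agent.HensPoint.WeaklyEtale
import Groth.Agent.Locus.BaseChange
import Mathlib.AlgebraicGeometry.Morphisms.WeaklyEtale

set_option autoImplicit false
open CategoryTheory CategoryTheory.Limits AlgebraicGeometry Opposite
universe u
open ProEtS

namespace Groth.Agent.S0754

/-- For a point x of a scheme X and a strict henselization R of the local ring of X at x, the canonical
morphism Spec R -> X is weakly etale, so that Spec R is an object of the small pro-etale site of X. -/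
theorem result (X : Scheme.{u}) (x : ↥X) (R : Type u) [CommRing R]
    [IsLocalRing R] [Algebra (X.presheaf.stalk x) R] [IsLocalHom (algebraMap (X.presheaf.stalk x) R)]
    [Hensel.IsStrictHenselization (X.presheaf.stalk x) R] :
    WeaklyEtale (Hens2.specOf X x R) := by
  let O : Type u := X.presheaf.stalk x
  have hwe : Algebra.WeaklyEtale O R :=
    HensPoint.WeaklyEtale.weaklyEtale (HensPoint.StrictProps.strict (R := O) (S := R))
  let a := Spec.map (CommRingCat.ofHom (algebraMap O R))
  have h1 : WeaklyEtale a := by
    refine ⟨(HasRingHomProperty.Spec_iff (P := @Flat)).mpr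
      (RingHom.flat_algebraMap_iff.mpr hwe.flat), ?_⟩
    rw [diagonal_SpecMap, MorphismProperty.cancel_right_of_respectsIso (P := @Flat),
      HasRingHomProperty.Spec_iff (P := @Flat)]
    exact Algebra.WeaklyEtale.flat_lmul' O R
  have h2 : WeaklyEtale (X.fromSpecStalk x) := by
    refine ⟨Locus.BaseChange.flat_fromSpecStalk X x, inferInstance⟩
  exact MorphismProperty.comp_mem @WeaklyEtale a (X.fromSpecStalk x) h1 h2

end Groth.Agent.S0754
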