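import Groth.Statements.S0755
import Groth.Agent.HensPoint.IndEtLift
import Groth.Agent.HensPoint.IndEtale

set_option autoImplicit false
open CategoryTheory CategoryTheory.Limits AlgebraicGeometry Opposite Topology
universe u
open ProEtW

namespace Groth.Agent.S0755

/-- Let I be an ideal of a ring A. For every ind-etale (A/I)-algebra Cbar there is an ind-etale
A-algebra C with C/IC isomorphic to Cbar as (A/I)-algebras. -/
theorem result (A : Type u) [CommRing A] (I : Ideal A) (Cb : Type u)
    [CommRing Cb] [Algebra (A ⧸ I) Cb] (h : EtPBC.IsIndEtale (A ⧸ I) Cb) :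
    ∃ (C : Type u) (_ : CommRing C) (_ : Algebra A C),
      EtPBC.IsIndEtale A C ∧ Nonempty ((C ⧸ I.map (algebraMap A C)) ≃ₐ[A ⧸ I] Cb) := by
  let algCb : Algebra A Cb := ((algebraMap (A ⧸ I) Cb).comp (algebraMap A (A ⧸ I))).toAlgebra
  have : IsScalarTower A (A ⧸ I) Cb := IsScalarTower.of_algebraMap_eq' rfl
  exact ⟨HensPoint.IndEtLift.C A Cb, inferInstance, inferInstance,
    HensPoint.IndEtale.isIndEtale_of_isEtColim (HensPoint.IndEtLift.isEtColim A Cb),
    HensPoint.IndEtLift.exists_lift I (HensPoint.IndEtale.isEtColim_of_isIndEtale h)⟩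

end Groth.Agent.S0755
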