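import Groth.Statements.S0792
import Groth.Agent.ModStalk.Annihilator
import Groth.Agent.ProperOver.Basic

set_option autoImplicit false
universe u
open Coherent

namespace Groth.Agent.S0792

open CategoryTheory AlgebraicGeometry in
theorem support_subset_range {Z X : Scheme.{u}} (i : Z ⟶ X) [IsClosedImmersion i] (G : Z.Modules) :
    CohB1.support ((Scheme.Modules.pushforward i).obj G) ⊆ Set.range i := by
  intro x hx
  by_contra h
  refine hx (subsingleton_of_forall_eq 0 fun v => ?_)
  obtain ⟨W, hxW, s, rfl⟩ := TopCat.Presheaf.exists_germ_eq _ v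
  let V : X.Opens := W ⊓ ⟨(Set.range i)ᶜ, i.isClosedEmbedding.isClosed_range.isOpen_compl⟩
  have hV : V ≤ W := inf_le_left
  rw [← TopCat.Presheaf.germ_res_apply _ (homOfLE hV) x ⟨hxW, h⟩ s]
  refine (congrArg _ ?_).trans (map_zero _)
  exact Groth.Agent.ModStalk.eq_of_germ_eq G (W := i ⁻¹ᵁ V) _ 0 fun z hz => absurd ⟨z, rfl⟩ hz.2


open CategoryTheory AlgebraicGeometry in
/-- Let f : X → S be locally of finite type and F a quasi-coherent O_X-module of finite type. The
support of F is proper over S if and only if there are a closed subscheme i : Z → X with Z proper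
over S and a quasi-coherent O_Z-module G of finite type with i_* G isomorphic to F. (The published
statement also gives a further equivalent condition, that the scheme-theoretic support of F is
proper over S; it is not used here.) -/
theorem result {X S : Scheme.{u}} (f : X ⟶ S) [LocallyOfFiniteType f]
    (F : X.Modules) (hq : Coh.IsQCoh F) (hft : CohB1.IsFT F) :
    ClSub.IsProperOver f (CohB1.support F) ↔
      ∃ (Z : Scheme.{u}) (i : Z ⟶ X), IsClosedImmersion i ∧ IsProper (i ≫ f) ∧
        ∃ G : Z.Modules, Coh.IsQCoh G ∧ CohB1.IsFT G ∧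
          Nonempty ((Scheme.Modules.pushforward i).obj G ≅ F) := by
  have : F.IsQuasicoherent := hq
  have : SheafOfModules.IsFiniteType (R := X.ringCatSheaf) F := hft
  constructor
  · intro h
    let J := Groth.Agent.ModStalk.annSheaf F
    have hr : Set.range J.subschemeι = CohB1.support F := by
      rw [Scheme.IdealSheafData.range_subschemeι]
      exact Groth.Agent.ModStalk.support_annSheaf F
    have := Groth.Agent.ModStalk.isIso_unit_annSheaf F
    exact ⟨J.subscheme, J.subschemeι, inferInstance, (Groth.Agent.ProperOver.iff_of_range f _ hr).mp h,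
      _, Groth.Agent.ModStalk.isQuasicoherent_pullback J.subschemeι F, Groth.Agent.ModStalk.isFiniteType_pullback J.subschemeι F,
      ⟨(asIso ((Scheme.Modules.pullbackPushforwardAdjunction J.subschemeι).unit.app F)).symm⟩⟩
  · rintro ⟨Z, i, hi, hp, G, -, -, ⟨e⟩⟩
    have h : ClSub.IsProperOver f (Set.range i) := (Groth.Agent.ProperOver.iff_of_range f i rfl).mpr hp
    refine Groth.Agent.ProperOver.mono f h (Groth.Agent.ModStalk.isClosed_support F) fun x hx => ?_
    refine support_subset_range i G fun hs => hx ?_
    let es := ((TopCat.Presheaf.stalkFunctor Ab x).mapIso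
      ((Scheme.Modules.toPresheaf X).mapIso e)).addCommGroupIsoToAddEquiv
    exact @Equiv.subsingleton _ _ es.symm.toEquiv hs

end Groth.Agent.S0792
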