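import Groth.Statements.S0796
import Groth.Agent.ProperOver.Basic
import Groth.Agent.ModStalk.Pullback
import Groth.Agent.ModStalk.Support

set_option autoImplicit false
universe u
open Coherent

namespace Groth.Agent.S0796

open CategoryTheory AlgebraicGeometry in
/-- Part (2), through the usual criterion for Serre subcategories. Let S be locally Noetherian and f : X
→ S locally of finite type. For a short exact sequence 0 → F₁ → F₂ → F₃ → 0 of coherent O_X-modules,
the support of F₂ is proper over S if and only if the supports of F₁ and F₃ are. -/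
theorem result {X S : Scheme.{u}} (f : X ⟶ S) [LocallyOfFiniteType f]
    [IsLocallyNoetherian S] (E : ShortComplex X.Modules) (hE : E.ShortExact)
    (h₁ : Coh.IsCoh E.X₁) (h₂ : Coh.IsCoh E.X₂) (h₃ : Coh.IsCoh E.X₃) :
    ClSub.IsProperOver f (CohB1.support E.X₂) ↔
      ClSub.IsProperOver f (CohB1.support E.X₁) ∧ ClSub.IsProperOver f (CohB1.support E.X₃) := by
  have hft1 : SheafOfModules.IsFiniteType (R := X.ringCatSheaf) E.X₁ := h₁.2
  have hft3 : SheafOfModules.IsFiniteType (R := X.ringCatSheaf) E.X₃ := h₃.2
  have := hE.mono_f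
  have := hE.epi_g
  have hsupp : CohB1.support E.X₂ = CohB1.support E.X₁ ∪ CohB1.support E.X₃ := by
    ext x
    show ¬ Subsingleton _ ↔ ¬ Subsingleton _ ∨ ¬ Subsingleton _
    rw [← not_and_or]
    refine not_congr ⟨fun h => ⟨(Groth.Agent.ModStalk.stalkMap_injective_of_mono E.f x).subsingleton,
      (Groth.Agent.ModStalk.stalkMap_surjective_of_epi E.g x).subsingleton⟩, fun ⟨a, b⟩ => ?_⟩
    refine subsingleton_of_forall_eq 0 fun v => ?_
    obtain ⟨w, hw⟩ := (Groth.Agent.ModStalk.stalkMap_exact E hE.exact x v).mp (Subsingleton.elim _ _)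
    rw [← hw, Subsingleton.elim w 0, map_zero]
  constructor
  · intro h
    exact ⟨Groth.Agent.ProperOver.mono f h (Groth.Agent.ModStalk.isClosed_support E.X₁) (hsupp ▸ Set.subset_union_left),
      Groth.Agent.ProperOver.mono f h (Groth.Agent.ModStalk.isClosed_support E.X₃) (hsupp ▸ Set.subset_union_right)⟩
  · intro h
    rw [hsupp, Set.union_eq_iUnion]
    exact Groth.Agent.ProperOver.iUnion f _ (Bool.rec h.2 h.1)

end Groth.Agent.S0796
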