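import Groth.Statements.S0856
import Mathlib
-- import your own Groth.Agent.* helpers here

set_option autoImplicit false
universe u
open CategoryTheory
open CohSite

namespace Groth.Agent.S0856

open Opposite in
/-- Let (C, O) be a ringed site, a : U' -> U a monomorphism of C and I an injective sheaf of O-modules.
Then the restriction map I(U) -> I(U') is surjective. -/
theorem result {C : Type u} [SmallCategory C]
    {J : GrothendieckTopology C} (O : Sheaf J RingCat.{u}) (I : SheafOfModules.{u} O) [Injective I]
    {U U' : C} (a : U' ⟶ U) [Mono a] : Function.Surjective (I.val.map a.op) := by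
  let adj := (PresheafOfModules.freeAdjunction O.obj).comp (PresheafOfModules.sheafificationAdjunction (𝟙 O.obj))
  let L := PresheafOfModules.free O.obj ⋙ PresheafOfModules.sheafification (𝟙 O.obj)
  haveI : Mono (L.map (yoneda.map a)) := by
    haveI : Mono ((PresheafOfModules.free O.obj).map (yoneda.map a)) := by
      refine ⟨fun {Z} g h e => PresheafOfModules.hom_ext fun V => ?_⟩
      haveI : Mono ((yoneda.map a).app V) := inferInstance
      haveI : Mono ((ModuleCat.free (O.obj.obj V)).map ((yoneda.map a).app V)) :=
        (ModuleCat.mono_iff_injective _).2 (Finsupp.mapDomain_injective ((mono_iff_injective _).1 inferInstance))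
      exact (cancel_mono ((ModuleCat.free (O.obj.obj V)).map ((yoneda.map a).app V))).1
        (congrArg (fun t => PresheafOfModules.Hom.app t V) e)
    exact (PresheafOfModules.sheafification (𝟙 O.obj)).map_mono _
  intro x
  let m := (adj.homEquiv (yoneda.obj U') I).symm (yonedaEquiv.symm x)
  refine ⟨yonedaEquiv (adj.homEquiv (yoneda.obj U) I (Injective.factorThru m (L.map (yoneda.map a)))), ?_⟩
  show ((I.val.presheaf ⋙ forget _).map a.op) _ = x
  refine (yonedaEquiv_naturality (adj.homEquiv (yoneda.obj U) I (Injective.factorThru m (L.map (yoneda.map a)))) a).trans ?_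
  rw [← adj.homEquiv_naturality_left, Injective.comp_factorThru, Equiv.apply_symm_apply, Equiv.apply_symm_apply]

end Groth.Agent.S0856
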