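import Groth.Statements.S0857
import Groth.Agent.Lead.SiteCoh.Edge
import Groth.Agent.Lead.SiteCoh.CechAcyc
-- import your own Groth.Agent.* helpers here

set_option autoImplicit false
universe u
open CategoryTheory
open CohSite

namespace Groth.Agent.S0857

open Opposite CategoryTheory.Limits in
/-- For a family of abelian sheaves F_i on a site and an object U, the map H^1(U, ∏ F_i) -> ∏ H^1(U,
F_i) induced by the projections is injective. (The degree-zero part of the published statement, that
sections of a product are the product of sections, is not restated.) -/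
theorem result {C : Type u} [SmallCategory C] {J : GrothendieckTopology C}
    {I : Type u} (F : I → Sheaf J AddCommGrpCat.{u}) (U : C) :
    Function.Injective (fun (x : CohSite.HU (∏ᶜ F) 1 U) (i : I) =>
      (((Sheaf.cohomologyPresheafFunctor J 1).map (Pi.π F i)).app (op U)).hom x) := by
  refine (injective_iff_map_eq_zero (AddMonoidHom.mk' (fun (x : CohSite.HU (∏ᶜ F) 1 U) (i : I) =>
      CechEdge.HUmap (Pi.π F i) 1 U x) (fun a b => funext fun i => map_add _ a b))).2 fun x hx => ?_
  let P : ShortComplex (Sheaf J AddCommGrpCat.{u}) :=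
    ShortComplex.mk (Limits.Pi.map fun i => Injective.ι (F i))
      (Limits.Pi.map fun i => cokernel.π (Injective.ι (F i))) (Limits.Pi.hom_ext _ _ fun i => by simp)
  haveI hm : Mono P.f := by
    show Mono (Limits.Pi.map fun i => Injective.ι (F i))
    exact Limits.Pi.map_mono _
  have hP : P.Exact := by
    refine ShortComplex.exact_of_f_is_kernel _ (KernelFork.IsLimit.ofι' _ _ fun {T} k hk => ?_)
    have hk' : ∀ i, (k ≫ Pi.π _ i) ≫ cokernel.π (Injective.ι (F i)) = 0 := fun i => by
      have := congrArg (· ≫ Pi.π (fun i => cokernel (Injective.ι (F i))) i) hk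
      simp only [P, Category.assoc, Pi.map_π, zero_comp] at this
      simpa using this
    exact ⟨Pi.lift fun i => (Groth.Agent.Lead.SiteCoh.Cech.shortExact_injS (F i)).fIsKernel.lift
        (KernelFork.ofι (k ≫ Pi.π _ i) (hk' i)), Limits.Pi.hom_ext _ _ fun i => by
      simp only [P, Category.assoc, Pi.map_π, Pi.lift_π_assoc]
      exact Fork.IsLimit.lift_ι' (Groth.Agent.Lead.SiteCoh.Cech.shortExact_injS (F i)).fIsKernel (k ≫ Pi.π _ i)
        (by rw [hk' i, comp_zero])⟩
  let S : ShortComplex (Sheaf J AddCommGrpCat.{u}) := ShortComplex.mk P.f (cokernel.π P.f) (cokernel.condition _)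
  have hS : S.ShortExact := ShortComplex.ShortExact.mk'
    (ShortComplex.exact_of_g_is_cokernel _ (cokernelIsCokernel _)) hm (inferInstance : Epi (cokernel.π P.f))
  let m : S.X₃ ⟶ P.X₃ := cokernel.desc P.f P.g P.zero
  haveI : Mono m := hP.mono_cokernelDesc
  haveI : Injective S.X₂ := inferInstanceAs (Injective (∏ᶜ fun i => Injective.under (F i)))
  obtain ⟨q, hq⟩ := Abelian.Ext.covariant_sequence_exact₁ (CohCx.freeSheaf J U) hS x
    (Abelian.Ext.eq_zero_of_injective _) (zero_add 1)
  obtain ⟨f, rfl⟩ := Abelian.Ext.homEquiv₀.symm.surjective q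
  have ht : ∀ i, ∃ t : CohCx.freeSheaf J U ⟶ Injective.under (F i),
      t ≫ cokernel.π (Injective.ι (F i)) = f ≫ m ≫ Pi.π _ i := fun i => by
    have hi := Groth.Agent.Lead.SiteCoh.Cech.shortExact_injS (F i)
    let φ : S ⟶ Groth.Agent.Lead.SiteCoh.Cech.injS (F i) :=
      { τ₁ := Pi.π F i, τ₂ := Pi.π _ i, τ₃ := m ≫ Pi.π _ i
        comm₁₂ := by simp [S, P]
        comm₂₃ := by simp [S, P, m] }
    have h := Groth.Agent.Lead.SiteCoh.Cech.extδ_naturality (U := U) hS hi φ 0 (Abelian.Ext.mk₀ f)
    rw [show CechEdge.extδ hS U 0 (Abelian.Ext.mk₀ f) = x from hq] at h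
    have h0 : CechEdge.HUmap φ.τ₁ 1 U x = 0 := congrFun hx i
    obtain ⟨v, hv⟩ := Abelian.Ext.covariant_sequence_exact₃ (CohCx.freeSheaf J U) hi _ (zero_add 1) (h.symm.trans h0)
    obtain ⟨t, rfl⟩ := Abelian.Ext.homEquiv₀.symm.surjective v
    refine ⟨t, (Abelian.Ext.mk₀_bijective _ _).1 ?_⟩
    rw [← Abelian.Ext.mk₀_comp_mk₀]
    exact hv.trans (Abelian.Ext.mk₀_comp_mk₀ _ _)
  choose t ht using ht
  have hf : Pi.lift t ≫ S.g = f := by
    refine (cancel_mono m).1 ?_
    refine Limits.Pi.hom_ext _ _ fun i => ?_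
    simp only [S, m, P, Category.assoc, cokernel.π_desc_assoc, Pi.map_π, Pi.lift_π_assoc]
    simpa [m, P] using ht i
  rw [← hq, ← hf]
  show (Abelian.Ext.mk₀ (Pi.lift t ≫ S.g)).comp hS.extClass _ = 0
  rw [← Abelian.Ext.mk₀_comp_mk₀_assoc, hS.comp_extClass, Abelian.Ext.comp_zero]

end Groth.Agent.S0857
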