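import Groth.Statements.S0866
import Mathlib.Topology.Sheaves.Skyscraper
import Mathlib.Topology.Sheaves.Flasque
import Mathlib.Topology.Sheaves.SheafCondition.UniqueGluing
import Mathlib.Topology.Sheaves.AddCommGrpCat
import Mathlib.Algebra.Category.Grp.FilteredColimits

set_option autoImplicit false
universe u
open CategoryTheory
open CohTop

namespace Groth.Agent.S0866

open Opposite TopologicalSpace TopCat Limits

theorem flasque_discrete {X : TopCat.{u}}
    (G : TopCat.Sheaf AddCommGrpCat.{u} (TopCat.discrete.obj ((forget TopCat.{u}).obj X))) :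
    TopCat.Sheaf.IsFlasque G := by
  constructor
  intro U V i
  rw [AddCommGrpCat.epi_iff_surjective]
  intro s
  classical
  let W : Opens (TopCat.discrete.obj ((forget TopCat.{u}).obj X)) :=
    ⟨(U.unop : Set _) \ V.unop, isOpen_discrete _⟩
  let f : Bool → Opens (TopCat.discrete.obj ((forget TopCat.{u}).obj X))
    | true => V.unop
    | false => W
  let sf : ∀ b : Bool, G.1.obj (op (f b))
    | true => s
    | false => 0
  obtain ⟨t, ht, -⟩ := TopCat.Sheaf.existsUnique_gluing' G f U.unop
    (fun b => homOfLE (match b with
      | true => leOfHom i.unop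
      | false => fun x hx => hx.1))
    (fun x hx => by
      rw [Opens.mem_iSup]
      by_cases hV : x ∈ V.unop
      · exact ⟨true, hV⟩
      · exact ⟨false, hx, hV⟩)
    sf (fun a b => by
      match a, b with
      | true, true => rfl
      | false, false => rfl
      | true, false => exact TopCat.Presheaf.section_ext G _ _ _ fun x hx => absurd hx.1 hx.2.2
      | false, true => exact TopCat.Presheaf.section_ext G _ _ _ fun x hx => absurd hx.2 hx.1.2)
  exact ⟨t, ht true⟩

theorem unit_mono {X : TopCat.{u}} (F : CohTop.Ab X) :
    Mono ((TopCat.Sheaf.pullbackPushforwardAdjunction AddCommGrpCat.{u}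
      (TopCat.adj₁.counit.app X)).unit.app F) := by
  classical
  let f : TopCat.discrete.obj ((forget TopCat.{u}).obj X) ⟶ X := TopCat.adj₁.counit.app X
  let adj := TopCat.Sheaf.pullbackPushforwardAdjunction AddCommGrpCat.{u} f
  refine ⟨fun {G : CohTop.Ab X} (a b : G ⟶ F) hab => ?_⟩
  have key : ∀ (S : CohTop.Ab (TopCat.discrete.obj ((forget TopCat.{u}).obj X)))
      (h : F ⟶ (CohTop.push f).obj S), a ≫ h = b ≫ h := by
    intro S h
    obtain ⟨g, rfl⟩ : ∃ g, adj.unit.app F ≫ (CohTop.push f).map g = h :=
      ⟨(adj.homEquiv _ _).symm h, (adj.homEquiv_unit _ _ _).symm.trans ((adj.homEquiv _ _).apply_symm_apply h)⟩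
    exact (Category.assoc _ _ _).symm.trans
      ((congrArg (· ≫ (CohTop.push f).map g) hab).trans (Category.assoc _ _ _))
  have hst : ∀ x : X, (TopCat.Presheaf.stalkFunctor AddCommGrpCat.{u} x).map a.hom =
      (TopCat.Presheaf.stalkFunctor AddCommGrpCat.{u} x).map b.hom := by
    intro x
    let sk := stalkSkyscraperSheafAdjunction x (C := AddCommGrpCat.{u})
    apply (sk.homEquiv G (TopCat.Presheaf.stalk F.obj x)).injective
    have e1 := sk.unit.naturality a
    have e2 := sk.unit.naturality b
    refine (sk.homEquiv_unit _ _ _).trans (Eq.trans ?_ (sk.homEquiv_unit _ _ _).symm)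
    refine Eq.trans e1.symm (Eq.trans ?_ e2)
    exact key (skyscraperSheaf (X := TopCat.discrete.obj ((forget TopCat.{u}).obj X)) x
      (TopCat.Presheaf.stalk F.obj x)) _
  refine Sheaf.hom_ext (NatTrans.ext (funext fun U => AddCommGrpCat.ext fun s => ?_))
  refine TopCat.Presheaf.section_ext F _ _ _ fun x hx => ?_
  have h1 := TopCat.Presheaf.stalkFunctor_map_germ_apply U.unop x hx a.hom s
  have h2 := TopCat.Presheaf.stalkFunctor_map_germ_apply U.unop x hx b.hom s
  rw [hst x] at h1
  exact h1.symm.trans h2

/-- The first step of the Godement resolution, for abelian sheaves: let f : X_disc -> X be the identity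
map from X with the discrete topology. For an abelian sheaf F on X, the adjunction unit F -> f_*
f^{-1} F is a monomorphism and f_* f^{-1} F is a flasque sheaf. (The source builds the whole
functorial flasque resolution by iterating f_* f^{-1} and proves it is a stalkwise homotopy
equivalence; only this first step is asserted here.) -/
theorem result {X : TopCat.{u}} (F : CohTop.Ab X) :
    Mono ((TopCat.Sheaf.pullbackPushforwardAdjunction AddCommGrpCat.{u}
      (TopCat.adj₁.counit.app X)).unit.app F) ∧
    TopCat.Sheaf.IsFlasque ((CohTop.push (TopCat.adj₁.counit.app X)).obj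
      ((CohTop.pull (TopCat.adj₁.counit.app X)).obj F)) := by
  refine ⟨unit_mono F, ?_⟩
  haveI := flasque_discrete ((CohTop.pull (TopCat.adj₁.counit.app X)).obj F)
  exact TopCat.Sheaf.IsFlasque.pushforward_isFlasque _ _

end Groth.Agent.S0866
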