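import Groth.Statements.S0885
import Groth.Agent.CechTriv.Extra
import Mathlib.CategoryTheory.Limits.FormalCoproducts.Cech

set_option autoImplicit false
universe u
open CategoryTheory
open CohTop

namespace Groth.Agent.S0885

section
open TopologicalSpace CategoryTheory.Limits Simplicial

variable {X : TopCat.{u}} {ι : Type u} (U : ι → Opens X)

theorem fp_ext {S T : FormalCoproduct.{u} (Opens X)} {a b : S ⟶ T} (h : a.f = b.f) : a = b :=
  FormalCoproduct.hom_ext h (fun _ => Subsingleton.elim _ _)

/-- the union of the family, as a formal coproduct -/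
abbrev unionObj : FormalCoproduct.{u} (Opens X) := (FormalCoproduct.incl (Opens X)).obj (iSup U)

/-- the Čech object -/
noncomputable abbrev cechObj' : SimplicialObject (FormalCoproduct.{u} (Opens X)) := (FormalCoproduct.mk ι U).cech

/-- augmentation -/
noncomputable def aug : (cechObj' U) _⦋0⦌ ⟶ unionObj U where
  f _ := PUnit.unit
  φ a := Pi.π _ (0 : Fin 1) ≫ homOfLE (le_iSup U _)

variable (i : ι) (hi : U i = iSup U)

/-- section of the augmentation -/
noncomputable def sec : unionObj U ⟶ (cechObj' U) _⦋0⦌ where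
  f _ := fun _ => i
  φ _ := Pi.lift fun _ => homOfLE hi.ge

/-- extra degeneracy -/
noncomputable def extra (n : ℕ) : (cechObj' U) _⦋n⦌ ⟶ (cechObj' U) _⦋n + 1⦌ where
  f a := Fin.cons (α := fun _ => ι) i a
  φ a := Pi.lift fun k => homOfLE (by
    refine Fin.cases (motive := fun k => _ ≤ U (Fin.cons (α := fun _ => ι) i a k)) ?_ (fun j => ?_) k
    · exact (leOfHom (Pi.π (fun x => U (a x)) (0 : Fin (n + 1)))).trans ((le_iSup U _).trans hi.ge)
    · rw [Fin.cons_succ]
      exact leOfHom (Pi.π (fun x => U (a x)) j))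

theorem aug_delta : (cechObj' U).δ 0 ≫ aug U = (cechObj' U).δ 1 ≫ aug U := fp_ext rfl

theorem sec_aug : sec U i hi ≫ aug U = 𝟙 _ := fp_ext rfl

theorem extra_delta_one : extra U i hi 0 ≫ (cechObj' U).δ 1 = aug U ≫ sec U i hi :=
  fp_ext (funext fun a => funext fun (k : Fin 1) => by
    obtain rfl : k = 0 := Subsingleton.elim _ _
    rfl)

theorem extra_delta_zero (n : ℕ) : extra U i hi n ≫ (cechObj' U).δ 0 = 𝟙 _ := fp_ext rfl

theorem extra_delta (n : ℕ) (j : Fin (n + 2)) :
    extra U i hi (n + 1) ≫ (cechObj' U).δ j.succ = (cechObj' U).δ j ≫ extra U i hi n :=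
  fp_ext (funext fun a => funext fun (k : Fin (n + 1 + 1)) => by
    refine Fin.cases ?_ (fun l => ?_) k
    · rfl
    · show Fin.cons (α := fun _ => ι) i a (Fin.succAbove j.succ l.succ) =
        Fin.cons (α := fun _ => ι) i (fun x => a (Fin.succAbove j x)) l.succ
      rw [Fin.succ_succAbove_succ, Fin.cons_succ, Fin.cons_succ])


end


open TopologicalSpace Opposite CategoryTheory.Limits in
/-- Let F be a presheaf of abelian groups on a topological space X and (U_i)_{i ∈ ι} a family of open
subsets with union U such that U_i = U for some index i. Then the Čech complex of F with respect to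
the family (formed with all ordered tuples of indices) is homotopy equivalent to the complex
consisting of F(U) placed in degree 0. (The published statement phrases this as contractibility of
the extended Čech complex; stated here as a homotopy equivalence with F(U) in degree zero.) -/
theorem result {X : TopCat.{u}} (F : (Opens X)ᵒᵖ ⥤ AddCommGrpCat.{u})
    {ι : Type u} (U : ι → Opens X) (i : ι) (hi : U i = iSup U) :
    Nonempty (HomotopyEquiv ((CochainComplex.single₀ AddCommGrpCat.{u}).obj (F.obj (op (iSup U))))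
      ((cechComplexFunctor U).obj F)) := by
  let G : (FormalCoproduct.{u} (TopologicalSpace.Opens X))ᵒᵖ ⥤ AddCommGrpCat.{u} :=
    (FormalCoproduct.evalOp.{u} (TopologicalSpace.Opens X) AddCommGrpCat.{u}).obj F
  let e : F.obj (op (iSup U)) ≅ G.obj (op (unionObj U)) :=
    ((FormalCoproduct.evalOpCompInlIsoId.{u} (TopologicalSpace.Opens X) AddCommGrpCat.{u}).app F).symm.app (op (iSup U))
  have hG : ∀ {A B D : FormalCoproduct.{u} (TopologicalSpace.Opens X)} (f : A ⟶ B) (g : B ⟶ D),
      G.map g.op ≫ G.map f.op = G.map (f ≫ g).op := fun f g => by rw [op_comp, G.map_comp]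
  refine ⟨Groth.Agent.CechTriv.homotopyEquivOfExtra
    ((FormalCoproduct.cosimplicialObjectFunctor (FormalCoproduct.mk ι U).cech).obj F) (F.obj (op (iSup U)))
    (e.hom ≫ G.map (aug U).op) (G.map (sec U i hi).op ≫ e.inv) (fun n => G.map (extra U i hi n).op) ?_ ?_ ?_ ?_ ?_⟩
  · show (e.hom ≫ G.map (aug U).op) ≫ G.map ((cechObj' U).δ 0).op = (e.hom ≫ G.map (aug U).op) ≫ G.map ((cechObj' U).δ 1).op
    simp only [Category.assoc, hG, aug_delta]
  · show (e.hom ≫ G.map (aug U).op) ≫ G.map (sec U i hi).op ≫ e.inv = 𝟙 _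
    rw [Category.assoc, ← Category.assoc (G.map (aug U).op), hG, sec_aug, op_id, G.map_id, Category.id_comp, e.hom_inv_id]
  · show G.map ((cechObj' U).δ 1).op ≫ G.map (extra U i hi 0).op = (G.map (sec U i hi).op ≫ e.inv) ≫ e.hom ≫ G.map (aug U).op
    rw [hG, extra_delta_one, Category.assoc, e.inv_hom_id_assoc, hG]
  · intro n
    show G.map ((cechObj' U).δ 0).op ≫ G.map (extra U i hi n).op = 𝟙 _
    rw [hG, extra_delta_zero, op_id, G.map_id]
  · intro n j
    show G.map ((cechObj' U).δ j.succ).op ≫ G.map (extra U i hi (n + 1)).op = G.map (extra U i hi n).op ≫ G.map ((cechObj' U).δ j).op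
    rw [hG, extra_delta, hG]

end Groth.Agent.S0885
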