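import Groth.Statements.S0886
import Groth.Agent.PushCoh.Coh
import Mathlib.CategoryTheory.Sites.SheafCohomology.Basic

set_option autoImplicit false
universe u
open CategoryTheory
open CohSite

namespace Groth.Agent.S0886

open CategoryTheory CategoryTheory.Limits Opposite

theorem nonempty_freeSheaf_iso {C : Type u} [SmallCategory C] (J : GrothendieckTopology C) {T : C} (hT : IsTerminal T) :
    Nonempty (CohCx.freeSheaf J T ≅ (constantSheaf J AddCommGrpCat.{u}).obj (AddCommGrpCat.of (ULift.{u} ℤ))) := by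
  let E := fun G : Sheaf J AddCommGrpCat.{u} => ((constantSheafAdj J AddCommGrpCat.{u} hT).homAddEquiv
    (AddCommGrpCat.of (ULift.{u} ℤ)) G).trans (AddCommGrpCat.uliftZMultiplesAddEquiv _)
  have hE : ∀ {G G' : Sheaf J AddCommGrpCat.{u}}
      (g : (constantSheaf J AddCommGrpCat.{u}).obj (AddCommGrpCat.of (ULift.{u} ℤ)) ⟶ G) (φ : G ⟶ G'),
      E G' (g ≫ φ) = φ.hom.app (op T) (E G g) := fun g φ =>
    congrArg (fun t => (AddCommGrpCat.uliftZMultiplesAddEquiv _) t)
      ((constantSheafAdj J AddCommGrpCat.{u} hT).homEquiv_naturality_right g φ)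
  let f : CohCx.freeSheaf J T ⟶ _ :=
    (Groth.Agent.Lead.SiteCoh.freeEquiv T _).symm (E _ (𝟙 ((constantSheaf J AddCommGrpCat.{u}).obj (AddCommGrpCat.of (ULift.{u} ℤ)))))
  let g := (E _).symm (Groth.Agent.Lead.SiteCoh.freeEquiv T _ (𝟙 (CohCx.freeSheaf J T)))
  refine ⟨⟨f, g, ?_, ?_⟩⟩
  · refine (Groth.Agent.Lead.SiteCoh.freeEquiv T _).injective ?_
    rw [Groth.Agent.Lead.SiteCoh.freeEquiv_comp, Equiv.apply_symm_apply, ← hE, Category.id_comp, AddEquiv.apply_symm_apply]
  · refine (E _).injective ?_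
    rw [hE, AddEquiv.apply_symm_apply, ← Groth.Agent.Lead.SiteCoh.freeEquiv_comp, Category.id_comp, Equiv.apply_symm_apply]

theorem nonempty_H_equiv {C : Type u} [SmallCategory C] {J : GrothendieckTopology C} {T : C} (hT : IsTerminal T)
    (G : Sheaf J AddCommGrpCat.{u}) (p : ℕ) : Nonempty (Sheaf.H G p ≃+ CohSite.HU G p T) := by
  obtain ⟨e⟩ := nonempty_freeSheaf_iso J hT
  refine ⟨AddEquiv.mk' ⟨fun a => (Abelian.Ext.mk₀ e.hom).comp a (zero_add p),
    fun b => (Abelian.Ext.mk₀ e.inv).comp b (zero_add p), fun a => ?_, fun b => ?_⟩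
    (fun a b => Abelian.Ext.comp_add _ a b (zero_add p))⟩
  · simp [Abelian.Ext.mk₀_comp_mk₀_assoc]
  · simp [Abelian.Ext.mk₀_comp_mk₀_assoc]

open CategoryTheory.Limits in
/-- Let u : C → D be a functor between sites which is cocontinuous, continuous (it sends coverings to
coverings and commutes with fibre products, which exist in C), fully faithful, and sends a final
object of C to a final object of D. For an abelian sheaf F on D let g^{-1}F be the sheaf U ↦ F(u(U))
on C. Then H^p(C, g^{-1}F) ≅ H^p(D, F) for all p. This is the comparison of global cohomology; the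
comparison object by object holds under weaker hypotheses and is a separate statement. -/
theorem result {C D : Type u} [SmallCategory C] [SmallCategory D]
    (J : GrothendieckTopology C) (K : GrothendieckTopology D) (u : C ⥤ D)
    [u.IsCocontinuous J K] [u.IsContinuous J K] (hu : CoverPreserving J K u) [u.Full] [u.Faithful]
    [HasPullbacks C] [PreservesLimitsOfShape WalkingCospan u]
    [HasTerminal C] [PreservesLimit (Functor.empty.{0} C) u]
    (F : Sheaf K AddCommGrpCat.{u}) (p : ℕ) :
    Nonempty (Sheaf.H ((CohSite.push K J u).obj F) p ≃+ Sheaf.H F p) := by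
  obtain ⟨e⟩ := Groth.Agent.PushCoh.nonempty_HU_equiv (J := J) K u p F (⊤_ C)
  obtain ⟨e1⟩ := nonempty_H_equiv terminalIsTerminal ((CohSite.push K J u).obj F) p
  obtain ⟨e2⟩ := nonempty_H_equiv (IsTerminal.isTerminalObj u (⊤_ C) terminalIsTerminal) F p
  exact ⟨(e1.trans e).trans e2.symm⟩

end Groth.Agent.S0886
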