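import Groth.Statements.S0901
import Groth.Agent.Lead.SiteCoh.OpensCech
import Groth.Agent.Lead.Flasque.Top

set_option autoImplicit false
universe u
open CategoryTheory
open CohTop

namespace Groth.Agent.S0901

section
open TopologicalSpace CategoryTheory.Limits Opposite

variable {X : TopCat.{u}} {ι : Type u} (U : ι → Opens X)

/-- the points of the coarser space -/
def CoarsePt (_U : ι → Opens X) : Type u := X

/-- the topology generated by the family -/
@[instance] def coarseTop : TopologicalSpace (CoarsePt U) :=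
  TopologicalSpace.generateFrom (Set.range fun i => (U i : Set X))

/-- the coarser space, with topology generated by the family -/
abbrev Coarse : TopCat.{u} :=
  @TopCat.of (CoarsePt U) (coarseTop U)

/-- the identity -/
def toCoarse : X ⟶ Coarse U :=
  TopCat.ofHom (ContinuousMap.mk (fun x : X => (x : CoarsePt U))
    (continuous_generateFrom_iff.2 (by rintro _ ⟨i, rfl⟩; exact (U i).2)))

/-- member of the family in the coarse space -/
def cU (i : ι) : Opens (Coarse U) :=
  ⟨(U i : Set X), TopologicalSpace.GenerateOpen.basic _ ⟨i, rfl⟩⟩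

theorem exists_inter {W : Set X} (hW : TopologicalSpace.GenerateOpen (Set.range fun i => (U i : Set X)) W)
    (x : X) (hx : x ∈ W) (hxV : x ∈ (iSup U : Opens X)) :
    ∃ s : Σ p : ℕ, Fin (p + 1) → ι, (∀ j, x ∈ U (s.2 j)) ∧ ∀ y, (∀ j, y ∈ U (s.2 j)) → y ∈ W := by
  induction hW with
  | basic s hs =>
    obtain ⟨i, rfl⟩ := hs
    exact ⟨⟨0, fun _ => i⟩, fun _ => hx, fun y hy => hy 0⟩
  | univ =>
    obtain ⟨i, hi⟩ := Opens.mem_iSup.1 hxV
    exact ⟨⟨0, fun _ => i⟩, fun _ => hi, fun y _ => trivial⟩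
  | inter a b _ _ iha ihb =>
    obtain ⟨⟨p, s⟩, h1, h2⟩ := iha hx.1
    obtain ⟨⟨q, t⟩, h3, h4⟩ := ihb hx.2
    let r : Fin (p + 1 + q + 1) → ι := Fin.append (m := p + 1) (n := q + 1) s t
    refine ⟨⟨p + 1 + q, r⟩, fun j => ?_, fun y hy => ⟨h2 y fun j => ?_, h4 y fun j => ?_⟩⟩
    · refine Fin.addCases (m := p + 1) (n := q + 1) (motive := fun j => x ∈ U (Fin.append s t j)) (fun k => ?_) (fun k => ?_) j
      · rw [Fin.append_left]; exact h1 k
      · rw [Fin.append_right]; exact h3 k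
    · have e := hy (Fin.castAdd (q + 1) j)
      simp only [r, Fin.append_left] at e
      exact e
    · have e := hy (Fin.natAdd (p + 1) j)
      simp only [r, Fin.append_right] at e
      exact e
  | sUnion S _ ih =>
    obtain ⟨T, hT, hxT⟩ := hx
    obtain ⟨s, h1, h2⟩ := ih T hT hxT
    exact ⟨s, h1, fun y hy => ⟨T, hT, h2 y hy⟩⟩

theorem mem_iInf_fin {n : ℕ} (f : Fin n → Opens X) (x : X) : x ∈ (⨅ k, f k) ↔ ∀ k, x ∈ f k := by
  rw [← SetLike.mem_coe, Opens.coe_iInf, Set.mem_iInter]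
  rfl

variable (F : CohTop.Ab X)

/-- `W ↦ F (W ⊓ U)` on the coarse space -/
noncomputable def coarseSheaf : CohTop.Ab (Coarse U) :=
  (CohTop.push (toCoarse U)).obj ((CohTop.push (iSup U).inclusion').obj (CohTop.restr F (iSup U)))

/-- the open of `X` on which sections of `coarseSheaf` live -/
noncomputable def phi : Opens (Coarse U) ⥤ Opens X :=
  Opens.map (toCoarse U) ⋙ Opens.map (iSup U).inclusion' ⋙ (iSup U).isOpenEmbedding.isOpenMap.functor

/-- an open of the coarse space as a subset of `X` -/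
def cs (W : Opens (Coarse U)) : Set X := W.carrier

theorem coe_phi (W : Opens (Coarse U)) : ((phi U).obj W : Set X) = cs U W ∩ (iSup U : Opens X) := by
  ext x
  exact ⟨fun ⟨y, hy, e⟩ => e ▸ ⟨hy, y.2⟩, fun h => ⟨⟨x, h.2⟩, h.1, rfl⟩⟩

theorem phi_cU (i : ι) : (phi U).obj (cU U i) = U i :=
  SetLike.coe_injective ((coe_phi U _).trans (Set.inter_eq_left.2 (le_iSup U i)))

theorem phi_prod {n : ℕ} (a : Fin (n + 1) → ι) :
    (phi U).obj (∏ᶜ fun k => cU U (a k)) = ∏ᶜ fun k => U (a k) := by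
  refine le_antisymm (leOfHom (Pi.lift fun k => (phi U).map (Pi.π (fun k => cU U (a k)) k) ≫ eqToHom (phi_cU U (a k)))) ?_
  intro x hx
  have hxk : ∀ k, x ∈ U (a k) := fun k => leOfHom (Pi.π (fun k => U (a k)) k) hx
  let W : Opens (Coarse U) := ⟨⋂ k, ((cU U (a k)) : Set (CoarsePt U)), isOpen_iInter_of_finite fun k => (cU U (a k)).2⟩
  have h : W ≤ ∏ᶜ fun k => cU U (a k) :=
    leOfHom (Pi.lift fun k => homOfLE (show W ≤ cU U (a k) from fun y hy => (Set.mem_iInter.1 hy) k))
  rw [← SetLike.mem_coe, coe_phi]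
  exact ⟨h (Set.mem_iInter.2 hxk), (le_iSup U (a 0)) (hxk 0)⟩

theorem flasque_coarse
    (h : ∀ (κ : Type u) (a : κ → Σ p : ℕ, Fin (p + 1) → ι), Function.Surjective (F.obj.map (homOfLE (iSup_le fun k => (iInf_le _ ⟨0, Nat.succ_pos _⟩).trans (le_iSup U ((a k).2 ⟨0, Nat.succ_pos _⟩)) : (⨆ k, ⨅ j, U ((a k).2 j)) ≤ iSup U)).op)) :
    TopCat.Sheaf.IsFlasque (coarseSheaf U F) := by
  constructor
  intro A B i
  have hle : (phi U).obj B.unop ≤ (phi U).obj A.unop := leOfHom ((phi U).map i.unop)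
  have hA : (phi U).obj A.unop ≤ iSup U := fun x hx => ((coe_phi U A.unop).le hx).2
  have key : ∀ B' : Opens (Coarse U), ∀ hB : (phi U).obj B' ≤ iSup U,
      Function.Surjective (F.obj.map (homOfLE hB).op) := fun B' hB => by
    let κ := {s : Σ p : ℕ, Fin (p + 1) → ι // (⨅ j, U (s.2 j)) ≤ (phi U).obj B'}
    have he : (phi U).obj B' = ⨆ k : κ, ⨅ j, U (k.1.2 j) := by
      refine le_antisymm (fun x hx => ?_) (iSup_le fun k => k.2)
      obtain ⟨hxB, hxV⟩ := (coe_phi U B').le hx
      obtain ⟨s, h1, h2⟩ := exists_inter U B'.2 x hxB hxV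
      refine Opens.mem_iSup.2 ⟨⟨s, fun y hy => ?_⟩, (mem_iInf_fin _ x).2 h1⟩
      rw [mem_iInf_fin] at hy
      exact (coe_phi U B').ge ⟨h2 y hy, le_iSup U _ (hy 0)⟩
    have gen : ∀ (B'' : Opens X) (hB' : B'' ≤ iSup U), B'' = ⨆ k : κ, ⨅ j, U (k.1.2 j) →
        Function.Surjective (F.obj.map (homOfLE hB').op) := fun B'' hB' e => by
      subst e
      exact h κ fun k => k.1
    exact gen _ hB he
  rw [AddCommGrpCat.epi_iff_surjective]
  intro y
  obtain ⟨z, hz⟩ := key B.unop (hle.trans hA) y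
  refine ⟨F.obj.map (homOfLE hA).op z, ?_⟩
  rw [← hz]
  show F.obj.map ((phi U).map i.unop).op (F.obj.map (homOfLE hA).op z) = _
  rw [← ConcreteCategory.comp_apply, ← F.obj.map_comp]
  rfl

/-- the two Čech cosimplicial objects agree -/
noncomputable def cosimpIso :
    (FormalCoproduct.cosimplicialObjectFunctor (FormalCoproduct.mk _ (cU U)).cech).obj ((phi U).op ⋙ F.obj) ≅
      (FormalCoproduct.cosimplicialObjectFunctor (FormalCoproduct.mk _ U).cech).obj F.obj :=
  NatIso.ofComponents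
    (fun n => Limits.Pi.mapIso fun a : Fin (n.len + 1) → ι => F.obj.mapIso (eqToIso (phi_prod U a).symm).op)
    (fun {m n} θ => by
      refine Pi.hom_ext _ _ fun a => ?_
      ext w
      let G₁ := (FormalCoproduct.cosimplicialObjectFunctor (FormalCoproduct.mk _ (cU U)).cech).obj ((phi U).op ⋙ F.obj)
      let G₂ := (FormalCoproduct.cosimplicialObjectFunctor (FormalCoproduct.mk _ U).cech).obj F.obj
      have e1 : ∀ (k : SimplexCategory) (v : G₁.obj k) (b : Fin (k.len + 1) → ι),
          Pi.π (fun b : Fin (k.len + 1) → ι => F.obj.obj (op (∏ᶜ fun j => U (b j)))) b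
              ((Limits.Pi.mapIso fun b : Fin (k.len + 1) → ι => F.obj.mapIso (eqToIso (phi_prod U b).symm).op).hom v) =
            F.obj.map (eqToHom (phi_prod U b).symm).op
              (Pi.π (fun b : Fin (k.len + 1) → ι => F.obj.obj (op ((phi U).obj (∏ᶜ fun j => cU U (b j))))) b v) := fun k v b =>
        congrArg (fun f : G₁.obj k ⟶ _ => f v)
          (Pi.map_π (fun b : Fin (k.len + 1) → ι => (F.obj.mapIso (eqToIso (phi_prod U b).symm).op).hom) b)
      have hm : ∀ (v : G₁.obj m), Pi.π (fun b : Fin (n.len + 1) → ι => F.obj.obj (op ((phi U).obj (∏ᶜ fun j => cU U (b j))))) a (G₁.map θ v) =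
          F.obj.map _ (Pi.π (fun b : Fin (m.len + 1) → ι => F.obj.obj (op ((phi U).obj (∏ᶜ fun j => cU U (b j)))))
            (((FormalCoproduct.mk _ (cU U)).cech.map θ.op).f a) v) := fun v =>
        congrArg (fun f : G₁.obj m ⟶ _ => f v) (Pi.lift_π _ a)
      have hm₂ : ∀ (v : G₂.obj m), Pi.π (fun b : Fin (n.len + 1) → ι => F.obj.obj (op (∏ᶜ fun j => U (b j)))) a (G₂.map θ v) =
          F.obj.map _ (Pi.π (fun b : Fin (m.len + 1) → ι => F.obj.obj (op (∏ᶜ fun j => U (b j))))
            (((FormalCoproduct.mk _ U).cech.map θ.op).f a) v) := fun v =>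
        congrArg (fun f : G₂.obj m ⟶ _ => f v) (Pi.lift_π _ a)
      refine (e1 n _ a).trans ((congrArg _ (hm w)).trans ?_)
      refine Eq.trans ?_ (hm₂ _).symm
      refine Eq.trans ?_ (congrArg _ (e1 m w _)).symm
      have two : ∀ {A B B' D : (Opens X)ᵒᵖ} (f : A ⟶ B) (g : B ⟶ D) (f' : A ⟶ B') (g' : B' ⟶ D) (z : F.obj.obj A),
          F.obj.map g (F.obj.map f z) = F.obj.map g' (F.obj.map f' z) := fun f g f' g' z => by
        rw [← ConcreteCategory.comp_apply, ← F.obj.map_comp, ← ConcreteCategory.comp_apply, ← F.obj.map_comp]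
        exact congrArg (fun h => F.obj.map h z) (Quiver.Hom.unop_inj (Subsingleton.elim _ _))
      exact two _ _ _ _ _)

/-- Čech cohomology agrees -/
noncomputable def cechIso (p : ℕ) : CohTop.cechH (coarseSheaf U F).obj (cU U) p ≅ CohTop.cechH F.obj U p :=
  (HomologicalComplex.homologyFunctor AddCommGrpCat.{u} (ComplexShape.up ℕ) p).mapIso
    ((AlgebraicTopology.alternatingCofaceMapComplex AddCommGrpCat.{u}).mapIso (cosimpIso U F))

end


open TopologicalSpace Opposite CategoryTheory.Limits in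
/-- Let F be an abelian sheaf on X and U_i a family of opens with union U. Assume that for every union
U' of opens of the form U_{i_0} ∩ ... ∩ U_{i_p} the restriction map F(U) -> F(U') is surjective.
Then the Cech cohomology of F with respect to the family vanishes in all positive degrees. -/
theorem result {X : TopCat.{u}} (F : CohTop.Ab X)
    {ι : Type u} (U : ι → Opens X)
    (h : ∀ (κ : Type u) (a : κ → Σ p : ℕ, Fin (p + 1) → ι),
      Function.Surjective (F.obj.map (homOfLE
        (iSup_le fun k => (iInf_le _ ⟨0, Nat.succ_pos _⟩).trans (le_iSup U ((a k).2 ⟨0, Nat.succ_pos _⟩)) :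
          (⨆ k, ⨅ j, U ((a k).2 j)) ≤ iSup U)).op)) (p : ℕ) :
    IsZero (CohTop.cechH F.obj U (p + 1)) := by
  haveI := flasque_coarse U F h
  obtain ⟨e⟩ := Groth.Agent.Lead.SiteCoh.OpensCech.nonempty_equiv (coarseSheaf U F) (cU U)
    (fun q a r => Groth.Agent.Lead.Flasque.Top.subsingleton_HU (coarseSheaf U F) r _) (p + 1)
  haveI : Subsingleton (CohTop.HU (coarseSheaf U F) (p + 1) (iSup (cU U))) :=
    Groth.Agent.Lead.Flasque.Top.subsingleton_HU (coarseSheaf U F) p _
  haveI : Subsingleton (CohTop.cechH (coarseSheaf U F).obj (cU U) (p + 1)) := e.toEquiv.subsingleton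
  exact (AddCommGrpCat.isZero_of_subsingleton _).of_iso (cechIso U F (p + 1)).symm

end Groth.Agent.S0901
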