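import Groth.Statements.S0904
import Mathlib.Topology.Sheaves.Functors
import Mathlib.CategoryTheory.Sites.Pullback
import Mathlib.Topology.Sheaves.SheafCondition.Sites
import Mathlib.CategoryTheory.Functor.Flat
import Mathlib.Algebra.Category.Grp.FilteredColimits
import Mathlib.Algebra.Category.Grp.Limits
import Mathlib.Algebra.Category.Grp.Colimits

set_option autoImplicit false
universe u
open CategoryTheory
open CohTop

namespace Groth.Agent.S0904

/-- Abelian sheaves, for which every continuous map is flat: for a continuous map f : X -> Y and an
injective abelian sheaf I on X, the direct image f_* I is an injective abelian sheaf on Y. -/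
theorem result {X Y : TopCat.{u}} (f : X ⟶ Y) (I : CohTop.Ab X) [Injective I] :
    Injective ((CohTop.push f).obj I) := by
  haveI : Limits.PreservesFiniteLimits (CohTop.pull f) := by
    haveI : Limits.PreservesFiniteLimits ((TopologicalSpace.Opens.map f).op.lan :
        (_ ⥤ AddCommGrpCat.{u}) ⥤ _) := lan_preservesFiniteLimits_of_flat _ (TopologicalSpace.Opens.map f)
    exact Functor.sheafPullbackConstruction.preservesFiniteLimits _ _ _ _
  haveI : (TopCat.Sheaf.pullback AddCommGrpCat.{u} f).PreservesMonomorphisms :=
    preservesMonomorphisms_of_preservesLimitsOfShape (CohTop.pull f)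
  exact (TopCat.Sheaf.pullbackPushforwardAdjunction AddCommGrpCat.{u} f).map_injective I ‹_›

end Groth.Agent.S0904
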