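import Groth.Statements.S0905
import Groth.Agent.WeakContr9.Basic
-- import your own Groth.Agent.* helpers here

set_option autoImplicit false
universe u
open CategoryTheory
open CohSite

namespace Groth.Agent.S0905

open Opposite CategoryTheory.Limits in
/-- Parts (1) and (2), for a weakly contractible object U of a site (one over which every epimorphism of
sheaves of sets is surjective on sections): (1) the functor F ↦ F(U) from abelian sheaves to abelian
groups preserves finite colimits (it is exact, finite limits being automatic), and (2) H^p(U, F) = 0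
for every abelian sheaf F and every p > 0. (Part (3) about torsors is not included.) -/
theorem result {C : Type u} [SmallCategory C] (J : GrothendieckTopology C)
    (U : C) (hU : CohSite.IsWeaklyContractible J U) :
    PreservesFiniteColimits (sheafToPresheaf J AddCommGrpCat.{u} ⋙ (evaluation Cᵒᵖ AddCommGrpCat.{u}).obj (op U)) ∧
    ∀ (F : Sheaf J AddCommGrpCat.{u}) (p : ℕ), Subsingleton (CohSite.HU F (p + 1) U) := by
  refine ⟨(WeakContr9.ev_exact.{u} hU).2, fun F p => ?_⟩
  let adj := (AddCommGrpCat.adj.whiskerRight Cᵒᵖ).comp (sheafificationAdjunction J AddCommGrpCat.{u})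
  haveI : Projective ((presheafToSheaf J AddCommGrpCat.{u}).obj
      (((Functor.whiskeringRight _ _ _).obj AddCommGrpCat.free).obj (yoneda.obj U))) := ⟨fun {E X} g e _ => by
    obtain ⟨x, hx⟩ := WeakContr9.surjective_ab.{u} hU e (yonedaEquiv (adj.homEquiv (yoneda.obj U) X g))
    refine ⟨(adj.homEquiv (yoneda.obj U) E).symm (yonedaEquiv.symm x), (adj.homEquiv (yoneda.obj U) X).injective ?_⟩
    refine (adj.homEquiv_naturality_right _ _).trans ?_
    rw [Equiv.apply_symm_apply]
    refine yonedaEquiv.injective ?_
    rw [yonedaEquiv_comp, Equiv.apply_symm_apply]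
    exact hx⟩
  exact Abelian.Ext.subsingleton_of_projective ((presheafToSheaf J AddCommGrpCat.{u}).obj
      (((Functor.whiskeringRight _ _ _).obj AddCommGrpCat.free).obj (yoneda.obj U))) F p

end Groth.Agent.S0905
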