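import Groth.Statements.S0910
import Groth.Agent.KFlatLib.LpullLocal

set_option autoImplicit false
universe u
open CategoryTheory
attribute [local instance] HasDerivedCategory.standard
open DCoh

namespace Groth.Agent.S0910

open AlgebraicGeometry in
/-- Let f : X → Y be a morphism of schemes and E an m-pseudo-coherent object of D(O_Y). Then Lf^*E is
m-pseudo-coherent. Here Lf^* is the total left derived functor of f^*, whose existence is assumed as
an instance argument. (The published statement is for morphisms of ringed spaces; stated here for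
schemes.) -/
theorem result {X Y : Scheme.{u}} (f : X ⟶ Y) [DCoh.HasLpull f] (m : ℤ) (E : DCoh.D Y)
    (hE : DCoh.IsPseudoCoherentD m E) : DCoh.IsPseudoCoherentD m ((DCoh.Lpull f).obj E) := by
  obtain ⟨P, hPK, hP⟩ := Groth.Agent.KFlatLib.exists_local_rep f E
  intro x
  obtain ⟨V, hx, hV⟩ := hE (f x)
  refine ⟨f ⁻¹ᵁ V, hx, fun F hF => ?_⟩
  obtain ⟨hflat, ⟨e⟩⟩ := hP V F hF
  obtain ⟨E', α, hE', h₁, h₂⟩ := hV P hPK
  obtain ⟨β, -, hβ⟩ := Groth.Agent.KFlatLib.exists_approx_pullback (f ∣_ V) hE' hflat α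
  obtain ⟨g₁, g₂⟩ := hβ m ⟨h₁, h₂⟩
  refine ⟨_, β ≫ e.inv, Groth.Agent.KFlatLib.isStrictlyPerfect_pullback (f ∣_ V) hE', fun i hi => ?_, ?_⟩
  · haveI := g₁ i hi
    rw [Functor.map_comp]; infer_instance
  · haveI := g₂
    rw [Functor.map_comp]; exact epi_comp _ _

end Groth.Agent.S0910
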