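import Groth.Statements.S0911
import Groth.Agent.KFlatLib.LDerived

set_option autoImplicit false
universe u
open CategoryTheory
attribute [local instance] HasDerivedCategory.standard
open DCoh

namespace Groth.Agent.S0911

open AlgebraicGeometry in
/-- For morphisms of schemes f : X → Y and g : Y → Z the composite of derived pullbacks Lf^* ∘ Lg^* is
isomorphic to L(g ∘ f)^* as functors D(O_Z) → D(O_X). The derived pullbacks are total left derived
functors whose existence is assumed through instance arguments; the assertion is the existence of an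
isomorphism of functors. The published statement is for ringed spaces; stated here for schemes. -/
theorem result {X Y Z : Scheme.{u}} (f : X ⟶ Y) (g : Y ⟶ Z)
    [DCoh.HasLpull f] [DCoh.HasLpull g] [DCoh.HasLpull (f ≫ g)] :
    Nonempty (DCoh.Lpull g ⋙ DCoh.Lpull f ≅ DCoh.Lpull (f ≫ g)) := by
  let W := HomotopyCategory.quasiIso Z.Modules (ComplexShape.up ℤ)
  let W' := HomotopyCategory.quasiIso Y.Modules (ComplexShape.up ℤ)
  let αg := (DCoh.pullKh g).totalLeftDerivedCounit DerivedCategory.Qh W
  let αf := (DCoh.pullKh f).totalLeftDerivedCounit DerivedCategory.Qh W'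
  let P := (Scheme.Modules.pullback g).mapHomotopyCategory (ComplexShape.up ℤ)
  let e : P ⋙ DCoh.pullKh f ≅ DCoh.pullKh (f ≫ g) :=
    (Functor.associator _ _ _).symm ≪≫ Functor.isoWhiskerRight
      (Functor.mapHomotopyCategoryCompIso (Scheme.Modules.pullbackComp f g) _) DerivedCategory.Qh
  let β : DerivedCategory.Qh ⋙ DCoh.Lpull g ⋙ DCoh.Lpull f ⟶ DCoh.pullKh (f ≫ g) :=
    (Functor.associator _ _ _).inv ≫ Functor.whiskerRight αg (DCoh.Lpull f) ≫
      (Functor.associator _ _ _).hom ≫ Functor.whiskerLeft P αf ≫ e.hom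
  haveI : (DCoh.Lpull g ⋙ DCoh.Lpull f).IsLeftDerivedFunctor β W := by
    refine (Groth.Agent.KFlatLib.isGood_pullKh (f ≫ g)).isLeftDerived _ _ fun K hK => ?_
    haveI : IsIso (αg.app K) := (Groth.Agent.KFlatLib.isGood_pullKh g).isIso_app (DCoh.Lpull g) αg hK
    haveI : IsIso (αf.app (P.obj K)) := (Groth.Agent.KFlatLib.isGood_pullKh f).isIso_app (DCoh.Lpull f) αf
      ((Groth.Agent.KFlatLib.dcoh_isKFlat_iff _).1 (Groth.Agent.KFlatLib.isKFlat_pullback g K.as
        ((Groth.Agent.KFlatLib.dcoh_isKFlat_iff _).2 hK)))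
    show IsIso (𝟙 _ ≫ (DCoh.Lpull f).map (αg.app K) ≫ 𝟙 _ ≫ αf.app (P.obj K) ≫ e.hom.app K)
    infer_instance
  exact ⟨Functor.leftDerivedUnique _ _ β ((DCoh.pullKh (f ≫ g)).totalLeftDerivedCounit DerivedCategory.Qh W) W⟩

end Groth.Agent.S0911
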