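import Groth.Statements.S0916
import Groth.Agent.KFlatLib.FlatTor

set_option autoImplicit false
universe u
open CategoryTheory
attribute [local instance] HasDerivedCategory.standard
open DCoh

namespace Groth.Agent.S0916

open AlgebraicGeometry CategoryTheory.Limits in
/-- Flatness of an O_X-module F (all stalks flat) is equivalent to the following Tor-vanishing: for
every O_X-module G the sheaf Tor_1(F, G), i.e. H^{-1} of F ⊗^L G, vanishes; the existence of the
derived tensor product with every G is assumed (hypothesis hL). -/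
theorem result {X : Scheme.{u}} (F : X.Modules) (hL : ∀ G : X.Modules, DCoh.HasLTensorMod G) :
    FlatMod.IsFlat F ↔ ∀ (G : X.Modules) [DCoh.HasLTensorMod G],
      IsZero (DCoh.HD ((DCoh.LTensorMod G).obj (DCoh.inD X F)) (-1)) := by
  open Groth.Agent.KFlatLib in
  have hc : ∀ Z, PreservesFiniteColimits ((TX X).obj Z) ∧ PreservesFiniteColimits ((TX X).flip.obj Z) := fun Z =>
    ⟨PreservesColimitsOfSize.preservesFiniteColimits.{u, u} _, PreservesColimitsOfSize.preservesFiniteColimits.{u, u} _⟩
  haveI := fun Z => (hc Z).1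
  haveI := fun Z => (hc Z).2
  haveI : ∀ Z, PreservesColimitsOfSize.{u, u} ((Groth.Agent.KFlatLib.TX X).flip.flip.obj Z) := fun Z =>
    (inferInstance : PreservesColimitsOfSize.{u, u} ((Groth.Agent.KFlatLib.TX X).obj Z))
  have hsingle : ∀ M : X.Modules, ((Groth.Agent.KFlatLib.TX X).obj M).PreservesMonomorphisms →
      Groth.Agent.KFlatLib.IsKFlat (Groth.Agent.KFlatLib.TX X).flip
        ((HomologicalComplex.single X.Modules (ComplexShape.up ℤ) 0).obj M) := fun M hM =>
    Groth.Agent.KFlatLib.isKFlat_of_single _ 0 (fun i hi => HomologicalComplex.isZero_single_obj_X _ 0 M i hi)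
      (haveI := hM; Functor.preservesMonomorphisms.of_iso
        ((Groth.Agent.KFlatLib.TX X).mapIso (HomologicalComplex.singleObjXSelf (ComplexShape.up ℤ) 0 M).symm))
  have hH : ∀ (G : X.Modules) [DCoh.HasLTensorMod G] (P : CochainComplex X.Modules ℤ) (e : DerivedCategory.Q.obj P ≅ DCoh.inD X F),
      Groth.Agent.KFlatLib.IsKFlat (Groth.Agent.KFlatLib.TX X).flip P →
      Nonempty (DCoh.HD ((DCoh.LTensorMod G).obj (DCoh.inD X F)) (-1) ≅
        (((DCoh.tensorRightMod G).mapHomologicalComplex (ComplexShape.up ℤ)).obj P).homology (-1)) := fun G _ P e hP => by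
    obtain ⟨i⟩ := Groth.Agent.KFlatLib.nonempty_tensorModIso G P hP
    exact ⟨(DerivedCategory.homologyFunctor X.Modules (-1)).mapIso ((DCoh.LTensorMod G).mapIso e.symm ≪≫ i) ≪≫
      (DerivedCategory.homologyFunctorFactors X.Modules (-1)).app _⟩
  have hcone : ∀ (P P' : CochainComplex (ModSite.Mod X.sheaf) ℤ) (φ : P ⟶ P'),
      Groth.Agent.KFlatLib.IsKFlat (Groth.Agent.KFlatLib.TX X).flip P →
      Groth.Agent.KFlatLib.IsKFlat (Groth.Agent.KFlatLib.TX X).flip P' →
      Groth.Agent.KFlatLib.IsKFlat (Groth.Agent.KFlatLib.TX X).flip (CochainComplex.mappingCone φ) := fun P P' φ =>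
    (Groth.Agent.KFlatLib.IsKFlat.mappingCone_two_of_three _ φ).1
  refine ⟨fun hF G _ => ?_, fun h => ?_⟩
  · obtain ⟨i⟩ := hH G _ (Iso.refl _) (hsingle F (Groth.Agent.KFlatLib.tflat_of_flatMod hF).1)
    refine IsZero.of_iso ?_ i
    exact ShortComplex.isZero_homology_of_isZero_X₂ _
      (Functor.map_isZero (DCoh.tensorRightMod G) (HomologicalComplex.isZero_single_obj_X _ 0 F (-1) (by decide)))
  · obtain ⟨Q, p, hp, hQ⟩ : ∃ (Q : X.Modules) (p : Q ⟶ F), Epi p ∧
        Groth.Agent.KFlatLib.TFlat (Groth.Agent.KFlatLib.TX X) Q := Groth.Agent.KFlatLib.enough_tflat X.sheaf F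
    let S := ShortComplex.mk (kernel.ι p) p (kernel.condition p)
    have hS : S.ShortExact := { exact := ShortComplex.exact_kernel p }
    have hι : ∀ G : X.Modules, Mono (((Groth.Agent.KFlatLib.TX X).map S.f).app G) := fun G => by
      haveI := hL G
      obtain ⟨P, q, hP, hq⟩ : ∃ (P : CochainComplex X.Modules ℤ)
          (q : P ⟶ (HomologicalComplex.single X.Modules (ComplexShape.up ℤ) 0).obj S.X₁),
          Groth.Agent.KFlatLib.IsKFlat (Groth.Agent.KFlatLib.TX X).flip P ∧ QuasiIso q :=
        Groth.Agent.KFlatLib.exists_flip_resolution X.sheaf _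
      haveI := hq
      let φ := q ≫ (HomologicalComplex.single X.Modules (ComplexShape.up ℤ) 0).map S.f
      let F' := (DCoh.tensorRightMod G).mapHomologicalComplex (ComplexShape.up ℤ)
      have hC : Groth.Agent.KFlatLib.IsKFlat (Groth.Agent.KFlatLib.TX X).flip (CochainComplex.mappingCone φ) :=
        hcone _ _ φ hP (hsingle Q hQ.1)
      haveI : IsIso (DerivedCategory.Q.map q) := (DerivedCategory.isIso_Q_map_iff_quasiIso X.Modules q).2 hq
      let e₁ := asIso (DerivedCategory.Q.map q)
      let eC : DerivedCategory.Q.obj (CochainComplex.mappingCone φ) ≅ DCoh.inD X F :=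
        Pretriangulated.Triangle.π₃.mapIso (Pretriangulated.isoTriangleOfIso₁₂
          (DerivedCategory.Q.mapTriangle.obj (CochainComplex.mappingCone.triangle φ)) hS.singleTriangle
          (DerivedCategory.mappingCone_triangle_distinguished φ) hS.singleTriangle_distinguished
          e₁ (Iso.refl _)
          ((Category.comp_id _).trans (DerivedCategory.Q.map_comp _ _)))
      obtain ⟨i⟩ := hH G _ eC hC
      haveI := Groth.Agent.KFlatLib.mono_homologyMap_zero (F'.map φ)
        (((h G).of_iso i.symm).of_iso ((HomologicalComplex.homologyFunctor _ _ (-1)).mapIso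
          (CochainComplex.mappingCone.mapHomologicalComplexIso φ (DCoh.tensorRightMod G)).symm))
      haveI : PreservesFiniteColimits (DCoh.tensorRightMod G) := (hc G).2
      haveI := Groth.Agent.KFlatLib.epi_homologyMap_map (DCoh.tensorRightMod G) q
        (fun i hi => HomologicalComplex.isZero_single_obj_X _ 0 S.X₁ i hi)
      have e2 : HomologicalComplex.homologyMap (F'.map φ) 0 = HomologicalComplex.homologyMap (F'.map q) 0 ≫
          HomologicalComplex.homologyMap (F'.map ((HomologicalComplex.single X.Modules (ComplexShape.up ℤ) 0).map S.f)) 0 := by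
        rw [← HomologicalComplex.homologyMap_comp, ← F'.map_comp]
      have hm : Mono (HomologicalComplex.homologyMap
          (F'.map ((HomologicalComplex.single X.Modules (ComplexShape.up ℤ) 0).map S.f)) 0) := by
        haveI : Mono (HomologicalComplex.homologyMap (F'.map q) 0) := mono_of_mono_fac e2.symm
        haveI : IsIso (HomologicalComplex.homologyMap (F'.map q) 0) := isIso_of_mono_of_epi _
        have e3 : HomologicalComplex.homologyMap
            (F'.map ((HomologicalComplex.single X.Modules (ComplexShape.up ℤ) 0).map S.f)) 0 =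
            inv (HomologicalComplex.homologyMap (F'.map q) 0) ≫ HomologicalComplex.homologyMap (F'.map φ) 0 := by
          rw [e2, IsIso.inv_hom_id_assoc]
        rw [e3]; infer_instance
      let η : (HomologicalComplex.single X.Modules (ComplexShape.up ℤ) 0 ⋙ F') ⋙
          HomologicalComplex.homologyFunctor X.Modules (ComplexShape.up ℤ) 0 ≅ DCoh.tensorRightMod G :=
        Functor.isoWhiskerRight (HomologicalComplex.singleMapHomologicalComplex (DCoh.tensorRightMod G) (ComplexShape.up ℤ) 0) _ ≪≫
          Functor.associator _ _ _ ≪≫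
          Functor.isoWhiskerLeft _ (HomologicalComplex.homologyFunctorSingleIso X.Modules (ComplexShape.up ℤ) 0) ≪≫
          Functor.rightUnitor _
      exact ((MorphismProperty.monomorphisms X.Modules).arrow_mk_iso_iff
        (((Functor.mapArrowFunctor _ _).mapIso η).app (Arrow.mk S.f))).1 hm
    have hF : ((Groth.Agent.KFlatLib.TX X).obj F).PreservesMonomorphisms := ⟨fun g _ =>
      haveI := hQ.1
      @Groth.Agent.KFlatLib.mono_map_of_univ_mono (ModSite.Mod X.sheaf) _ _ (Groth.Agent.KFlatLib.TX X) _ _ _ _ S hS hι _ _ _ g _⟩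
    exact Groth.Agent.KFlatLib.flatMod_of_tflat (F := F) ⟨hF,
      (Functor.preservesMonomorphisms.iso_iff (Groth.Agent.ModTensor.commIso (O := X.sheaf) F)).1 hF⟩

end Groth.Agent.S0916
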