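import Groth.Statements.S0917
import Groth.Agent.KInjRes.Stable

set_option autoImplicit false
universe v u
open CategoryTheory
open CohDer

namespace Groth.Agent.S0917

open CategoryTheory.Limits CochainComplex CochainComplex.HomComplex
open scoped ZeroObject

/-- the source of the cone -/
noncomputable abbrev src {A : Type u} [Category.{v} A] [Abelian A] [IsGrothendieckAbelian.{v} A]
    {ι : Type v} (K : ι → CochainComplex A ℤ) (M : CochainComplex A ℤ) : CochainComplex A ℤ :=
  ∐ fun p : (Σ i, K i ⟶ M) => K p.1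

/-- its map to M -/
noncomputable abbrev ev {A : Type u} [Category.{v} A] [Abelian A] [IsGrothendieckAbelian.{v} A]
    {ι : Type v} (K : ι → CochainComplex A ℤ) (M : CochainComplex A ℤ) : src K M ⟶ M :=
  Limits.Sigma.desc fun p => p.2

/-- functoriality of the source -/
noncomputable abbrev srcMap {A : Type u} [Category.{v} A] [Abelian A] [IsGrothendieckAbelian.{v} A]
    {ι : Type v} (K : ι → CochainComplex A ℤ) {M N : CochainComplex A ℤ} (f : M ⟶ N) :
    src K M ⟶ src K N :=
  Limits.Sigma.desc fun p => Limits.Sigma.ι (fun q : (Σ i, K i ⟶ N) => K q.1) ⟨p.1, p.2 ≫ f⟩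

lemma srcMap_ev {A : Type u} [Category.{v} A] [Abelian A] [IsGrothendieckAbelian.{v} A]
    {ι : Type v} (K : ι → CochainComplex A ℤ) {M N : CochainComplex A ℤ} (f : M ⟶ N) :
    srcMap K f ≫ ev K N = ev K M ≫ f := by
  apply Limits.Sigma.hom_ext; intro p; simp

/-- map of cones -/
noncomputable def coneMap {A : Type u} [Category.{v} A] [Abelian A]
    {X Y X' Y' : CochainComplex A ℤ} {φ : X ⟶ Y} {φ' : X' ⟶ Y'} (a : X ⟶ X') (b : Y ⟶ Y')
    (h : φ ≫ b = a ≫ φ') : mappingCone φ ⟶ mappingCone φ' :=
  mappingCone.mapOfHomotopy (Homotopy.ofEq h)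

lemma coneMap_inl {A : Type u} [Category.{v} A] [Abelian A]
    {X Y X' Y' : CochainComplex A ℤ} {φ : X ⟶ Y} {φ' : X' ⟶ Y'} (a : X ⟶ X') (b : Y ⟶ Y')
    (h : φ ≫ b = a ≫ φ') (p q : ℤ) (hpq : p + (-1) = q) :
    (mappingCone.inl φ).v p q hpq ≫ (coneMap a b h).f q =
      a.f p ≫ (mappingCone.inl φ').v p q hpq := by
  simp [coneMap, mappingCone.mapOfHomotopy]

lemma coneMap_inr {A : Type u} [Category.{v} A] [Abelian A]
    {X Y X' Y' : CochainComplex A ℤ} {φ : X ⟶ Y} {φ' : X' ⟶ Y'} (a : X ⟶ X') (b : Y ⟶ Y')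
    (h : φ ≫ b = a ≫ φ') (q : ℤ) :
    (mappingCone.inr φ).f q ≫ (coneMap a b h).f q = b.f q ≫ (mappingCone.inr φ').f q := by
  simp [coneMap, mappingCone.mapOfHomotopy]

lemma ι_congr {A : Type u} [Category.{v} A] [Abelian A] [IsGrothendieckAbelian.{v} A]
    {ι : Type v} (K : ι → CochainComplex A ℤ) {M : CochainComplex A ℤ} {i : ι} {w w' : K i ⟶ M}
    (h : w = w') : Limits.Sigma.ι (fun q : (Σ i, K i ⟶ M) => K q.1) ⟨i, w⟩ =
      Limits.Sigma.ι (fun q : (Σ i, K i ⟶ M) => K q.1) ⟨i, w'⟩ := by
  subst h; rfl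

/-- the functor -/
noncomputable def killFunctor {A : Type u} [Category.{v} A] [Abelian A] [IsGrothendieckAbelian.{v} A]
    {ι : Type v} (K : ι → CochainComplex A ℤ) : CochainComplex A ℤ ⥤ CochainComplex A ℤ where
  obj M := mappingCone (ev K M)
  map f := coneMap (srcMap K f) f (srcMap_ev K f).symm
  map_id M := by
    have h : srcMap K (𝟙 M) = 𝟙 (src K M) := by
      apply Limits.Sigma.hom_ext; intro p; simp
      exact ι_congr K (by simp)
    ext n : 1
    rw [mappingCone.ext_from_iff _ (n + 1) n rfl]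
    constructor
    · rw [coneMap_inl, h]; simp
    · rw [coneMap_inr]; simp
  map_comp {M N O} f g := by
    have h : srcMap K (f ≫ g) = srcMap K f ≫ srcMap K g := by
      apply Limits.Sigma.hom_ext; intro p; simp
      exact ι_congr K (by simp)
    ext n : 1
    rw [mappingCone.ext_from_iff _ (n + 1) n rfl]
    constructor
    · rw [coneMap_inl, h, HomologicalComplex.comp_f, HomologicalComplex.comp_f, ← Category.assoc,
        coneMap_inl, Category.assoc, Category.assoc, coneMap_inl]
    · rw [coneMap_inr, HomologicalComplex.comp_f, HomologicalComplex.comp_f, ← Category.assoc,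
        coneMap_inr, Category.assoc, Category.assoc, coneMap_inr]

/-- the natural map -/
noncomputable def killMap {A : Type u} [Category.{v} A] [Abelian A] [IsGrothendieckAbelian.{v} A]
    {ι : Type v} (K : ι → CochainComplex A ℤ) : 𝟭 (CochainComplex A ℤ) ⟶ killFunctor K where
  app M := mappingCone.inr (ev K M)
  naturality {M N} f := by
    ext n : 1
    exact (coneMap_inr (srcMap K f) f (srcMap_ev K f).symm n).symm

lemma acyclic_src {A : Type u} [Category.{v} A] [Abelian A] [IsGrothendieckAbelian.{v} A]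
    {ι : Type v} (K : ι → CochainComplex A ℤ) (hK : ∀ i (n : ℤ), Limits.IsZero ((K i).homology n))
    (M : CochainComplex A ℤ) (n : ℤ) : IsZero ((src K M).homology n) := by
  let X : (Σ i, K i ⟶ M) → CochainComplex A ℤ := fun p => K p.1
  let Z : (Σ i, K i ⟶ M) → CochainComplex A ℤ := fun _ => 0
  have hz : IsZero (0 : CochainComplex A ℤ) := isZero_zero _
  have hz' : ∀ n, IsZero ((0 : CochainComplex A ℤ).homology n) := fun n =>
    (HomologicalComplex.homologyFunctor A _ n).map_isZero hz
  let f : Discrete.functor Z ⟶ Discrete.functor X := Discrete.natTrans fun p => (hz.to_ _)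
  have hf : Groth.Agent.KInjRes.monoQis A (colimMap f) := MorphismProperty.colimMap f fun j =>
    ⟨⟨fun a b _ => hz.eq_of_tgt a b⟩, ⟨fun n => by
      rw [quasiIsoAt_iff_isIso_homologyMap]
      exact ⟨0, (hz' n).eq_of_src _ _, (hK j.as.1 n).eq_of_src _ _⟩⟩⟩
  haveI : QuasiIso (colimMap f) := hf.2
  have hs : IsZero (colimit (Discrete.functor Z)) := by
    rw [IsZero.iff_id_eq_zero]
    exact Limits.Sigma.hom_ext _ _ fun p => hz.eq_of_src _ _
  exact ((HomologicalComplex.homologyFunctor A _ n).map_isZero hs).of_iso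
    (asIso (HomologicalComplex.homologyMap (colimMap f) n)).symm

lemma isIso_inr {A : Type u} [Category.{v} A] [Abelian A] {X Y : CochainComplex A ℤ} (φ : X ⟶ Y)
    (h : ∀ n, IsZero (X.homology n)) (n : ℤ) :
    IsIso (HomologicalComplex.homologyMap (mappingCone.inr φ) n) := by
  have hT := HomotopyCategory.mappingCone_triangleh_distinguished φ
  let H := HomotopyCategory.homologyFunctor A (ComplexShape.up ℤ)
  have hz : ∀ m, IsZero ((H m).obj (mappingCone.triangleh φ).obj₁) := fun m =>
    (h m).of_iso ((HomotopyCategory.homologyFunctorFactors A _ m).app X)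
  haveI : Mono ((H n).map (mappingCone.triangleh φ).mor₂) :=
    ((H 0).homologySequence_exact₂ _ hT n).mono_g ((hz n).eq_of_src _ _)
  haveI : Epi ((H n).map (mappingCone.triangleh φ).mor₂) :=
    ((H 0).homologySequence_exact₃ _ hT n (n + 1) rfl).epi_f ((hz (n + 1)).eq_of_tgt _ _)
  haveI := isIso_of_mono_of_epi ((H n).map (mappingCone.triangleh φ).mor₂)
  exact (NatIso.isIso_map_iff (HomotopyCategory.homologyFunctorFactors A _ n) (mappingCone.inr φ)).1
    (show IsIso ((H n).map (mappingCone.triangleh φ).mor₂) from inferInstance)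


/-- In a Grothendieck abelian category A, given a small family (K_i) of acyclic cochain complexes, there
are an endofunctor N of the category of cochain complexes and a natural transformation j from the
identity to N such that for every complex M: each component of j_M is a monomorphism, j_M is a
quasi-isomorphism, and for every i and every morphism w : K_i -> M the composite w ≫ j_M is
homotopic to zero. -/
theorem result {A : Type u} [Category.{v} A] [Abelian A]
    [IsGrothendieckAbelian.{v} A] {ι : Type v} (K : ι → CochainComplex A ℤ)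
    (hK : ∀ i (n : ℤ), Limits.IsZero ((K i).homology n)) :
    ∃ (N : CochainComplex A ℤ ⥤ CochainComplex A ℤ) (j : 𝟭 _ ⟶ N),
      ∀ M : CochainComplex A ℤ, (∀ n : ℤ, Mono ((j.app M).f n)) ∧ QuasiIso (j.app M) ∧
        ∀ (i : ι) (w : K i ⟶ M), Nonempty (Homotopy (w ≫ j.app M) 0) := by
  refine ⟨killFunctor K, killMap K, fun M => ⟨fun n => ?_, ?_, fun i w => ?_⟩⟩
  · show Mono ((mappingCone.inr (ev K M)).f n)
    exact ⟨fun a b h => by
      have := congrArg (· ≫ (mappingCone.snd (ev K M)).v n n (add_zero n)) h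
      simpa using this⟩
  · let T := mappingCone.triangle (ev K M)
    show QuasiIso (mappingCone.inr (ev K M))
    refine ⟨fun n => ?_⟩
    rw [quasiIsoAt_iff_isIso_homologyMap]
    exact Groth.Agent.S0917.isIso_inr (ev K M) (acyclic_src K hK M) n
  · have hw : w = Limits.Sigma.ι (fun p : (Σ i, K i ⟶ M) => K p.1) ⟨i, w⟩ ≫ ev K M := by simp
    refine ⟨(Homotopy.ofEq ?_).trans
      (((HomologicalComplex.homotopyCofiber.inrCompHomotopy (ev K M)
        (fun j => ⟨j - 1, by simp⟩)).compLeft (Limits.Sigma.ι (fun p : (Σ i, K i ⟶ M) => K p.1) ⟨i, w⟩)).trans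
          (Homotopy.ofEq comp_zero))⟩
    conv_lhs => rw [hw, Category.assoc]
    rfl

end Groth.Agent.S0917
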