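import Groth.Statements.S0919
import Mathlib.CategoryTheory.Abelian.GrothendieckCategory.Basic
import Mathlib.CategoryTheory.Adjunction.AdjointFunctorTheorems
import Mathlib.CategoryTheory.Limits.Preserves.Opposites
import Mathlib.CategoryTheory.Limits.Yoneda
import Mathlib.CategoryTheory.Abelian.Subobject

set_option autoImplicit false
universe v u
open CategoryTheory
open CohDer

namespace Groth.Agent.S0919

open CategoryTheory.Limits in
/-- Let A be a Grothendieck abelian category and F a contravariant functor from A to sets (a functor on
the opposite category). Then F is representable if and only if F turns all small colimits of A into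
limits, i.e. preserves small limits as a functor on the opposite category. -/
theorem result {A : Type u} [Category.{v} A] [Abelian A]
    [IsGrothendieckAbelian.{v} A] (F : Aᵒᵖ ⥤ Type v) :
    F.IsRepresentable ↔ PreservesLimitsOfSize.{v, v} F := by
  constructor
  · intro h
    exact preservesLimits_of_natIso F.reprW
  · intro h
    haveI : PreservesColimitsOfSize.{v, v} F.rightOp := preservesColimitsOfSize_rightOp F
    haveI : F.rightOp.IsLeftAdjoint :=
      isLeftAdjoint_of_preservesColimits_of_isSeparating (isSeparator_separator A) F.rightOp
    let adj := Adjunction.ofIsLeftAdjoint F.rightOp
    refine Functor.RepresentableBy.isRepresentable (Y := F.rightOp.rightAdjoint.obj (Opposite.op PUnit))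
      { homEquiv := fun {X} => (adj.homEquiv X (Opposite.op PUnit)).symm.trans
          { toFun := fun g => g.unop PUnit.unit
            invFun := fun s => (TypeCat.ofHom fun _ => s).op
            left_inv := fun g => Quiver.Hom.unop_inj (by ext; rfl)
            right_inv := fun s => rfl }
        homEquiv_comp := fun {X X'} f g => ?_ }
    exact congrArg (fun h : F.rightOp.obj X ⟶ Opposite.op PUnit => h.unop PUnit.unit) (adj.homEquiv_naturality_left_symm f g)

end Groth.Agent.S0919
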