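import Groth.Statements.S0920
import Groth.Agent.Lead.LDerived.Pullback

set_option autoImplicit false
universe u
open CategoryTheory
attribute [local instance] HasDerivedCategory.standard
open DCoh

namespace Groth.Agent.S0920

open AlgebraicGeometry in
/-- For f : X -> Y and E in D(O_Y) represented by a complex of flat modules vanishing outside [a, b],
the derived pullback Lf^* E (under its existence binder) has tor-amplitude in [a, b]. -/
theorem result {X Y : Scheme.{u}} (f : X ⟶ Y) [DCoh.HasLpull f] (E : DCoh.D Y) (a b : ℤ)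
    (hE : DCoh.HasFlatAmplitudeIn a b E) : DCoh.HasTorAmplitudeIn a b ((DCoh.Lpull f).obj E) := by
  obtain ⟨P, hP, hflat, ⟨e⟩⟩ := hE
  have hK : DCoh.IsKFlat P := Groth.Agent.KFlatLib.isKFlat_of_bounded_above (Groth.Agent.KFlatLib.TX Y) P b
    (fun i hi => hP i (Or.inr hi)) (fun i => (Groth.Agent.KFlatLib.tflat_of_flatMod (hflat i)).2)
  obtain ⟨e'⟩ := Groth.Agent.Lead.LDerived.nonempty_lpullIso f P hK
  exact Groth.Agent.Lead.LDerived.torAmplitude_of_flatAmplitude _ a b
    ⟨_, fun i hi => Functor.map_isZero (Scheme.Modules.pullback f) (hP i hi),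
      fun i => Groth.Agent.Lead.LDerived.isFlat_pullback f (hflat i),
      ⟨e'.symm ≪≫ (DCoh.Lpull f).mapIso e⟩⟩


end Groth.Agent.S0920
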