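import Groth.Statements.S0934
import Groth.Agent.ModStalk.LocFreeDescent
import Groth.Agent.ModStalk.Lift

set_option autoImplicit false
universe u
open CategoryTheory
open Coh

namespace Groth.Agent.S0934

open AlgebraicGeometry in
/-- Schemes; E finite locally free, which on a scheme is locally the same as a direct summand of a
finite free module: let p : G -> F be an epimorphism of O_X-modules and φ : E -> F a morphism with E
finite locally free. Then every point has an open neighbourhood V and a morphism ψ : E|_V -> G|_V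
with ψ ≫ p|_V = φ|_V. -/
theorem result {X : Scheme.{u}} {E F G : X.Modules} (p : G ⟶ F) [Epi p] (φ : E ⟶ F)
    (hE : FlatMod.IsFinLocFree E) (x : X) :
    ∃ (V : X.Opens) (ψ : E.restrict V.ι ⟶ G.restrict V.ι), x ∈ V ∧
      ψ ≫ (Scheme.Modules.restrictFunctor V.ι).map p = (Scheme.Modules.restrictFunctor V.ι).map φ := by
  have : SheafOfModules.IsFiniteType (R := X.ringCatSheaf) E := Groth.Agent.ModStalk.isFiniteType_of_isFinLocFree E hE
  obtain ⟨hfree, hrank⟩ := Groth.Agent.ModStalk.free_stalk_of_isFinLocFree E hE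
  obtain ⟨U, n, s, hxU, hs⟩ := Groth.Agent.ModStalk.exists_basis_nhd E hfree hrank x
  choose V hVU hxV b hb using fun i => Groth.Agent.ModStalk.exists_local_lift p (φ.app U (s i)) x hxU
  let W : X.Opens := U ⊓ Finset.univ.inf V
  have hxW : x ∈ W := ⟨hxU, Finset.inf_induction (p := fun V : X.Opens => x ∈ V) trivial
    (fun _ h₁ _ h₂ => ⟨h₁, h₂⟩) fun i _ => hxV i⟩
  have hWU : W ≤ U := inf_le_left
  have hWV : ∀ i, W ≤ V i := fun i => inf_le_right.trans (Finset.inf_le (Finset.mem_univ i))
  let t : ULift.{u} (Fin n) → Γ(E, W) := fun i => E.presheaf.map (homOfLE hWU).op (s i.down)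
  obtain ⟨e, he⟩ := Groth.Agent.ModStalk.exists_over_iso_free' E t
    (fun y hy => by
      simp only [t, TopCat.Presheaf.germ_res_apply]
      rw [show (Set.range fun i : ULift.{u} (Fin n) => E.presheaf.germ U y (hWU hy) (s i.down)) =
        Set.range fun i => E.presheaf.germ U y (hWU hy) (s i) from
          Equiv.ulift.surjective.range_comp fun i => E.presheaf.germ U y (hWU hy) (s i)]
      exact (hs y (hWU hy)).1)
    fun y hy => by
      simp only [t, TopCat.Presheaf.germ_res_apply]
      exact (hs y (hWU hy)).2.comp _ Equiv.ulift.injective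
  let g : ULift.{u} (Fin n) → (SheafOfModules.over (R := X.ringCatSheaf) G W).sections := fun i =>
    PresheafOfModules.sectionsMk (fun Z => G.presheaf.map Z.unop.hom.op (G.presheaf.map (homOfLE (hWV i.down)).op (b i.down)))
      fun {Z Z'} f => by
        exact Groth.Agent.ModStalk.res_res G (leOfHom Z.unop.hom) (leOfHom f.unop.left) _
  let ψ₀ := e.hom ≫ (SheafOfModules.over (R := X.ringCatSheaf) G W).freeHomEquiv.symm g
  have h0 : ψ₀ ≫ (SheafOfModules.overFunctor X.ringCatSheaf W).map p =
      (SheafOfModules.overFunctor X.ringCatSheaf W).map φ := by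
    rw [← cancel_epi e.inv, Category.assoc, e.inv_hom_id_assoc, SheafOfModules.freeHomEquiv_symm_comp,
      Equiv.symm_apply_eq]
    funext i
    rw [SheafOfModules.freeHomEquiv_comp_apply]
    refine Subtype.ext (funext fun Z => ?_)
    show p.app Z.unop.left (G.presheaf.map Z.unop.hom.op (G.presheaf.map (homOfLE (hWV i.down)).op (b i.down))) =
      φ.app Z.unop.left (((SheafOfModules.over (R := X.ringCatSheaf) E W).freeHomEquiv e.inv i).eval Z)
    rw [he]
    erw [Groth.Agent.ModStalk.app_res p (leOfHom Z.unop.hom), Groth.Agent.ModStalk.app_res p (hWV i.down), hb,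
      Groth.Agent.ModStalk.app_res φ (leOfHom Z.unop.hom), Groth.Agent.ModStalk.app_res φ hWU,
      Groth.Agent.ModStalk.res_res, Groth.Agent.ModStalk.res_res, Groth.Agent.ModStalk.res_res]
    first | rfl | (rw [Groth.Agent.ModStalk.res_res]) | skip
  let η := Scheme.Modules.overFunctorEquiv W
  refine ⟨W, η.inv.app E ≫ (Scheme.Modules.overEquiv W).functor.map ψ₀ ≫ η.hom.app G, hxW, ?_⟩
  rw [Category.assoc, Category.assoc, ← η.hom.naturality p, Functor.comp_map, ← Functor.map_comp_assoc, h0,
    ← Functor.comp_map, η.hom.naturality φ, Iso.inv_hom_id_app_assoc]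

end Groth.Agent.S0934
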