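import Groth.Statements.S0935
import Groth.Agent.Lead.LDerived.RightTriangle
import Groth.Agent.Lead.LDerived.Adjunction

set_option autoImplicit false
universe u
open CategoryTheory
attribute [local instance] HasDerivedCategory.standard
open DCoh

namespace Groth.Agent.S0935

open AlgebraicGeometry CategoryTheory.Limits in
/-- Let f : X → Y be a morphism of schemes and (K_n)_{n ≥ 0} an inverse system in D(O_X) with derived
limit L. Then Rf_*L is a derived limit of the system (Rf_*K_n). Here Rf_* is the total right derived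
functor of f_* under its existence binder, and the two countable products ∏ K_n and ∏ Rf_*K_n are
assumed to exist. (The published statement is for morphisms of ringed spaces; stated here for
schemes.) -/
theorem result {X Y : Scheme.{u}} (f : X ⟶ Y) [DCoh.HasRpush f]
    (K : ℕ → DCoh.D X) (t : ∀ n, K (n + 1) ⟶ K n) [HasProduct K] [HasProduct fun n => (DCoh.Rpush f).obj (K n)]
    (L : DCoh.D X) (hL : DCoh.IsRlim K t L) :
    DCoh.IsRlim (fun n => (DCoh.Rpush f).obj (K n)) (fun n => (DCoh.Rpush f).map (t n)) ((DCoh.Rpush f).obj L) := by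
  open CategoryTheory.Pretriangulated in
  exact by
    haveI : DCoh.HasLpull f := Groth.Agent.KFlatLib.hasLpull f
    obtain ⟨adj⟩ := Groth.Agent.Lead.LDerived.nonempty_adjunction f
    haveI : PreservesLimitsOfSize.{0, 0} (DCoh.Rpush f) := adj.rightAdjoint_preservesLimits
    haveI : (DCoh.Rpush f).Additive := Functor.additive_of_preserves_binary_products _
    obtain ⟨a, c, hT⟩ := hL
    let β := (DCoh.pushKh f).totalRightDerivedUnit DerivedCategory.Qh
      (HomotopyCategory.quasiIso X.Modules (ComplexShape.up ℤ))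
    obtain ⟨c', hc'⟩ := Groth.Agent.Lead.LDerived.exists_map_distinguished
      (Groth.Agent.Lead.LDerived.exists_res_kInjective X) (DCoh.pushKh f) (DCoh.Rpush f) β _ hT
    let e : (DCoh.Rpush f).obj (∏ᶜ K) ≅ ∏ᶜ fun n => (DCoh.Rpush f).obj (K n) := PreservesProduct.iso (DCoh.Rpush f) K
    have he : ∀ n, e.hom ≫ Pi.π (fun n => (DCoh.Rpush f).obj (K n)) n = (DCoh.Rpush f).map (Pi.π K n) := fun n => by
      simp [e]
    refine ⟨(DCoh.Rpush f).map a ≫ e.hom, e.inv ≫ c', isomorphic_distinguished _ hc' _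
      (Triangle.isoMk _ _ (Iso.refl _) e.symm e.symm ?_ ?_ ?_)⟩
    · show ((DCoh.Rpush f).map a ≫ e.hom) ≫ e.inv = 𝟙 _ ≫ (DCoh.Rpush f).map a
      rw [Category.assoc, e.hom_inv_id, Category.comp_id, Category.id_comp]
    · show (Pi.lift fun n => Pi.π (fun n => (DCoh.Rpush f).obj (K n)) n -
          Pi.π (fun n => (DCoh.Rpush f).obj (K n)) (n + 1) ≫ (DCoh.Rpush f).map (t n)) ≫ e.inv =
        e.inv ≫ (DCoh.Rpush f).map (Pi.lift fun n => Pi.π K n - Pi.π K (n + 1) ≫ t n)
      rw [Iso.comp_inv_eq, Category.assoc, Iso.eq_inv_comp]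
      refine Pi.hom_ext _ _ fun n => ?_
      rw [Category.assoc, Category.assoc, he, Pi.lift_π, Preadditive.comp_sub, he, ← Functor.map_comp,
        Pi.lift_π, Functor.map_sub, Functor.map_comp, ← Category.assoc, he]
    · show (e.inv ≫ c') ≫ (shiftFunctor (DCoh.D Y) (1 : ℤ)).map (𝟙 ((DCoh.Rpush f).obj L)) = e.inv ≫ c'
      exact (congrArg (fun z => (e.inv ≫ c') ≫ z)
        ((shiftFunctor (DCoh.D Y) (1 : ℤ)).map_id ((DCoh.Rpush f).obj L))).trans (Category.comp_id _)

end Groth.Agent.S0935
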