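import Groth.Statements.S0960
import Groth.Agent.KFlatLib.TensorFlat
import Groth.Agent.KFlatLib.LCompute

set_option autoImplicit false
universe u
open CategoryTheory
attribute [local instance] HasDerivedCategory.standard
open DCoh

namespace Groth.Agent.S0960

open AlgebraicGeometry in
/-- Schemes; second factor given by a K-flat complex L, so that Lf^* L is the plain pullback f^* L: for
f : X -> Y, K in D(O_Y) and a K-flat complex L of O_Y-modules there is an isomorphism Lf^*(K ⊗^L L)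
≅ (Lf^* K) ⊗^L (f^* L). The derived functors are taken under their existence binders; the assertion
is the existence of an isomorphism for each K. -/
theorem result {X Y : Scheme.{u}} (f : X ⟶ Y) [DCoh.HasLpull f] (L : CochainComplex Y.Modules ℤ)
    (hL : DCoh.IsKFlat L) [DCoh.HasLTensorCx L] [DCoh.HasLTensorCx (((Scheme.Modules.pullback f).mapHomologicalComplex (ComplexShape.up ℤ)).obj L)] (K : DCoh.D Y) :
    Nonempty ((DCoh.Lpull f).obj ((DCoh.LTensorCx L).obj K) ≅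
      (DCoh.LTensorCx (((Scheme.Modules.pullback f).mapHomologicalComplex (ComplexShape.up ℤ)).obj L)).obj ((DCoh.Lpull f).obj K)) := by
  obtain ⟨P, q, hP, hq⟩ : ∃ (P : CochainComplex Y.Modules ℤ) (q : P ⟶ DerivedCategory.Q.objPreimage K),
      DCoh.IsKFlat P ∧ QuasiIso q :=
    let ⟨P, q, hP, hq⟩ := Groth.Agent.KFlatLib.exists_res_site (O := Y.sheaf) (DerivedCategory.Q.objPreimage K)
    ⟨P, q, (Groth.Agent.KFlatLib.dcoh_isKFlat_iff P).2 hP, hq⟩
  haveI : IsIso (DerivedCategory.Q.map q) := (DerivedCategory.isIso_Q_map_iff_quasiIso _ q).2 hq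
  let eK : DerivedCategory.Q.obj P ≅ K := asIso (DerivedCategory.Q.map q) ≪≫ DerivedCategory.Q.objObjPreimageIso K
  have hfl : ∀ {Z : Scheme.{u}} (R : CochainComplex Z.Modules ℤ), DCoh.IsKFlat R →
      Groth.Agent.KFlatLib.IsKFlat (Groth.Agent.KFlatLib.TX Z).flip R := fun {Z} R hR =>
    (Groth.Agent.KFlatLib.isKFlat_flip_iff (O := Z.sheaf) R).2 ((Groth.Agent.KFlatLib.dcoh_isKFlat_iff R).1 hR)
  obtain ⟨e₁⟩ := Groth.Agent.KFlatLib.nonempty_tensorCxIso L P (hfl P hP)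
  obtain ⟨e₂⟩ := Groth.Agent.KFlatLib.nonempty_lpullIso f _ (Groth.Agent.KFlatLib.isKFlat_tensor hP hL)
  obtain ⟨e₃⟩ := Groth.Agent.KFlatLib.nonempty_pullTotIso f P L
  obtain ⟨e₄⟩ := Groth.Agent.KFlatLib.nonempty_tensorCxIso
    (((Scheme.Modules.pullback f).mapHomologicalComplex (ComplexShape.up ℤ)).obj L) _
    (hfl _ (Groth.Agent.KFlatLib.isKFlat_pullback f P hP))
  obtain ⟨e₅⟩ := Groth.Agent.KFlatLib.nonempty_lpullIso f P hP
  exact ⟨(DCoh.Lpull f).mapIso ((DCoh.LTensorCx L).mapIso eK.symm ≪≫ e₁) ≪≫ e₂ ≪≫ DerivedCategory.Q.mapIso e₃.symm ≪≫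
    e₄.symm ≪≫ (DCoh.LTensorCx _).mapIso (e₅.symm ≪≫ (DCoh.Lpull f).mapIso eK)⟩

end Groth.Agent.S0960
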