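import Groth.Statements.S0962
import Groth.Agent.KFlatLib.PerfectTensor
import Groth.Agent.S0911

set_option autoImplicit false
universe u
open CategoryTheory
attribute [local instance] HasDerivedCategory.standard
open DCoh

namespace Groth.Agent.S0962

open AlgebraicGeometry in
/-- Schemes; second factor given by a K-flat complex representing a perfect object: if K in D(O_X) is
perfect and L is a K-flat complex with perfect image in D(O_X), then K ⊗^L L is perfect (derived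
tensor under its existence binder). -/
theorem result {X : Scheme.{u}} (L : CochainComplex X.Modules ℤ) (hL : DCoh.IsKFlat L)
    (hLp : DCoh.IsPerfect (DerivedCategory.Q.obj L)) [DCoh.HasLTensorCx L] (K : DCoh.D X) (hK : DCoh.IsPerfect K) :
    DCoh.IsPerfect ((DCoh.LTensorCx L).obj K) := by
  obtain ⟨P, q, hP, hq⟩ : ∃ (P : CochainComplex X.Modules ℤ) (q : P ⟶ DerivedCategory.Q.objPreimage K),
      DCoh.IsKFlat P ∧ QuasiIso q :=
    let ⟨P, q, hP, hq⟩ := Groth.Agent.KFlatLib.exists_res_site (O := X.sheaf) (DerivedCategory.Q.objPreimage K)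
    ⟨P, q, (Groth.Agent.KFlatLib.dcoh_isKFlat_iff P).2 hP, hq⟩
  haveI : IsIso (DerivedCategory.Q.map q) := (DerivedCategory.isIso_Q_map_iff_quasiIso _ q).2 hq
  let eK : DerivedCategory.Q.obj P ≅ K := asIso (DerivedCategory.Q.map q) ≪≫ DerivedCategory.Q.objObjPreimageIso K
  have hfl : ∀ {Z : Scheme.{u}} (R : CochainComplex Z.Modules ℤ), DCoh.IsKFlat R →
      Groth.Agent.KFlatLib.IsKFlat (Groth.Agent.KFlatLib.TX Z).flip R := fun {Z} R hR =>
    (Groth.Agent.KFlatLib.isKFlat_flip_iff (O := Z.sheaf) R).2 ((Groth.Agent.KFlatLib.dcoh_isKFlat_iff R).1 hR)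
  have hloc : ∀ {W : X.Opens} {V : X.Opens} (hle : W ≤ V) (R : CochainComplex X.Modules ℤ), DCoh.IsKFlat R →
      ∀ E : CochainComplex (V : Scheme.{u}).Modules ℤ, DCoh.IsStrictlyPerfect E →
      Nonempty (DerivedCategory.Q.obj ((DCoh.restrictCx V).obj R) ≅ DerivedCategory.Q.obj E) →
      ∃ E' : CochainComplex (W : Scheme.{u}).Modules ℤ, DCoh.IsStrictlyPerfect E' ∧
        Nonempty (DerivedCategory.Q.obj (((Scheme.Modules.pullback W.ι).mapHomologicalComplex (ComplexShape.up ℤ)).obj R) ≅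
          DerivedCategory.Q.obj E') := by
    intro W V hle R hR E hE hEe
    obtain ⟨e⟩ := hEe
    haveI := fun {A B : Scheme.{u}} (g : A ⟶ B) => Groth.Agent.KFlatLib.hasLpull g
    let w : (W : Scheme.{u}) ⟶ V := X.homOfLE hle
    obtain ⟨c⟩ := Groth.Agent.S0911.result w V.ι
    obtain ⟨i₁⟩ := Groth.Agent.KFlatLib.nonempty_lpullIso (w ≫ V.ι) R hR
    obtain ⟨i₂⟩ := Groth.Agent.KFlatLib.nonempty_lpullIso V.ι R hR
    obtain ⟨i₃⟩ := Groth.Agent.KFlatLib.nonempty_lpullIso w E (Groth.Agent.KFlatLib.isKFlat_of_strictlyPerfect hE)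
    have hw : w ≫ V.ι = W.ι := X.homOfLE_ι hle
    exact ⟨_, Groth.Agent.KFlatLib.isStrictlyPerfect_pullback w hE,
      ⟨DerivedCategory.Q.mapIso ((NatIso.mapHomologicalComplex (Scheme.Modules.pullbackCongr hw.symm) _).app R) ≪≫
        i₁.symm ≪≫ (c.app _).symm ≪≫ (DCoh.Lpull w).mapIso (i₂ ≪≫ DerivedCategory.Q.mapIso
          ((NatIso.mapHomologicalComplex (Scheme.Modules.restrictFunctorIsoPullback V.ι).symm _).app R) ≪≫ e) ≪≫ i₃⟩⟩
  intro x
  obtain ⟨V₁, hx₁, h₁⟩ := hK x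
  obtain ⟨V₂, hx₂, h₂⟩ := hLp x
  obtain ⟨E₁, hE₁, he₁⟩ := h₁ P ⟨eK⟩
  obtain ⟨E₂, hE₂, he₂⟩ := h₂ L ⟨Iso.refl _⟩
  obtain ⟨A, hA, ⟨a⟩⟩ := hloc (inf_le_left : V₁ ⊓ V₂ ≤ V₁) P hP E₁ hE₁ he₁
  obtain ⟨B, hB, ⟨b⟩⟩ := hloc (inf_le_right : V₁ ⊓ V₂ ≤ V₂) L hL E₂ hE₂ he₂
  let W := V₁ ⊓ V₂
  refine ⟨W, ⟨hx₁, hx₂⟩, fun F hF => ⟨_, Groth.Agent.KFlatLib.isStrictlyPerfect_tensor hA hB, ?_⟩⟩
  obtain ⟨eF⟩ := hF
  obtain ⟨e₁⟩ := Groth.Agent.KFlatLib.nonempty_tensorCxIso L P (hfl P hP)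
  obtain ⟨e₃⟩ := Groth.Agent.KFlatLib.nonempty_pullTotIso W.ι P L
  let Lw := ((Scheme.Modules.pullback W.ι).mapHomologicalComplex (ComplexShape.up ℤ)).obj L
  haveI := Groth.Agent.KFlatLib.hasLTensorCx Lw
  obtain ⟨e₄⟩ := Groth.Agent.KFlatLib.nonempty_tensorCxIso Lw _
    (hfl _ (Groth.Agent.KFlatLib.isKFlat_pullback W.ι P hP))
  have hAk := Groth.Agent.KFlatLib.isKFlat_of_strictlyPerfect hA
  obtain ⟨e₅⟩ := Groth.Agent.KFlatLib.nonempty_tensorCxIso Lw A (hfl A hAk)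
  obtain ⟨e₆⟩ := Groth.Agent.KFlatLib.nonempty_tensor_congr hAk b
  let G := Scheme.Modules.restrictFunctor W.ι
  haveI : Limits.PreservesFiniteLimits G := G.preservesFiniteLimits_of_preservesHomology
  haveI : Limits.PreservesFiniteColimits G := G.preservesFiniteColimits_of_preservesHomology
  exact ⟨(G.mapDerivedCategoryFactors.app F).symm ≪≫
    G.mapDerivedCategory.mapIso (eF ≪≫ (DCoh.LTensorCx L).mapIso eK.symm ≪≫ e₁) ≪≫
    G.mapDerivedCategoryFactors.app _ ≪≫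
    DerivedCategory.Q.mapIso
      ((NatIso.mapHomologicalComplex (Scheme.Modules.restrictFunctorIsoPullback W.ι) _).app _ ≪≫ e₃.symm) ≪≫
    e₄.symm ≪≫ (DCoh.LTensorCx Lw).mapIso a ≪≫ e₅ ≪≫ e₆⟩

end Groth.Agent.S0962
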