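import Groth.Statements.S0973
import Groth.Agent.DerAdj.Basic

set_option autoImplicit false
universe w v u
open CategoryTheory CategoryTheory.Limits
open CohDer

namespace Groth.Agent.S0973

/-- Let K be an object of the derived category of an abelian category with cohomology concentrated in
degrees a, …, b. Suppose that for all i > j and p ≥ 2 every morphism H^i(K) ⟶ H^j(K)[p] in the
derived category (an element of Ext^p) vanishes. Then K splits: it is isomorphic to ⨁_{a ≤ i ≤ b}
Hⁱ(K)[-i]. -/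
theorem result {A : Type u} [Category.{v} A] [Abelian A] [HasDerivedCategory.{w} A]
    (K : DerivedCategory A) (a b : ℤ) [K.IsGE a] [K.IsLE b]
    (hExt : ∀ (i j : ℤ) (p : ℕ), j < i → 2 ≤ p →
      ∀ f : (DerivedCategory.singleFunctor A 0).obj ((DerivedCategory.homologyFunctor A i).obj K) ⟶
        ((DerivedCategory.singleFunctor A 0).obj ((DerivedCategory.homologyFunctor A j).obj K))⟦(p : ℤ)⟧, f = 0)
    [HasBiproduct (fun i : Finset.Icc a b => (DerivedCategory.singleFunctor A (i : ℤ)).obj ((DerivedCategory.homologyFunctor A (i : ℤ)).obj K))] :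
    Nonempty (K ≅ ⨁ (fun i : Finset.Icc a b => (DerivedCategory.singleFunctor A (i : ℤ)).obj ((DerivedCategory.homologyFunctor A (i : ℤ)).obj K))) := by
  classical
  let H := fun i : ℤ => DerivedCategory.homologyFunctor A i
  let S := DerivedCategory.singleFunctor A
  let t := (DerivedCategory.TStructure.t (C := A))
  have hsingle : ∀ i j : ℤ, j < i → ∀ g : (S i).obj ((H i).obj K) ⟶ ((S j).obj ((H j).obj K))⟦(1 : ℤ)⟧, g = 0 := by
    intro i j hji g
    obtain ⟨p, hp⟩ : ∃ p : ℕ, (p : ℤ) = i - j + 1 := ⟨(i - j + 1).toNat, by omega⟩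
    let e₁ := ((DerivedCategory.singleFunctors A).shiftIso i 0 i (by omega)).app ((H i).obj K)
    let e₂ := ((DerivedCategory.singleFunctors A).shiftIso 1 (j - 1) j (by omega)).app ((H j).obj K)
    let e₃ := ((DerivedCategory.singleFunctors A).shiftIso i (-(p : ℤ)) (j - 1) (by omega)).app ((H j).obj K)
    let e₄ := ((DerivedCategory.singleFunctors A).shiftIso (p : ℤ) (-(p : ℤ)) 0 (by omega)).app ((H j).obj K)
    apply (shiftFunctor (DerivedCategory A) i).map_injective
    rw [Functor.map_zero, ← cancel_epi e₁.inv,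
      ← cancel_mono ((shiftFunctor (DerivedCategory A) i).map e₂.hom ≫ e₃.hom ≫ e₄.inv), comp_zero, zero_comp]
    exact hExt i j p hji (by omega) _
  have hvan : ∀ (k : ℕ) (i : ℤ) (X : DerivedCategory A) (c : ℤ), X.IsGE a → X.IsLE c → c < i → c < a + k →
      (∀ j, a ≤ j → j ≤ c → Nonempty ((H j).obj X ≅ (H j).obj K)) →
      ∀ φ : (S i).obj ((H i).obj K) ⟶ X⟦(1 : ℤ)⟧, φ = 0 := by
    intro k
    induction k with
    | zero =>
      intro i X c ha hc _ hk _ φ
      have hz : IsZero X := (IsZero.iff_id_eq_zero X).2 (t.zero_of_isLE_of_isGE _ c a (by simpa using hk) hc ha)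
      exact ((shiftFunctor (DerivedCategory A) (1 : ℤ)).map_isZero hz).eq_of_tgt _ _
    | succ k ih =>
      intro i X c ha hc hci hk hX φ
      by_cases hlt : c < a + k
      · exact ih i X c ha hc hci hlt hX φ
      have hce : c = a + k := by omega
      subst hce
      obtain ⟨T, hT, rfl, h₁, h₃⟩ := Groth.Agent.DerAdj.exists_truncTriangle X (a + k)
      haveI := h₃
      haveI := h₁
      haveI := Groth.Agent.DerAdj.isLE_obj₃ hT (a + k) _ h₁ h₃ hc
      obtain ⟨M, ⟨e⟩⟩ := DerivedCategory.exists_iso_singleFunctor_obj_of_isGE_of_isLE T.obj₃ (a + k)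
      haveI := Groth.Agent.DerAdj.isIso_mor₂ hT (a + k) (DerivedCategory.isZero_of_isLE T.obj₁ (a + k - 1) (a + k) (by omega))
        (DerivedCategory.isZero_of_isLE T.obj₁ (a + k - 1) (a + k + 1) (by omega))
      obtain ⟨eK⟩ := hX (a + k) (by omega) le_rfl
      let eM : M ≅ (H (a + k)).obj K :=
        ((DerivedCategory.singleFunctorCompHomologyFunctorIso A (a + k)).app M).symm ≪≫ (H (a + k)).mapIso e.symm ≪≫
          (asIso ((H (a + k)).map T.mor₂)).symm ≪≫ eK
      have h3 : φ ≫ (shiftFunctor (DerivedCategory A) (1 : ℤ)).map T.mor₂ = 0 := by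
        rw [← cancel_mono ((shiftFunctor (DerivedCategory A) (1 : ℤ)).map (e.hom ≫ (S (a + k)).map eM.hom)), zero_comp]
        exact hsingle i (a + k) hci _
      obtain ⟨ψ, hψ⟩ := Pretriangulated.Triangle.coyoneda_exact₂ _
        (Pretriangulated.Triangle.shift_distinguished T hT 1) φ
        (by
          show φ ≫ ((1 : ℤ).negOnePow • (shiftFunctor (DerivedCategory A) (1 : ℤ)).map T.mor₂) = 0
          simp [h3, Units.smul_def])
      rw [hψ]
      refine (congrArg (· ≫ _) (ih i T.obj₁ (a + k - 1) (Groth.Agent.DerAdj.isGE_obj₁ hT a _ h₁ h₃ ha) h₁ (by omega) (by omega)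
        (fun j hj hj' => ?_) ψ)).trans zero_comp
      haveI := Groth.Agent.DerAdj.isIso_mor₁ hT j (DerivedCategory.isZero_of_isGE T.obj₃ (a + k) (j - 1) (by omega))
        (DerivedCategory.isZero_of_isGE T.obj₃ (a + k) j (by omega))
      obtain ⟨ej⟩ := hX j hj (by omega)
      exact ⟨asIso ((H j).map T.mor₁) ≪≫ ej⟩
  have hsec : ∀ i : ℤ, a ≤ i → ∃ s : (S i).obj ((H i).obj K) ⟶ K, IsIso ((H i).map s) := by
    intro i hai
    obtain ⟨T, hT, hobj, h₁, h₃⟩ := Groth.Agent.DerAdj.exists_truncTriangle K (i + 1)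
    obtain ⟨X, K', Y, f, g, w⟩ := T
    subst hobj
    haveI := h₁
    haveI := h₃
    haveI hf := Groth.Agent.DerAdj.isIso_mor₁ hT i (DerivedCategory.isZero_of_isGE Y (i + 1) (i - 1) (by omega))
      (DerivedCategory.isZero_of_isGE Y (i + 1) i (by omega))
    have hXa : X.IsGE a := Groth.Agent.DerAdj.isGE_obj₁ hT a _ h₁ h₃ ‹_›
    obtain ⟨T', hT', hobj', h₁', h₃'⟩ := Groth.Agent.DerAdj.exists_truncTriangle X i
    obtain ⟨X', X₂, Y', f', g', w'⟩ := T'
    subst hobj'
    haveI := h₁'
    haveI := h₃'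
    haveI : X₂.IsLE i := t.isLE_of_le X₂ (i + 1 - 1) i (by omega)
    haveI := Groth.Agent.DerAdj.isLE_obj₃ hT' i _ h₁' h₃' ‹_›
    obtain ⟨M, ⟨e⟩⟩ := DerivedCategory.exists_iso_singleFunctor_obj_of_isGE_of_isLE Y' i
    haveI hg' := Groth.Agent.DerAdj.isIso_mor₂ hT' i (DerivedCategory.isZero_of_isLE X' (i - 1) i (by omega))
      (DerivedCategory.isZero_of_isLE X' (i - 1) (i + 1) (by omega))
    let eM : (H i).obj K' ≅ M :=
      (asIso ((H i).map f)).symm ≪≫ asIso ((H i).map g') ≪≫ (H i).mapIso e ≪≫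
        (DerivedCategory.singleFunctorCompHomologyFunctorIso A i).app M
    let u : (S i).obj ((H i).obj K') ⟶ Y' := (S i).map eM.hom ≫ e.inv
    have hu : u ≫ w' = 0 := hvan (i - 1 - a + 1).toNat i X' (i - 1) (Groth.Agent.DerAdj.isGE_obj₁ hT' a _ h₁' h₃' hXa) h₁'
      (by omega) (by omega) (fun j hj hj' => by
        haveI := Groth.Agent.DerAdj.isIso_mor₁ hT' j (DerivedCategory.isZero_of_isGE Y' i (j - 1) (by omega))
          (DerivedCategory.isZero_of_isGE Y' i j (by omega))
        haveI := Groth.Agent.DerAdj.isIso_mor₁ hT j (DerivedCategory.isZero_of_isGE Y (i + 1) (j - 1) (by omega))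
          (DerivedCategory.isZero_of_isGE Y (i + 1) j (by omega))
        exact ⟨asIso ((H j).map f') ≪≫ asIso ((H j).map f)⟩) _
    obtain ⟨l, hl⟩ : ∃ l : (S i).obj ((H i).obj K') ⟶ X₂, u = l ≫ g' :=
      Pretriangulated.Triangle.coyoneda_exact₃ _ hT' u hu
    haveI : IsIso ((H i).map u) := inferInstance
    haveI : IsIso ((H i).map l ≫ (H i).map g') := by rw [← Functor.map_comp, ← hl]; infer_instance
    haveI hgi : IsIso ((H i).map g') := hg'
    haveI : IsIso ((H i).map l) := IsIso.of_isIso_comp_right _ ((H i).map g')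
    haveI hfi : IsIso ((H i).map f) := hf
    exact ⟨l ≫ f, by rw [Functor.map_comp]; infer_instance⟩
  let F := fun i : Finset.Icc a b => (S (i : ℤ)).obj ((H (i : ℤ)).obj K)
  choose s hs using fun i : Finset.Icc a b => hsec (i : ℤ) (Finset.mem_Icc.1 i.2).1
  let φ : ⨁ F ⟶ K := biproduct.desc s
  haveI : IsIso φ := by
    rw [DerivedCategory.isIso_iff]
    intro n
    have hne : ∀ (j : Finset.Icc a b), (j : ℤ) ≠ n → IsZero ((H n).obj (F j)) := fun j hj => by
      rcases lt_or_gt_of_ne hj with h | h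
      · exact DerivedCategory.isZero_of_isLE ((S (j : ℤ)).obj ((H (j : ℤ)).obj K)) (j : ℤ) n h
      · exact DerivedCategory.isZero_of_isGE ((S (j : ℤ)).obj ((H (j : ℤ)).obj K)) (j : ℤ) n h
    have htot : ∑ j : Finset.Icc a b, (H n).map (biproduct.π F j) ≫ (H n).map (biproduct.ι F j) = 𝟙 _ := by
      simp only [← Functor.map_comp, ← Functor.map_sum, biproduct.total, CategoryTheory.Functor.map_id]
    by_cases hn : n ∈ Finset.Icc a b
    · let j₀ : Finset.Icc a b := ⟨n, hn⟩
      haveI : IsIso ((H n).map (biproduct.ι F j₀)) := ⟨(H n).map (biproduct.π F j₀),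
        by rw [← Functor.map_comp, biproduct.ι_π_self, CategoryTheory.Functor.map_id],
        by
          rw [← htot, Finset.sum_eq_single j₀ (fun j _ hj => ?_) (fun h => absurd (Finset.mem_univ _) h)]
          exact (hne j fun h => hj (Subtype.ext h)).eq_of_tgt ((H n).map (biproduct.π F j)) 0 ▸ zero_comp⟩
      haveI : IsIso ((H n).map (s j₀)) := hs j₀
      haveI : IsIso ((H n).map (biproduct.ι F j₀) ≫ (H n).map φ) := by
        rw [← Functor.map_comp, biproduct.ι_desc]; infer_instance
      exact IsIso.of_isIso_comp_left ((H n).map (biproduct.ι F j₀)) _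
    · have hB : IsZero ((H n).obj (⨁ F)) := by
        rw [IsZero.iff_id_eq_zero, ← htot]
        refine Finset.sum_eq_zero fun j _ => ?_
        rw [(hne j fun h => hn (h ▸ j.2)).eq_of_tgt ((H n).map (biproduct.π F j)) 0, zero_comp]
      have hK : IsZero ((H n).obj K) := by
        rcases lt_or_ge n a with h | h
        · exact DerivedCategory.isZero_of_isGE K a n h
        · exact DerivedCategory.isZero_of_isLE K b n (by
            by_contra hb; exact hn (Finset.mem_Icc.2 ⟨h, not_lt.1 hb⟩))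
      exact isIso_of_source_target_iso_zero _ hB.isoZero hK.isoZero
  exact ⟨(asIso φ).symm⟩

end Groth.Agent.S0973
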