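import Groth.Statements.S0977
import Mathlib

set_option autoImplicit false
universe v u
open CategoryTheory
open CohDer

namespace Groth.Agent.S0977

open CategoryTheory.Pretriangulated in
/-- The equivalence A ≃ D/B: let A and B be strictly full triangulated subcategories of a triangulated
category D such that every morphism from an object of A to an object of B is zero and every object X
of D sits in a distinguished triangle a → X → b → a[1] with a in A and b in B. Then the composite of
the inclusion of A with the Verdier quotient functor D → D/B (the localization at the morphisms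
whose cone lies in B) is an equivalence. -/
theorem result {D : Type u} [Category.{v} D] [Preadditive D] [Limits.HasZeroObject D] [HasShift D ℤ]
    [∀ n : ℤ, (shiftFunctor D n).Additive] [Pretriangulated D] [IsTriangulated D]
    (A B : ObjectProperty D) [A.IsTriangulated] [A.IsClosedUnderIsomorphisms]
    [B.IsTriangulated] [B.IsClosedUnderIsomorphisms]
    (hAB : ∀ (a b : D), A a → B b → ∀ f : a ⟶ b, f = 0)
    (hdec : ∀ X : D, ∃ (a b : D) (f : a ⟶ X) (g : X ⟶ b) (h : b ⟶ (shiftFunctor D (1 : ℤ)).obj a),
      Triangle.mk f g h ∈ distinguishedTriangles ∧ A a ∧ B b) :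
    (A.ι ⋙ B.trW.Q).IsEquivalence := by
  let Q := B.trW.Q
  have hbij : ∀ (a : D), A a → ∀ (X : D), Function.Bijective (Q.map : (a ⟶ X) → _) := by
    intro a ha X
    have hkey : ∀ {Z : D} (s : X ⟶ Z), B.trW s → Function.Bijective (fun f : a ⟶ X => f ≫ s) := by
      intro Z s hs
      obtain ⟨C, g, h, hT, hC⟩ := hs
      constructor
      · intro f f' hf
        rw [← sub_eq_zero]
        have h0 : (f - f') ≫ s = 0 := by
          rw [Preadditive.sub_comp]; exact sub_eq_zero.2 hf
        obtain ⟨φ, hφ⟩ := Pretriangulated.Triangle.coyoneda_exact₂ _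
          (Pretriangulated.inv_rot_of_distTriang _ hT) (f - f') h0
        rw [hφ]
        exact (congrArg (fun t => t ≫ _) (hAB a _ ha (B.le_shift (-1 : ℤ) _ hC) φ)).trans Limits.zero_comp
      · intro g'
        obtain ⟨φ, hφ⟩ := Pretriangulated.Triangle.coyoneda_exact₂ _ hT g' (hAB a _ ha hC _)
        exact ⟨φ, hφ.symm⟩
    constructor
    · intro f f' hf
      obtain ⟨Z, s, hs, he⟩ := (MorphismProperty.map_eq_iff_postcomp Q B.trW f f').1 hf
      exact (hkey s hs).1 he
    · intro φ
      obtain ⟨z, hz⟩ := Localization.exists_leftFraction Q B.trW φ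
      obtain ⟨f, hf⟩ := (hkey z.s z.hs).2 z.f
      refine ⟨f, ?_⟩
      rw [hz, MorphismProperty.LeftFraction.map_eq, ← hf]
      simp
  haveI : (A.ι ⋙ Q).Faithful := ⟨fun {X Y} f g h => A.ι.map_injective ((hbij _ X.2 _).1 h)⟩
  haveI : (A.ι ⋙ Q).Full := ⟨fun {X Y} φ => by
    obtain ⟨f, hf⟩ := (hbij _ X.2 _).2 φ
    exact ⟨ObjectProperty.homMk f, hf⟩⟩
  haveI : (A.ι ⋙ Q).EssSurj := ⟨fun Y => by
    haveI := Localization.essSurj Q B.trW
    obtain ⟨a, b, f, g, h, hT, ha, hb⟩ := hdec (Q.objPreimage Y)
    haveI := Localization.inverts Q B.trW f ⟨b, g, h, hT, hb⟩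
    exact ⟨⟨a, ha⟩, ⟨asIso (Q.map f) ≪≫ Q.objObjPreimageIso Y⟩⟩⟩
  exact { }

end Groth.Agent.S0977
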