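import Groth.Statements.S0982
import Groth.Agent.TruncFactor.Basic

set_option autoImplicit false
universe w v u
open CategoryTheory CategoryTheory.Limits
open CohDer

namespace Groth.Agent.S0982

/-- Let K : ℕ ⥤ CochainComplex A ℤ be a sequence of cochain maps K₀ → K₁ → K₂ → … in an abelian category
with Hⁱ(K₀) = 0 for i > 0 and such that for every j < n the map H⁻ʲ(Kⱼ) → H⁻ʲ(Kⱼ₊₁) is zero. Then in
the derived category the composite K₀ → Kₙ factors through the canonical truncation τ_{≤ -n}Kₙ → Kₙ. -/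
theorem result {A : Type u} [Category.{v} A] [Abelian A] [HasDerivedCategory.{w} A]
    (K : ℕ ⥤ CochainComplex A ℤ) (n : ℕ)
    (h0 : ∀ i : ℤ, 0 < i → IsZero ((K.obj 0).homology i))
    (hz : ∀ j : ℕ, j < n → HomologicalComplex.homologyMap (K.map (homOfLE (Nat.le_succ j))) (-(j : ℤ)) = 0) :
    ∃ φ : DerivedCategory.Q.obj (K.obj 0) ⟶ DerivedCategory.Q.obj ((K.obj n).truncLE (-(n : ℤ))),
      φ ≫ DerivedCategory.Q.map ((K.obj n).ιTruncLE (-(n : ℤ))) = DerivedCategory.Q.map (K.map (homOfLE (Nat.zero_le n))) := by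
  let H := fun i : ℤ => DerivedCategory.homologyFunctor A i
  let Q := (DerivedCategory.Q : CochainComplex A ℤ ⥤ DerivedCategory A)
  have key : ∀ j : ℕ, j ≤ n → ∃ (Z : DerivedCategory A) (a : Q.obj (K.obj 0) ⟶ Z) (b : Z ⟶ Q.obj (K.obj j)),
      Z.IsLE (-(j : ℤ)) ∧ a ≫ b = Q.map (K.map (homOfLE (Nat.zero_le j))) := by
    intro j
    induction j with
    | zero =>
      refine fun _ => ⟨_, 𝟙 _, 𝟙 _, (DerivedCategory.isLE_iff _ _).2 fun i hi => ?_, ?_⟩
      · exact (h0 i (by omega)).of_iso ((DerivedCategory.homologyFunctorFactors A i).app (K.obj 0))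
      · rw [show homOfLE (Nat.zero_le 0) = 𝟙 (0 : ℕ) from Subsingleton.elim _ _, CategoryTheory.Functor.map_id,
          CategoryTheory.Functor.map_id, Category.comp_id]
    | succ j ih =>
      intro hj
      obtain ⟨Z, a, b, hZ, hab⟩ := ih (by omega)
      obtain ⟨T, hT, hobj, h₁, h₃⟩ := Groth.Agent.DerAdj.exists_truncTriangle (Q.obj (K.obj (j + 1))) (-(j : ℤ))
      obtain ⟨T₁, T₂, T₃, f, g, w⟩ := T
      subst hobj
      have hk : (H (-(j : ℤ))).map (Q.map (K.map (homOfLE (Nat.le_succ j)))) = 0 := by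
        rw [← cancel_mono ((DerivedCategory.homologyFunctorFactors A (-(j : ℤ))).hom.app _), zero_comp]
        refine ((DerivedCategory.homologyFunctorFactors A (-(j : ℤ))).hom.naturality _).trans ?_
        exact (congrArg (_ ≫ ·) (hz j (by omega))).trans comp_zero
      obtain ⟨l, hl⟩ := Pretriangulated.Triangle.coyoneda_exact₂ _ hT (b ≫ Q.map (K.map (homOfLE (Nat.le_succ j))))
        (Groth.Agent.TruncFactor.eq_zero_of_homology (-(j : ℤ)) hZ h₃ _ (by
          rw [Functor.map_comp, Functor.map_comp, hk, comp_zero, zero_comp]))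
      refine ⟨T₁, a ≫ l, f, ?_, ?_⟩
      · haveI := h₁
        exact DerivedCategory.TStructure.t.isLE_of_le T₁ (-(j : ℤ) - 1) _ (by omega)
      · refine (Category.assoc _ _ _).trans ((congrArg (a ≫ ·) hl.symm).trans ?_)
        show a ≫ b ≫ Q.map _ = _
        rw [reassoc_of% hab, ← Functor.map_comp, ← Functor.map_comp]
        rfl
  obtain ⟨Z, a, b, hZ, hab⟩ := key n le_rfl
  obtain ⟨ψ, hψ⟩ := Groth.Agent.TruncFactor.exists_lift_truncLE _ hZ (K.obj n) b
  exact ⟨a ≫ ψ, by rw [Category.assoc, hψ, hab]⟩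

end Groth.Agent.S0982
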