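import Groth.Statements.S0985
import Groth.Agent.SeqColim.ShortExact
import Mathlib.Algebra.Homology.GrothendieckAbelian
import Mathlib.Algebra.Homology.DerivedCategory.ShortExact

set_option autoImplicit false
universe w v u
open CategoryTheory CategoryTheory.Limits
open DerLim

namespace Groth.Agent.S0985

/-- Let A be an abelian category in which colimits of sequences ℕ ⥤ A exist and are exact, and let L : ℕ
⥤ CochainComplex A ℤ be a sequence of complexes. Then the image in the derived category of the
termwise colimit of L, with the canonical maps from the Lₙ, is a homotopy colimit of the images of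
the Lₙ — assuming the termwise direct sum of the Lₙ exists and is preserved by the localization
functor to D(A) (a known result, carried here as a hypothesis rather than proved), and that the
direct sum of the images exists in D(A). -/
theorem result {A : Type u} [Category.{v} A] [Abelian A] [HasDerivedCategory.{w} A]
    [HasColimitsOfShape ℕ A] [HasExactColimitsOfShape ℕ A]
    (L : ℕ ⥤ CochainComplex A ℤ) [HasCoproduct L.obj] [PreservesColimit (Discrete.functor L.obj) (DerivedCategory.Q (C := A))]
    [HasCoproduct (fun n => DerivedCategory.Q.obj (L.obj n))] :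
    DerLim.IsHocolim (fun n => DerivedCategory.Q.obj (L.obj n)) (fun n => DerivedCategory.Q.map (L.map (homOfLE (Nat.le_succ n))))
      (DerivedCategory.Q.obj (colimit L)) (fun n => DerivedCategory.Q.map (colimit.ι L n)) := by
  let a : (∐ L.obj) ⟶ ∐ L.obj :=
    𝟙 _ - Sigma.desc fun n => L.map (homOfLE (Nat.le_succ n)) ≫ Sigma.ι L.obj (n + 1)
  obtain ⟨w, hw⟩ := Groth.Agent.SeqColim.ShortExact.shortExact L a (fun n => by
    simp only [a, Preadditive.comp_sub, Category.comp_id, Sigma.ι_desc])
  let c : DerivedCategory.Q.obj (∐ L.obj) ≅ ∐ fun n => DerivedCategory.Q.obj (L.obj n) :=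
    PreservesCoproduct.iso DerivedCategory.Q L.obj
  have hc : ∀ n, Sigma.ι (fun n => DerivedCategory.Q.obj (L.obj n)) n ≫ c.inv =
      DerivedCategory.Q.map (Sigma.ι L.obj n) := fun n => by simp [c]
  refine ⟨DerivedCategory.triangleOfSESδ hw ≫ c.hom⟦(1 : ℤ)⟧', ?_⟩
  refine Pretriangulated.isomorphic_distinguished _ (DerivedCategory.triangleOfSES_distinguished hw) _
    (Pretriangulated.Triangle.isoMk _ _ c.symm c.symm (Iso.refl _) ?_ ?_ ?_)
  · change (𝟙 _ - DerLim.shiftMap _ _) ≫ c.inv = c.inv ≫ DerivedCategory.Q.map a
    refine Sigma.hom_ext _ _ fun n => ?_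
    rw [← Category.assoc, Preadditive.comp_sub, Category.comp_id, DerLim.shiftMap, Sigma.ι_desc,
      Preadditive.sub_comp, Category.assoc, hc, hc, reassoc_of% (hc n), ← Functor.map_comp,
      ← Functor.map_comp, ← Functor.map_sub]
    congr 1
    simp only [a, Preadditive.comp_sub, Category.comp_id, Sigma.ι_desc]
  · change (Sigma.desc fun n => DerivedCategory.Q.map (colimit.ι L n)) ≫ 𝟙 _ =
      c.inv ≫ DerivedCategory.Q.map (Sigma.desc fun n => colimit.ι L n)
    refine Sigma.hom_ext _ _ fun n => ?_
    rw [Category.comp_id, Sigma.ι_desc, reassoc_of% (hc n), ← Functor.map_comp, Sigma.ι_desc]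
  · change (DerivedCategory.triangleOfSESδ hw ≫ c.hom⟦(1 : ℤ)⟧') ≫ c.inv⟦(1 : ℤ)⟧' =
      𝟙 _ ≫ DerivedCategory.triangleOfSESδ hw
    rw [Category.assoc, ← Functor.map_comp, Iso.hom_inv_id, CategoryTheory.Functor.map_id,
      Category.comp_id, Category.id_comp]

end Groth.Agent.S0985
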