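import Groth.Statements.S0991
import Groth.Agent.KInjRes.DerivedCat
import Groth.Agent.DerAdj.Basic

set_option autoImplicit false
universe w w' v v' u u'
open CategoryTheory CategoryTheory.Limits
open CohDer

namespace Groth.Agent.S0991

/-- Let P be a Serre class in an abelian category A and v : A ⥤ Q an exact localization at the morphisms
with kernel and cokernel in P (a model of A/P). Suppose v has a left adjoint u whose unit 𝟭 ⟶ u ⋙ v
is an isomorphism. Then the induced functor D(A) ⥤ D(Q) is a localization at the class of morphisms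
whose cone has all cohomology objects in P; that is, D(Q) is the Verdier quotient D(A)/D_P(A). -/
theorem result {A : Type u} [Category.{v} A] [Abelian A] [HasDerivedCategory.{w} A]
    (P : ObjectProperty A) [P.IsSerreClass]
    {Q : Type u'} [Category.{v'} Q] [Abelian Q] [HasDerivedCategory.{w'} Q]
    (v : A ⥤ Q) [v.IsLocalization P.isoModSerre] [v.Additive] [PreservesFiniteLimits v] [PreservesFiniteColimits v]
    (u : Q ⥤ A) (adj : u ⊣ v) [IsIso adj.unit] :
    v.mapDerivedCategory.IsLocalization
      (ObjectProperty.trW (fun X : DerivedCategory A => ∀ n : ℤ, P ((DerivedCategory.homologyFunctor A n).obj X))) := by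
  haveI : u.Additive := adj.left_adjoint_additive
  let vC := v.mapHomologicalComplex (ComplexShape.up ℤ)
  let uC := u.mapHomologicalComplex (ComplexShape.up ℤ)
  let adjC : uC ⊣ vC := Groth.Agent.KInjRes.mapHCAdj adj _
  haveI : IsIso adjC.unit := by
    haveI : ∀ K, IsIso (adjC.unit.app K) := fun K => by
      haveI : ∀ i, IsIso ((adjC.unit.app K).f i) := fun i =>
        inferInstanceAs (IsIso (adj.unit.app (K.X i)))
      exact HomologicalComplex.Hom.isIso_of_components _
    exact NatIso.isIso_of_isIso_app _
  haveI := adjC.fullyFaithfulLOfIsIsoUnit.full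
  haveI := adjC.fullyFaithfulLOfIsIsoUnit.faithful
  haveI : vC.IsLocalization ((MorphismProperty.isomorphisms _).inverseImage vC) := adjC.isLocalization'
  let qQ := HomologicalComplex.quasiIso Q (ComplexShape.up ℤ)
  let W' := qQ.inverseImage vC
  haveI h1 : (vC ⋙ DerivedCategory.Q).IsLocalization W' := by
    refine Functor.IsLocalization.comp vC DerivedCategory.Q
      ((MorphismProperty.isomorphisms _).inverseImage vC) qQ W'
      (fun X Y f hf => Localization.inverts DerivedCategory.Q qQ _ hf) (fun X Y f hf => ?_)
      (fun X Y g hg => ?_)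
    · haveI : IsIso (vC.map f) := hf
      exact (HomologicalComplex.mem_quasiIso_iff _).2 (inferInstanceAs (QuasiIso (vC.map f)))
    · have e : Arrow.mk g ≅ Arrow.mk (vC.map (uC.map g)) :=
        Arrow.isoMk (asIso (adjC.unit.app X)) (asIso (adjC.unit.app Y))
          (adjC.unit.naturality g).symm
      exact (W'.map_mem_map vC (uC.map g) ((qQ.arrow_mk_iso_iff e).1 hg)) |>
        ((W'.map vC).arrow_mk_iso_iff e).2
  haveI h2 : (DerivedCategory.Q ⋙ v.mapDerivedCategory).IsLocalization W' :=
    Functor.IsLocalization.of_iso W' v.mapDerivedCategoryFactors.symm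
  let PH : ObjectProperty (DerivedCategory A) :=
    fun X => ∀ n : ℤ, P ((DerivedCategory.homologyFunctor A n).obj X)
  have hzero : ∀ X : DerivedCategory A, IsZero (v.mapDerivedCategory.obj X) ↔ PH X := by
    intro X
    constructor
    · intro h n
      exact (ObjectProperty.SerreClassLocalization.isZero_obj_iff v P _).1
        (((DerivedCategory.homologyFunctor Q n).map_isZero h).of_iso
          (Groth.Agent.DerAdj.homologyMapIso v X n).symm)
    · intro h
      have hn : ∀ n, IsZero ((DerivedCategory.homologyFunctor Q n).obj (v.mapDerivedCategory.obj X)) :=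
        fun n => ((ObjectProperty.SerreClassLocalization.isZero_obj_iff v P _).2 (h n)).of_iso
          (Groth.Agent.DerAdj.homologyMapIso v X n)
      rw [IsZero.iff_id_eq_zero]
      haveI : IsIso (0 : v.mapDerivedCategory.obj X ⟶ v.mapDerivedCategory.obj X) :=
        (DerivedCategory.isIso_iff Q _).2 fun n => by
          rw [Functor.map_zero]
          exact ⟨0, (hn n).eq_of_src _ _, (hn n).eq_of_src _ _⟩
      exact ((cancel_epi (0 : v.mapDerivedCategory.obj X ⟶ v.mapDerivedCategory.obj X)).1 (by simp))
  have htr : ∀ {X Y : DerivedCategory A} (f : X ⟶ Y),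
      ObjectProperty.trW PH f ↔ IsIso (v.mapDerivedCategory.map f) := by
    intro X Y f
    constructor
    · rintro ⟨Z, g, h, hT, hZ⟩
      exact (Pretriangulated.Triangle.isZero₃_iff_isIso₁ _
        (v.mapDerivedCategory.map_distinguished _ hT)).1 ((hzero Z).2 hZ)
    · intro hf
      obtain ⟨Z, g, h, hT⟩ := Pretriangulated.distinguished_cocone_triangle f
      exact ⟨Z, g, h, hT, (hzero Z).1 ((Pretriangulated.Triangle.isZero₃_iff_isIso₁ _
        (v.mapDerivedCategory.map_distinguished _ hT)).2 hf)⟩
  refine Functor.IsLocalization.of_comp DerivedCategory.Q v.mapDerivedCategory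
    (HomologicalComplex.quasiIso A (ComplexShape.up ℤ)) _ W' (fun X Y f hf => ?_) ?_
  · haveI : QuasiIso f := hf
    exact (HomologicalComplex.mem_quasiIso_iff _).2 (inferInstanceAs (QuasiIso (vC.map f)))
  · have hW' : ∀ {K L : CochainComplex A ℤ} (g : K ⟶ L),
        W' g ↔ IsIso (v.mapDerivedCategory.map (DerivedCategory.Q.map g)) := by
      intro K L g
      refine (HomologicalComplex.mem_quasiIso_iff _).trans ?_
      rw [← DerivedCategory.isIso_Q_map_iff_quasiIso]
      exact (NatIso.isIso_map_iff v.mapDerivedCategoryFactors g).symm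
    ext X Y f
    rw [htr]
    constructor
    · intro hf
      obtain ⟨K, s, hs, g, hg⟩ := DerivedCategory.right_fac
        ((DerivedCategory.Q.objObjPreimageIso X).hom ≫ f ≫ (DerivedCategory.Q.objObjPreimageIso Y).inv)
      let e : Arrow.mk (DerivedCategory.Q.map g) ≅ Arrow.mk f :=
        Arrow.isoMk (asIso (DerivedCategory.Q.map s) ≪≫ DerivedCategory.Q.objObjPreimageIso X)
          (DerivedCategory.Q.objObjPreimageIso Y) (by
            have h1 := congrArg (fun t => DerivedCategory.Q.map s ≫ t ≫
              (DerivedCategory.Q.objObjPreimageIso Y).hom) hg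
            simpa using h1)
      haveI := hf
      refine ((W'.map DerivedCategory.Q).arrow_mk_iso_iff e).1
        (W'.map_mem_map _ g ((hW' g).2 ?_))
      exact ((MorphismProperty.isomorphisms _).arrow_mk_iso_iff
        (v.mapDerivedCategory.mapArrow.mapIso e)).2 hf
    · rintro ⟨K, L, g, hg, ⟨e⟩⟩
      exact ((MorphismProperty.isomorphisms _).arrow_mk_iso_iff
        (v.mapDerivedCategory.mapArrow.mapIso e)).1 ((hW' g).1 hg)

end Groth.Agent.S0991
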