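import Groth.Statements.S0992
import Mathlib.Algebra.Homology.ShortComplex.Ab
import Mathlib.Algebra.Category.Grp.Limits
import Mathlib.Algebra.Homology.HomologicalComplexLimits
import Mathlib.CategoryTheory.Limits.Types.Limits

set_option autoImplicit false
universe w
open CategoryTheory CategoryTheory.Limits Opposite
open CohDer

namespace Groth.Agent.S0992

section
variable {I : Type w} [LinearOrder I] [WellFoundedLT I] (K : Iᵒᵖ ⥤ CochainComplex AddCommGrpCat.{w} ℤ)

/-- restriction maps -/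
noncomputable def res {γ δ : I} (h : δ ≤ γ) (n : ℤ) : (K.obj (op γ)).X n →+ (K.obj (op δ)).X n :=
  ((K.map (homOfLE h).op).f n).hom

lemma res_refl {γ : I} (n : ℤ) (x : (K.obj (op γ)).X n) : res K (le_refl γ) n x = x := by
  simp [res]

lemma res_d {γ δ : I} (h : δ ≤ γ) (i j : ℤ) (x : (K.obj (op γ)).X i) :
    res K h j ((K.obj (op γ)).d i j x) = (K.obj (op δ)).d i j (res K h i x) :=
  (ConcreteCategory.congr_hom ((K.map (homOfLE h).op).comm i j) x).symm

lemma res_res {γ δ ε : I} (h : δ ≤ γ) (h' : ε ≤ δ) (n : ℤ) (x : (K.obj (op γ)).X n) :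
    res K h' n (res K h n x) = res K (h'.trans h) n x := by
  simp only [res]
  rw [← ConcreteCategory.comp_apply, ← HomologicalComplex.comp_f, ← K.map_comp]
  rfl

variable (hac : ∀ (β : I) (n : ℤ), (K.obj (op β)).ExactAt n)
  (hsurj : ∀ (β : I) (n : ℤ) (x : ∀ γ : {γ : I // γ < β}, (K.obj (op γ.1)).X n),
      (∀ (γ γ' : {γ : I // γ < β}) (h : γ.1 ≤ γ'.1), ((K.map (homOfLE h).op).f n).hom (x γ') = x γ) →
      ∃ y : (K.obj (op β)).X n, ∀ γ : {γ : I // γ < β},
        ((K.map (homOfLE γ.2.le).op).f n).hom y = x γ)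

/-- compatible cycle families on a down-closed set have compatible primitives -/
def Claim (S : Set I) : Prop :=
  ∀ (m : ℤ) (x : ∀ γ ∈ S, (K.obj (op γ)).X (m + 1)),
    (∀ γ hγ δ hδ (h : δ ≤ γ), res K h (m + 1) (x γ hγ) = x δ hδ) →
    (∀ γ hγ, (K.obj (op γ)).d (m + 1) (m + 1 + 1) (x γ hγ) = 0) →
    ∃ y : ∀ γ ∈ S, (K.obj (op γ)).X m,
      (∀ γ hγ δ hδ (h : δ ≤ γ), res K h m (y γ hγ) = y δ hδ) ∧
      ∀ γ hγ, (K.obj (op γ)).d m (m + 1) (y γ hγ) = x γ hγ

include hac hsurj in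
lemma claim_of (S : Set I) (hS : ∀ γ ∈ S, ∀ δ ≤ γ, δ ∈ S) (hrec : ∀ γ ∈ S, Claim K {δ | δ < γ}) :
    Claim K S := by
  classical
  intro m x hx hxd
  let Good : ∀ γ : I, (∀ δ, δ < γ → (K.obj (op δ)).X m) → (K.obj (op γ)).X m → Prop :=
    fun γ prev y => (∀ hγ : γ ∈ S, (K.obj (op γ)).d m (m + 1) y = x γ hγ) ∧
      ∀ δ (h : δ < γ), res K h.le m y = prev δ h
  let y : ∀ γ : I, (K.obj (op γ)).X m :=
    WellFoundedLT.fix fun γ prev => if h : ∃ y, Good γ prev y then h.choose else 0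
  have hy : ∀ γ, y γ = if h : ∃ z, Good γ (fun δ _ => y δ) z then h.choose else 0 :=
    fun γ => WellFoundedLT.fix_eq _ γ
  have main : ∀ γ ∈ S, Good γ (fun δ _ => y δ) (y γ) := by
    intro γ
    induction γ using WellFoundedLT.induction with
    | _ γ ih =>
    intro hγ
    suffices h : ∃ z, Good γ (fun δ _ => y δ) z by rw [hy γ, dif_pos h]; exact h.choose_spec
    have hS' : ∀ δ, δ < γ → δ ∈ S := fun δ h => hS γ hγ δ h.le
    have hcomp : ∀ δ' < γ, ∀ δ (h : δ ≤ δ'), res K h m (y δ') = y δ := fun δ' h' δ h => by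
      rcases h.lt_or_eq with hlt | rfl
      · exact (ih δ' h' (hS' δ' h')).2 δ hlt
      · exact res_refl K m _
    have hd : ∀ δ (h : δ < γ), (K.obj (op δ)).d m (m + 1) (y δ) = x δ (hS' δ h) :=
      fun δ h => (ih δ h (hS' δ h)).1 _
    obtain ⟨w, hw⟩ := hsurj γ m (fun δ => y δ.1) fun δ δ' h => hcomp δ'.1 δ'.2 δ.1 h
    replace hw : ∀ δ (h : δ < γ), res K h.le m w = y δ := fun δ h => hw ⟨δ, h⟩
    obtain ⟨v, hv⟩ : ∃ v, (K.obj (op γ)).d m (m + 1) v = x γ hγ - (K.obj (op γ)).d m (m + 1) w := by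
      have he := hac γ (m + 1)
      rw [HomologicalComplex.exactAt_iff' _ m (m + 1) (m + 1 + 1) (by simp) (by simp),
        ShortComplex.ab_exact_iff] at he
      refine he _ ?_
      change (K.obj (op γ)).d (m + 1) (m + 1 + 1) _ = 0
      rw [map_sub, hxd γ hγ, ← ConcreteCategory.comp_apply, HomologicalComplex.d_comp_d]
      simp
    obtain ⟨k, rfl⟩ : ∃ k, k + 1 = m := ⟨m - 1, by omega⟩
    obtain ⟨p, hp, hpd⟩ := hrec γ hγ k (fun δ hδ => res K (le_of_lt hδ) (k + 1) v)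
      (fun δ hδ ε hε h => res_res K _ _ _ _) (fun δ hδ => by
        rw [← res_d, hv, map_sub, hx γ hγ δ (hS' δ hδ), res_d, hw δ hδ, hd δ hδ, sub_self])
    obtain ⟨q, hq⟩ := hsurj γ k (fun δ => p δ.1 δ.2) fun δ δ' h => hp δ'.1 δ'.2 δ.1 δ.2 h
    replace hq : ∀ δ (h : δ < γ), res K h.le k q = p δ h := fun δ h => hq ⟨δ, h⟩
    refine ⟨w + (v - (K.obj (op γ)).d k (k + 1) q), fun hγ' => ?_, fun δ h => ?_⟩
    · rw [map_add, map_sub, hv, ← ConcreteCategory.comp_apply (C := AddCommGrpCat),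
        HomologicalComplex.d_comp_d]
      simp
    · rw [map_add, map_sub, hw δ h, res_d, hq δ h, hpd δ h, sub_self, add_zero]
  refine ⟨fun γ _ => y γ, fun γ hγ δ hδ h => ?_, fun γ hγ => (main γ hγ).1 hγ⟩
  rcases h.lt_or_eq with hlt | rfl
  · exact (main γ hγ).2 δ hlt
  · exact res_refl K m _

include hac hsurj in
lemma claim_Iio (β : I) : Claim K {δ | δ < β} := by
  induction β using WellFoundedLT.induction with
  | _ β ih =>
    exact claim_of K hac hsurj _ (fun γ hγ δ h => lt_of_le_of_lt h hγ) fun γ hγ => ih γ hγ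

end

/-- Let I be a well-ordered type and K : Iᵒᵖ ⥤ CochainComplex Ab an inverse system of acyclic complexes
of abelian groups such that for every β and every degree n, each family of elements of the Kⁿ_γ (γ <
β) compatible under the transition maps lifts to an element of Kⁿ_β (i.e. Kⁿ_β → lim_{γ<β} Kⁿ_γ is
surjective). Then the limit complex lim K is acyclic. -/
theorem result {I : Type w} [LinearOrder I] [WellFoundedLT I]
    (K : Iᵒᵖ ⥤ CochainComplex AddCommGrpCat.{w} ℤ)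
    (hac : ∀ (β : I) (n : ℤ), (K.obj (op β)).ExactAt n)
    (hsurj : ∀ (β : I) (n : ℤ) (x : ∀ γ : {γ : I // γ < β}, (K.obj (op γ.1)).X n),
      (∀ (γ γ' : {γ : I // γ < β}) (h : γ.1 ≤ γ'.1), ((K.map (homOfLE h).op).f n).hom (x γ') = x γ) →
      ∃ y : (K.obj (op β)).X n, ∀ γ : {γ : I // γ < β}, ((K.map (homOfLE γ.2.le).op).f n).hom y = x γ)
    (n : ℤ) : (limit K).ExactAt n := by
  obtain ⟨m, rfl⟩ : ∃ m, m + 1 = n := ⟨n - 1, by omega⟩
  rw [HomologicalComplex.exactAt_iff' _ m (m + 1) (m + 1 + 1) (by simp) (by simp),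
    ShortComplex.ab_exact_iff]
  intro (x : (limit K).X (m + 1)) (hx : (limit K).d (m + 1) (m + 1 + 1) x = 0)
  have hl : ∀ i : ℤ, IsLimit ((HomologicalComplex.eval AddCommGrpCat.{w} (ComplexShape.up ℤ) i).mapCone
      (limit.cone K)) := fun i => isLimitOfPreserves _ (limit.isLimit K)
  obtain ⟨y, hy, hyd⟩ := claim_of K hac hsurj Set.univ (fun _ _ _ _ => Set.mem_univ _)
    (fun γ _ => claim_Iio K hac hsurj γ) m (fun γ _ => (limit.π K (op γ)).f (m + 1) x)
    (fun γ _ δ _ h => by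
      exact ConcreteCategory.congr_hom
        (congrArg (fun φ => φ.f (m + 1)) (limit.w K (homOfLE h).op)) x)
    (fun γ _ => by
      rw [← ConcreteCategory.comp_apply, (limit.π K (op γ)).comm, ConcreteCategory.comp_apply, hx,
        map_zero])
  let hl' := isLimitOfPreserves (forget AddCommGrpCat.{w}) (hl m)
  let z := (Types.isLimitEquivSections hl').symm ⟨fun j => y j.unop trivial,
    fun {j j'} f => hy j.unop trivial j'.unop trivial (leOfHom f.unop)⟩
  have hz : ∀ j, (limit.π K j).f m z = y j.unop trivial := fun j =>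
    Types.isLimitEquivSections_symm_apply hl' _ j
  refine ⟨z, Concrete.isLimit_ext _ (hl (m + 1)) _ _ fun j => ?_⟩
  exact ((ConcreteCategory.congr_hom ((limit.π K j).comm m (m + 1)) z).symm).trans
    ((congrArg _ (hz j)).trans (hyd j.unop trivial))

end Groth.Agent.S0992
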