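import Groth.Statements.S0996
import Groth.Agent.RFPlus.Acyc

set_option autoImplicit false
universe w w' v v' u u'
open CategoryTheory CategoryTheory.Limits
open CohDer

namespace Groth.Agent.S0996

/-- Leray's acyclicity lemma. Let F : C ⥤ D be a left exact additive functor between abelian categories,
with C having enough injectives. If K is a bounded below cochain complex in C all of whose terms are
right F-acyclic (RⁱF(Kᵐ) = 0 for i > 0), then the canonical map F(K) → RF(K) in the bounded below
derived category D⁺(D) is an isomorphism. -/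
theorem result {C : Type u} [Category.{v} C] [Abelian C] [HasDerivedCategory.{w} C] [EnoughInjectives C]
    {D : Type u'} [Category.{v'} D] [Abelian D] [HasDerivedCategory.{w'} D]
    (F : C ⥤ D) [F.Additive] [PreservesFiniteLimits F] (K : CochainComplex.Plus C)
    (hK : ∀ (m : ℤ) (i : ℕ), 0 < i → IsZero ((F.rightDerived i).obj (K.obj.X m))) :
    IsIso (F.rightDerivedFunctorPlusUnit.app ((HomotopyCategory.Plus.quotient C).obj K)) := by
  obtain ⟨a, ha⟩ := K.property
  have hb : ∀ (X J : C), RFPlus.Acyc F X → Injective J → RFPlus.Acyc F (X ⊞ J) := fun X J hX hJ =>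
    RFPlus.acyc₂ F _ ((ShortComplex.Splitting.ofHasBinaryBiproduct X J).shortExact) hX
      (by haveI := hJ; exact RFPlus.Acyc.of_injective F J)
  exact RFPlus.isIso_unit_of_class F (RFPlus.Acyc F) (fun e h => h.of_iso e) K a
    (fun J hJ _ => hb _ J (hK a) hJ)
    (fun n _ J hJ S hS h₁ e => RFPlus.acyc_shortExact F S hS h₁ ((hb _ J (hK n) hJ).of_iso e.symm))

end Groth.Agent.S0996
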