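import Groth.Statements.S10096
import Groth.Agent.AlgSpTopo.RepBySp

set_option autoImplicit false
set_option backward.isDefEq.respectTransparency false
universe u
open CategoryTheory CategoryTheory.Limits AlgebraicGeometry
open AlgSp

namespace Groth.Agent.S10096

/-- Let `a : F ⟶ G` be a map of fppf sheaves of sets over `S` that is flat, surjective, locally of
finite presentation and representable by algebraic spaces (every base change `h_U ×_G F ⟶ h_U` to a
scheme is such a morphism of algebraic spaces). Then `a` is surjective as a map of sheaves (an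
epimorphism of fppf sheaves). -/
theorem result (S : Scheme.{u}) (F G : AlgSp.Sp S) (a : F ⟶ G)
    (ha : AlgSp.RepBySpWith (AlgSp.IsSurjectiveMor ⊓ AlgSp.LocP @Flat ⊓ AlgSp.LocP @LocallyOfFinitePresentation) a.hom) :
    Epi a := by
  suffices Sheaf.IsLocallySurjective a by infer_instance
  refine ⟨fun {T} s => ?_⟩
  obtain ⟨k, rfl⟩ := (GrothendieckTopology.uliftYonedaEquiv.{u+1} (AlgSp.J S)).surjective s
  have sq := IsPullback.of_hasPullback a k
  obtain ⟨hP, hQ⟩ := (AlgSp.repBySpWith_hom_iff _ a).1 ha k _ _ sq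
  obtain ⟨⟨hsu, hfl⟩, hfp⟩ := hQ
  obtain ⟨V, v, hv, hvs⟩ := hP.atlas
  obtain ⟨c, hc⟩ := (AlgSp.yon S).map_surjective (v ≫ pullback.snd a k)
  have : Flat c.left := hfl v (𝟙 _) c hv (AlgSp.repWith_id _ T) (by rw [Category.comp_id, hc])
  have : LocallyOfFinitePresentation c.left := hfp v (𝟙 _) c hv (AlgSp.repWith_id _ T) (by rw [Category.comp_id, hc])
  have : Surjective c.left := ⟨fun t => by
    obtain ⟨x, hx⟩ := hsu (AlgSp.Points.ofScheme T t)
    obtain ⟨y, rfl⟩ := AlgSpTopo.surjective_of_repWith hvs x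
    obtain ⟨y, rfl⟩ := AlgSpTopo.ofScheme_surjective V y
    rw [← AlgSp.Points.map_comp, ← hc, AlgSpTopo.map_ofScheme] at hx
    exact ⟨y, (AlgSp.Points.schemeEquiv T).injective hx⟩⟩
  refine GrothendieckTopology.superset_covering _ ?_ (AlgSpTopo.generate_singleton_mem c)
  rw [Sieve.generate_le_iff]
  intro _ _ ⟨⟩
  refine ⟨(GrothendieckTopology.uliftYonedaEquiv.{u+1} (AlgSp.J S)) (v ≫ pullback.fst a k), ?_⟩
  have h2 := GrothendieckTopology.uliftYonedaEquiv_comp.{u+1} (AlgSp.J S) (v ≫ pullback.fst a k) a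
  rw [Category.assoc, sq.w, ← Category.assoc, ← hc, ← GrothendieckTopology.uliftYonedaEquiv_naturality] at h2
  exact h2.symm

end Groth.Agent.S10096
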