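import Groth.Statements.S10097
import Groth.Agent.AlgSpTopo.RepBySp

set_option autoImplicit false
set_option backward.isDefEq.respectTransparency false
universe u
open CategoryTheory CategoryTheory.Limits AlgebraicGeometry
open AlgSp

namespace Groth.Agent.S10097

/-- (1) ⇔ (2): for a presheaf of sets `F` on schemes over `S`, the diagonal `F ⟶ F × F` is representable
by algebraic spaces if and only if every map `h_T ⟶ F` from a scheme `T` over `S` is representable
by algebraic spaces. -/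
theorem result (S : Scheme.{u}) (F : AlgSp.PSp S) :
    AlgSp.RepBySp (Limits.diag F) ↔
      ∀ (T : Over S) (ξ : (AlgSp.pyon S).obj T ⟶ F), AlgSp.RepBySp ξ := by
  constructor
  · intro hd T ξ U ζ F' fst snd sq
    let P := (AlgSp.pyon S).obj (T ⨯ U)
    let p₁ : P ⟶ (AlgSp.pyon S).obj T := (AlgSp.pyon S).map prod.fst
    let p₂ : P ⟶ (AlgSp.pyon S).obj U := (AlgSp.pyon S).map prod.snd
    have hlim : IsLimit (BinaryFan.mk p₁ p₂) :=
      (isLimitMapConeBinaryFanEquiv (AlgSp.pyon S) _ _).1 (isLimitOfPreserves (AlgSp.pyon S) (prodIsProd T U))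
    obtain ⟨l, hl1, hl2⟩ := BinaryFan.IsLimit.lift' hlim fst snd
    change l ≫ p₁ = fst at hl1
    change l ≫ p₂ = snd at hl2
    refine hd (prod.lift (p₁ ≫ ξ) (p₂ ≫ ζ)) (fst ≫ ξ) l (IsPullback.of_isLimit' ⟨?_⟩ (PullbackCone.IsLimit.mk _
      (fun s => sq.lift (s.snd ≫ p₁) (s.snd ≫ p₂) ?_) (fun s => ?_) (fun s => ?_) (fun s m h₁ h₂ => ?_)))
    · apply prod.hom_ext <;> simp [reassoc_of% hl1, reassoc_of% hl2, sq.w]
    · have e1 := congrArg (· ≫ prod.fst) s.condition
      have e2 := congrArg (· ≫ prod.snd) s.condition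
      simp at e1 e2
      rw [Category.assoc, Category.assoc, ← e1, ← e2]
    · have e1 := congrArg (· ≫ prod.fst) s.condition
      simp at e1
      rw [sq.lift_fst_assoc, e1, Category.assoc]
    · apply BinaryFan.IsLimit.hom_ext hlim
      · simp [hl1]
      · simp [hl2]
    · apply sq.hom_ext
      · rw [sq.lift_fst, ← h₂, Category.assoc, hl1]
      · rw [sq.lift_snd, ← h₂, Category.assoc, hl2]
  · intro h U ζ F' fst snd sq
    have sq₁ := IsPullback.of_hasPullback (ζ ≫ prod.fst) (ζ ≫ prod.snd)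
    obtain ⟨hK, hK'⟩ := h U (ζ ≫ prod.fst) (ζ ≫ prod.snd) _ _ sq₁
    let k : pullback (ζ ≫ prod.fst) (ζ ≫ prod.snd) ⟶ ((AlgSp.yon S).obj (U ⨯ U)).obj :=
      (BinaryFan.IsLimit.lift' ((isLimitMapConeBinaryFanEquiv (AlgSp.pyon S) _ _).1
        (isLimitOfPreserves (AlgSp.pyon S) (prodIsProd U U))) (pullback.fst _ _) (pullback.snd _ _)).1
    have hk1 : k ≫ (AlgSp.pyon S).map prod.fst = pullback.fst _ _ :=
      (BinaryFan.IsLimit.lift' ((isLimitMapConeBinaryFanEquiv (AlgSp.pyon S) _ _).1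
        (isLimitOfPreserves (AlgSp.pyon S) (prodIsProd U U))) (pullback.fst _ _) (pullback.snd _ _)).2.1
    have hk2 : k ≫ (AlgSp.pyon S).map prod.snd = pullback.snd _ _ :=
      (BinaryFan.IsLimit.lift' ((isLimitMapConeBinaryFanEquiv (AlgSp.pyon S) _ _).1
        (isLimitOfPreserves (AlgSp.pyon S) (prodIsProd U U))) (pullback.fst _ _) (pullback.snd _ _)).2.2
    have e : fst = snd ≫ ζ ≫ prod.fst ∧ fst = snd ≫ ζ ≫ prod.snd := by
      constructor
      · simpa using congrArg (· ≫ prod.fst) sq.w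
      · simpa using congrArg (· ≫ prod.snd) sq.w
    let d : (AlgSp.pyon S).obj U ⟶ ((AlgSp.yon S).obj (U ⨯ U)).obj := (AlgSp.pyon S).map (Limits.diag U)
    let j : F' ⟶ pullback (ζ ≫ prod.fst) (ζ ≫ prod.snd) := pullback.lift snd snd (e.1.symm.trans e.2)
    have hd1 : d ≫ (AlgSp.pyon S).map prod.fst = 𝟙 _ := by simp [d, ← Functor.map_comp]
    have hd2 : d ≫ (AlgSp.pyon S).map prod.snd = 𝟙 _ := by simp [d, ← Functor.map_comp]
    have hlim := (isLimitMapConeBinaryFanEquiv (AlgSp.pyon S) _ _).1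
        (isLimitOfPreserves (AlgSp.pyon S) (prodIsProd U U))
    have sq' : IsPullback j snd k d := by
      refine IsPullback.of_isLimit' ⟨BinaryFan.IsLimit.hom_ext hlim ?_ ?_⟩ (PullbackCone.IsLimit.mk _
        (fun s => sq.lift (s.snd ≫ ζ ≫ prod.fst) s.snd ?_) (fun s => ?_) (fun s => ?_) (fun s m h₁ h₂ => ?_))
      · simp [j, hk1, hd1]
      · simp [j, hk2, hd2]
      · have e1 := congrArg (· ≫ (AlgSp.pyon S).map prod.fst) s.condition
        have e2 := congrArg (· ≫ (AlgSp.pyon S).map prod.snd) s.condition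
        simp only [Category.assoc, hk1, hk2, hd1, hd2] at e1 e2
        simp at e1 e2
        apply prod.hom_ext
        · simp
        · simp only [prod.comp_lift, Category.comp_id, prod.lift_snd, Category.assoc]
          rw [← reassoc_of% e1, ← reassoc_of% e2, pullback.condition]
      · have e1 := congrArg (· ≫ (AlgSp.pyon S).map prod.fst) s.condition
        have e2 := congrArg (· ≫ (AlgSp.pyon S).map prod.snd) s.condition
        simp only [Category.assoc, hk1, hk2, hd1, hd2] at e1 e2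
        simp at e1 e2
        apply pullback.hom_ext <;> simp [j, e1, e2]
      · simp
      · apply sq.hom_ext
        · rw [sq.lift_fst, ← h₂, Category.assoc, ← e.1]
        · simpa using h₂
    have hF := AlgSp.isSheaf_of_isPullback (F := ⟨_, hK⟩) (G := (AlgSp.yon S).obj (U ⨯ U)) (H := (AlgSp.yon S).obj U) sq'
    refine ⟨hF, AlgSpTopo.isAlgSpace_of_isPullback hK' (AlgSp.IsAlgSpace.yon_obj (U ⨯ U)) (AlgSp.IsAlgSpace.yon_obj U)
      (P := ⟨F', hF⟩) (π₁ := ObjectProperty.homMk j) (π₂ := ObjectProperty.homMk snd) (f := ObjectProperty.homMk k)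
      (g := ObjectProperty.homMk d) ?_⟩
    exact IsPullback.of_map_of_faithful (sheafToPresheaf (AlgSp.J S) (Type (u + 1))) sq' 

end Groth.Agent.S10097
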