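import Groth.Statements.S10147
import Mathlib.Topology.Algebra.Group.Basic
import Mathlib.Algebra.Module.Submodule.Lattice
import Mathlib.LinearAlgebra.Span.Basic

set_option autoImplicit false
universe u v w
open LinTop

namespace Groth.Agent.S10147

/-- Let M be a topological module over a ring R whose additive group is a topological group, and let
(M_i) be a family of submodules of M forming a fundamental system of neighbourhoods of 0. For every
submodule N of M, the closure of N is the intersection over i of the submodules N + M_i. -/
theorem result
    {R : Type u} [Ring R] {M : Type v} [AddCommGroup M] [Module R M] [TopologicalSpace M]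
    [IsTopologicalAddGroup M] {ι : Type w} (B : ι → Submodule R M)
    (hB : (nhds (0 : M)).HasBasis (fun _ => True) (fun i => (B i : Set M)))
    (N : Submodule R M) :
    closure (N : Set M) = ⋂ i, ((N ⊔ B i : Submodule R M) : Set M) := by
  ext x
  rw [mem_closure_iff_nhds_basis (show (nhds x).HasBasis (fun _ => True) (fun i => (x + ·) '' (B i : Set M)) by
    rw [← map_add_left_nhds_zero]; exact hB.map _)]
  simp only [forall_const, Set.mem_iInter, SetLike.mem_coe, Submodule.mem_sup]
  refine forall_congr' fun i => ⟨?_, ?_⟩
  · rintro ⟨y, hy, b, hb, rfl⟩
    exact ⟨x + b, hy, -b, neg_mem hb, by abel⟩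
  · rintro ⟨y, hy, b, hb, rfl⟩
    exact ⟨y, hy, -b, neg_mem hb, by abel⟩

end Groth.Agent.S10147
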