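import Groth.Statements.S10148
import Groth.Agent.HensPair.Limits
import Mathlib.Topology.Algebra.IsUniformGroup.Basic

set_option autoImplicit false
universe u
open LinTop

namespace Groth.Agent.S10148

/-- Let A be a weakly admissible topological ring (linearly topologized, Hausdorff and complete, having
a weak ideal of definition) and let I be a weak ideal of definition of A, that is, an open ideal
consisting of topologically nilpotent elements. Then (A, I) is a henselian pair. -/
theorem result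
    (A : Type u) [CommRing A] [UniformSpace A] [IsUniformAddGroup A] [IsTopologicalRing A]
    (hA : LinTop.IsWeaklyAdmissible A) (I : Ideal A) (hI : LinTop.IsWeakIdealOfDefinition A I) :
    HenselianRing A I := by
  obtain ⟨⟨hlin, -⟩, hT2, hcomp⟩ := hA
  have := hlin
  let T : Type u := {J : Ideal A // IsOpen (J : Set A) ∧ J ≤ I}
  have : Nonempty T := ⟨⟨I, hI.1, le_rfl⟩⟩
  have hbasis : ∀ U ∈ nhds (0 : A), ∃ J : T, (J.1 : Set A) ⊆ U := fun U hU => by
    obtain ⟨K, hK, hKU⟩ := IsLinearTopology.hasBasis_open_ideal.mem_iff.mp hU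
    exact ⟨⟨K ⊓ I, IsOpen.inter hK hI.1, inf_le_right⟩, fun x hx => hKU hx.1⟩
  have hclosed : ∀ J : T, IsClosed (J.1 : Set A) := fun J =>
    AddSubgroup.isClosed_of_isOpen J.1.toAddSubgroup J.2.1
  have h := HensPair.Limits.henselian_of_glue (fun J : T => A ⧸ J.1) (fun J => Ideal.Quotient.mk J.1)
    (E := {e : T × T // e.1.1 ≤ e.2.1}) (fun e => e.1.1) (fun e => e.1.2)
    (fun e => Ideal.Quotient.factor e.2) (fun e => rfl) (fun J => I.map (Ideal.Quotient.mk J.1))
    (fun e => le_of_eq (by rw [Ideal.map_map]; rfl)) (fun J => ?_) (fun a b hab => ?_) (fun s hs => ?_)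
  · have hiff : (⨅ J : T, (I.map (Ideal.Quotient.mk J.1)).comap (Ideal.Quotient.mk J.1)) = I := by
      refine le_antisymm ((iInf_le _ ⟨I, hI.1, le_rfl⟩).trans ?_) (le_iInf fun J => Ideal.le_comap_map)
      intro x hx
      rw [Ideal.mem_comap, Ideal.map_quotient_self, Ideal.mem_bot, Ideal.Quotient.eq_zero_iff_mem] at hx
      exact hx
    rwa [hiff] at h
  · refine HensPair.Radical.henselian_of_le_nilradical fun y hy => ?_
    obtain ⟨x, hx, rfl⟩ := (Ideal.mem_map_iff_of_surjective _ Ideal.Quotient.mk_surjective).mp hy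
    obtain ⟨n, hn⟩ := ((hI.2 x hx).eventually_mem (J.2.1.mem_nhds (zero_mem J.1))).exists
    exact ⟨n, by rw [← map_pow, Ideal.Quotient.eq_zero_iff_mem]; exact hn⟩
  · by_contra hne
    have hU : ({a - b}ᶜ : Set A) ∈ nhds (0 : A) :=
      isOpen_compl_singleton.mem_nhds (fun h => hne (sub_eq_zero.mp h.symm))
    obtain ⟨J, hJ⟩ := hbasis _ hU
    exact hJ (Ideal.Quotient.eq.mp (hab J)) rfl
  · let ι : Type u := OrderDual T
    have : Nonempty ι := ‹Nonempty T›
    have hdir : IsDirectedOrder ι := ⟨fun J K => ⟨OrderDual.toDual ⟨(OrderDual.ofDual J).1 ⊓ (OrderDual.ofDual K).1,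
      IsOpen.inter (OrderDual.ofDual J).2.1 (OrderDual.ofDual K).2.1, inf_le_left.trans (OrderDual.ofDual J).2.2⟩,
      (inf_le_left : (OrderDual.ofDual J).1 ⊓ (OrderDual.ofDual K).1 ≤ _),
      (inf_le_right : (OrderDual.ofDual J).1 ⊓ (OrderDual.ofDual K).1 ≤ _)⟩⟩
    choose a ha using fun J : ι => Ideal.Quotient.mk_surjective (s (OrderDual.ofDual J))
    have hle : ∀ J K : ι, J ≤ K → a K - a J ∈ (OrderDual.ofDual J).1 := fun J K hJK => by
      rw [← Ideal.Quotient.eq, ha J, ← hs ⟨(OrderDual.ofDual K, OrderDual.ofDual J), hJK⟩, ← ha K]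
      rfl
    have hc : CauchySeq a := by
      refine cauchy_map_iff.mpr ⟨Filter.atTop_neBot, fun V hV => ?_⟩
      rw [uniformity_eq_comap_nhds_zero A, Filter.mem_comap] at hV
      obtain ⟨U, hU, hUV⟩ := hV
      obtain ⟨J, hJ⟩ := hbasis U hU
      refine Filter.mem_map.mpr ?_
      filter_upwards [(Filter.eventually_ge_atTop (OrderDual.toDual J)).prod_mk
        (Filter.eventually_ge_atTop (OrderDual.toDual J))] with mn hmn
      refine hUV (hJ ?_)
      have := sub_mem (hle _ _ hmn.2) (hle _ _ hmn.1)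
      simpa using this
    obtain ⟨x, hx⟩ := cauchySeq_tendsto_of_complete hc
    refine ⟨x, fun J => ?_⟩
    refine Eq.trans ?_ (ha (OrderDual.toDual J))
    refine Ideal.Quotient.eq.mpr ((hclosed J).mem_of_tendsto (hx.sub_const (a (OrderDual.toDual J))) ?_)
    filter_upwards [Filter.eventually_ge_atTop (OrderDual.toDual J)] with K hK
    exact hle _ _ hK

end Groth.Agent.S10148
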