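import Groth.Statements.S10149
import Groth.Agent.Misc9.DomainStalk
import Mathlib
-- import your own Groth.Agent.* helpers here

set_option autoImplicit false
set_option backward.isDefEq.respectTransparency false
universe u v
open LinTop

open CategoryTheory CategoryTheory.Limits AlgebraicGeometry
namespace Groth.Agent.S10149

/-- In a linearly topologized ring B the ideal of topologically nilpotent elements is closed. Moreover,
if φ : A → B is a continuous homomorphism of linearly topologized rings and I is an ideal of A
consisting of topologically nilpotent elements, then every element of the closure of the ideal φ(I)B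
is topologically nilpotent. -/
theorem result
    (A : Type u) [CommRing A] [TopologicalSpace A] [IsTopologicalRing A] [IsLinearTopology A A]
    (B : Type v) [CommRing B] [TopologicalSpace B] [IsTopologicalRing B] [IsLinearTopology B B] :
    IsClosed ((topologicalNilradical B : Ideal B) : Set B) ∧
      ∀ (φ : A →+* B), Continuous φ → ∀ I : Ideal A, (∀ f ∈ I, IsTopologicallyNilpotent f) →
        ∀ g ∈ (I.map φ).closure, IsTopologicallyNilpotent g := by
  have hB : IsClosed ((topologicalNilradical B : Ideal B) : Set B) := by
    rw [← isOpen_compl_iff, isOpen_iff_mem_nhds]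
    intro b hb
    have hb' : ¬ IsTopologicallyNilpotent b := fun h => hb (IsTopologicallyNilpotent.mem_topologicalNilradical_iff.2 h)
    rw [IsTopologicallyNilpotent, (IsLinearTopology.hasBasis_ideal).tendsto_right_iff] at hb'
    push_neg at hb'
    obtain ⟨J, hJ, hJb⟩ := hb'
    have hmem : (fun t => b + t) '' (J : Set B) ∈ nhds b := by
      have := (Homeomorph.addLeft b).isOpenMap.image_mem_nhds hJ
      simpa using this
    refine Filter.mem_of_superset hmem ?_
    rintro _ ⟨t, ht, rfl⟩ hbad
    have hev := IsLinearTopology.hasBasis_ideal.tendsto_right_iff.1 (IsTopologicallyNilpotent.mem_topologicalNilradical_iff.1 hbad) J hJ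
    refine (hJb.and_eventually hev).exists.elim fun n ⟨hn, hn'⟩ => hn ?_
    have e : Ideal.Quotient.mk J ((b + t) ^ n) = Ideal.Quotient.mk J (b ^ n) := by
      rw [map_pow, map_pow, map_add, Ideal.Quotient.eq_zero_iff_mem.2 ht, add_zero]
    rw [Ideal.Quotient.eq] at e
    have := J.sub_mem hn' e
    simpa using this
  refine ⟨hB, fun φ hφ I hI g hg => ?_⟩
  have h1 : I.map φ ≤ topologicalNilradical B := Ideal.map_le_iff_le_comap.2 fun a ha =>
    IsTopologicallyNilpotent.mem_topologicalNilradical_iff.2 ((hI a ha).map hφ)
  exact IsTopologicallyNilpotent.mem_topologicalNilradical_iff.1 ((closure_minimal (SetLike.coe_subset_coe.2 h1) hB) hg)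

end Groth.Agent.S10149
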