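import Groth.Statements.S10171
import Groth.Agent.LinTopH.Completion
import Mathlib.Topology.Algebra.LinearTopology
import Mathlib.Topology.Algebra.Group.Quotient

set_option autoImplicit false
universe u v
open LinTop

namespace Groth.Agent.S10171

/-- Let M be a linearly topologized module over a ring R and N a submodule. Write M^ for the separated
completion of M and (M/N)^ for that of M/N (quotient topology, additive uniform structure). Then the
kernel of the induced map M^ → (M/N)^ is the closure of the image of N in M^; that closure is the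
completion of N, so this is the exactness of 0 → N^ → M^ → (M/N)^ at M^. -/
theorem result
    {R : Type u} [Ring R] {M : Type v} [AddCommGroup M] [Module R M] [UniformSpace M]
    [IsUniformAddGroup M] [IsLinearTopology R M] (N : Submodule R M) :
    (@UniformSpace.Completion.map M _ (M ⧸ N.toAddSubgroup)
        (IsTopologicalAddGroup.rightUniformSpace (M ⧸ N.toAddSubgroup))
        (QuotientAddGroup.mk' N.toAddSubgroup)) ⁻¹' {0} =
      closure (Set.range (fun n : N => ((n : M) : UniformSpace.Completion M))) := by
  let q : M →+ M ⧸ N.toAddSubgroup := QuotientAddGroup.mk' N.toAddSubgroup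
  letI : UniformSpace (M ⧸ N.toAddSubgroup) := IsTopologicalAddGroup.rightUniformSpace (M ⧸ N.toAddSubgroup)
  haveI : IsUniformAddGroup (M ⧸ N.toAddSubgroup) := isUniformAddGroup_of_addCommGroup
  have hq : Continuous q := continuous_quotient_mk'
  have hqo : IsOpenMap q := QuotientAddGroup.isOpenMap_coe
  have hb : (nhds (0 : M)).HasBasis (fun U : Submodule R M => IsOpen (U : Set M)) fun U => (U.toAddSubgroup : Set M) :=
    IsLinearTopology.hasBasis_open_submodule R
  have h := Groth.Agent.LinTopH.Completion.ker_mapHom (G := M) hb (fun U hU => hU) q hq hqo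
  rw [Groth.Agent.LinTopH.Completion.coe_closureImage, show (q.ker : Set M) = (N : Set M) by
    rw [QuotientAddGroup.ker_mk']; rfl] at h
  refine Eq.trans ?_ (h.trans ?_)
  · rfl
  · congr 1
    ext z
    exact ⟨fun ⟨g, hg, e⟩ => ⟨⟨g, hg⟩, e⟩, fun ⟨g, e⟩ => ⟨g.1, g.2, e⟩⟩

end Groth.Agent.S10171
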