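import Groth.Statements.S10173
import Groth.Agent.LinTopH.Completion
import Mathlib.RingTheory.Finiteness.Ideal
import Mathlib.RingTheory.Ideal.Operations

set_option autoImplicit false
universe u v
open LinTop

namespace Groth.Agent.S10173

open Filter Topology Groth.Agent.LinTopH.Completion

lemma exists_sum_smul_of_mem_span_smul {R : Type u} [CommRing R] {M : Type v} [AddCommGroup M] [Module R M]
    {r : ℕ} (h : Fin r → R) (N : Submodule R M) {x : M} (hx : x ∈ Ideal.span (Set.range h) • N) :
    ∃ y : Fin r → M, (∀ k, y k ∈ N) ∧ ∑ k, h k • y k = x := by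
  induction hx using Submodule.smul_induction_on' with
  | smul c hc n hn =>
    obtain ⟨t, rfl⟩ := (Submodule.mem_span_range_iff_exists_fun R).1 hc
    exact ⟨fun k => t k • n, fun k => N.smul_mem _ hn, by simp [Finset.sum_smul, smul_smul, mul_comm]⟩
  | add a _ b _ ha hb =>
    obtain ⟨y, hy, rfl⟩ := ha
    obtain ⟨z, hz, rfl⟩ := hb
    exact ⟨y + z, fun k => N.add_mem (hy k) (hz k), by simp [Finset.sum_add_distrib, smul_add]⟩

/-- Let R be a commutative ring, I a finitely generated ideal and M a topological R-module (additive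
uniform structure, each scalar acting uniformly continuously) having an open submodule M' whose
topology is the I-adic one, i.e. the I^n M' are open in M and form a fundamental system of
neighbourhoods of 0. Then the separated completion M^ has an open submodule whose topology is I-adic
in the same sense, and for every n ≥ 1 the map M → M^/I^n M^ is surjective with kernel I^n M,
identifying M^/I^n M^ with M/I^n M. -/
theorem result
    {R : Type u} [CommRing R] (I : Ideal R) (hI : I.FG)
    {M : Type v} [AddCommGroup M] [Module R M] [UniformSpace M] [IsUniformAddGroup M]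
    [UniformContinuousConstSMul R M]
    (M' : Submodule R M) (hopen : ∀ n : ℕ, IsOpen ((I ^ n • M' : Submodule R M) : Set M))
    (hbasis : ∀ U ∈ nhds (0 : M), ∃ n : ℕ, ((I ^ n • M' : Submodule R M) : Set M) ⊆ U) :
    (∃ M'' : Submodule R (UniformSpace.Completion M),
        (∀ n : ℕ, IsOpen ((I ^ n • M'' : Submodule R (UniformSpace.Completion M)) :
          Set (UniformSpace.Completion M))) ∧
        ∀ U ∈ nhds (0 : UniformSpace.Completion M), ∃ n : ℕ,
          ((I ^ n • M'' : Submodule R (UniformSpace.Completion M)) :
            Set (UniformSpace.Completion M)) ⊆ U) ∧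
      ∀ n : ℕ, 0 < n →
        Function.Surjective ((QuotientAddGroup.mk' (I ^ n • ⊤ : Submodule R (UniformSpace.Completion M)).toAddSubgroup).comp
          (UniformSpace.Completion.toCompl : M →+ UniformSpace.Completion M)) ∧
        ((QuotientAddGroup.mk' (I ^ n • ⊤ : Submodule R (UniformSpace.Completion M)).toAddSubgroup).comp
          (UniformSpace.Completion.toCompl : M →+ UniformSpace.Completion M)).ker = (I ^ n • ⊤ : Submodule R M).toAddSubgroup := by
  let U : ℕ → Submodule R M := fun n => I ^ n • M'
  have hU0 : U 0 = M' := by simp [U, Ideal.one_eq_top, Submodule.top_smul]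
  have hanti : Antitone U := fun a b h => Submodule.smul_mono_left (Ideal.pow_le_pow_right h)
  have hbG : (𝓝 (0 : M)).HasBasis (fun _ : ℕ => True) fun n => ((U n).toAddSubgroup : Set M) :=
    ⟨fun s => ⟨fun hs => let ⟨n, hn⟩ := hbasis s hs; ⟨n, trivial, hn⟩,
      fun ⟨n, _, hn⟩ => mem_of_superset ((hopen n).mem_nhds (U n).zero_mem) hn⟩⟩
  have hb' := hasBasis_closureImage hbG
  let cl : ℕ → AddSubgroup (UniformSpace.Completion M) := fun n => closureImage (U n).toAddSubgroup
  have hclmono : ∀ {a b}, a ≤ b → cl b ≤ cl a := fun h => closure_mono (Set.image_mono (hanti h))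
  have hcoe : ∀ n (m : M), ((m : UniformSpace.Completion M) ∈ cl n ↔ m ∈ U n) := fun n m =>
    coe_mem_closureImage_iff (U := (U n).toAddSubgroup) (hopen n)
  have hsmul : ∀ (r : R) n k, r ∈ I ^ k → ∀ z ∈ cl n, r • z ∈ cl (k + n) := by
    intro r n k hr z hz
    refine map_mem_closure (continuous_const_smul r) hz ?_
    rintro _ ⟨m, hm, rfl⟩
    refine ⟨r • m, ?_, UniformSpace.Completion.coe_smul r m⟩
    show r • m ∈ I ^ (k + n) • M'
    rw [pow_add, mul_smul]
    exact Submodule.smul_mem_smul hr hm
  let M'' : Submodule R (UniformSpace.Completion M) :=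
    { cl 0 with smul_mem' := fun r z hz => hsmul r 0 0 (by simp) z hz }
  have hM'' : ∀ z, z ∈ M'' ↔ z ∈ cl 0 := fun z => Iff.rfl
  have hle : ∀ n z, z ∈ (I ^ n • M'' : Submodule R _) → z ∈ cl n := by
    intro n z hz
    induction hz using Submodule.smul_induction_on' with
    | smul r hr w hw => exact hsmul r 0 n hr w hw
    | add a _ b _ ha hb => exact add_mem ha hb
  have hge : ∀ n z, z ∈ cl n → z ∈ (I ^ n • M'' : Submodule R _) := by
    intro n y hy
    obtain ⟨r, h, hh⟩ := Submodule.fg_iff_exists_fin_generating_family.1 (Ideal.FG.pow hI (n := n))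
    have hstep : ∀ k, ∀ z ∈ cl (n + k), ∃ c : Fin r → M, (∀ j, c j ∈ U k) ∧
        z - ((∑ j, h j • c j : M) : UniformSpace.Completion M) ∈ cl (n + (k + 1)) := by
      intro k z hz
      obtain ⟨m, hm⟩ := exists_coe_sub_mem (U := (U (n + (k + 1))).toAddSubgroup) (hopen _) z
      have hmk : (m : UniformSpace.Completion M) ∈ cl (n + k) := by
        have := sub_mem hz (hclmono (show n + k ≤ n + (k + 1) by omega) hm)
        rwa [sub_sub_cancel] at this
      have hmU := (hcoe (n + k) m).1 hmk
      obtain ⟨c, hc, rfl⟩ := exists_sum_smul_of_mem_span_smul h (U k) (x := m) (by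
        rw [show Ideal.span (Set.range h) = I ^ n from hh, ← mul_smul, ← pow_add]; exact hmU)
      exact ⟨c, hc, hm⟩
    choose! c hc hc' using hstep
    let z : ℕ → UniformSpace.Completion M := fun k => k.rec y fun k zk =>
      zk - ((∑ j, h j • c k zk j : M) : UniformSpace.Completion M)
    have hz : ∀ k, z k ∈ cl (n + k) := by
      intro k
      induction k with
      | zero => exact hy
      | succ k ih => exact hc' _ _ ih
    let s : Fin r → ℕ → M := fun j k => ∑ i ∈ Finset.range k, c i (z i) j
    have hs : ∀ j a b, a ≤ b → s j b - s j a ∈ U a := by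
      intro j a b hab
      simp only [s]
      rw [← Finset.sum_Ico_eq_sub _ hab]
      exact Submodule.sum_mem _ fun i hi => hanti (Finset.mem_Ico.1 hi).1 (hc i _ (hz i) j)
    have hlim : ∀ j, ∃ x ∈ M'', Tendsto (fun k => (s j k : UniformSpace.Completion M)) atTop (𝓝 x) := by
      intro j
      have hcau : CauchySeq (s j) := by
        rw [hbG.uniformity_of_nhds_zero.cauchySeq_iff']
        intro i _
        refine ⟨i, fun m hm => ?_⟩
        show s j i - s j m ∈ U i
        rw [← neg_sub]
        exact neg_mem (hs j i m hm)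
      obtain ⟨x, hx⟩ := cauchySeq_tendsto_of_complete ((UniformSpace.Completion.uniformContinuous_coe M).comp_cauchySeq hcau)
      refine ⟨x, ?_, hx⟩
      refine (AddSubgroup.isClosed_topologicalClosure _).mem_of_tendsto hx (Eventually.of_forall fun k => ?_)
      refine subset_closure ⟨s j k, ?_, rfl⟩
      have := hs j 0 k (Nat.zero_le _)
      simpa [s] using this
    choose x hxM hx using hlim
    have hyz : ∀ k, ∑ j, h j • (s j k : UniformSpace.Completion M) = y - z k := by
      intro k
      induction k with
      | zero => show ∑ j, h j • ((0 : M) : UniformSpace.Completion M) = y - y; simp [UniformSpace.Completion.coe_zero]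
      | succ k ih =>
        simp only [s, Finset.sum_range_succ, UniformSpace.Completion.coe_add, smul_add, Finset.sum_add_distrib]
        rw [ih, show ∑ j, h j • ((c k (z k) j : M) : UniformSpace.Completion M) =
          ((∑ j, h j • c k (z k) j : M) : UniformSpace.Completion M) by
            rw [← UniformSpace.Completion.toCompl_apply (∑ j, h j • c k (z k) j), map_sum]
            simp [UniformSpace.Completion.coe_smul]]
        show _ = y - (z k - _)
        abel
    have h1 : Tendsto (fun k => ∑ j, h j • (s j k : UniformSpace.Completion M)) atTop (𝓝 (∑ j, h j • x j)) :=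
      tendsto_finsetSum _ fun j _ => (hx j).const_smul (h j)
    have h2 : Tendsto z atTop (𝓝 0) := by
      rw [hb'.tendsto_right_iff]
      intro i _
      exact eventually_atTop.2 ⟨i, fun k hk => hclmono (hk.trans (Nat.le_add_left k n)) (hz k)⟩
    simp only [hyz] at h1
    have h3 := h1.add h2
    simp only [sub_add_cancel, add_zero] at h3
    rw [tendsto_nhds_unique tendsto_const_nhds h3]
    refine Submodule.sum_mem _ fun j _ => Submodule.smul_mem_smul ?_ (hxM j)
    rw [← show Ideal.span (Set.range h) = I ^ n from hh]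
    exact Ideal.subset_span ⟨j, rfl⟩
  have heq : ∀ n, ((I ^ n • M'' : Submodule R _) : Set (UniformSpace.Completion M)) = cl n := fun n =>
    Set.ext fun z => ⟨hle n z, hge n z⟩
  refine ⟨⟨M'', fun n => ?_, fun V hV => ?_⟩, fun n hn => ⟨?_, ?_⟩⟩
  · rw [heq]
    exact isOpen_closureImage (U := (U n).toAddSubgroup) (hopen n)
  · obtain ⟨n, -, hn⟩ := hb'.mem_iff.1 hV
    exact ⟨n, by rw [heq]; exact hn⟩
  · intro w
    obtain ⟨w, rfl⟩ := QuotientAddGroup.mk'_surjective _ w
    obtain ⟨m, hm⟩ := exists_coe_sub_mem (U := (U n).toAddSubgroup) (hopen n) w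
    refine ⟨m, (QuotientAddGroup.eq_iff_sub_mem).2 ?_⟩
    rw [← neg_sub]
    exact neg_mem ((smul_mono_right (I ^ n) le_top : _ ≤ (I ^ n • ⊤ : Submodule R (UniformSpace.Completion M))) (hge n _ hm))
  · ext m
    rw [AddMonoidHom.mem_ker, AddMonoidHom.comp_apply, QuotientAddGroup.mk'_apply, QuotientAddGroup.eq_zero_iff]
    show (m : UniformSpace.Completion M) ∈ (I ^ n • ⊤ : Submodule R _) ↔ m ∈ (I ^ n • ⊤ : Submodule R M)
    constructor
    · intro hm
      have key : ∀ z ∈ (I ^ n • ⊤ : Submodule R (UniformSpace.Completion M)),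
          ∃ m0 ∈ (I ^ n • ⊤ : Submodule R M), z - (m0 : UniformSpace.Completion M) ∈ cl n := by
        intro z hz
        induction hz using Submodule.smul_induction_on' with
        | smul r hr w _ =>
          obtain ⟨m1, hm1⟩ := exists_coe_sub_mem (U := (U 0).toAddSubgroup) (hopen 0) w
          refine ⟨r • m1, Submodule.smul_mem_smul hr Submodule.mem_top, ?_⟩
          rw [UniformSpace.Completion.coe_smul, ← smul_sub]
          exact hsmul r 0 n hr _ hm1
        | add a _ b _ ha hb =>
          obtain ⟨a0, ha0, ha1⟩ := ha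
          obtain ⟨b0, hb0, hb1⟩ := hb
          exact ⟨a0 + b0, add_mem ha0 hb0, by rw [UniformSpace.Completion.coe_add, add_sub_add_comm]; exact add_mem ha1 hb1⟩
      obtain ⟨m0, hm0, hm1⟩ := key _ hm
      rw [← UniformSpace.Completion.coe_sub, hcoe] at hm1
      have := add_mem ((smul_mono_right (I ^ n) le_top : _ ≤ (I ^ n • ⊤ : Submodule R M)) hm1) hm0
      rwa [sub_add_cancel] at this
    · intro hm
      induction hm using Submodule.smul_induction_on' with
      | smul r hr w _ => rw [UniformSpace.Completion.coe_smul]; exact Submodule.smul_mem_smul hr Submodule.mem_top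
      | add a _ b _ ha hb => rw [UniformSpace.Completion.coe_add]; exact add_mem ha hb

end Groth.Agent.S10173
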