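import Groth.Statements.S10179
import Groth.Agent.AlgSpTopo.OpenSubLoc

set_option autoImplicit false
set_option backward.isDefEq.respectTransparency false
universe u
open CategoryTheory CategoryTheory.Limits AlgebraicGeometry Topology TopologicalSpace
open AlgSp AlgSp.Points

namespace Groth.Agent.S10179

/-- For an algebraic space X over a scheme S, every point x of |X| has a fundamental system of
quasi-compact open neighbourhoods: every open subset of |X| containing x contains a quasi-compact
open subset containing x. In particular |X| is locally quasi-compact. -/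
theorem result {S : Scheme.{u}} (X : AlgSp.Space S) (x : AlgSp.Points X.obj)
    (W : Set (AlgSp.Points X.obj)) (hW : IsOpen W) (hx : x ∈ W) :
    ∃ V : Set (AlgSp.Points X.obj), IsOpen V ∧ IsCompact V ∧ x ∈ V ∧ V ⊆ W :=
  by
  obtain ⟨U, p, hp, hps⟩ := X.property.atlas
  obtain ⟨u, rfl⟩ := AlgSpTopo.surjective_ofPt (AlgSpTopo.surjective_of_repWith hps) x
  obtain ⟨_, ⟨A, hA, rfl⟩, huA, hAW⟩ := U.left.isBasis_affineOpens.exists_subset_of_mem_open
    (show u ∈ AlgSp.Points.ofPt p ⁻¹' W from hx) (hW.preimage (AlgSp.Points.continuous_ofPt p))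
  exact ⟨AlgSp.Points.ofPt p '' A, AlgSpTopo.isOpenMap_ofPt hp _ A.2,
    (IsAffineOpen.isCompact hA).image (AlgSp.Points.continuous_ofPt p), ⟨u, huA, rfl⟩, Set.image_subset_iff.2 hAW⟩

end Groth.Agent.S10179
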