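import Groth.Statements.S10181
import Groth.Agent.AlgSpTopo.SpProps

set_option autoImplicit false
set_option backward.isDefEq.respectTransparency false
universe u
open CategoryTheory CategoryTheory.Limits AlgebraicGeometry Topology TopologicalSpace
open AlgSp

namespace Groth.Agent.S10181

/-- Let X be an algebraic space over a scheme S and a : h_U ⟶ X a representable etale map from a scheme
U over S whose underlying scheme is separated. Then a is (representable and) separated, and the
scheme R = U ×_X U representing the fibre product h_U ×_X h_U is separated. -/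
theorem result {S : Scheme.{u}} (X : AlgSp.Space S) {U : Over S}
    (a : (AlgSp.yon S).obj U ⟶ X.obj) (ha : AlgSp.RepWith @Etale a) [U.left.IsSeparated] :
    AlgSp.RepWith @IsSeparated a ∧
      ∀ (R : Over S) (s t : R ⟶ U), IsPullback ((AlgSp.yon S).map t) ((AlgSp.yon S).map s) a a →
        R.left.IsSeparated := by
  have h1 : AlgSp.RepWith @IsSeparated ((AlgSp.yon S).map (Over.homMk U.hom (by simp) : U ⟶ Over.mk (𝟙 S))) :=
    (AlgSp.repWith_yon_map_iff _ _).2 (by change IsSeparated U.hom; infer_instance)
  have key := (AlgSpTopo.diagP_iff_repWith (Q := @IsClosedImmersion) (P := @IsSeparated)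
      (fun _ _ s => ⟨fun h => h.1, fun h => ⟨h⟩⟩) h1.rep).2 h1
  have hsep : AlgSp.RepWith @IsSeparated a := (AlgSpTopo.diagP_iff_repWith (Q := @IsClosedImmersion) (P := @IsSeparated)
      (fun _ _ s => ⟨fun h => h.1, fun h => ⟨h⟩⟩) ha.rep).1 fun T x y hxy E e he => key x y (by
        obtain ⟨x, rfl⟩ := (AlgSp.yon S).map_surjective x
        obtain ⟨y, rfl⟩ := (AlgSp.yon S).map_surjective y
        rw [← Functor.map_comp, ← Functor.map_comp]
        congr 1
        ext
        exact (Over.w x).trans (Over.w y).symm) e he
  refine ⟨hsep, fun R s t sq => ?_⟩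
  have : IsSeparated s.left := hsep.property _ _ _ sq
  have h2 : IsSeparated (s.left ≫ terminal.from U.left) := inferInstance
  rw [terminal.comp_from] at h2
  exact ⟨h2⟩

end Groth.Agent.S10181
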