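import Groth.Statements.S10184
import Groth.Agent.AlgSpTopo.SpProps

set_option autoImplicit false
set_option backward.isDefEq.respectTransparency false
universe u
open CategoryTheory CategoryTheory.Limits AlgebraicGeometry Topology TopologicalSpace
open AlgSp

namespace Groth.Agent.S10184

/-- Let X be an algebraic space over a scheme S such that for all affine schemes U, V over S mapping to
X, every scheme P over S representing h_U ×_X h_V is quasi-compact. Then X is quasi-separated over
S. (The published statement is about absolute quasi-separatedness, over the integers, which this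
hypothesis also gives and which implies quasi-separatedness over S.) -/
theorem result {S : Scheme.{u}} (X : AlgSp.Space S)
    (h : ∀ (U V P : Over S) (a : (AlgSp.yon S).obj U ⟶ X.obj) (b : (AlgSp.yon S).obj V ⟶ X.obj)
      (fst : P ⟶ U) (snd : P ⟶ V),
      IsAffine U.left → IsAffine V.left →
      IsPullback ((AlgSp.yon S).map fst) ((AlgSp.yon S).map snd) a b → CompactSpace ↥P.left) :
    AlgSp.IsQuasiSeparatedSp X.obj := by
  refine (AlgSpTopo.qs_sp_iff X.property).2 fun T a b E e he => ?_
  refine IsZariskiLocalAtTarget.of_openCover T.left.affineCover fun k => ?_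
  let T' : Over S := Over.mk (T.left.affineCover.f k ≫ T.hom)
  let c : T' ⟶ T := Over.homMk (T.left.affineCover.f k) rfl
  have : IsAffine T'.left := inferInstanceAs (IsAffine (T.left.affineCover.X k))
  have he' := he.baseChange c
  obtain ⟨P, fst, snd, sq⟩ : ∃ (P : Over S) (fst snd : P ⟶ T'), IsPullback ((AlgSp.yon S).map fst)
      ((AlgSp.yon S).map snd) ((AlgSp.yon S).map c ≫ a) ((AlgSp.yon S).map c ≫ b) :=
    ⟨_, _, _, (X.property.representable_from_yon _).isPullback' _⟩
  obtain ⟨l, hl, -, -⟩ := AlgSpTopo.exists_closed_of_isEq he' sq
  have := h T' T' P _ _ _ _ this this sq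
  have : CompactSpace ↥(pullback e c).left := QuasiCompact.compactSpace_of_compactSpace l.left
  have hq : QuasiCompact ((Over.forget S).map (pullback.snd e c)) :=
    (quasiCompact_iff_compactSpace (pullback.snd e c).left).2 this
  rw [← ((IsPullback.of_hasPullback e c).map (Over.forget S)).isoPullback_hom_snd] at hq
  exact (MorphismProperty.cancel_left_of_respectsIso @QuasiCompact _ _).1 hq

end Groth.Agent.S10184
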