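import Groth.Statements.S10185
import Groth.Agent.AlgSpTopo.SpProps
import Groth.Agent.AlgSpTopo.Separation

set_option autoImplicit false
set_option backward.isDefEq.respectTransparency false
universe u
open CategoryTheory CategoryTheory.Limits AlgebraicGeometry Topology TopologicalSpace
open AlgSp

namespace Groth.Agent.S10185

/-- Let S be a quasi-separated scheme and X an algebraic space over S whose diagonal over S is
quasi-compact. Then for all quasi-compact schemes U, V over S mapping to X, every scheme P over S
representing the fibre product h_U ×_X h_V is quasi-compact. (The published statement uses absolute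
quasi-separatedness of X; over a quasi-separated base this is the same as quasi-separatedness over
S, and without a hypothesis on S the relative notion does not suffice: take X = h_S for S
quasi-compact and not quasi-separated.) -/
theorem result {S : Scheme.{u}} [QuasiSeparatedSpace ↥S]
    (X : AlgSp.Space S) (hX : AlgSp.IsQuasiSeparatedSp X.obj) (U V P : Over S) (a : (AlgSp.yon S).obj U ⟶ X.obj) (b : (AlgSp.yon S).obj V ⟶ X.obj)
      (fst : P ⟶ U) (snd : P ⟶ V)
    [CompactSpace ↥U.left] [CompactSpace ↥V.left]
    (h : IsPullback ((AlgSp.yon S).map fst) ((AlgSp.yon S).map snd) a b) :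
    CompactSpace ↥P.left := by
  let T : Over S := Over.mk (pullback.fst U.hom V.hom ≫ U.hom)
  let t₁ : T ⟶ U := Over.homMk (pullback.fst U.hom V.hom) rfl
  let t₂ : T ⟶ V := Over.homMk (pullback.snd U.hom V.hom) pullback.condition.symm
  let m : P ⟶ T := Over.homMk (pullback.lift fst.left snd.left (by rw [Over.w, Over.w])) (by
    change pullback.lift fst.left snd.left _ ≫ pullback.fst U.hom V.hom ≫ U.hom = _
    rw [pullback.lift_fst_assoc, Over.w])
  have m1 : m ≫ t₁ = fst := Over.OverMorphism.ext (pullback.lift_fst _ _ _)
  have m2 : m ≫ t₂ = snd := Over.OverMorphism.ext (pullback.lift_snd _ _ _)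
  have hT : IsPullback t₁.left t₂.left U.hom V.hom := IsPullback.of_hasPullback _ _
  have sq : IsPullback ((AlgSp.yon S).map fst ≫ a) ((AlgSp.yon S).map m) (Limits.diag X.obj)
      (prod.lift ((AlgSp.yon S).map t₁ ≫ a) ((AlgSp.yon S).map t₂ ≫ b)) := by
    have hm : ∀ {Z : AlgSp.Sp S} (x y : Z ⟶ (AlgSp.yon S).obj T), x ≫ (AlgSp.yon S).map t₁ = y ≫ (AlgSp.yon S).map t₁ →
        x ≫ (AlgSp.yon S).map t₂ = y ≫ (AlgSp.yon S).map t₂ → x = y := fun x y h1 h2 => by
      have hp : IsPullback t₁ t₂ (Over.homMk U.hom : U ⟶ Over.mk (𝟙 S)) (Over.homMk V.hom : V ⟶ Over.mk (𝟙 S)) :=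
        IsPullback.of_map_of_faithful (Over.forget S) hT
      exact (hp.map (AlgSp.yon S)).hom_ext h1 h2
    refine IsPullback.of_isLimit' ⟨?_⟩ (PullbackCone.IsLimit.mk _
      (fun c => h.lift (c.snd ≫ (AlgSp.yon S).map t₁) (c.snd ≫ (AlgSp.yon S).map t₂) ?_) (fun c => ?_) (fun c => ?_) (fun c k h1 h2 => ?_))
    · apply prod.hom_ext
      · simp only [Category.assoc, prod.comp_lift, prod.lift_fst]
        rw [← Category.assoc ((AlgSp.yon S).map m), ← Functor.map_comp, m1, Category.comp_id]
      · simp only [Category.assoc, prod.comp_lift, prod.lift_snd]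
        rw [← Category.assoc ((AlgSp.yon S).map m), ← Functor.map_comp, m2, Category.comp_id, h.w]
    · have c1 := congrArg (· ≫ prod.fst) c.condition
      have c2 := congrArg (· ≫ prod.snd) c.condition
      simp at c1 c2
      rw [Category.assoc, Category.assoc, ← c1, ← c2]
    · have c1 := congrArg (· ≫ prod.fst) c.condition
      simp at c1
      rw [h.lift_fst_assoc, c1, Category.assoc]
    · apply hm
      · rw [Category.assoc, ← Functor.map_comp, m1, h.lift_fst]
      · rw [Category.assoc, ← Functor.map_comp, m2, h.lift_snd]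
    · apply h.hom_ext
      · rw [h.lift_fst, ← h2, Category.assoc, ← Functor.map_comp, m1]
      · rw [h.lift_snd, ← h2, Category.assoc, ← Functor.map_comp, m2]
  have : QuasiCompact m.left := hX.property _ _ _ sq
  have : CompactSpace ↥T.left := by
    have : QuasiSeparated (terminal.from S) := (quasiSeparatedSpace_iff_quasiSeparated _).1 inferInstance
    have : QuasiCompact (U.hom ≫ terminal.from S) := (quasiCompact_iff_compactSpace _).2 inferInstance
    have : QuasiCompact U.hom := QuasiCompact.of_comp U.hom (terminal.from S)
    exact QuasiCompact.compactSpace_of_compactSpace (pullback.snd U.hom V.hom)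
  exact QuasiCompact.compactSpace_of_compactSpace m.left

end Groth.Agent.S10185
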