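import Groth.Statements.S10186
import Groth.Agent.AlgSpTopo.SpProps

set_option autoImplicit false
set_option backward.isDefEq.respectTransparency false
universe u
open CategoryTheory CategoryTheory.Limits AlgebraicGeometry Topology TopologicalSpace
open AlgSp

namespace Groth.Agent.S10186

/-- Let X be an algebraic space over a scheme S such that for all affine schemes U, V over S mapping to
X and every scheme P over S representing h_U ×_X h_V, the scheme P is affine and the ring map from
the tensor product over the integers of the global sections of U and V to the global sections of P,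
induced by the two projections, is surjective. Then X is separated over S. (The published statement
concerns absolute separatedness, over the integers, which this hypothesis also gives and which
implies separatedness over S.) -/
theorem result {S : Scheme.{u}} (X : AlgSp.Space S)
    (h : ∀ (U V P : Over S) (a : (AlgSp.yon S).obj U ⟶ X.obj) (b : (AlgSp.yon S).obj V ⟶ X.obj)
      (fst : P ⟶ U) (snd : P ⟶ V),
      IsAffine U.left → IsAffine V.left →
      IsPullback ((AlgSp.yon S).map fst) ((AlgSp.yon S).map snd) a b →
        IsAffine P.left ∧ Function.Surjective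
          (Algebra.TensorProduct.productMap fst.left.appTop.hom.toIntAlgHom snd.left.appTop.hom.toIntAlgHom)) :
    AlgSp.IsSeparatedSp X.obj := by
  refine ⟨X.property.diag, fun T E g fst e sq => ?_⟩
  have he := AlgSpTopo.isEq_of_square_diag sq
  change IsClosedImmersion e.left
  refine IsZariskiLocalAtTarget.of_openCover (P := @IsClosedImmersion) T.left.affineCover fun k => ?_
  let T' : Over S := Over.mk (T.left.affineCover.f k ≫ T.hom)
  let c : T' ⟶ T := Over.homMk (T.left.affineCover.f k) rfl
  have hT' : IsAffine T'.left := inferInstanceAs (IsAffine (T.left.affineCover.X k))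
  have he' := he.baseChange c
  obtain ⟨P, p, q, sqP⟩ : ∃ (P : Over S) (p q : P ⟶ T'), IsPullback ((AlgSp.yon S).map p)
      ((AlgSp.yon S).map q) ((AlgSp.yon S).map c ≫ g ≫ Limits.prod.fst) ((AlgSp.yon S).map c ≫ g ≫ Limits.prod.snd) :=
    ⟨_, _, _, (X.property.representable_from_yon _).isPullback' _⟩
  obtain ⟨l, hl, hlp, hlq⟩ := AlgSpTopo.exists_closed_of_isEq he' sqP
  obtain ⟨hP, hs⟩ := h T' T' P _ _ _ _ hT' hT' sqP
  have : IsAffine (pullback e c).left := isAffine_of_isAffineHom l.left
  have hci : IsClosedImmersion ((Over.forget S).map (pullback.snd e c)) := by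
    refine IsClosedImmersion.of_surjective_of_isAffine (pullback.snd e c).left fun z => ?_
    obtain ⟨y, rfl⟩ := (IsClosedImmersion.isAffine_surjective_of_isAffine l.left).2 z
    obtain ⟨w, rfl⟩ := hs y
    have h1 : p.left.appTop ≫ l.left.appTop = (pullback.snd e c).left.appTop := by
      rw [← Scheme.Hom.comp_appTop, ← Over.comp_left, hlp]
    have h2 : q.left.appTop ≫ l.left.appTop = (pullback.snd e c).left.appTop := by
      rw [← Scheme.Hom.comp_appTop, ← Over.comp_left, hlq]
    induction w using TensorProduct.induction_on with
    | zero => exact ⟨0, by simp⟩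
    | tmul x x' => exact ⟨x * x', by
        rw [map_mul, Algebra.TensorProduct.productMap_apply_tmul, map_mul]
        exact congrArg₂ (· * ·) (ConcreteCategory.congr_hom h1.symm x) (ConcreteCategory.congr_hom h2.symm x')⟩
    | add x x' hx hx' =>
      obtain ⟨u, hu⟩ := hx
      obtain ⟨v, hv⟩ := hx'
      exact ⟨u + v, by rw [map_add, map_add, map_add, hu, hv]⟩
  rw [← ((IsPullback.of_hasPullback e c).map (Over.forget S)).isoPullback_hom_snd] at hci
  exact (MorphismProperty.cancel_left_of_respectsIso @IsClosedImmersion _ _).1 hci

end Groth.Agent.S10186
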