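import Groth.Statements.S10190
import Groth.Agent.HensPair.RelDimCodim

set_option autoImplicit false
universe u
open CategoryTheory CategoryTheory.Limits AlgebraicGeometry Topology TopologicalSpace
open AlgSp

namespace Groth.Agent.S10190

/-- For an algebraic space X over a scheme S, the set of codimension 0 points of X (points x of |X| such
that, for some representable etale h_U ⟶ X from a scheme U and some point u of U mapping to x, the
local ring of U at u has dimension 0) is dense in |X|. -/
theorem result {S : Scheme.{u}} (X : AlgSp.Space S) :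
    Dense {x : AlgSp.Points X.obj |
      AlgSp.HasAt (fun U u => ringKrullDim ↥(U.presheaf.stalk u) = 0) X.obj x} := by
  open AlgSp AlgSpTopo in
  refine dense_iff_inter_open.mpr fun O hO ⟨x, hx⟩ => ?_
  obtain ⟨U, a, ha, has⟩ := X.property.atlas
  obtain ⟨w, rfl⟩ := surjective_of_repWith has x
  obtain ⟨u, rfl⟩ := ofScheme_surjective U w
  rw [← Points.ofPt_eq_map_ofScheme] at hx
  obtain ⟨g, hg, hgmax⟩ := Groth.Agent.Equidim.AffineCrit.exists_maximal_above u
  refine ⟨Points.ofPt a g, (hg.map (Points.continuous_ofPt a)).mem_open hO hx, U, a, g, ha, rfl, ?_⟩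
  exact (Groth.Agent.HensPair.RelDimStalk.dim_stalk_eq_zero_iff g).mpr (Groth.Agent.Equidim.closure_mem_irreducibleComponents g hgmax)

end Groth.Agent.S10190
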