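import Groth.Statements.S10196
import Groth.Agent.AlgSpTopo.SpProps
import Groth.Agent.AlgSpTopo.LargestOpen

set_option autoImplicit false
set_option backward.isDefEq.respectTransparency false
universe u
open CategoryTheory CategoryTheory.Limits AlgebraicGeometry Topology TopologicalSpace
open AlgSp

namespace Groth.Agent.S10196

/-- Let X be an algebraic space over a scheme S, a : h_U ⟶ X a representable etale map from a scheme U
over S, and X' ⟶ X the open subspace whose image in |X| is the (open) image of U. Then a factors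
through a representable etale and surjective a' : h_U ⟶ X', and if R is a scheme over S with h_R =
h_U ×_X h_U then also h_R = h_U ×_{X'} h_U and (U, R, a') is a presentation of X'. -/
theorem result {S : Scheme.{u}} {X X' : AlgSp.Space S} {U : Over S}
    (a : (AlgSp.yon S).obj U ⟶ X.obj) (ha : AlgSp.RepWith @Etale a)
    (j : X' ⟶ X) (hj : AlgSp.RepWith @IsOpenImmersion j.hom)
    (himage : Set.range (AlgSp.Points.map j.hom) = Set.range (AlgSp.Points.ofPt a)) :
    ∃ a' : (AlgSp.yon S).obj U ⟶ X'.obj, a' ≫ j.hom = a ∧ AlgSp.RepWith @Etale a' ∧ AlgSp.RepWith @Surjective a' ∧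
      ∀ (R : Over S) (s t : R ⟶ U), IsPullback ((AlgSp.yon S).map t) ((AlgSp.yon S).map s) a a →
        AlgSp.IsPresentation s t a' := by
  obtain ⟨a', ha'⟩ := AlgSpTopo.exists_lift_of_range_subset hj a (by
    rw [himage]
    rintro _ ⟨z, rfl⟩
    obtain ⟨u, rfl⟩ := AlgSpTopo.ofScheme_surjective U z
    exact ⟨u, (AlgSp.Points.ofPt_eq_map_ofScheme a u)⟩)
  have := AlgSpTopo.mono_of_repWith j.hom hj fun _ _ g hg => have := hg; inferInstance
  have he : AlgSp.RepWith @Etale a' := AlgSpTopo.repWith_of_comp_mono (j := j.hom) (by rwa [ha'])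
  have hs : AlgSp.RepWith @Surjective a' := AlgSpTopo.repWith_surjective_of_points he.rep fun y => by
    obtain ⟨u, hu⟩ : AlgSp.Points.map j.hom y ∈ Set.range (AlgSp.Points.ofPt a) := himage ▸ ⟨y, rfl⟩
    refine ⟨AlgSp.Points.ofScheme U u, AlgSpTopo.injective_points_of_mono j.hom ?_⟩
    rw [← hu, ← ha', AlgSp.Points.ofPt_eq_map_ofScheme, AlgSp.Points.map_comp]
  refine ⟨a', ha', he, hs, fun R s t sq => ?_⟩
  have sq' : IsPullback ((AlgSp.yon S).map t) ((AlgSp.yon S).map s) a' a' := by
    rw [← ha'] at sq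
    exact AlgSpTopo.isPullback_of_mono_comp sq
  exact ⟨AlgSpTopo.isEtaleEqvRel_of_isPullback a' he s t sq', he, hs, sq'⟩

end Groth.Agent.S10196
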