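import Groth.Statements.S10213
import Groth.Agent.AlgSpTopo.SpProps

set_option autoImplicit false
set_option backward.isDefEq.respectTransparency false
universe u
open CategoryTheory CategoryTheory.Limits AlgebraicGeometry Topology TopologicalSpace
open AlgSp

namespace Groth.Agent.S10213

/-- For an algebraic space X over a scheme S there is a surjective etale map h_U ⟶ X where U is a
disjoint union of affine schemes, each of which maps into an affine open of S. -/
theorem result {S : Scheme.{u}} (X : AlgSp.Space S) :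
    ∃ (ι : Type u) (V : ι → Scheme.{u}) (_ : ∀ i, IsAffine (V i)) (q : (∐ V) ⟶ S)
      (p : (AlgSp.yon S).obj (Over.mk q) ⟶ X.obj),
      AlgSp.RepWith @Etale p ∧ AlgSp.RepWith @Surjective p ∧
        ∀ i, ∃ W : S.Opens, IsAffineOpen W ∧ ∀ v : ↥(V i), (Sigma.ι V i ≫ q) v ∈ W := by
  obtain ⟨U, p, hp, hps⟩ := X.property.atlas
  let ι := Σ W : S.affineOpens, {V : U.left.affineOpens // ∀ v, v ∈ V.1 → U.hom v ∈ W.1}
  let V : ι → Scheme.{u} := fun i => i.2.1.1.toScheme
  let c : (∐ V) ⟶ U.left := Sigma.desc fun i => i.2.1.1.ι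
  let cO : Over.mk (c ≫ U.hom) ⟶ U := Over.homMk c rfl
  have hc : Etale cO.left := IsZariskiLocalAtSource.sigmaDesc fun i => inferInstance
  have hcs : Surjective cO.left := ⟨fun x => by
    obtain ⟨W, hW, hxW, -⟩ := exists_isAffineOpen_mem_and_subset (U := (⊤ : S.Opens)) (x := U.hom x) trivial
    obtain ⟨O, hO, hxO, hOW⟩ := exists_isAffineOpen_mem_and_subset (U := U.hom ⁻¹ᵁ W) (x := x) hxW
    let i : ι := ⟨⟨W, hW⟩, ⟨⟨O, hO⟩, fun v hv => hOW hv⟩⟩
    refine ⟨Sigma.ι V i ⟨x, hxO⟩, ?_⟩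
    change c _ = x
    rw [← Scheme.Hom.comp_apply, Sigma.ι_desc]
    rfl⟩
  refine ⟨ι, V, fun i => i.2.1.2, c ≫ U.hom, (AlgSp.yon S).map cO ≫ p,
    MorphismProperty.comp_mem _ _ _ ((AlgSp.repWith_yon_map_iff _ cO).2 hc) hp,
    MorphismProperty.comp_mem _ _ _ ((AlgSp.repWith_yon_map_iff _ cO).2 hcs) hps,
    fun i => ⟨i.1.1, i.1.2, fun v => ?_⟩⟩
  rw [Sigma.ι_desc_assoc]
  exact i.2.2 _ v.2

end Groth.Agent.S10213
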