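import Groth.Statements.S10214
import Groth.Agent.AlgSpTopo.SpProps
import Groth.Agent.AlgSpTopo.LargestOpen

set_option autoImplicit false
set_option backward.isDefEq.respectTransparency false
universe u
open CategoryTheory CategoryTheory.Limits AlgebraicGeometry Topology TopologicalSpace
open AlgSp

namespace Groth.Agent.S10214

/-- Every algebraic space X over a scheme S has a Zariski covering by open subspaces X_i such that each
X_i has a surjective etale map from an affine scheme; moreover the affine schemes may be taken to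
map into affine opens of S. -/
theorem result {S : Scheme.{u}} (X : AlgSp.Space S) :
    ∃ (ι : Type u) (Xi : ι → AlgSp.Space S) (j : ∀ i, Xi i ⟶ X),
      AlgSp.IsZarCover (fun i => (Xi i).obj) (fun i => (j i).hom) ∧
        ∀ i, ∃ (U : Over S) (p : (AlgSp.yon S).obj U ⟶ (Xi i).obj), IsAffine U.left ∧
          AlgSp.RepWith @Etale p ∧ AlgSp.RepWith @Surjective p ∧
          ∃ W : S.Opens, IsAffineOpen W ∧ ∀ v : ↥U.left, U.hom v ∈ W := by
  obtain ⟨U, p, hp, hps⟩ := X.property.atlas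
  let ι := Σ W : S.affineOpens, {V : U.left.affineOpens // ∀ v, v ∈ V.1 → U.hom v ∈ W.1}
  let O : ι → Set (AlgSp.Points X.obj) := fun i => AlgSp.Points.ofPt p '' (i.2.1.1 : Set ↥U.left)
  have hO : ∀ i, IsOpen (O i) := fun i => AlgSpTopo.isOpenMap_ofPt hp _ i.2.1.1.2
  refine ⟨ι, fun i => ⟨AlgSpTopo.openSub X.obj (O i), AlgSpTopo.isAlgSpace_openSub X.property (hO i)⟩,
    fun i => ObjectProperty.homMk (AlgSpTopo.openSubι X.obj (O i)),
    ⟨fun i => AlgSpTopo.repWith_openSubι (hO i), fun x => ?_⟩, fun i => ?_⟩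
  · obtain ⟨z, rfl⟩ := AlgSpTopo.surjective_of_repWith hps x
    obtain ⟨u, rfl⟩ := AlgSpTopo.ofScheme_surjective U z
    obtain ⟨W, hW, hxW, -⟩ := exists_isAffineOpen_mem_and_subset (U := (⊤ : S.Opens)) (x := U.hom u) trivial
    obtain ⟨V, hV, hxV, hVW⟩ := exists_isAffineOpen_mem_and_subset (U := U.hom ⁻¹ᵁ W) (x := u) hxW
    refine ⟨⟨⟨W, hW⟩, ⟨⟨V, hV⟩, fun v hv => hVW hv⟩⟩, ?_⟩
    erw [AlgSpTopo.range_openSubι]
    exact ⟨u, hxV, AlgSp.Points.ofPt_eq_map_ofScheme p u⟩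
  · let c : Over.mk (i.2.1.1.ι ≫ U.hom) ⟶ U := Over.homMk i.2.1.1.ι rfl
    obtain ⟨q, hq⟩ := AlgSpTopo.exists_lift_openSub (W := O i) ((AlgSp.yon S).map c ≫ p) fun t => by
      rw [AlgSpTopo.ofPt_comp]; exact ⟨_, t.2, rfl⟩
    have hqe : AlgSp.RepWith @Etale q := AlgSpTopo.repWith_of_comp_mono (j := AlgSpTopo.openSubι X.obj (O i)) (by
      rw [hq]
      exact MorphismProperty.comp_mem _ _ _ ((AlgSp.repWith_yon_map_iff _ c).2 (by change Etale i.2.1.1.ι; infer_instance)) hp)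
    refine ⟨_, q, i.2.1.2, hqe, AlgSpTopo.repWith_surjective_of_points hqe.rep fun y => ?_, i.1.1, i.1.2,
      fun v => i.2.2 _ v.2⟩
    have hy : AlgSp.Points.map (AlgSpTopo.openSubι X.obj (O i)) y ∈ O i := by
      have : AlgSp.Points.map (AlgSpTopo.openSubι X.obj (O i)) y ∈ Set.range (AlgSp.Points.map (AlgSpTopo.openSubι X.obj (O i))) := ⟨y, rfl⟩
      rwa [AlgSpTopo.range_openSubι] at this
    obtain ⟨u, hu, e⟩ := hy
    refine ⟨AlgSp.Points.ofScheme _ ⟨u, hu⟩, AlgSpTopo.injective_points_of_mono (AlgSpTopo.openSubι X.obj (O i)) ?_⟩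
    rw [← AlgSp.Points.map_comp, hq, ← AlgSp.Points.ofPt_eq_map_ofScheme, AlgSpTopo.ofPt_comp]
    exact e

end Groth.Agent.S10214
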