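import Groth.Statements.S10215
import Groth.Agent.AlgSpTopo.SpProps

set_option autoImplicit false
set_option backward.isDefEq.respectTransparency false
universe u
open CategoryTheory CategoryTheory.Limits AlgebraicGeometry Topology TopologicalSpace
open AlgSp

namespace Groth.Agent.S10215

/-- Let X be an algebraic space over a scheme S and p : Spec K ⟶ X, q : Spec L ⟶ X morphisms from
spectra of fields over S which determine the same point of |X|, with p a monomorphism. Then q
factors uniquely through p. -/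
theorem result {S : Scheme.{u}} (X : AlgSp.Space S) (p q : AlgSp.FieldPt X.obj)
    (h : AlgSp.Points.mk p = AlgSp.Points.mk q) [Mono p.toHom] :
    ∃! c : q.pt ⟶ p.pt, (AlgSp.yon S).map c ≫ p.toHom = q.toHom := by
  obtain ⟨W, t, φ, sq⟩ : ∃ (W : Over S) (t : (AlgSp.yon S).obj W ⟶ (AlgSp.yon S).obj p.pt) (φ : W ⟶ q.pt),
      IsPullback t ((AlgSp.yon S).map φ) p.toHom q.toHom :=
    ⟨_, _, _, (X.property.representable_from_yon p.toHom).isPullback q.toHom⟩
  have : Mono ((AlgSp.yon S).map φ) := sq.mono_snd_of_mono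
  have hpts : AlgSp.Points.map p.toHom (AlgSp.Points.ofScheme p.pt (IsLocalRing.closedPoint p.K)) =
      AlgSp.Points.map q.toHom (AlgSp.Points.ofScheme q.pt (IsLocalRing.closedPoint q.K)) := by
    rw [AlgSpTopo.mk_val_toHom, AlgSpTopo.mk_val_toHom, AlgSp.FieldPt.uliftYonedaEquiv_toHom, AlgSp.FieldPt.uliftYonedaEquiv_toHom]
    exact h
  obtain ⟨w, -, -⟩ := AlgSpTopo.points_surj sq _ _ hpts
  have : IsIso ((AlgSp.yon S).map φ) :=
    AlgSpTopo.isIso_of_mono_of_fpqc_lift (AlgSp.IsAlgSpace.yon_obj W) (AlgSp.IsAlgSpace.yon_obj q.pt) _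
      fun T hT κ => AlgSpTopo.fpqc_lift_of_nonempty q.str (AlgSp.IsAlgSpace.yon_obj W) _ ⟨w⟩ T hT κ
  obtain ⟨c, hc⟩ := (AlgSp.yon S).map_surjective (inv ((AlgSp.yon S).map φ) ≫ t)
  refine ⟨c, by beta_reduce; rw [hc, Category.assoc, sq.w, IsIso.inv_hom_id_assoc], fun c' hc' => (AlgSp.yon S).map_injective ?_⟩
  rw [← cancel_mono p.toHom, hc, Category.assoc, sq.w, IsIso.inv_hom_id_assoc]
  exact hc' 

end Groth.Agent.S10215
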