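import Groth.Statements.S10245
import Groth.Agent.Coeq6.Action
import Mathlib.AlgebraicGeometry.Morphisms.UniversallyInjective

set_option autoImplicit false
universe u
open CategoryTheory CategoryTheory.Limits MonoidalCategory CartesianMonoidalCategory MonObj AlgebraicGeometry Topology TopologicalSpace
open AlgSp

namespace Groth.Agent.S10245

/-- Let G ⟶ S be a finite locally free group scheme over a scheme S acting on a scheme X over S by a : G
×_S X ⟶ X, freely on T-valued points for every S-scheme T. Assume one of the following: the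
structure morphism X ⟶ S is affine; X admits an open immersion into some affine scheme; G ⟶ S is
radicial (universally injective). Then the fppf quotient sheaf X/G is a scheme M: there is q : X ⟶ M
over S exhibiting h_M as the quotient of h_X by the projection and the action G ×_S X ⇉ X in fppf
sheaves; moreover the square formed by the action, the projection and q is cartesian (G ×_S X ≅ X
×_M X) and X ⟶ M has sections fppf locally on M, so that X ⟶ X/G is an fppf G-torsor. (The published
statement also allows X ⟶ S quasi-affine, projective or quasi-projective, or X an open subscheme of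
Proj of a graded ring; those cases are not covered by this row.) -/
theorem result {S : Scheme.{u}} (G X : Over S) [GrpObj G]
    (a : AlgGrp.Action G X) (hG : Mor2.IsFinLocFree G.hom)
    (hfree : ∀ (T : Over S) (g : T ⟶ G) (x : T ⟶ X), lift g x ≫ a.act = x → g = toUnit T ≫ η[G])
    (h3 : IsAffineHom X.hom ∨ (∃ (R : CommRingCat.{u}) (i : X.left ⟶ Spec R), IsOpenImmersion i) ∨
      UniversallyInjective G.hom) :
    ∃ (M : Over S) (q : X ⟶ M), QuotSh.IsQuotient Scheme.fppfPrecoverage (snd G X) a.act q ∧
      IsPullback a.act.left (snd G X).left q.left q.left ∧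
      NonAbH1.IsLocallyTrivialFor Scheme.fppfPrecoverage (Over.mk q.left) := by
  let H := Coeq6.Action.groupoid a hfree
  haveI := hG.1; haveI := hG.2.1; haveI := hG.2.2
  have bc : IsPullback (fst G X).left (snd G X).left G.hom X.hom := IsPullback.of_hasPullback _ _
  have hs : Mor2.IsFinLocFree H.s :=
    ⟨MorphismProperty.of_isPullback (P := @IsFinite) bc ‹IsFinite G.hom›,
      MorphismProperty.of_isPullback (P := @Flat) bc ‹Flat G.hom›,
      MorphismProperty.of_isPullback (P := @LocallyOfFinitePresentation) bc ‹LocallyOfFinitePresentation G.hom›⟩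
  haveI : IsFinite (snd G X).left := hs.1
  have heq : AlgSp.IsEqvRel (Over.homMk H.s H.s_over : Over.mk H.pR ⟶ Over.mk H.pU)
      (Over.homMk H.t H.t_over : Over.mk H.pR ⟶ Over.mk H.pU) := by
    show AlgSp.IsEqvRel (snd G X) a.act
    refine ⟨fun T r r' h₁ h₂ => Coeq6.Action.joint a hfree r r' h₁ h₂, fun T => ⟨fun x => ?_, ?_, ?_⟩⟩
    · exact ⟨lift 1 x, HopfRep.Orbit.act_one a x, lift_snd _ _⟩
    · rintro x y ⟨r, rfl, rfl⟩
      refine ⟨r ≫ lift (fst G X)⁻¹ a.act, ?_, ?_⟩
      · rw [Category.assoc, Coeq6.Action.inv_act]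
      · rw [Category.assoc, lift_snd]
    · rintro x y z ⟨r, rfl, rfl⟩ ⟨r', h', rfl⟩
      refine ⟨lift ((r ≫ fst G X) * (r' ≫ fst G X)) (r' ≫ snd G X), ?_, lift_snd _ _⟩
      rw [HopfRep.Orbit.act_mul, ← comp_lift, lift_fst_snd, Category.comp_id, h', ← comp_lift, lift_fst_snd,
        Category.comp_id]
  have key : ∀ x : X.left, ∃ W : X.left.Opens, IsAffineOpen W ∧
      ∀ r : ↥(G ⊗ X).left, (snd G X).left r = x → a.act.left r ∈ W := by
    intro x
    rcases h3 with haff | ⟨A, i, hi⟩ | hui
    · obtain ⟨_, ⟨B, hB, rfl⟩, hxB, -⟩ := S.isBasis_affineOpens.exists_subset_of_mem_open (Set.mem_univ (X.hom x)) isOpen_univ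
      refine ⟨X.hom ⁻¹ᵁ B, hB.preimage X.hom, fun r hr => ?_⟩
      show X.hom (a.act.left r) ∈ B
      rw [← Scheme.Hom.comp_apply, Over.w, ← Over.w (snd G X), Scheme.Hom.comp_apply, hr]
      exact hxB
    · let F : Set ↥(Spec A) := i '' (a.act.left '' ((snd G X).left ⁻¹' {x}))
      have hF : F.Finite := (((snd G X).left.finite_preimage_singleton x).image _).image _
      obtain ⟨f, hf₁, hf₂⟩ := Coeq6.Invariant.exists_basicOpen i.opensRange F hF
        (by rintro _ ⟨y, -, rfl⟩; exact ⟨y, rfl⟩)
      refine ⟨i ⁻¹ᵁ (Spec A).basicOpen f, ((isAffineOpen_top (Spec A)).basicOpen f).preimage_of_isOpenImmersion i hf₁,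
        fun r hr => hf₂ ⟨_, ⟨r, hr, rfl⟩, rfl⟩⟩
    · haveI : UniversallyInjective (snd G X).left := MorphismProperty.of_isPullback (P := @UniversallyInjective) bc hui
      obtain ⟨_, ⟨B, hB, rfl⟩, hxB, -⟩ := X.left.isBasis_affineOpens.exists_subset_of_mem_open (Set.mem_univ x) isOpen_univ
      refine ⟨B, hB, fun r hr => ?_⟩
      have h1 : (lift (1 : X ⟶ G) (𝟙 X)).left ≫ (snd G X).left = 𝟙 _ := by
        rw [← Over.comp_left, lift_snd]; rfl
      have h2 : (lift (1 : X ⟶ G) (𝟙 X)).left ≫ a.act.left = 𝟙 _ := by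
        rw [← Over.comp_left, HopfRep.Orbit.act_one]; rfl
      have : r = (lift (1 : X ⟶ G) (𝟙 X)).left x :=
        (snd G X).left.injective (hr.trans (congrArg (fun f => f x) h1).symm)
      rw [this, ← Scheme.Hom.comp_apply, h2]
      exact hxB
  obtain ⟨M, q, hq, hP, hQ⟩ := Coeq6.AlgSpaces.quotient H hs heq fun Z _ hne => by
    obtain ⟨x, hx⟩ := hne
    obtain ⟨W, hW, h⟩ := key x
    exact ⟨x, hx, W, hW, h⟩
  haveI := hq.2.1; haveI := hq.2.2
  haveI : Surjective q.left := Coeq6.AlgSpaces.surjective_of_isQuotient hQ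
  exact ⟨M, q, hQ, hP, _, Scheme.Hom.singleton_mem_fppfPrecoverage q.left, fun S' f hf => by
    cases hf
    exact ⟨𝟙 _, Category.id_comp _⟩⟩

end Groth.Agent.S10245
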