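import Groth.Statements.S10249
import Groth.Agent.HensPair.RelDimCodim

set_option autoImplicit false
universe u
open CategoryTheory CategoryTheory.Limits AlgebraicGeometry Topology TopologicalSpace
open AlgSp

namespace Groth.Agent.S10249

/-- Let X and Y be algebraic spaces over a scheme S, f : X ⟶ Y an etale morphism and x ∈ |X| with image
y ∈ |Y|. Then (1) X at x and Y at y have the same dimension: for every d, some etale chart h_U ⟶ X
from a scheme U and some point u of U over x have local dimension d (of the topological space U at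
u) if and only if the same holds for Y at y; and (2) the local rings of X at x and of Y at y have
the same Krull dimension, in the same some-chart sense with the Krull dimension of the local ring of
U at u. -/
theorem result {S : Scheme.{u}} {X Y : AlgSp.Space S} (f : X ⟶ Y)
    (hf : AlgSp.IsEtaleMor f.hom) (x : AlgSp.Points X.obj) :
    (∀ d : WithBot ℕ∞,
        AlgSp.HasAt (fun U u => FlatMor.localDim ↥U u = d) X.obj x ↔
          AlgSp.HasAt (fun U u => FlatMor.localDim ↥U u = d) Y.obj (AlgSp.Points.map f.hom x)) ∧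
    (∀ d : WithBot ℕ∞,
        AlgSp.HasAt (fun U u => ringKrullDim ↥(U.presheaf.stalk u) = d) X.obj x ↔
          AlgSp.HasAt (fun U u => ringKrullDim ↥(U.presheaf.stalk u) = d) Y.obj (AlgSp.Points.map f.hom x)) := by
  open AlgSp AlgSpTopo Groth.Agent.HensPair in
  obtain ⟨U, a, ha, has⟩ := X.property.atlas
  obtain ⟨w, rfl⟩ := surjective_of_repWith has x
  obtain ⟨u, rfl⟩ := ofScheme_surjective U w
  rw [← Points.ofPt_eq_map_ofScheme, Points.map_ofPt]
  have hb : RepWith @Etale (a ≫ f.hom) := hf a ha
  have loc : ∀ {A B : Scheme.{u}} (e : A ⟶ B) [Etale e] (z : A), FlatMor.localDim ↥A z = FlatMor.localDim ↥B (e z) := by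
    intro A B e _ z
    haveI : LocallyQuasiFinite e := etaleLocal_locallyQuasiFinite.of_etale e ‹_›
    exact ThickScheme.localDim_eq_of_etaleLike e e.continuous e.isOpenMap
      (fun a a' h e' => ThickScheme.eq_of_specializes_of_discrete (e.isDiscrete_preimage_singleton (e a)) rfl e'.symm h)
      (Flat.generalizingMap e) z
  have key : ∀ {F : Sp S} {U : Over S} {a : (yon S).obj U ⟶ F} (ha : RepWith @Etale a) (u : U.left) (d : WithBot ℕ∞),
      HasAt (fun U u => FlatMor.localDim ↥U u = d) F (Points.ofPt a u) ↔ FlatMor.localDim ↥U.left u = d := by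
    intro F U a ha u d
    refine ⟨?_, fun h => ⟨U, a, u, ha, rfl, h⟩⟩
    rintro ⟨U₁, a₁, u₁, ha₁, hx, h⟩
    obtain ⟨E, w, e, sq, he⟩ := exists_square ha a₁
    obtain ⟨w, rfl⟩ := (yon S).map_surjective w
    haveI : Etale w.left := ha₁.property _ _ _ sq.flip
    haveI : Etale e.left := he
    obtain ⟨z, hz1, hz2⟩ := points_surj sq (Points.ofScheme U u) (Points.ofScheme U₁ u₁) (by
      rw [← Points.ofPt_eq_map_ofScheme, ← Points.ofPt_eq_map_ofScheme]; exact hx.symm)
    obtain ⟨z, rfl⟩ := ofScheme_surjective E z
    rw [map_ofScheme] at hz1 hz2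
    rw [← (Points.schemeEquiv U).injective hz1, ← loc w.left z, loc e.left z, (Points.schemeEquiv U₁).injective hz2]
    exact h
  exact ⟨fun d => by rw [key ha, key hb], fun d => by rw [RelDimCodim.hasAt_iff ha, RelDimCodim.hasAt_iff hb]⟩

end Groth.Agent.S10249
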