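import Groth.Statements.S10250
import Groth.Agent.HensPair.RelDimCodim

set_option autoImplicit false
universe u
open CategoryTheory CategoryTheory.Limits AlgebraicGeometry Topology TopologicalSpace
open AlgSp

namespace Groth.Agent.S10250

/-- Let f : X ⟶ Y be an etale and surjective morphism of algebraic spaces over a scheme S. Then X and Y
have the same dimension (the dimension of an algebraic space being the supremum of the Krull
dimensions of the schemes etale over it). -/
theorem result {S : Scheme.{u}} {X Y : AlgSp.Space S} (f : X ⟶ Y)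
    (hf : AlgSp.IsEtaleMor f.hom) (hs : AlgSp.IsSurjectiveMor f.hom) :
    AlgSp.dim X.obj = AlgSp.dim Y.obj := by
  open AlgSp AlgSpTopo Groth.Agent.HensPair in
  refine le_antisymm (iSup_le fun U => iSup_le fun a => iSup_le fun ha =>
    le_iSup_of_le U (le_iSup_of_le (a ≫ f.hom) (le_iSup_of_le (hf a ha) le_rfl))) ?_
  refine iSup_le fun V => iSup_le fun b => iSup_le fun hb => ?_
  obtain ⟨U, a, ha, has⟩ := X.property.atlas
  obtain ⟨W, w, e, sq, he⟩ := exists_square (hf a ha) b
  obtain ⟨w, rfl⟩ := (yon S).map_surjective w
  haveI : Etale w.left := hb.property _ _ _ sq.flip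
  haveI : Etale e.left := he
  have hsur : Function.Surjective e.left := fun v => by
    obtain ⟨x, hx⟩ := hs (Points.ofPt b v)
    obtain ⟨p, rfl⟩ := surjective_of_repWith has x
    obtain ⟨z, -, hz⟩ := points_surj sq p (Points.ofScheme V v) (by
      rw [Points.map_comp, hx, Points.ofPt_eq_map_ofScheme])
    obtain ⟨z, rfl⟩ := ofScheme_surjective W z
    rw [map_ofScheme] at hz
    exact ⟨z, (Points.schemeEquiv V).injective hz⟩
  refine (ThickScheme.krullDim_le_of_generalizing e.left e.left.continuous hsur (Flat.generalizingMap e.left)).trans ?_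
  exact le_iSup_of_le W (le_iSup_of_le ((yon S).map w ≫ a)
    (le_iSup_of_le (MorphismProperty.comp_mem _ _ _ ((repWith_yon_map_iff _ _).2 ‹Etale w.left›) ha) le_rfl))

end Groth.Agent.S10250
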