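import Groth.Agent.AlgSpTopo.LocInst
-- Copy to Groth/Agent/S10263.lean and replace the sorry. The statement below is byte-identical to the frozen
-- statement AlgSp.GrothFrozen.S10263 (Groth/Statements/S10263.lean; the theorem AlgSp.locP_unramified_of_comp);
-- the grader kernel-checks Groth.Agent.S10263.result against that frozen type. Keep the theorem IN THIS FILE
-- (a `result` declared elsewhere and merely imported here is not credited); helpers may live anywhere
-- under Groth/Agent/.
import Groth.Statements.S10263
-- import your own Groth.Agent.* helpers here

set_option autoImplicit false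
set_option backward.isDefEq.respectTransparency false
universe u
open CategoryTheory CategoryTheory.Limits AlgebraicGeometry
open AlgSp

namespace Groth.Agent.S10263

/-- If the composite X -> Y -> Z is unramified then X -> Y is unramified. -/
theorem result {S : Scheme.{u}} {X Y Z : AlgSp.Space S} (f : X ⟶ Y) (g : Y ⟶ Z)
    (h : AlgSp.LocP (@LocallyOfFiniteType ⊓ @FormallyUnramified) (f ≫ g).hom) :
    AlgSp.LocP (@LocallyOfFiniteType ⊓ @FormallyUnramified) f.hom :=
  AlgSpTopo.locP_of_comp AlgSpTopo.etaleLocal_unramified AlgSpTopo.cancel_unramified X.property Y.property Z.property f.hom g.hom h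

end Groth.Agent.S10263
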