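import Groth.Agent.AlgSpTopo.LocInst
-- Copy to Groth/Agent/S10264.lean and replace the sorry. The statement below is byte-identical to the frozen
-- statement AlgSp.GrothFrozen.S10264 (Groth/Statements/S10264.lean; the theorem AlgSp.locP_unramified_of_repWith_isImmersion);
-- the grader kernel-checks Groth.Agent.S10264.result against that frozen type. Keep the theorem IN THIS FILE
-- (a `result` declared elsewhere and merely imported here is not credited); helpers may live anywhere
-- under Groth/Agent/.
import Groth.Statements.S10264
-- import your own Groth.Agent.* helpers here

set_option autoImplicit false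
set_option backward.isDefEq.respectTransparency false
universe u
open CategoryTheory CategoryTheory.Limits AlgebraicGeometry
open AlgSp

namespace Groth.Agent.S10264

/-- An immersion of algebraic spaces is unramified. -/
theorem result {S : Scheme.{u}} {X Y : AlgSp.Space S} (i : X ⟶ Y)
    (hi : AlgSp.RepWith @IsImmersion i.hom) :
    AlgSp.LocP (@LocallyOfFiniteType ⊓ @FormallyUnramified) i.hom :=
  (AlgSpTopo.locP_iff_repWith AlgSpTopo.etaleLocal_unramified X.property Y.property i.hom hi.rep).2 ⟨hi.rep, fun _ _ g fst snd sq => by
    have : IsImmersion snd.left := hi.property g fst snd sq
    exact ⟨(inferInstance : LocallyOfFiniteType snd.left), (inferInstance : FormallyUnramified snd.left)⟩⟩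

end Groth.Agent.S10264
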