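import Groth.Statements.S10265
import Groth.Agent.AlgSpTopo.Diag

set_option autoImplicit false
set_option backward.isDefEq.respectTransparency false
universe u
open CategoryTheory CategoryTheory.Limits AlgebraicGeometry
open AlgSp

namespace Groth.Agent.S10265

/-- Whenever a morphism of algebraic spaces is etale, it is, etale locally on both source and target,
smooth, flat, unramified, locally quasi-finite, locally of finite type and locally of finite
presentation. -/
theorem result {S : Scheme.{u}} {X Y : AlgSp.Space S} (f : X ⟶ Y) (hf : AlgSp.IsEtaleMor f.hom) :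
    AlgSp.LocP (@LocallyQuasiFinite ⊓ @LocallyOfFiniteType) f.hom ∧ AlgSp.LocP @Smooth f.hom ∧
    AlgSp.LocP @Flat f.hom ∧ AlgSp.LocP @LocallyOfFinitePresentation f.hom ∧
    AlgSp.LocP @LocallyOfFiniteType f.hom ∧ AlgSp.LocP (@LocallyOfFiniteType ⊓ @FormallyUnramified) f.hom := by
  have h := AlgSpTopo.locP_etale_of_isEtaleMor f.hom hf
  refine ⟨AlgSpTopo.locP_mono (fun U V g hg => ?_) h, AlgSpTopo.locP_mono (fun U V g hg => ?_) h,
    AlgSpTopo.locP_mono (fun U V g hg => ?_) h, AlgSpTopo.locP_mono (fun U V g hg => ?_) h,
    AlgSpTopo.locP_mono (fun U V g hg => ?_) h, AlgSpTopo.locP_mono (fun U V g hg => ?_) h⟩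
  all_goals have : Etale g := hg
  · refine ⟨?_, inferInstance⟩
    rw [HasRingHomProperty.iff_appLE (P := @LocallyQuasiFinite)]
    intro U V e
    have := HasRingHomProperty.appLE @Etale g inferInstance U V e
    algebraize [(g.appLE U.1 V.1 e).hom]
    rw [← RingHom.algebraMap_toAlgebra (g.appLE U.1 V.1 e).hom, RingHom.quasiFinite_algebraMap]
    infer_instance
  all_goals first | infer_instance | exact ⟨inferInstance, inferInstance⟩

end Groth.Agent.S10265
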