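import Groth.Statements.S10266
import Groth.Agent.AlgSpTopo.LocalST

set_option autoImplicit false
set_option backward.isDefEq.respectTransparency false
universe u
open CategoryTheory CategoryTheory.Limits AlgebraicGeometry
open AlgSp

namespace Groth.Agent.S10266

/-- A morphism of algebraic spaces that is locally of finite presentation, flat and unramified is etale. -/
theorem result {S : Scheme.{u}} {X Y : AlgSp.Space S} (f : X ⟶ Y)
    (h1 : AlgSp.LocP @LocallyOfFinitePresentation f.hom) (h2 : AlgSp.LocP @Flat f.hom)
    (h3 : AlgSp.LocP (@LocallyOfFiniteType ⊓ @FormallyUnramified) f.hom) :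
    AlgSp.IsEtaleMor f.hom :=
  (AlgSpTopo.isEtaleMor_iff_locP X.property Y.property f.hom).2 fun U V a b k ha hb comm =>
    Etale.iff_flat_and_formallyUnramified.mpr
      ⟨h2 a b k ha hb comm, (h3 a b k ha hb comm).2, h1 a b k ha hb comm⟩

end Groth.Agent.S10266
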