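import Groth.Statements.S10270
import Groth.Agent.AlgSpTopo.ProperMor

set_option autoImplicit false
set_option backward.isDefEq.respectTransparency false
universe u
open CategoryTheory CategoryTheory.Limits AlgebraicGeometry
open AlgSp

namespace Groth.Agent.S10270

/-- A morphism of algebraic spaces is integral if and only if it is affine and universally closed. -/
theorem result {S : Scheme.{u}} {X Y : AlgSp.Space S} (f : X ⟶ Y) :
    AlgSp.IsIntegralMor f.hom ↔ (AlgSp.IsAffineMor f.hom ∧ AlgSp.IsUnivClosedMor f.hom) := by
  rw [AlgSpTopo.isIntegralMor_iff]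
  refine ⟨fun h => ⟨?_, ?_⟩, fun ⟨ha, hu⟩ => ?_⟩
  · exact (AlgSpTopo.affWith_top_iff _).1
      (AlgSpTopo.affWith_of_repWith (P := @IsIntegralHom) AlgSpTopo.integral_affine (fun _ _ _ _ => trivial) h)
  · exact (AlgSpTopo.repWith_universallyClosed_iff h.rep).1 ⟨h.rep, fun _ _ g fst snd sq => by
      have : IsIntegralHom snd.left := h.property g fst snd sq
      change UniversallyClosed snd.left
      infer_instance⟩
  · have ha' := AlgSpTopo.repWith_of_isAffineMor ha
    refine ⟨ha'.rep, fun _ _ g fst snd sq => ?_⟩
    have : IsAffineHom snd.left := ha'.property g fst snd sq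
    have : UniversallyClosed snd.left := ((AlgSpTopo.repWith_universallyClosed_iff ha'.rep).2 hu).property g fst snd sq
    exact (IsIntegralHom.iff_universallyClosed_and_isAffineHom (f := snd.left)).2 ⟨inferInstance, inferInstance⟩

end Groth.Agent.S10270
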