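import Groth.Statements.S10272
import Groth.Agent.AlgSpTopo.ProperMor

set_option autoImplicit false
set_option backward.isDefEq.respectTransparency false
universe u
open CategoryTheory CategoryTheory.Limits AlgebraicGeometry
open AlgSp

namespace Groth.Agent.S10272

/-- If g is separated and the composite of f and g is finite (resp. integral) then f is finite (resp.
integral). -/
theorem result {S : Scheme.{u}} {X Y Z : AlgSp.Space S} (f : X ⟶ Y) (g : Y ⟶ Z)
    (hg : AlgSp.IsSeparatedMor g.hom) :
    (AlgSp.IsFiniteMor (f ≫ g).hom → AlgSp.IsFiniteMor f.hom) ∧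
    (AlgSp.IsIntegralMor (f ≫ g).hom → AlgSp.IsIntegralMor f.hom) := by
  have hd := (AlgSpTopo.separatedMor_iff Y.property g.hom).1 hg
  refine ⟨fun h => (AlgSpTopo.isFiniteMor_iff _).2 ?_, fun h => (AlgSpTopo.isIntegralMor_iff _).2 ?_⟩
  · exact AlgSpTopo.repWith_cancel (a := f.hom) (b := g.hom) Y.property ((AlgSpTopo.isFiniteMor_iff _).1 h) hd
      fun E W T e φ _ _ _ _ he hφ => by
        have : IsClosedImmersion e := he
        exact MorphismProperty.comp_mem @IsFinite _ _ inferInstance hφ
  · exact AlgSpTopo.repWith_cancel (a := f.hom) (b := g.hom) Y.property ((AlgSpTopo.isIntegralMor_iff _).1 h) hd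
      fun E W T e φ _ _ _ _ he hφ => by
        have : IsClosedImmersion e := he
        exact MorphismProperty.comp_mem @IsIntegralHom _ _ inferInstance hφ

end Groth.Agent.S10272
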