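import Groth.Statements.S10273
import Groth.Agent.AlgSpTopo.ProperMor

set_option autoImplicit false
set_option backward.isDefEq.respectTransparency false
universe u
open CategoryTheory CategoryTheory.Limits AlgebraicGeometry
open AlgSp

namespace Groth.Agent.S10273

/-- (1) ⇔ (3): properness of a morphism of algebraic spaces can be tested after base change to affine
schemes over the target. -/
theorem result {S : Scheme.{u}} {X Y : AlgSp.Space S} (f : X ⟶ Y) :
    AlgSp.IsProperMor f.hom ↔
      ∀ (Z : Over S), IsAffine Z.left → ∀ (g : (AlgSp.yon S).obj Z ⟶ Y.obj) (P : AlgSp.Sp S) (fst : P ⟶ X.obj)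
        (snd : P ⟶ (AlgSp.yon S).obj Z), IsPullback fst snd f.hom g → AlgSp.IsProperMor snd := by
  refine ⟨fun h Z hZ g P fst snd sq => AlgSpTopo.proper_bc X.property Y.property
    (AlgSpTopo.isAlgSpace_of_isPullback X.property Y.property (AlgSp.IsAlgSpace.yon_obj Z) sq) (AlgSp.IsAlgSpace.yon_obj Z) sq h,
    fun h => ?_⟩
  obtain ⟨U, p, hp, hps⟩ := Y.property.atlas
  let V : U.left.affineOpens → Over S := fun a => Over.mk (a.1.ι ≫ U.hom)
  let g : ∀ a, (AlgSp.yon S).obj (V a) ⟶ Y.obj := fun a => (AlgSp.yon S).map (Over.homMk a.1.ι rfl) ≫ p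
  have hcov := AlgSpTopo.fpqc_of_etale Y.property (fun a => AlgSp.IsAlgSpace.yon_obj (V a)) g
    (fun a => MorphismProperty.comp_mem _ _ _
      ((AlgSp.repWith_yon_map_iff _ _).2 (by change Etale a.1.ι; infer_instance)) hp)
    (fun y => by
      obtain ⟨z, rfl⟩ := AlgSpTopo.surjective_of_repWith hps y
      obtain ⟨t, rfl⟩ := AlgSpTopo.ofScheme_surjective U z
      obtain ⟨W, hW, htW, -⟩ := exists_isAffineOpen_mem_and_subset (U := (⊤ : U.left.Opens)) (x := t) trivial
      refine ⟨⟨W, hW⟩, AlgSp.Points.ofScheme (V ⟨W, hW⟩) ⟨t, htW⟩, ?_⟩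
      rw [AlgSp.Points.map_comp, AlgSpTopo.map_ofScheme]
      rfl)
  exact (Groth.Agent.S10536.result S (fun a => (AlgSp.yon S).obj (V a)) g Y.property
    (fun a => AlgSp.IsAlgSpace.yon_obj (V a)) hcov f.hom X.property (fun a => pullback f.hom (g a))
    (fun a => pullback.snd _ _) (fun a => pullback.fst _ _)
    (fun a => AlgSpTopo.isAlgSpace_pullback X.property Y.property (AlgSp.IsAlgSpace.yon_obj _) _ _)
    (fun a => IsPullback.of_hasPullback _ _)).2 fun a => h (V a) a.2 (g a) _ _ _ (IsPullback.of_hasPullback _ _)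

end Groth.Agent.S10273
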