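import Groth.Statements.S10274
import Groth.Agent.AlgSpTopo.ProperMor

set_option autoImplicit false
set_option backward.isDefEq.respectTransparency false
universe u
open CategoryTheory CategoryTheory.Limits AlgebraicGeometry
open AlgSp

namespace Groth.Agent.S10274

/-- (4) ⇒ (1): properness of a morphism of algebraic spaces descends along a surjective etale base
change from a scheme. -/
theorem result {S : Scheme.{u}} {X Y : AlgSp.Space S} (f : X ⟶ Y) (V : Over S)
    (p : (AlgSp.yon S).obj V ⟶ Y.obj) (hp : AlgSp.RepWith @Etale p) (hps : AlgSp.RepWith @Surjective p)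
    {P : AlgSp.Sp S} (fst : P ⟶ X.obj) (snd : P ⟶ (AlgSp.yon S).obj V) (sq : IsPullback fst snd f.hom p)
    (h : AlgSp.IsProperMor snd) : AlgSp.IsProperMor f.hom := by
  have hcov := AlgSpTopo.fpqc_of_etale (ι := PUnit.{u+1}) Y.property (fun _ => AlgSp.IsAlgSpace.yon_obj V)
    (fun _ => p) (fun _ => hp) fun y => ⟨⟨⟩, AlgSpTopo.surjective_of_repWith hps y⟩
  exact (Groth.Agent.S10536.result S (fun _ => (AlgSp.yon S).obj V) (fun _ => p) Y.property
    (fun _ => AlgSp.IsAlgSpace.yon_obj V) hcov f.hom X.property (fun _ => P) (fun _ => snd) (fun _ => fst)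
    (fun _ => AlgSpTopo.isAlgSpace_of_isPullback X.property Y.property (AlgSp.IsAlgSpace.yon_obj V) sq)
    (fun _ => sq)).2 fun _ => h

end Groth.Agent.S10274
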