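import Groth.Statements.S9919
import Groth.Agent.AlgSpTopo.RepPerm

set_option autoImplicit false
set_option backward.isDefEq.respectTransparency false
universe u
open CategoryTheory CategoryTheory.Limits AlgebraicGeometry
open AlgSp

namespace Groth.Agent.S9919

/-- For morphisms f : X -> Y and g : Y -> Z of algebraic spaces, quasi-compactness of the composite
together with quasi-separatedness of g forces f to be quasi-compact. -/
theorem result {S : Scheme.{u}} {X Y Z : AlgSp.Space S} (f : X ⟶ Y)
    (g : Y ⟶ Z) (hgf : AlgSp.IsQuasiCompactMor (f ≫ g).hom) (hg : AlgSp.IsQuasiSeparatedMor g.hom) :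
    AlgSp.IsQuasiCompactMor f.hom := by
  refine AlgSpTopo.isQuasiCompactMor_of_affine X.property Y.property f.hom fun T hT k P fst snd sq => ?_
  have := hT
  have hQ : AlgSp.IsQuasiCompactSp (pullback (f ≫ g).hom (k ≫ g.hom)) :=
    hgf (AlgSp.IsAlgSpace.yon_obj T) (AlgSpTopo.isQuasiCompactSp_yon T) _ _ _ (IsPullback.of_hasPullback _ _)
  have hQa : AlgSp.IsAlgSpace (pullback (f.hom ≫ g.hom) (k ≫ g.hom)) :=
    AlgSpTopo.isAlgSpace_pullback X.property Z.property (AlgSp.IsAlgSpace.yon_obj T) _ _
  have hd : AlgSp.IsQuasiCompactMor (pullback.diagonal g.hom) :=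
    (AlgSpTopo.repWith_quasiCompact_iff Y.property (AlgSpTopo.isAlgSpace_pullback Y.property Z.property Y.property _ _)
      hg.rep).1 hg
  have hqc := hd hQa hQ _ _ _ (AlgSpTopo.mapDesc_eq f.hom k g.hom)
  exact AlgSpTopo.compactSpace_of_surjective (π := sq.isoPullback.inv) (AlgSpTopo.compactSpace_points hqc)
    (AlgSpTopo.isHomeomorph_map_iso sq.isoPullback.symm).surjective

end Groth.Agent.S9919
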