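import Groth.Agent.AlgSpTopo.LocInst
-- Copy to Groth/Agent/S9952.lean and replace the sorry. The statement below is byte-identical to the frozen
-- statement AlgSp.GrothFrozen.S9952 (Groth/Statements/S9952.lean; the theorem AlgSp.locP_lft_of_comp);
-- the grader kernel-checks Groth.Agent.S9952.result against that frozen type. Keep the theorem IN THIS FILE
-- (a `result` declared elsewhere and merely imported here is not credited); helpers may live anywhere
-- under Groth/Agent/.
import Groth.Statements.S9952
-- import your own Groth.Agent.* helpers here

set_option autoImplicit false
set_option backward.isDefEq.respectTransparency false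
universe u
open CategoryTheory CategoryTheory.Limits AlgebraicGeometry
open AlgSp

namespace Groth.Agent.S9952

/-- If g ∘ f is locally of finite type then f is locally of finite type. -/
theorem result {S : Scheme.{u}} {X Y Z : AlgSp.Space S} (f : X ⟶ Y) (g : Y ⟶ Z)
    (h : AlgSp.LocP @LocallyOfFiniteType (f ≫ g).hom) : AlgSp.LocP @LocallyOfFiniteType f.hom :=
  AlgSpTopo.locP_of_comp AlgSpTopo.etaleLocal_locallyOfFiniteType (fun _ _ _ f g h => have := h; locallyOfFiniteType_of_comp f g) X.property Y.property Z.property f.hom g.hom h

end Groth.Agent.S9952
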