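import Groth.Statements.S10278
import Groth.Agent.AlgSpTopo.ProperMor
import Groth.Agent.S9952
import Groth.Agent.S9919

set_option autoImplicit false
set_option backward.isDefEq.respectTransparency false
universe u
open CategoryTheory CategoryTheory.Limits AlgebraicGeometry
open AlgSp

namespace Groth.Agent.S10278

/-- Over a separated Y -> B, a morphism X -> Y from a space universally closed (resp. proper) over B is
universally closed with closed image (resp. proper). -/
theorem result {S : Scheme.{u}} {X Y B : AlgSp.Space S} (f : X ⟶ Y) (p : X ⟶ B)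
    (q : Y ⟶ B) (comm : f ≫ q = p) (hq : AlgSp.IsSeparatedMor q.hom) :
    (AlgSp.IsUnivClosedMor p.hom →
      AlgSp.IsUnivClosedMor f.hom ∧ IsClosed (Set.range (AlgSp.Points.map f.hom))) ∧
    (AlgSp.IsProperMor p.hom → AlgSp.IsProperMor f.hom) := by
  have hpe : p.hom = f.hom ≫ q.hom := by rw [← comm]; rfl
  have huc : AlgSp.IsUnivClosedMor p.hom → AlgSp.IsUnivClosedMor f.hom := fun h =>
    AlgSpTopo.univClosed_cancel X.property Y.property B.property hq (by rwa [← hpe])
  refine ⟨fun h => ⟨huc h, ?_⟩, fun h => ⟨?_, ⟨?_, ?_⟩, huc h.2.2⟩⟩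
  · have := huc h Y.property (𝟙 _) (𝟙 _) f.hom (IsPullback.id_horiz f.hom)
    simpa [Set.image_univ] using this Set.univ isClosed_univ
  · rw [AlgSpTopo.separatedMor_iff X.property]
    intro T a b hab E e he
    exact (AlgSpTopo.separatedMor_iff X.property _).1 h.1 a b
      (by rw [hpe, ← Category.assoc, hab, Category.assoc]) e he
  · refine Groth.Agent.S9952.result f q ?_
    rw [comm]; exact h.2.1.1
  · refine Groth.Agent.S9919.result f q ?_ ?_
    · rw [comm]; exact h.2.1.2
    · exact ⟨hq.rep, fun _ _ k fst snd sq => by
        have : IsClosedImmersion snd.left := hq.property k fst snd sq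
        change QuasiCompact snd.left
        infer_instance⟩

end Groth.Agent.S10278
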