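import Groth.Statements.S10279
import Groth.Agent.AlgSpTopo.ProperMor

set_option autoImplicit false
set_option backward.isDefEq.respectTransparency false
universe u
open CategoryTheory CategoryTheory.Limits AlgebraicGeometry
open AlgSp

namespace Groth.Agent.S10279

/-- The target of a surjective morphism over B from a space universally closed over B is universally
closed over B (hence proper over B as soon as it is also separated and of finite type over B, by
definition). -/
theorem result {S : Scheme.{u}} {X Y B : AlgSp.Space S} (f : X ⟶ Y) (p : X ⟶ B)
    (q : Y ⟶ B) (comm : f ≫ q = p) (hp : AlgSp.IsUnivClosedMor p.hom) (hf : AlgSp.IsSurjectiveMor f.hom) :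
    AlgSp.IsUnivClosedMor q.hom := by
  intro A A' hA k fst snd sq C hC
  have hpe : p.hom = f.hom ≫ q.hom := by rw [← comm]; rfl
  have H := IsPullback.of_hasPullback f.hom fst
  have h1 : IsClosedMap (AlgSp.Points.map (pullback.snd f.hom fst ≫ snd)) :=
    hp hA k (pullback.fst f.hom fst) (pullback.snd f.hom fst ≫ snd) (by rw [hpe]; exact H.paste_vert sq)
  have h2 := h1 _ (hC.preimage (AlgSp.Points.continuous_map (pullback.snd f.hom fst)))
  rw [funext (AlgSp.Points.map_comp _ _), ← Set.image_image,
    Set.image_preimage_eq _ (AlgSpTopo.surjective_snd H hf)] at h2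
  exact h2

end Groth.Agent.S10279
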