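import Groth.Statements.S10280
import Groth.Agent.AlgSpTopo.Separation

set_option autoImplicit false
set_option backward.isDefEq.respectTransparency false
universe u
open CategoryTheory CategoryTheory.Limits AlgebraicGeometry
open AlgSp

namespace Groth.Agent.S10280

/-- F is separated if and only if its diagonal is universally closed, if and only if its diagonal is
proper. -/
theorem result {S : Scheme.{u}} {X Y : AlgSp.Space S} (f : X ⟶ Y) :
    (AlgSp.IsSeparatedMor f.hom ↔ AlgSp.IsUnivClosedMor (pullback.diagonal f.hom)) ∧
    (AlgSp.IsSeparatedMor f.hom ↔ AlgSp.IsProperMor (pullback.diagonal f.hom)) := by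
  rw [AlgSpTopo.separatedMor_iff X.property]
  exact ⟨⟨fun h => AlgSpTopo.univClosed_of_diagP X.property _ h,
      fun h => (AlgSpTopo.diagP_closedImmersion_iff X.property _).2 (AlgSpTopo.diagP_of_univClosed X.property _ h)⟩,
    ⟨fun h => AlgSpTopo.proper_diagonal X.property Y.property _ h,
      fun h => (AlgSpTopo.diagP_closedImmersion_iff X.property _).2 (AlgSpTopo.diagP_of_univClosed X.property _ h.2.2)⟩⟩

end Groth.Agent.S10280
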