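import Groth.Statements.S10282
import Mathlib
import Groth.Agent.AlgSpTopo.Valuative

set_option autoImplicit false
set_option backward.isDefEq.respectTransparency false
universe u
open CategoryTheory CategoryTheory.Limits AlgebraicGeometry
open AlgSp

namespace Groth.Agent.S10282

/-- For a representable morphism of algebraic spaces the existence part of the valuative criterion with
extensions allowed is equivalent to the one without extensions. -/
theorem result {S : Scheme.{u}} {X Y : AlgSp.Space S} (f : X ⟶ Y)
    (hf : AlgSp.Representable f.hom) : AlgSp.ExistVC f.hom ↔ AlgSp.ExistVCStrict f.hom := by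
  refine ⟨fun h => AlgSpTopo.existVCStrict_of_existVC f.hom hf h, fun h q => ?_⟩
  obtain ⟨l, h1, h2⟩ := h q
  refine ⟨⟨q.A, q.K, RingHom.id _, RingHom.id _, rfl, ⟨fun _ h => h⟩⟩,
    (AlgSp.yon S).map (Over.homMk (𝟙 _) (by simp) : Over.mk (Spec.map (CommRingCat.ofHom (RingHom.id q.A)) ≫ q.str) ⟶ q.ptA) ≫ l, ?_, ?_⟩
  · rw [← h1, ← Category.assoc, ← Category.assoc, ← Functor.map_comp, ← Functor.map_comp]
    congr 2
    ext : 1
    simp
  · rw [Category.assoc, h2]
    congr 2
    ext : 1
    simp

end Groth.Agent.S10282
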