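import Groth.Statements.S10286
import Mathlib

set_option autoImplicit false
set_option backward.isDefEq.respectTransparency false
universe u
open CategoryTheory CategoryTheory.Limits AlgebraicGeometry
open AlgSp

namespace Groth.Agent.S10286

/-- The existence and uniqueness parts of the valuative criterion are stable under base change. -/
theorem result {S : Scheme.{u}} {X Y Z X' : AlgSp.Space S} (f : X ⟶ Y) (g : Z ⟶ Y)
    (fst : X' ⟶ X) (f' : X' ⟶ Z) (sq : IsPullback fst.hom f'.hom f.hom g.hom) :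
    (AlgSp.ExistVC f.hom → AlgSp.ExistVC f'.hom) ∧ (AlgSp.UniqVC f.hom → AlgSp.UniqVC f'.hom) := by
  refine ⟨fun hf q => ?_, fun hf q l l' h1 h2 h3 h4 => ?_⟩
  · have c : (q.top ≫ fst.hom) ≫ f.hom = (AlgSp.yon S).map q.j ≫ q.bot ≫ g.hom := by
      rw [Category.assoc, sq.w, ← Category.assoc, q.comm, Category.assoc]
    obtain ⟨⟨A', K', φ, ψ, hc, hl⟩, l, h1, h2⟩ := hf ⟨q.A, q.K, q.str, q.top ≫ fst.hom, q.bot ≫ g.hom, c⟩
    refine ⟨⟨A', K', φ, ψ, hc, hl⟩, sq.lift l _ (h2.trans (Category.assoc _ _ _).symm),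
      sq.hom_ext ?_ ?_, sq.lift_snd _ _ _⟩
    · rw [Category.assoc, sq.lift_fst]
      exact h1.trans (Category.assoc _ _ _).symm
    · rw [Category.assoc, sq.lift_snd, Category.assoc, q.comm, ← Category.assoc, ← Category.assoc,
        ← Functor.map_comp, ← Functor.map_comp]
      congr 2
      ext : 1
      change Spec.map _ ≫ Spec.map _ = Spec.map _ ≫ Spec.map _
      rw [← Spec.map_comp, ← Spec.map_comp, ← CommRingCat.ofHom_comp, ← CommRingCat.ofHom_comp]
      exact congrArg (fun r => Spec.map (CommRingCat.ofHom r)) hc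
  · refine sq.hom_ext ?_ (h2.trans h4.symm)
    refine hf ⟨q.A, q.K, q.str, q.top ≫ fst.hom, q.bot ≫ g.hom,
      by rw [Category.assoc, sq.w, ← Category.assoc, q.comm, Category.assoc]⟩ _ _ ?_ ?_ ?_ ?_
    · exact (Category.assoc _ _ _).symm.trans (congrArg (· ≫ fst.hom) h1)
    · exact ((Category.assoc _ _ _).trans (congrArg (l ≫ ·) sq.w)).trans ((Category.assoc _ _ _).symm.trans (congrArg (· ≫ g.hom) h2))
    · exact (Category.assoc _ _ _).symm.trans (congrArg (· ≫ fst.hom) h3)
    · exact ((Category.assoc _ _ _).trans (congrArg (l' ≫ ·) sq.w)).trans ((Category.assoc _ _ _).symm.trans (congrArg (· ≫ g.hom) h4))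

end Groth.Agent.S10286
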