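import Groth.Statements.S10287
import Mathlib
import Groth.Agent.AlgSpTopo.Valuative

set_option autoImplicit false
set_option backward.isDefEq.respectTransparency false
universe u
open CategoryTheory CategoryTheory.Limits AlgebraicGeometry
open AlgSp

namespace Groth.Agent.S10287

/-- The existence and uniqueness parts of the valuative criterion are stable under composition. -/
theorem result {S : Scheme.{u}} {X Y Z : AlgSp.Space S} (f : X ⟶ Y) (g : Y ⟶ Z) :
    (AlgSp.ExistVC f.hom → AlgSp.ExistVC g.hom → AlgSp.ExistVC (f ≫ g).hom) ∧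
    (AlgSp.UniqVC f.hom → AlgSp.UniqVC g.hom → AlgSp.UniqVC (f ≫ g).hom) := by
  refine ⟨fun hf hg => AlgSpTopo.existVC_comp hf hg, fun hf hg q l l' h1 h2 h3 h4 => ?_⟩
  have e : l ≫ f.hom = l' ≫ f.hom := hg ⟨q.A, q.K, q.str, q.top ≫ f.hom, q.bot, (Category.assoc _ _ _).trans q.comm⟩
    (l ≫ f.hom) (l' ≫ f.hom) ((Category.assoc _ _ _).symm.trans (congrArg (· ≫ f.hom) h1))
    ((Category.assoc _ _ _).trans h2) ((Category.assoc _ _ _).symm.trans (congrArg (· ≫ f.hom) h3))
    ((Category.assoc _ _ _).trans h4)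
  exact hf ⟨q.A, q.K, q.str, q.top, l ≫ f.hom, ((congrArg (· ≫ f.hom) h1).symm.trans (Category.assoc _ _ _))⟩
    l l' h1 rfl h3 e.symm

end Groth.Agent.S10287
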