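import Groth.Statements.S10290
import Groth.Agent.AlgSpTopo.ProperMor

set_option autoImplicit false
set_option backward.isDefEq.respectTransparency false
universe u
open CategoryTheory CategoryTheory.Limits AlgebraicGeometry
open AlgSp

namespace Groth.Agent.S10290

/-- A separated morphism of algebraic spaces satisfies the uniqueness part of the valuative criterion. -/
theorem result {S : Scheme.{u}} {X Y : AlgSp.Space S} (f : X ⟶ Y)
    (hf : AlgSp.IsSeparatedMor f.hom) : AlgSp.UniqVC f.hom := by
  intro sq l l' h1 h2 h1' h2'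
  obtain ⟨E, e, he⟩ := AlgSpTopo.exists_isEq X.property l l'
  have hci : IsClosedImmersion e.left := (AlgSpTopo.separatedMor_iff X.property _).1 hf l l' (h2.trans h2'.symm) e he
  obtain ⟨m, hm⟩ := he.2.2 ((AlgSp.yon S).map sq.j) (h1.trans h1'.symm)
  obtain ⟨m, rfl⟩ := (AlgSp.yon S).map_surjective m
  have hfac : m.left ≫ e.left = Spec.map (CommRingCat.ofHom (algebraMap sq.A sq.K)) :=
    congrArg (fun k => k.left) ((AlgSp.yon S).map_injective ((Functor.map_comp _ _ _).trans hm))
  have : IsAffine sq.ptA.left := inferInstanceAs (IsAffine (Spec _))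
  have : IsAffine E.left := isAffine_of_isAffineHom e.left
  obtain ⟨φ, hφ⟩ := Spec.map_surjective (E.left.isoSpec.inv ≫ e.left)
  have hs : Function.Surjective φ.hom := by
    have : IsClosedImmersion (Spec.map φ) := hφ ▸ inferInstance
    exact (HasAffineProperty.SpecMap_iff_of_affineAnd (P := @IsClosedImmersion) (Q := fun {R S} _ _ f => Function.Surjective f) IsClosedImmersion.hasAffineProperty RingHom.surjective_respectsIso φ).1 this
  obtain ⟨ψ, hψ⟩ := Spec.map_surjective (m.left ≫ E.left.isoSpec.hom)
  have hc : φ ≫ ψ = CommRingCat.ofHom (algebraMap sq.A sq.K) := Spec.map_injective (by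
    rw [Spec.map_comp, hψ, hφ, Category.assoc, Iso.hom_inv_id_assoc, hfac])
  have hi : Function.Injective φ.hom := by
    have : Function.Injective (φ ≫ ψ).hom := by rw [hc]; exact IsFractionRing.injective sq.A sq.K
    exact Function.Injective.of_comp (f := ψ.hom) this
  have : IsIso φ := (ConcreteCategory.isIso_iff_bijective φ).2 ⟨hi, hs⟩
  have h3 : IsIso e.left := by
    have : e.left = E.left.isoSpec.hom ≫ Spec.map φ := by rw [hφ]; simp
    rw [this]; infer_instance
  have : IsIso ((Over.forget S).map e) := h3
  have : IsIso e := isIso_of_reflects_iso e (Over.forget S)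
  exact (cancel_epi ((AlgSp.yon S).map e)).1 he.2.1

end Groth.Agent.S10290
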