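import Groth.Statements.S9867
import Groth.Agent.Fpqc.Descent
import Groth.Agent.UnivHomeo.Basic
import Groth.Agent.Cons.Basic
import Groth.Agent.S2489
import Groth.Prelude.Def_Mor2
import Mathlib.AlgebraicGeometry.Morphisms.FlatRank
import Mathlib.AlgebraicGeometry.Sites.Fpqc
import Mathlib.RingTheory.RingHom.Flat

set_option autoImplicit false
open CategoryTheory CategoryTheory.Limits AlgebraicGeometry Opposite
universe u
open Desc

namespace Groth.Agent.S9867
open CategoryTheory CategoryTheory.Limits AlgebraicGeometry MorphismProperty TopologicalSpace
open Groth.Agent.Fpqc.Descent Groth.Agent.Cons.Basic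
set_option backward.isDefEq.respectTransparency.types false

/-- Being finite locally free (finite, flat and locally of finite presentation), and being finite
locally free of a given degree d, are fpqc local on the base; the descent directions, stated as
descent along surjective flat quasi-compact morphisms: if the base change of f along such a morphism
is finite locally free then so is f, and if moreover that base change has constant rank d (Mathlib's
rank function of a finite flat morphism) then f has constant rank d. (With Zariski-locality on the
target these give the statements for arbitrary fpqc coverings; stability under base change is the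
other direction.) -/
theorem result :
    MorphismProperty.DescendsAlong (fun _ _ f => Mor2.IsFinLocFree f : MorphismProperty Scheme.{u})
      (@Surjective ⊓ @Flat ⊓ @QuasiCompact : MorphismProperty Scheme.{u}) ∧
    ∀ d : ℕ, MorphismProperty.DescendsAlong (fun _ _ f => Mor2.IsFinLocFreeOfDeg d f : MorphismProperty Scheme.{u})
      (@Surjective ⊓ @Flat ⊓ @QuasiCompact : MorphismProperty Scheme.{u}) := by
  have hfl : MorphismProperty.DescendsAlong @Flat (@Surjective ⊓ @Flat ⊓ @QuasiCompact : MorphismProperty Scheme.{u}) :=
    HasRingHomProperty.descendsAlong_flat (RingHom.CodescendsAlong.mk _ RingHom.Flat.respectsIso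
      fun R S T _ _ _ _ _ h h' => by
        rw [RingHom.faithfullyFlat_algebraMap_iff] at h
        rw [RingHom.flat_algebraMap_iff] at h' ⊢
        exact Module.Flat.of_flat_tensorProduct R T S)
  have hfin := isFinite.{u}
  have h1 : MorphismProperty.DescendsAlong (fun _ _ f => Mor2.IsFinLocFree f : MorphismProperty Scheme.{u}) (@Surjective ⊓ @Flat ⊓ @QuasiCompact : MorphismProperty Scheme.{u}) :=
    descendsAlong_inf (P := @IsFinite) (P' := (@Flat ⊓ @LocallyOfFinitePresentation : MorphismProperty Scheme.{u}))
      hfin (descendsAlong_inf hfl inferInstance)
  refine ⟨h1, fun d => ⟨fun {A X Y Z f g f' g'} h hf hf' => ?_⟩⟩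
  have hg := h1.of_isPullback h hf hf'.1
  refine ⟨hg, fun y => ?_⟩
  obtain ⟨x, rfl⟩ := hf.1.1.surj y
  have := hg.1
  have := hg.2.1
  have := hg.2.2
  exact (Scheme.Hom.finrank_of_isPullback _ _ _ _ h.flip x).symm.trans (hf'.2 x)

end Groth.Agent.S9867
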