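import Groth.Statements.S10294
import Groth.Agent.AlgSpTopo.ProperMor

set_option autoImplicit false
set_option backward.isDefEq.respectTransparency false
universe u
open CategoryTheory CategoryTheory.Limits AlgebraicGeometry
open AlgSp

namespace Groth.Agent.S10294

/-- Finite locally free is the same as finite, flat and locally of finite presentation; over a locally
Noetherian target it is the same as finite and flat. -/
theorem result {S : Scheme.{u}} {X Y : AlgSp.Space S} (f : X ⟶ Y) :
    (AlgSp.IsFinLocFreeMor f.hom ↔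
      (AlgSp.IsFiniteMor f.hom ∧ AlgSp.LocP @Flat f.hom ∧ AlgSp.LocP @LocallyOfFinitePresentation f.hom)) ∧
    (AlgSp.IsLocNoethSp Y.obj →
      (AlgSp.IsFinLocFreeMor f.hom ↔ (AlgSp.IsFiniteMor f.hom ∧ AlgSp.LocP @Flat f.hom))) := by
  have key : AlgSp.IsFinLocFreeMor f.hom ↔
      (AlgSp.IsFiniteMor f.hom ∧ AlgSp.LocP @Flat f.hom ∧ AlgSp.LocP @LocallyOfFinitePresentation f.hom) := by
    rw [AlgSpTopo.isFiniteMor_iff]
    constructor
    · intro h
      rw [AlgSpTopo.locP_iff_repWith AlgSpTopo.etaleLocal_flat X.property Y.property _ h.rep,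
        AlgSpTopo.locP_iff_repWith AlgSpTopo.etaleLocal_locallyOfFinitePresentation X.property Y.property _ h.rep]
      exact ⟨⟨h.rep, fun _ _ g a b sq => (h.property g a b sq).1⟩, ⟨h.rep, fun _ _ g a b sq => (h.property g a b sq).2.1⟩,
        ⟨h.rep, fun _ _ g a b sq => (h.property g a b sq).2.2⟩⟩
    · rintro ⟨h1, h2, h3⟩
      rw [AlgSpTopo.locP_iff_repWith AlgSpTopo.etaleLocal_flat X.property Y.property _ h1.rep] at h2
      rw [AlgSpTopo.locP_iff_repWith AlgSpTopo.etaleLocal_locallyOfFinitePresentation X.property Y.property _ h1.rep] at h3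
      exact ⟨h1.rep, fun _ _ g a b sq => ⟨h1.property g a b sq, h2.property g a b sq, h3.property g a b sq⟩⟩
  refine ⟨key, fun hY => ⟨fun h => ⟨(key.1 h).1, (key.1 h).2.1⟩, fun ⟨h1, h2⟩ => key.2 ⟨h1, h2, ?_⟩⟩⟩
  obtain ⟨U, p, hp, hps, hU⟩ := hY
  have hr := (AlgSpTopo.isFiniteMor_iff _).1 h1
  obtain ⟨W, t, φ, sq, hφ⟩ := AlgSpTopo.exists_square hr p
  have : IsFinite φ.left := hφ
  have : LocallyOfFinitePresentation φ.left := inferInstance
  exact AlgSpTopo.locP_of_target_cover AlgSpTopo.etaleLocal_locallyOfFinitePresentation X.property Y.property f.hom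
    hp hps sq ((AlgSpTopo.locP_iff_repWith AlgSpTopo.etaleLocal_locallyOfFinitePresentation (AlgSp.IsAlgSpace.yon_obj W)
      (AlgSp.IsAlgSpace.yon_obj U) _ (AlgSp.representable_yon_map φ)).2 ((AlgSp.repWith_yon_map_iff _ _).2 this))

end Groth.Agent.S10294
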