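import Groth.Statements.S10301
import Groth.Agent.AlgSpTopo.ProperMor
import Groth.Agent.UnivHomeo.Basic

set_option autoImplicit false
set_option backward.isDefEq.respectTransparency false
universe u
open CategoryTheory CategoryTheory.Limits AlgebraicGeometry
open AlgSp

namespace Groth.Agent.S10301

/-- For a representable morphism of algebraic spaces, being a universal homeomorphism in the
representable sense agrees with inducing homeomorphisms on points after every base change. -/
theorem result {S : Scheme.{u}} {X Y : AlgSp.Space S} (f : X ⟶ Y)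
    (hf : AlgSp.Representable f.hom) :
    AlgSp.RepWith FlatMor.IsUnivHomeo f.hom ↔ AlgSp.IsUnivHomeoMor f.hom := by
  refine ⟨fun h Z Z' hZ g fst snd sq => ?_, fun h => ?_⟩
  · have hq : AlgSp.IsUnivSubmersiveMor f.hom := AlgSpTopo.univSubmersive_of_repWith hf
      ⟨h.rep, fun _ _ g' a b sq' X' Y' i₁ i₂ f' h' => (h.property g' a b sq' i₁ i₂ f' h').isQuotientMap⟩
    have hi : AlgSp.IsUnivInjectiveMor f.hom := (AlgSpTopo.repWith_universallyInjective_iff hf).1
      ⟨h.rep, fun _ _ g' a b sq' => Groth.Agent.UnivHomeo.Basic.universallyInjective_of_isUnivHomeo (h.property g' a b sq')⟩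
    exact isHomeomorph_iff_isQuotientMap_injective.2 ⟨hq hZ g fst snd sq, hi hZ g fst snd sq⟩
  · exact AlgSpTopo.repWith_universally (tP := fun _ _ g => IsHomeomorph (AlgSp.Points.map g)) (fun φ hh => by
      rw [AlgSpTopo.map_conj] at hh
      have := ((AlgSp.Points.schemeHomeo _).symm.isHomeomorph.comp hh).comp (AlgSp.Points.schemeHomeo _).isHomeomorph
      simp only [Function.comp_def, Homeomorph.symm_apply_apply] at this
      exact this) hf h

end Groth.Agent.S10301
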