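import Groth.Statements.S10302
import Groth.Agent.HensPair.RelDimCodim

set_option autoImplicit false
universe u
open CategoryTheory CategoryTheory.Limits AlgebraicGeometry
open AlgSp

namespace Groth.Agent.S10302

/-- A flat morphism of algebraic spaces maps points of codimension 0 to points of codimension 0. -/
theorem result {S : Scheme.{u}} {X Y : AlgSp.Space S} (f : X ⟶ Y) (hf : AlgSp.LocP @Flat f.hom)
    (x : AlgSp.Points X.obj) (hx : AlgSp.HasAt (fun U u => ringKrullDim ↥(U.presheaf.stalk u) = 0) X.obj x) :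
    AlgSp.HasAt (fun U u => ringKrullDim ↥(U.presheaf.stalk u) = 0) Y.obj (AlgSp.Points.map f.hom x) := by
  open AlgSp AlgSpTopo Groth.Agent.HensPair in
  obtain ⟨U, V, a, b, k, ha, has, hb, -, comm⟩ := RelDimSp.exists_chart X.property Y.property f.hom
  obtain ⟨w, rfl⟩ := surjective_of_repWith has x
  obtain ⟨u, rfl⟩ := ofScheme_surjective U w
  rw [← Points.ofPt_eq_map_ofScheme] at hx ⊢
  rw [RelDimCodim.hasAt_iff ha] at hx
  rw [Points.map_ofPt, comm, ofPt_comp, RelDimCodim.hasAt_iff hb]
  haveI : Flat k.left := hf a b k ha hb comm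
  exact le_antisymm (hx ▸ RelDimCodim.ge_of_flat k.left u) ringKrullDim_nonneg_of_nontrivial

end Groth.Agent.S10302
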