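import Groth.Statements.S10308
import Groth.Agent.HensPair.RelDimSp

set_option autoImplicit false
universe u
open CategoryTheory CategoryTheory.Limits AlgebraicGeometry
open AlgSp

namespace Groth.Agent.S10308

/-- For f locally of finite type, the locus of points where the relative dimension of f is at most n is
open. -/
theorem result {S : Scheme.{u}} {X Y : AlgSp.Space S} (f : X ⟶ Y)
    (hf : AlgSp.LocP @LocallyOfFiniteType f.hom) (n : ℕ) :
    IsOpen {x : AlgSp.Points X.obj |
      AlgSp.HasAtMor (fun _ _ h u => FlatMor.fibreDimAt h u ≤ (n : WithBot ℕ∞)) f.hom x} := by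
  open Groth.Agent.HensPair AlgSpTopo in
  obtain ⟨U, V, a, b, k, ha, has, hb, -, comm⟩ := RelDimSp.exists_chart X.property Y.property f.hom
  haveI : LocallyOfFiniteType k.left := hf a b k ha hb comm
  have hset : {x : AlgSp.Points X.obj |
      AlgSp.HasAtMor (fun _ _ h u => FlatMor.fibreDimAt h u ≤ (n : WithBot ℕ∞)) f.hom x} =
      AlgSp.Points.ofPt a '' {u | FlatMor.fibreDimAt k.left u ≤ (n : WithBot ℕ∞)} := by
    ext x
    obtain ⟨u, rfl⟩ := AlgSpTopo.surjective_ofPt (AlgSpTopo.surjective_of_repWith has) x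
    refine ⟨fun h => ⟨u, (RelDimSp.hasAtMor_iff ha hb comm (fun w => w ≤ (n : WithBot ℕ∞)) u).mp h, rfl⟩, ?_⟩
    rintro ⟨u', hu', hx⟩
    rw [← hx]
    exact (RelDimSp.hasAtMor_iff ha hb comm (fun w => w ≤ (n : WithBot ℕ∞)) u').mpr hu'
  rw [hset]
  exact AlgSpTopo.isOpenMap_ofPt ha _ (Groth.Agent.Equidim.isOpen_fibreDimAt_le k.left _)

end Groth.Agent.S10308
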