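import Groth.Statements.S10309
import Groth.Agent.HensPair.RelDimRetro
import Groth.Agent.HensPair.RelDimSp

set_option autoImplicit false
universe u
open CategoryTheory CategoryTheory.Limits AlgebraicGeometry
open AlgSp

namespace Groth.Agent.S10309

/-- For f locally of finite presentation, the locus where the relative dimension is at most n is
retrocompact in |X|. -/
theorem result {S : Scheme.{u}} {X Y : AlgSp.Space S} (f : X ⟶ Y)
    (hf : AlgSp.LocP @LocallyOfFinitePresentation f.hom) (n : ℕ) (V : Set (AlgSp.Points X.obj))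
    (hV : IsOpen V) (hVc : IsCompact V) :
    IsCompact (V ∩ {x : AlgSp.Points X.obj |
      AlgSp.HasAtMor (fun _ _ h u => FlatMor.fibreDimAt h u ≤ (n : WithBot ℕ∞)) f.hom x}) := by
  open AlgSp AlgSpTopo Groth.Agent.HensPair in
  obtain ⟨U, W₀, a, b, k, ha, has, hb, -, comm⟩ := RelDimSp.exists_chart X.property Y.property f.hom
  haveI : LocallyOfFinitePresentation k.left := hf a b k ha hb comm
  have hsur : Function.Surjective (Points.ofPt a) := fun x => by
    obtain ⟨w, rfl⟩ := surjective_of_repWith has x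
    obtain ⟨v, rfl⟩ := ofScheme_surjective U w
    exact ⟨v, Points.ofPt_eq_map_ofScheme _ _⟩
  have hop : IsOpenMap (Points.ofPt a) := by
    have e : Points.ofPt a = Points.map a ∘ Points.ofScheme U := funext fun t => Points.ofPt_eq_map_ofScheme _ _
    rw [e]
    exact (isOpenMap_of_repWith_etale ha).comp (Points.schemeHomeo U).isOpenMap
  have hpre : IsOpen (Points.ofPt a ⁻¹' V) := hV.preimage (Points.continuous_ofPt a)
  have cover : ∀ v : ↥(Points.ofPt a ⁻¹' V), ∃ A : U.left.Opens, IsAffineOpen A ∧ v.1 ∈ A ∧ (A : Set U.left) ⊆ Points.ofPt a ⁻¹' V := fun v => by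
    obtain ⟨A, hA, hvA, hAV⟩ := exists_isAffineOpen_mem_and_subset (X := U.left) (U := ⟨_, hpre⟩) (x := v.1) v.2
    exact ⟨A, hA, hvA, hAV⟩
  choose A hA hvA hAV using cover
  obtain ⟨t, ht⟩ := hVc.elim_finite_subcover (fun v => Points.ofPt a '' (A v : Set U.left)) (fun v => hop _ (A v).2)
    fun x hx => by
      obtain ⟨v, rfl⟩ := hsur x
      exact Set.mem_iUnion.mpr ⟨⟨v, hx⟩, _, hvA ⟨v, hx⟩, rfl⟩
  have key := RelDimRetro.isRetrocompact_le k.left n
  rw [show V ∩ {x : Points X.obj | HasAtMor (fun _ _ h u => FlatMor.fibreDimAt h u ≤ (n : WithBot ℕ∞)) f.hom x} =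
      Points.ofPt a '' (⋃ v ∈ t, {u : U.left | FlatMor.fibreDimAt k.left u ≤ (n : ℕ)} ∩ (A v : Set U.left)) from ?_]
  · exact (t.finite_toSet.isCompact_biUnion fun v _ => key (hA v).isCompact (A v).2).image (Points.continuous_ofPt a)
  · ext x
    simp only [Set.mem_inter_iff, Set.mem_image, Set.mem_iUnion, exists_prop]
    constructor
    · rintro ⟨hxV, hx⟩
      obtain ⟨v, hv, u, hu, rfl⟩ := Set.mem_iUnion₂.mp (ht hxV)
      exact ⟨u, ⟨v, hv, (RelDimSp.hasAtMor_iff ha hb comm (· ≤ (n : WithBot ℕ∞)) u).mp hx, hu⟩, rfl⟩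
    · rintro ⟨u, ⟨v, -, hu, huA⟩, rfl⟩
      exact ⟨hAV v huA, (RelDimSp.hasAtMor_iff ha hb comm (· ≤ (n : WithBot ℕ∞)) u).mpr hu⟩

end Groth.Agent.S10309
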