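import Groth.Statements.S1031
import Mathlib.CategoryTheory.Triangulated.Generators

set_option autoImplicit false
universe v u
open CategoryTheory
open CohDer

namespace Groth.Agent.S1031

open CategoryTheory.Limits CategoryTheory.Pretriangulated CategoryTheory.ObjectProperty
open scoped ZeroObject

variable {D : Type u} [Category.{v} D] [Preadditive D] [Limits.HasZeroObject D] [HasShift D ℤ]
  [∀ n : ℤ, (shiftFunctor D n).Additive] [Pretriangulated D]

lemma closed_of_prod (Q : ObjectProperty D) [Q.IsClosedUnderIsomorphisms]
    (h : ∀ X Y, Q X → Q Y → Q (X ⨯ Y)) : Q.IsClosedUnderBinaryProducts where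
  limitsOfShape_le := by
    rintro X ⟨p⟩
    exact Q.prop_of_iso (IsLimit.conePointUniqueUpToIso (prodIsProd _ _)
      ((IsLimit.postcomposeHomEquiv (diagramIsoPair p.diag) _).2 p.isLimit))
      (h _ _ (p.prop_diag_obj (.mk .left)) (p.prop_diag_obj (.mk .right)))

lemma closed_retract (Q : ObjectProperty D) [Q.IsClosedUnderBinaryProducts] :
    Q.retractClosure.IsClosedUnderBinaryProducts :=
  closed_of_prod _ fun X Y hX hY => by
    obtain ⟨X', hX', i, r, hir⟩ := hX
    obtain ⟨Y', hY', i', r', hir'⟩ := hY
    exact ⟨X' ⨯ Y', Q.prop_prod _ _ hX' hY', prod.map i i', prod.map r r', by simp [hir, hir']⟩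

lemma closed_extensionProduct (P Q : ObjectProperty D) [P.IsClosedUnderBinaryProducts]
    [Q.IsClosedUnderBinaryProducts] : (extensionProduct P Q).IsClosedUnderBinaryProducts :=
  closed_of_prod _ fun X Y hX hY => by
    obtain ⟨A, B, f, g, h, hT, hA, hB⟩ := hX
    obtain ⟨A', B', f', g', h', hT', hA', hB'⟩ := hY
    let T : WalkingPair → Triangle D := fun j =>
      WalkingPair.casesOn j (Triangle.mk f g h) (Triangle.mk f' g' h')
    have hd : ∀ j, T j ∈ distTriang D := fun j => by cases j <;> assumption
    have h1 : P (∏ᶜ fun j => (T j).obj₁) := P.prop_limit _ (by rintro ⟨_ | _⟩ <;> assumption)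
    have h3 : Q (∏ᶜ fun j => (T j).obj₃) := Q.prop_limit _ (by rintro ⟨_ | _⟩ <;> assumption)
    have h2 : extensionProduct P Q (∏ᶜ fun j => (T j).obj₂) :=
      ⟨_, _, _, _, _, productTriangle_distinguished T hd, h1, h3⟩
    refine (extensionProduct P Q).prop_of_iso ?_ h2
    exact HasLimit.isoOfNatIso (Discrete.natIso fun ⟨j⟩ => by
      cases j <;> exact Iso.refl _)

lemma closed_iter (P : ObjectProperty D) [P.IsClosedUnderBinaryProducts] :
    ∀ n, (P.extensionProductIter n).IsClosedUnderBinaryProducts
  | 0 => by rwa [extensionProductIter_zero]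
  | n + 1 => by
    haveI := closed_iter P n
    rw [extensionProductIter_succ]
    exact closed_extensionProduct _ _

lemma closed_envelope (P : ObjectProperty D) (n : ℕ) :
    (P.triangEnvelopeIter n).IsClosedUnderBinaryProducts := by
  haveI := closed_retract ((P.shiftClosure ℤ).binaryProductsClosure)
  haveI := closed_iter (P.shiftClosure ℤ).binaryProductsClosure.retractClosure n
  exact closed_retract _

/-- Let D be a triangulated category admitting a strong generator G (every object is reached from G by
shifts, finite sums, summands and a uniformly bounded number of extensions). Then every classical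
generator E of D (every object reached from E with some finite number of extensions) is itself a
strong generator. -/
theorem result {D : Type u} [Category.{v} D] [Preadditive D] [Limits.HasZeroObject D] [HasShift D ℤ]
    [∀ n : ℤ, (shiftFunctor D n).Additive] [Pretriangulated D] [IsTriangulated D]
    (G E : D) (hG : ObjectProperty.IsStrongTriangulatedGenerator (fun X : D => X = G))
    (hE : ObjectProperty.IsClassicalTriangulatedGenerator (fun X : D => X = E)) :
    ObjectProperty.IsStrongTriangulatedGenerator (fun X : D => X = E) := by
  obtain ⟨n, hn⟩ := hG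
  have hGmem : ObjectProperty.triangEnvelope (fun X : D => X = E) G :=
    hE.symm ▸ (trivial : (⊤ : ObjectProperty D) G)
  obtain ⟨m, hm⟩ := (prop_triangEnvelope_iff _ _).1 hGmem
  haveI := closed_envelope (fun X : D => X = E) m
  haveI : ObjectProperty.IsClosedUnderIsomorphisms (triangEnvelopeIter (fun X : D => X = E) m) :=
    inferInstance
  have hbase : (ObjectProperty.shiftClosure (fun X : D => X = G) ℤ).binaryProductsClosure.retractClosure ≤
      triangEnvelopeIter (fun X : D => X = E) m := by
    refine (retractClosure_le_iff _ _).2 ?_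
    refine limitsClosure_le ?_
    refine (shiftClosure_le_iff _ _).2 ?_
    rintro X (rfl : X = G)
    exact hm
  suffices h : ∀ k, ∃ M, triangEnvelopeIter (fun X : D => X = G) k ≤
      triangEnvelopeIter (fun X : D => X = E) M by
    obtain ⟨M, hM⟩ := h n
    exact ⟨M, eq_top_iff.2 (hn ▸ hM)⟩
  intro k
  induction k with
  | zero => exact ⟨m, by rw [triangEnvelopeIter_zero]; exact hbase⟩
  | succ k ih =>
    obtain ⟨M, hM⟩ := ih
    refine ⟨m + (M + 1), ?_⟩
    rw [triangEnvelopeIter_succ (P := fun X : D => X = G), triangEnvelopeIter_add' _ rfl]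
    exact monotone_retractClosure ((monotone_extensionProduct_left _ hbase).trans
      (monotone_extensionProduct_right _ hM))

end Groth.Agent.S1031
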