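import Groth.Statements.S10310
import Groth.Agent.HensPair.RelDimSp
import Groth.Agent.AlgSpTopo.LocInst

set_option autoImplicit false
universe u
open CategoryTheory CategoryTheory.Limits AlgebraicGeometry
open AlgSp

namespace Groth.Agent.S10310

/-- A morphism locally of finite type is locally quasi-finite if and only if it has relative dimension 0
at every point. -/
theorem result {S : Scheme.{u}} {X Y : AlgSp.Space S} (f : X ⟶ Y)
    (hf : AlgSp.LocP @LocallyOfFiniteType f.hom) :
    AlgSp.LocP (@LocallyQuasiFinite ⊓ @LocallyOfFiniteType) f.hom ↔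
      ∀ x : AlgSp.Points X.obj, AlgSp.HasAtMor (fun _ _ h u => FlatMor.fibreDimAt h u = 0) f.hom x := by
  open Groth.Agent.HensPair in
  obtain ⟨U, V, a, b, k, ha, has, hb, -, comm⟩ := RelDimSp.exists_chart X.property Y.property f.hom
  haveI : LocallyOfFiniteType k.left := hf a b k ha hb comm
  rw [AlgSpTopo.locP_iff_chart AlgSpTopo.etaleLocal_lqf ha has hb comm, AlgSpTopo.forall_fibreDim_iff ha has hb comm]
  constructor
  · rintro ⟨hq, -⟩ u
    haveI : LocallyQuasiFinite k.left := hq
    have hdisc := k.left.isDiscrete_preimage_singleton (k.left u)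
    have hmax : ∀ z, k.left z = k.left u → u ∈ closure {z} → z = u := fun z hz h =>
      AlgSpTopo.ThickScheme.eq_of_specializes_of_discrete hdisc hz rfl (specializes_iff_mem_closure.mpr h)
    rw [FibreTrdeg.fibreDimAt_eq_T_of_maximal k.left u hmax, DimMore.T_eq_zero k.left u fun z hz h =>
      (AlgSpTopo.ThickScheme.eq_of_specializes_of_discrete hdisc rfl hz h).symm]
    rfl
  · intro h
    refine ⟨locallyQuasiFinite_iff_isDiscrete_preimage_singleton.mpr fun t => ?_, inferInstance⟩
    haveI : LocallyOfFiniteType (k.left.fiberToSpecResidueField t) :=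
      MorphismProperty.pullback_snd (P := @LocallyOfFiniteType) _ _ inferInstance
    haveI : IsLocallyNoetherian (k.left.fiber t) :=
      LocallyOfFiniteType.isLocallyNoetherian (k.left.fiberToSpecResidueField t)
    haveI : DiscreteTopology ↥(k.left.fiber t) := discreteTopology_iff_isOpen_singleton.mpr fun z => by
      have hz : FlatMor.localDim ↥(k.left.fiber t) z = 0 :=
        (Groth.Agent.Equidim.localDim_fiber_eq k.left t z _ rfl).trans (h _)
      obtain ⟨O, hzO, hO⟩ := Groth.Agent.TopDim.Basic.exists_localDim z
      obtain ⟨A, hA, hzA, hAO⟩ := exists_isAffineOpen_mem_and_subset (X := k.left.fiber t) (x := z) (U := O) hzO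
      haveI : IsNoetherianRing Γ(k.left.fiber t, A) := IsLocallyNoetherian.component_noetherian ⟨A, hA⟩
      haveI : TopologicalSpace.NoetherianSpace ↥(A : Set ↥(k.left.fiber t)) := noetherianSpace_of_isAffineOpen A hA
      have h0 : topologicalKrullDim ↥(A : Set ↥(k.left.fiber t)) ≤ 0 :=
        ((Topology.IsEmbedding.inclusion hAO).isInducing.topologicalKrullDim_le).trans (hO.trans hz).le
      obtain ⟨-, hdA⟩ := Groth.Agent.TopDim.Basic.finite_discrete h0
      have h1 := A.isOpen.isOpenEmbedding_subtypeVal.isOpenMap {(⟨z, hzA⟩ : A)} (isOpen_discrete _)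
      rwa [Set.image_singleton] at h1
    haveI : DiscreteTopology ↥(k.left ⁻¹' {t}) := (k.left.fiberHomeo t).discreteTopology
    exact isDiscrete_iff_discreteTopology.mpr inferInstance

end Groth.Agent.S10310
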