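import Groth.Statements.S10311
import Groth.Agent.HensPair.RelDimSp
import Groth.Agent.HensPair.DimBC
import Groth.Agent.AlgSpTopo.FlatLocus

set_option autoImplicit false
universe u
open CategoryTheory CategoryTheory.Limits AlgebraicGeometry
open AlgSp

namespace Groth.Agent.S10311

/-- The relative dimension at a point of a morphism locally of finite type is preserved by base change. -/
theorem result {S : Scheme.{u}} {X Y Y' X' : AlgSp.Space S} (f : X ⟶ Y) (g : Y' ⟶ Y)
    (g' : X' ⟶ X) (f' : X' ⟶ Y') (sq : IsPullback g'.hom f'.hom f.hom g.hom)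
    (hf : AlgSp.LocP @LocallyOfFiniteType f.hom) (x' : AlgSp.Points X'.obj) (d : WithBot ℕ∞)
    (hd : AlgSp.HasAtMor (fun _ _ h u => FlatMor.fibreDimAt h u = d) f.hom (AlgSp.Points.map g'.hom x')) :
    AlgSp.HasAtMor (fun _ _ h u => FlatMor.fibreDimAt h u = d) f'.hom x' := by
  open AlgSp AlgSpTopo Groth.Agent.HensPair in
  obtain ⟨V, b, hb, hbs⟩ := Y.property.atlas
  have HX := IsPullback.of_hasPullback f.hom b
  obtain ⟨U, φU, hφU, hφUs⟩ := (isAlgSpace_pullback X.property Y.property (IsAlgSpace.yon_obj V) f.hom b).atlas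
  have ha : RepWith @Etale (φU ≫ pullback.fst f.hom b) :=
    MorphismProperty.comp_mem _ _ _ hφU (MorphismProperty.of_isPullback (P := RepWith @Etale) HX.flip hb)
  obtain ⟨k, hk⟩ := (yon S).map_surjective (φU ≫ pullback.snd f.hom b)
  have comm : (φU ≫ pullback.fst f.hom b) ≫ f.hom = (yon S).map k ≫ b := by
    rw [hk, Category.assoc, Category.assoc, HX.w]
  haveI : LocallyOfFiniteType k.left := hf _ b k ha hb comm
  have hlift : pullback.lift (φU ≫ pullback.fst f.hom b) ((yon S).map k) comm = φU := by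
    apply pullback.hom_ext
    · rw [pullback.lift_fst]
    · rw [pullback.lift_snd, hk]
  obtain ⟨T₀, e₀, he₀, he₀s⟩ := Y'.property.atlas
  obtain ⟨T, t, e, sqT, he⟩ := exists_square hb (e₀ ≫ g.hom)
  obtain ⟨t, rfl⟩ := (yon S).map_surjective t
  have hw : RepWith @Etale ((yon S).map e ≫ e₀) :=
    MorphismProperty.comp_mem _ _ _ ((repWith_yon_map_iff _ _).2 he) he₀
  have hws : Function.Surjective (Points.map ((yon S).map e ≫ e₀)) := fun z => by
    obtain ⟨y, rfl⟩ := surjective_of_repWith he₀s z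
    have : Surjective e.left := hbs.property _ _ _ sqT
    obtain ⟨y', rfl⟩ := surjective_of_repWith ((repWith_yon_map_iff _ e).2 this) y
    exact ⟨y', Points.map_comp _ _ _⟩
  have hgw : ((yon S).map e ≫ e₀) ≫ g.hom = (yon S).map t ≫ b := by rw [Category.assoc, ← sqT.w]
  let V' : Over S := Over.mk (pullback.snd k.left t.left ≫ T.hom)
  let p₁ : V' ⟶ U := Over.homMk (pullback.fst k.left t.left) (by
    change pullback.fst _ _ ≫ U.hom = pullback.snd _ _ ≫ T.hom
    rw [← Over.w k, ← Over.w t, pullback.condition_assoc])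
  let p₂ : V' ⟶ T := Over.homMk (pullback.snd k.left t.left) rfl
  have sV : IsPullback p₁ p₂ k t := IsPullback.of_map_of_faithful (Over.forget S) (IsPullback.of_hasPullback _ _)
  have HW := IsPullback.of_hasPullback f'.hom ((yon S).map e ≫ e₀)
  have sqY := HW.paste_horiz sq
  rw [hgw] at sqY
  obtain ⟨ψ, hψ, hψ1, hψ2, hψs⟩ := exists_chart_bc_surj X.property Y.property ha hb comm
    (by rw [hlift]; exact surjective_of_repWith hφUs) sV sqY
  have ha' : RepWith @Etale (ψ ≫ pullback.fst f'.hom ((yon S).map e ≫ e₀)) :=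
    MorphismProperty.comp_mem _ _ _ hψ (MorphismProperty.of_isPullback (P := RepWith @Etale) HW.flip hw)
  have comm' : (ψ ≫ pullback.fst f'.hom ((yon S).map e ≫ e₀)) ≫ f'.hom = (yon S).map p₂ ≫ ((yon S).map e ≫ e₀) := by
    rw [← hψ2, Category.assoc, Category.assoc, HW.w]
  obtain ⟨y, rfl⟩ := surjective_chart_bc HW hws x'
  obtain ⟨y, rfl⟩ := hψs y
  obtain ⟨z, rfl⟩ := ofScheme_surjective V' y
  rw [← Points.map_comp, ← Points.ofPt_eq_map_ofScheme] at hd ⊢
  rw [Points.map_ofPt] at hd
  rw [hψ1, ofPt_comp] at hd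
  rw [RelDimSp.hasAtMor_iff ha hb comm (fun n => n = d)] at hd
  rw [RelDimSp.hasAtMor_iff ha' hw comm' (fun n => n = d)]
  rw [DimBC.fibreDimAt_baseChange k.left t.left p₁.left p₂.left (IsPullback.of_hasPullback k.left t.left) z]
  exact hd

end Groth.Agent.S10311
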