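import Groth.Statements.S10313
import Groth.Agent.HensPair.RelDimTr
import Groth.Agent.AlgSpTopo.OpenSub
import Groth.Agent.S10310
import Groth.Agent.S10311
import Groth.Agent.Equidim.Upper

set_option autoImplicit false
universe u
open CategoryTheory CategoryTheory.Limits AlgebraicGeometry
open AlgSp

namespace Groth.Agent.S10313

/-- For f locally of finite type there is an open subspace of X on which f is locally quasi-finite,
outside of which the relative dimension is at least 1, and whose formation commutes with base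
change. -/
theorem result {S : Scheme.{u}} {X Y : AlgSp.Space S} (f : X ⟶ Y)
    (hf : AlgSp.LocP @LocallyOfFiniteType f.hom) :
    ∃ (X' : AlgSp.Space S) (j : X' ⟶ X), AlgSp.RepWith @IsOpenImmersion j.hom ∧
      AlgSp.LocP (@LocallyQuasiFinite ⊓ @LocallyOfFiniteType) (j ≫ f).hom ∧
      (∀ x : AlgSp.Points X.obj, x ∉ Set.range (AlgSp.Points.map j.hom) →
        AlgSp.HasAtMor (fun _ _ h u => 1 ≤ FlatMor.fibreDimAt h u) f.hom x) ∧
      ∀ (Y'' X'' : AlgSp.Space S) (g : Y'' ⟶ Y) (b : X'' ⟶ X) (f'' : X'' ⟶ Y''),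
        IsPullback b.hom f''.hom f.hom g.hom → ∀ x'' : AlgSp.Points X''.obj,
          AlgSp.Points.map b.hom x'' ∈ Set.range (AlgSp.Points.map j.hom) ↔ AlgSp.HasAtMor (fun U _ h u => ∃ W : U.Opens, u ∈ W ∧ LocallyQuasiFinite (W.ι ≫ h) ∧ LocallyOfFiniteType (W.ι ≫ h)) f''.hom x'' := by
  open AlgSp AlgSpTopo Groth.Agent.HensPair in
  have lqf0 : ∀ {A B : Scheme.{u}} (g : A ⟶ B) [LocallyQuasiFinite g] [LocallyOfFiniteType g] (z : A),
      FlatMor.fibreDimAt g z = 0 := fun g _ _ z => by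
    rw [FibreTrdeg.fibreDimAt_eq_T_of_maximal g z fun z' hz' h' =>
      AlgSpTopo.ThickScheme.eq_of_specializes_of_discrete (g.isDiscrete_preimage_singleton (g z)) hz' rfl
        (specializes_iff_mem_closure.mpr h'), RelDimTr.T_eq_zero_of_lqf g z]
    rfl
  have zero_of_le : ∀ {A B : Scheme.{u}} (g : A ⟶ B) [LocallyOfFiniteType g] (z : A),
      FlatMor.fibreDimAt g z ≤ 0 → FlatMor.fibreDimAt g z = 0 := fun g _ z hle =>
    le_antisymm hle (le_trans (by exact_mod_cast Nat.zero_le _) (FibreTrdeg.T_le_fibreDimAt g z))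
  obtain ⟨U, V, a, b, k, ha, has, hb, hbs, comm⟩ := RelDimSp.exists_chart X.property Y.property f.hom
  haveI : LocallyOfFiniteType k.left := hf a b k ha hb comm
  let O : Set U.left := {v | FlatMor.fibreDimAt k.left v ≤ 0}
  let W : Set (Points X.obj) := Points.map a '' (Points.schemeHomeo U '' O)
  have hW : IsOpen W := isOpenMap_of_repWith_etale ha _
    ((Points.schemeHomeo U).isOpenMap _ (Groth.Agent.Equidim.isOpen_fibreDimAt_le k.left 0))
  have memW : ∀ v, Points.ofPt a v ∈ W ↔ FlatMor.fibreDimAt k.left v ≤ 0 := by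
    refine fun v => ⟨?_, fun h => ⟨_, ⟨v, h, rfl⟩, (Points.ofPt_eq_map_ofScheme _ _).symm⟩⟩
    rintro ⟨-, ⟨v', hv', rfl⟩, hx⟩
    have hx : Points.ofPt a v' = Points.ofPt a v := (Points.ofPt_eq_map_ofScheme _ _).trans hx
    rwa [fibreDimAt_chart_indep ha hb comm ha hb comm v v' hx]
  have sur : Function.Surjective (Points.ofPt a) := fun x => by
    obtain ⟨w, rfl⟩ := surjective_of_repWith has x
    obtain ⟨v, rfl⟩ := ofScheme_surjective U w
    exact ⟨v, Points.ofPt_eq_map_ofScheme _ _⟩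
  let X' : AlgSp.Space S := ⟨openSub X.obj W, isAlgSpace_openSub X.property hW⟩
  let j : X' ⟶ X := ObjectProperty.homMk (openSubι X.obj W)
  have hj : RepWith @IsOpenImmersion j.hom := repWith_openSubι hW
  have hr : Set.range (Points.map j.hom) = W := range_openSubι W
  refine ⟨X', j, hj, ?_, fun x hx => ?_, fun Y'' X'' g b'' f'' sq x'' => ?_⟩
  · obtain ⟨E, c, i, sqj, hi⟩ := exists_square hj a
    haveI : IsOpenImmersion i.left := hi
    have hc : RepWith @Etale c := MorphismProperty.of_isPullback (P := RepWith @Etale) sqj.flip ha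
    have hcs : RepWith @Surjective c := MorphismProperty.of_isPullback (P := RepWith @Surjective) sqj.flip has
    have commc : c ≫ (j ≫ f).hom = (yon S).map (i ≫ k) ≫ b := by
      show c ≫ j.hom ≫ f.hom = _
      rw [← Category.assoc, sqj.w, Category.assoc, comm, ← Category.assoc, ← Functor.map_comp]
    haveI : LocallyOfFiniteType (i ≫ k).left := inferInstanceAs (LocallyOfFiniteType (i.left ≫ k.left))
    refine (Groth.Agent.S10310.result (j ≫ f)
      (one_chart etaleLocal_locallyOfFiniteType (j ≫ f).hom c b (i ≫ k) hc hcs hb commc inferInstance)).mpr fun x => ?_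
    obtain ⟨w', rfl⟩ := surjective_of_repWith hcs x
    obtain ⟨v, rfl⟩ := ofScheme_surjective E w'
    rw [← Points.ofPt_eq_map_ofScheme]
    refine ⟨E, V, c, b, i ≫ k, v, hc, hb, commc, rfl, zero_of_le _ _ ?_⟩
    refine (CMFlat.Main.fibre_open i.left k.left v).2.le.trans ((memW _).mp ?_)
    rw [← ofPt_comp, ← sqj.w, ← hr, ← Points.map_ofPt]
    exact ⟨_, rfl⟩
  · obtain ⟨v, rfl⟩ := sur x
    rw [hr, memW] at hx
    refine (RelDimSp.hasAtMor_iff ha hb comm (fun n => 1 ≤ n) v).mpr ?_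
    obtain ⟨m, hm⟩ := ChevalleyTfae.exists_nat_eq k.left v
    rw [hm] at hx ⊢
    have : m ≠ 0 := fun h => hx (by rw [h]; rfl)
    exact_mod_cast Nat.one_le_iff_ne_zero.mpr this
  obtain ⟨v, hv⟩ := sur (Points.map b''.hom x'')
  obtain ⟨U₂, V₂, a₂, b₂, k₂, u₂, ha₂, hb₂, comm₂, hx₂, h₂⟩ := Groth.Agent.S10311.result f g b'' f'' sq hf x''
    (FlatMor.fibreDimAt k.left v) (by rw [← hv]; exact (RelDimSp.hasAtMor_iff ha hb comm (fun n => n = _) v).mpr rfl)
  have hf'' : LocP @LocallyOfFiniteType f''.hom :=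
    locP_bc etaleLocal_locallyOfFiniteType X.property Y.property Y''.property sq hf
  haveI : LocallyOfFiniteType k₂.left := hf'' a₂ b₂ k₂ ha₂ hb₂ comm₂
  rw [hr, ← hv, memW, ← h₂]
  constructor
  · intro h
    let O₂ : U₂.left.Opens := ⟨_, Groth.Agent.Equidim.isOpen_fibreDimAt_le k₂.left 0⟩
    refine ⟨U₂, V₂, a₂, b₂, k₂, u₂, ha₂, hb₂, comm₂, hx₂, O₂, h, ?_, inferInstance⟩
    refine locallyQuasiFinite_iff_isDiscrete_preimage_singleton.mpr fun t => ?_
    haveI : LocallyOfFiniteType ((O₂.ι ≫ k₂.left).fiberToSpecResidueField t) :=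
      MorphismProperty.pullback_snd (P := @LocallyOfFiniteType) _ _ inferInstance
    refine isDiscrete_iff_discreteTopology.mpr ?_
    haveI : DiscreteTopology ↥((O₂.ι ≫ k₂.left).fiber t) := discreteTopology_iff_isOpen_singleton.mpr fun z => by
      haveI : IsLocallyNoetherian ((O₂.ι ≫ k₂.left).fiber t) :=
        LocallyOfFiniteType.isLocallyNoetherian ((O₂.ι ≫ k₂.left).fiberToSpecResidueField t)
      have hz : FlatMor.localDim ↥((O₂.ι ≫ k₂.left).fiber t) z = 0 :=
        (Groth.Agent.Equidim.localDim_fiber_eq (O₂.ι ≫ k₂.left) t z _ rfl).trans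
          (zero_of_le _ _ ((CMFlat.Main.fibre_open O₂.ι k₂.left _).2.le.trans (((O₂.ι ≫ k₂.left).fiberι t z).2)))
      obtain ⟨P, hzP, hP⟩ := Groth.Agent.TopDim.Basic.exists_localDim z
      obtain ⟨A, hA, hzA, hAP⟩ := exists_isAffineOpen_mem_and_subset (X := (O₂.ι ≫ k₂.left).fiber t) (x := z) (U := P) hzP
      haveI : IsNoetherianRing Γ((O₂.ι ≫ k₂.left).fiber t, A) := IsLocallyNoetherian.component_noetherian ⟨A, hA⟩
      haveI : TopologicalSpace.NoetherianSpace ↥(A : Set ↥((O₂.ι ≫ k₂.left).fiber t)) := noetherianSpace_of_isAffineOpen A hA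
      have h0 : topologicalKrullDim ↥(A : Set ↥((O₂.ι ≫ k₂.left).fiber t)) ≤ 0 :=
        ((Topology.IsEmbedding.inclusion hAP).isInducing.topologicalKrullDim_le).trans (hP.trans hz).le
      obtain ⟨-, hdA⟩ := Groth.Agent.TopDim.Basic.finite_discrete h0
      have h1 := A.isOpen.isOpenEmbedding_subtypeVal.isOpenMap {(⟨z, hzA⟩ : A)} (isOpen_discrete _)
      rwa [Set.image_singleton] at h1
    exact ((O₂.ι ≫ k₂.left).fiberHomeo t).discreteTopology
  · rintro ⟨U₃, V₃, a₃, b₃, k₃, u₃, ha₃, hb₃, comm₃, hx₃, O₃, hu₃, h1, h3⟩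
    haveI := h1
    haveI := h3
    rw [fibreDimAt_chart_indep ha₂ hb₂ comm₂ ha₃ hb₃ comm₃ u₂ u₃ (hx₃.trans hx₂.symm)]
    exact ((CMFlat.Main.fibre_open O₃.ι k₃.left ⟨u₃, hu₃⟩).2.symm.trans (lqf0 _ _)).le

end Groth.Agent.S10313
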