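import Groth.Statements.S10314
import Groth.Agent.HensPair.RelDimSp

set_option autoImplicit false
universe u
open CategoryTheory CategoryTheory.Limits AlgebraicGeometry
open AlgSp

namespace Groth.Agent.S10314

/-- For a flat morphism locally of finite type of relative dimension d between locally Noetherian
algebraic spaces, the dimension of X at a point equals the dimension of Y at the image point plus d. -/
theorem result {S : Scheme.{u}} {X Y : AlgSp.Space S} (f : X ⟶ Y)
    (hX : AlgSp.IsLocNoethSp X.obj) (hY : AlgSp.IsLocNoethSp Y.obj) (hf : AlgSp.LocP @Flat f.hom)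
    (hf' : AlgSp.LocP @LocallyOfFiniteType f.hom) (d : ℕ)
    (hd : ∀ x : AlgSp.Points X.obj, AlgSp.HasAtMor (fun _ _ h u => FlatMor.fibreDimAt h u = (d : WithBot ℕ∞)) f.hom x)
    (x : AlgSp.Points X.obj) (dX dY : WithBot ℕ∞) (hx : AlgSp.HasAt (fun U u => FlatMor.localDim ↥U u = dX) X.obj x)
    (hy : AlgSp.HasAt (fun U u => FlatMor.localDim ↥U u = dY) Y.obj (AlgSp.Points.map f.hom x)) :
    dX = dY + (d : WithBot ℕ∞) := by
  open Groth.Agent.HensPair in
  obtain ⟨U, V, a, b, k, ha, has, hb, -, comm⟩ := RelDimSp.exists_chart X.property Y.property f.hom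
  haveI : LocallyOfFiniteType k.left := hf' a b k ha hb comm
  haveI : Flat k.left := hf a b k ha hb comm
  haveI := RelDimSp.isLocallyNoetherian_chart hX ha
  haveI := RelDimSp.isLocallyNoetherian_chart hY hb
  obtain ⟨u, rfl⟩ := AlgSpTopo.surjective_ofPt (AlgSpTopo.surjective_of_repWith has) x
  have h := RelDim.localDim_add k.left u ⊤ trivial d fun z _ =>
    (RelDimSp.hasAtMor_iff ha hb comm (fun w => w = (d : WithBot ℕ∞)) z).mp (hd _)
  rw [(RelDimSp.hasAt_localDim_iff hX ha u dX).mp hx] at h
  rw [AlgSp.Points.map_ofPt, comm, AlgSpTopo.ofPt_comp] at hy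
  rw [(RelDimSp.hasAt_localDim_iff hY hb (k.left u) dY).mp hy] at h
  exact h

end Groth.Agent.S10314
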