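import Groth.Statements.S10315
import Groth.Agent.HensPair.RelDimSp

set_option autoImplicit false
universe u
open CategoryTheory CategoryTheory.Limits AlgebraicGeometry
open AlgSp

namespace Groth.Agent.S10315

/-- For a smooth morphism of locally Noetherian algebraic spaces, the dimension of X at x is the
dimension of Y at the image of x plus the relative dimension of f at x. -/
theorem result {S : Scheme.{u}} {X Y : AlgSp.Space S} (f : X ⟶ Y)
    (hX : AlgSp.IsLocNoethSp X.obj) (hY : AlgSp.IsLocNoethSp Y.obj) (hf : AlgSp.LocP @Smooth f.hom)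
    (x : AlgSp.Points X.obj) (d dX dY : WithBot ℕ∞)
    (hd : AlgSp.HasAtMor (fun _ _ h u => FlatMor.fibreDimAt h u = d) f.hom x)
    (hx : AlgSp.HasAt (fun U u => FlatMor.localDim ↥U u = dX) X.obj x)
    (hy : AlgSp.HasAt (fun U u => FlatMor.localDim ↥U u = dY) Y.obj (AlgSp.Points.map f.hom x)) :
    dX = dY + d := by
  open Groth.Agent.HensPair in
  obtain ⟨U, V, a, b, k, ha, has, hb, -, comm⟩ := RelDimSp.exists_chart X.property Y.property f.hom
  haveI : Smooth k.left := hf a b k ha hb comm
  haveI := RelDimSp.isLocallyNoetherian_chart hX ha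
  haveI := RelDimSp.isLocallyNoetherian_chart hY hb
  obtain ⟨u, rfl⟩ := AlgSpTopo.surjective_ofPt (AlgSpTopo.surjective_of_repWith has) x
  obtain ⟨n, W, hW, hWn⟩ := SmoothDim.exists_const_nhd k.left u
  have h := RelDim.localDim_add k.left u W hW n hWn
  rw [(RelDimSp.hasAt_localDim_iff hX ha u dX).mp hx] at h
  rw [AlgSp.Points.map_ofPt, comm, AlgSpTopo.ofPt_comp] at hy
  rw [(RelDimSp.hasAt_localDim_iff hY hb (k.left u) dY).mp hy] at h
  rw [← (RelDimSp.hasAtMor_iff ha hb comm (fun w => w = d) u).mp hd, hWn u hW]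
  exact h

end Groth.Agent.S10315
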