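import Groth.Statements.S10316
import Groth.Agent.HensPair.RelDimTr

set_option autoImplicit false
universe u
open CategoryTheory CategoryTheory.Limits AlgebraicGeometry
open AlgSp

namespace Groth.Agent.S10316

/-- For X -> Y locally quasi-finite and Y -> Z locally of finite type, the transcendence degree of x
over Z equals that of its image y over Z. -/
theorem result {S : Scheme.{u}} {X Y Z : AlgSp.Space S} (f : X ⟶ Y) (g : Y ⟶ Z)
    (hf : AlgSp.LocP (@LocallyQuasiFinite ⊓ @LocallyOfFiniteType) f.hom) (hg : AlgSp.LocP @LocallyOfFiniteType g.hom)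
    (x : AlgSp.Points X.obj) (r : Cardinal.{u}) :
    AlgSp.HasAtMor (fun _ _ h u => Dual3.resTrdeg h u = r) (f ≫ g).hom x ↔
      AlgSp.HasAtMor (fun _ _ h u => Dual3.resTrdeg h u = r) g.hom (AlgSp.Points.map f.hom x) := by
  open AlgSp AlgSpTopo Groth.Agent.HensPair in
  obtain ⟨U, V, W, a, b, c, k, l, ha, has, hb, hc, comm1, comm2, comm⟩ :=
    RelDimTr.exists_charts X.property Y.property Z.property f.hom g.hom
  obtain ⟨hq, hlf⟩ := hf a b k ha hb comm1
  haveI : LocallyQuasiFinite k.left := hq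
  haveI : LocallyOfFiniteType k.left := hlf
  haveI : LocallyOfFiniteType l.left := hg b c l hb hc comm2
  obtain ⟨y, rfl⟩ := surjective_of_repWith has x
  obtain ⟨u, rfl⟩ := ofScheme_surjective U y
  rw [← Points.ofPt_eq_map_ofScheme, Points.map_ofPt, comm1, ofPt_comp, RelDimTr.hasAtMor_iff hg hb hc comm2]
  haveI : LocallyOfFiniteType (k ≫ l).left := inferInstanceAs (LocallyOfFiniteType (k.left ≫ l.left))
  have e : FibreTrdeg.T (k ≫ l).left u = FibreTrdeg.T l.left (k.left u) := by
    show FibreTrdeg.T (k.left ≫ l.left) u = _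
    rw [JacobsonDim.T_add, RelDimTr.T_eq_zero_of_lqf k.left u, add_zero]
  constructor
  · rintro ⟨U₁, W₁, a₁, c₁, k₁, u₁, ha₁, hc₁, comm₁, hx, h⟩
    haveI : LocallyOfFiniteType k₁.left := by
      exact (locP_comp etaleLocal_locallyOfFiniteType X.property Y.property Z.property f.hom g.hom
        (fun U V a b k h1 h2 h3 => (hf a b k h1 h2 h3).2) hg) a₁ c₁ k₁ ha₁ hc₁ comm₁
    rw [← e, RelDimSp.T_chart_indep ha hc comm ha₁ hc₁ comm₁ u u₁ hx, ← h]
    exact FibreTrdeg.T_spec k₁.left u₁
  · intro h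
    exact ⟨U, W, a, c, k ≫ l, u, ha, hc, comm, rfl, (FibreTrdeg.T_spec (k ≫ l).left u).trans (by rw [e, h])⟩

end Groth.Agent.S10316
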