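import Groth.Statements.S10318
import Groth.Agent.HensPair.RelDimTr

set_option autoImplicit false
universe u
open CategoryTheory CategoryTheory.Limits AlgebraicGeometry
open AlgSp

namespace Groth.Agent.S10318

/-- Over a Jacobson algebraic space, a finite type point of a space locally of finite type over it has
transcendence degree 0 over its image. -/
theorem result {S : Scheme.{u}} {X Y : AlgSp.Space S} (f : X ⟶ Y)
    (hf : AlgSp.LocP @LocallyOfFiniteType f.hom) (hY : AlgSp.EtaleLocally (fun U => JacobsonSpace ↥U) Y.obj)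
    (x : AlgSp.Points X.obj) (hx : AlgSp.HasAt (fun U u => IsClosed ({u} : Set ↥U)) X.obj x) :
    AlgSp.HasAtMor (fun _ _ h u => Dual3.resTrdeg h u = 0) f.hom x := by
  open AlgSp AlgSpTopo Groth.Agent.HensPair in
  obtain ⟨V, b, hb, hbs, hJ⟩ := hY
  haveI := hJ
  obtain ⟨U, T1, m1, e1, a, -, -, ha, has, comm⟩ := exists_atlas_chart X.property Y.property f.hom (locP_top f.hom) hb hbs
  haveI : LocallyOfFiniteType (m1 ≫ e1).left := hf a b (m1 ≫ e1) ha hb comm
  haveI : JacobsonSpace ↥U.left := LocallyOfFiniteType.jacobsonSpace (m1 ≫ e1).left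
  obtain ⟨U₁, a₁, u₁, ha₁, hx₁, hcl⟩ := hx
  obtain ⟨y, rfl⟩ := surjective_of_repWith has x
  obtain ⟨u, rfl⟩ := ofScheme_surjective U y
  obtain ⟨E, w, e, sq, he⟩ := exists_square ha a₁
  obtain ⟨w, rfl⟩ := (yon S).map_surjective w
  haveI : Etale w.left := ha₁.property _ _ _ sq.flip
  haveI : Etale e.left := he
  haveI : LocallyQuasiFinite e.left := etaleLocal_locallyQuasiFinite.of_etale e.left he
  obtain ⟨z, hz1, hz2⟩ := points_surj sq (Points.ofScheme U u) (Points.ofScheme U₁ u₁) (by
    rw [← Points.ofPt_eq_map_ofScheme a₁]; exact hx₁.symm)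
  obtain ⟨z, rfl⟩ := ofScheme_surjective E z
  rw [map_ofScheme] at hz1 hz2
  have hz1 := (Points.schemeEquiv U).injective hz1
  have hz2 := (Points.schemeEquiv U₁).injective hz2
  have hzc : IsClosed ({z} : Set E.left) := isClosed_of_closure_subset fun z' hz' => by
    have h1 : e.left z' = u₁ := by
      have h2 := ((specializes_iff_mem_closure.mpr hz').map e.left.continuous).mem_closure
      rw [hz2, hcl.closure_eq] at h2
      exact h2
    exact (AlgSpTopo.ThickScheme.eq_of_specializes_of_discrete (e.left.isDiscrete_preimage_singleton u₁) hz2 h1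
      (specializes_iff_mem_closure.mpr hz')).symm
  have huc : IsClosed ({u} : Set U.left) := hz1 ▸ w.left.closePoints_subset_preimage_closedPoints hzc
  rw [← Points.ofPt_eq_map_ofScheme, RelDimTr.hasAtMor_iff hf ha hb comm, DimMore.T_eq_zero (m1 ≫ e1).left u
    fun z' _ h => by have := h.mem_closure; rw [huc.closure_eq] at this; exact this]
  rfl

end Groth.Agent.S10318
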