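import Groth.Statements.S10319
import Groth.Agent.HensPair.RelDimTr

set_option autoImplicit false
universe u
open CategoryTheory CategoryTheory.Limits AlgebraicGeometry
open AlgSp

namespace Groth.Agent.S10319

/-- Transcendence degrees at a point add up along a composition of morphisms locally of finite type. -/
theorem result {S : Scheme.{u}} {X Y Z : AlgSp.Space S} (f : X ⟶ Y) (g : Y ⟶ Z)
    (hf : AlgSp.LocP @LocallyOfFiniteType f.hom) (hg : AlgSp.LocP @LocallyOfFiniteType g.hom)
    (x : AlgSp.Points X.obj) (r₁ r₂ : Cardinal.{u})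
    (h1 : AlgSp.HasAtMor (fun _ _ h u => Dual3.resTrdeg h u = r₁) f.hom x)
    (h2 : AlgSp.HasAtMor (fun _ _ h u => Dual3.resTrdeg h u = r₂) g.hom (AlgSp.Points.map f.hom x)) :
    AlgSp.HasAtMor (fun _ _ h u => Dual3.resTrdeg h u = r₁ + r₂) (f ≫ g).hom x := by
  open AlgSp AlgSpTopo Groth.Agent.HensPair in
  obtain ⟨U, V, W, a, b, c, k, l, ha, has, hb, hc, comm1, comm2, comm⟩ :=
    RelDimTr.exists_charts X.property Y.property Z.property f.hom g.hom
  haveI : LocallyOfFiniteType k.left := hf a b k ha hb comm1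
  haveI : LocallyOfFiniteType l.left := hg b c l hb hc comm2
  obtain ⟨y, rfl⟩ := surjective_of_repWith has x
  obtain ⟨u, rfl⟩ := ofScheme_surjective U y
  rw [← Points.ofPt_eq_map_ofScheme] at h1 h2 ⊢
  rw [Points.map_ofPt, comm1, ofPt_comp, RelDimTr.hasAtMor_iff hg hb hc comm2] at h2
  rw [RelDimTr.hasAtMor_iff hf ha hb comm1] at h1
  refine ⟨U, W, a, c, k ≫ l, u, ha, hc, comm, rfl, ?_⟩
  haveI : LocallyOfFiniteType (k ≫ l).left := inferInstanceAs (LocallyOfFiniteType (k.left ≫ l.left))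
  refine (FibreTrdeg.T_spec (k ≫ l).left u).trans ?_
  show ((FibreTrdeg.T (k.left ≫ l.left) u : ℕ) : Cardinal) = _
  rw [JacobsonDim.T_add, h1, h2, Nat.cast_add, add_comm]

end Groth.Agent.S10319
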