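import Groth.Statements.S10320
import Groth.Agent.HensPair.RelDimSp

set_option autoImplicit false
universe u
open CategoryTheory CategoryTheory.Limits AlgebraicGeometry
open AlgSp

namespace Groth.Agent.S10320

/-- For f locally of finite type, the relative dimension of f at x equals the dimension of the local
ring of the fibre at x plus the transcendence degree of x over its image. -/
theorem result {S : Scheme.{u}} {X Y : AlgSp.Space S} (f : X ⟶ Y)
    (hf : AlgSp.LocP @LocallyOfFiniteType f.hom) (x : AlgSp.Points X.obj) (d e : WithBot ℕ∞) (r : Cardinal.{u})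
    (hd : AlgSp.HasAtMor (fun _ _ h u => FlatMor.fibreDimAt h u = d) f.hom x)
    (he : AlgSp.HasAtMor (fun _ _ h u => ringKrullDim ↥((h.fiber (h u)).presheaf.stalk (h.asFiber u)) = e) f.hom x)
    (hr : AlgSp.HasAtMor (fun _ _ h u => Dual3.resTrdeg h u = r) f.hom x) :
    d = e + ((Cardinal.toENat r : ℕ∞) : WithBot ℕ∞) := by
  open Groth.Agent.HensPair in
  obtain ⟨U, V, a, b, k, u, ha, hb, comm, hx, hd⟩ := hd
  obtain ⟨U₁, V₁, a₁, b₁, k₁, u₁, ha₁, hb₁, comm₁, hx₁, he⟩ := he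
  obtain ⟨U₂, V₂, a₂, b₂, k₂, u₂, ha₂, hb₂, comm₂, hx₂, hr⟩ := hr
  haveI : LocallyOfFiniteType k.left := hf a b k ha hb comm
  haveI : LocallyOfFiniteType k₁.left := hf a₁ b₁ k₁ ha₁ hb₁ comm₁
  haveI : LocallyOfFiniteType k₂.left := hf a₂ b₂ k₂ ha₂ hb₂ comm₂
  rw [← hd, ← he, ← hr, RelDimSp.resTrdeg_eq,
    AlgSpTopo.fibreDimAt_chart_indep ha hb comm ha₁ hb₁ comm₁ u u₁ (hx₁.trans hx.symm),
    ← RelDimSp.T_chart_indep ha₁ hb₁ comm₁ ha₂ hb₂ comm₂ u₁ u₂ (hx₂.trans hx₁.symm)]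
  obtain ⟨i, hi, hdim⟩ := FibreTrdeg.main k₁.left u₁
  rw [hdim, ringKrullDim_stalk_eq_coheight, hi]
  push_cast
  rfl

end Groth.Agent.S10320
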