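import Groth.Statements.S10322
import Groth.Agent.AlgSpTopo.LocInst
import Mathlib.RingTheory.Unramified.LocalStructure

set_option autoImplicit false
universe u
open CategoryTheory CategoryTheory.Limits AlgebraicGeometry
open AlgSp

namespace Groth.Agent.S10322

/-- Unramified at a point implies quasi-finite at that point; an unramified morphism of algebraic spaces
is locally quasi-finite. -/
theorem result {S : Scheme.{u}} {X Y : AlgSp.Space S} (f : X ⟶ Y) :
    (∀ x : AlgSp.Points X.obj, AlgSp.HasAtMor (fun U _ h u => ∃ W : U.Opens, u ∈ W ∧ LocallyOfFiniteType (W.ι ≫ h) ∧ FormallyUnramified (W.ι ≫ h)) f.hom x → AlgSp.HasAtMor (fun U _ h u => ∃ W : U.Opens, u ∈ W ∧ LocallyQuasiFinite (W.ι ≫ h) ∧ LocallyOfFiniteType (W.ι ≫ h)) f.hom x) ∧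
    (AlgSp.LocP (@LocallyOfFiniteType ⊓ @FormallyUnramified) f.hom →
      AlgSp.LocP (@LocallyQuasiFinite ⊓ @LocallyOfFiniteType) f.hom) := by
  open AlgSp AlgSpTopo in
  have key : ∀ {A B : Scheme.{u}} (g : A ⟶ B) [LocallyOfFiniteType g] [FormallyUnramified g], LocallyQuasiFinite g := by
    intro A B g _ _
    refine (HasRingHomProperty.iff_appLE (P := @LocallyQuasiFinite)).mpr fun U V e => ?_
    have h1 := (HasRingHomProperty.iff_appLE (P := @FormallyUnramified) (f := g)).mp ‹_› U V e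
    have h2 := (HasRingHomProperty.iff_appLE (P := @LocallyOfFiniteType) (f := g)).mp ‹_› U V e
    algebraize [(g.appLE U.1 V.1 e).hom]
    exact inferInstanceAs (Algebra.QuasiFinite _ _)
  refine ⟨fun x ⟨U, V, a, b, k, u, ha, hb, comm, hx, W, hW, h1, h2⟩ =>
    ⟨U, V, a, b, k, u, ha, hb, comm, hx, W, hW, key (W.ι ≫ k.left), h1⟩, fun h U V a b k ha hb comm => ?_⟩
  obtain ⟨h1, h2⟩ := h a b k ha hb comm
  haveI := h1
  haveI := h2
  exact ⟨key k.left, h1⟩

end Groth.Agent.S10322
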