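import Groth.Statements.S10323
import Groth.Agent.HensPair.RelDimStalk
import Groth.Agent.HensPair.AltitudeScheme

set_option autoImplicit false
universe u
open CategoryTheory CategoryTheory.Limits AlgebraicGeometry
open AlgSp

namespace Groth.Agent.S10323

/-- For Y locally Noetherian and f locally of finite type, the dimension of the local ring of X at x is
at most the dimension of the local ring of Y at the image point plus E minus the transcendence
degree of x over its image, where E bounds the transcendence degrees of the codimension-0 points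
specializing to x. -/
theorem result {S : Scheme.{u}} {X Y : AlgSp.Space S} (f : X ⟶ Y)
    (hY : AlgSp.IsLocNoethSp Y.obj) (hf : AlgSp.LocP @LocallyOfFiniteType f.hom) (x : AlgSp.Points X.obj)
    (E : Cardinal.{u})
    (hE : ∀ ξ : AlgSp.Points X.obj, ξ ⤳ x → AlgSp.HasAt (fun U u => ringKrullDim ↥(U.presheaf.stalk u) = 0) X.obj ξ →
      ∀ s : Cardinal.{u}, AlgSp.HasAtMor (fun _ _ h u => Dual3.resTrdeg h u = s) f.hom ξ → s ≤ E)
    (a b : WithBot ℕ∞) (r : Cardinal.{u})
    (ha : AlgSp.HasAt (fun U u => ringKrullDim ↥(U.presheaf.stalk u) = a) X.obj x)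
    (hb : AlgSp.HasAt (fun U u => ringKrullDim ↥(U.presheaf.stalk u) = b) Y.obj (AlgSp.Points.map f.hom x))
    (hr : AlgSp.HasAtMor (fun _ _ h u => Dual3.resTrdeg h u = r) f.hom x) :
    a + ((Cardinal.toENat r : ℕ∞) : WithBot ℕ∞) ≤ b + ((Cardinal.toENat E : ℕ∞) : WithBot ℕ∞) := by
  open AlgSp AlgSpTopo Groth.Agent.HensPair in
  obtain ⟨U, V, k', b', k, hk1, has, hb', -, comm⟩ := RelDimSp.exists_chart X.property Y.property f.hom
  haveI := RelDimSp.isLocallyNoetherian_chart hY hb'
  haveI : LocallyOfFiniteType k.left := hf k' b' k hk1 hb' comm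
  have hX : IsLocNoethSp X.obj := ⟨U, k', hk1, has, LocallyOfFiniteType.isLocallyNoetherian k.left⟩
  obtain ⟨y, rfl⟩ := surjective_of_repWith has x
  obtain ⟨u, rfl⟩ := ofScheme_surjective U y
  rw [← Points.ofPt_eq_map_ofScheme] at ha hb hr hE
  rw [RelDimStalk.hasAt_iff hX hk1] at ha
  rw [Points.map_ofPt, comm, ofPt_comp, RelDimStalk.hasAt_iff hY hb'] at hb
  rw [RelDimTr.hasAtMor_iff hf hk1 hb' comm] at hr
  subst hr
  rcases lt_or_ge E Cardinal.aleph0 with hfin | hinf
  · obtain ⟨e, rfl⟩ := Cardinal.lt_aleph0.mp hfin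
    have h := AltitudeScheme.dimension_inequality k.left u _ e (FibreTrdeg.T_spec k.left u) fun ξ hc hξ => by
      have h1 := hE (Points.ofPt k' ξ) (hξ.map (Points.continuous_ofPt k'))
        ⟨U, k', ξ, hk1, rfl, (RelDimStalk.dim_stalk_eq_zero_iff ξ).mpr hc⟩ _
        ((RelDimTr.hasAtMor_iff hf hk1 hb' comm _ ξ).mpr rfl)
      exact (FibreTrdeg.T_spec k.left ξ).le.trans h1
    rw [← ha, ← hb, map_natCast, map_natCast]
    exact h
  · rw [Cardinal.toENat_eq_top.mpr hinf, ← hb]
    obtain ⟨n, hn⟩ := EquidimCore.natCast_of_bounds (ringKrullDim (V.left.presheaf.stalk (k.left u))) ringKrullDim_ne_bot ringKrullDim_ne_top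
    rw [hn]
    exact le_of_le_of_eq le_top (show (⊤ : WithBot ℕ∞) = ((((n : ℕ∞) + ⊤ : ℕ∞)) : WithBot ℕ∞) by rw [add_top]; rfl)

end Groth.Agent.S10323
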