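import Groth.Statements.S10324
import Groth.Agent.HensPair.RelDimStalk
import Groth.Agent.HensPair.AltitudeScheme

set_option autoImplicit false
universe u
open CategoryTheory CategoryTheory.Limits AlgebraicGeometry
open AlgSp

namespace Groth.Agent.S10324

/-- For Y locally Noetherian and f : X -> Y locally of finite type, dim X ≤ dim Y + E where E bounds the
transcendence degrees over Y of the codimension-0 points of X. -/
theorem result {S : Scheme.{u}} {X Y : AlgSp.Space S} (f : X ⟶ Y)
    (hY : AlgSp.IsLocNoethSp Y.obj) (hf : AlgSp.LocP @LocallyOfFiniteType f.hom) (E : Cardinal.{u})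
    (hE : ∀ ξ : AlgSp.Points X.obj, AlgSp.HasAt (fun U u => ringKrullDim ↥(U.presheaf.stalk u) = 0) X.obj ξ → ∀ s : Cardinal.{u}, AlgSp.HasAtMor (fun _ _ h u => Dual3.resTrdeg h u = s) f.hom ξ → s ≤ E) :
    AlgSp.dim X.obj ≤ AlgSp.dim Y.obj + ((Cardinal.toENat E : ℕ∞) : WithBot ℕ∞) := by
  open AlgSp AlgSpTopo Groth.Agent.HensPair in
  refine iSup_le fun U => iSup_le fun k' => iSup_le fun hk1 => ?_
  obtain ⟨V, b', hb', hbs⟩ := Y.property.atlas
  haveI := RelDimSp.isLocallyNoetherian_chart hY hb'
  obtain ⟨W', w', e', sq', he'⟩ := exists_square (MorphismProperty.of_isPullback (P := RepWith @Etale)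
    (IsPullback.of_hasPullback f.hom b').flip hb') k'
  obtain ⟨k, hk⟩ := (yon S).map_surjective (w' ≫ pullback.snd f.hom b')
  haveI : Etale e'.left := he'
  have ha : RepWith @Etale ((yon S).map e' ≫ k') :=
    MorphismProperty.comp_mem _ _ _ ((repWith_yon_map_iff _ _).2 he') hk1
  have comm : ((yon S).map e' ≫ k') ≫ f.hom = (yon S).map k ≫ b' := by
    rw [hk, ← sq'.w, Category.assoc, Category.assoc, (IsPullback.of_hasPullback f.hom b').w]
  haveI : LocallyOfFiniteType k.left := hf _ b' k ha hb' comm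
  have hsur : Surjective e'.left := (MorphismProperty.of_isPullback (P := RepWith @Surjective)
    (IsPullback.of_hasPullback f.hom b').flip hbs).property _ _ _ sq'
  rcases lt_or_ge E Cardinal.aleph0 with hfin | hinf
  · obtain ⟨n, rfl⟩ := Cardinal.lt_aleph0.mp hfin
    have h := AltitudeScheme.dim_le k.left n fun ξ hc => by
      have h1 := hE (Points.ofPt ((yon S).map e' ≫ k') ξ) ⟨W', _, ξ, ha, rfl, (RelDimStalk.dim_stalk_eq_zero_iff ξ).mpr hc⟩ _
        ((RelDimTr.hasAtMor_iff hf ha hb' comm _ ξ).mpr rfl)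
      exact (FibreTrdeg.T_spec k.left ξ).le.trans h1
    refine le_trans ?_ (h.trans (add_le_add ?_ ?_))
    · exact AlgSpTopo.ThickScheme.krullDim_le_of_generalizing e'.left e'.left.continuous hsur.surj (Flat.generalizingMap e'.left)
    · exact le_iSup_of_le V (le_iSup_of_le b' (le_iSup_of_le hb' le_rfl))
    · rw [map_natCast]; rfl
  · rw [Cardinal.toENat_eq_top.mpr hinf]
    rcases isEmpty_or_nonempty V.left with hV | hV
    · haveI : IsEmpty W'.left := Function.isEmpty k.left
      haveI : IsEmpty U.left := ⟨fun p => isEmptyElim (hsur.surj p).choose⟩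
      rw [topologicalKrullDim, Order.krullDim_eq_bot_iff.mpr ⟨fun c => by obtain ⟨p, -⟩ := c.2.1; exact isEmptyElim p⟩]
      exact bot_le
    · haveI : Nonempty (TopologicalSpace.IrreducibleCloseds ↥V.left) := ⟨⟨closure {Classical.arbitrary _}, isIrreducible_singleton.closure, isClosed_closure⟩⟩
      have h0 : (0 : WithBot ℕ∞) ≤ AlgSp.dim Y.obj :=
        (Order.krullDim_nonneg (α := TopologicalSpace.IrreducibleCloseds ↥V.left)).trans (le_iSup_of_le V (le_iSup_of_le b' (le_iSup_of_le hb' le_rfl)))
      exact le_top.trans (le_of_eq_of_le (zero_add _).symm (add_le_add h0 le_rfl))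

end Groth.Agent.S10324
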