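import Groth.Statements.S10326
import Groth.Agent.HensPair.RelDimSp

set_option autoImplicit false
universe u
open CategoryTheory CategoryTheory.Limits AlgebraicGeometry
open AlgSp

namespace Groth.Agent.S10326

/-- Every scheme etale over a locally Noetherian algebraic space has quasi-compact opens with finitely
many irreducible components. -/
theorem result {S : Scheme.{u}} (X : AlgSp.Space S)
    (hX : AlgSp.IsLocNoethSp X.obj) (U : Over S) (a : (AlgSp.yon S).obj U ⟶ X.obj) (ha : AlgSp.RepWith @Etale a)
    (W : U.left.Opens) (hW : IsCompact (W : Set ↥U.left)) : (irreducibleComponents ↥W).Finite := by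
  haveI := Groth.Agent.HensPair.RelDimSp.isLocallyNoetherian_chart hX ha
  haveI : CompactSpace ↥(W : Scheme.{u}) := isCompact_iff_compactSpace.mp hW
  haveI : AlgebraicGeometry.IsNoetherian (W : Scheme.{u}) := {}
  exact TopologicalSpace.NoetherianSpace.finite_irreducibleComponents (α := ↥(W : Scheme.{u}))

end Groth.Agent.S10326
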