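import Groth.Statements.S10328
import Groth.Agent.HensPair.RelDimTr
import Groth.Agent.HensPair.FibDimComp

set_option autoImplicit false
universe u
open CategoryTheory CategoryTheory.Limits AlgebraicGeometry
open AlgSp

namespace Groth.Agent.S10328

/-- The relative dimension of a composite at a point is at most the sum of the relative dimensions, with
equality when the first morphism is flat at the point. (The published part (2) allows more generally
flatness of a fibre of X -> Y over a field point of Z; only the case f flat at x is stated.) -/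
theorem result {S : Scheme.{u}} {X Y Z : AlgSp.Space S} (f : X ⟶ Y) (g : Y ⟶ Z)
    (hf : AlgSp.LocP @LocallyOfFiniteType f.hom) (hg : AlgSp.LocP @LocallyOfFiniteType g.hom)
    (x : AlgSp.Points X.obj) (a b : WithBot ℕ∞)
    (ha : AlgSp.HasAtMor (fun _ _ h u => FlatMor.fibreDimAt h u = a) f.hom x)
    (hb : AlgSp.HasAtMor (fun _ _ h u => FlatMor.fibreDimAt h u = b) g.hom (AlgSp.Points.map f.hom x)) :
    AlgSp.HasAtMor (fun _ _ h u => FlatMor.fibreDimAt h u ≤ a + b) (f ≫ g).hom x ∧
    (AlgSp.IsFlatAtMor f.hom x → AlgSp.HasAtMor (fun _ _ h u => FlatMor.fibreDimAt h u = a + b) (f ≫ g).hom x) := by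
  open AlgSp AlgSpTopo Groth.Agent.HensPair in
  obtain ⟨U, V, W, a', b', c, k, l, ha', has, hb', hc, comm1, comm2, comm⟩ :=
    RelDimTr.exists_charts X.property Y.property Z.property f.hom g.hom
  haveI : LocallyOfFiniteType k.left := hf a' b' k ha' hb' comm1
  haveI : LocallyOfFiniteType l.left := hg b' c l hb' hc comm2
  obtain ⟨y, rfl⟩ := surjective_of_repWith has x
  obtain ⟨u, rfl⟩ := ofScheme_surjective U y
  rw [← Points.ofPt_eq_map_ofScheme] at ha hb ⊢
  rw [Points.map_ofPt, comm1, ofPt_comp, RelDimSp.hasAtMor_iff hb' hc comm2 (fun n => n = b)] at hb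
  rw [RelDimSp.hasAtMor_iff ha' hb' comm1 (fun n => n = a)] at ha
  have h := FibDimComp.comp k.left l.left u
  rw [ha, hb] at h
  exact ⟨⟨U, W, a', c, k ≫ l, u, ha', hc, comm, rfl, h.1⟩,
    fun hflat => ⟨U, W, a', c, k ≫ l, u, ha', hc, comm, rfl, h.2 (hflat a' b' k u ha' hb' comm1 rfl)⟩⟩

end Groth.Agent.S10328
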