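import Groth.Statements.S10329
import Groth.Agent.HensPair.RelDimSp
import Groth.Agent.AlgSpTopo.OpenSub
import Groth.Agent.S10310
import Groth.Agent.S10311
import Groth.Agent.Equidim.Upper

set_option autoImplicit false
universe u
open CategoryTheory CategoryTheory.Limits AlgebraicGeometry
open AlgSp

namespace Groth.Agent.S10329

/-- If the fibre of a morphism locally of finite type has dimension 0 at a point, then the morphism is
locally quasi-finite on some open subspace containing the image of that point. -/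
theorem result {S : Scheme.{u}} {X Y F : AlgSp.Space S} (f : X ⟶ Y)
    (hf : AlgSp.LocP @LocallyOfFiniteType f.hom) (k : Type u) [Field k] (str : Spec (.of k) ⟶ S)
    (y : (AlgSp.yon S).obj (Over.mk str) ⟶ Y.obj) (p : F ⟶ X) (q : F.obj ⟶ (AlgSp.yon S).obj (Over.mk str))
    (sq : IsPullback p.hom q f.hom y) (z : AlgSp.Points F.obj)
    (hz : AlgSp.HasAt (fun U u => FlatMor.localDim ↥U u = 0) F.obj z) :
    ∃ (X' : AlgSp.Space S) (j : X' ⟶ X), AlgSp.RepWith @IsOpenImmersion j.hom ∧
      AlgSp.Points.map p.hom z ∈ Set.range (AlgSp.Points.map j.hom) ∧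
      AlgSp.LocP (@LocallyQuasiFinite ⊓ @LocallyOfFiniteType) (j ≫ f).hom := by
  open AlgSp AlgSpTopo Groth.Agent.HensPair in
  let K : AlgSp.Space S := ⟨(yon S).obj (Over.mk str), IsAlgSpace.yon_obj _⟩
  let q' : F ⟶ K := ObjectProperty.homMk q
  let y' : K ⟶ Y := ObjectProperty.homMk y
  obtain ⟨U, V, a, b, k, ha, has, hb, hbs, comm⟩ := RelDimSp.exists_chart X.property Y.property f.hom
  haveI : LocallyOfFiniteType k.left := hf a b k ha hb comm
  obtain ⟨w, hw⟩ := surjective_of_repWith has (Points.map p.hom z)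
  obtain ⟨u, rfl⟩ := ofScheme_surjective U w
  rw [← Points.ofPt_eq_map_ofScheme] at hw
  -- the dimension on the fibre
  have hid : RepWith @Etale (𝟙 ((yon S).obj (Over.mk str))) := repWith_id _ _
  have hids : RepWith @Surjective (𝟙 ((yon S).obj (Over.mk str))) := repWith_id _ _
  obtain ⟨U₁, T, m, e, a₁, -, -, ha₁, has₁, comm₁⟩ :=
    exists_atlas_chart F.property (IsAlgSpace.yon_obj _) q (locP_top q) hid hids
  have hq : LocP @LocallyOfFiniteType q := locP_bc etaleLocal_locallyOfFiniteType X.property Y.property K.property sq hf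
  haveI : LocallyOfFiniteType (m ≫ e).left := hq a₁ (𝟙 _) (m ≫ e) ha₁ hid comm₁
  obtain ⟨w₁, hw₁⟩ := surjective_of_repWith has₁ z
  obtain ⟨u₁, rfl⟩ := ofScheme_surjective U₁ w₁
  rw [← Points.ofPt_eq_map_ofScheme] at hw₁
  haveI : Subsingleton ↥(Over.mk str).left := inferInstanceAs (Subsingleton ↥(Spec (CommRingCat.of _)))
  haveI : IsLocallyNoetherian (Over.mk str).left := inferInstanceAs (IsLocallyNoetherian (Spec (CommRingCat.of _)))
  haveI : IsLocallyNoetherian U₁.left := LocallyOfFiniteType.isLocallyNoetherian (m ≫ e).left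
  have hFN : IsLocNoethSp F.obj := ⟨U₁, a₁, ha₁, has₁, inferInstance⟩
  rw [← hw₁, RelDimSp.hasAt_localDim_iff hFN ha₁] at hz
  have h0 : FlatMor.fibreDimAt k.left u = 0 := by
    obtain ⟨U₂, V₂, a₂, b₂, k₂, u₂, ha₂, hb₂, comm₂, hx₂, h₂⟩ := Groth.Agent.S10311.result f y' p q' sq hf z
      (FlatMor.fibreDimAt k.left u) (by rw [← hw]; exact (RelDimSp.hasAtMor_iff ha hb comm (fun n => n = _) u).mpr rfl)
    rw [← h₂, ← fibreDimAt_chart_indep ha₁ hid comm₁ ha₂ hb₂ comm₂ u₁ u₂ (hx₂.trans hw₁.symm),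
      FieldTrdeg.fibreDimAt_eq_localDim]
    exact hz
  -- the open subspace
  let O : Set U.left := {v | FlatMor.fibreDimAt k.left v ≤ 0}
  let W : Set (Points X.obj) := Points.map a '' (Points.schemeHomeo U '' O)
  have hW : IsOpen W := isOpenMap_of_repWith_etale ha _
    ((Points.schemeHomeo U).isOpenMap _ (Groth.Agent.Equidim.isOpen_fibreDimAt_le k.left 0))
  let X' : AlgSp.Space S := ⟨openSub X.obj W, isAlgSpace_openSub X.property hW⟩
  let j : X' ⟶ X := ObjectProperty.homMk (openSubι X.obj W)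
  have hj : RepWith @IsOpenImmersion j.hom := repWith_openSubι hW
  refine ⟨X', j, hj, ?_, ?_⟩
  · rw [show Set.range (Points.map j.hom) = W from range_openSubι W, ← hw, Points.ofPt_eq_map_ofScheme]
    exact ⟨_, ⟨u, h0.le, rfl⟩, rfl⟩
  obtain ⟨E, c, i, sqj, hi⟩ := exists_square hj a
  haveI : IsOpenImmersion i.left := hi
  have hc : RepWith @Etale c := MorphismProperty.of_isPullback (P := RepWith @Etale) sqj.flip ha
  have hcs : RepWith @Surjective c := MorphismProperty.of_isPullback (P := RepWith @Surjective) sqj.flip has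
  have commc : c ≫ (j ≫ f).hom = (yon S).map (i ≫ k) ≫ b := by
    show c ≫ j.hom ≫ f.hom = _
    rw [← Category.assoc, sqj.w, Category.assoc, comm, ← Category.assoc, ← Functor.map_comp]
  haveI : LocallyOfFiniteType (i ≫ k).left := inferInstanceAs (LocallyOfFiniteType (i.left ≫ k.left))
  refine (Groth.Agent.S10310.result (j ≫ f)
    (one_chart etaleLocal_locallyOfFiniteType (j ≫ f).hom c b (i ≫ k) hc hcs hb commc inferInstance)).mpr fun x => ?_
  obtain ⟨w', rfl⟩ := surjective_of_repWith hcs x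
  obtain ⟨v, rfl⟩ := ofScheme_surjective E w'
  rw [← Points.ofPt_eq_map_ofScheme]
  refine ⟨E, V, c, b, i ≫ k, v, hc, hb, commc, rfl, ?_⟩
  have hle : FlatMor.fibreDimAt k.left (i.left v) ≤ 0 := by
    have hm : Points.ofPt a (i.left v) ∈ W := by
      rw [← ofPt_comp, ← sqj.w, ← range_openSubι W, ← Points.map_ofPt]
      exact ⟨_, rfl⟩
    obtain ⟨-, ⟨v', hv', rfl⟩, hx⟩ := hm
    have hx : Points.ofPt a v' = Points.ofPt a (i.left v) := (Points.ofPt_eq_map_ofScheme _ _).trans hx
    rwa [fibreDimAt_chart_indep ha hb comm ha hb comm (i.left v) v' hx]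
  refine le_antisymm ((CMFlat.Main.fibre_open i.left k.left v).2.le.trans hle) ?_
  refine le_trans ?_ (FibreTrdeg.T_le_fibreDimAt (i ≫ k).left v)
  exact_mod_cast Nat.zero_le _

end Groth.Agent.S10329
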