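import Groth.Statements.S1033
import Mathlib.Algebra.Homology.DerivedCategory.Ext.ExactSequences
import Mathlib.Algebra.Homology.DerivedCategory.Fractions

set_option autoImplicit false
universe w v u
open CategoryTheory CategoryTheory.Abelian
open CohDer

namespace Groth.Agent.S1033

open CategoryTheory.Limits in
/-- A positive degree morphism out of `B[0]` dies on some epimorphism `E ⟶ B`. -/
theorem exists_epi {A : Type u} [Category.{v} A] [Abelian A] [HasDerivedCategory A] {B C : A}
    (m : ℤ) (hm : 0 < m)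
    (φ : ShiftedHom ((DerivedCategory.singleFunctor A 0).obj B)
      ((DerivedCategory.singleFunctor A 0).obj C) m) :
    ∃ (E : A) (q : E ⟶ B), Epi q ∧ (DerivedCategory.singleFunctor A 0).map q ≫ φ = 0 := by
  let SB := (CochainComplex.singleFunctor A 0).obj B
  let SC := (CochainComplex.singleFunctor A 0).obj C
  obtain ⟨K, hK, s, hs, g, hφ⟩ := DerivedCategory.right_fac_of_isStrictlyLE
    (X := SB) (Y := SC⟦m⟧) (φ ≫ (DerivedCategory.Q.commShiftIso m).inv.app SC) 0
  have hd : ∀ j, (ComplexShape.up ℤ).Rel 0 j → 𝟙 (K.X 0) ≫ K.d 0 j = 0 := fun j hj =>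
    (K.isZero_of_isStrictlyLE 0 j (by obtain rfl : (0 : ℤ) + 1 = j := hj; omega)).eq_of_tgt _ _
  let t : (CochainComplex.singleFunctor A 0).obj (K.X 0) ⟶ K :=
    HomologicalComplex.mkHomFromSingle (𝟙 _) hd
  let q : K.X 0 ⟶ B := s.f 0 ≫ (HomologicalComplex.singleObjXSelf (ComplexShape.up ℤ) 0 B).hom
  have hts : t ≫ s = (CochainComplex.singleFunctor A 0).map q := by
    refine HomologicalComplex.from_single_hom_ext ?_
    rw [HomologicalComplex.comp_f, HomologicalComplex.mkHomFromSingle_f]
    erw [HomologicalComplex.single_map_f_self]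
    simp [q]
    exact congrArg _ ((congrArg (s.f 0 ≫ ·) (Iso.hom_inv_id _)).trans (Category.comp_id _)).symm
  have htg : t ≫ g = 0 := by
    refine HomologicalComplex.from_single_hom_ext ?_
    exact IsZero.eq_of_tgt (CochainComplex.isZero_of_isStrictlyLE SC 0 (0 + m) (by omega) |>.of_iso
      (Iso.refl _) : IsZero ((SC⟦m⟧).X 0)) _ _
  refine ⟨K.X 0, q, ?_, ?_⟩
  · rw [DerivedCategory.isIso_Q_map_iff_quasiIso] at hs
    haveI : IsIso (SB.homologyπ 0) := HomologicalComplex.isIso_homologyπ _ (-1) 0 (by simp)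
      (HomologicalComplex.single_obj_d _ _ _ _ _)
    haveI : IsIso (K.iCycles 0) := HomologicalComplex.isIso_iCycles _ 0 1 (by simp)
      ((K.isZero_of_isStrictlyLE 0 1 (by omega)).eq_of_tgt _ _)
    haveI : Epi (HomologicalComplex.cyclesMap s 0 ≫ SB.homologyπ 0) := by
      rw [← HomologicalComplex.homologyπ_naturality]
      infer_instance
    haveI : Epi (HomologicalComplex.cyclesMap s 0) := by
      have : Epi ((HomologicalComplex.cyclesMap s 0 ≫ SB.homologyπ 0) ≫ inv (SB.homologyπ 0)) :=
        epi_comp _ _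
      simpa using this
    haveI : IsIso (SB.iCycles 0) := HomologicalComplex.isIso_iCycles _ 0 1 (by simp)
      (HomologicalComplex.single_obj_d _ _ _ _ _)
    have : s.f 0 = inv (K.iCycles 0) ≫ HomologicalComplex.cyclesMap s 0 ≫ SB.iCycles 0 := by
      rw [IsIso.eq_inv_comp, HomologicalComplex.cyclesMap_i]
    haveI : Epi (s.f 0) := by rw [this]; infer_instance
    exact epi_comp _ _
  · have key : DerivedCategory.Q.map ((CochainComplex.singleFunctor A 0).map q) ≫
        (φ ≫ (DerivedCategory.Q.commShiftIso m).inv.app SC) = 0 := by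
      rw [hφ, ← hts, Functor.map_comp]
      erw [Category.assoc, IsIso.hom_inv_id_assoc, ← Functor.map_comp, htg, Functor.map_zero]
    exact (cancel_mono ((DerivedCategory.Q.commShiftIso m).inv.app SC)).1
      (((Category.assoc _ _ _).trans key).trans zero_comp.symm)

open CategoryTheory.Limits in
/-- Every class of positive degree is `δ ≫ y` for some short exact sequence. -/
theorem exists_factor {A : Type u} [Category.{v} A] [Abelian A] [HasExt.{w} A] {B C : A} {n : ℕ}
    (x : Abelian.Ext B C (n + 1)) :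
    ∃ (S : ShortComplex A) (hS : S.ShortExact) (e : S.X₃ = B) (y : Abelian.Ext S.X₁ C n),
      hS.extClass.comp y (Nat.add_comm 1 n) = e ▸ x := by
  letI := HasDerivedCategory.standard A
  obtain ⟨E, q, hq, h0⟩ := exists_epi ((n + 1 : ℕ) : ℤ) (by omega) x.hom
  let S := ShortComplex.mk (kernel.ι q) q (kernel.condition q)
  have hS : S.ShortExact :=
    { exact := ShortComplex.exact_of_f_is_kernel _ (kernelIsKernel q)
      mono_f := inferInstanceAs (Mono (kernel.ι q))
      epi_g := hq }
  have hx : (Abelian.Ext.mk₀ S.g).comp x (zero_add _) = 0 := by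
    ext
    rw [Abelian.Ext.comp_hom, Abelian.Ext.mk₀_hom, ShiftedHom.mk₀_comp, Abelian.Ext.zero_hom]
    exact h0
  obtain ⟨y, hy⟩ := Abelian.Ext.contravariant_sequence_exact₃ hS C x hx (Nat.add_comm 1 n)
  exact ⟨S, hS, rfl, y, hy⟩

/-- Let A be an abelian category (with Ext groups in some universe) and p ≥ 0. If Extᵖ(B, C) = 0 for all
objects B, C, then Extⁱ(B, C) = 0 for all i ≥ p and all B, C. -/
theorem result {A : Type u} [Category.{v} A] [Abelian A] [HasExt.{w} A] (p : ℕ)
    (h : ∀ (B C : A) (x : Ext B C p), x = 0) (i : ℕ) (hi : p ≤ i) (B C : A) (x : Ext B C i) : x = 0 := by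
  induction i generalizing B with
  | zero =>
    obtain rfl : p = 0 := by omega
    exact h B C x
  | succ n ih =>
    by_cases hp : p = n + 1
    · subst hp
      exact h B C x
    · obtain ⟨S, hS, e, y, hy⟩ := exists_factor x
      subst e
      rw [show x = hS.extClass.comp y (Nat.add_comm 1 n) from hy.symm, ih (by omega) _ y,
        Abelian.Ext.comp_zero]

end Groth.Agent.S1033
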