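import Groth.Statements.S1034
import Groth.Agent.SeqColim.ShortExact
import Mathlib.CategoryTheory.Limits.Preserves.Shapes.Products
import Mathlib.CategoryTheory.Functor.OfSequence
import Mathlib.CategoryTheory.Triangulated.HomologicalFunctor

set_option autoImplicit false
universe v v' u u'
open CategoryTheory CategoryTheory.Limits
open DerLim

namespace Groth.Agent.S1034

open CategoryTheory.Limits in
lemma seq {A : Type u'} [Category.{v'} A] [Abelian A] [HasColimitsOfShape ℕ A]
    [HasExactColimitsOfShape ℕ A] (Y : ℕ → A) (g : ∀ n, Y n ⟶ Y (n + 1)) [HasCoproduct Y]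
    (a : (∐ Y) ⟶ ∐ Y) (ha : ∀ n, Sigma.ι Y n ≫ a = Sigma.ι Y n - g n ≫ Sigma.ι Y (n + 1)) :
    Mono a ∧ ∃ π : (∐ Y) ⟶ colimit (Functor.ofSequence g), a ≫ π = 0 ∧
      ∀ n, Sigma.ι Y n ≫ π = colimit.ι (Functor.ofSequence g) n := by
  have hco : HasCoproduct (Functor.ofSequence g).obj := ‹HasCoproduct Y›
  obtain ⟨w, hw⟩ := Groth.Agent.SeqColim.ShortExact.shortExact (Functor.ofSequence g) a (fun n => by
    rw [Functor.ofSequence_map_homOfLE_succ]
    exact ha n)
  exact ⟨hw.mono_f, _, w, fun n => Sigma.ι_desc _ _⟩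

open CategoryTheory.Limits in
/-- for an additive functor preserving countable coproducts, `G(1 - shift)` is a monomorphism and the
colimit of the image system is its cokernel -/
lemma core {D : Type u} [Category.{v} D] [Preadditive D] [HasColimitsOfShape (Discrete ℕ) D]
    {A : Type u'} [Category.{v'} A] [Abelian A] [HasColimitsOfShape ℕ A] [HasExactColimitsOfShape ℕ A]
    (G : D ⥤ A) [G.Additive] [PreservesColimitsOfShape (Discrete ℕ) G]
    (K : ℕ → D) (f : ∀ n, K n ⟶ K (n + 1)) :
    Mono (G.map (𝟙 (∐ K) - DerLim.shiftMap K f)) ∧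
      ∃ π : G.obj (∐ K) ⟶ colimit (Functor.ofSequence (fun n => G.map (f n))),
        G.map (𝟙 (∐ K) - DerLim.shiftMap K f) ≫ π = 0 ∧
        ∀ n, G.map (Sigma.ι K n) ≫ π = colimit.ι (Functor.ofSequence (fun n => G.map (f n))) n := by
  have hY : HasCoproduct (fun n => G.obj (K n)) :=
    HasColimit.mk ⟨_, isColimitCofanMkObjOfIsColimit G K _ (coproductIsCoproduct K)⟩
  let c : G.obj (∐ K) ≅ ∐ fun n => G.obj (K n) := PreservesCoproduct.iso G K
  have hc : ∀ n, Sigma.ι (fun n => G.obj (K n)) n ≫ c.inv = G.map (Sigma.ι K n) := fun n => by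
    simp [c]
  let a := c.inv ≫ G.map (𝟙 (∐ K) - DerLim.shiftMap K f) ≫ c.hom
  have hc' : ∀ n, G.map (Sigma.ι K n) ≫ c.hom = Sigma.ι (fun n => G.obj (K n)) n := fun n => by
    rw [← hc, Category.assoc, Iso.inv_hom_id, Category.comp_id]
  have ha : ∀ n, Sigma.ι (fun n => G.obj (K n)) n ≫ a =
      Sigma.ι (fun n => G.obj (K n)) n - G.map (f n) ≫ Sigma.ι (fun n => G.obj (K n)) (n + 1) :=
    fun n => by
    simp only [a, reassoc_of% (hc n)]
    rw [← Functor.map_comp_assoc, Preadditive.comp_sub, Category.comp_id, DerLim.shiftMap,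
      Sigma.ι_desc, Functor.map_sub, Functor.map_comp, Preadditive.sub_comp, Category.assoc, hc',
      hc']
  obtain ⟨hm, π, hπ, hπι⟩ := seq _ (fun n => G.map (f n)) a ha
  refine ⟨?_, c.hom ≫ π, ?_, fun n => ?_⟩
  · haveI : Mono a := hm
    have h : G.map (𝟙 (∐ K) - DerLim.shiftMap K f) = c.hom ≫ a ≫ c.inv := by simp [a]
    rw [h]
    infer_instance
  · rw [← cancel_epi c.inv, comp_zero]
    simpa [a] using hπ
  · rw [reassoc_of% (hc' n), hπι]

open CategoryTheory.Pretriangulated in
/-- Let D be a pretriangulated category with countable direct sums, A an abelian category with exact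
colimits of shape ℕ, and H : D ⥤ A a homological functor that preserves countable direct sums. If L
(with maps iₙ : Kₙ ⟶ L) is a homotopy colimit of a system (Kₙ, fₙ), then H(L) is the colimit of the
H(Kₙ): there is an isomorphism colimₙ H(Kₙ) ≅ H(L) compatible with the maps H(iₙ). -/
theorem result {D : Type u} [Category.{v} D] [Preadditive D] [Limits.HasZeroObject D] [HasShift D ℤ]
    [∀ n : ℤ, (shiftFunctor D n).Additive] [Pretriangulated D] [IsTriangulated D] [HasColimitsOfShape (Discrete ℕ) D]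
    {A : Type u'} [Category.{v'} A] [Abelian A] [HasColimitsOfShape ℕ A] [HasExactColimitsOfShape ℕ A]
    (H : D ⥤ A) [H.IsHomological] [PreservesColimitsOfShape (Discrete ℕ) H]
    (K : ℕ → D) (f : ∀ n, K n ⟶ K (n + 1)) (L : D) (i : ∀ n, K n ⟶ L) (hL : DerLim.IsHocolim K f L i) :
    ∃ e : colimit (Functor.ofSequence (fun n => H.map (f n))) ≅ H.obj L,
      ∀ n : ℕ, colimit.ι (Functor.ofSequence (fun n => H.map (f n))) n ≫ e.hom = H.map (i n) := by
  obtain ⟨c, hT⟩ := hL
  obtain ⟨-, π, hπ, hπι⟩ := core H K f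
  obtain ⟨hmono, -⟩ := core (shiftFunctor D (1 : ℤ) ⋙ H) K f
  haveI hmono' : Mono (H.map ((𝟙 (∐ K) - DerLim.shiftMap K f)⟦(1 : ℤ)⟧')) := hmono
  have hc : H.map c = 0 := by
    rw [← cancel_mono (H.map ((𝟙 (∐ K) - DerLim.shiftMap K f)⟦(1 : ℤ)⟧')),
      ← H.map_comp, Limits.zero_comp,
      show c ≫ (𝟙 (∐ K) - DerLim.shiftMap K f)⟦(1 : ℤ)⟧' = 0 from
        comp_distTriang_mor_zero₃₁ _ hT, Functor.map_zero]
  have hepi : Epi (H.map (Limits.Sigma.desc i)) :=
    (H.map_distinguished_exact _ (rot_of_distTriang _ hT)).epi_f hc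
  have hex := H.map_distinguished_exact _ hT
  let fwd : colimit (Functor.ofSequence (fun n => H.map (f n))) ⟶ H.obj L :=
    Limits.colimit.desc _
      { pt := H.obj L
        ι := NatTrans.ofSequence (fun n => H.map (i n)) fun n => by
          have h : Limits.Sigma.ι K n ≫ (𝟙 (∐ K) - DerLim.shiftMap K f) ≫ Limits.Sigma.desc i = 0 := by
            rw [show (𝟙 (∐ K) - DerLim.shiftMap K f) ≫ Limits.Sigma.desc i = 0 from
              comp_distTriang_mor_zero₁₂ _ hT, Limits.comp_zero]
          have h' : i n - f n ≫ i (n + 1) = 0 := by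
            simpa [DerLim.shiftMap, Preadditive.sub_comp] using h
          rw [Functor.ofSequence_map_homOfLE_succ]
          exact ((congrArg H.map (sub_eq_zero.1 h')).trans (H.map_comp _ _)).symm.trans
            (Category.comp_id _).symm }
  have hfwd : ∀ n, Limits.colimit.ι _ n ≫ fwd = H.map (i n) := fun n => Limits.colimit.ι_desc _ n
  haveI : Epi ((shortComplexOfDistTriangle _ hT).map H).g := hepi
  let bwd : H.obj L ⟶ colimit (Functor.ofSequence (fun n => H.map (f n))) := hex.desc π hπ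
  have hbwd : H.map (Limits.Sigma.desc i) ≫ bwd = π := hex.g_desc π hπ
  have hι : ∀ n, H.map (i n) ≫ bwd = Limits.colimit.ι (Functor.ofSequence (fun n => H.map (f n))) n := by
    intro n
    rw [← hπι, ← hbwd, ← Functor.map_comp_assoc, Limits.Sigma.ι_desc]
  refine ⟨⟨fwd, bwd, ?_, ?_⟩, hfwd⟩
  · refine Limits.colimit.hom_ext fun n => ?_
    exact ((Category.assoc _ _ _).symm.trans ((congrArg (fun t => t ≫ bwd) (hfwd n)).trans
      (hι n))).trans (Category.comp_id _).symm
  · rw [← cancel_epi (H.map (Limits.Sigma.desc i)), reassoc_of% hbwd, Category.comp_id]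
    refine Limits.Cofan.IsColimit.hom_ext
      (Limits.isColimitCofanMkObjOfIsColimit H K _ (Limits.coproductIsCoproduct K)) _ _ fun n => ?_
    change H.map (Limits.Sigma.ι K n) ≫ π ≫ fwd = H.map (Limits.Sigma.ι K n) ≫ H.map (Limits.Sigma.desc i)
    exact ((Category.assoc _ _ _).symm.trans ((congrArg (fun t => t ≫ fwd) (hπι n)).trans
      (hfwd n))).trans ((congrArg H.map (Limits.Sigma.ι_desc i n)).symm.trans (H.map_comp _ _))

end Groth.Agent.S1034
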