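import Groth.Statements.S10347
import Groth.Agent.HensPair.RelDimCodim

set_option autoImplicit false
universe u
open CategoryTheory CategoryTheory.Limits AlgebraicGeometry Topology TopologicalSpace
open AlgSp

namespace Groth.Agent.S10347

/-- For a locally quasi-finite morphism f : X ⟶ Y of algebraic spaces over a scheme S (locally
quasi-finite and locally of finite type, etale locally on source and target), dim X ≤ dim Y. -/
theorem result {S : Scheme.{u}} {X Y : AlgSp.Space S} (f : X ⟶ Y)
    (hf : AlgSp.LocP (@LocallyQuasiFinite ⊓ @LocallyOfFiniteType) f.hom) :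
    AlgSp.dim X.obj ≤ AlgSp.dim Y.obj := by
  open AlgSp AlgSpTopo Groth.Agent.HensPair in
  refine iSup_le fun U => iSup_le fun a => iSup_le fun ha => ?_
  obtain ⟨V, b, hb, hbs⟩ := Y.property.atlas
  have H := IsPullback.of_hasPullback f.hom b
  obtain ⟨W, w, e, sq, he⟩ := exists_square (MorphismProperty.of_isPullback (P := RepWith @Etale) H.flip hb) a
  obtain ⟨k, hk⟩ := (yon S).map_surjective (w ≫ pullback.snd f.hom b)
  haveI : Etale e.left := he
  have ha' : RepWith @Etale ((yon S).map e ≫ a) := MorphismProperty.comp_mem _ _ _ ((repWith_yon_map_iff _ _).2 he) ha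
  have comm : ((yon S).map e ≫ a) ≫ f.hom = (yon S).map k ≫ b := by
    rw [hk, ← sq.w, Category.assoc, Category.assoc, H.w]
  haveI : LocallyQuasiFinite k.left := (hf _ b k ha' hb comm).1
  have hsur : Surjective e.left := (MorphismProperty.of_isPullback (P := RepWith @Surjective) H.flip hbs).property _ _ _ sq
  refine (ThickScheme.krullDim_le_of_generalizing e.left e.left.continuous hsur.surj (Flat.generalizingMap e.left)).trans ?_
  refine le_trans ?_ (le_iSup_of_le V (le_iSup_of_le b (le_iSup_of_le hb le_rfl)))
  exact ThickScheme.krullDim_le_of_discrete k.left k.left.continuous fun z z' h he' =>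
    ThickScheme.eq_of_specializes_of_discrete (k.left.isDiscrete_preimage_singleton (k.left z)) rfl he'.symm h

end Groth.Agent.S10347
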