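import Groth.Statements.S10413
import Groth.Agent.AlgSpTopo.SpProps

set_option autoImplicit false
set_option backward.isDefEq.respectTransparency false
universe u
open CategoryTheory CategoryTheory.Limits AlgebraicGeometry Topology TopologicalSpace
open AlgSp

namespace Groth.Agent.S10413

/-- Let S be a scheme, X and Y algebraic spaces over S, and X ⟶ Y a representable morphism. If every
point of Y can be represented by a monomorphism into Y from the spectrum of a field, then every
point of X can likewise be represented by such a monomorphism into X. -/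
theorem result {S : Scheme.{u}} {X Y : AlgSp.Space S} (f : X ⟶ Y) (hf : AlgSp.Representable f.hom)
    (hY : ∀ y : AlgSp.Points Y.obj, ∃ q : AlgSp.FieldPt Y.obj, AlgSp.Points.mk q = y ∧ Mono q.toHom)
    (x : AlgSp.Points X.obj) : ∃ p : AlgSp.FieldPt X.obj, AlgSp.Points.mk p = x ∧ Mono p.toHom := by
  obtain ⟨q, hq, hqm⟩ := hY (AlgSp.Points.map f.hom x)
  obtain ⟨W, t, φ, sq⟩ : ∃ (W : Over S) (t : (AlgSp.yon S).obj W ⟶ X.obj) (φ : W ⟶ q.pt),
      IsPullback t ((AlgSp.yon S).map φ) f.hom q.toHom := ⟨_, _, _, hf.isPullback q.toHom⟩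
  have : Mono t := sq.mono_fst_of_mono
  obtain ⟨w, hw1, -⟩ := AlgSpTopo.points_surj sq x (AlgSp.Points.ofScheme q.pt (IsLocalRing.closedPoint q.K))
    (by rw [← hq, AlgSpTopo.mk_val_toHom, AlgSp.FieldPt.uliftYonedaEquiv_toHom]; rfl)
  obtain ⟨r, rfl⟩ := AlgSpTopo.ofScheme_surjective W w
  let c : Over.mk (W.left.fromSpecResidueField r ≫ W.hom) ⟶ W := Over.homMk (W.left.fromSpecResidueField r) rfl
  have : Mono c := (Over.forget S).mono_of_mono_map (inferInstanceAs (Mono (W.left.fromSpecResidueField r)))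
  refine ⟨⟨W.left.residueField r, W.left.fromSpecResidueField r ≫ W.hom,
    (GrothendieckTopology.uliftYonedaEquiv.{u+1} (AlgSp.J S)) ((AlgSp.yon S).map c ≫ t)⟩, ?_, ?_⟩
  · rw [← hw1, ← AlgSp.Points.ofPt_eq_map_ofScheme]
    refine (AlgSpTopo.mk_val_toHom (W.left.fromSpecResidueField r ≫ W.hom) _).symm.trans ?_
    rw [← AlgSp.Points.ofPt_eq_map_ofScheme, AlgSpTopo.ofPt_comp]
    congr 1
    have : c.left (IsLocalRing.closedPoint _) ∈ Set.range (W.left.fromSpecResidueField r) := ⟨_, rfl⟩
    rwa [Scheme.range_fromSpecResidueField, Set.mem_singleton_iff] at this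
  · change Mono ((GrothendieckTopology.uliftYonedaEquiv.{u+1} (AlgSp.J S)).symm _)
    rw [Equiv.symm_apply_apply]
    infer_instance

end Groth.Agent.S10413
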