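import Groth.Statements.S10448
import Groth.Agent.HensPair.RelDimCodim
import Groth.Agent.Topo.IntegralDim

set_option autoImplicit false
universe u
open CategoryTheory CategoryTheory.Limits AlgebraicGeometry Topology TopologicalSpace
open AlgSp

namespace Groth.Agent.S10448

/-- For an integral morphism f : X ⟶ Y of algebraic spaces over a scheme S, the dimension of X is at
most the dimension of Y. -/
theorem result {S : Scheme.{u}} {X Y : AlgSp.Space S} (f : X ⟶ Y)
    (hf : AlgSp.IsIntegralMor f.hom) : AlgSp.dim X.obj ≤ AlgSp.dim Y.obj := by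
  open AlgSp AlgSpTopo Groth.Agent.HensPair in
  refine iSup_le fun U => iSup_le fun a => iSup_le fun ha => ?_
  rw [show topologicalKrullDim ↥U.left = Order.krullDim ↥U.left from Order.krullDim_eq_of_orderIso irreducibleSetEquivPoints]
  rcases isEmpty_or_nonempty ↥U.left with he | he
  · rw [Order.krullDim_eq_bot]; exact bot_le
  rw [Order.krullDim_eq_iSup_coheight_of_nonempty, WithBot.coe_iSup (OrderTop.bddAbove _)]
  refine iSup_le fun u => ?_
  rw [← ringKrullDim_stalk_eq_coheight]
  obtain ⟨V, b, hb, hbs⟩ := Y.property.atlas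
  obtain ⟨w, hw⟩ := surjective_of_repWith hbs (Points.map f.hom (Points.ofPt a u))
  obtain ⟨v, rfl⟩ := ofScheme_surjective V w
  obtain ⟨O, hO, hvO, -⟩ := exists_isAffineOpen_mem_and_subset (X := V.left) (U := ⊤) (x := v) trivial
  let Z : Over S := Over.mk (O.ι ≫ V.hom)
  let ι : Z ⟶ V := Over.homMk O.ι rfl
  haveI : Etale ι.left := inferInstanceAs (Etale O.ι)
  have hZ : RepWith @Etale ((yon S).map ι ≫ b) :=
    MorphismProperty.comp_mem _ _ _ ((repWith_yon_map_iff _ _).2 ‹Etale ι.left›) hb
  obtain ⟨W, i, fst, sq, -, hi⟩ := hf (show IsAffine Z.left from hO) ((yon S).map ι ≫ b)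
  haveI := hi
  have hW : RepWith @Etale fst := MorphismProperty.of_isPullback (P := RepWith @Etale) sq.flip hZ
  obtain ⟨p, hp, -⟩ := points_surj sq (Points.ofPt a u) (Points.ofScheme Z (⟨v, hvO⟩ : O)) (by
    rw [← hw, ← Points.ofPt_eq_map_ofScheme, ← Points.ofPt_eq_map_ofScheme, ofPt_comp]
    rfl)
  obtain ⟨q, rfl⟩ := ofScheme_surjective W p
  rw [← Points.ofPt_eq_map_ofScheme] at hp
  rw [RelDimCodim.chart_indep ha hW u q hp, ringKrullDim_stalk_eq_coheight]
  refine le_trans (WithBot.coe_le_coe.mpr (Order.coheight_le_coheight_apply_of_strictMono i.left (fun a b hab =>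
    lt_iff_le_not_ge.mpr ⟨(show b ⤳ a from hab.le).map i.left.continuous, fun h => hab.not_ge
      (Groth.Agent.Topo.IntegralDim.fib i.left b a hab.le ((show b ⤳ a from hab.le).map i.left.continuous |>.antisymm h).eq)⟩) q)) ?_
  refine (Order.coheight_le_krullDim _).trans ?_
  rw [← show topologicalKrullDim ↥Z.left = Order.krullDim ↥Z.left from Order.krullDim_eq_of_orderIso irreducibleSetEquivPoints]
  exact le_iSup_of_le Z (le_iSup_of_le _ (le_iSup_of_le hZ le_rfl))

end Groth.Agent.S10448
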