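import Groth.Statements.S10449
import Groth.Agent.HensPair.RelDimCodim
import Groth.Agent.Topo.IntegralDim

set_option autoImplicit false
universe u
open CategoryTheory CategoryTheory.Limits AlgebraicGeometry Topology TopologicalSpace
open AlgSp

namespace Groth.Agent.S10449

/-- For an integral surjective morphism f : X ⟶ Y of algebraic spaces over a scheme S, the dimension of
Y is at most the dimension of X (together with the inequality dim X ≤ dim Y, which holds for every
integral morphism, the two dimensions are equal). -/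
theorem result {S : Scheme.{u}} {X Y : AlgSp.Space S} (f : X ⟶ Y)
    (hf : AlgSp.IsIntegralMor f.hom) (hs : AlgSp.IsSurjectiveMor f.hom) :
    AlgSp.dim Y.obj ≤ AlgSp.dim X.obj := by
  open AlgSp AlgSpTopo Groth.Agent.HensPair in
  refine iSup_le fun V => iSup_le fun b => iSup_le fun hb => ?_
  rw [show topologicalKrullDim ↥V.left = Order.krullDim ↥V.left from Order.krullDim_eq_of_orderIso irreducibleSetEquivPoints]
  rcases isEmpty_or_nonempty ↥V.left with he | he
  · rw [Order.krullDim_eq_bot]; exact bot_le
  rw [Order.krullDim_eq_iSup_coheight_of_nonempty, WithBot.coe_iSup (OrderTop.bddAbove _)]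
  refine iSup_le fun v => ?_
  obtain ⟨O, hO, hvO, -⟩ := exists_isAffineOpen_mem_and_subset (X := V.left) (U := ⊤) (x := v) trivial
  let Z : Over S := Over.mk (O.ι ≫ V.hom)
  let ι : Z ⟶ V := Over.homMk O.ι rfl
  haveI : Etale ι.left := inferInstanceAs (Etale O.ι)
  have hZ : RepWith @Etale ((yon S).map ι ≫ b) :=
    MorphismProperty.comp_mem _ _ _ ((repWith_yon_map_iff _ _).2 ‹Etale ι.left›) hb
  obtain ⟨W, i, fst, sq, -, hi⟩ := hf (show IsAffine Z.left from hO) ((yon S).map ι ≫ b)
  haveI := hi
  have hW : RepWith @Etale fst := MorphismProperty.of_isPullback (P := RepWith @Etale) sq.flip hZ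
  have hsur : Function.Surjective i.left := fun z => by
    obtain ⟨x, hx⟩ := hs (Points.ofPt ((yon S).map ι ≫ b) z)
    obtain ⟨p, -, hp⟩ := points_surj sq x (Points.ofScheme Z z) (by rw [hx, Points.ofPt_eq_map_ofScheme])
    obtain ⟨q, rfl⟩ := ofScheme_surjective W p
    rw [map_ofScheme] at hp
    exact ⟨q, (Points.schemeEquiv Z).injective hp⟩
  have h1 : ((Order.coheight v : ℕ∞) : WithBot ℕ∞) ≤ topologicalKrullDim ↥Z.left := by
    rw [← ringKrullDim_stalk_eq_coheight, show topologicalKrullDim ↥Z.left = Order.krullDim ↥Z.left from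
      Order.krullDim_eq_of_orderIso irreducibleSetEquivPoints]
    have e := RelDimCodim.dim_etale ι.left (⟨v, hvO⟩ : O)
    refine le_trans (le_of_eq e.symm) ?_
    rw [ringKrullDim_stalk_eq_coheight]
    exact Order.coheight_le_krullDim _
  refine h1.trans ((Groth.Agent.Topo.IntegralDim.dim_ge i.left i.left.isClosedMap i.left.continuous hsur).trans ?_)
  exact le_iSup_of_le W (le_iSup_of_le fst (le_iSup_of_le hW le_rfl))

end Groth.Agent.S10449
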