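import Groth.Statements.S10498
import Groth.Agent.HensPoint.StrictProps
import Groth.Agent.HensPoint.WeaklyEtale

set_option autoImplicit false
universe u
open TensorProduct
open Hensel

namespace Groth.Agent.S10498

/-- (1) ⇔ (2): let k be a field, A a local k-algebra and R a strict henselization of A. Then A is
geometrically reduced over k (K ⊗_k A reduced for every field extension K of k) if and only if R is
geometrically reduced over k. -/
theorem result (k : Type u) [Field k]
    (A : Type u) [CommRing A] [IsLocalRing A] [Algebra k A]
    (R : Type u) [CommRing R] [IsLocalRing R] [Algebra A R] [IsLocalHom (algebraMap A R)]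
    [Hensel.IsStrictHenselization A R] [Algebra k R] [IsScalarTower k A R] :
    (∀ (K : Type u) [Field K] [Algebra k K], IsReduced (TensorProduct k K A)) ↔
      ∀ (K : Type u) [Field K] [Algebra k K], IsReduced (TensorProduct k K R) := by
  have hE := HensPoint.StrictProps.strict (R := A) (S := R)
  have : Algebra.WeaklyEtale A R := HensPoint.WeaklyEtale.weaklyEtale hE
  have := HensPoint.Strict.faithfullyFlat (R := A) (S := R)
  refine ⟨fun h K _ _ => ?_, fun h K _ _ => ?_⟩
  · let T := TensorProduct k A K
    have : IsReduced T := by
      have := h K
      exact isReduced_of_injective (Algebra.TensorProduct.comm k A K).toAlgHom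
        (Algebra.TensorProduct.comm k A K).injective
    have h1 : IsReduced (TensorProduct A T R) := FlatMor.AbsFlat.isReduced_of_weaklyEtale T _
    let e1 := (Algebra.TensorProduct.comm A T R).toRingEquiv
    let e2 := (Algebra.TensorProduct.cancelBaseChange k A A R K).toRingEquiv
    let e3 := (Algebra.TensorProduct.comm k R K).toRingEquiv
    exact isReduced_of_injective ((e1.trans e2).trans e3).symm.toRingHom
      ((e1.trans e2).trans e3).symm.injective
  · have := h K
    let φ : TensorProduct k K A →ₐ[k] TensorProduct k K R :=
      Algebra.TensorProduct.map (AlgHom.id k K) (IsScalarTower.toAlgHom k A R)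
    refine isReduced_of_injective φ ?_
    exact Module.Flat.lTensor_preserves_injective_linearMap
      (IsScalarTower.toAlgHom k A R).toLinearMap (FaithfulSMul.algebraMap_injective A R)

end Groth.Agent.S10498
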