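import Groth.Statements.S1050
import Groth.Agent.SerreSub.Basic

set_option autoImplicit false
universe w w' v u
open CategoryTheory CategoryTheory.Limits
open CohDer

namespace Groth.Agent.S1050

open DerivedCategory in
theorem exists_lift {A : Type u} [Category.{v} A] [Abelian A] (P : ObjectProperty A) [P.IsSerreClass]
    [P.IsClosedUnderKernels] [P.IsClosedUnderCokernels] [P.IsClosedUnderFiniteProducts]
    [PreservesFiniteLimits P.ι] [PreservesFiniteColimits P.ι]
    (hlift : ∀ (X Y : A) (π : X ⟶ Y), Epi π → P Y → ∃ (X' : A) (i : X' ⟶ X), Mono i ∧ P X' ∧ Epi (i ≫ π))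
    (C : CochainComplex A ℤ) (b : ℤ) [C.IsStrictlyLE b] (hH : ∀ n, P (C.homology n)) :
    ∃ (M : CochainComplex P.FullSubcategory ℤ)
      (α : (P.ι.mapHomologicalComplex (ComplexShape.up ℤ)).obj M ⟶ C),
      M.IsStrictlyLE b ∧ QuasiIso α := by
  obtain ⟨M, α, hM, hP, hα⟩ := Groth.Agent.SerreSub.exists_subcomplex P C hlift hH b
  let M' : CochainComplex P.FullSubcategory ℤ :=
    { X := fun n => ⟨M.X n, hP n⟩
      d := fun i j => ObjectProperty.homMk (M.d i j)
      shape := fun i j h => ObjectProperty.hom_ext _ (M.shape i j h)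
      d_comp_d' := fun i j k _ _ => ObjectProperty.hom_ext _ (M.d_comp_d i j k) }
  refine ⟨M', ⟨α.f, α.comm'⟩, (CochainComplex.isStrictlyLE_iff _ _).2 fun n hn => ?_, ?_⟩
  · rw [IsZero.iff_id_eq_zero]
    exact ObjectProperty.hom_ext _ ((M.isZero_of_isStrictlyLE b n hn).eq_of_src _ _)
  · exact hα

open DerivedCategory in
theorem homologyP {A : Type u} [Category.{v} A] [Abelian A] (P : ObjectProperty A)
    [P.IsSerreClass] [P.IsClosedUnderKernels] [P.IsClosedUnderCokernels]
    [P.IsClosedUnderFiniteProducts] [PreservesFiniteLimits P.ι] [PreservesFiniteColimits P.ι]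
    (M : CochainComplex P.FullSubcategory ℤ) (n : ℤ) :
    P (((P.ι.mapHomologicalComplex (ComplexShape.up ℤ)).obj M).homology n) :=
  P.prop_of_iso ((M.sc n).mapHomologyIso P.ι).symm (M.homology n).property

open DerivedCategory in
theorem surj {A : Type u} [Category.{v} A] [Abelian A] [HasDerivedCategory.{w} A]
    (P : ObjectProperty A) [P.IsSerreClass]
    [P.IsClosedUnderKernels] [P.IsClosedUnderCokernels] [P.IsClosedUnderFiniteProducts]
    [HasDerivedCategory.{w'} P.FullSubcategory]
    [PreservesFiniteLimits P.ι] [PreservesFiniteColimits P.ι]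
    (hlift : ∀ (X Y : A) (π : X ⟶ Y), Epi π → P Y → ∃ (X' : A) (i : X' ⟶ X), Mono i ∧ P X' ∧ Epi (i ≫ π))
    (M N : CochainComplex P.FullSubcategory ℤ) (b : ℤ) [M.IsStrictlyLE b] :
    Function.Bijective (fun φ : Q.obj M ⟶ Q.obj N => P.ι.mapDerivedCategory.map φ) := by
  let ιC : CochainComplex P.FullSubcategory ℤ ⥤ CochainComplex A ℤ :=
    P.ι.mapHomologicalComplex (ComplexShape.up ℤ)
  let D := P.ι.mapDerivedCategory
  let e := P.ι.mapDerivedCategoryFactors
  have hle : ∀ (K : CochainComplex P.FullSubcategory ℤ) [K.IsStrictlyLE b],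
      (ιC.obj K).IsStrictlyLE b := fun K _ =>
    (CochainComplex.isStrictlyLE_iff _ _).2 fun i hi =>
      P.ι.map_isZero (K.isZero_of_isStrictlyLE b i hi)
  haveI : ιC.Full := inferInstanceAs (P.ι.mapHomologicalComplex (ComplexShape.up ℤ)).Full
  constructor
  · intro φ ψ h
    have h0 : D.map (φ - ψ) = 0 := by rw [D.map_sub]; exact sub_eq_zero.2 h
    rw [← sub_eq_zero]
    generalize φ - ψ = θ at h0
    obtain ⟨K, hK, s, hs, f, rfl⟩ := right_fac_of_isStrictlyLE θ b
    haveI := hle K
    have h1 : Q.map (ιC.map f) = 0 := by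
      rw [D.map_comp, D.map_inv] at h0
      have h2 : D.map (Q.map f) = 0 :=
        (cancel_epi (CategoryTheory.inv (D.map (Q.map s)))).1 (h0.trans comp_zero.symm)
      have := (NatIso.naturality_2 e f).symm
      rw [← cancel_epi (e.hom.app K), comp_zero]
      exact (e.hom.naturality f).symm.trans
        ((congrArg (· ≫ e.hom.app N) h2).trans zero_comp)
    have h3 : Qh.map ((HomotopyCategory.quotient A (ComplexShape.up ℤ)).map (ιC.map f)) =
        Qh.map 0 := by
      rw [Functor.map_zero]
      exact (NatIso.naturality_2 (quotientCompQhIso A) (ιC.map f)).symm.trans (by rw [h1]; simp)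
    obtain ⟨C, t, ht, heq⟩ :=
      (MorphismProperty.map_eq_iff_precomp Qh (HomotopyCategory.quasiIso A (ComplexShape.up ℤ)) _ _).1 h3
    obtain ⟨(C : CochainComplex A ℤ), rfl⟩ := HomotopyCategory.quotient_obj_surjective C
    obtain ⟨t, rfl⟩ := (HomotopyCategory.quotient _ _).map_surjective t
    rw [comp_zero] at heq
    rw [HomotopyCategory.quotient_map_mem_quasiIso_iff, HomologicalComplex.mem_quasiIso_iff] at ht
    haveI := ht
    haveI : C.IsLE b := (CochainComplex.isLE_iff C b).2 fun i hi =>
      (HomologicalComplex.exactAt_iff_isZero_homology _ _).2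
        (((HomologicalComplex.exactAt_iff_isZero_homology _ _).1
          (HomologicalComplex.ExactAt.of_isZero ((ιC.obj K).isZero_of_isStrictlyLE b i hi))).of_iso
          (asIso (HomologicalComplex.homologyMap t i)))
    haveI : QuasiIso (C.ιTruncLE b) := (CochainComplex.quasiIso_ιTruncLE_iff C b).2 inferInstance
    obtain ⟨M', α, hM', hα⟩ := exists_lift P hlift (C.truncLE b) b (fun n =>
      P.prop_of_iso (asIso (HomologicalComplex.homologyMap (C.ιTruncLE b ≫ t) n)).symm
        (homologyP P K n))
    let u' : M' ⟶ K := ιC.preimage (α ≫ C.ιTruncLE b ≫ t)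
    have hu : ιC.map u' = α ≫ C.ιTruncLE b ≫ t := ιC.map_preimage _
    have hq : QuasiIso (ιC.map u') := by rw [hu]; infer_instance
    haveI : QuasiIso u' := (HomologicalComplex.quasiIso_map_iff_of_preservesHomology u' P.ι).1 hq
    have h4 : (HomotopyCategory.quotient P.FullSubcategory (ComplexShape.up ℤ)).map (u' ≫ f) = 0 := by
      apply (P.ι.mapHomotopyCategory (ComplexShape.up ℤ)).map_injective
      rw [Functor.map_zero]
      show (HomotopyCategory.quotient A (ComplexShape.up ℤ)).map (ιC.map (u' ≫ f)) = 0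
      rw [ιC.map_comp, hu]
      simp only [Functor.map_comp, Category.assoc, heq, comp_zero]
    have h5 : Q.map (u' ≫ f) = 0 := by
      rw [← cancel_epi ((quotientCompQhIso P.FullSubcategory).hom.app M'), comp_zero]
      exact ((quotientCompQhIso P.FullSubcategory).hom.naturality (u' ≫ f)).symm.trans
        ((congrArg (fun x => Qh.map x ≫ _) h4).trans (by rw [Functor.map_zero, zero_comp]))
    rw [Q.map_comp] at h5
    have h6 : Q.map f = 0 := by rwa [← cancel_epi (Q.map u'), comp_zero]
    rw [h6, comp_zero]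
  · intro g
    obtain ⟨C, hC, s, hs, f, hf⟩ :=
      right_fac_of_isStrictlyLE (e.inv.app M ≫ g ≫ e.hom.app N : Q.obj (ιC.obj M) ⟶ Q.obj (ιC.obj N)) b
    haveI hsq : QuasiIso s := by rwa [isIso_Q_map_iff_quasiIso] at hs
    obtain ⟨M', α, hM', hα⟩ := exists_lift P hlift C b (fun n =>
      P.prop_of_iso (asIso (HomologicalComplex.homologyMap s n)).symm (homologyP P M n))
    let s' : M' ⟶ M := ιC.preimage (α ≫ s)
    let f' : M' ⟶ N := ιC.preimage (α ≫ f)
    have hq : QuasiIso (ιC.map s') := by rw [ιC.map_preimage]; infer_instance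
    haveI : QuasiIso s' := (HomologicalComplex.quasiIso_map_iff_of_preservesHomology s' P.ι).1 hq
    refine ⟨CategoryTheory.inv (Q.map s') ≫ Q.map f', ?_⟩
    show D.map _ = g
    rw [D.map_comp, D.map_inv, IsIso.inv_comp_eq, ← cancel_mono (e.hom.app N), Category.assoc]
    have hg : g ≫ e.hom.app N = e.hom.app M ≫ CategoryTheory.inv (Q.map s) ≫ Q.map f := by
      rw [← hf]; exact (Iso.hom_inv_id_app_assoc e M _).symm
    have hns : D.map (Q.map s') ≫ e.hom.app M = e.hom.app M' ≫ Q.map (ιC.map s') :=
      e.hom.naturality s'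
    have hnf : D.map (Q.map f') ≫ e.hom.app N = e.hom.app M' ≫ Q.map (ιC.map f') :=
      e.hom.naturality f'
    refine hnf.trans ?_
    refine Eq.trans ?_ (congrArg (D.map (Q.map s') ≫ ·) hg).symm
    refine Eq.trans ?_ ((congrArg (· ≫ CategoryTheory.inv (Q.map s) ≫ Q.map f) hns).symm.trans
      (Category.assoc _ _ _))
    refine Eq.trans ?_ (Category.assoc _ _ _).symm
    congr 1
    rw [ιC.map_preimage, ιC.map_preimage, Q.map_comp, Q.map_comp, Category.assoc,
      IsIso.hom_inv_id_assoc]


/-- Let P be a Serre class in an abelian category A (so that the full subcategory on P is abelian; its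
closure under kernels, cokernels, finite products and the exactness of the inclusion are carried as
instance hypotheses) such that for every epimorphism X ⟶ Y with P Y there is a subobject X' of X
with P X' mapping onto Y. Then the induced functor D(P) ⥤ D(A) is fully faithful on bounded above
objects, and every bounded above object of D(A) all of whose cohomology objects satisfy P is in its
essential image from a bounded above object; that is, D⁻(P) ≃ D⁻_P(A). -/
theorem result {A : Type u} [Category.{v} A] [Abelian A] [HasDerivedCategory.{w} A]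
    (P : ObjectProperty A) [P.IsSerreClass] [P.IsClosedUnderKernels] [P.IsClosedUnderCokernels]
    [P.IsClosedUnderFiniteProducts] [HasDerivedCategory.{w'} P.FullSubcategory]
    [PreservesFiniteLimits P.ι] [PreservesFiniteColimits P.ι]
    (hlift : ∀ (X Y : A) (π : X ⟶ Y), Epi π → P Y → ∃ (X' : A) (i : X' ⟶ X), Mono i ∧ P X' ∧ Epi (i ≫ π)) :
    (∀ (M N : DerivedCategory P.FullSubcategory) (b : ℤ), M.IsLE b → N.IsLE b →
      Function.Bijective (fun φ : M ⟶ N => P.ι.mapDerivedCategory.map φ)) ∧
    ∀ (K : DerivedCategory A) (b : ℤ), K.IsLE b → (∀ n : ℤ, P ((DerivedCategory.homologyFunctor A n).obj K)) →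
      ∃ M : DerivedCategory P.FullSubcategory, M.IsLE b ∧ Nonempty (P.ι.mapDerivedCategory.obj M ≅ K) := by
  refine ⟨fun M N b hM hN => ?_, fun K b hK hH => ?_⟩
  · haveI := hM
    obtain ⟨M₀, _, ⟨eM⟩⟩ := M.exists_iso_Q_obj_of_isLE b
    let eN := DerivedCategory.Q.objObjPreimageIso N
    have hb := surj P hlift M₀ (DerivedCategory.Q.objPreimage N) b
    let D := P.ι.mapDerivedCategory
    have : (fun φ : M ⟶ N => D.map φ) = (Iso.homCongr (D.mapIso eM).symm (D.mapIso eN)) ∘
        (fun φ => D.map φ) ∘ (Iso.homCongr eM.symm eN).symm := by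
      funext φ
      simp [← Functor.map_comp]
    show Function.Bijective (fun φ : M ⟶ N => D.map φ)
    rw [this]
    exact (Iso.homCongr _ _).bijective.comp (hb.comp (Iso.homCongr _ _).symm.bijective)
  · haveI := hK
    obtain ⟨C, _, ⟨e⟩⟩ := K.exists_iso_Q_obj_of_isLE b
    obtain ⟨M, α, hM, hα⟩ := exists_lift P hlift C b (fun n =>
      P.prop_of_iso ((DerivedCategory.homologyFunctor A n).mapIso e ≪≫
        (DerivedCategory.homologyFunctorFactors A n).app C) (hH n))
    exact ⟨DerivedCategory.Q.obj M, inferInstance,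
      ⟨P.ι.mapDerivedCategoryFactors.app M ≪≫ asIso (DerivedCategory.Q.map α) ≪≫ e.symm⟩⟩

end Groth.Agent.S1050
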