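import Groth.Statements.S10507
import Groth.Agent.AlgSpTopo.LocalST

set_option autoImplicit false
set_option backward.isDefEq.respectTransparency false
universe u
open CategoryTheory CategoryTheory.Limits AlgebraicGeometry
open AlgSp

namespace Groth.Agent.S10507

/-- If `{X_i ⟶ X}` is an fpqc covering of the algebraic space `X` by algebraic spaces and each `X_i` has
an fpqc covering `{X_ij ⟶ X_i}` by algebraic spaces, then the composites `X_ij ⟶ X_i ⟶ X`, indexed
by the pairs `(i, j)`, form an fpqc covering of `X`. -/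
theorem result {S : Scheme.{u}} (X : AlgSp.Space S) {ι : Type u}
    (Xi : ι → AlgSp.Space S) (g : ∀ i, Xi i ⟶ X) (κ : ι → Type u) (Xij : ∀ i, κ i → AlgSp.Space S)
    (gij : ∀ i j, Xij i j ⟶ Xi i)
    (h : AlgSp.IsFpqcCover (fun i => (Xi i).obj) (fun i => (g i).hom))
    (hij : ∀ i, AlgSp.IsFpqcCover (fun j => (Xij i j).obj) (fun j => (gij i j).hom)) :
    AlgSp.IsFpqcCover (fun r : Σ i, κ i => (Xij r.1 r.2).obj) (fun r => (gij r.1 r.2 ≫ g r.1).hom) :=
  by
  refine ⟨fun r => AlgSpTopo.locP_comp AlgSpTopo.etaleLocal_flat (Xij r.1 r.2).property (Xi r.1).property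
    X.property _ _ ((hij r.1).1 r.2) (h.1 r.1), fun Z hZ k => ?_⟩
  obtain ⟨m, W, c, hW, hc, hs, hl⟩ := h.2 Z hZ k
  choose i l hl using hl
  choose n W' c' hW' hc' hs' hl' using fun j => (hij (i j)).2 (W j) (hW j) (l j)
  let e : Fin (Fintype.card (Σ j, Fin (n j))) ≃ (Σ j, Fin (n j)) := (Fintype.equivFin _).symm
  refine ⟨_, fun r => W' (e r).1 (e r).2, fun r => c' (e r).1 (e r).2 ≫ c (e r).1, fun r => hW' _ _, fun r => ?_,
    fun z => ?_, fun r => ?_⟩
  · have := hc (e r).1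
    have := hc' (e r).1 (e r).2
    rw [Over.comp_left]; infer_instance
  · obtain ⟨j, w, rfl⟩ := hs z
    obtain ⟨j', w', rfl⟩ := hs' j w
    obtain ⟨r, hr⟩ := e.surjective ⟨j, j'⟩
    refine ⟨r, ?_⟩
    beta_reduce
    rw [hr]
    exact ⟨w', by simp⟩
  · obtain ⟨i', l', hl''⟩ := hl' (e r).1 (e r).2
    refine ⟨⟨i (e r).1, i'⟩, l', ?_⟩
    change l' ≫ (gij (i (e r).1) i').hom ≫ (g (i (e r).1)).hom = _
    rw [← Category.assoc, hl'', Category.assoc, hl, Functor.map_comp, Category.assoc]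

end Groth.Agent.S10507
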