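import Groth.Statements.S1051
import Groth.Agent.Postnikov.Unique

set_option autoImplicit false
universe v u
open CategoryTheory
open CohDer

namespace Groth.Agent.S1051

open CategoryTheory.Pretriangulated in
/-- Let X be a chain complex in a triangulated category D and n a natural number; consider the finite
complex Xₙ → Xₙ₋₁ → … → X₀. If every morphism Xᵢ[i - j - 2] ⟶ Xⱼ with j + 2 < i ≤ n vanishes, then
there is a Postnikov system for it: objects Yₖ (k ≤ n), an isomorphism Y₀ ⟶ X₀, and for each k < n a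
distinguished triangle Yₖ₊₁ ⟶ Xₖ₊₁ ⟶ Yₖ ⟶ Yₖ₊₁[1] such that Xₖ₊₁ ⟶ Yₖ ⟶ Xₖ is the differential of X. -/
theorem result {D : Type u} [Category.{v} D] [Preadditive D] [Limits.HasZeroObject D] [HasShift D ℤ]
    [∀ n : ℤ, (shiftFunctor D n).Additive] [Pretriangulated D] [IsTriangulated D]
    (X : ChainComplex D ℕ) (n : ℕ)
    (hX : ∀ i j : ℕ, j + 2 < i → i ≤ n → ∀ φ : (shiftFunctor D ((i : ℤ) - j - 2)).obj (X.X i) ⟶ X.X j, φ = 0) :
    ∃ (Y : ℕ → D) (a : ∀ k, Y k ⟶ X.X k) (b : ∀ k, X.X (k + 1) ⟶ Y k) (c : ∀ k, Y k ⟶ (shiftFunctor D (1 : ℤ)).obj (Y (k + 1))),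
      IsIso (a 0) ∧ ∀ k, k < n → Triangle.mk (a (k + 1)) (b k) (c k) ∈ distinguishedTriangles ∧ b k ≫ a k = X.d (k + 1) k := by
  classical
  have cocone : ∀ (k : ℕ) (Yk : D) (bk : X.X (k + 1) ⟶ Yk), ∃ (Z : D) (f : Z ⟶ X.X (k + 1))
      (g : Yk ⟶ (shiftFunctor D (1 : ℤ)).obj Z), Triangle.mk f bk g ∈ distinguishedTriangles :=
    fun k Yk bk => Pretriangulated.distinguished_cocone_triangle₁ bk
  choose Z f g hT using cocone
  let lift : ∀ (k : ℕ) (Yk : D), (Yk ⟶ X.X k) → (X.X (k + 1) ⟶ Yk) := fun k Yk ak =>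
    if h : ∃ bk : X.X (k + 1) ⟶ Yk, bk ≫ ak = X.d (k + 1) k then h.choose else 0
  let S : ∀ k : ℕ, Σ Yk : D, (Yk ⟶ X.X k) := fun k =>
    Nat.rec ⟨X.X 0, 𝟙 _⟩ (fun k p => ⟨Z k p.1 (lift k p.1 p.2), f k p.1 (lift k p.1 p.2)⟩) k
  let Y := fun k => (S k).1
  let a : ∀ k, Y k ⟶ X.X k := fun k => (S k).2
  let b : ∀ k, X.X (k + 1) ⟶ Y k := fun k => lift k (Y k) (a k)
  let c : ∀ k, Y k ⟶ (shiftFunctor D (1 : ℤ)).obj (Y (k + 1)) := fun k => g k (Y k) (b k)
  haveI : IsIso (a 0) := (inferInstance : IsIso (𝟙 (X.X 0)))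
  have hdist : ∀ k, Triangle.mk (a (k + 1)) (b k) (c k) ∈ distinguishedTriangles := fun k => hT k (Y k) (b k)
  have hb : ∀ k, k < n → b k ≫ a k = X.d (k + 1) k := by
    intro k hk
    suffices h : ∃ bk : X.X (k + 1) ⟶ Y k, bk ≫ a k = X.d (k + 1) k by
      show lift k (Y k) (a k) ≫ a k = _
      simp only [lift, dif_pos h]
      exact h.choose_spec
    induction k with
    | zero => exact ⟨X.d 1 0, Category.comp_id _⟩
    | succ j ih =>
      have hj : b j ≫ a j = X.d (j + 1) j := by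
        show lift j (Y j) (a j) ≫ a j = _
        simp only [lift, dif_pos (ih (by omega))]
        exact (ih (by omega)).choose_spec
      have hψ : X.d (j + 1 + 1) (j + 1) ≫ b j = 0 := by
        have h0 : (X.d (j + 1 + 1) (j + 1) ≫ b j) ≫ a j = 0 := by rw [Category.assoc, hj, X.d_comp_d]
        cases j with
        | zero => exact (cancel_mono (a 0)).1 (h0.trans Limits.zero_comp.symm)
        | succ l =>
          obtain ⟨χ, hχ⟩ := Groth.Agent.Postnikov.exists_factor_c (hdist l) _ h0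
          apply (shiftFunctor D (1 : ℤ)).map_injective
          rw [hχ, Functor.map_zero, show χ = 0 from Groth.Agent.Postnikov.hom_eq_zero_of_tgt n (fun i => X.X i) Y a b c
            (fun i _ => hdist i) l (by omega) _ (fun m hm θ => by
              rw [← cancel_epi ((shiftFunctorAdd' D (1 : ℤ) (m : ℤ) ((l + 1 + 1 + 1 : ℕ) - (l - m : ℕ) - 2 : ℤ) (by omega)).hom.app
                (X.X (l + 1 + 1 + 1))), Limits.comp_zero]
              exact hX (l + 1 + 1 + 1) (l - m) (by omega) (by omega) _) χ, Limits.zero_comp]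
      obtain ⟨bk, hbk⟩ := Pretriangulated.Triangle.coyoneda_exact₂ _ (hdist j) _ hψ
      exact ⟨bk, hbk.symm⟩
  exact ⟨Y, a, b, c, inferInstance, fun k hk => ⟨hdist k, hb k hk⟩⟩

end Groth.Agent.S1051
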