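import Groth.Statements.S1053
import Mathlib.Algebra.Homology.DerivedCategory.KProjective
import Mathlib.Algebra.Homology.Embedding.CochainComplex

set_option autoImplicit false
universe w v u
open CategoryTheory CategoryTheory.Limits
open CohDer

namespace Groth.Agent.S1053

/-- Let P and K be cochain complexes in an abelian category with P bounded, consisting of projective
objects and zero in degrees below n, and with Hⁱ(K) = 0 for all i ≥ n. Then every morphism P ⟶ K in
the homotopy category and every morphism P ⟶ K in the derived category is zero. -/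
theorem result {A : Type u} [Category.{v} A] [Abelian A] [HasDerivedCategory.{w} A]
    (P K : CochainComplex A ℤ) (n b : ℤ) [P.IsStrictlyGE n] [P.IsStrictlyLE b] (hP : ∀ i : ℤ, Projective (P.X i))
    (hK : ∀ i : ℤ, n ≤ i → IsZero (K.homology i)) :
    (∀ φ : (HomotopyCategory.quotient A (ComplexShape.up ℤ)).obj P ⟶ (HomotopyCategory.quotient A (ComplexShape.up ℤ)).obj K, φ = 0) ∧
    (∀ φ : DerivedCategory.Q.obj P ⟶ DerivedCategory.Q.obj K, φ = 0) := by
  haveI := hP
  haveI : P.IsKProjective := P.isKProjective_of_projective b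
  haveI hK' : K.IsLE (n - 1) := (K.isLE_iff (n - 1)).2 fun i hi =>
    (HomologicalComplex.exactAt_iff_isZero_homology _ _).2 (hK i (by omega))
  let T := K.truncLE (n - 1)
  haveI : IsIso (DerivedCategory.Q.map (K.ιTruncLE (n - 1))) := inferInstance
  have hzero : ∀ g : P ⟶ T, g = 0 := fun g => by
    ext i
    by_cases hi : i < n
    · exact (P.isZero_of_isStrictlyGE n i hi).eq_of_src _ _
    · exact (T.isZero_of_isStrictlyLE (n - 1) i (by omega)).eq_of_tgt _ _
  have hD : ∀ φ : DerivedCategory.Q.obj P ⟶ DerivedCategory.Q.obj K, φ = 0 := by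
    intro φ
    obtain ⟨ψ, hψ⟩ := (CochainComplex.IsKProjective.Qh_map_bijective P
      ((HomotopyCategory.quotient A _).obj T)).2 ((DerivedCategory.quotientCompQhIso A).hom.app P ≫ φ ≫ inv (DerivedCategory.Q.map (K.ιTruncLE (n - 1))) ≫ (DerivedCategory.quotientCompQhIso A).inv.app T)
    obtain ⟨g, rfl⟩ := (HomotopyCategory.quotient A _).map_surjective ψ
    rw [hzero g, Functor.map_zero, Functor.map_zero] at hψ
    simpa using hψ.symm
  refine ⟨fun φ => (CochainComplex.IsKProjective.Qh_map_bijective P _).1 ?_, hD⟩
  rw [Functor.map_zero]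
  have := hD ((DerivedCategory.quotientCompQhIso A).inv.app P ≫ DerivedCategory.Qh.map φ ≫ (DerivedCategory.quotientCompQhIso A).hom.app K)
  simpa using this

end Groth.Agent.S1053
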