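import Groth.Agent.AlgSpTopo.LocInst
import Groth.Agent.S10519
-- Copy to Groth/Agent/S10541.lean and replace the sorry. The statement below is byte-identical to the frozen
-- statement AlgSp.GrothFrozen.S10541 (Groth/Statements/S10541.lean; the theorem AlgSp.isLocalOnBase_fpqc_locP_locallyQuasiFinite);
-- the grader kernel-checks Groth.Agent.S10541.result against that frozen type. Keep the theorem IN THIS FILE
-- (a `result` declared elsewhere and merely imported here is not credited); helpers may live anywhere
-- under Groth/Agent/.
import Groth.Statements.S10541
-- import your own Groth.Agent.* helpers here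

set_option autoImplicit false
set_option backward.isDefEq.respectTransparency false
universe u
open CategoryTheory CategoryTheory.Limits AlgebraicGeometry
open AlgSp

namespace Groth.Agent.S10541

/-- The properties of morphisms of algebraic spaces over S given by locally quasi-finite (locally
quasi-finite and locally of finite type on etale charts) and by quasi-finite (the same together with
quasi-compact) are both fpqc local on the base: for an fpqc covering of an algebraic space Y by
algebraic spaces Y_i, a morphism f : X ⟶ Y of algebraic spaces and cartesian squares X_i = Y_i ×_Y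
X, f has the property if and only if every X_i ⟶ Y_i has it. -/
theorem result (S : Scheme.{u}) :
    AlgSp.IsLocalOnBase (AlgSp.IsFpqcCover (S := S)) (AlgSp.LocP (@LocallyQuasiFinite ⊓ @LocallyOfFiniteType)) ∧
    AlgSp.IsLocalOnBase (AlgSp.IsFpqcCover (S := S))
      (fun _ _ f => AlgSp.LocP (@LocallyQuasiFinite ⊓ @LocallyOfFiniteType) f ∧ AlgSp.IsQuasiCompactMor f) :=
  by
  have h := AlgSpTopo.isLocalOnBase_fpqc (S := S) AlgSpTopo.etaleLocal_lqf
  refine ⟨h, fun ι Y Yi g hY hYi hcov X f hX Xi p q hXi sqs => ?_⟩
  beta_reduce
  rw [h Yi g hY hYi hcov f hX Xi p q hXi sqs,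
    Groth.Agent.S10519.result S Yi g hY hYi hcov f hX Xi p q hXi sqs]
  exact forall_and.symm

end Groth.Agent.S10541
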