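import Groth.Statements.S1055
import Groth.Agent.KFlatLib.LCompute
import Groth.Agent.KFlatLib.TildePull
import Groth.Agent.KFlatLib.Tilde

set_option autoImplicit false
universe u
open CategoryTheory CategoryTheory.Limits AlgebraicGeometry Opposite
attribute [local instance] HasDerivedCategory.standard
open Perf

namespace Groth.Agent.S1055

/-- Let φ : A → B be a ring map and f : Spec B ⟶ Spec A the corresponding morphism. Assuming the derived
functors involved exist (and tilde is recorded as exact), derived base change - ⊗^L_A B : D(A) ⥤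
D(B) followed by M ↦ M~ is isomorphic to M ↦ M~ followed by Lf^*. -/
theorem result {A B : Type u} [CommRing A] [CommRing B] (φ : A →+* B)
    [PreservesFiniteLimits (tilde.functor (CommRingCat.of A))] [PreservesFiniteLimits (tilde.functor (CommRingCat.of B))]
    [DRing.HasLBaseChange φ] [DCoh.HasLpull (Spec.map (CommRingCat.ofHom φ))] :
    Nonempty (DRing.LBaseChange φ ⋙ DCoh.tildeD (CommRingCat.of B) ≅
      DCoh.tildeD (CommRingCat.of A) ⋙ DCoh.Lpull (Spec.map (CommRingCat.ofHom φ))) := by
  let f := Spec.map (CommRingCat.ofHom φ)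
  let W := HomotopyCategory.quasiIso (ModuleCat.{u} A) (ComplexShape.up ℤ)
  let F₁ := DRing.baseChangeKh φ ⋙ DCoh.tildeD (CommRingCat.of B)
  haveI : (Scheme.Modules.pullback f).Additive :=
    haveI := preservesBinaryBiproducts_of_preservesBinaryCoproducts (Scheme.Modules.pullback f)
    Functor.additive_of_preservesBinaryBiproducts _
  haveI htilde : ∀ R : CommRingCat.{u}, (tilde.functor R).Additive := fun R => inferInstance
  haveI : (tilde.functor (CommRingCat.of A)).Additive := htilde _
  haveI : (tilde.functor (CommRingCat.of B)).Additive := htilde _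
  haveI hcol : ∀ R : CommRingCat.{u}, PreservesFiniteColimits (tilde.functor R) := fun R => inferInstance
  haveI : PreservesFiniteColimits (tilde.functor (CommRingCat.of A)) := hcol _
  haveI : PreservesFiniteColimits (tilde.functor (CommRingCat.of B)) := hcol _
  let F₂ := (tilde.functor (CommRingCat.of A)).mapHomotopyCategory (ComplexShape.up ℤ) ⋙ DCoh.pullKh f
  let e : F₁ ≅ F₂ :=
    Functor.associator _ _ _ ≪≫ Functor.isoWhiskerLeft _ (tilde.functor (CommRingCat.of B)).mapDerivedCategoryFactorsh ≪≫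
      (Functor.associator _ _ _).symm ≪≫
      Functor.isoWhiskerRight
        ((Functor.mapHomotopyCategoryCompIso (Groth.Agent.KFlatLib.tildePullIso (CommRingCat.ofHom φ)) _) ≪≫
          (Functor.mapHomotopyCategoryCompIso (Iso.refl ((tilde.functor (CommRingCat.of A)) ⋙ Scheme.Modules.pullback f)) _).symm) DerivedCategory.Qh ≪≫
      Functor.associator _ _ _
  have hgb : Groth.Agent.KFlatLib.IsGood DerivedCategory.Qh (DRing.baseChangeKh φ) W
      (fun K => Groth.Agent.KFlatLib.IsKFlat (Groth.Agent.KFlatLib.TM A) K.as) :=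
    Groth.Agent.KFlatLib.isGood_mapKh (ModuleCat.extendScalars φ)
      (fun K => Groth.Agent.KFlatLib.IsKFlat (Groth.Agent.KFlatLib.TM A) K)
      (Groth.Agent.KFlatLib.exists_res_module A) (fun {K K'} h => Groth.Agent.KFlatLib.IsKFlat.of_homotopyEquiv _ h)
      (fun {K K'} ψ => (Groth.Agent.KFlatLib.IsKFlat.mappingCone_two_of_three _ ψ).1)
      (fun K h hA => Groth.Agent.KFlatLib.acyc_extendScalars φ h hA)
  have hg : Groth.Agent.KFlatLib.IsGood DerivedCategory.Qh F₁ W
      (fun K => Groth.Agent.KFlatLib.IsKFlat (Groth.Agent.KFlatLib.TM A) K.as) :=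
    Groth.Agent.KFlatLib.IsGood.of_fractions hgb.res fun K K' s hK hK' hs =>
      haveI := hgb.inv s hK hK' hs
      inferInstanceAs (IsIso ((DCoh.tildeD (CommRingCat.of B)).map ((DRing.baseChangeKh φ).map s)))
  let α := (DRing.baseChangeKh φ).totalLeftDerivedCounit DerivedCategory.Qh W
  let W' := HomotopyCategory.quasiIso (Spec (CommRingCat.of A)).Modules (ComplexShape.up ℤ)
  let αp := (DCoh.pullKh f).totalLeftDerivedCounit DerivedCategory.Qh W'
  let β₁ : DerivedCategory.Qh ⋙ DRing.LBaseChange φ ⋙ DCoh.tildeD (CommRingCat.of B) ⟶ F₁ :=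
    (Functor.associator _ _ _).inv ≫ Functor.whiskerRight α _
  let β₂ : DerivedCategory.Qh ⋙ DCoh.tildeD (CommRingCat.of A) ⋙ DCoh.Lpull f ⟶ F₁ :=
    (Functor.associator _ _ _).inv ≫ Functor.whiskerRight (tilde.functor (CommRingCat.of A)).mapDerivedCategoryFactorsh.hom _ ≫
      (Functor.associator _ _ _).hom ≫ Functor.whiskerLeft _ αp ≫ e.inv
  haveI : (DRing.LBaseChange φ ⋙ DCoh.tildeD (CommRingCat.of B)).IsLeftDerivedFunctor β₁ W := by
    refine hg.isLeftDerived _ _ fun K hK => ?_
    haveI : IsIso (α.app K) := hgb.isIso_app (DRing.LBaseChange φ) α hK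
    show IsIso (𝟙 _ ≫ (DCoh.tildeD (CommRingCat.of B)).map (α.app K))
    infer_instance
  haveI : (DCoh.tildeD (CommRingCat.of A) ⋙ DCoh.Lpull f).IsLeftDerivedFunctor β₂ W := by
    refine hg.isLeftDerived _ _ fun K hK => ?_
    haveI : IsIso (αp.app (((tilde.functor (CommRingCat.of A)).mapHomotopyCategory (ComplexShape.up ℤ)).obj K)) :=
      (Groth.Agent.KFlatLib.isGood_pullKh f).isIso_app (DCoh.Lpull f) αp
        ((Groth.Agent.KFlatLib.dcoh_isKFlat_iff _).1 (Groth.Agent.KFlatLib.isKFlat_tilde (R := CommRingCat.of A) hK))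
    show IsIso (𝟙 _ ≫ (DCoh.Lpull f).map ((tilde.functor (CommRingCat.of A)).mapDerivedCategoryFactorsh.hom.app K) ≫ 𝟙 _ ≫
      αp.app (((tilde.functor (CommRingCat.of A)).mapHomotopyCategory (ComplexShape.up ℤ)).obj K) ≫ e.inv.app K)
    infer_instance
  exact ⟨Functor.leftDerivedUnique _ _ β₁ β₂ W⟩

end Groth.Agent.S1055
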