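import Groth.Statements.S10551
import Groth.Agent.AlgSpTopo.FlatOpen

set_option autoImplicit false
set_option backward.isDefEq.respectTransparency false
universe u
open CategoryTheory CategoryTheory.Limits AlgebraicGeometry
open AlgSp

namespace Groth.Agent.S10551

/-- The property of morphisms of algebraic spaces over S given by f is open (the induced map on spaces
of points is open) is fppf local on the source: for a morphism f : X ⟶ Y of algebraic spaces and a
fppf covering of X by algebraic spaces X_i, f has the property if and only if every composite X_i ⟶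
X ⟶ Y has it. -/
theorem result (S : Scheme.{u}) :
    AlgSp.IsLocalOnSource (AlgSp.IsFppfCover (S := S)) AlgSp.IsOpenMor := by
  intro ι X Xi g hX hXi hg Y f hY
  refine ⟨fun hf i => ?_, fun h U hU => ?_⟩
  · have hgi := AlgSpTopo.isOpenMap_of_flat_lfp (hXi i) hX (g i) (hg.1 i).1 (hg.1 i).2
    intro U hU
    have := hf _ (hgi U hU)
    rw [Set.image_image] at this
    simpa only [← Points.map_comp] using this
  · have e : Points.map f '' U = ⋃ i, Points.map (g i ≫ f) '' (Points.map (g i) ⁻¹' U) := by
      ext y
      simp only [Set.mem_iUnion]
      constructor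
      · rintro ⟨x, hx, rfl⟩
        obtain ⟨i, w, rfl⟩ := hg.2 x
        exact ⟨i, w, hx, Points.map_comp _ _ _⟩
      · rintro ⟨i, w, hw, rfl⟩
        exact ⟨_, hw, (Points.map_comp _ _ _).symm⟩
    rw [e]
    exact isOpen_iUnion fun i => h i _ (hU.preimage (Points.continuous_map _))

end Groth.Agent.S10551
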