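import Groth.Statements.S10552
import Groth.Agent.AlgSpTopo.FlatOpen

set_option autoImplicit false
set_option backward.isDefEq.respectTransparency false
universe u
open CategoryTheory CategoryTheory.Limits AlgebraicGeometry
open AlgSp

namespace Groth.Agent.S10552

/-- The property of morphisms of algebraic spaces over S given by f is universally open (every base
change along a morphism from an algebraic space is open on points) is fppf local on the source: for
a morphism f : X ⟶ Y of algebraic spaces and a fppf covering of X by algebraic spaces X_i, f has the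
property if and only if every composite X_i ⟶ X ⟶ Y has it. -/
theorem result (S : Scheme.{u}) :
    AlgSp.IsLocalOnSource (AlgSp.IsFppfCover (S := S)) AlgSp.IsUnivOpenMor := by
  intro ι X Xi g hX hXi hg Y f hY
  refine ⟨fun hf i Z Z' hZ k fst snd sq => ?_, fun h Z Z' hZ k fst snd sq U hU => ?_⟩
  · have H := IsPullback.of_hasPullback f k
    obtain ⟨v, hv1, hv2⟩ := H.exists_lift (fst ≫ g i) snd (by rw [Category.assoc]; exact sq.w)
    have sq' : IsPullback fst v (g i) (pullback.fst f k) :=
      IsPullback.of_bot (by rw [hv2]; exact sq) hv1.symm H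
    have h1 := AlgSpTopo.isOpenMap_bc_of_flat_lfp (hXi i) hX (g i) (hg.1 i).1 (hg.1 i).2 sq'
    have h2 := hf hZ k _ _ H
    rw [← hv2]
    intro U hU
    have := h2 _ (h1 U hU)
    rw [Set.image_image] at this
    simpa only [← Points.map_comp] using this
  · have e : Points.map snd '' U =
        ⋃ i, Points.map (pullback.snd (g i) fst ≫ snd) '' (Points.map (pullback.snd (g i) fst) ⁻¹' U) := by
      ext z
      simp only [Set.mem_iUnion]
      constructor
      · rintro ⟨x, hx, rfl⟩
        obtain ⟨i, a, ha⟩ := hg.2 (Points.map fst x)
        obtain ⟨w, -, rfl⟩ := AlgSpTopo.points_surj (IsPullback.of_hasPullback (g i) fst) a x ha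
        exact ⟨i, w, hx, Points.map_comp _ _ _⟩
      · rintro ⟨i, w, hw, rfl⟩
        exact ⟨_, hw, (Points.map_comp _ _ _).symm⟩
    rw [e]
    exact isOpen_iUnion fun i =>
      h i hZ k _ _ ((IsPullback.of_hasPullback (g i) fst).paste_vert sq) _
        (hU.preimage (Points.continuous_map _))

end Groth.Agent.S10552
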