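import Groth.Statements.S7179
import Groth.Agent.FlatMor.AbsFlat

set_option autoImplicit false
universe u
open FlatMor

namespace Groth.Agent.S7179

open AlgebraicGeometry CategoryTheory Limits in
/-- The source of a weakly étale morphism with reduced target is reduced. -/
theorem result {X Y : Scheme.{u}} (f : X ⟶ Y) [WeaklyEtale f] [IsReduced Y] : IsReduced X := by
  haveI : ∀ x : X, _root_.IsReduced (X.presheaf.stalk x) := fun x => by
    obtain ⟨U, hU, hfx, -⟩ := exists_isAffineOpen_mem_and_subset (U := ⊤) (TopologicalSpace.Opens.mem_top (f x))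
    obtain ⟨V, hV, hxV, hVU⟩ := exists_isAffineOpen_mem_and_subset
      (show x ∈ f ⁻¹ᵁ U from hfx)
    letI := (f.appLE U V hVU).hom.toAlgebra
    haveI := Groth.Agent.FlatMor.AbsFlat.weaklyEtale_appLE f hU hV hVU
    haveI : _root_.IsReduced Γ(X, V) :=
      Groth.Agent.FlatMor.AbsFlat.isReduced_of_weaklyEtale Γ(Y, U) Γ(X, V)
    letI := X.presheaf.algebra_section_stalk ⟨x, hxV⟩
    haveI := hV.isLocalization_stalk ⟨x, hxV⟩
    exact isReduced_localizationPreserves (hV.primeIdealOf ⟨x, hxV⟩).asIdeal.primeCompl _ inferInstance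
  exact isReduced_of_isReduced_stalk X

end Groth.Agent.S7179
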