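import Groth.Statements.S10561
import Groth.Agent.AlgSpTopo.DescProps
import Groth.Agent.FlatMor.GeomFibre
import Groth.Agent.S7179
import Groth.Agent.S0116

set_option autoImplicit false
set_option backward.isDefEq.respectTransparency false
universe u
open CategoryTheory CategoryTheory.Limits AlgebraicGeometry
open AlgSp

namespace Groth.Agent.S10561

/-- Let f : X ⟶ Y be a flat and surjective morphism of algebraic spaces over S. If X is reduced then Y
is reduced. -/
theorem result {S : Scheme.{u}} {X Y : AlgSp.Space S} (f : X ⟶ Y)
    (hfl : AlgSp.LocP @Flat f.hom) (hs : AlgSp.IsSurjectiveMor f.hom) (hX : AlgSp.IsReducedSp X.obj) :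
    AlgSp.IsReducedSp Y.obj := by
  obtain ⟨T, k, hk, hks⟩ := Y.property.atlas
  obtain ⟨M, T', m, e, a, hm, he, hme, ha⟩ :=
    AlgSpTopo.exists_surjective_chart X.property Y.property f.hom hfl hs k hk
  refine ⟨T, k, hk, hks, ?_⟩
  have hM : IsReduced M.left := AlgSpTopo.prop_of_chart (P := fun U => IsReduced U)
    (fun h hh hB => by
      have := hh; have := hB
      exact Groth.Agent.S7179.result h)
    (fun h hh hhs hA => by
      have := hh; have := hhs; have := hA
      exact Groth.Agent.FlatMor.GeomFibre.isReduced_of_flat_surjective h) hX a ha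
  have : Flat m.left := hm
  have : Flat (m ≫ e).left := by rw [Over.comp_left]; infer_instance
  exact Groth.Agent.FlatMor.GeomFibre.isReduced_of_flat_surjective (m ≫ e).left

end Groth.Agent.S10561
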