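import Groth.Statements.S10562
import Groth.Agent.AlgSpTopo.DescProps
import Groth.Agent.FlatMor.GeomFibre
import Groth.Agent.S7179
import Groth.Agent.S0116

set_option autoImplicit false
set_option backward.isDefEq.respectTransparency false
universe u
open CategoryTheory CategoryTheory.Limits AlgebraicGeometry
open AlgSp

namespace Groth.Agent.S10562

/-- Let f : X ⟶ Y be a morphism of algebraic spaces over S which is locally of finite presentation, flat
and surjective. If X is locally Noetherian then Y is locally Noetherian. -/
theorem result {S : Scheme.{u}} {X Y : AlgSp.Space S} (f : X ⟶ Y)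
    (hfp : AlgSp.LocP @LocallyOfFinitePresentation f.hom) (hfl : AlgSp.LocP @Flat f.hom)
    (hs : AlgSp.IsSurjectiveMor f.hom) (hX : AlgSp.IsLocNoethSp X.obj) :
    AlgSp.IsLocNoethSp Y.obj := by
  obtain ⟨T, k, hk, hks⟩ := Y.property.atlas
  obtain ⟨M, T', m, e, a, hm, he, hme, ha⟩ :=
    AlgSpTopo.exists_surjective_chart (Q := @Flat ⊓ @LocallyOfFinitePresentation) X.property Y.property f.hom
      (fun U V a b h ha hb w => ⟨hfl a b h ha hb w, hfp a b h ha hb w⟩) hs k hk
  refine ⟨T, k, hk, hks, ?_⟩
  have hM : IsLocallyNoetherian M.left := AlgSpTopo.prop_of_chart (P := fun U => IsLocallyNoetherian U)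
    (fun h hh hB => by
      have := hh; have := hB
      exact AlgSpTopo.isLocallyNoetherian_of_lft h)
    (fun h hh hhs hA => by
      have := hh; have := hhs; have := hA
      exact Groth.Agent.S0116.result h) hX a ha
  obtain ⟨h1, h2⟩ := hm
  have : Flat (m ≫ e).left := by rw [Over.comp_left]; infer_instance
  have : LocallyOfFinitePresentation (m ≫ e).left := by rw [Over.comp_left]; infer_instance
  exact Groth.Agent.S0116.result (m ≫ e).left

end Groth.Agent.S10562
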