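import Groth.Statements.S10596
import Groth.Agent.AlgSpTopo.ThickChart

set_option autoImplicit false
set_option backward.isDefEq.respectTransparency false
universe u
open CategoryTheory CategoryTheory.Limits AlgebraicGeometry
open AlgSp

namespace Groth.Agent.S10596

/-- Let iB : B ⟶ B' be a finite order thickening of algebraic spaces over S (a thickening such that for
one n the (n+1)-st power of the ideal vanishes on every affine etale scheme chart), f' : X' ⟶ Y' a
morphism of algebraic spaces over B' (via g' : Y' ⟶ B') with X' flat over B', and f : X ⟶ Y, g : Y ⟶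
B its base change to B (both squares to iB cartesian, iX ≫ f' = f ≫ iY). Then f is locally of finite
type of relative dimension d, resp. flat, resp. locally of finite type, locally quasi-finite,
locally of finite presentation, smooth, unramified, etale, if and only if f' is (etale-local sense;
locally quasi-finite and unramified include locally of finite type). -/
theorem result {S : Scheme.{u}} {X X' Y Y' B B' : AlgSp.Space S} (iX : X ⟶ X') (iY : Y ⟶ Y') (iB : B ⟶ B')
    (f : X ⟶ Y) (f' : X' ⟶ Y') (g : Y ⟶ B) (g' : Y' ⟶ B')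
    (hcX : IsPullback iX.hom (f ≫ g).hom (f' ≫ g').hom iB.hom) (hcY : IsPullback iY.hom g.hom g'.hom iB.hom)
    (w : iX ≫ f' = f ≫ iY)
    (hB : AlgSp.IsFinThickMor iB.hom) (hflat : AlgSp.LocP @Flat (f' ≫ g').hom) (d : ℕ) :
    ((AlgSp.LocP @LocallyOfFiniteType f.hom ∧
        ∀ x, AlgSp.HasAtMor (fun _ _ h u => FlatMor.fibreDimAt h u = (d : WithBot ℕ∞)) f.hom x) ↔
      (AlgSp.LocP @LocallyOfFiniteType f'.hom ∧
        ∀ x', AlgSp.HasAtMor (fun _ _ h u => FlatMor.fibreDimAt h u = (d : WithBot ℕ∞)) f'.hom x')) ∧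
    (AlgSp.LocP @Flat f.hom ↔ AlgSp.LocP @Flat f'.hom) ∧
    (AlgSp.LocP @LocallyOfFiniteType f.hom ↔ AlgSp.LocP @LocallyOfFiniteType f'.hom) ∧
    (AlgSp.LocP (@LocallyQuasiFinite ⊓ @LocallyOfFiniteType) f.hom ↔
      AlgSp.LocP (@LocallyQuasiFinite ⊓ @LocallyOfFiniteType) f'.hom) ∧
    (AlgSp.LocP @LocallyOfFinitePresentation f.hom ↔ AlgSp.LocP @LocallyOfFinitePresentation f'.hom) ∧
    (AlgSp.LocP @Smooth f.hom ↔ AlgSp.LocP @Smooth f'.hom) ∧
    (AlgSp.LocP (@LocallyOfFiniteType ⊓ @FormallyUnramified) f.hom ↔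
      AlgSp.LocP (@LocallyOfFiniteType ⊓ @FormallyUnramified) f'.hom) ∧
    (AlgSp.IsEtaleMor f.hom ↔ AlgSp.IsEtaleMor f'.hom) := by
  obtain ⟨n, hn⟩ := hB
  obtain ⟨C⟩ := AlgSpTopo.exists_thickChartOver X'.property Y'.property B'.property hn.1 hcX hcY (congrArg (·.hom) w)
  have hW := AlgSpTopo.isFiniteOrderThickening_chart ⟨n, hn⟩ C.hc' C.sqB
  have hV : MoreMor.IsThickening C.jV.left :=
    ⟨MorphismProperty.of_isPullback C.sqW.flip hW.1.1, MorphismProperty.of_isPullback C.sqW.flip hW.1.2⟩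
  have : Flat (C.k'.left ≫ C.l'.left) := C.comp_prop hflat
  have lft : AlgSp.LocP @LocallyOfFiniteType f.hom ↔ AlgSp.LocP @LocallyOfFiniteType f'.hom := by
    rw [C.locP_iff AlgSpTopo.etaleLocal_locallyOfFiniteType, C.locP_iff' AlgSpTopo.etaleLocal_locallyOfFiniteType]
    exact ⟨fun h => Groth.Agent.Flat.DeformNilp.locallyOfFiniteType_of_reduction hW C.sq C.sqW h,
      fun h => MorphismProperty.of_isPullback C.sq h⟩
  refine ⟨and_congr lft (C.fibreDim_iff hV _), ?_, lft, ?_, ?_, ?_, ?_, ?_⟩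
  · rw [C.locP_iff AlgSpTopo.etaleLocal_flat, C.locP_iff' AlgSpTopo.etaleLocal_flat]
    exact ⟨fun h => Groth.Agent.Flat.DeformNilp.flat_scheme hW C.sq C.sqW h,
      fun h => MorphismProperty.of_isPullback C.sq h⟩
  · rw [C.locP_iff AlgSpTopo.etaleLocal_lqf, C.locP_iff' AlgSpTopo.etaleLocal_lqf]
    refine ⟨fun ⟨h1, h2⟩ => ?_, fun h => ⟨MorphismProperty.of_isPullback C.sq h.1, MorphismProperty.of_isPullback C.sq h.2⟩⟩
    have h3 := Groth.Agent.Flat.DeformNilp.locallyOfFiniteType_of_reduction hW C.sq C.sqW h2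
    exact ⟨Groth.Agent.Flat.ThickeningLFT.locallyQuasiFinite_descend hV C.sq, h3⟩
  · rw [C.locP_iff AlgSpTopo.etaleLocal_locallyOfFinitePresentation, C.locP_iff' AlgSpTopo.etaleLocal_locallyOfFinitePresentation]
    exact ⟨fun h => Groth.Agent.Flat.DeformNilp.locallyOfFinitePresentation_scheme hW C.sq C.sqW h,
      fun h => MorphismProperty.of_isPullback C.sq h⟩
  · rw [C.locP_iff AlgSpTopo.etaleLocal_smooth, C.locP_iff' AlgSpTopo.etaleLocal_smooth]
    exact ⟨fun h => Groth.Agent.Flat.DeformNilp.smooth_scheme hW C.sq C.sqW h,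
      fun h => MorphismProperty.of_isPullback C.sq h⟩
  · rw [C.locP_iff AlgSpTopo.etaleLocal_unramified, C.locP_iff' AlgSpTopo.etaleLocal_unramified]
    exact ⟨fun ⟨h1, h2⟩ => ⟨Groth.Agent.Flat.DeformNilp.locallyOfFiniteType_of_reduction hW C.sq C.sqW h1,
        Groth.Agent.Flat.DeformNilp.formallyUnramified_scheme hW C.sq C.sqW h2⟩,
      fun h => ⟨MorphismProperty.of_isPullback C.sq h.1, MorphismProperty.of_isPullback C.sq h.2⟩⟩
  · have hX : AlgSp.IsAlgSpace X.obj := X.property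
    rw [AlgSpTopo.isEtaleMor_iff_locP hX Y.property, AlgSpTopo.isEtaleMor_iff_locP X'.property Y'.property,
      C.locP_iff AlgSpTopo.etaleLocal_etale, C.locP_iff' AlgSpTopo.etaleLocal_etale]
    exact ⟨fun h => Groth.Agent.Flat.DeformNilp.etale_scheme hW C.sq C.sqW h,
      fun h => MorphismProperty.of_isPullback C.sq h⟩

end Groth.Agent.S10596
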