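import Groth.Statements.S10599
import Groth.Agent.AlgSpTopo.ThickChart

set_option autoImplicit false
set_option backward.isDefEq.respectTransparency false
universe u
open CategoryTheory CategoryTheory.Limits AlgebraicGeometry
open AlgSp

namespace Groth.Agent.S10599

/-- Let iB : B ⟶ B' be a thickening of algebraic spaces over S (representable, every base change to a
scheme a surjective closed immersion), f' : X' ⟶ Y' a morphism of algebraic spaces over B' (via g' :
Y' ⟶ B') with Y' locally of finite type over B' and X' flat and locally of finite presentation over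
B', and f : X ⟶ Y, g : Y ⟶ B its base change to B (both squares to iB cartesian, iX ≫ f' = f ≫ iY).
Then f is locally of finite type of relative dimension d, resp. flat, resp. locally quasi-finite,
smooth, unramified, etale, if and only if f' is (etale-local sense; locally quasi-finite and
unramified include locally of finite type). -/
theorem result {S : Scheme.{u}} {X X' Y Y' B B' : AlgSp.Space S} (iX : X ⟶ X') (iY : Y ⟶ Y') (iB : B ⟶ B')
    (f : X ⟶ Y) (f' : X' ⟶ Y') (g : Y ⟶ B) (g' : Y' ⟶ B')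
    (hcX : IsPullback iX.hom (f ≫ g).hom (f' ≫ g').hom iB.hom) (hcY : IsPullback iY.hom g.hom g'.hom iB.hom)
    (w : iX ≫ f' = f ≫ iY)
    (hB : AlgSp.IsThickMor iB.hom)
    (hg' : AlgSp.LocP @LocallyOfFiniteType g'.hom)
    (hflat : AlgSp.LocP @Flat (f' ≫ g').hom) (hfp : AlgSp.LocP @LocallyOfFinitePresentation (f' ≫ g').hom) (d : ℕ) :
    ((AlgSp.LocP @LocallyOfFiniteType f.hom ∧
        ∀ x, AlgSp.HasAtMor (fun _ _ h u => FlatMor.fibreDimAt h u = (d : WithBot ℕ∞)) f.hom x) ↔
      (AlgSp.LocP @LocallyOfFiniteType f'.hom ∧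
        ∀ x', AlgSp.HasAtMor (fun _ _ h u => FlatMor.fibreDimAt h u = (d : WithBot ℕ∞)) f'.hom x')) ∧
    (AlgSp.LocP @Flat f.hom ↔ AlgSp.LocP @Flat f'.hom) ∧
    (AlgSp.LocP (@LocallyQuasiFinite ⊓ @LocallyOfFiniteType) f.hom ↔
      AlgSp.LocP (@LocallyQuasiFinite ⊓ @LocallyOfFiniteType) f'.hom) ∧
    (AlgSp.LocP @Smooth f.hom ↔ AlgSp.LocP @Smooth f'.hom) ∧
    (AlgSp.LocP (@LocallyOfFiniteType ⊓ @FormallyUnramified) f.hom ↔
      AlgSp.LocP (@LocallyOfFiniteType ⊓ @FormallyUnramified) f'.hom) ∧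
    (AlgSp.IsEtaleMor f.hom ↔ AlgSp.IsEtaleMor f'.hom) := by
  obtain ⟨C⟩ := AlgSpTopo.exists_thickChartOver X'.property Y'.property B'.property hB hcX hcY (congrArg (·.hom) w)
  have hW := C.isThickening hB
  have hV : MoreMor.IsThickening C.jV.left :=
    ⟨MorphismProperty.of_isPullback C.sqW.flip hW.1, MorphismProperty.of_isPullback C.sqW.flip hW.2⟩
  have : Flat (C.k'.left ≫ C.l'.left) := C.comp_prop hflat
  have : LocallyOfFinitePresentation (C.k'.left ≫ C.l'.left) := C.comp_prop hfp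
  have : LocallyOfFiniteType C.l'.left := C.base_prop hg'
  have ft' : LocallyOfFiniteType C.k'.left := locallyOfFiniteType_of_comp C.k'.left C.l'.left
  have ft : LocallyOfFiniteType C.k.left := MorphismProperty.of_isPullback C.sq ft'
  refine ⟨and_congr ?_ (C.fibreDim_iff hV _), ?_, ?_, ?_, ?_, ?_⟩
  · rw [C.locP_iff AlgSpTopo.etaleLocal_locallyOfFiniteType, C.locP_iff' AlgSpTopo.etaleLocal_locallyOfFiniteType]
    exact iff_of_true ft ft'
  · rw [C.locP_iff AlgSpTopo.etaleLocal_flat, C.locP_iff' AlgSpTopo.etaleLocal_flat]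
    exact AlgSpTopo.ThickScheme.flat_iff_fp hW C.sqBig C.sqW C.sq.w
  · rw [C.locP_iff AlgSpTopo.etaleLocal_lqf, C.locP_iff' AlgSpTopo.etaleLocal_lqf]
    refine ⟨fun ⟨h1, h2⟩ => ⟨Groth.Agent.Flat.ThickeningLFT.locallyQuasiFinite_descend hV C.sq, ft'⟩,
      fun h => ⟨MorphismProperty.of_isPullback C.sq h.1, ft⟩⟩
  · rw [C.locP_iff AlgSpTopo.etaleLocal_smooth, C.locP_iff' AlgSpTopo.etaleLocal_smooth]
    exact Groth.Agent.Flat.DeformFp.smooth_iff hW C.sqBig C.sqW C.sq.w
  · rw [C.locP_iff AlgSpTopo.etaleLocal_unramified, C.locP_iff' AlgSpTopo.etaleLocal_unramified]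
    exact ⟨fun ⟨_, h2⟩ => ⟨ft', Groth.Agent.Flat.ThickeningLFT.formallyUnramified_descend hV C.sq h2⟩,
      fun h => ⟨ft, MorphismProperty.of_isPullback C.sq h.2⟩⟩
  · have hX : AlgSp.IsAlgSpace X.obj := X.property
    rw [AlgSpTopo.isEtaleMor_iff_locP hX Y.property, AlgSpTopo.isEtaleMor_iff_locP X'.property Y'.property,
      C.locP_iff AlgSpTopo.etaleLocal_etale, C.locP_iff' AlgSpTopo.etaleLocal_etale]
    exact Groth.Agent.Flat.DeformFp.etale_iff hW C.sqBig C.sqW C.sq.w

end Groth.Agent.S10599
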