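import Groth.Statements.S10618
import Mathlib

set_option autoImplicit false
set_option backward.isDefEq.respectTransparency false
universe u
open CategoryTheory CategoryTheory.Limits AlgebraicGeometry
open AlgSp

namespace Groth.Agent.S10618

/-- Let a : F ⟶ G and b : G ⟶ H be morphisms of fppf sheaves on (Sch/S) with b formally unramified. If a
≫ b is formally unramified, resp. formally etale, resp. formally smooth, then so is a. (The
published statement is for transformations of arbitrary presheaves of sets on (Sch/S)_fppf; this row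
takes fppf sheaves, the case of algebraic spaces.) -/
theorem result {S : Scheme.{u}} {F G H : AlgSp.Sp S} (a : F ⟶ G) (b : G ⟶ H)
    (hb : AlgSp.IsFormallyUnramifiedMor b) :
    (AlgSp.IsFormallyUnramifiedMor (a ≫ b) → AlgSp.IsFormallyUnramifiedMor a) ∧
    (AlgSp.IsFormallyEtaleMor (a ≫ b) → AlgSp.IsFormallyEtaleMor a) ∧
    (AlgSp.IsFormallySmoothMor (a ≫ b) → AlgSp.IsFormallySmoothMor a) := by
  have hu : AlgSp.IsFormallyUnramifiedMor (a ≫ b) → AlgSp.IsFormallyUnramifiedMor a := fun hab sq l l' h1 h2 h3 h4 =>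
    hab ⟨sq.A, sq.I, sq.sq_zero, sq.str, sq.top, sq.bot ≫ b, by rw [← Category.assoc, sq.comm, Category.assoc]⟩ l l'
      h1 ((Category.assoc _ _ _).symm.trans (congrArg (· ≫ b) h2)) h3 ((Category.assoc _ _ _).symm.trans (congrArg (· ≫ b) h4))
  have hs : AlgSp.IsFormallySmoothMor (a ≫ b) → AlgSp.IsFormallySmoothMor a := fun hab sq => by
    obtain ⟨l, h1, h2⟩ := hab ⟨sq.A, sq.I, sq.sq_zero, sq.str, sq.top, sq.bot ≫ b,
      by rw [← Category.assoc, sq.comm, Category.assoc]⟩
    refine ⟨l, h1, hb ⟨sq.A, sq.I, sq.sq_zero, sq.str, sq.top ≫ a, sq.bot ≫ b,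
      by rw [sq.comm, Category.assoc]⟩ (l ≫ a) sq.bot ((Category.assoc _ _ _).symm.trans (congrArg (· ≫ a) h1))
      ((Category.assoc _ _ _).trans h2) sq.comm.symm rfl⟩
  refine ⟨hu, fun hab sq => ?_, hs⟩
  obtain ⟨l, h1, h2⟩ := hs (fun q => (hab q).exists) sq
  exact ⟨l, ⟨h1, h2⟩, fun l' h => hu (fun q m m' p1 p2 p3 p4 => (hab q).unique ⟨p1, p2⟩ ⟨p3, p4⟩) sq l' l h.1 h.2 h1 h2⟩

end Groth.Agent.S10618
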