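import Groth.Statements.S10619
import Mathlib

set_option autoImplicit false
set_option backward.isDefEq.respectTransparency false
universe u
open CategoryTheory CategoryTheory.Limits AlgebraicGeometry
open AlgSp

namespace Groth.Agent.S10619

/-- A composition of formally smooth, resp. formally etale, resp. formally unramified morphisms of fppf
sheaves on (Sch/S) is again formally smooth, resp. formally etale, resp. formally unramified. (The
published statement is for transformations of arbitrary presheaves of sets on (Sch/S)_fppf; this row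
takes fppf sheaves, the case of algebraic spaces.) -/
theorem result {S : Scheme.{u}} {F G H : AlgSp.Sp S} (a : F ⟶ G) (b : G ⟶ H) :
    (AlgSp.IsFormallySmoothMor a → AlgSp.IsFormallySmoothMor b → AlgSp.IsFormallySmoothMor (a ≫ b)) ∧
    (AlgSp.IsFormallyEtaleMor a → AlgSp.IsFormallyEtaleMor b → AlgSp.IsFormallyEtaleMor (a ≫ b)) ∧
    (AlgSp.IsFormallyUnramifiedMor a → AlgSp.IsFormallyUnramifiedMor b → AlgSp.IsFormallyUnramifiedMor (a ≫ b)) := by
  have hs : AlgSp.IsFormallySmoothMor a → AlgSp.IsFormallySmoothMor b → AlgSp.IsFormallySmoothMor (a ≫ b) := fun ha hb sq => by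
    obtain ⟨m, m1, m2⟩ := hb ⟨sq.A, sq.I, sq.sq_zero, sq.str, sq.top ≫ a, sq.bot, by rw [Category.assoc]; exact sq.comm⟩
    obtain ⟨l, l1, l2⟩ := ha ⟨sq.A, sq.I, sq.sq_zero, sq.str, sq.top, m, m1.symm⟩
    exact ⟨l, l1, ((Category.assoc _ _ _).symm.trans (congrArg (· ≫ b) l2)).trans m2⟩
  have hu : AlgSp.IsFormallyUnramifiedMor a → AlgSp.IsFormallyUnramifiedMor b → AlgSp.IsFormallyUnramifiedMor (a ≫ b) :=
    fun ha hb sq l l' h1 h2 h3 h4 => by
      have e : l ≫ a = l' ≫ a := hb ⟨sq.A, sq.I, sq.sq_zero, sq.str, sq.top ≫ a, sq.bot, by rw [Category.assoc]; exact sq.comm⟩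
        (l ≫ a) (l' ≫ a) ((Category.assoc _ _ _).symm.trans (congrArg (· ≫ a) h1)) ((Category.assoc _ _ _).trans h2)
        ((Category.assoc _ _ _).symm.trans (congrArg (· ≫ a) h3)) ((Category.assoc _ _ _).trans h4)
      exact ha ⟨sq.A, sq.I, sq.sq_zero, sq.str, sq.top, l ≫ a, ((congrArg (· ≫ a) h1).symm.trans (Category.assoc _ _ _))⟩
        l l' h1 rfl h3 e.symm
  refine ⟨hs, fun ha hb sq => ?_, hu⟩
  obtain ⟨l, h1, h2⟩ := hs (fun q => (ha q).exists) (fun q => (hb q).exists) sq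
  exact ⟨l, ⟨h1, h2⟩, fun l' h => hu (fun q m m' p1 p2 p3 p4 => (ha q).unique ⟨p1, p2⟩ ⟨p3, p4⟩)
    (fun q m m' p1 p2 p3 p4 => (hb q).unique ⟨p1, p2⟩ ⟨p3, p4⟩) sq l' l h.1 h.2 h1 h2⟩

end Groth.Agent.S10619
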