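import Groth.Statements.S10620
import Mathlib

set_option autoImplicit false
set_option backward.isDefEq.respectTransparency false
universe u
open CategoryTheory CategoryTheory.Limits AlgebraicGeometry
open AlgSp

namespace Groth.Agent.S10620

/-- Let a : F ⟶ G and b : H ⟶ G be morphisms of fppf sheaves on (Sch/S) and let a' : P ⟶ H be the base
change of a along b (any pullback square). If a is formally smooth, resp. formally etale, resp.
formally unramified, then so is a'. (The published statement is for transformations of arbitrary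
presheaves of sets on (Sch/S)_fppf; this row takes fppf sheaves, the case of algebraic spaces.) -/
theorem result {S : Scheme.{u}} {F G H P : AlgSp.Sp S} (a : F ⟶ G) (b : H ⟶ G)
    (b' : P ⟶ F) (a' : P ⟶ H) (hP : IsPullback b' a' a b) :
    (AlgSp.IsFormallySmoothMor a → AlgSp.IsFormallySmoothMor a') ∧
    (AlgSp.IsFormallyEtaleMor a → AlgSp.IsFormallyEtaleMor a') ∧
    (AlgSp.IsFormallyUnramifiedMor a → AlgSp.IsFormallyUnramifiedMor a') := by
  have hs : AlgSp.IsFormallySmoothMor a → AlgSp.IsFormallySmoothMor a' := fun ha sq => by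
    obtain ⟨l, h1, h2⟩ := ha ⟨sq.A, sq.I, sq.sq_zero, sq.str, sq.top ≫ b', sq.bot ≫ b,
      by rw [Category.assoc, hP.w, ← Category.assoc, sq.comm, Category.assoc]⟩
    exact ⟨hP.lift l sq.bot h2, hP.hom_ext (by rw [Category.assoc, hP.lift_fst]; exact h1)
      (by rw [Category.assoc, hP.lift_snd]; exact sq.comm.symm), hP.lift_snd _ _ _⟩
  have hu : AlgSp.IsFormallyUnramifiedMor a → AlgSp.IsFormallyUnramifiedMor a' := fun ha sq l l' h1 h2 h3 h4 =>
    hP.hom_ext (ha ⟨sq.A, sq.I, sq.sq_zero, sq.str, sq.top ≫ b', sq.bot ≫ b,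
      by rw [Category.assoc, hP.w, ← Category.assoc, sq.comm, Category.assoc]⟩ (l ≫ b') (l' ≫ b')
        ((Category.assoc _ _ _).symm.trans (congrArg (· ≫ b') h1))
        (((Category.assoc _ _ _).trans (congrArg (l ≫ ·) hP.w)).trans ((Category.assoc _ _ _).symm.trans (congrArg (· ≫ b) h2)))
        ((Category.assoc _ _ _).symm.trans (congrArg (· ≫ b') h3))
        (((Category.assoc _ _ _).trans (congrArg (l' ≫ ·) hP.w)).trans ((Category.assoc _ _ _).symm.trans (congrArg (· ≫ b) h4))))
      (h2.trans h4.symm)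
  refine ⟨hs, fun ha sq => ?_, hu⟩
  obtain ⟨l, h1, h2⟩ := hs (fun q => (ha q).exists) sq
  exact ⟨l, ⟨h1, h2⟩, fun l' h => hu (fun q m m' p1 p2 p3 p4 => (ha q).unique ⟨p1, p2⟩ ⟨p3, p4⟩) sq l' l h.1 h.2 h1 h2⟩

end Groth.Agent.S10620
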