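import Groth.Statements.S10653
import Groth.Agent.HensPair.RelDimSp
import Groth.Agent.HensPair.FlatDense
import Groth.Agent.AlgSpTopo.FlatLocus
import Groth.Agent.AlgSpTopo.RepPoints
import Groth.Agent.S10311

set_option autoImplicit false
universe u
open CategoryTheory CategoryTheory.Limits AlgebraicGeometry
open AlgSp

namespace Groth.Agent.S10653

/-- For a flat morphism f : X ⟶ Y of algebraic spaces over S which is locally of finite type, and an
open subspace j : V ⟶ Y with |V| dense in |Y| such that the base change X ×_Y V ⟶ V has relative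
dimension at most d (at every point some etale chart diagram has top arrow with local fibre
dimension at most d): if either j is quasi-compact or f is locally of finite presentation, then f
has relative dimension at most d at every point of |X|. -/
theorem result {S : Scheme.{u}} {X Y V : AlgSp.Space S} (f : X ⟶ Y) (j : V ⟶ Y) (d : ℕ)
    (hf1 : AlgSp.LocP @Flat f.hom) (hf2 : AlgSp.LocP @LocallyOfFiniteType f.hom)
    (hj1 : AlgSp.RepWith @IsOpenImmersion j.hom) (hj2 : Dense (Set.range (AlgSp.Points.map j.hom)))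
    (P : AlgSp.Space S) (fst : P ⟶ X) (snd : P ⟶ V) (hP : IsPullback fst.hom snd.hom f.hom j.hom)
    (hV : ∀ x, AlgSp.HasAtMor (fun _ _ h u => FlatMor.fibreDimAt h u ≤ (d : WithBot ℕ∞)) snd.hom x)
    (h : AlgSp.LocP @LocallyOfFinitePresentation f.hom ∨ AlgSp.IsQuasiCompactMor j.hom) :
    ∀ x, AlgSp.HasAtMor (fun _ _ h u => FlatMor.fibreDimAt h u ≤ (d : WithBot ℕ∞)) f.hom x := by
  open AlgSp AlgSpTopo Groth.Agent.HensPair in
  obtain ⟨U, W, a, b, k, ha, has, hb, -, comm⟩ := RelDimSp.exists_chart X.property Y.property f.hom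
  haveI : Flat k.left := hf1 a b k ha hb comm
  haveI : LocallyOfFiniteType k.left := hf2 a b k ha hb comm
  obtain ⟨E, c, i, sqj, hi⟩ := exists_square hj1 b
  haveI : IsOpenImmersion i.left := hi
  have hO : (i.left.opensRange : Set W.left) = Points.ofPt b ⁻¹' Set.range (Points.map j.hom) := by
    ext v
    constructor
    · rintro ⟨w, rfl⟩
      exact ⟨Points.ofPt c w, by rw [Points.map_ofPt, sqj.w, ofPt_comp]⟩
    · rintro ⟨p, hp⟩
      obtain ⟨w, -, hw⟩ := points_surj sqj p (Points.ofScheme W v) (by
        rw [← Points.ofPt_eq_map_ofScheme]; exact hp)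
      obtain ⟨w, rfl⟩ := ofScheme_surjective E w
      rw [map_ofScheme] at hw
      exact ⟨w, (Points.schemeEquiv W).injective hw⟩
  have hd : Dense (i.left.opensRange : Set W.left) := by
    rw [hO]
    refine hj2.preimage ?_
    have e : Points.ofPt b = Points.map b ∘ Points.ofScheme W := funext fun t => Points.ofPt_eq_map_ofScheme _ _
    rw [e]
    exact (isOpenMap_of_repWith_etale hb).comp (Points.schemeHomeo W).isOpenMap
  have key : ∀ u : U.left, k.left u ∈ i.left.opensRange → FlatMor.fibreDimAt k.left u ≤ (d : ℕ) := by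
    intro u hu
    obtain ⟨w, hw⟩ := hu
    obtain ⟨p, hp, -⟩ := points_surj hP (Points.ofPt a u) (Points.ofPt c w) (by
      rw [Points.map_ofPt, comm, Points.map_ofPt, sqj.w, ofPt_comp, ofPt_comp, hw])
    have hat : HasAtMor (fun _ _ h v => FlatMor.fibreDimAt h v = FlatMor.fibreDimAt k.left u) f.hom
        (Points.map fst.hom p) := by
      rw [hp]; exact (RelDimSp.hasAtMor_iff ha hb comm (fun n => n = FlatMor.fibreDimAt k.left u) u).mpr rfl
    obtain ⟨U₁, V₁, a₁, b₁, k₁, u₁, ha₁, hb₁, comm₁, hx₁, h₁⟩ := Groth.Agent.S10311.result f j fst snd hP hf2 p _ hat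
    obtain ⟨U₂, V₂, a₂, b₂, k₂, u₂, ha₂, hb₂, comm₂, hx₂, h₂⟩ := hV p
    calc FlatMor.fibreDimAt k.left u = FlatMor.fibreDimAt k₁.left u₁ := h₁.symm
      _ = FlatMor.fibreDimAt k₂.left u₂ :=
          fibreDimAt_chart_indep ha₁ hb₁ comm₁ ha₂ hb₂ comm₂ u₁ u₂ (hx₂.trans hx₁.symm)
      _ ≤ (d : ℕ) := h₂
  have all : ∀ u : U.left, FlatMor.fibreDimAt k.left u ≤ (d : ℕ) := by
    refine FlatDense.main k.left d fun u hmax => ?_
    rcases h with h | h
    · haveI : LocallyOfFinitePresentation k.left := h a b k ha hb comm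
      exact FlatDense.le_of_maximal_of_lfp k.left _ hd d key u hmax
    · have : QuasiCompact i.left :=
        ((repWith_quasiCompact_iff V.property Y.property hj1.rep).mpr h).property _ _ _ sqj
      refine key u (FlatDense.maximal_mem _ hd ?_ _ hmax)
      intro C hC hCo
      have := QuasiCompact.isCompact_preimage C hCo hC (f := i.left)
      have h2 := this.image i.left.continuous
      rw [Set.image_preimage_eq_inter_range, Set.inter_comm] at h2
      exact h2
  intro x
  obtain ⟨y, rfl⟩ := surjective_of_repWith has x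
  obtain ⟨u, rfl⟩ := ofScheme_surjective U y
  rw [← Points.ofPt_eq_map_ofScheme]
  exact ⟨U, W, a, b, k, u, ha, hb, comm, rfl, all u⟩

end Groth.Agent.S10653
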