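import Groth.Statements.S10678
import Groth.Agent.HensPair.RelDimSp
import Groth.Agent.AlgSpTopo.Pullback
import Groth.Agent.S10311

set_option autoImplicit false
universe u
open CategoryTheory CategoryTheory.Limits AlgebraicGeometry
open AlgSp

namespace Groth.Agent.S10678

/-- For a morphism f : X ⟶ Y of finite type between algebraic spaces over S, a point y of |Y| and any
field point k of Y in the class of y, with fibre X_k (pullback in fppf sheaves): the dimension of
X_k (supremum of the dimensions of its etale scheme charts) is -∞ exactly when y lies outside the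
image of |X|, and for every natural number d it is at most d exactly when f has relative dimension
at most d at every point of |X| over y (some etale chart diagram through the point whose top arrow
has local fibre dimension at most d there). -/
theorem result {S : Scheme.{u}} {X Y : AlgSp.Space S} (f : X ⟶ Y) (hf : AlgSp.IsFiniteTypeMor f.hom)
    (y : AlgSp.Points Y.obj) (k : AlgSp.FieldPt Y.obj) (hk : AlgSp.Points.mk k = y)
    (Xk : AlgSp.Sp S) (fst : Xk ⟶ X.obj) (snd : Xk ⟶ (AlgSp.yon S).obj k.pt) (h : IsPullback fst snd f.hom k.toHom) :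
    (AlgSp.dim Xk = ⊥ ↔ y ∉ Set.range (AlgSp.Points.map f.hom)) ∧
      ∀ d : ℕ, (AlgSp.dim Xk ≤ d ↔
        ∀ x : AlgSp.Points X.obj, AlgSp.Points.map f.hom x = y →
          AlgSp.HasAtMor (fun _ _ h u => FlatMor.fibreDimAt h u ≤ (d : WithBot ℕ∞)) f.hom x) := by
  open AlgSp AlgSpTopo Groth.Agent.HensPair in
  let F : AlgSp.Space S := ⟨Xk, isAlgSpace_of_isPullback X.property Y.property (IsAlgSpace.yon_obj _) h⟩
  let K : AlgSp.Space S := ⟨(yon S).obj k.pt, IsAlgSpace.yon_obj _⟩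
  let p : F ⟶ X := ObjectProperty.homMk fst
  let q : F ⟶ K := ObjectProperty.homMk snd
  let g : K ⟶ Y := ObjectProperty.homMk k.toHom
  obtain ⟨hft, -⟩ := hf
  haveI : Subsingleton ↥k.pt.left := inferInstanceAs (Subsingleton ↥(Spec (CommRingCat.of _)))
  haveI : IsLocallyNoetherian k.pt.left := inferInstanceAs (IsLocallyNoetherian (Spec (CommRingCat.of _)))
  have hky : ∀ w, Points.map k.toHom w = y := by
    intro w
    obtain ⟨t, rfl⟩ := ofScheme_surjective k.pt w
    rw [← Points.ofPt_eq_map_ofScheme, ← hk]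
    refine Points.mk_eq_mk_iff.mpr ⟨↥(k.pt.left.residueField t), inferInstance, k.pt.left.fromSpecResidueField t ≫ k.pt.hom, 𝟙 _,
      Over.homMk (k.pt.left.fromSpecResidueField t) rfl, ?_⟩
    show Y.obj.obj.map (𝟙 _) _ = _
    rw [CategoryTheory.Functor.map_id, CategoryTheory.types_id_apply]
    rfl
  obtain ⟨U₁, T, m, e, a₁, -, -, ha₁, has₁, comm₁⟩ :=
    exists_atlas_chart F.property (IsAlgSpace.yon_obj k.pt) snd (locP_top snd) (repWith_id _ _) (repWith_id _ _)
  have hq : LocP @LocallyOfFiniteType snd := locP_bc etaleLocal_locallyOfFiniteType X.property Y.property K.property h hft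
  haveI : LocallyOfFiniteType (m ≫ e).left := hq a₁ (𝟙 _) (m ≫ e) ha₁ (repWith_id _ _) comm₁
  haveI : IsLocallyNoetherian U₁.left := LocallyOfFiniteType.isLocallyNoetherian (m ≫ e).left
  have hN : IsLocNoethSp Xk := ⟨U₁, a₁, ha₁, has₁, inferInstance⟩
  have hover : ∀ x : Points X.obj, Points.map f.hom x = y ↔ x ∈ Set.range (Points.map fst) := by
    intro x
    constructor
    · intro hx
      obtain ⟨z, hz, -⟩ := points_surj h x (Points.ofScheme k.pt (IsLocalRing.closedPoint k.K : PrimeSpectrum k.K))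
        (hx.trans (hky _).symm)
      exact ⟨z, hz⟩
    · rintro ⟨z, rfl⟩
      rw [← Points.map_comp, h.w, Points.map_comp, hky]
  refine ⟨?_, fun d => ?_⟩
  · constructor
    · intro hb ⟨x, hx⟩
      obtain ⟨z, -⟩ := (hover x).mp hx
      obtain ⟨w, rfl⟩ := surjective_of_repWith has₁ z
      obtain ⟨v, rfl⟩ := ofScheme_surjective U₁ w
      haveI : Nonempty ↥U₁.left := ⟨v⟩
      have h1 : topologicalKrullDim ↥U₁.left ≤ AlgSp.dim Xk := le_iSup_of_le U₁ (le_iSup_of_le a₁ (le_iSup_of_le ha₁ le_rfl))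
      rw [hb] at h1
      have h2 := (Groth.Agent.TopDim.Basic.dim_nonneg (X := ↥U₁.left)).trans h1
      exact absurd h2 (by simp)
    · intro hy
      refine le_bot_iff.mp (iSup_le fun U => iSup_le fun a => iSup_le fun ha => Groth.Agent.TopDim.Basic.dim_le fun s => ?_)
      obtain ⟨w, -⟩ := s.head.2.1
      exact absurd ⟨_, (hover _).mpr ⟨Points.ofPt a w, rfl⟩⟩ hy
  constructor
  · intro hd x hx
    obtain ⟨z, rfl⟩ := (hover x).mp hx
    obtain ⟨U, V, a, b, l, ha, has, hb, -, comm⟩ := RelDimSp.exists_chart X.property Y.property f.hom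
    obtain ⟨w, hw⟩ := surjective_of_repWith has (Points.map fst z)
    obtain ⟨u, rfl⟩ := ofScheme_surjective U w
    rw [← Points.ofPt_eq_map_ofScheme] at hw
    obtain ⟨w₁, hw₁⟩ := surjective_of_repWith has₁ z
    obtain ⟨u₁, rfl⟩ := ofScheme_surjective U₁ w₁
    rw [← Points.ofPt_eq_map_ofScheme] at hw₁
    obtain ⟨U₂, V₂, a₂, b₂, k₂, u₂, ha₂, hb₂, comm₂, hx₂, h₂⟩ := Groth.Agent.S10311.result f g p q h hft z
      (FlatMor.fibreDimAt l.left u) (by
        rw [show Points.map p.hom z = Points.map fst z from rfl, ← hw]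
        exact (RelDimSp.hasAtMor_iff ha hb comm (fun n => n = _) u).mpr rfl)
    rw [← hw]
    refine (RelDimSp.hasAtMor_iff ha hb comm (fun n => n ≤ (d : WithBot ℕ∞)) u).mpr ?_
    rw [← h₂, ← fibreDimAt_chart_indep ha₁ (repWith_id _ _) comm₁ ha₂ hb₂ comm₂ u₁ u₂ (hx₂.trans hw₁.symm),
      FieldTrdeg.fibreDimAt_eq_localDim]
    have h5 : topologicalKrullDim ↥U₁.left ≤ AlgSp.dim Xk :=
      le_iSup_of_le U₁ (le_iSup_of_le a₁ (le_iSup_of_le ha₁ le_rfl))
    exact (Groth.Agent.TopDim.Basic.localDim_le_dim u₁).trans (h5.trans hd)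
  · intro hall
    refine iSup_le fun U => iSup_le fun a => iSup_le fun ha => Groth.Agent.TopDim.Basic.dim_le fun s => ?_
    obtain ⟨v, hv⟩ := s.head.2.1
    obtain ⟨w₁, hw₁⟩ := surjective_of_repWith has₁ (Points.ofPt a v)
    obtain ⟨u₁, rfl⟩ := ofScheme_surjective U₁ w₁
    rw [← Points.ofPt_eq_map_ofScheme] at hw₁
    obtain ⟨U₂, V₂, a₂, b₂, k₂, u₂, ha₂, hb₂, comm₂, hx₂, h₂⟩ := hall _ ((hover _).mpr ⟨Points.ofPt a v, rfl⟩)
    obtain ⟨U₃, V₃, a₃, b₃, k₃, u₃, ha₃, hb₃, comm₃, hx₃, h₃⟩ := Groth.Agent.S10311.result f g p q h hft (Points.ofPt a v)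
      (FlatMor.fibreDimAt k₂.left u₂) ⟨U₂, V₂, a₂, b₂, k₂, u₂, ha₂, hb₂, comm₂, hx₂, rfl⟩
    refine (Groth.Agent.TopDim.Basic.length_le_localDim s hv).trans ?_
    have h4 : FlatMor.localDim ↥U.left v = FlatMor.localDim ↥U₁.left u₁ :=
      (RelDimSp.hasAt_localDim_iff hN ha v _).mp ⟨U₁, a₁, u₁, ha₁, hw₁, rfl⟩
    rw [h4, ← FieldTrdeg.fibreDimAt_eq_localDim (m ≫ e).left,
      fibreDimAt_chart_indep ha₁ (repWith_id _ _) comm₁ ha₃ hb₃ comm₃ u₁ u₃ (hx₃.trans hw₁.symm), h₃]
    exact h₂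

end Groth.Agent.S10678
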