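import Groth.Statements.S6434
import Mathlib.Data.Fintype.Sigma
-- import your own Groth.Agent.* helpers here

set_option autoImplicit false
open CategoryTheory
universe v u v' u'
open CatLoc

namespace Groth.Agent.S6434

/-- The localization functor at a left multiplicative system commutes with finite colimits. -/
theorem result {C : Type u} [Category.{v} C] {D : Type u'} [Category.{v'} D] (W : MorphismProperty C) (L : C ⥤ D) [L.IsLocalization W] [W.HasLeftCalculusOfFractions] :
    Limits.PreservesFiniteColimits L := by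
  classical
  refine ⟨fun J _ fJ => ⟨fun {K} => ⟨fun {c} hc => ⟨?_⟩⟩⟩⟩
  haveI : Fintype J := fJ.fintypeObj
  haveI : ∀ j j' : J, Fintype (j ⟶ j') := fJ.fintypeHom
  haveI : L.EssSurj := Localization.essSurj L W
  -- common denominators
  have den : ∀ (Y : C) (s : Finset J) (f : ∀ j, L.obj (K.obj j) ⟶ L.obj Y),
      ∃ (Y' : C) (t : Y ⟶ Y') (_ : W t), ∀ j ∈ s, ∃ g : K.obj j ⟶ Y', f j ≫ L.map t = L.map g := by
    intro Y s f
    induction s using Finset.induction_on with
    | empty => exact ⟨Y, 𝟙 Y, W.id_mem Y, fun j hj => absurd hj (Finset.notMem_empty j)⟩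
    | insert j₀ s _ ih =>
      obtain ⟨Y₁, t, ht, hg⟩ := ih
      obtain ⟨φ, hφ⟩ := Localization.exists_leftFraction L W (f j₀ ≫ L.map t)
      refine ⟨φ.Y', t ≫ φ.s, W.comp_mem _ _ ht φ.hs, fun j hj => ?_⟩
      rcases Finset.mem_insert.1 hj with rfl | hj
      · exact ⟨φ.f, by rw [L.map_comp, ← Category.assoc, hφ, MorphismProperty.LeftFraction.map_comp_map_s]⟩
      · obtain ⟨g, hg'⟩ := hg j hj
        exact ⟨g ≫ φ.s, by rw [L.map_comp, ← Category.assoc, hg', L.map_comp]⟩
  -- finitely many equalities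
  have eq : ∀ {κ : Type} [Fintype κ] (Y : C) (X : κ → C) (a b : ∀ k, X k ⟶ Y) (_ : ∀ k, L.map (a k) = L.map (b k)),
      ∃ (Y' : C) (t : Y ⟶ Y') (_ : W t), ∀ k, a k ≫ t = b k ≫ t := by
    intro κ _ Y X a b hab
    suffices ∀ s : Finset κ, ∃ (Y' : C) (t : Y ⟶ Y') (_ : W t), ∀ k ∈ s, a k ≫ t = b k ≫ t by
      obtain ⟨Y', t, ht, h⟩ := this Finset.univ
      exact ⟨Y', t, ht, fun k => h k (Finset.mem_univ k)⟩
    intro s
    induction s using Finset.induction_on with
    | empty => exact ⟨Y, 𝟙 Y, W.id_mem Y, fun j hj => absurd hj (Finset.notMem_empty j)⟩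
    | insert k₀ s _ ih =>
      obtain ⟨Y₁, t, ht, hg⟩ := ih
      obtain ⟨Z, t', ht', h'⟩ := (MorphismProperty.map_eq_iff_postcomp L W (a k₀ ≫ t) (b k₀ ≫ t)).1
        (by rw [L.map_comp, L.map_comp, hab])
      refine ⟨Z, t ≫ t', W.comp_mem _ _ ht ht', fun k hk => ?_⟩
      rcases Finset.mem_insert.1 hk with rfl | hk
      · simpa using h'
      · rw [← Category.assoc, hg k hk, Category.assoc]
  have exD : ∀ t : Limits.Cocone (K ⋙ L), ∃ d : L.obj c.pt ⟶ t.pt, ∀ j, L.map (c.ι.app j) ≫ d = t.ι.app j := by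
    intro t
    let e := L.objObjPreimageIso t.pt
    obtain ⟨Y', s, hs, hg⟩ := den _ Finset.univ (fun j => t.ι.app j ≫ e.inv)
    choose g hg using fun j => hg j (Finset.mem_univ j)
    obtain ⟨Y'', r, hr, hrr⟩ := eq (κ := Σ j j' : J, (j ⟶ j')) Y' (fun p => K.obj p.1)
      (fun p => K.map p.2.2 ≫ g p.2.1) (fun p => g p.1) (fun p => by
        rw [L.map_comp, ← hg, ← hg]
        have h := t.w p.2.2
        simp only [Functor.comp_map] at h
        simp [reassoc_of% h])
    have hnat : ∀ (j j' : J) (h : j ⟶ j'), K.map h ≫ g j' ≫ r = (g j ≫ r) ≫ ((Functor.const J).obj Y'').map h := by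
      intro j j' h
      dsimp
      rw [Category.comp_id, ← Category.assoc]
      exact hrr ⟨j, j', h⟩
    let C' : Limits.Cocone K := { pt := Y'', ι := { app := fun j => g j ≫ r, naturality := hnat } }
    haveI := Localization.inverts L W _ (W.comp_mem _ _ hs hr)
    refine ⟨L.map (hc.desc C') ≫ inv (L.map (s ≫ r)) ≫ e.hom, fun j => ?_⟩
    rw [← Category.assoc, ← L.map_comp, hc.fac]
    show L.map (g j ≫ r) ≫ _ = _
    rw [L.map_comp, ← hg, ← cancel_mono e.inv]
    simp
  have uniq : ∀ (Z : D) (a b : L.obj c.pt ⟶ Z), (∀ j, L.map (c.ι.app j) ≫ a = L.map (c.ι.app j) ≫ b) → a = b := by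
    intro Z a b h
    let e := L.objObjPreimageIso Z
    obtain ⟨φ, hφ⟩ := Localization.exists_leftFraction L W (a ≫ e.inv)
    obtain ⟨ψ, hψ⟩ := Localization.exists_leftFraction L W ((b ≫ e.inv) ≫ L.map φ.s)
    have ha : a ≫ e.inv ≫ L.map (φ.s ≫ ψ.s) = L.map (φ.f ≫ ψ.s) := by
      rw [L.map_comp, L.map_comp, ← Category.assoc, ← Category.assoc, hφ, MorphismProperty.LeftFraction.map_comp_map_s]
    have hb : b ≫ e.inv ≫ L.map (φ.s ≫ ψ.s) = L.map ψ.f := by
      rw [L.map_comp, ← Category.assoc, ← Category.assoc, hψ, MorphismProperty.LeftFraction.map_comp_map_s]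
    obtain ⟨Z', r, hr, hrr⟩ := eq (κ := J) ψ.Y' (fun j => K.obj j) (fun j => c.ι.app j ≫ φ.f ≫ ψ.s)
      (fun j => c.ι.app j ≫ ψ.f) (fun j => by
        rw [L.map_comp, L.map_comp (c.ι.app j) ψ.f, ← ha, ← hb, reassoc_of% (h j)])
    have heq : (φ.f ≫ ψ.s) ≫ r = ψ.f ≫ r := hc.hom_ext fun j => by simpa using hrr j
    haveI := Localization.inverts L W _ hr
    haveI := Localization.inverts L W _ (W.comp_mem _ _ φ.hs ψ.hs)
    rw [← cancel_mono e.inv, ← cancel_mono (L.map (φ.s ≫ ψ.s)), Category.assoc, Category.assoc, ha, hb,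
      ← cancel_mono (L.map r), ← L.map_comp, ← L.map_comp, heq]
  exact
    { desc := fun t => (exD t).choose
      fac := fun t j => (exD t).choose_spec j
      uniq := fun t m hm => uniq _ _ _ fun j => (hm j).trans ((exD t).choose_spec j).symm }

end Groth.Agent.S6434
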