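import Groth.Statements.S1072
import Groth.Agent.S6434
import Mathlib.CategoryTheory.Localization.CalculusOfFractions.Preadditive
import Mathlib.CategoryTheory.Localization.Opposite
import Mathlib.CategoryTheory.Limits.Preserves.Opposites
import Mathlib.CategoryTheory.Abelian.SerreClass.Localization

set_option autoImplicit false
universe v v' u u'
open CategoryTheory CategoryTheory.Limits
open CohDer

namespace Groth.Agent.S1072

/-- Let A be an abelian category, W a class of morphisms admitting both left and right calculus of
fractions, and L : A ⥤ D a localization functor for W. Then D admits the structure of an abelian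
category and L is exact (preserves finite limits and finite colimits). -/
theorem result {A : Type u} [Category.{v} A] [Abelian A]
    (W : MorphismProperty A) [W.HasLeftCalculusOfFractions] [W.HasRightCalculusOfFractions]
    {D : Type u'} [Category.{v'} D] (L : A ⥤ D) [L.IsLocalization W] :
    Nonempty (Abelian D) ∧ PreservesFiniteLimits L ∧ PreservesFiniteColimits L := by
  haveI hR : PreservesFiniteColimits L := Groth.Agent.S6434.result W L
  haveI : PreservesFiniteColimits L.op := Groth.Agent.S6434.result W.op L.op
  haveI hL : PreservesFiniteLimits L := preservesFiniteLimits_of_op L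
  letI : Preadditive D := Localization.preadditive L W
  haveI : L.Additive := Localization.functor_additive L W
  haveI := Localization.essSurj L W
  haveI : HasFiniteProducts D := L.hasFiniteProducts_of_additive_of_essSurj
  haveI : L.mapArrow.EssSurj := Localization.essSurj_mapArrow L W
  haveI : HasKernels D := ⟨fun {X Y} f => by
    obtain ⟨g, ⟨e⟩⟩ : L.mapArrow.essImage (Arrow.mk f) := Functor.EssSurj.mem_essImage (F := L.mapArrow) (Arrow.mk f)
    have : HasLimit (parallelPair (L.map g.hom) 0) :=
      ⟨_, (KernelFork.isLimitMapConeEquiv _ L).1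
        (isLimitOfPreserves L (kernelIsKernel g.hom))⟩
    exact hasLimit_of_iso (show parallelPair (L.map g.hom) 0 ≅ _ from
      parallelPair.ext (Arrow.leftFunc.mapIso e) (Arrow.rightFunc.mapIso e) e.hom.w.symm (by simp))⟩
  haveI : HasCokernels D := ⟨fun {X Y} f => by
    obtain ⟨g, ⟨e⟩⟩ : L.mapArrow.essImage (Arrow.mk f) := Functor.EssSurj.mem_essImage (F := L.mapArrow) (Arrow.mk f)
    have : HasColimit (parallelPair (L.map g.hom) 0) :=
      ⟨_, (CokernelCofork.isColimitMapCoconeEquiv _ L).1
        (isColimitOfPreserves L (cokernelIsCokernel g.hom))⟩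
    exact hasColimit_of_iso (show _ ≅ parallelPair (L.map g.hom) 0 from
      parallelPair.ext (Arrow.leftFunc.mapIso e.symm) (Arrow.rightFunc.mapIso e.symm) e.inv.w.symm
        (by simp))⟩
  haveI : IsNormalMonoCategory D := ⟨fun {X Y} f hf => by
    obtain ⟨g, ⟨e⟩⟩ : L.mapArrow.essImage (Arrow.mk f) := Functor.EssSurj.mem_essImage (F := L.mapArrow) (Arrow.mk f)
    haveI : Mono (L.map g.hom) :=
      ((MorphismProperty.monomorphisms D).arrow_mk_iso_iff e).2 (MorphismProperty.monomorphisms.infer_property f)
    have h0 : L.map (kernel.ι g.hom) = 0 := by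
      rw [← cancel_mono (L.map g.hom), zero_comp, ← L.map_comp, kernel.condition, L.map_zero]
    have hz : L.map (𝟙 (kernel g.hom)) = 0 := by
      have : Mono (L.map (kernel.ι g.hom)) := inferInstance
      rw [← cancel_mono (L.map (kernel.ι g.hom)), zero_comp, ← L.map_comp, Category.id_comp, h0]
    haveI : IsIso (L.map (Abelian.factorThruImage g.hom)) := by
      haveI : Epi (L.map (Abelian.factorThruImage g.hom)) := inferInstance
      have hm : Mono (L.map (Abelian.factorThruImage g.hom)) := by
        have : Mono (L.map (Abelian.factorThruImage g.hom) ≫ L.map (Abelian.image.ι g.hom)) := by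
          rw [← L.map_comp, Abelian.image.fac]; infer_instance
        exact mono_of_mono _ (L.map (Abelian.image.ι g.hom))
      haveI := normalEpiOfEpi (Abelian.factorThruImage g.hom)
      let ne := normalEpiOfEpi (Abelian.factorThruImage g.hom)
      have hg : L.map ne.g = 0 := by
        rw [← cancel_mono (L.map (Abelian.factorThruImage g.hom)), zero_comp, ← L.map_comp, ne.w,
          L.map_zero]
      obtain ⟨r, hr⟩ := CokernelCofork.IsColimit.desc'
        ((CokernelCofork.isColimitMapCoconeEquiv _ L).1 (isColimitOfPreserves L ne.isColimit))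
        (𝟙 (L.obj g.left)) (by simp [hg])
      have hr' : L.map (Abelian.factorThruImage g.hom) ≫ r = 𝟙 _ := hr
      exact ⟨r, hr', by rw [← cancel_epi (L.map (Abelian.factorThruImage g.hom)),
        reassoc_of% hr', Category.comp_id]⟩
    let nm := normalMonoOfMono (Abelian.image.ι g.hom)
    have e' : Arrow.mk (L.map (Abelian.image.ι g.hom)) ≅ Arrow.mk f :=
      (Arrow.isoMk (asIso (L.map (Abelian.factorThruImage g.hom))).symm (Iso.refl _) (by
        simp [← L.map_comp]) : Arrow.mk (L.map (Abelian.image.ι g.hom)) ≅ Arrow.mk (L.map g.hom)) ≪≫ e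
    refine ⟨NormalMono.ofArrowIso ?_ e'⟩
    exact {
      Z := L.obj nm.Z
      g := L.map nm.g
      w := by rw [← L.map_comp]; simp [nm.w]
      isLimit := (KernelFork.isLimitMapConeEquiv _ L).1 (isLimitOfPreserves L nm.isLimit) }⟩
  haveI : IsNormalEpiCategory D := ⟨fun {X Y} f hf => by
    obtain ⟨g, ⟨e⟩⟩ : L.mapArrow.essImage (Arrow.mk f) := Functor.EssSurj.mem_essImage (F := L.mapArrow) (Arrow.mk f)
    haveI : Epi (L.map g.hom) :=
      ((MorphismProperty.epimorphisms D).arrow_mk_iso_iff e).2 (MorphismProperty.epimorphisms.infer_property f)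
    haveI : IsIso (L.map (Abelian.image.ι g.hom)) := by
      haveI : Mono (L.map (Abelian.image.ι g.hom)) := inferInstance
      haveI : Epi (L.map (Abelian.image.ι g.hom)) := by
        have : Epi (L.map (Abelian.factorThruImage g.hom) ≫ L.map (Abelian.image.ι g.hom)) := by
          rw [← L.map_comp, Abelian.image.fac]; infer_instance
        exact epi_of_epi (L.map (Abelian.factorThruImage g.hom)) _
      let nm := normalMonoOfMono (Abelian.image.ι g.hom)
      have hg : L.map nm.g = 0 := by
        rw [← cancel_epi (L.map (Abelian.image.ι g.hom)), comp_zero, ← L.map_comp, nm.w, L.map_zero]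
      obtain ⟨r, hr⟩ := KernelFork.IsLimit.lift'
        ((KernelFork.isLimitMapConeEquiv _ L).1 (isLimitOfPreserves L nm.isLimit))
        (𝟙 (L.obj g.right)) (by simp [hg])
      have hr' : r ≫ L.map (Abelian.image.ι g.hom) = 𝟙 _ := hr
      exact ⟨r, (cancel_mono (L.map (Abelian.image.ι g.hom))).1 ((Category.assoc _ _ _).trans
        ((congrArg (_ ≫ ·) hr').trans ((Category.comp_id _).trans (Category.id_comp _).symm))), hr'⟩
    let ne := normalEpiOfEpi (Abelian.factorThruImage g.hom)
    have e' : Arrow.mk (L.map (Abelian.factorThruImage g.hom)) ≅ Arrow.mk f :=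
      (Arrow.isoMk (Iso.refl _) (asIso (L.map (Abelian.image.ι g.hom))) (by
        simp [← L.map_comp]) : Arrow.mk (L.map (Abelian.factorThruImage g.hom)) ≅ Arrow.mk (L.map g.hom)) ≪≫ e
    refine ⟨NormalEpi.ofArrowIso ?_ e'⟩
    exact {
      W := L.obj ne.W
      g := L.map ne.g
      w := by rw [← L.map_comp]; simp [ne.w]
      isColimit := (CokernelCofork.isColimitMapCoconeEquiv _ L).1 (isColimitOfPreserves L ne.isColimit) }⟩
  exact ⟨⟨{}⟩, hL, hR⟩

end Groth.Agent.S1072
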