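import Groth.Statements.S10724
import Groth.Agent.EtAlg.Glue.Alg

set_option autoImplicit false
universe u
open TensorProduct
open EtAlg

namespace Groth.Agent.S10724

/-- Glueing along a glueing pair detects etale morphisms of affine schemes, stated for coordinate rings.
Let `(R → R', f)` be a glueing pair and `φ : A → B` a homomorphism of `R`-algebras with `A`, `B`
glueable as `R`-modules (so `Spec A`, `Spec B` are affine and glueable over `Spec R`). Then `φ` is
etale if and only if `A_f → B_f` and `R' ⊗_R A → R' ⊗_R B` are. -/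
theorem result (R : Type u) [CommRing R] (R' : Type u) [CommRing R'] [Algebra R R'] (f : R)
    (hRR' : EtGlue.IsGlueingPair R R' f) (A B : Type u) [CommRing A] [Algebra R A] [CommRing B] [Algebra R B]
    (hA : EtGlue.IsGlueable R R' f A) (hB : EtGlue.IsGlueable R R' f B) (φ : A →ₐ[R] B) :
    φ.toRingHom.Etale ↔ (Localization.awayMap φ.toRingHom (algebraMap R A f)).Etale ∧ (Algebra.TensorProduct.map (AlgHom.id R R') φ).toRingHom.Etale := by
  let _ : Algebra A B := φ.toRingHom.toAlgebra
  have : IsScalarTower R A B := IsScalarTower.of_algebraMap_eq' φ.comp_algebraMap.symm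
  refine EtAlg.Glue.Alg.iff_of_detect RingHom.Etale.respectsIso RingHom.Etale.isStableUnderBaseChange
    hRR' hA fun h h1 h2 => ?_
  rw [RingHom.Etale.iff_flat_and_formallyUnramified] at h1 h2 ⊢
  have hf := EtAlg.Glue.Alg.flat_of_pair' h (RingHom.flat_algebraMap_iff.mp h1.1) (RingHom.flat_algebraMap_iff.mp h2.1)
  have := RingHom.finitePresentation_algebraMap.mp h1.2.2
  have := RingHom.finitePresentation_algebraMap.mp h2.2.2
  have := RingHom.formallyUnramified_algebraMap.mp h1.2.1
  have := RingHom.formallyUnramified_algebraMap.mp h2.2.1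
  exact ⟨RingHom.flat_algebraMap_iff.mpr hf, RingHom.formallyUnramified_algebraMap.mpr (EtAlg.Glue.Alg.unramified_alg h),
    RingHom.finitePresentation_algebraMap.mpr (EtAlg.Glue.Alg.finitePresentation_alg h)⟩

end Groth.Agent.S10724
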