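import Groth.Statements.S10727
import Groth.Agent.EtAlg.Glue.Alg
import Mathlib.RingTheory.Localization.Away.Basic
import Mathlib.Algebra.Algebra.Subalgebra.Prod

set_option autoImplicit false
universe u
open TensorProduct
open EtAlg

namespace Groth.Agent.S10727

/-- Glueing affine schemes along a glueing pair, stated for their coordinate rings. Let `(R → R', f)` be
a glueing pair, `A₁` an `R`-algebra in which `f` is invertible, `A'` an `R'`-algebra and `φ : A'_f ≅
R' ⊗_R A₁` an isomorphism of `R'`-algebras. Then there is an `R`-algebra `A`, glueable as an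
`R`-module, with isomorphisms `A_f ≅ A₁` of `R`-algebras and `R' ⊗_R A ≅ A'` of `R'`-algebras under
which `φ` is the canonical identification `(R' ⊗_R A)_f = R' ⊗_R A_f`. (The published statement is
that base change is an equivalence between affine schemes over `Spec R` that are glueable and
triples of affine schemes over `Spec R_f`, `Spec R'_f`, `Spec R'` with cartesian squares; this row
states only that every such triple arises, on coordinate rings.) -/
theorem result (R : Type u) [CommRing R] (R' : Type u) [CommRing R'] [Algebra R R']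
    (f : R) (hRR' : EtGlue.IsGlueingPair R R' f) (A₁ : Type u) [CommRing A₁] [Algebra R A₁]
    (h₁ : IsUnit (algebraMap R A₁ f)) (A' : Type u) [CommRing A'] [Algebra R A'] [Algebra R' A']
    [IsScalarTower R R' A'] (φ : Localization.Away (algebraMap R A' f) ≃ₐ[R'] R' ⊗[R] A₁) :
    ∃ (A : Type u) (_ : CommRing A) (_ : Algebra R A) (_ : EtGlue.IsGlueable R R' f A)
      (e₁ : Localization.Away (algebraMap R A f) ≃ₐ[R] A₁) (e' : R' ⊗[R] A ≃ₐ[R'] A'),
      ∀ a : A, φ (algebraMap A' (Localization.Away (algebraMap R A' f)) (e' ((1 : R') ⊗ₜ[R] a))) =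
        (1 : R') ⊗ₜ[R] e₁ (algebraMap A (Localization.Away (algebraMap R A f)) a) := by
  classical
  let f' := algebraMap R A' f
  let c : A' →ₐ[R'] Localization.Away f' := IsScalarTower.toAlgHom R' A' _
  let a : A' →ₐ[R'] R' ⊗[R] A₁ := φ.toAlgHom.comp c
  let b : A₁ →ₐ[R] R' ⊗[R] A₁ := Algebra.TensorProduct.includeRight
  let A : Subalgebra R (A' × A₁) :=
    AlgHom.equalizer ((a.restrictScalars R).comp (AlgHom.fst R A' A₁)) (b.comp (AlgHom.snd R A' A₁))
  let p' : A →ₐ[R] A' := (AlgHom.fst R A' A₁).comp A.val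
  let p₁ : A →ₐ[R] A₁ := (AlgHom.snd R A' A₁).comp A.val
  have hp : ∀ m : A, a (p' m) = (1 : R') ⊗ₜ[R] p₁ m := fun m => m.2
  have hinjA : ∀ x y : A, p' x = p' y → p₁ x = p₁ y → x = y := fun x y h h' => Subtype.ext (Prod.ext h h')
  have ha0 : ∀ x, a x = 0 → ∃ n : ℕ, f ^ n • x = 0 := fun x hx => by
    obtain ⟨⟨_, n, rfl⟩, hn⟩ := (IsLocalization.map_eq_zero_iff (Submonoid.powers f') _ x).mp
      (φ.injective (hx.trans (map_zero φ).symm))
    exact ⟨n, by rw [Algebra.smul_def, map_pow]; exact hn⟩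
  have hu : ∀ n : ℕ, IsUnit (algebraMap R A₁ (f ^ n)) := fun n => by rw [map_pow]; exact h₁.pow n
  have hlift : ∀ m₁ : A₁, ∃ k : ℕ, ∀ j ≥ k, ∃ m : A, p₁ m = f ^ j • m₁ := fun m₁ => by
    obtain ⟨k, x, hx⟩ := IsLocalization.Away.surj f' (φ.symm ((1 : R') ⊗ₜ[R] m₁))
    have hax : a x = (1 : R') ⊗ₜ[R] (f ^ k • m₁) := by
      show φ (c x) = _
      rw [show c x = _ from hx.symm, map_mul, φ.apply_symm_apply, map_pow, show algebraMap A' (Localization.Away f') f' =
        algebraMap R' _ (algebraMap R R' f) from by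
          rw [← IsScalarTower.algebraMap_apply R R', IsScalarTower.algebraMap_apply R A' (Localization.Away f')],
        φ.commutes, ← IsScalarTower.algebraMap_apply R R', ← map_pow, mul_comm, ← Algebra.smul_def, tmul_smul]
    refine ⟨k, fun j hj => ?_⟩
    obtain ⟨i, rfl⟩ := Nat.exists_eq_add_of_le hj
    refine ⟨⟨(f ^ i • x, f ^ (k + i) • m₁), ?_⟩, rfl⟩
    show a (f ^ i • x) = (1 : R') ⊗ₜ[R] (f ^ (k + i) • m₁)
    rw [show a (f ^ i • x) = f ^ i • a x from map_smul (a.restrictScalars R) _ _, hax, ← tmul_smul, smul_smul,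
      ← pow_add, add_comm]
  -- glueable
  have htors : ∀ m : A, (∃ n : ℕ, f ^ n • m = 0) → p₁ m = 0 := fun m ⟨n, hn⟩ => (hu n).mul_right_eq_zero.mp (by
    rw [← Algebra.smul_def, ← map_smul, hn, map_zero])
  let e'₀ : R' ⊗[R] A →ₐ[R'] A' := Algebra.TensorProduct.lift (Algebra.ofId R' A') p' fun _ _ => Commute.all _ _
  have he'₀ : ∀ r m, e'₀ (r ⊗ₜ[R] m) = r • p' m := fun r m => by
    rw [Algebra.TensorProduct.lift_tmul, Algebra.smul_def]; rfl
  have hglue : EtGlue.IsGlueable R R' f A :=
    (EtAlg.Glue.Basic.isGlueable_iff_of_pair hRR').mpr fun m hm hm' => by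
      have h := congrArg e'₀ hm'
      rw [he'₀, one_smul, map_zero] at h
      exact hinjA m 0 (h.trans (map_zero p').symm) ((htors m hm).trans (map_zero p₁).symm)
  -- localization at f
  let fA := algebraMap R A f
  have hunit : IsUnit (p₁ fA) := by rw [p₁.commutes]; exact h₁
  let _ : Algebra A A₁ := p₁.toRingHom.toAlgebra
  have hloc : IsLocalization.Away fA A₁ := by
    refine ⟨fun y => ?_, fun z => ?_, fun {x y} hxy => ?_⟩
    · obtain ⟨n, hn⟩ := y.2
      show IsUnit (p₁ y.1)
      rw [← hn, map_pow]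
      exact hunit.pow n
    · obtain ⟨k, hk⟩ := hlift z
      obtain ⟨m, hm⟩ := hk k le_rfl
      refine ⟨⟨m, ⟨fA ^ k, k, rfl⟩⟩, ?_⟩
      show z * p₁ (fA ^ k) = p₁ m
      rw [map_pow, p₁.commutes, hm, Algebra.smul_def, map_pow, mul_comm]
    · obtain ⟨n, hn⟩ := ha0 (p' (x - y)) (by
        rw [hp, map_sub, show p₁ x = p₁ y from hxy, sub_self, tmul_zero])
      refine ⟨⟨fA ^ n, n, rfl⟩, hinjA _ _ ?_ ?_⟩
      · show p' (fA ^ n * x) = p' (fA ^ n * y)
        rw [← sub_eq_zero, ← map_sub, ← mul_sub, map_mul, map_pow, p'.commutes, ← map_pow, ← Algebra.smul_def, hn]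
      · show p₁ (fA ^ n * x) = p₁ (fA ^ n * y)
        rw [map_mul, map_mul, show p₁ x = p₁ y from hxy]
  let ea := IsLocalization.algEquiv (Submonoid.powers fA) (Localization.Away fA) A₁
  let e₁ : Localization.Away fA ≃ₐ[R] A₁ := AlgEquiv.ofRingEquiv (f := ea.toRingEquiv) fun r => by
    show ea (algebraMap R (Localization.Away fA) r) = _
    rw [IsScalarTower.algebraMap_apply R A (Localization.Away fA), ea.commutes]
    exact p₁.commutes r
  -- surjectivity over R'
  have hsurj : Function.Surjective e'₀ := fun x => by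
    have key : ∀ z : R' ⊗[R] A₁, ∃ (w : R' ⊗[R] A) (m₁ : A₁), z = a (e'₀ w) + (1 : R') ⊗ₜ[R] m₁ := fun z => by
      induction z using TensorProduct.induction_on with
      | zero => exact ⟨0, 0, by simp⟩
      | add x y hx hy =>
        obtain ⟨⟨w, m, hw⟩, w', m', hw'⟩ := hx, hy
        exact ⟨w + w', m + m', by rw [hw, hw', map_add, map_add, tmul_add]; abel⟩
      | tmul r m₁ =>
        obtain ⟨k, hk⟩ := hlift m₁
        obtain ⟨m, hm⟩ := hk k le_rfl
        obtain ⟨s, y, hy⟩ := EtAlg.Glue.Basic.exists_decomp hRR'.1 k r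
        refine ⟨y ⊗ₜ m, s • m₁, ?_⟩
        rw [he'₀, map_smul, hp, hm, hy, add_tmul, tmul_smul, tmul_smul, TensorProduct.smul_tmul',
          TensorProduct.smul_tmul', TensorProduct.smul_tmul']
        simp only [Algebra.smul_def, mul_one, map_pow]
        rw [show algebraMap R' R' y = y from rfl, mul_comm y]; abel
    obtain ⟨w, m₁, hw⟩ := key (a x)
    let m : A := ⟨(x - e'₀ w, m₁), show a (x - e'₀ w) = (1 : R') ⊗ₜ[R] m₁ by rw [map_sub, hw, add_sub_cancel_left]⟩
    exact ⟨(1 : R') ⊗ₜ m + w, by rw [map_add, he'₀, one_smul]; exact sub_add_cancel x _⟩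
  have hinj : Function.Injective e'₀ := by
    rw [injective_iff_map_eq_zero]
    intro z hz
    have hb1 : p₁.toLinearMap.lTensor R' z = 0 := by
      have key : ∀ z : R' ⊗[R] A, p₁.toLinearMap.lTensor R' z = a (e'₀ z) := fun z => by
        induction z using TensorProduct.induction_on with
        | zero => simp
        | add x y hx hy => simp only [map_add, hx, hy]
        | tmul r m =>
          rw [he'₀, map_smul, hp, LinearMap.lTensor_tmul, TensorProduct.smul_tmul', smul_eq_mul, mul_one]; rfl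
      rw [key, hz, map_zero]
    have hP : IsLocalizedModule (Submonoid.powers f) p₁.toLinearMap := by
      refine ⟨fun ⟨_, n, rfl⟩ => (Module.End.isUnit_iff _).mpr ?_, fun m₁ => ?_, fun {x y} hxy => ?_⟩
      · have : (⇑(algebraMap R (Module.End R A₁) (f ^ n)) : A₁ → A₁) = fun x => algebraMap R A₁ (f ^ n) * x :=
          funext fun x => Algebra.smul_def _ x
        rw [this]
        exact IsUnit.isUnit_iff_mulLeft_bijective.mp (hu n)
      · obtain ⟨k, hk⟩ := hlift m₁
        obtain ⟨m, hm⟩ := hk k le_rfl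
        exact ⟨⟨m, ⟨f ^ k, k, rfl⟩⟩, hm.symm⟩
      · obtain ⟨n, hn⟩ := ha0 (p' (x - y)) (by rw [hp, map_sub, show p₁ x = p₁ y from hxy, sub_self, tmul_zero])
        refine ⟨⟨f ^ n, n, rfl⟩, hinjA _ _ ?_ ?_⟩
        · show p' (f ^ n • x) = p' (f ^ n • y)
          rw [← sub_eq_zero, map_smul, map_smul, ← smul_sub, ← map_sub, hn]
        · show p₁ (f ^ n • x) = p₁ (f ^ n • y)
          rw [map_smul, map_smul, show p₁ x = p₁ y from hxy]
    have : IsLocalizedModule (Submonoid.powers f) (TensorProduct.AlgebraTensorModule.rTensor R R' p₁.toLinearMap) :=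
      inferInstance
    have key : ∀ z : R' ⊗[R] A, TensorProduct.AlgebraTensorModule.rTensor R R' p₁.toLinearMap
        (TensorProduct.comm R R' A z) = TensorProduct.comm R R' A₁ (p₁.toLinearMap.lTensor R' z) := fun z => by
      induction z using TensorProduct.induction_on with
      | zero => simp
      | add x y hx hy => simp only [map_add, hx, hy]
      | tmul r m => rfl
    obtain ⟨⟨_, n, rfl⟩, hn⟩ := (IsLocalizedModule.eq_zero_iff (Submonoid.powers f) _).mp
      ((key z).trans (by rw [hb1, map_zero]))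
    have hnz : f ^ n • z = 0 := (TensorProduct.comm R R' A).injective (by rw [map_smul, map_zero]; exact hn)
    obtain ⟨m, hm, rfl⟩ := EtAlg.Glue.Basic.torsionSurj_of_pair hRR' z ⟨n, hnz⟩
    rw [show m = 0 from hinjA m 0 ((one_smul R' (p' m)).symm.trans ((he'₀ 1 m).symm.trans hz) |>.trans (map_zero p').symm)
      ((htors m hm).trans (map_zero p₁).symm), tmul_zero]
  refine ⟨A, inferInstance, inferInstance, hglue, e₁, AlgEquiv.ofBijective e'₀ ⟨hinj, hsurj⟩, fun m => ?_⟩
  show φ (c (e'₀ ((1 : R') ⊗ₜ[R] m))) = _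
  rw [he'₀, one_smul]
  exact (hp m).trans (congrArg ((1 : R') ⊗ₜ[R] ·) (ea.commutes m).symm)

end Groth.Agent.S10727
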