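import Groth.Statements.S1075
import Groth.Agent.KInjRes.DerivedCat
import Groth.Agent.CxRes.Basic
import Mathlib.Algebra.Homology.DerivedCategory.TStructure

set_option autoImplicit false
universe w v u
open CategoryTheory CategoryTheory.Limits
open CohDer

namespace Groth.Agent.S1075

/-- In D(A), for A abelian with enough injectives and countable products, every sequence of
bounded-below objects has a product, so derived limits of such sequences exist. -/
theorem result {A : Type u} [Category.{v} A] [Abelian A] [HasDerivedCategory.{w} A]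
    [HasLimitsOfShape (Discrete ℕ) A] [EnoughInjectives A]
    (K : ℕ → DerivedCategory A) (hK : ∀ n, ∃ a : ℤ, (K n).IsGE a) : HasProduct K := by
  have hI : ∀ n, ∃ I : CochainComplex A ℤ, I.IsKInjective ∧ Nonempty (DerivedCategory.Q.obj I ≅ K n) := by
    intro n
    obtain ⟨a, ha⟩ := hK n
    obtain ⟨K₀, _, ⟨e₀⟩⟩ := DerivedCategory.exists_iso_Q_obj_of_isGE (K n) a
    obtain ⟨L, α, hLa, hL, -, hα⟩ := CxRes.exists_resolution (fun J : A => Injective J)
      ⟨_, isZero_zero A, (isZero_zero A).injective⟩
      (fun J => ⟨Injective.under J, Injective.ι J, inferInstance, inferInstance⟩) K₀ a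
    haveI : ∀ i, Injective (L.X i) := hL
    exact ⟨L, CochainComplex.isKInjective_of_injective L a,
      ⟨(asIso (DerivedCategory.Q.map α)).symm ≪≫ e₀.symm⟩⟩
  choose I hI he using hI
  have e : ∀ t, DerivedCategory.Q.obj (I t) ≅ K t := fun t => (he t).some
  haveI : HasProduct I := inferInstance
  haveI hP : (∏ᶜ I).IsKInjective := ⟨fun {X} f hX => by
    choose g hg using fun t => show ∃ g : CochainComplex.mappingCone (𝟙 X) ⟶ I t,
        CochainComplex.mappingCone.inr (𝟙 X) ≫ g = f ≫ Pi.π I t by
      haveI := hI t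
      let H := CochainComplex.IsKInjective.homotopyZero (f ≫ Pi.π I t) hX
      refine ⟨CochainComplex.mappingCone.desc (𝟙 X) (CochainComplex.HomComplex.Cochain.ofHomotopy H)
        (f ≫ Pi.π I t) ?_, CochainComplex.mappingCone.inr_desc _ _ _ _⟩
      simp
    have hf : f = CochainComplex.mappingCone.inr (𝟙 X) ≫ Pi.lift g :=
      Pi.hom_ext _ _ fun t => by simp [hg]
    exact ⟨(Homotopy.ofEq (by rw [hf]; simp)).trans
      ((((CochainComplex.mappingCone.homotopyToZeroOfId X).compLeft
        (CochainComplex.mappingCone.inr (𝟙 X))).compRight (Pi.lift g)).trans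
          (Homotopy.ofEq (by simp)))⟩⟩
  let c : Fan K := Fan.mk (DerivedCategory.Q.obj (∏ᶜ I))
    fun t => DerivedCategory.Q.map (Pi.π I t) ≫ (e t).hom
  have hex : ∀ s : Fan K, ∃! m : s.pt ⟶ c.pt, ∀ t, m ≫ c.proj t = s.proj t := fun s => by
    let i := (DerivedCategory.Q.objObjPreimageIso s.pt)
    let X := DerivedCategory.Q.objPreimage s.pt
    choose a ha using fun t => (haveI := hI t
      (KInjRes.Q_map_kInjective X (I t)).1 (i.hom ≫ s.proj t ≫ (e t).inv))
    refine ⟨i.inv ≫ DerivedCategory.Q.map (Pi.lift a), fun t => ?_, fun m hm => ?_⟩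
    · show (i.inv ≫ DerivedCategory.Q.map (Pi.lift a)) ≫ DerivedCategory.Q.map (Pi.π I t) ≫ (e t).hom =
        s.proj t
      rw [Category.assoc, ← DerivedCategory.Q.map_comp_assoc, Pi.lift_π, ha]
      simp
    · obtain ⟨b, hb⟩ := (KInjRes.Q_map_kInjective X (∏ᶜ I)).1 (i.hom ≫ m)
      have h0 : ∀ t, ∃ g : CochainComplex.mappingCone (𝟙 X) ⟶ I t,
          CochainComplex.mappingCone.inr (𝟙 X) ≫ g = (b - Pi.lift a) ≫ Pi.π I t := fun t => by
        haveI := hI t
        have h1 : DerivedCategory.Q.map ((b - Pi.lift a) ≫ Pi.π I t) =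
            DerivedCategory.Q.map (0 : X ⟶ I t) := by
          have h2 : (i.hom ≫ m) ≫ DerivedCategory.Q.map (Pi.π I t) = i.hom ≫ s.proj t ≫ (e t).inv := by
            rw [← hm t]
            simp only [c, fan_mk_proj, Category.assoc, Iso.hom_inv_id, Category.comp_id]
          rw [Preadditive.sub_comp, Functor.map_sub, DerivedCategory.Q.map_comp, hb, h2, Pi.lift_π, ha,
            sub_self, Functor.map_zero]
        obtain ⟨H⟩ := (KInjRes.Q_map_kInjective X (I t)).2 _ _ h1
        exact ⟨CochainComplex.mappingCone.desc (𝟙 X) (CochainComplex.HomComplex.Cochain.ofHomotopy H)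
          ((b - Pi.lift a) ≫ Pi.π I t) (by simp), CochainComplex.mappingCone.inr_desc _ _ _ _⟩
      choose g hg using h0
      have h3 : b - Pi.lift a = CochainComplex.mappingCone.inr (𝟙 X) ≫ Pi.lift g :=
        Pi.hom_ext _ _ fun t => by simp [hg]
      have hz : IsZero (DerivedCategory.Q.obj (CochainComplex.mappingCone (𝟙 X))) := by
        refine (DerivedCategory.Qh.map_isZero ?_).of_iso
          ((DerivedCategory.quotientCompQhIso A).app _).symm
        exact (HomotopyCategory.isZero_quotient_obj_iff _).2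
          ⟨CochainComplex.mappingCone.homotopyToZeroOfId X⟩
      have h4 : DerivedCategory.Q.map (b - Pi.lift a) = 0 := by
        rw [h3, DerivedCategory.Q.map_comp,
          hz.eq_of_tgt (DerivedCategory.Q.map (CochainComplex.mappingCone.inr (𝟙 X))) 0, zero_comp]
      rw [Functor.map_sub, sub_eq_zero] at h4
      rw [← h4, hb, Iso.inv_hom_id_assoc]
  exact HasLimit.mk ⟨c, mkFanLimit c (fun s => (hex s).exists.choose)
    (fun s t => (hex s).exists.choose_spec t)
    (fun s m hm => (hex s).unique hm (hex s).exists.choose_spec)⟩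

end Groth.Agent.S1075
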