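import Groth.Statements.S10825
import Mathlib.RingTheory.Norm.Transitivity
import Mathlib.FieldTheory.Minpoly.IsIntegrallyClosed
import Mathlib.RingTheory.Ideal.GoingUp
import Mathlib.RingTheory.KrullDimension.NonZeroDivisors
import Mathlib.RingTheory.Spectrum.Prime.Topology

set_option autoImplicit false
universe u
open Topology
open CAlg

namespace Groth.Agent.S10825

/-- The topological dimension of a zero locus is the length of chains in it. -/
private theorem dim_zeroLocus {R : Type u} [CommRing R] (s : Set R) :
    topologicalKrullDim ↥(PrimeSpectrum.zeroLocus s) =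
      Order.krullDim ↥(PrimeSpectrum.zeroLocus s) := by
  have hs : Function.Surjective (Ideal.Quotient.mk (Ideal.span s)) := Ideal.Quotient.mk_surjective
  have he := PrimeSpectrum.isClosedEmbedding_comap_of_surjective _ _ hs
  have hr : Set.range (PrimeSpectrum.comap (Ideal.Quotient.mk (Ideal.span s))) =
      PrimeSpectrum.zeroLocus s := by
    rw [range_comap_of_surjective _ _ hs, Ideal.mk_ker, PrimeSpectrum.zeroLocus_span]
  rw [← IsHomeomorph.topologicalKrullDim_eq _
    (he.isEmbedding.toHomeomorph.trans (Homeomorph.setCongr hr)).isHomeomorph,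
    PrimeSpectrum.topologicalKrullDim_eq_ringKrullDim, ringKrullDim_quotient,
    PrimeSpectrum.zeroLocus_span]

/-- Let A → B be an injective integral homomorphism of integral domains with fraction fields K and L, L
a finite extension of K, and A integrally closed. For b in B the norm N_{L/K}(b) lies in A; if a
denotes this element of A, then the image of the closed set V(b) of Spec B under Spec B → Spec A is
exactly V(a), and V(b) and V(a) have the same dimension. -/
theorem result
    (A B K L : Type u) [CommRing A] [IsDomain A] [CommRing B] [IsDomain B] [Algebra A B]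
    [Field K] [Field L] [Algebra A K] [IsFractionRing A K] [Algebra B L] [IsFractionRing B L]
    [Algebra A L] [Algebra K L] [IsScalarTower A B L] [IsScalarTower A K L]
    [FiniteDimensional K L] [Algebra.IsIntegral A B] [IsIntegrallyClosed A]
    (hinj : Function.Injective (algebraMap A B))
    (b : B) (a : A) (ha : algebraMap A K a = Algebra.norm K (algebraMap B L b)) :
    PrimeSpectrum.comap (algebraMap A B) '' PrimeSpectrum.zeroLocus ({b} : Set B) =
        PrimeSpectrum.zeroLocus ({a} : Set A) ∧
      topologicalKrullDim ↥(PrimeSpectrum.zeroLocus ({b} : Set B)) =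
        topologicalKrullDim ↥(PrimeSpectrum.zeroLocus ({a} : Set A)) := by
  classical
  have : FaithfulSMul A B := (faithfulSMul_iff_algebraMap_injective A B).2 hinj
  have hab : IsIntegral A b := Algebra.IsIntegral.isIntegral b
  let P := minpoly A b
  let c₀ := P.coeff 0
  have hBL : Function.Injective (algebraMap B L) := IsFractionRing.injective B L
  -- the norm is a power of the constant coefficient
  obtain ⟨e, m, hm, ham⟩ : ∃ (e m : ℕ), 0 < m ∧ a = ((-1) ^ e * c₀) ^ m := by
    let x : L := algebraMap B L b
    have hx : IsIntegral K x := IsIntegral.of_finite K x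
    let pb := IntermediateField.adjoin.powerBasis hx
    refine ⟨pb.dim, Module.finrank (IntermediateField.adjoin K {x}) L, Module.finrank_pos, ?_⟩
    refine IsFractionRing.injective A K ?_
    have h1 := Algebra.PowerBasis.norm_gen_eq_coeff_zero_minpoly pb
    rw [IntermediateField.adjoin.powerBasis_gen, IntermediateField.minpoly_gen] at h1
    rw [ha, Algebra.norm_eq_norm_adjoin K x, h1]
    rw [minpoly.isIntegrallyClosed_eq_field_fractions K L hab, Polynomial.coeff_map]
    simp [map_mul, map_pow, P, c₀]
  have hVac : ∀ p : PrimeSpectrum A, a ∈ p.asIdeal ↔ c₀ ∈ p.asIdeal := by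
    intro p
    rw [ham, p.isPrime.pow_mem_iff_mem m hm]
    exact ⟨fun h => (p.isPrime.mem_or_mem h).resolve_left fun h2 => p.isPrime.ne_top
      (Ideal.eq_top_of_isUnit_mem _ h2 ((isUnit_one.neg).pow e)), fun h => Ideal.mul_mem_left _ _ h⟩
  have hc₀ : algebraMap A B c₀ ∈ Ideal.span {b} := by
    have h : Polynomial.aeval b P = 0 := minpoly.aeval A b
    rw [← P.divX_mul_X_add, map_add, map_mul, Polynomial.aeval_X, Polynomial.aeval_C,
      add_eq_zero_iff_eq_neg'] at h
    rw [Ideal.mem_span_singleton]
    exact ⟨-Polynomial.aeval b P.divX, by rw [h]; ring⟩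
  -- lying over
  have hover : ∀ p : PrimeSpectrum A, c₀ ∈ p.asIdeal →
      ∃ q : PrimeSpectrum B, b ∈ q.asIdeal ∧ PrimeSpectrum.comap (algebraMap A B) q = p := by
    intro p hp
    let A' := Algebra.adjoin A {b}
    let b' : A' := ⟨b, Algebra.subset_adjoin rfl⟩
    let J : Ideal A' := Ideal.map (algebraMap A A') p.asIdeal ⊔ Ideal.span {b'}
    have hJ : J.comap (algebraMap A A') ≤ p.asIdeal := by
      intro r hr
      let φ : Polynomial A →ₐ[A] A' := Polynomial.aeval b'
      have hφ : Function.Surjective φ := by
        rintro ⟨y, hy⟩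
        have hy' : y ∈ Algebra.adjoin A {b} := hy
        rw [Algebra.adjoin_singleton_eq_range_aeval] at hy'
        obtain ⟨f, rfl⟩ := hy'
        exact ⟨f, Subtype.ext (by simp [φ, b', Polynomial.aeval_subalgebra_coe])⟩
      have hJ' : J = Ideal.map φ.toRingHom
          (Ideal.map Polynomial.C p.asIdeal ⊔ Ideal.span {Polynomial.X}) := by
        rw [Ideal.map_sup, Ideal.map_map, Ideal.map_span, Set.image_singleton,
          show φ.toRingHom.comp Polynomial.C = algebraMap A A' from RingHom.ext fun z => φ.commutes z,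
          show φ.toRingHom Polynomial.X = b' from Polynomial.aeval_X _]
      rw [Ideal.mem_comap, hJ'] at hr
      obtain ⟨h, hh, hhr⟩ := (Ideal.mem_map_iff_of_surjective _ hφ).1 hr
      have h0 : h.eval 0 ∈ p.asIdeal := by
        obtain ⟨u, hu, w, hw, rfl⟩ := Submodule.mem_sup.1 hh
        obtain ⟨z, rfl⟩ := Ideal.mem_span_singleton.1 hw
        rw [Polynomial.eval_add, Polynomial.eval_mul, Polynomial.eval_X, zero_mul, add_zero,
          ← Polynomial.coeff_zero_eq_eval_zero]
        exact Ideal.mem_map_C_iff.1 hu 0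
      have hk : h - Polynomial.C r ∈ RingHom.ker (Polynomial.aeval b).toRingHom := by
        rw [RingHom.mem_ker]
        show Polynomial.aeval b (h - Polynomial.C r) = 0
        have h4 : ((φ h : A') : B) = algebraMap A B r := congrArg Subtype.val hhr
        rw [Polynomial.aeval_subalgebra_coe] at h4
        rw [map_sub, Polynomial.aeval_C]
        exact sub_eq_zero.2 h4
      rw [minpoly.ker_eval hab, Ideal.mem_span_singleton] at hk
      obtain ⟨g, hg⟩ := hk
      have h5 := congrArg (Polynomial.eval 0) hg
      rw [Polynomial.eval_sub, Polynomial.eval_C, Polynomial.eval_mul,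
        ← Polynomial.coeff_zero_eq_eval_zero (minpoly A b), sub_eq_iff_eq_add] at h5
      rw [h5] at h0
      exact (Ideal.add_mem_iff_right _ (Ideal.mul_mem_right _ _ hp)).1 h0
    have : Algebra.IsIntegral A A' :=
      ⟨fun y => (isIntegral_algHom_iff A'.val Subtype.val_injective).1 (Algebra.IsIntegral.isIntegral (y : B))⟩
    have : Algebra.IsIntegral A' B := Algebra.IsIntegral.tower_top A
    obtain ⟨Q₁, hQ₁, hQ₁p, hQ₁c⟩ := Ideal.exists_ideal_over_prime_of_isIntegral p.asIdeal J hJ
    obtain ⟨Q, hQp, hQc⟩ := Ideal.exists_ideal_over_prime_of_isIntegral_of_isDomain (S := B) Q₁ (by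
      rw [(RingHom.injective_iff_ker_eq_bot _).1 (show Function.Injective (algebraMap A' B) from
        Subtype.val_injective)]
      exact bot_le)
    refine ⟨⟨Q, hQp⟩, ?_, PrimeSpectrum.ext ?_⟩
    · have : b' ∈ Q₁ := hQ₁ (Ideal.mem_sup_right (Ideal.mem_span_singleton_self b'))
      rw [← hQc] at this
      exact this
    · show Q.comap (algebraMap A B) = p.asIdeal
      rw [IsScalarTower.algebraMap_eq A A' B, ← Ideal.comap_comap, hQc, hQ₁c]
  have himg : ∀ q : PrimeSpectrum B, b ∈ q.asIdeal →
      a ∈ (PrimeSpectrum.comap (algebraMap A B) q).asIdeal := by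
    intro q hq
    rw [hVac]
    exact (Ideal.span_singleton_le_iff_mem _).2 hq hc₀
  refine ⟨Set.ext fun p => ⟨?_, fun hp => ?_⟩, ?_⟩
  · rintro ⟨q, hq, rfl⟩
    rw [PrimeSpectrum.mem_zeroLocus, Set.singleton_subset_iff] at hq ⊢
    exact himg q hq
  · rw [PrimeSpectrum.mem_zeroLocus, Set.singleton_subset_iff] at hp
    obtain ⟨q, hq, rfl⟩ := hover p ((hVac p).1 hp)
    exact ⟨q, by simpa using hq, rfl⟩
  rw [dim_zeroLocus, dim_zeroLocus]
  refine le_antisymm ?_ ?_
  · refine Order.krullDim_le_of_strictMono
      (fun q => ⟨PrimeSpectrum.comap (algebraMap A B) q.1, by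
        have hq := q.2
        simp only [PrimeSpectrum.mem_zeroLocus, Set.singleton_subset_iff] at hq ⊢
        exact himg _ hq⟩) fun q q' h => ?_
    exact Ideal.IsIntegral.comap_lt_comap (R := A) (show q.1.asIdeal < q'.1.asIdeal from h)
  · suffices ∀ l : LTSeries (PrimeSpectrum.zeroLocus ({a} : Set A)),
        ∃ l' : LTSeries (PrimeSpectrum.zeroLocus ({b} : Set B)), l'.length = l.length ∧
          PrimeSpectrum.comap (algebraMap A B) l'.last.1 = l.last.1 by
      refine iSup_le fun l => ?_
      obtain ⟨l', hl, -⟩ := this l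
      rw [← hl]
      exact Order.LTSeries.length_le_krullDim l'
    intro l
    induction l using RelSeries.inductionOn' with
    | singleton x =>
      obtain ⟨q, hq, hqx⟩ := hover x.1 ((hVac x.1).1 (Set.singleton_subset_iff.1 x.2))
      exact ⟨RelSeries.singleton _ ⟨q, by simpa using hq⟩, rfl, hqx⟩
    | snoc l x hx ih =>
      obtain ⟨l', hl, hlast⟩ := ih
      obtain ⟨Q, hQge, hQp, hQc⟩ := Ideal.exists_ideal_over_prime_of_isIntegral (S := B)
        x.1.asIdeal l'.last.1.asIdeal (by
          rw [show l'.last.1.asIdeal.comap (algebraMap A B) = l.last.1.asIdeal from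
            congrArg PrimeSpectrum.asIdeal hlast]
          exact le_of_lt (show l.last.1.asIdeal < x.1.asIdeal from hx))
      have hbQ : (⟨Q, hQp⟩ : PrimeSpectrum B) ∈ PrimeSpectrum.zeroLocus ({b} : Set B) :=
        Set.Subset.trans l'.last.2 hQge
      refine ⟨l'.snoc ⟨⟨Q, hQp⟩, hbQ⟩ (lt_of_le_of_ne hQge fun h => ?_), by simp [hl],
        by rw [RelSeries.last_snoc, RelSeries.last_snoc]; exact PrimeSpectrum.ext hQc⟩
      have h' : l.last.1.asIdeal = x.1.asIdeal :=
        (congrArg PrimeSpectrum.asIdeal hlast).symm.trans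
          ((congrArg (Ideal.comap (algebraMap A B)) h).trans hQc)
      exact ne_of_lt (show l.last.1.asIdeal < x.1.asIdeal from hx) h' 

end Groth.Agent.S10825
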