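import Groth.Statements.S10826
import Groth.Agent.Adic.PowerSeries
import Mathlib.RingTheory.MvPowerSeries.Substitution
import Mathlib.LinearAlgebra.Matrix.NonsingularInverse

set_option autoImplicit false
open CAlg

namespace Groth.Agent.S10826

/-- Let R be a commutative ring, n ≥ 1, and φ an R-algebra homomorphism from the power series ring in n
variables over R to itself that sends each variable to a power series without constant term. If the
Jacobian matrix at the origin, whose (i, j) entry is the coefficient of X_j in φ(X_i), has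
invertible determinant in R, then φ is an isomorphism (bijective). -/
theorem result
    (R : Type*) [CommRing R] (n : ℕ) (hn : 1 ≤ n)
    (φ : MvPowerSeries (Fin n) R →ₐ[R] MvPowerSeries (Fin n) R)
    (h0 : ∀ i, MvPowerSeries.constantCoeff (φ (MvPowerSeries.X i)) = 0)
    (hJ : IsUnit (Matrix.det (Matrix.of fun i j : Fin n =>
      MvPowerSeries.coeff (Finsupp.single j 1) (φ (MvPowerSeries.X i))))) :
    Function.Bijective φ := by
  classical
  let J : Matrix (Fin n) (Fin n) R := Matrix.of fun i j =>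
    MvPowerSeries.coeff (Finsupp.single j 1) (φ (MvPowerSeries.X i))
  have hJ' : IsUnit J.det := hJ
  let v : Matrix (Fin n) (Fin n) R → Fin n → MvPowerSeries (Fin n) R := fun M i =>
    ∑ j, MvPowerSeries.C (M i j) * MvPowerSeries.X j
  have hv0 : ∀ M, MvPowerSeries.HasSubst (v M) := fun M =>
    MvPowerSeries.hasSubst_of_constantCoeff_zero fun i => by simp [v]
  let lin : Matrix (Fin n) (Fin n) R → (MvPowerSeries (Fin n) R →ₐ[R] MvPowerSeries (Fin n) R) :=
    fun M => MvPowerSeries.substAlgHom (hv0 M)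
  have hlinX : ∀ M i, lin M (MvPowerSeries.X i) = v M i := fun M i =>
    MvPowerSeries.substAlgHom_X (hv0 M) i
  -- composing with a linear substitution
  have hcomp : ∀ (χ : MvPowerSeries (Fin n) R →ₐ[R] MvPowerSeries (Fin n) R) (M : Matrix (Fin n) (Fin n) R) i,
      χ (lin M (MvPowerSeries.X i)) = ∑ j, MvPowerSeries.C (M i j) * χ (MvPowerSeries.X j) := by
    intro χ M i
    simp only [hlinX, v, map_sum, map_mul, MvPowerSeries.c_eq_algebraMap, AlgHom.commutes]
  have hdeg : ∀ d : Fin n →₀ ℕ, d.degree < 2 → d = 0 ∨ ∃ j, d = Finsupp.single j 1 := by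
    intro d hd
    by_cases h0' : d = 0
    · exact Or.inl h0'
    obtain ⟨j, hj⟩ : ∃ j, d j ≠ 0 := by
      by_contra hh
      push Not at hh
      exact h0' (Finsupp.ext hh)
    obtain ⟨e, he⟩ := exists_add_of_le
      (Finsupp.single_le_iff.2 (Nat.one_le_iff_ne_zero.2 hj) : Finsupp.single j 1 ≤ d)
    have hdj : e.degree = 0 := by
      have h5 := congrArg Finsupp.degree he
      rw [map_add, Finsupp.degree_single] at h5
      omega
    rw [(Finsupp.degree_eq_zero_iff e).1 hdj, add_zero] at he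
    exact Or.inr ⟨j, he⟩
  have hid : ∀ (χ : MvPowerSeries (Fin n) R →ₐ[R] MvPowerSeries (Fin n) R)
      (A B : Matrix (Fin n) (Fin n) R),
      (∀ i, MvPowerSeries.constantCoeff (χ (MvPowerSeries.X i)) = 0) →
      (∀ i j, MvPowerSeries.coeff (Finsupp.single j 1) (χ (MvPowerSeries.X i)) = B i j) →
      A * B = 1 → Function.Bijective (χ.comp (lin A)) := by
    intro χ A B hc hl hAB
    refine Groth.Agent.Adic.PowerSeries.bijective_of_sub_X_mem _ fun i => ?_
    rw [AlgHom.comp_apply, hcomp, Groth.Agent.Adic.PowerSeries.mem_pow_iff]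
    intro d hd
    rcases hdeg d hd with rfl | ⟨l, rfl⟩
    · rw [map_sub, map_sum, MvPowerSeries.coeff_zero_eq_constantCoeff_apply,
        MvPowerSeries.constantCoeff_X, sub_zero]
      exact Finset.sum_eq_zero fun j _ => by
        rw [MvPowerSeries.coeff_zero_eq_constantCoeff_apply, map_mul, hc j, mul_zero]
    · rw [map_sub, map_sum, MvPowerSeries.coeff_X]
      simp only [MvPowerSeries.coeff_C_mul, hl, ← Matrix.mul_apply, hAB, Matrix.one_apply,
        Finsupp.single_left_inj (one_ne_zero : (1 : ℕ) ≠ 0), eq_comm, sub_self]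
  have hlin0 : ∀ M i, MvPowerSeries.constantCoeff (lin M (MvPowerSeries.X i)) = 0 := fun M i => by
    simp [hlinX, v]
  have hlin1 : ∀ M i j,
      MvPowerSeries.coeff (Finsupp.single j 1) (lin M (MvPowerSeries.X i)) = M i j := fun M i j => by
    simp [hlinX, v, MvPowerSeries.coeff_X, Finsupp.single_left_inj (one_ne_zero : (1 : ℕ) ≠ 0)]
  have h1 := hid φ J⁻¹ J h0 (fun i j => rfl) (Matrix.nonsing_inv_mul J hJ')
  have h2 := hid (lin J⁻¹) J J⁻¹ (hlin0 _) (hlin1 _) (Matrix.mul_nonsing_inv J hJ')
  have h3 := hid (lin J) J⁻¹ J (hlin0 _) (hlin1 _) (Matrix.nonsing_inv_mul J hJ')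
  rw [AlgHom.coe_comp] at h1 h2 h3
  have hl : Function.Bijective (lin J⁻¹) := ⟨h3.1.of_comp, h2.2.of_comp⟩
  refine ⟨fun x y hxy => ?_, h1.2.of_comp⟩
  obtain ⟨x, rfl⟩ := hl.2 x
  obtain ⟨y, rfl⟩ := hl.2 y
  exact congrArg _ (h1.1 hxy)

end Groth.Agent.S10826
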