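import Groth.Statements.S10830
import Mathlib
import Groth.Agent.TopDim.Basic

set_option autoImplicit false
universe u
open Topology TopologicalSpace
open TopDim

namespace Groth.Agent.S10830

open Set TopologicalSpace Groth.Agent.TopDim.Basic

/-- In an irreducible topological space X of finite Krull dimension, every proper closed subset Y has
strictly smaller Krull dimension than X. -/
theorem result (X : Type u) [TopologicalSpace X]
    [IrreducibleSpace X] (hfin : topologicalKrullDim X ≠ ⊤) (Y : Set X) (hY : IsClosed Y) (hYX : Y ≠ Set.univ) :
    topologicalKrullDim ↥Y < topologicalKrullDim X := by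
  have hstep : ∀ s : LTSeries (IrreducibleCloseds Y), ((s.length + 1 : ℕ) : WithBot ℕ∞) ≤ topologicalKrullDim X := by
    intro s
    let f := IrreducibleCloseds.map (Subtype.val : Y → X) continuous_subtype_val
    have hf : StrictMono f := IrreducibleCloseds.map_strictMono_of_isInducing Topology.IsInducing.subtypeVal
    let t := s.map f hf
    let top : IrreducibleCloseds X := ⟨univ, IrreducibleSpace.isIrreducible_univ X, isClosed_univ⟩
    have hlt : t.last < top := by
      show (_ : IrreducibleCloseds X) < _
      refine lt_of_le_of_ne ?_ fun he => hYX (eq_univ_of_univ_subset ?_)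
      · intro z _; trivial
      · intro z _
        have hz : z ∈ (t.last : Set X) := by rw [he]; trivial
        rw [LTSeries.last_map, IrreducibleCloseds.coe_map] at hz
        exact closure_minimal (by rintro _ ⟨w, _, rfl⟩; exact w.2) hY hz
    have h1 := length_le (t.snoc top hlt)
    exact h1
  cases hd : topologicalKrullDim X with
  | bot => exact absurd (hd ▸ dim_nonneg (X := X)) (by simp)
  | coe d =>
    induction d using ENat.recTopCoe with
    | top => exact absurd hd hfin
    | coe n =>
      by_contra hlt
      rw [not_lt] at hlt
      obtain ⟨s, hs⟩ := Order.le_krullDim_iff.mp (show ((n : ℕ) : WithBot ℕ∞) ≤ Order.krullDim (IrreducibleCloseds Y) from hlt)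
      have h1 := hstep s
      rw [hd, hs] at h1
      have h2 : n + 1 ≤ n := by exact_mod_cast h1
      omega

end Groth.Agent.S10830
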