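import Groth.Statements.S10839
import Mathlib
-- import your own Groth.Agent.* helpers here

set_option autoImplicit false
set_option backward.isDefEq.respectTransparency false
universe u
open CategoryTheory AlgebraicGeometry Topology
open Variety

open CategoryTheory AlgebraicGeometry
namespace Groth.Agent.S10839

/-- A closed immersion i : Y → X into an integral scheme X with dim X = dim Y < ∞ is an isomorphism. -/
theorem result {X Y : Scheme.{u}} (i : Y ⟶ X)
    [IsClosedImmersion i] [IsIntegral X] (hfin : topologicalKrullDim ↥X ≠ ⊤)
    (hdim : topologicalKrullDim ↥X = topologicalKrullDim ↥Y) : IsIso i := by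
  have hsurj : Set.range i = Set.univ := by
    by_contra hne
    have hX0 : (0 : WithBot ℕ∞) ≤ topologicalKrullDim ↥X := by
      haveI : Nonempty (TopologicalSpace.IrreducibleCloseds ↥X) := ⟨⟨Set.univ, PreirreducibleSpace.isPreirreducible_univ |> fun h => ⟨Set.univ_nonempty, h⟩, isClosed_univ⟩⟩
      exact Order.krullDim_nonneg
    obtain ⟨n, hn⟩ : ∃ n : ℕ, topologicalKrullDim ↥X = n := by
      cases hd : topologicalKrullDim ↥X with
      | bot => rw [hd] at hX0; simp at hX0
      | coe m =>
        cases m with
        | top => exact absurd hd hfin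
        | coe m => exact ⟨m, rfl⟩
    have hY : ((n : ℕ) : WithBot ℕ∞) ≤ Order.krullDim (TopologicalSpace.IrreducibleCloseds ↥Y) := by
      rw [← hn, hdim]; exact le_rfl
    obtain ⟨l, hl⟩ := Order.le_krullDim_iff.1 hY
    have hc := i.isClosedEmbedding
    let φ : TopologicalSpace.IrreducibleCloseds ↥Y → TopologicalSpace.IrreducibleCloseds ↥X := fun C =>
      ⟨i '' (C : Set ↥Y), C.isIrreducible'.image _ i.continuous.continuousOn, hc.isClosedMap _ C.isClosed'⟩
    have hφ : StrictMono φ := fun a b h => by
      refine lt_of_le_of_ne (Set.image_mono h.le) fun e => h.ne ?_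
      apply SetLike.coe_injective
      exact hc.injective.image_injective (congrArg (fun C : TopologicalSpace.IrreducibleCloseds ↥X => (C : Set ↥X)) e)
    let top : TopologicalSpace.IrreducibleCloseds ↥X := ⟨Set.univ, ⟨Set.univ_nonempty, PreirreducibleSpace.isPreirreducible_univ⟩, isClosed_univ⟩
    have hlt : (l.map φ hφ).last < top := by
      refine lt_of_le_of_ne (Set.subset_univ _) fun e => hne ?_
      refine Set.eq_univ_of_univ_subset ?_
      have := congrArg (fun C : TopologicalSpace.IrreducibleCloseds ↥X => (C : Set ↥X)) e
      rw [LTSeries.last_map] at this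
      exact this.ge.trans (Set.image_subset_range _ _)
    have h1 := Order.LTSeries.length_le_krullDim ((l.map φ hφ).snoc top hlt)
    rw [show Order.krullDim (TopologicalSpace.IrreducibleCloseds ↥X) = topologicalKrullDim ↥X from rfl, hn] at h1
    simp [hl] at h1
    norm_cast at h1
    omega
  haveI : Surjective i := ⟨Set.range_eq_univ.1 hsurj⟩
  exact isIso_of_isClosedImmersion_of_surjective i

end Groth.Agent.S10839
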