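import Groth.Statements.S10841
import Groth.Agent.HensPair.DimMore

set_option autoImplicit false
universe u
open CategoryTheory AlgebraicGeometry Topology
open Variety

namespace Groth.Agent.S10841

/-- Let k be a field, X an irreducible scheme of finite type over k, and f : Y → X a morphism over k
from a scheme Y of finite type over k whose image contains the generic point of X. Then dim Y ≥ dim
X. -/
theorem result (k : Type u) [Field k] {X Y : Scheme.{u}}
    (p : X ⟶ Spec (CommRingCat.of k)) (q : Y ⟶ Spec (CommRingCat.of k))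
    [LocallyOfFiniteType p] [QuasiCompact p] [LocallyOfFiniteType q] [QuasiCompact q]
    [IrreducibleSpace ↥X] (f : Y ⟶ X) (hf : f ≫ p = q)
    (hη : genericPoint ↥X ∈ Set.range f.base) :
    topologicalKrullDim ↥X ≤ topologicalKrullDim ↥Y := by
  open Groth.Agent.HensPair in
  subst hf
  haveI : LocallyOfFiniteType f := locallyOfFiniteType_of_comp f p
  obtain ⟨ζ, hζ⟩ := hη
  rw [show topologicalKrullDim ↥X = Order.krullDim ↥X from Order.krullDim_eq_of_orderIso irreducibleSetEquivPoints]
  refine iSup_le fun l => ?_
  obtain ⟨ξ, hmax, hl⟩ := DimMore.length_le_T p l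
  obtain rfl : ξ = genericPoint X := (hmax _ ((genericPoint_spec X).specializes trivial)).symm
  refine le_trans ?_ (DimMore.T_le_dim (f ≫ p) ζ)
  rw [JacobsonDim.T_add f p ζ]
  have hl' : l.length ≤ FibreTrdeg.T p (f ζ) + FibreTrdeg.T f ζ := by rw [hζ]; omega
  exact_mod_cast hl' 

end Groth.Agent.S10841
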