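import Groth.Statements.S10842
import Groth.Agent.Misc9.DomainStalk
import Mathlib
-- import your own Groth.Agent.* helpers here

set_option autoImplicit false
set_option backward.isDefEq.respectTransparency false
universe u
open CategoryTheory AlgebraicGeometry
open Variety

open CategoryTheory CategoryTheory.Limits AlgebraicGeometry
namespace Groth.Agent.S10842

/-- A quasi-compact scheme whose local rings at all closed points are integrally closed domains is
normal, i.e. all of its local rings are integrally closed domains. -/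
theorem result (X : Scheme.{u}) [CompactSpace ↥X]
    (h : ∀ x : X, IsClosed ({x} : Set X) →
      IsDomain (X.presheaf.stalk x) ∧ IsIntegrallyClosed (X.presheaf.stalk x)) :
    Pi1.IsNormalScheme X := by
  intro x
  obtain ⟨c, hc, hcc⟩ := IsClosed.exists_closed_singleton (S := closure ({x} : Set X)) isClosed_closure ⟨x, subset_closure rfl⟩
  have hxc : x ⤳ c := specializes_iff_mem_closure.2 hc
  obtain ⟨U, hU, hcU, -⟩ := exists_isAffineOpen_mem_and_subset (X := X) (U := ⊤) (x := c) trivial
  have hxU : x ∈ U := hxc.mem_open U.2 hcU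
  obtain ⟨hd, hic⟩ := h c hcc
  let P := (hU.primeIdealOf ⟨x, hxU⟩).asIdeal
  let Q := (hU.primeIdealOf ⟨c, hcU⟩).asIdeal
  have hPQ : P ≤ Q := by
    refine (PrimeSpectrum.le_iff_specializes _ _).2 (hU.fromSpec.isEmbedding.isInducing.specializes_iff.1 ?_)
    rw [hU.fromSpec_primeIdealOf, hU.fromSpec_primeIdealOf]
    exact hxc
  letI := TopCat.Presheaf.algebra_section_stalk X.presheaf (⟨x, hxU⟩ : U)
  letI := TopCat.Presheaf.algebra_section_stalk X.presheaf (⟨c, hcU⟩ : U)
  haveI := hU.isLocalization_stalk ⟨x, hxU⟩
  haveI := hU.isLocalization_stalk ⟨c, hcU⟩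
  haveI : IsDomain (Localization.AtPrime Q) := ((IsLocalization.algEquiv Q.primeCompl (Localization.AtPrime Q) (X.presheaf.stalk c)).toRingEquiv.toMulEquiv).isDomain _
  haveI : IsIntegrallyClosed (Localization.AtPrime Q) := IsIntegrallyClosed.of_equiv (IsLocalization.algEquiv Q.primeCompl (X.presheaf.stalk c) (Localization.AtPrime Q)).toRingEquiv
  let M := Submonoid.map (algebraMap Γ(X, U) (Localization.AtPrime Q)) P.primeCompl
  have hle : Q.primeCompl ≤ P.primeCompl := fun a ha h' => ha (hPQ h')
  letI : Algebra (Localization.AtPrime Q) (X.presheaf.stalk x) :=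
    IsLocalization.localizationAlgebraOfSubmonoidLe (Localization.AtPrime Q) (X.presheaf.stalk x) Q.primeCompl P.primeCompl hle
  haveI : IsScalarTower Γ(X, U) (Localization.AtPrime Q) (X.presheaf.stalk x) :=
    IsLocalization.localization_isScalarTower_of_submonoid_le _ _ _ _ hle
  haveI : IsLocalization M (X.presheaf.stalk x) :=
    IsLocalization.isLocalization_of_submonoid_le (Localization.AtPrime Q) (X.presheaf.stalk x) Q.primeCompl P.primeCompl hle
  have hM : M ≤ nonZeroDivisors (Localization.AtPrime Q) := by
    rintro _ ⟨a, ha, rfl⟩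
    refine mem_nonZeroDivisors_iff_ne_zero.2 fun h0 => ?_
    obtain ⟨m, hm⟩ := (IsLocalization.map_eq_zero_iff Q.primeCompl _ a).1 h0
    rcases (hU.primeIdealOf ⟨x, hxU⟩).2.mem_or_mem (show (m : Γ(X, U)) * a ∈ P by rw [hm]; exact P.zero_mem) with h1 | h1
    · exact hle m.2 h1
    · exact ha h1
  haveI : IsDomain (X.presheaf.stalk x) := IsLocalization.isDomain_of_le_nonZeroDivisors _ hM
  exact ⟨inferInstance, isIntegrallyClosed_of_isLocalization (X.presheaf.stalk x) M hM⟩

end Groth.Agent.S10842
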