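import Groth.Statements.S10843
import Mathlib
import Groth.Agent.WQ8.InvariantRing
-- import your own Groth.Agent.* helpers here

set_option autoImplicit false
universe u
open CAlg

namespace Groth.Agent.S10843

/-- For a field k, a nonzero finitely generated k-algebra A and a natural number d, the algebra A has
Krull dimension d exactly when some injective k-algebra map from the polynomial ring in d variables
over k to A makes A a finite module over that polynomial ring. -/
theorem result (k A : Type u) [Field k]
    [CommRing A] [Nontrivial A] [Algebra k A] [Algebra.FiniteType k A] (d : ℕ) :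
    ringKrullDim A = (d : WithBot ℕ∞) ↔
      ∃ φ : MvPolynomial (Fin d) k →ₐ[k] A, φ.toRingHom.Finite ∧ Function.Injective φ := by
  have key : ∀ (m : ℕ) (φ : MvPolynomial (Fin m) k →ₐ[k] A), φ.toRingHom.Finite → Function.Injective φ →
      ringKrullDim A = (m : WithBot ℕ∞) := by
    intro m φ hfin hinj
    algebraize [φ.toRingHom]
    rw [Groth.Agent.WQ8.ringKrullDim_eq_of_integral (R := MvPolynomial (Fin m) k) (T := A) hinj,
      MvPolynomial.ringKrullDim_of_isNoetherianRing, ringKrullDim_eq_zero_of_field k]
    simp
  constructor
  · intro hd
    obtain ⟨s, g, hinj, hfin⟩ := exists_finite_inj_algHom_of_fg k A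
    have h := key s g hfin hinj
    rw [hd] at h
    have hs : d = s := by exact_mod_cast h
    subst hs
    exact ⟨g, hfin, hinj⟩
  · rintro ⟨φ, hfin, hinj⟩
    exact key d φ hfin hinj

end Groth.Agent.S10843
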