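import Groth.Statements.S10849
import Mathlib.Algebra.Polynomial.Laurent
import Mathlib.LinearAlgebra.Matrix.ToLinearEquiv
import Mathlib.LinearAlgebra.Matrix.Adjugate
import Mathlib.LinearAlgebra.Matrix.NonsingularInverse
import Mathlib.Algebra.Polynomial.Reverse
import Mathlib.Data.Fin.Tuple.Sort
import Mathlib.RingTheory.Polynomial.Basic

set_option autoImplicit false
universe u
open VbP1

namespace Groth.Agent.S10849

theorem sign_unit {n : ℕ} (R : Type u) [CommRing R] (σ : Equiv.Perm (Fin n)) :
    IsUnit (((Equiv.Perm.sign σ : ℤˣ) : ℤ) : R) :=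
  (Units.isUnit (Equiv.Perm.sign σ)).map (Int.castRingHom R)

theorem isUnit_poly {k : Type u} [Field k] (D : Polynomial k) (h : IsUnit (Polynomial.toLaurent D))
    (h0 : D.coeff 0 ≠ 0) : IsUnit D := by
  obtain ⟨w, hw⟩ := h.exists_right_inv
  obtain ⟨N, w', hw'⟩ := LaurentPolynomial.exists_T_pow w
  have h1 : D * w' = Polynomial.X ^ N := Polynomial.toLaurent_injective (by
    rw [map_mul, hw', ← mul_assoc, hw, one_mul, Polynomial.toLaurent_X_pow])
  obtain ⟨i, -, hi⟩ := (dvd_prime_pow Polynomial.prime_X N).1 ⟨w', h1.symm⟩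
  rcases Nat.eq_zero_or_pos i with rfl | hi0
  · rw [pow_zero] at hi; exact associated_one_iff_isUnit.1 hi
  · exact absurd (Polynomial.X_dvd_iff.1 ((dvd_pow_self _ hi0.ne').trans hi.symm.dvd)) h0

theorem reflect_spec {k : Type u} [Field k] (p : Polynomial k) (N : ℕ) (h : p.natDegree ≤ N) :
    Polynomial.toLaurent p = LaurentPolynomial.invert (Polynomial.toLaurent (Polynomial.reflect N p)) * LaurentPolynomial.T (N : ℤ) := by
  refine Polynomial.induction_with_natDegree_le
    (fun p => Polynomial.toLaurent p = LaurentPolynomial.invert (Polynomial.toLaurent (Polynomial.reflect N p)) * LaurentPolynomial.T (N : ℤ))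
    N (by simp) ?_ ?_ p h
  · intro m c _ hm
    rw [Polynomial.reflect_C_mul_X_pow, Polynomial.revAt_le hm, Polynomial.toLaurent_C_mul_X_pow,
      Polynomial.toLaurent_C_mul_X_pow, map_mul, LaurentPolynomial.invert_C, LaurentPolynomial.invert_T, mul_assoc,
      ← LaurentPolynomial.T_add, Nat.cast_sub hm]
    congr 2
    ring
  · intro a b _ _ ha hb
    rw [Polynomial.reflect_add, map_add, map_add, map_add, add_mul, ← ha, ← hb]

theorem exists_reduced {k : Type u} [Field k] {n : ℕ} (M : Matrix (Fin n) (Fin n) (Polynomial k)) (hM : M.det ≠ 0) :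
    ∃ (U : Matrix (Fin n) (Fin n) (Polynomial k)) (_ : IsUnit U) (L : Matrix (Fin n) (Fin n) (Polynomial k)) (d : Fin n → ℕ),
      (M * U).map Polynomial.toLaurent = (L.map Polynomial.toLaurent).map LaurentPolynomial.invert *
        Matrix.diagonal (fun i => LaurentPolynomial.T (d i : ℤ)) ∧ L.det.coeff 0 ≠ 0 := by
  classical
  let deg : Matrix (Fin n) (Fin n) (Polynomial k) → Fin n → ℕ := fun X j => Finset.univ.sup fun i => (X i j).natDegree
  have hex : ∃ s, ∃ U, IsUnit U ∧ (∑ j, deg (M * U) j) = s := ⟨_, 1, isUnit_one, rfl⟩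
  obtain ⟨U, hU, hs⟩ := Nat.find_spec hex
  let X := M * U
  have hXdet : X.det ≠ 0 := by
    rw [Matrix.det_mul]; exact mul_ne_zero hM ((Matrix.isUnit_iff_isUnit_det U).1 hU).ne_zero
  have hle : ∀ i j, (X i j).natDegree ≤ deg X j := fun i j => Finset.le_sup (f := fun i => (X i j).natDegree) (Finset.mem_univ i)
  refine ⟨U, hU, Matrix.of fun i j => Polynomial.reflect (deg X j) (X i j), deg X, ?_, ?_⟩
  · ext1 i j
    rw [Matrix.mul_diagonal, Matrix.map_apply, Matrix.map_apply, Matrix.map_apply]
    exact reflect_spec _ _ (hle i j)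
  intro h0
  let lead : Matrix (Fin n) (Fin n) k := Matrix.of fun i j => (X i j).coeff (deg X j)
  have hlead : lead.det = 0 := by
    rw [← h0, ← Polynomial.constantCoeff_apply, RingHom.map_det]
    congr 1
    ext i j
    simp only [lead, RingHom.mapMatrix_apply, Matrix.map_apply, Matrix.of_apply, Polynomial.constantCoeff_apply,
      Polynomial.coeff_reflect, Polynomial.revAt_le (Nat.zero_le _), Nat.sub_zero]
  obtain ⟨c, hc, hcl⟩ := Matrix.exists_mulVec_eq_zero_iff.2 hlead
  obtain ⟨j0, hj0, hmax⟩ := (Finset.univ.filter fun j => c j ≠ 0).exists_max_image (deg X) (by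
    obtain ⟨j, hj⟩ := Function.ne_iff.1 hc
    exact ⟨j, by simpa using hj⟩)
  rw [Finset.mem_filter] at hj0
  let v : Fin n → Polynomial k := fun j => Polynomial.C (c j) * Polynomial.X ^ (deg X j0 - deg X j)
  let E : Matrix (Fin n) (Fin n) (Polynomial k) := (1 : Matrix (Fin n) (Fin n) (Polynomial k)).updateCol j0 v
  have hE : IsUnit E := by
    have hdetE : E.det = v j0 := by
      show Matrix.det _ = _
      rw [← Matrix.cramer_apply, Matrix.cramer_one]
      rfl
    rw [Matrix.isUnit_iff_isUnit_det, hdetE]
    simp only [v, Nat.sub_self, pow_zero, mul_one]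
    exact Polynomial.isUnit_C.2 (isUnit_iff_ne_zero.2 hj0.2)
  have hother : ∀ j, j ≠ j0 → ∀ i, (X * E) i j = X i j := fun j hj i => by
    rw [Matrix.mul_apply, Finset.sum_eq_single j]
    · simp [E, Matrix.updateCol_ne hj]
    · intro l _ hl; simp [E, Matrix.updateCol_ne hj, Matrix.one_apply_ne hl]
    · simp
  have hcol : ∀ i, (X * E) i j0 = ∑ j, X i j * v j := fun i => by
    rw [Matrix.mul_apply]
    exact Finset.sum_congr rfl fun j _ => by rw [show E j j0 = v j from Matrix.updateCol_self]
  have hD : ∀ i, ((X * E) i j0).natDegree ≤ deg X j0 ∧ ((X * E) i j0).coeff (deg X j0) = 0 := by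
    intro i
    rw [hcol]
    refine ⟨Polynomial.natDegree_sum_le_of_forall_le _ _ fun j _ => ?_, ?_⟩
    · by_cases hcj : c j = 0
      · simp [v, hcj]
      · refine Polynomial.natDegree_mul_le.trans ((add_le_add (hle i j) (Polynomial.natDegree_C_mul_X_pow_le _ _)).trans ?_)
        have := hmax j (Finset.mem_filter.2 ⟨Finset.mem_univ _, hcj⟩)
        omega
    · rw [Polynomial.finsetSum_coeff]
      have := congrFun hcl i
      rw [Matrix.mulVec, Pi.zero_apply] at this
      refine Eq.trans (Finset.sum_congr rfl fun j _ => ?_) this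
      by_cases hcj : c j = 0
      · simp [v, hcj]
      · have hd : deg X j ≤ deg X j0 := hmax j (Finset.mem_filter.2 ⟨Finset.mem_univ _, hcj⟩)
        simp only [v, lead, Matrix.of_apply]
        rw [← mul_assoc, Polynomial.coeff_mul_X_pow', if_pos (Nat.sub_le _ _), Nat.sub_sub_self hd, Polynomial.coeff_mul_C]
  have hlt : deg (X * E) j0 < deg X j0 := by
    rcases Nat.eq_zero_or_pos (deg X j0) with hz | hz
    · exfalso
      have hz' : ∀ i, (X * E) i j0 = 0 := fun i => by
        obtain ⟨h1, h2⟩ := hD i
        rw [hz] at h1 h2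
        rw [Polynomial.eq_C_of_natDegree_le_zero h1, h2, map_zero]
      have hd0 : (X * E).det = 0 := Matrix.det_eq_zero_of_column_eq_zero j0 hz'
      rw [Matrix.det_mul] at hd0
      exact mul_ne_zero hXdet ((Matrix.isUnit_iff_isUnit_det E).1 hE).ne_zero hd0
    · refine (Finset.sup_lt_iff (bot_lt_iff_ne_bot.2 hz.ne')).2 fun i _ => ?_
      obtain ⟨h1, h2⟩ := hD i
      rcases lt_or_eq_of_le h1 with h | h
      · exact h
      · by_cases h3 : (X * E) i j0 = 0
        · rw [h3, Polynomial.natDegree_zero]; exact hz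
        · rw [← h] at h2
          exact absurd h2 (Polynomial.leadingCoeff_ne_zero.2 h3)
  refine Nat.find_min hex (m := ∑ j, deg (X * E) j) ?_ ⟨U * E, hU.mul hE, by rw [← mul_assoc]⟩
  rw [← hs]
  refine Finset.sum_lt_sum (fun j _ => ?_) ⟨j0, Finset.mem_univ _, hlt⟩
  rcases eq_or_ne j j0 with rfl | hj
  · exact hlt.le
  · exact le_of_eq (Finset.sup_congr rfl fun i _ => by rw [hother j hj i])


/-- Let k be a field and n a natural number. For every invertible n × n matrix A with entries in the
Laurent polynomial ring k[T, T⁻¹] there are matrices P and Q over k[T], invertible over k[T], and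
integers d_1 ≥ d_2 ≥ … ≥ d_n (indexed by Fin n, antitone) such that A = P · diag(T^{d_i}) · Q⁻,
where Q⁻ is obtained from Q by the substitution T ↦ T⁻¹ (so Q⁻ is invertible over k[T⁻¹]). -/
theorem result (k : Type u) [Field k] (n : ℕ)
    (A : Matrix (Fin n) (Fin n) (LaurentPolynomial k)) (hA : IsUnit A) :
    ∃ (P Q : Matrix (Fin n) (Fin n) (Polynomial k)) (d : Fin n → ℤ),
      IsUnit P ∧ IsUnit Q ∧ Antitone d ∧
        A = P.map Polynomial.toLaurent * Matrix.diagonal (fun i => LaurentPolynomial.T (d i)) *
          (Q.map Polynomial.toLaurent).map LaurentPolynomial.invert := by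
  classical
  let A' := A.map LaurentPolynomial.invert
  choose N f hf using fun i j => LaurentPolynomial.exists_T_pow (A' i j)
  let K : ℕ := ∑ i, ∑ j, N i j
  have hNK : ∀ i j, N i j ≤ K := fun i j =>
    (Finset.single_le_sum (fun _ _ => Nat.zero_le _) (Finset.mem_univ j)).trans
      (Finset.single_le_sum (f := fun i => ∑ j, N i j) (fun _ _ => Nat.zero_le _) (Finset.mem_univ i))
  let M : Matrix (Fin n) (Fin n) (Polynomial k) := Matrix.of fun i j => f i j * Polynomial.X ^ (K - N i j)
  have hM : M.map Polynomial.toLaurent = (LaurentPolynomial.T (K : ℤ) : LaurentPolynomial k) • A' := by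
    ext1 i j
    rw [Matrix.map_apply, Matrix.smul_apply, smul_eq_mul]
    show Polynomial.toLaurent (f i j * Polynomial.X ^ (K - N i j)) = _
    rw [map_mul, hf, Polynomial.toLaurent_X_pow, mul_assoc, ← LaurentPolynomial.T_add, mul_comm,
      Nat.cast_sub (hNK i j), add_sub_cancel]
  have hA' : IsUnit A'.det := by
    have h := ((Matrix.isUnit_iff_isUnit_det A).1 hA).map (LaurentPolynomial.invert (R := k))
    rwa [show LaurentPolynomial.invert A.det = A'.det from AlgHom.map_det LaurentPolynomial.invert.toAlgHom A] at h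
  have hMdet : IsUnit (M.map Polynomial.toLaurent).det := by
    rw [hM, Matrix.det_smul]
    exact ((LaurentPolynomial.isUnit_T _).pow _).mul hA'
  have hM0 : M.det ≠ 0 := fun h => by
    rw [← RingHom.mapMatrix_apply, ← RingHom.map_det, h, map_zero] at hMdet
    exact not_isUnit_zero hMdet
  obtain ⟨U, hU, L, d, hLU, hL⟩ := exists_reduced M hM0
  have hLdet : IsUnit L.det := by
    refine isUnit_poly (L.det) ?_ hL
    have h1 : IsUnit ((M * U).map Polynomial.toLaurent).det := by
      rw [Matrix.map_mul, Matrix.det_mul]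
      refine hMdet.mul ?_
      rw [← RingHom.mapMatrix_apply, ← RingHom.map_det]
      exact ((Matrix.isUnit_iff_isUnit_det U).1 hU).map Polynomial.toLaurent
    rw [hLU, Matrix.det_mul] at h1
    have h2 : IsUnit ((L.map Polynomial.toLaurent).map LaurentPolynomial.invert).det := isUnit_of_mul_isUnit_left h1
    rw [show ((L.map Polynomial.toLaurent).map LaurentPolynomial.invert).det = LaurentPolynomial.invert (Polynomial.toLaurent L.det) by
      rw [show Polynomial.toLaurent L.det = (L.map Polynomial.toLaurent).det from RingHom.map_det _ _]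
      exact (AlgHom.map_det LaurentPolynomial.invert.toAlgHom _).symm] at h2
    have h3 := h2.map (LaurentPolynomial.invert (R := k))
    rwa [LaurentPolynomial.involutive_invert] at h3
  obtain ⟨W, hW⟩ := hU.exists_right_inv
  have hW' : IsUnit W := (Matrix.isUnit_iff_isUnit_det W).2 (isUnit_of_mul_isUnit_right (x := U.det) (by rw [← Matrix.det_mul, hW, Matrix.det_one]; exact isUnit_one))
  let e : Fin n → ℤ := fun i => (K : ℤ) - d i
  let σ := Tuple.sort fun i => - e i
  have hmono : Monotone ((fun i => - e i) ∘ σ) := Tuple.monotone_sort _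
  have hkey : A = (L.map Polynomial.toLaurent) * Matrix.diagonal (fun i => LaurentPolynomial.T (e i)) *
      (W.map Polynomial.toLaurent).map LaurentPolynomial.invert := by
    have h1 : (M.map Polynomial.toLaurent) = (L.map Polynomial.toLaurent).map LaurentPolynomial.invert *
        Matrix.diagonal (fun i => LaurentPolynomial.T (d i : ℤ)) * W.map Polynomial.toLaurent := by
      rw [← hLU, ← Matrix.map_mul, mul_assoc, hW, mul_one]
    rw [hM] at h1
    have h2 := congrArg (LaurentPolynomial.invert (R := k)).toRingEquiv.toRingHom.mapMatrix h1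
    rw [map_mul, map_mul] at h2
    have hl : (LaurentPolynomial.invert (R := k)).toRingEquiv.toRingHom.mapMatrix ((LaurentPolynomial.T (K : ℤ) : LaurentPolynomial k) • A') =
        (LaurentPolynomial.T (-(K : ℤ)) : LaurentPolynomial k) • A := by
      ext1 i j
      show LaurentPolynomial.invert (LaurentPolynomial.T (K : ℤ) * LaurentPolynomial.invert (A i j)) = LaurentPolynomial.T (-(K : ℤ)) * A i j
      rw [map_mul, LaurentPolynomial.involutive_invert, LaurentPolynomial.invert_T]
    have hd : (LaurentPolynomial.invert (R := k)).toRingEquiv.toRingHom.mapMatrix (Matrix.diagonal (fun i => LaurentPolynomial.T (d i : ℤ))) =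
        Matrix.diagonal (fun i => LaurentPolynomial.T (-(d i : ℤ))) := by
      rw [RingHom.mapMatrix_apply, Matrix.diagonal_map (map_zero _)]
      congr 1
      funext i
      exact LaurentPolynomial.invert_T _
    have hLL : (LaurentPolynomial.invert (R := k)).toRingEquiv.toRingHom.mapMatrix ((L.map Polynomial.toLaurent).map LaurentPolynomial.invert) = L.map Polynomial.toLaurent := by
      ext1 i j
      exact LaurentPolynomial.involutive_invert _
    rw [hl, hd, hLL] at h2
    have h3 := congrArg (fun X => (LaurentPolynomial.T (K : ℤ) : LaurentPolynomial k) • X) h2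
    simp only [smul_smul, ← LaurentPolynomial.T_add, add_neg_cancel, LaurentPolynomial.T_zero, one_smul] at h3
    rw [h3, ← Matrix.smul_mul, ← Matrix.mul_smul, ← Matrix.diagonal_smul,
      show ((LaurentPolynomial.T (K : ℤ) : LaurentPolynomial k) • fun i => LaurentPolynomial.T (-(d i : ℤ))) = fun i => LaurentPolynomial.T (e i) from
        funext fun i => by rw [Pi.smul_apply, smul_eq_mul, ← LaurentPolynomial.T_add, ← sub_eq_add_neg]]
    rfl
  refine ⟨L.submatrix id σ, W.submatrix σ id, e ∘ σ, ?_, ?_, ?_, ?_⟩
  · rw [Matrix.isUnit_iff_isUnit_det, Matrix.det_permute']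
    exact (sign_unit (Polynomial k) σ).mul hLdet
  · rw [Matrix.isUnit_iff_isUnit_det, Matrix.det_permute]
    exact (sign_unit (Polynomial k) σ).mul ((Matrix.isUnit_iff_isUnit_det W).1 hW')
  · intro a b hab
    have := hmono hab
    simp only [Function.comp_apply, neg_le_neg_iff] at this ⊢
    exact this
  · conv_lhs => rw [hkey]
    rw [← Matrix.submatrix_map, ← Matrix.submatrix_map, ← Matrix.submatrix_map,
      show Matrix.diagonal (fun i => LaurentPolynomial.T ((e ∘ σ) i)) = (Matrix.diagonal (fun i => (LaurentPolynomial.T (e i) : LaurentPolynomial k))).submatrix σ σ from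
        by rw [Matrix.submatrix_diagonal_equiv]; rfl,
      Matrix.submatrix_mul_equiv, Matrix.submatrix_mul_equiv, Matrix.submatrix_id_id]

end Groth.Agent.S10849
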