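import Groth.Statements.S10860
import Mathlib.AlgebraicGeometry.ZariskisMainTheorem
-- import your own Groth.Agent.* helpers here

set_option autoImplicit false
universe u
open Mor

namespace Groth.Agent.S10860

open CategoryTheory AlgebraicGeometry in
/-- For a proper morphism f : X → Y, the set V of points of Y with finite fibre is open, and f
restricted over V is finite (stated as the existence of an open subscheme of Y whose underlying set
is exactly V and over which f is finite). -/
theorem result {X Y : Scheme.{u}} (f : X ⟶ Y) [IsProper f] :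
    ∃ U : Y.Opens, (U : Set Y) = {y : Y | (f.base ⁻¹' {y}).Finite} ∧ IsFinite (f ∣_ U) := by
  have hfin : ∀ (V : Y.Opens), IsFinite (f ∣_ V) → ∀ y ∈ V, (f.base ⁻¹' {y}).Finite := fun V hV y hy => by
    haveI := hV
    refine (((f ∣_ V).finite_preimage_singleton ⟨y, hy⟩).image (f ⁻¹ᵁ V).ι).subset ?_
    intro x hx
    have hxy : f x = y := hx
    refine ⟨⟨x, show f x ∈ V from hxy.symm ▸ hy⟩, ?_, rfl⟩
    apply Subtype.ext
    show V.ι ((f ∣_ V) _) = y
    rw [← Scheme.Hom.comp_apply, morphismRestrict_ι, Scheme.Hom.comp_apply]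
    exact hxy
  have h : ∀ y : {y : Y // (f.base ⁻¹' {y}).Finite}, ∃ V : Y.Opens, y.1 ∈ V ∧ IsFinite (f ∣_ V) := fun y =>
    exists_isFinite_morphismRestrict_of_finite_preimage_singleton f y.1 y.2
  choose V hyV hV using h
  refine ⟨⨆ y, V y, ?_, ?_⟩
  · ext y
    simp only [SetLike.mem_coe, TopologicalSpace.Opens.mem_iSup]
    exact ⟨fun ⟨i, hi⟩ => hfin _ (hV i) y hi, fun hy => ⟨⟨y, hy⟩, hyV ⟨y, hy⟩⟩⟩
  · exact (IsZariskiLocalAtTarget.iff_of_iSup_eq_top (P := @IsFinite) (fun y => (⨆ y, V y : Y.Opens).ι ⁻¹ᵁ V y)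
      (top_unique fun z _ => by
        obtain ⟨i, hi⟩ := TopologicalSpace.Opens.mem_iSup.mp z.2
        exact TopologicalSpace.Opens.mem_iSup.mpr ⟨i, hi⟩)).mpr fun y => by
      rw [← MorphismProperty.arrow_mk_iso_iff (@IsFinite) (morphismRestrictRestrict f _ _).symm]
      refine (MorphismProperty.arrow_mk_iso_iff (@IsFinite) (morphismRestrictEq f ?_)).mpr (hV y)
      rw [Scheme.Hom.image_preimage_eq_opensRange_inf, Scheme.Opens.opensRange_ι]
      exact inf_of_le_right (le_iSup V y)

end Groth.Agent.S10860
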