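import Groth.Statements.S10867
import Groth.Agent.Locus.EtaleCriterion
import Groth.Agent.Locus.Basic
import Mathlib.AlgebraicGeometry.ZariskisMainTheorem
import Mathlib.AlgebraicGeometry.AlgClosed.Basic
-- import your own Groth.Agent.* helpers here

set_option autoImplicit false
universe u
open Mor

namespace Groth.Agent.S10867

open CategoryTheory AlgebraicGeometry in
/-- In the case of an algebraically closed base field k and K = k: let X, Y be k-schemes of finite type
and f : X → Y a proper k-morphism which is injective on closed points and such that for every closed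
point x of X the ideal generated by the image of the maximal ideal of the local ring at f(x),
together with the square of the maximal ideal at x, is the whole maximal ideal at x (the cotangent
map is surjective, i.e. the tangent map at x is injective). Then f is a closed immersion. (The
published statement allows any field k and tests points and tangent spaces with values in an
algebraically closed extension K of k; this row is the case K = k.) -/
theorem result (k : Type u) [Field k] [IsAlgClosed k]
    {X Y : Scheme.{u}} (f : X ⟶ Y) (q : Y ⟶ Spec (CommRingCat.of k)) [LocallyOfFiniteType q] [QuasiCompact q]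
    [LocallyOfFiniteType (f ≫ q)] [IsProper f]
    (hinj : Set.InjOn f.base {x : X | IsClosed ({x} : Set X)})
    (hT : ∀ x : X, IsClosed ({x} : Set X) →
      Ideal.map (f.stalkMap x).hom (IsLocalRing.maximalIdeal (Y.presheaf.stalk (f.base x))) ⊔
        IsLocalRing.maximalIdeal (X.presheaf.stalk x) ^ 2 = IsLocalRing.maximalIdeal (X.presheaf.stalk x)) :
    IsClosedImmersion f := by
  classical
  haveI : IsLocallyNoetherian Y := LocallyOfFiniteType.isLocallyNoetherian q
  haveI : IsLocallyNoetherian X := LocallyOfFiniteType.isLocallyNoetherian (f ≫ q)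
  haveI : JacobsonSpace ↥X := LocallyOfFiniteType.jacobsonSpace (f ≫ q)
  haveI : JacobsonSpace ↥Y := LocallyOfFiniteType.jacobsonSpace q
  have hstalk : ∀ x : X, IsClosed ({x} : Set X) → (f.stalkMap x).hom.FormallyUnramified := by
    intro x hx
    have hy : IsClosed ({f x} : Set Y) := by
      rw [← Set.image_singleton (f := f)]; exact f.isClosedMap _ hx
    have e : (residueFieldIsoBase q (f x) hy).inv ≫ f.residueFieldMap x = (residueFieldIsoBase (f ≫ q) x hx).inv := by
      apply Spec.map_injective
      rw [Spec.map_comp, SpecMap_residueFieldIsoBase_inv, SpecMap_residueFieldIsoBase_inv,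
        Scheme.Hom.SpecMap_residueFieldMap_fromSpecResidueField_assoc]
    haveI : IsIso ((residueFieldIsoBase q (f x) hy).inv ≫ f.residueFieldMap x) := by rw [e]; infer_instance
    haveI : IsIso (f.residueFieldMap x) := IsIso.of_isIso_comp_left (residueFieldIsoBase q (f x) hy).inv _
    refine (Groth.Agent.Locus.EtaleCriterion.formallyUnramified_stalkMap_iff f x).mpr ⟨?_, ?_⟩
    · refine le_antisymm ?_ ?_
      · rw [← hT x hx]; exact le_sup_left
      · refine Submodule.le_of_le_smul_of_le_jacobson_bot (IsNoetherian.noetherian _)
          (IsLocalRing.maximalIdeal_le_jacobson _) ?_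
        rw [smul_eq_mul, ← pow_two]
        exact (hT x hx).ge
    · letI := (f.residueFieldMap x).hom.toAlgebra
      have hs : Function.Surjective (algebraMap (Y.residueField (f x)) (X.residueField x)) :=
        (ConcreteCategory.bijective_of_isIso (f.residueFieldMap x)).2
      haveI : Module.Finite (Y.residueField (f x)) (X.residueField x) :=
        Module.Finite.of_surjective (Algebra.linearMap (Y.residueField (f x)) (X.residueField x)) hs
      refine ⟨inferInstance, ⟨fun z => ?_⟩⟩
      obtain ⟨w, rfl⟩ := hs z
      exact isSeparable_algebraMap w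
  have htop : (⨆ U : {U : X.Opens // FormallyUnramified (U.ι ≫ f)}, U.1) = ⊤ := by
    refine TopologicalSpace.Opens.ext (Set.eq_univ_of_univ_subset fun x _ => ?_)
    by_contra hx
    obtain ⟨z, hz, hzc⟩ := nonempty_inter_closedPoints
      (Z := ((⨆ U : {U : X.Opens // FormallyUnramified (U.ι ≫ f)}, U.1 : X.Opens) : Set X)ᶜ) ⟨x, hx⟩
      (⨆ U : {U : X.Opens // FormallyUnramified (U.ι ≫ f)}, U.1 : X.Opens).isOpen.isClosed_compl.isLocallyClosed
    obtain ⟨U, hzU, hU⟩ := (Groth.Agent.Locus.Basic.exists_formallyUnramified_nhd_iff f z).mpr (hstalk z hzc)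
    exact hz (TopologicalSpace.Opens.mem_iSup.mpr ⟨⟨U, hU⟩, hzU⟩)
  haveI : FormallyUnramified f :=
    (IsZariskiLocalAtSource.iff_of_iSup_eq_top (P := @FormallyUnramified)
      (fun U : {U : X.Opens // FormallyUnramified (U.ι ≫ f)} => U.1) htop).mpr fun U => U.2
  haveI : IsOpenImmersion (Limits.pullback.diagonal f) := inferInstance
  let r : Limits.pullback f f ⟶ Spec (CommRingCat.of k) := Limits.pullback.fst f f ≫ f ≫ q
  haveI : LocallyOfFiniteType (Limits.pullback.fst f f) := MorphismProperty.pullback_fst _ _ inferInstance
  haveI : UniversallyClosed (Limits.pullback.fst f f) := MorphismProperty.pullback_fst _ _ inferInstance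
  haveI : UniversallyClosed (Limits.pullback.snd f f) := MorphismProperty.pullback_snd _ _ inferInstance
  haveI : LocallyOfFiniteType r := MorphismProperty.comp_mem _ _ _ inferInstance inferInstance
  haveI : JacobsonSpace ↥(Limits.pullback f f) := LocallyOfFiniteType.jacobsonSpace r
  haveI : Surjective (Limits.pullback.diagonal f) := ⟨by
    rw [← Set.range_eq_univ]
    refine Set.eq_univ_of_univ_subset fun z _ => ?_
    by_contra hz0
    obtain ⟨z, hz, hzc⟩ := nonempty_inter_closedPoints (Z := (Set.range (Limits.pullback.diagonal f))ᶜ) ⟨z, hz0⟩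
      (Limits.pullback.diagonal f).isOpenEmbedding.isOpen_range.isClosed_compl.isLocallyClosed
    apply hz
    have h1 : IsClosed ({Limits.pullback.fst f f z} : Set X) := by
      rw [← Set.image_singleton]; exact (Limits.pullback.fst f f).isClosedMap _ hzc
    have h2 : IsClosed ({Limits.pullback.snd f f z} : Set X) := by
      rw [← Set.image_singleton]; exact (Limits.pullback.snd f f).isClosedMap _ hzc
    have he : Limits.pullback.fst f f z = Limits.pullback.snd f f z := hinj h1 h2 (by
      rw [← Scheme.Hom.comp_apply, ← Scheme.Hom.comp_apply, Limits.pullback.condition])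
    let s := pointOfClosedPoint r z hzc
    have hs : s ≫ Limits.pullback.fst f f = s ≫ Limits.pullback.snd f f := by
      refine ext_of_apply_closedPoint_eq (f ≫ q) ?_ ?_ ?_
      · rw [Category.assoc]; exact pointOfClosedPoint_comp r z hzc
      · rw [Category.assoc, ← Limits.pullback.condition_assoc]; exact pointOfClosedPoint_comp r z hzc
      · rw [Scheme.Hom.comp_apply, Scheme.Hom.comp_apply, pointOfClosedPoint_apply, he]
    have e' : (s ≫ Limits.pullback.fst f f) ≫ Limits.pullback.diagonal f = s :=
      Limits.pullback.hom_ext (by simp) (by simpa using hs)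
    refine ⟨(s ≫ Limits.pullback.fst f f) (IsLocalRing.closedPoint k), ?_⟩
    rw [← Scheme.Hom.comp_apply, e', pointOfClosedPoint_apply]⟩
  haveI : IsIso (Limits.pullback.diagonal f) :=
    (isIso_iff_isOpenImmersion_and_epi_base _).mpr ⟨inferInstance, (TopCat.epi_iff_surjective _).mpr (Scheme.Hom.surjective _)⟩
  haveI : Mono f := (Limits.pullback.isIso_diagonal_iff f).mp inferInstance
  exact (IsClosedImmersion.iff_isProper_and_mono _).mpr ⟨inferInstance, inferInstance⟩

end Groth.Agent.S10867
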