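import Groth.Statements.S10868
import Mathlib.AlgebraicGeometry.ZariskisMainTheorem
-- import your own Groth.Agent.* helpers here

set_option autoImplicit false
universe u
open Mor

namespace Groth.Agent.S10868

open CategoryTheory AlgebraicGeometry in
/-- f : X → Y is a finite morphism exactly when it is proper and quasi-affine (quasi-compact, with the
inverse image of every affine open subscheme of Y a quasi-affine scheme). -/
theorem result {X Y : Scheme.{u}} (f : X ⟶ Y) :
    IsFinite f ↔ IsProper f ∧ Mor2.IsQuasiAffine f := by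
  constructor
  · intro _
    refine ⟨inferInstance, inferInstance, fun V hV => ?_⟩
    haveI : IsAffine (f ⁻¹ᵁ V : Scheme.{u}) := hV.preimage f
    infer_instance
  · rintro ⟨_, -, hqa⟩
    refine IsFinite.iff_isProper_and_isAffineHom.mpr ⟨inferInstance, ⟨fun V hV => ?_⟩⟩
    haveI : Scheme.IsQuasiAffine (f ⁻¹ᵁ V : Scheme.{u}) := hqa V hV
    haveI : IsAffine (V : Scheme.{u}) := hV
    let W : Scheme.{u} := (f ⁻¹ᵁ V : Scheme.{u})
    let v : Spec Γ(W, ⊤) ⟶ (V : Scheme.{u}) := Spec.map (f ∣_ V).appTop ≫ (Scheme.isoSpec (V : Scheme.{u})).inv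
    have e : W.toSpecΓ ≫ v = f ∣_ V := by
      rw [← Category.assoc, ← Scheme.toSpecΓ_naturality, Category.assoc]
      rw [show Scheme.toSpecΓ (V : Scheme.{u}) = (Scheme.isoSpec (V : Scheme.{u})).hom from rfl, Iso.hom_inv_id, Category.comp_id]
    haveI : IsProper (W.toSpecΓ ≫ v) := e ▸ inferInstance
    haveI : IsProper W.toSpecΓ := IsProper.of_comp W.toSpecΓ v
    haveI : IsClosedImmersion W.toSpecΓ :=
      (IsClosedImmersion.iff_isProper_and_mono _).mpr ⟨inferInstance, inferInstance⟩
    exact (IsClosedImmersion.isAffine_surjective_of_isAffine W.toSpecΓ).1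

end Groth.Agent.S10868
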