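import Groth.Statements.S10871
import Mathlib
-- import your own Groth.Agent.* helpers here

set_option autoImplicit false
universe u
open AlgebraicGeometry
open Curves

namespace Groth.Agent.S10871

/-- Every open subscheme of the spectrum of a Dedekind domain is affine. -/
theorem result (A : Type u) [CommRing A] [IsDedekindDomain A]
    (U : (Spec (CommRingCat.of A)).Opens) : IsAffineOpen U := by
  classical
  obtain ⟨S, hS⟩ := (PrimeSpectrum.isClosed_iff_zeroLocus_ideal _).mp (isClosed_compl_iff.mpr U.2 : IsClosed (X := PrimeSpectrum A) (U : Set (Spec (CommRingCat.of A)))ᶜ)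
  let I : Ideal A := S
  have hU : ∀ q : PrimeSpectrum A, (q : Spec (CommRingCat.of A)) ∈ U ↔ ¬ (I ≤ q.asIdeal) := by
    intro q
    have h2 := Set.ext_iff.mp hS q
    exact ⟨fun h h' => h2.mpr h' h, fun h => not_not.mp fun h' => h (h2.mp h')⟩
  have key : ∀ p : PrimeSpectrum A, ∃ g a : A, g ∉ p.asIdeal ∧ a ∈ I ∧ ∀ i ∈ I, g * i ∈ Ideal.span {a} := by
    intro p
    haveI : IsPrincipalIdealRing (Localization.AtPrime p.asIdeal) := by
      by_cases h : p.asIdeal = ⊥
      · haveI : IsField (Localization.AtPrime p.asIdeal) := by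
          rw [IsLocalRing.isField_iff_maximalIdeal_eq, ← Localization.AtPrime.map_eq_maximalIdeal]
          exact (congrArg (Ideal.map (algebraMap A (Localization.AtPrime p.asIdeal))) h).trans Ideal.map_bot
        letI := this.toField
        infer_instance
      · haveI := IsLocalization.AtPrime.isDiscreteValuationRing_of_dedekind_domain A h (Localization.AtPrime p.asIdeal)
        infer_instance
    obtain ⟨z, hz⟩ := IsPrincipalIdealRing.principal (I.map (algebraMap A (Localization.AtPrime p.asIdeal)))
    obtain ⟨⟨⟨a, ha⟩, s⟩, has⟩ := (IsLocalization.mem_map_algebraMap_iff p.asIdeal.primeCompl _).mp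
      (show z ∈ I.map (algebraMap A (Localization.AtPrime p.asIdeal)) by rw [hz]; exact Submodule.mem_span_singleton_self z)
    have hi : ∀ i ∈ I, ∃ g : A, g ∉ p.asIdeal ∧ g * i ∈ Ideal.span {a} := by
      intro i hi
      have h1 := Ideal.mem_map_of_mem (algebraMap A (Localization.AtPrime p.asIdeal)) hi
      rw [hz] at h1
      obtain ⟨c, hc⟩ := Submodule.mem_span_singleton.mp h1
      have h2 : algebraMap A (Localization.AtPrime p.asIdeal) i ∈ (Ideal.span {a}).map (algebraMap A _) := by
        rw [Ideal.map_span, Set.image_singleton, Ideal.mem_span_singleton, ← hc, smul_eq_mul]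
        refine dvd_mul_of_dvd_right ?_ c
        rw [← has]; exact (IsUnit.mul_right_dvd (IsLocalization.map_units _ s)).mpr dvd_rfl
      obtain ⟨m, hm, hmi⟩ := (IsLocalization.algebraMap_mem_map_algebraMap_iff p.asIdeal.primeCompl _ _ _).mp h2
      exact ⟨m, hm, hmi⟩
    obtain ⟨T, hT⟩ := (IsNoetherian.noetherian I : I.FG)
    choose! g hg1 hg2 using hi
    refine ⟨∏ i ∈ T, g i, a, ?_, ha, ?_⟩
    · intro h
      obtain ⟨i, hiT, hi'⟩ := Ideal.IsPrime.prod_mem_iff.mp h
      exact hg1 i (hT ▸ Ideal.subset_span hiT) hi'
    · intro i hi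
      rw [← hT] at hi
      induction hi using Submodule.span_induction with
      | mem b hb =>
        obtain ⟨c, hc⟩ := Finset.dvd_prod_of_mem g hb
        rw [hc, mul_right_comm]
        exact Ideal.mul_mem_right _ _ (hg2 b (hT ▸ Ideal.subset_span hb))
      | zero => simp
      | add b c _ _ hb hc => rw [mul_add]; exact add_mem hb hc
      | smul r b _ hb => rw [smul_eq_mul, mul_left_comm]; exact Ideal.mul_mem_left _ _ hb
  haveI : IsAffineHom U.ι := by
    apply isAffineHom_of_forall_exists_isAffineOpen
    intro x
    obtain ⟨g, a, hg, ha, hga⟩ := key x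
    refine ⟨PrimeSpectrum.basicOpen g, hg, ?_, ?_⟩
    · exact IsAffineOpen.Spec_basicOpen (R := CommRingCat.of A) g
    · have hle : (PrimeSpectrum.basicOpen (g * a) : (Spec (CommRingCat.of A)).Opens) ≤ U := by
        intro q hq
        exact (hU q).mpr fun hle => (PrimeSpectrum.mem_basicOpen _ q).mp hq (q.asIdeal.mul_mem_left g (hle ha))
      have h := (IsAffineOpen.Spec_basicOpen (R := CommRingCat.of A) (g * a)).preimage_of_isOpenImmersion U.ι
        (by rw [Scheme.Opens.opensRange_ι]; exact hle)
      · convert h using 1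
        ext q
        obtain ⟨(q : PrimeSpectrum A), hq⟩ := q
        show (g ∉ q.asIdeal) ↔ (g * a ∉ q.asIdeal)
        constructor
        · intro h1 h2
          rcases Ideal.IsPrime.mem_or_mem inferInstance h2 with h3 | h3
          · exact h1 h3
          · refine (hU q).mp hq fun i hi => ?_
            exact ((Ideal.IsPrime.mem_or_mem inferInstance ((Ideal.span_singleton_le_iff_mem _).mpr h3 (hga i hi)))).resolve_left h1
        · exact fun h1 h2 => h1 (Ideal.mul_mem_right _ _ h2)
  have h := (isAffineOpen_top (Spec (CommRingCat.of A))).preimage U.ι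
  have := h.image_of_isOpenImmersion U.ι
  simpa using this

end Groth.Agent.S10871
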