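import Groth.Statements.S10885
import Groth.Agent.HensPair.DimMore

set_option autoImplicit false
universe u
open CategoryTheory AlgebraicGeometry
open Variety

namespace Groth.Agent.S10885

/-- Let Y be a scheme of finite type over a field k, r ≥ 0, and f : X → Y a morphism of finite type
whose fibre over every maximal point of Y has dimension at least r. Then dim X ≥ r + dim Y. -/
theorem result (k : Type u) [Field k] {X Y : Scheme.{u}}
    (q : Y ⟶ Spec (CommRingCat.of k)) [LocallyOfFiniteType q] [QuasiCompact q]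
    (f : X ⟶ Y) [LocallyOfFiniteType f] [QuasiCompact f] (r : ℕ)
    (hfib : ∀ η : Y, (∀ y : Y, y ⤳ η → y = η) → (r : WithBot ℕ∞) ≤ topologicalKrullDim (f.base ⁻¹' {η})) :
    (r : WithBot ℕ∞) + topologicalKrullDim Y ≤ topologicalKrullDim X := by
  open Groth.Agent.HensPair in
  have key : ∀ l : LTSeries Y, ((r + l.length : ℕ) : WithBot ℕ∞) ≤ topologicalKrullDim ↥X := fun l => by
    obtain ⟨η, hmax, hl⟩ := DimMore.length_le_T q l
    have h1 : ((r : ℕ) : WithBot ℕ∞) ≤ topologicalKrullDim ↥(f.fiber η) :=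
      (hfib η hmax).trans (Groth.Agent.Equidim.dim_le_of_range (φ := fun z : ↥(f.base ⁻¹' {η}) => z.1)
        Topology.IsInducing.subtypeVal (f.fiberι η).isEmbedding fun z => by rw [f.range_fiberι]; exact z.2)
    obtain ⟨s, hs⟩ := Order.le_krullDim_iff.mp h1
    obtain ⟨x, hx, hle⟩ := Groth.Agent.Equidim.exists_le_fibreDimAt f s
    obtain ⟨g, -, hgmax, hdim⟩ := FibreTrdeg.exists_maximal_dim f x
    let a := f.fiberι (f x) g
    have hfa : f a = η := ((f.range_fiberι (f x)).subset ⟨g, rfl⟩ : f a = f x).trans hx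
    have hTa : r ≤ FibreTrdeg.T f a := by
      have h2 := hle.trans (hdim.trans (le_of_eq (FibreTrdeg.fibreDimAt_eq_T_of_maximal f a fun z hz hcl =>
        FibreComp.maximal_image f (f x) g hgmax z (hz.trans ((f.range_fiberι (f x)).subset ⟨g, rfl⟩)) hcl)))
      rw [hs] at h2
      exact_mod_cast h2
    refine le_trans ?_ (DimMore.T_le_dim (f ≫ q) a)
    rw [JacobsonDim.T_add f q a, hfa]
    exact_mod_cast (by omega : r + l.length ≤ FibreTrdeg.T q η + FibreTrdeg.T f a)
  rw [show topologicalKrullDim ↥Y = Order.krullDim ↥Y from Order.krullDim_eq_of_orderIso irreducibleSetEquivPoints]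
  cases hY : Order.krullDim ↥Y with
  | bot => rw [WithBot.add_bot]; exact bot_le
  | coe c =>
    cases c with
    | top =>
      have htop : topologicalKrullDim ↥X = ⊤ := by
        rw [show topologicalKrullDim ↥X = Order.krullDim ↥X from Order.krullDim_eq_of_orderIso irreducibleSetEquivPoints]
        refine Order.krullDim_eq_top_iff.mpr ⟨fun n => ?_⟩
        obtain ⟨l, hl⟩ := Order.le_krullDim_iff.mp (show ((n : ℕ) : WithBot ℕ∞) ≤ Order.krullDim ↥Y by
          rw [hY]; exact WithBot.coe_le_coe.mpr le_top)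
        obtain ⟨l', hl'⟩ := Order.le_krullDim_iff.mp (show ((n : ℕ) : WithBot ℕ∞) ≤ Order.krullDim ↥X from
          (show ((n : ℕ) : WithBot ℕ∞) ≤ _ by exact_mod_cast (by omega : n ≤ r + l.length)).trans
            ((key l).trans (le_of_eq (Order.krullDim_eq_of_orderIso irreducibleSetEquivPoints))))
        exact ⟨l', hl'⟩
      rw [htop]; exact le_top
    | coe c =>
      obtain ⟨l, hl⟩ := Order.le_krullDim_iff.mp (show ((c : ℕ) : WithBot ℕ∞) ≤ Order.krullDim ↥Y by rw [hY]; exact le_rfl)
      refine le_trans ?_ (key l)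
      rw [hl]; push_cast; exact le_rfl

end Groth.Agent.S10885
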