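import Groth.Statements.S10891
import Mathlib

set_option autoImplicit false
set_option linter.style.haveILetI false
universe u
open CAlg

namespace Groth.Agent.S10891

/-- Let k be a field containing a primitive r-th root of unity ζ and 0 < a < r. The cyclic group of r-th
roots of unity acts on k[X, Y] through the generator X ↦ ζ⁻¹ X, Y ↦ ζ^(−a) Y, and the ring of
invariants of this action is generated as a k-algebra by the monomials X^i Y^j with 0 ≤ i, j ≤ r,
(i, j) ≠ (r, r) and i + a·j ≡ 0 (mod r). (The printed statement writes n for the order of the group,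
which the surrounding section calls r.) -/
theorem result (k : Type u) [Field k] (r a : ℕ) (ha : 0 < a) (har : a < r)
    (ζ : k) (hζ : IsPrimitiveRoot ζ r) (p : MvPolynomial (Fin 2) k) :
    MvPolynomial.aeval (fun i : Fin 2 => if i = 0 then MvPolynomial.C ζ⁻¹ * MvPolynomial.X 0
        else MvPolynomial.C (ζ⁻¹ ^ a) * (MvPolynomial.X 1 : MvPolynomial (Fin 2) k)) p = p ↔
      p ∈ Algebra.adjoin k {q : MvPolynomial (Fin 2) k | ∃ i j : ℕ, i ≤ r ∧ j ≤ r ∧ ¬ (i = r ∧ j = r) ∧
        r ∣ i + a * j ∧ q = MvPolynomial.X 0 ^ i * MvPolynomial.X 1 ^ j} := by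
  classical
  set φ := MvPolynomial.aeval (R := k) (fun i : Fin 2 => if i = 0 then MvPolynomial.C ζ⁻¹ * MvPolynomial.X 0
        else MvPolynomial.C (ζ⁻¹ ^ a) * (MvPolynomial.X 1 : MvPolynomial (Fin 2) k)) with hφ
  set T := Algebra.adjoin k {q : MvPolynomial (Fin 2) k | ∃ i j : ℕ, i ≤ r ∧ j ≤ r ∧ ¬ (i = r ∧ j = r) ∧
        r ∣ i + a * j ∧ q = MvPolynomial.X 0 ^ i * MvPolynomial.X 1 ^ j} with hT
  have hr : 0 < r := lt_trans ha har
  have hXY : ∀ i j : ℕ, φ (MvPolynomial.X 0 ^ i * MvPolynomial.X 1 ^ j)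
      = MvPolynomial.C (ζ⁻¹ ^ (i + a * j)) * (MvPolynomial.X 0 ^ i * MvPolynomial.X 1 ^ j) := by
    intro i j
    simp only [hφ, map_mul, map_pow, MvPolynomial.aeval_X, Fin.reduceEq, if_false, if_true, mul_pow]
    rw [pow_add, pow_mul]
    ring
  have hmon : ∀ d : Fin 2 →₀ ℕ, ∀ c : k, MvPolynomial.monomial d c = MvPolynomial.C c * (MvPolynomial.X 0 ^ (d 0) * MvPolynomial.X 1 ^ (d 1)) := by
    intro d c
    rw [MvPolynomial.monomial_eq, Finsupp.prod_fintype _ _ (fun i => pow_zero _), Fin.prod_univ_two]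
  have hgen : ∀ N i j : ℕ, i + j = N → r ∣ i + a * j → (MvPolynomial.X 0 ^ i * MvPolynomial.X 1 ^ j : MvPolynomial (Fin 2) k) ∈ T := by
    intro N
    induction N using Nat.strong_induction_on with
    | _ N ih =>
      intro i j hN hd
      by_cases hi : r ≤ i
      · obtain ⟨i', rfl⟩ := Nat.exists_eq_add_of_le hi
        rw [pow_add, mul_assoc]
        refine mul_mem (Algebra.subset_adjoin ⟨r, 0, le_rfl, Nat.zero_le _, by omega, by simp, by simp⟩) (ih (i' + j) (by omega) i' j rfl ?_)
        rw [add_assoc] at hd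
        exact (Nat.dvd_add_iff_right (dvd_refl r)).mpr hd
      by_cases hj : r ≤ j
      · obtain ⟨j', rfl⟩ := Nat.exists_eq_add_of_le hj
        rw [pow_add, mul_left_comm]
        refine mul_mem (Algebra.subset_adjoin ⟨0, r, Nat.zero_le _, le_rfl, by omega, by simp, by simp⟩) (ih (i + j') (by omega) i j' rfl ?_)
        rw [mul_add, ← add_assoc, add_comm i, add_assoc] at hd
        exact (Nat.dvd_add_iff_right (dvd_mul_left r a)).mpr hd
      exact Algebra.subset_adjoin ⟨i, j, by omega, by omega, by omega, hd, rfl⟩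
  have hcoef : ∀ (q : MvPolynomial (Fin 2) k) d, (φ q).coeff d = ζ⁻¹ ^ (d 0 + a * d 1) * q.coeff d := by
    intro q d
    induction q using MvPolynomial.induction_on' with
    | monomial e c =>
      rw [hmon e c, map_mul, MvPolynomial.algHom_C, hXY]
      rw [MvPolynomial.algebraMap_eq, ← mul_assoc, ← map_mul, ← hmon e (c * _), ← hmon e c, MvPolynomial.coeff_monomial, MvPolynomial.coeff_monomial]
      split_ifs with h
      · subst h; ring
      · ring
    | add p q ihp ihq => rw [map_add, MvPolynomial.coeff_add, MvPolynomial.coeff_add, ihp, ihq, mul_add]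
  have hz : IsPrimitiveRoot ζ⁻¹ r := hζ.inv
  constructor
  · intro hp
    rw [p.as_sum]
    refine sum_mem fun d hd => ?_
    rw [hmon]
    refine mul_mem (T.algebraMap_mem _) (hgen _ _ _ rfl ?_)
    have h := hcoef p d
    rw [hp] at h
    have hc : p.coeff d ≠ 0 := MvPolynomial.mem_support_iff.mp hd
    exact (hz.pow_eq_one_iff_dvd _).mp (mul_right_cancel₀ hc (by rw [one_mul]; exact h.symm))
  · intro hp
    induction hp using Algebra.adjoin_induction with
    | mem q hq =>
      obtain ⟨i, j, -, -, -, hd, rfl⟩ := hq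
      rw [hXY, (hz.pow_eq_one_iff_dvd _).mpr hd, map_one, one_mul]
    | algebraMap c => exact φ.commutes c
    | add x y _ _ hx hy => rw [map_add, hx, hy]
    | mul x y _ _ hx hy => rw [map_mul, hx, hy]

end Groth.Agent.S10891
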