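import Groth.Statements.S10895
import Mathlib
-- import your own Groth.Agent.* helpers here

set_option autoImplicit false
universe u
open CategoryTheory AlgebraicGeometry
open FlatMor

namespace Groth.Agent.S10895

/-- A closed immersion of finite presentation which is flat at a point x is an isomorphism over some
open neighbourhood of the image of x. -/
theorem result {X Y : Scheme.{u}} (f : X ⟶ Y) [IsClosedImmersion f]
    [LocallyOfFinitePresentation f] (x : X) (hflat : (f.stalkMap x).hom.Flat) :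
    ∃ V : Y.Opens, f.base x ∈ V ∧ IsIso (f ∣_ V) := by
  obtain ⟨V, hV, hxV, -⟩ := exists_isAffineOpen_mem_and_subset (X := Y) (x := f.base x) (U := ⊤) trivial
  have hW : IsAffineOpen (f ⁻¹ᵁ V) := hV.preimage f
  have hsurj : Function.Surjective (f.app V).hom := f.app_surjective V hV
  have hfp : (f.app V).hom.FinitePresentation := by
    rw [Scheme.Hom.app_eq_appLE]; exact f.finitePresentation_appLE hV hW le_rfl
  have hfg : (RingHom.ker (f.app V).hom).FG := by
    algebraize [(f.app V).hom]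
    exact Algebra.FinitePresentation.ker_fG_of_surjective (Algebra.ofId Γ(Y, V) Γ(X, f ⁻¹ᵁ V)) hsurj
  have hinj : Function.Injective (f.stalkMap x).hom := by
    algebraize [(f.stalkMap x).hom]
    haveI : IsLocalHom (algebraMap (Y.presheaf.stalk (f.base x)) (X.presheaf.stalk x)) :=
      inferInstanceAs (IsLocalHom (f.stalkMap x).hom)
    haveI : Module.FaithfullyFlat (Y.presheaf.stalk (f.base x)) (X.presheaf.stalk x) :=
      Module.FaithfullyFlat.of_flat_of_isLocalHom
    exact FaithfulSMul.algebraMap_injective _ _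
  haveI := hV.isLocalization_stalk ⟨f.base x, hxV⟩
  have hann : ∀ a ∈ RingHom.ker (f.app V).hom, ∃ g : (hV.primeIdealOf ⟨f.base x, hxV⟩).asIdeal.primeCompl,
      (g : Γ(Y, V)) * a = 0 := by
    intro a ha
    letI : Algebra Γ(Y, V) (Y.presheaf.stalk (f.base x)) := Y.presheaf.algebra_section_stalk ⟨f.base x, hxV⟩
    apply (IsLocalization.map_eq_zero_iff (hV.primeIdealOf ⟨f.base x, hxV⟩).asIdeal.primeCompl
      (Y.presheaf.stalk (f.base x)) a).mp
    refine hinj ?_
    rw [map_zero]
    have h1 := Scheme.Hom.germ_stalkMap_apply f V x hxV a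
    refine h1.trans ?_
    erw [RingHom.mem_ker.mp ha, map_zero]
  classical
  obtain ⟨T, hT⟩ := hfg
  choose! g hg using hann
  let G : Γ(Y, V) := ∏ a ∈ T, (g a : Γ(Y, V))
  have hG : G ∈ (hV.primeIdealOf ⟨f.base x, hxV⟩).asIdeal.primeCompl :=
    Submonoid.prod_mem _ (fun a _ => (g a).2)
  have hGI : ∀ a ∈ RingHom.ker (f.app V).hom, G * a = 0 := by
    intro a ha
    rw [← hT] at ha
    induction ha using Submodule.span_induction with
    | mem b hb =>
      obtain ⟨c, hc⟩ := Finset.dvd_prod_of_mem (fun a => (g a : Γ(Y, V))) hb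
      have hb' : b ∈ RingHom.ker (f.app V).hom := hT ▸ Ideal.subset_span hb
      change G = (g b : Γ(Y, V)) * c at hc
      rw [hc, mul_right_comm, hg b hb', zero_mul]
    | zero => simp
    | add b c _ _ hb hc => rw [mul_add, hb, hc, add_zero]
    | smul r b _ hb => rw [smul_eq_mul, mul_left_comm, hb, mul_zero]
  have hxU : f.base x ∈ Y.basicOpen G := by
    rw [Y.mem_basicOpen _ _ hxV]
    letI : Algebra Γ(Y, V) (Y.presheaf.stalk (f.base x)) := Y.presheaf.algebra_section_stalk ⟨f.base x, hxV⟩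
    exact IsLocalization.map_units (Y.presheaf.stalk (f.base x)) (⟨G, hG⟩ : (hV.primeIdealOf ⟨f.base x, hxV⟩).asIdeal.primeCompl)
  refine ⟨Y.basicOpen G, hxU, ?_⟩
  have hU : IsAffineOpen (Y.basicOpen G) := hV.basicOpen G
  have key : Function.Injective (f.app (Y.basicOpen G)).hom := by
    rw [injective_iff_map_eq_zero]
    intro s hs
    haveI := hV.isLocalization_basicOpen G
    have hle : f ⁻¹ᵁ Y.basicOpen G ≤ f ⁻¹ᵁ V := f.preimage_mono (Y.basicOpen_le G)
    letI : Algebra Γ(X, f ⁻¹ᵁ V) Γ(X, f ⁻¹ᵁ Y.basicOpen G) := (X.presheaf.map (homOfLE hle).op).hom.toAlgebra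
    haveI := hW.isLocalization_of_eq_basicOpen (f.app V G) (homOfLE hle) (Scheme.preimage_basicOpen f G)
    obtain ⟨⟨a, ⟨_, n, rfl⟩⟩, ha⟩ := IsLocalization.surj (Submonoid.powers G) s
    have h1 := congrArg (f.app (Y.basicOpen G)).hom ha
    rw [map_mul, hs, zero_mul] at h1
    have hnat := ConcreteCategory.congr_hom (f.naturality (homOfLE (Y.basicOpen_le G)).op) a
    have h2 : algebraMap Γ(X, f ⁻¹ᵁ V) Γ(X, f ⁻¹ᵁ Y.basicOpen G) (f.app V a) = 0 := by
      exact (Eq.trans hnat.symm h1.symm)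
    obtain ⟨⟨_, m, rfl⟩, hm⟩ := (IsLocalization.map_eq_zero_iff (Submonoid.powers (f.app V G)) _ _).mp h2
    have h3 : G ^ m * a ∈ RingHom.ker (f.app V).hom := by
      rw [RingHom.mem_ker, map_mul, map_pow]; exact hm
    have h4 := hGI _ h3
    have h5 : algebraMap Γ(Y, V) Γ(Y, Y.basicOpen G) a = 0 :=
      (IsLocalization.map_eq_zero_iff (Submonoid.powers G) _ _).mpr ⟨⟨G ^ (m + 1), m + 1, rfl⟩, by
        show G ^ (m + 1) * a = 0
        rw [pow_succ', mul_assoc]; exact h4⟩
    rw [h5] at ha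
    exact (IsUnit.mul_left_eq_zero (IsLocalization.map_units _ (⟨G ^ n, n, rfl⟩ : Submonoid.powers G))).mp ha
  haveI : IsClosedImmersion (f ∣_ Y.basicOpen G) := IsZariskiLocalAtTarget.restrict ‹_› _
  haveI : IsAffine (Y.basicOpen G).toScheme := hU
  rw [IsClosedImmersion.isIso_iff_ker_eq_bot]
  refine Scheme.IdealSheafData.ext_of_isAffine ?_
  simp only [Scheme.Hom.ker_apply, Scheme.IdealSheafData.ideal_bot, Pi.bot_apply]
  rw [morphismRestrict_app, RingHom.ker_eq_bot_iff_eq_zero]
  intro a ha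
  have hiso := (ConcreteCategory.bijective_of_isIso
    (X.presheaf.map (eqToHom (image_morphismRestrict_preimage f (Y.basicOpen G) ⊤)).op)).1
  have h6 : f.app ((Y.basicOpen G).ι ''ᵁ ⊤) a = 0 := hiso (by rw [map_zero]; exact ha)
  have h7 : ∀ U' : Y.Opens, U' = Y.basicOpen G → Function.Injective (f.app U').hom := by rintro _ rfl; exact key
  exact h7 _ (Scheme.Opens.ι_image_top _) (h6.trans (map_zero _).symm)

end Groth.Agent.S10895
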