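import Groth.Statements.S10898
import Mathlib
-- import your own Groth.Agent.* helpers here

set_option autoImplicit false
universe u
open Polynomial
open WDiv

open Polynomial
namespace Groth.Agent.S10898

/-- Let A be a Noetherian integral domain and P a prime ideal of height 1 of the polynomial ring A[X].
Then either P meets A in 0 only, or its contraction p = P ∩ A is a prime of height 1 of A and P is
the extension p·A[X]. (The published lemma also assumes A regular in codimension 1; that hypothesis
is not used for this assertion.) -/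
theorem result (A : Type u) [CommRing A] [IsDomain A]
    [IsNoetherianRing A] (P : Ideal A[X]) [P.IsPrime] (hP : P.height = 1) :
    P.comap (C : A →+* A[X]) = ⊥ ∨
      ((P.comap (C : A →+* A[X])).height = 1 ∧ P = (P.comap (C : A →+* A[X])).map C) := by
  by_cases hp : P.comap (C : A →+* A[X]) = ⊥
  · exact Or.inl hp
  right
  set p := P.comap (C : A →+* A[X])
  haveI hpp : p.IsPrime := Ideal.IsPrime.comap _
  haveI : (p.map (C : A →+* A[X])).IsPrime := Ideal.isPrime_map_C_of_isPrime
  have hle : p.map (C : A →+* A[X]) ≤ P := Ideal.map_comap_le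
  have hne : p.map (C : A →+* A[X]) ≠ ⊥ := fun h => hp ((Ideal.map_eq_bot_iff_of_injective C_injective).1 h)
  have heq : P = p.map (C : A →+* A[X]) := by
    by_contra hne'
    haveI : P.FiniteHeight := ⟨Or.inr (by rw [hP]; exact ENat.one_ne_top)⟩
    have := Ideal.height_strict_mono_of_isPrime (lt_of_le_of_ne hle (Ne.symm hne'))
    rw [hP, ENat.lt_one_iff_eq_zero, Ideal.height_eq_zero_iff_eq_bot] at this
    exact hne this
  refine ⟨le_antisymm ?_ ?_, heq⟩
  · refine (Ideal.height_le_iff (n := 1)).2 fun q hq hqp => ?_
    suffices q = ⊥ by rw [this, Ideal.height_bot]; exact zero_lt_one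
    by_contra hq0
    haveI := hq
    haveI : (q.map (C : A →+* A[X])).IsPrime := Ideal.isPrime_map_C_of_isPrime
    have h1 : q.map (C : A →+* A[X]) < P := by
      refine lt_of_le_of_ne (heq ▸ Ideal.map_mono hqp.le) fun e => hqp.ne ?_
      have hcm : ∀ I : Ideal A, (I.map (C : A →+* A[X])).comap C = I := fun I => by
        ext a
        simp only [Ideal.mem_comap, Ideal.mem_map_C_iff]
        exact ⟨fun h => by simpa using h 0, fun h n => by rw [coeff_C]; split_ifs <;> simp [h]⟩
      rw [← hcm q, e]
    haveI : P.FiniteHeight := ⟨Or.inr (by rw [hP]; exact ENat.one_ne_top)⟩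
    haveI : (q.map (C : A →+* A[X])).FiniteHeight := Ideal.finiteHeight_of_le h1.le (Ideal.IsPrime.ne_top inferInstance)
    have h2 := Ideal.height_strict_mono_of_isPrime h1
    rw [hP, ENat.lt_one_iff_eq_zero, Ideal.height_eq_zero_iff_eq_bot] at h2
    exact hq0 ((Ideal.map_eq_bot_iff_of_injective C_injective).1 h2)
  · exact ENat.one_le_iff_ne_zero.2 fun h => hp (Ideal.height_eq_zero_iff_eq_bot.1 h)

end Groth.Agent.S10898
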