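import Groth.Statements.S10899
import Mathlib.RingTheory.Ideal.Height
import Mathlib.RingTheory.Polynomial.Basic
import Mathlib.RingTheory.DiscreteValuationRing.TFAE
import Mathlib.RingTheory.Localization.Integral
-- import your own Groth.Agent.* helpers here

set_option autoImplicit false
universe u
open Polynomial
open WDiv

namespace Groth.Agent.S10899

/-- Let A be a Noetherian integral domain which is regular in codimension 1, i.e. whose localization at
every prime ideal of height 1 is a discrete valuation ring. Then the polynomial ring A[X] is regular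
in codimension 1 as well: its localization at every prime ideal of height 1 is a discrete valuation
ring. -/
theorem result (A : Type u) [CommRing A]
    [IsDomain A] [IsNoetherianRing A]
    (hR1 : ∀ (p : Ideal A) [p.IsPrime], p.height = 1 → IsDiscreteValuationRing (Localization.AtPrime p))
    (P : Ideal A[X]) [P.IsPrime] (hP : P.height = 1) :
    IsDiscreteValuationRing (Localization.AtPrime P) := by
  classical
  have hheight : ∀ q : Ideal A[X], q.IsPrime → q < P → q = ⊥ := by
    intro q hq hlt
    have := (Ideal.height_le_iff (p := P) (n := 1)).mp (le_of_eq (by rw [hP]; rfl)) q hq hlt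
    rw [← Ideal.height_eq_zero_iff_eq_bot]
    exact ENat.lt_one_iff_eq_zero.mp (by exact_mod_cast this)
  have hP0 : P ≠ ⊥ := by rintro rfl; simp at hP
  suffices h : ∃ π ∈ P, ∀ g ∈ P, ∃ s ∉ P, π ∣ s * g by
    obtain ⟨π, hπ, hdvd⟩ := h
    let L := Localization.AtPrime P
    haveI : IsNoetherianRing L := IsLocalization.isNoetherianRing P.primeCompl L inferInstance
    have hmax : IsLocalRing.maximalIdeal L = Ideal.span {algebraMap A[X] L π} := by
      rw [← Localization.AtPrime.map_eq_maximalIdeal]
      refine le_antisymm (Ideal.map_le_iff_le_comap.mpr fun g hg => ?_)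
        ((Ideal.span_singleton_le_iff_mem _).mpr (Ideal.mem_map_of_mem _ hπ))
      obtain ⟨s, hs, t, ht⟩ := hdvd g hg
      refine Ideal.mem_comap.mpr (Ideal.mem_span_singleton.mpr ?_)
      have hu : IsUnit (algebraMap A[X] L s) := IsLocalization.map_units L (⟨s, hs⟩ : P.primeCompl)
      rw [← hu.dvd_mul_left, ← map_mul, ht, map_mul]
      exact dvd_mul_right _ _
    have hnf : ¬ IsField L := by
      rw [IsLocalRing.isField_iff_maximalIdeal_eq, ← Localization.AtPrime.map_eq_maximalIdeal]
      intro hbot
      obtain ⟨g, hg, hg0⟩ := Submodule.exists_mem_ne_zero_of_ne_bot hP0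
      have : algebraMap A[X] L g ∈ (⊥ : Ideal L) := hbot ▸ Ideal.mem_map_of_mem _ hg
      exact hg0 ((map_eq_zero_iff _ (IsLocalization.injective L
        P.primeCompl_le_nonZeroDivisors)).mp (Ideal.mem_bot.mp this))
    have h4 : (IsLocalRing.maximalIdeal L).IsPrincipal := ⟨⟨_, hmax⟩⟩
    exact ((IsDiscreteValuationRing.TFAE L hnf).out 4 0).mp h4
  let p : Ideal A := P.comap C
  haveI : p.IsPrime := Ideal.IsPrime.comap _
  by_cases hp : p = ⊥
  · -- the prime lies over zero
    obtain ⟨f₀, hf₀, hf₀0⟩ := Submodule.exists_mem_ne_zero_of_ne_bot hP0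
    let K := FractionRing A
    let φ : A[X] →+* K[X] := mapRingHom (algebraMap A K)
    haveI : IsPrincipalIdealRing K[X] := inferInstance
    have hclear : ∀ h : K[X], ∃ c : A, c ≠ 0 ∧ ∃ g : A[X], φ g = C (algebraMap A K c) * h := by
      intro h
      obtain ⟨c, hc, hg⟩ := IsLocalization.integerNormalization_spec (nonZeroDivisors A) h
      refine ⟨c, nonZeroDivisors.ne_zero hc, IsLocalization.integerNormalization (nonZeroDivisors A) h, ?_⟩
      exact (show φ _ = _ from hg).trans (by simp [Algebra.smul_def])
    have hC : ∀ c : A, c ≠ 0 → C c ∉ P := fun c hc h => hc (by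
      have : c ∈ p := h
      rw [hp] at this; exact this)
    have hφ : Function.Injective φ := map_injective _ (IsFractionRing.injective A K)
    let f := Submodule.IsPrincipal.generator (P.map φ)
    obtain ⟨c, hc, π, hπ⟩ := hclear f
    have hcontr : ∀ g, φ g ∈ P.map φ → g ∈ P := by
      intro g hg
      have : ∀ y ∈ P.map φ, ∃ c : A, c ≠ 0 ∧ ∃ q ∈ P, φ q = C (algebraMap A K c) * y := by
        intro y hy
        induction hy using Submodule.span_induction with
        | mem z hz => obtain ⟨q, hq, rfl⟩ := hz; exact ⟨1, one_ne_zero, q, hq, by simp⟩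
        | zero => exact ⟨1, one_ne_zero, 0, P.zero_mem, by simp⟩
        | add u v _ _ hu hv =>
          obtain ⟨a, ha, q, hq, hqe⟩ := hu
          obtain ⟨b, hb, r, hr, hre⟩ := hv
          refine ⟨a * b, mul_ne_zero ha hb, C b * q + C a * r,
            add_mem (P.mul_mem_left _ hq) (P.mul_mem_left _ hr), ?_⟩
          simp [φ, map_add, map_mul, show map (algebraMap A K) q = _ from hqe,
            show map (algebraMap A K) r = _ from hre]
          ring
        | smul t u _ hu =>
          obtain ⟨a, ha, q, hq, hqe⟩ := hu
          obtain ⟨b, hb, t', ht'⟩ := hclear t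
          refine ⟨b * a, mul_ne_zero hb ha, t' * q, P.mul_mem_left _ hq, ?_⟩
          rw [map_mul, ht', hqe, smul_eq_mul]
          simp only [map_mul]
          ring
      obtain ⟨a, ha, q, hq, hqe⟩ := this _ hg
      have : q = C a * g := hφ (by rw [hqe]; simp [φ])
      exact ((Ideal.IsPrime.mem_or_mem inferInstance (this ▸ hq)).resolve_left (hC a ha))
    refine ⟨π, hcontr π (hπ ▸ Ideal.mul_mem_left _ _ (Submodule.IsPrincipal.generator_mem _)),
      fun g hg => ?_⟩
    obtain ⟨h, hh⟩ := (Submodule.IsPrincipal.mem_iff_generator_dvd (P.map φ)).mp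
      (Ideal.mem_map_of_mem φ hg)
    obtain ⟨b, hb, h', hh'⟩ := hclear h
    refine ⟨C b * C c, fun hmem => (Ideal.IsPrime.mem_or_mem inferInstance hmem).elim (hC b hb) (hC c hc),
      h', hφ ?_⟩
    rw [map_mul, map_mul φ π, hπ, hh', hh, map_mul φ]
    simp [φ]
    ring
  · -- the prime is extended from a height one prime
    have hle : p.map C ≤ P := Ideal.map_comap_le
    have hPe : p.map C = P := by
      by_contra hne
      exact (fun h => hp (Ideal.map_eq_bot_iff_of_injective C_injective |>.mp h))
        (hheight _ inferInstance (lt_of_le_of_ne hle hne))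
    have hp1 : p.height = 1 := by
      refine le_antisymm ?_ ?_
      · have : p.height ≤ ((1 : ℕ) : ℕ∞) := by
          rw [Ideal.height_le_iff]
          intro q hq hlt
          have hqX : q.map C < p.map C := by
            refine lt_of_le_of_ne (Ideal.map_mono hlt.le) fun h => hlt.ne ?_
            have := congrArg (Ideal.comap (C : A →+* A[X])) h
            have e : ∀ J : Ideal A, (J.map C).comap (C : A →+* A[X]) = J := fun J => by
              ext a
              refine ⟨fun ha => by simpa using Ideal.mem_map_C_iff.mp ha 0, fun ha => ?_⟩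
              exact Ideal.mem_map_of_mem C ha
            rwa [e, e] at this
          rw [hPe] at hqX
          have hq0 := Ideal.map_eq_bot_iff_of_injective C_injective |>.mp (hheight _ inferInstance hqX)
          rw [hq0, Ideal.height_bot]
          exact_mod_cast Nat.one_pos
        exact_mod_cast this
      · rw [ENat.one_le_iff_ne_zero, Ne, Ideal.height_eq_zero_iff_eq_bot]
        exact hp
    haveI := hR1 p hp1
    obtain ⟨ϖ, hϖ⟩ := IsDiscreteValuationRing.exists_irreducible (Localization.AtPrime p)
    obtain ⟨⟨π, u⟩, hπ⟩ := IsLocalization.surj p.primeCompl ϖ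
    have hspan : IsLocalRing.maximalIdeal (Localization.AtPrime p) =
        Ideal.span {algebraMap A _ π} := by
      rw [hϖ.maximalIdeal_eq, ← hπ]
      exact (Ideal.span_singleton_mul_right_unit (IsLocalization.map_units _ u) ϖ).symm
    have hπp : π ∈ p := by
      rw [← Localization.AtPrime.comap_maximalIdeal (I := p), Ideal.mem_comap, hspan]
      exact Ideal.mem_span_singleton_self _
    have hgen : ∀ a ∈ p, ∃ s ∉ p, π ∣ s * a := by
      intro a ha
      have : algebraMap A (Localization.AtPrime p) a ∈ Ideal.span {algebraMap A _ π} :=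
        hspan ▸ (Localization.AtPrime.map_eq_maximalIdeal (I := p)) ▸ Ideal.mem_map_of_mem _ ha
      obtain ⟨y, hy⟩ := Ideal.mem_span_singleton.mp this
      obtain ⟨⟨t, s⟩, hts⟩ := IsLocalization.surj p.primeCompl y
      have : algebraMap A (Localization.AtPrime p) (s * a) = algebraMap A _ (π * t) := by
        rw [map_mul, map_mul, hy, ← hts]; ring
      obtain ⟨e, he⟩ := (IsLocalization.eq_iff_exists p.primeCompl _).mp this
      exact ⟨e * s, (p.primeCompl.mul_mem e.2 s.2), e * t,
        by linear_combination he⟩
    choose! s hs hsd using hgen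
    refine ⟨C π, hπp, fun g hg => ⟨C (∏ i ∈ g.support, s (g.coeff i)), ?_, ?_⟩⟩
    · exact fun h => (p.primeCompl.prod_mem fun i _ => hs _ ((Ideal.mem_map_C_iff.mp
        (hPe.symm ▸ hg : g ∈ p.map C)) i)) h
    · rw [C_dvd_iff_dvd_coeff]
      intro i
      rw [coeff_C_mul]
      by_cases hi : i ∈ g.support
      · rw [← Finset.mul_prod_erase _ _ hi, mul_right_comm]
        exact dvd_mul_of_dvd_left (hsd _ ((Ideal.mem_map_C_iff.mp (hPe.symm ▸ hg : g ∈ p.map C)) i)) _
      · rw [Polynomial.notMem_support_iff.mp hi, mul_zero]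
        exact dvd_zero _

end Groth.Agent.S10899
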