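import Groth.Statements.S10941
import Groth.Agent.HensPair.FieldAdd
import Groth.Agent.HensPair.FieldDim

set_option autoImplicit false
universe u
open CategoryTheory CategoryTheory.Limits AlgebraicGeometry
open FlatMor

namespace Groth.Agent.S10941

/-- Let k be a field, X, Y and Y' schemes of finite type over k with Y irreducible, f : X → Y a flat
k-morphism and n a natural number such that every irreducible component of X has dimension dim Y +
n. Let g : Y' → Y be a k-morphism and f' : X ×_Y Y' → Y' the base change of f. Then for every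
irreducible closed subset V of Y', every irreducible component of the preimage of V under f' (with
the subspace topology) has dimension dim V + n. In particular (Y' = Y) every irreducible component
of f⁻¹(V) has dimension dim V + n for every irreducible closed V ⊆ Y. -/
theorem result (k : Type u) [Field k]
    {X Y Y' : Scheme.{u}} (qX : X ⟶ Spec (CommRingCat.of k)) (qY : Y ⟶ Spec (CommRingCat.of k))
    (qY' : Y' ⟶ Spec (CommRingCat.of k))
    [LocallyOfFiniteType qX] [QuasiCompact qX] [LocallyOfFiniteType qY] [QuasiCompact qY]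
    [LocallyOfFiniteType qY'] [QuasiCompact qY']
    [IrreducibleSpace ↥Y] (f : X ⟶ Y) (hf : f ≫ qY = qX) [Flat f] (n : ℕ)
    (hX : ∀ Z : Set ↥X, Z ∈ irreducibleComponents ↥X →
      topologicalKrullDim ↥Z = topologicalKrullDim ↥Y + (n : WithBot ℕ∞))
    (g : Y' ⟶ Y) (hg : g ≫ qY = qY')
    (V : Set ↥Y') (hV : IsClosed V) (hVirr : IsIrreducible V)
    (W : Set ↥((pullback.snd f g).base ⁻¹' V))
    (hW : W ∈ irreducibleComponents ↥((pullback.snd f g).base ⁻¹' V)) :
    topologicalKrullDim ↥W = topologicalKrullDim ↥V + (n : WithBot ℕ∞) := by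
  open Groth.Agent.HensPair in
  subst hf hg
  haveI : Subsingleton ↥(Spec (CommRingCat.of k)) := inferInstanceAs (Subsingleton (PrimeSpectrum k))
  haveI : LocallyOfFiniteType f := locallyOfFiniteType_of_comp f qY
  haveI : IsLocallyNoetherian Y := LocallyOfFiniteType.isLocallyNoetherian qY
  haveI : IsLocallyNoetherian Y' := LocallyOfFiniteType.isLocallyNoetherian (g ≫ qY)
  haveI : IsLocallyNoetherian X := LocallyOfFiniteType.isLocallyNoetherian (f ≫ qY)
  let ηY := genericPoint Y
  have hY : topologicalKrullDim ↥Y = (FibreTrdeg.T qY ηY : ℕ) := by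
    rw [← FieldDim.dim_closure qY ηY, genericPoint_closure]
    exact (IsHomeomorph.topologicalKrullDim_eq _ (Homeomorph.Set.univ Y).isHomeomorph).symm
  -- fibre dimension is constant
  have hfd : ∀ x : X, FlatMor.fibreDimAt f x = (n : ℕ) := fun x => by
    have hloc : FlatMor.localDim ↥X x = ((FibreTrdeg.T qY ηY + n : ℕ) : WithBot ℕ∞) := by
      refine le_antisymm ((Groth.Agent.TopDim.Basic.localDim_le_dim x).trans
        (Groth.Agent.Equidim.dim_le_of_components fun Z hZ => ?_)) ?_
      · rw [hX Z hZ, hY]; push_cast; exact le_rfl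
      · obtain ⟨ξ, hξ, hmax⟩ := Groth.Agent.Equidim.AffineCrit.exists_maximal_above x
        have h1 := hX _ (Groth.Agent.Equidim.closure_mem_irreducibleComponents ξ hmax)
        rw [hY, FieldDim.dim_closure (f ≫ qY) ξ] at h1
        obtain ⟨i, -, -, hi⟩ := FieldTrdeg.main (f ≫ qY) ξ
        refine le_trans ?_ (le_iInf fun O => Groth.Agent.TopDim.Basic.localDim_le ξ O.1 (hξ.mem_open O.1.isOpen O.2))
        rw [hi]
        have h2 : FibreTrdeg.T (f ≫ qY) ξ = FibreTrdeg.T qY ηY + n := by exact_mod_cast h1
        exact_mod_cast (by omega : FibreTrdeg.T qY ηY + n ≤ i + FibreTrdeg.T (f ≫ qY) ξ)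
    have hyloc : FlatMor.localDim ↥Y (f x) = (FibreTrdeg.T qY ηY : ℕ) := by
      refine le_antisymm ((Groth.Agent.TopDim.Basic.localDim_le_dim _).trans hY.le) ?_
      obtain ⟨i, -, -, hi⟩ := FieldTrdeg.main qY ηY
      refine le_trans ?_ (le_iInf fun O => Groth.Agent.TopDim.Basic.localDim_le ηY O.1
        (((genericPoint_spec Y).specializes trivial).mem_open O.1.isOpen O.2))
      rw [hi]
      exact_mod_cast Nat.le_add_left _ i
    have h := FieldAdd.localDim_add_of_flat f qY x
    obtain ⟨m, hm⟩ := ChevalleyTfae.exists_nat_eq f x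
    rw [hloc, hyloc, hm] at h
    rw [hm]
    have : FibreTrdeg.T qY ηY + n = FibreTrdeg.T qY ηY + m := by exact_mod_cast h
    exact_mod_cast (by omega : m = n)
  let p := pullback.snd f g
  haveI : IsLocallyNoetherian ↑(pullback f g) := LocallyOfFiniteType.isLocallyNoetherian p
  haveI : QuasiSober ↥(p.base ⁻¹' V) := (hV.preimage p.continuous).isClosedEmbedding_subtypeVal.quasiSober
  let w := hW.1.genericPoint
  have hcl : closure ({w} : Set ↥(p.base ⁻¹' V)) = W := by
    rw [hW.1.genericPoint_closure_eq, (isClosed_of_mem_irreducibleComponents W hW).closure_eq]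
  let v := hVirr.genericPoint
  have hvcl : closure ({v} : Set Y') = V := by rw [hVirr.genericPoint_closure_eq, hV.closure_eq]
  have hpw : p w.1 = v := by
    obtain ⟨a, ha, hav⟩ := Flat.generalizingMap p (show v ⤳ p w.1 from specializes_iff_mem_closure.mpr (hvcl.ge w.2))
    have haV : a ∈ p.base ⁻¹' V := by show p a ∈ V; rw [hav]; exact hvcl.le (subset_closure rfl)
    have := Groth.Agent.Equidim.AffineCrit.genericPoint_maximal hW ⟨a, haV⟩ (subtype_specializes_iff _ _ |>.mpr ha)
    rw [show w = ⟨a, haV⟩ from this.symm]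
    exact hav
  have hT : FibreTrdeg.T p w.1 = n := by
    have h1 := DimBC.fibreDimAt_baseChange f g _ p (IsPullback.of_hasPullback f g) w.1
    rw [hfd, FibreTrdeg.fibreDimAt_eq_T_of_maximal p w.1 fun a ha haw => ?_] at h1
    · exact_mod_cast h1
    · have haV : a ∈ p.base ⁻¹' V := by show p a ∈ V; rw [ha]; exact w.2
      exact congrArg Subtype.val (Groth.Agent.Equidim.AffineCrit.genericPoint_maximal hW ⟨a, haV⟩
        (subtype_specializes_iff _ _ |>.mpr (specializes_iff_mem_closure.mpr haw)))
  have hWdim : topologicalKrullDim ↥W = topologicalKrullDim ↥(closure ({w.1} : Set ↑(pullback f g))) := by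
    refine le_antisymm ?_ ?_
    · exact Groth.Agent.Equidim.dim_le_of_range (φ := fun a : ↥W => a.1.1)
        (Topology.IsInducing.subtypeVal.comp Topology.IsInducing.subtypeVal) Topology.IsEmbedding.subtypeVal
        fun a => ⟨⟨a.1.1, (((specializes_iff_mem_closure.mpr (hcl.ge a.2)).map continuous_subtype_val)).mem_closure⟩, rfl⟩
    · refine Groth.Agent.Equidim.dim_le_of_range (φ := fun a : ↥(closure ({w.1} : Set ↑(pullback f g))) => a.1)
        Topology.IsInducing.subtypeVal (Topology.IsEmbedding.subtypeVal.comp Topology.IsEmbedding.subtypeVal) fun a => ?_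
      have haV : a.1 ∈ p.base ⁻¹' V :=
        closure_minimal (Set.singleton_subset_iff.mpr w.2) (hV.preimage p.continuous) a.2
      exact ⟨⟨⟨a.1, haV⟩, hcl.le (specializes_iff_mem_closure.mp ((subtype_specializes_iff _ _).mpr
        (specializes_iff_mem_closure.mpr a.2)))⟩, rfl⟩
  rw [hWdim, congrArg (fun A : Set Y' => topologicalKrullDim ↥A) hvcl.symm, FieldDim.dim_closure (p ≫ g ≫ qY), FieldDim.dim_closure (g ≫ qY), JacobsonDim.T_add p (g ≫ qY),
    hT, hpw, Nat.cast_add]

end Groth.Agent.S10941
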