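import Groth.Statements.S10953
import Mathlib.AlgebraicGeometry.Morphisms.Separated
import Mathlib.AlgebraicGeometry.Morphisms.Immersion
import Mathlib.AlgebraicGeometry.PullbackCarrier
-- import your own Groth.Agent.* helpers here

set_option autoImplicit false
universe u
open RedSep CategoryTheory CategoryTheory.Limits AlgebraicGeometry

namespace Groth.Agent.S10953

open AlgebraicGeometry CategoryTheory in
/-- For a morphism of schemes f : X → S to an affine scheme S such that any two points of X with the
same image in S lie in one common affine open subset of X, the morphism f is separated. -/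
theorem result {X S : Scheme.{u}} [IsAffine S] (f : X ⟶ S)
    (h : ∀ x y : X, f x = f y → ∃ U : X.Opens, IsAffineOpen U ∧ x ∈ U ∧ y ∈ U) :
    IsSeparated f := by
  constructor
  refine IsClosedImmersion.of_isPreimmersion (pullback.diagonal f) ?_
  rw [← closure_subset_iff_isClosed]
  intro z hz
  obtain ⟨U, hU, hx, hy⟩ := h (pullback.fst f f z) (pullback.snd f f z)
    (by rw [← Scheme.Hom.comp_apply, ← Scheme.Hom.comp_apply, pullback.condition])
  haveI : IsAffine (U : Scheme) := hU
  let j : pullback (U.ι ≫ f) (U.ι ≫ f) ⟶ pullback f f :=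
    pullback.map _ _ _ _ U.ι U.ι (𝟙 S) (by simp) (by simp)
  have hr : Set.range j = (pullback.fst f f) ⁻¹' U ∩ (pullback.snd f f) ⁻¹' U := by
    simp only [j, Scheme.Pullback.range_map, Scheme.Opens.range_ι]
  obtain ⟨w, rfl⟩ : z ∈ Set.range j := hr ▸ ⟨hx, hy⟩
  have hw : w ∈ closure (j ⁻¹' Set.range (pullback.diagonal f)) := by
    rw [← j.isOpenEmbedding.isOpenMap.preimage_closure_eq_closure_preimage j.continuous]
    exact hz
  have hj : pullback.diagonal (U.ι ≫ f) ≫ j = U.ι ≫ pullback.diagonal f := by
    apply pullback.hom_ext <;> simp [j, pullback.lift_fst, pullback.lift_snd, pullback.map]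
  have hsub : j ⁻¹' Set.range (pullback.diagonal f) ⊆ Set.range (pullback.diagonal (U.ι ≫ f)) := by
    rintro v ⟨t, ht⟩
    have ht' : t ∈ U := by
      have h1 : j v ∈ (pullback.fst f f) ⁻¹' (U : Set X) ∩ (pullback.snd f f) ⁻¹' U := hr ▸ ⟨v, rfl⟩
      have h2 := h1.1
      rw [← ht, Set.mem_preimage, ← Scheme.Hom.comp_apply, pullback.diagonal_fst] at h2
      simpa using h2
    obtain ⟨t', rfl⟩ : t ∈ Set.range U.ι := by rw [Scheme.Opens.range_ι]; exact ht'
    refine ⟨t', j.isOpenEmbedding.injective ?_⟩
    rw [← Scheme.Hom.comp_apply, hj, Scheme.Hom.comp_apply, ht]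
  have hc : IsClosed (Set.range (pullback.diagonal (U.ι ≫ f))) :=
    (pullback.diagonal (U.ι ≫ f)).isClosedEmbedding.isClosed_range
  obtain ⟨t, ht⟩ := (closure_mono hsub).trans hc.closure_eq.subset hw
  exact ⟨U.ι t, by rw [← ht, ← Scheme.Hom.comp_apply, ← hj, Scheme.Hom.comp_apply]⟩

end Groth.Agent.S10953
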