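import Groth.Statements.S10957
import Mathlib

set_option autoImplicit false
set_option linter.style.haveILetI false
universe u
open CAlg

namespace Groth.Agent.S10957

/-- Let A be a Noetherian local integral domain that is normal (integrally closed in its field of
fractions). If there is a nonzero element a of A such that the maximal ideal of A is an associated
prime of the A-module A/(a), then A is a discrete valuation ring. (The other conditions listed in
the published result — normal of dimension one, maximal ideal nonzero principal, regular of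
dimension one — are the library's standard characterisations; this row records the criterion through
an associated prime.) -/
theorem result
    (A : Type u) [CommRing A] [IsDomain A] [IsNoetherianRing A] [IsLocalRing A] [IsIntegrallyClosed A]
    (a : A) (ha : a ≠ 0)
    (hass : IsLocalRing.maximalIdeal A ∈ associatedPrimes A (A ⧸ Ideal.span ({a} : Set A))) :
    IsDiscreteValuationRing A := by
  obtain ⟨-, x0, hx0⟩ := isAssociatedPrime_iff.mp hass
  obtain ⟨x, rfl⟩ := Ideal.Quotient.mk_surjective x0
  have hmem : ∀ z, z ∈ IsLocalRing.maximalIdeal A ↔ z * x ∈ Ideal.span ({a} : Set A) := by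
    intro z
    rw [hx0, Submodule.mem_colon_singleton, Submodule.mem_bot, Algebra.smul_def, Ideal.Quotient.algebraMap_eq, ← map_mul, Ideal.Quotient.eq_zero_iff_mem]
  have hxn : x ∉ Ideal.span ({a} : Set A) := by
    intro h
    exact (IsLocalRing.maximalIdeal.isMaximal A).ne_top ((Ideal.eq_top_iff_one _).mpr ((hmem 1).mpr (by rwa [one_mul])))
  have hnf : ¬ IsField A := by
    intro hF
    have hm0 : IsLocalRing.maximalIdeal A = ⊥ := IsLocalRing.isField_iff_maximalIdeal_eq.mp hF
    exact hxn (Ideal.mem_span_singleton.mpr (IsUnit.dvd (by
      by_contra hu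
      have : a ∈ IsLocalRing.maximalIdeal A := hu
      rw [hm0, Ideal.mem_bot] at this
      exact ha this)))
  refine ((IsDiscreteValuationRing.TFAE A hnf).out 0 4).mpr ?_
  have hw : ∀ z ∈ IsLocalRing.maximalIdeal A, ∃ w, z * x = a * w := fun z hz => Ideal.mem_span_singleton.mp ((hmem z).mp hz)
  by_cases hall : ∀ z ∈ IsLocalRing.maximalIdeal A, ∀ w, z * x = a * w → w ∈ IsLocalRing.maximalIdeal A
  · exfalso
    let K := FractionRing A
    have ha' : algebraMap A K a ≠ 0 := fun h => ha (IsFractionRing.injective A K (by rw [h, map_zero]))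
    set y : K := algebraMap A K x / algebraMap A K a with hy
    let N : Submodule A K := Submodule.map (Algebra.linearMap A K) (IsLocalRing.maximalIdeal A)
    have hN : N ≠ ⊥ := by
      intro h
      apply IsLocalRing.isField_iff_maximalIdeal_eq.not.mp hnf
      rw [eq_bot_iff]
      intro z hz
      have : algebraMap A K z ∈ N := ⟨z, hz, rfl⟩
      rw [h, Submodule.mem_bot] at this
      exact Ideal.mem_bot.mpr (IsFractionRing.injective A K (by rw [this, map_zero]))
    have hint : IsIntegral A y := by
      refine isIntegral_of_smul_mem_submodule N hN ((IsNoetherian.noetherian _).map _) y ?_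
      rintro _ ⟨z, hz, rfl⟩
      obtain ⟨w, hw'⟩ := hw z hz
      refine ⟨w, hall z hz w hw', ?_⟩
      simp only [Algebra.linearMap_apply, smul_eq_mul, hy]
      rw [div_mul_eq_mul_div, eq_div_iff ha', ← map_mul, ← map_mul, mul_comm x z, hw', mul_comm a w]
    obtain ⟨v, hv⟩ := IsIntegrallyClosed.isIntegral_iff.mp hint
    apply hxn
    rw [Ideal.mem_span_singleton]
    refine ⟨v, IsFractionRing.injective A K ?_⟩
    rw [map_mul, hv, hy, mul_div_cancel₀ _ ha']
  · push Not at hall
    obtain ⟨t, ht, u, htu, hu⟩ := hall
    have hu' : IsUnit u := by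
      by_contra h
      exact hu h
    refine ⟨⟨t, le_antisymm (fun z hz => ?_) ((Submodule.span_singleton_le_iff_mem _ _).mpr ht)⟩⟩
    obtain ⟨w, hw'⟩ := hw z hz
    rw [Ideal.submodule_span_eq, Ideal.mem_span_singleton]
    refine ⟨w * ↑hu'.unit⁻¹, ?_⟩
    have h1 : z * u = t * w := mul_left_cancel₀ ha (by linear_combination t * hw' - z * htu)
    rw [← mul_assoc, ← h1, mul_assoc, IsUnit.mul_val_inv, mul_one]

end Groth.Agent.S10957
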