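import Groth.Statements.S10981
import Groth.Agent.FunFldLib.Ext

set_option autoImplicit false
open FunFld

namespace Groth.Agent.S10981
open Groth.Agent.FunFldLib


/-- Let `P` be a place of a function field of one variable `K/k` and let `K'` be a field of finite
degree over `K`, separable or not; then `O_P` has a module-finite integral closure in `K'`. -/
theorem result (k K : Type*) [Field k] [Field K] [Algebra k K]
    (hK : FunFld.IsFunctionField k K) (P : FunFld.Place k K) (K' : Type*) [Field K'] [Algebra K K']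
    [FiniteDimensional K K'] [Algebra P.O K'] [IsScalarTower P.O K K'] :
    Module.Finite P.O (integralClosure P.O K') := by
  classical
  letI algk : Algebra k K' := ((algebraMap K K').comp (algebraMap k K)).toAlgebra
  have : IsScalarTower k K K' := IsScalarTower.of_algebraMap_eq fun _ => rfl
  have hK' : IsFF0 k K' := ff0_ext hK.1
  set Qs := (finite_over_place (K' := K') hK.1 P).toFinset
  have hQs : ∀ Q, Q ∈ Qs ↔ FunFld.IsOver Q P := fun Q => Set.Finite.mem_toFinset _
  have hov : ∀ Q ∈ Qs, FunFld.IsOverWith Q P (FunFld.ramIdx Q P) := fun Q hQ => by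
    obtain ⟨e, he⟩ := (hQs Q).1 hQ
    rwa [ramIdx_eq he]
  have hO : ∀ c : P.O, algebraMap P.O K' c = algebraMap K K' (c : K) := fun c => IsScalarTower.algebraMap_apply P.O K K' c
  -- the integral closure is the intersection of the valuation rings over `P`
  have hint : ∀ f : K', f ∈ integralClosure P.O K' ↔ ∀ Q ∈ Qs, Q.1 f ≤ 1 := by
    intro f
    constructor
    · intro hf Q hQ
      obtain ⟨p, hp, hpf⟩ := hf
      by_contra hgt
      push Not at hgt
      have hc : ∀ c : P.O, Q.1 (algebraMap P.O K' c) ≤ 1 := fun c => by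
        rw [hO]; exact (over_le_iff (hov Q hQ) _).2 c.2
      have h1 : Q.1 (Polynomial.aeval f p) = Q.1 (p.coeff p.natDegree • f ^ p.natDegree) := by
        rw [Polynomial.aeval_eq_sum_range]
        refine Valuation.map_sum_eq_of_lt Q.1 (Finset.self_mem_range_succ _) fun i hi => ?_
        rw [Finset.mem_sdiff, Finset.mem_range, Finset.mem_singleton] at hi
        rw [hp.coeff_natDegree, one_smul, Algebra.smul_def, map_mul, map_pow, map_pow]
        exact (mul_le_of_le_one_left zero_le (hc _)).trans_lt (pow_lt_pow_right₀ hgt (by omega))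
      rw [hp.coeff_natDegree, one_smul, show Polynomial.aeval f p = 0 from hpf, map_zero, map_pow] at h1
      exact (pow_pos (lt_trans zero_lt_one hgt) _).ne h1
    · intro hf
      by_contra hnot
      obtain ⟨V, hV, hfV⟩ := Subring.exists_le_valuationSubring_of_isIntegrallyClosedIn
        (R := (integralClosure P.O K').toSubring) (x := f) hnot
      have hOV : ∀ c : P.O, algebraMap P.O K' c ∈ V := fun c => hV (Subalgebra.algebraMap_mem _ c)
      have hkV : ∀ c : k, algebraMap k K' c ∈ V := fun c => by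
        have := hOV ⟨algebraMap k K c, P.2.1 c⟩
        rwa [hO] at this
      have hf0 : f ≠ 0 := fun e => hfV (e ▸ V.zero_mem)
      obtain ⟨Q, hQ⟩ := exists_place hK' V hkV ⟨f⁻¹, inv_ne_zero hf0, by
        rw [map_inv₀]
        refine inv_lt_one_of_one_lt₀ (not_le.1 fun h => hfV ((V.valuation_le_one_iff f).1 h))⟩
      obtain ⟨P', e, -, hP'⟩ := exists_over hK.1 Q
      obtain rfl : P = P' := ext_of_le P P' fun x hx => (over_le_iff hP' x).1 ((hQ _).2 (by
        have := hOV ⟨x, hx⟩
        rwa [hO] at this))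
      exact hfV ((hQ f).1 (hf Q ((hQs Q).2 ⟨e, hP'⟩)))
  obtain ⟨t, ht0, ht⟩ := exists_exp P (-1)
  set tt := algebraMap K K' t
  have htt : ∀ Q ∈ Qs, Q.1 tt = WithZero.exp (-(FunFld.ramIdx Q P : ℤ)) := fun Q hQ => by
    show Q.1 (algebraMap K K' t) = _
    rw [hov Q hQ, ht, ← WithZero.exp_nsmul]; congr 1; simp
  have hlt : ∀ c : K, P.1 c < 1 → ∀ Q ∈ Qs, Q.1 (algebraMap K K' c) ≤ Q.1 tt := fun c hc Q hQ => by
    show Q.1 (algebraMap K K' c) ≤ Q.1 (algebraMap K K' t)
    rw [hov Q hQ, hov Q hQ, ht]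
    exact pow_le_pow_left₀ zero_le ((lt_one_iff_le _).1 hc) _
  have hle1 : ∀ c : K, P.1 c ≤ 1 → ∀ Q ∈ Qs, Q.1 (algebraMap K K' c) ≤ 1 := fun c hc Q hQ =>
    (over_le_iff (hov Q hQ) c).2 hc
  let Good : Finset K' → Prop := fun s => (∀ b ∈ s, ∀ Q ∈ Qs, Q.1 b ≤ 1) ∧ ∀ c : K' → K, (∀ b ∈ s, P.1 (c b) ≤ 1) →
    (∀ Q ∈ Qs, Q.1 (∑ b ∈ s, algebraMap K K' (c b) * b) ≤ Q.1 tt) → ∀ b ∈ s, P.1 (c b) < 1
  have hLI : ∀ s, Good s → LinearIndependent K (fun b : s => (b : K')) := by
    intro s hs
    rw [Fintype.linearIndependent_iff]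
    intro g hg b0
    by_contra hne
    obtain ⟨j, -, hj⟩ := Finset.univ.exists_max_image (fun b : s => P.1 (g b)) ⟨b0, Finset.mem_univ _⟩
    have hgj : g j ≠ 0 := fun e => by
      have := hj b0 (Finset.mem_univ _)
      rw [e, map_zero, le_zero_iff] at this
      exact hne ((map_eq_zero _).1 this)
    let c : K' → K := fun b => if h : b ∈ s then g ⟨b, h⟩ / g j else 0
    have h1 := hs.2 c (fun b hb => by
      simp only [c, dif_pos hb, map_div₀]
      exact (div_le_one₀ (zero_lt_iff.2 (v_ne_zero P hgj))).2 (hj _ (Finset.mem_univ _)))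
      (fun Q _ => by
        have : ∑ b ∈ s, algebraMap K K' (c b) * b = algebraMap K K' (g j)⁻¹ * ∑ b : s, g b • (b : K') := by
          rw [← Finset.sum_coe_sort s, Finset.mul_sum]
          refine Finset.sum_congr rfl fun b _ => ?_
          simp only [c, dif_pos b.2, Algebra.smul_def, div_eq_mul_inv, map_mul]
          ring
        rw [this, hg, mul_zero, map_zero]; exact zero_le) j.1 j.2
    simp only [c, dif_pos j.2] at h1
    rw [div_self hgj, map_one] at h1
    exact lt_irrefl _ h1
  -- a maximal good family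
  obtain ⟨s, hs, hmax⟩ : ∃ s, Good s ∧ ∀ s', Good s' → s'.card ≤ s.card := by
    have hne : {m : ℕ | ∃ s, Good s ∧ s.card = m}.Nonempty := ⟨0, ∅, ⟨by simp, by simp⟩, rfl⟩
    have hbd : BddAbove {m : ℕ | ∃ s, Good s ∧ s.card = m} := ⟨Module.finrank K K', by
      rintro m ⟨s, hs, rfl⟩
      simpa using (hLI s hs).fintype_card_le_finrank⟩
    obtain ⟨s, hs, hc⟩ := Nat.sSup_mem hne hbd
    exact ⟨s, hs, fun s' hs' => hc ▸ le_csSup hbd ⟨s', hs', rfl⟩⟩
  have happrox : ∀ f : K', (∀ Q ∈ Qs, Q.1 f ≤ 1) → ∃ c : K' → K, (∀ b ∈ s, P.1 (c b) ≤ 1) ∧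
      ∀ Q ∈ Qs, Q.1 (f - ∑ b ∈ s, algebraMap K K' (c b) * b) ≤ Q.1 tt := by
    intro f hf
    by_cases hfs : f ∈ s
    · refine ⟨fun b => if b = f then 1 else 0, fun b _ => by dsimp only; split_ifs <;> simp, fun Q _ => ?_⟩
      rw [Finset.sum_eq_single_of_mem f hfs (fun b _ hb => by simp [hb])]
      simp
    have hins : ¬ Good (insert f s) := fun h => by
      have := hmax _ h
      rw [Finset.card_insert_of_notMem hfs] at this
      omega
    simp only [Good, not_and, not_forall, not_lt] at hins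
    obtain ⟨c, hc, hsum, b0, hb0, hb0'⟩ := hins (fun b hb => by
      rcases Finset.mem_insert.1 hb with rfl | hb
      exacts [hf, hs.1 b hb])
    have hcf : ¬ P.1 (c f) < 1 := fun hlt' => by
      have h2 := hs.2 c (fun b hb => hc b (Finset.mem_insert_of_mem hb)) (fun Q hQ => by
        have e : ∑ b ∈ s, algebraMap K K' (c b) * b = (∑ b ∈ insert f s, algebraMap K K' (c b) * b) - algebraMap K K' (c f) * f := by
          rw [Finset.sum_insert hfs]; ring
        rw [e]
        refine (Valuation.map_sub _ _ _).trans (max_le (hsum Q hQ) ?_)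
        rw [map_mul]
        exact (mul_le_of_le_one_right zero_le (hf Q hQ)).trans (hlt _ hlt' Q hQ))
      rcases Finset.mem_insert.1 hb0 with rfl | hb
      · exact absurd hlt' (not_lt.2 hb0')
      · exact absurd (h2 b0 hb) (not_lt.2 hb0')
    have hcf1 : P.1 (c f) = 1 := le_antisymm (hc f (Finset.mem_insert_self _ _)) (not_lt.1 hcf)
    have hcf0 : c f ≠ 0 := fun e => by rw [e, map_zero] at hcf1; exact zero_ne_one hcf1
    refine ⟨fun b => -(c b / c f), fun b hb => ?_, fun Q hQ => ?_⟩
    · rw [Valuation.map_neg, map_div₀, hcf1, div_one]; exact hc b (Finset.mem_insert_of_mem hb)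
    have e : f - ∑ b ∈ s, algebraMap K K' (-(c b / c f)) * b =
        algebraMap K K' (c f)⁻¹ * ∑ b ∈ insert f s, algebraMap K K' (c b) * b := by
      rw [Finset.sum_insert hfs, mul_add, ← mul_assoc, ← map_mul, inv_mul_cancel₀ hcf0, map_one, one_mul,
        Finset.mul_sum, sub_eq_add_neg, ← Finset.sum_neg_distrib]
      congr 1
      exact Finset.sum_congr rfl fun b _ => by rw [map_neg, div_eq_mul_inv, map_mul]; ring
    rw [e, map_mul]
    exact (mul_le_of_le_one_left zero_le (hle1 _ (by rw [map_inv₀, hcf1, inv_one]) Q hQ)).trans (hsum Q hQ)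
  -- count: `dim_k B/tB = n deg P`
  let Bk : Submodule k K' :=
    { carrier := {f | ∀ Q ∈ Qs, Q.1 f ≤ 1}
      add_mem' := fun {a b} ha hb Q hQ => (Valuation.map_add _ _ _).trans (max_le (ha Q hQ) (hb Q hQ))
      zero_mem' := fun Q _ => by simp
      smul_mem' := fun c a ha Q hQ => v_smul_le Q c a (ha Q hQ) }
  let D : FunFld.Divisor k K' := -∑ Q ∈ Qs, Finsupp.single Q (FunFld.ramIdx Q P : ℤ)
  have hD : ∀ Q, D Q = if Q ∈ Qs then -(FunFld.ramIdx Q P : ℤ) else 0 := fun Q => by
    simp only [D, Finsupp.neg_apply, Finsupp.finsetSum_apply, Finsupp.single_apply, Finset.sum_ite_eq']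
    split_ifs <;> simp
  have hD0 : D ≤ 0 := neg_nonpos.2 (Finset.sum_nonneg fun Q _ => Finsupp.single_nonneg.2 (Int.natCast_nonneg _))
  obtain ⟨-, hQfin, hQrank⟩ := rel_AD (finite_residue hK') D 0 hD0
  have hdeg : D.deg = -((Module.finrank K K' * P.deg : ℕ) : ℤ) := by
    rw [← sum_ramIdx_deg hK P Qs hQs, deg_neg]
    congr 1
    have : ∀ T : Finset (FunFld.Place k K'), FunFld.Divisor.deg (∑ Q ∈ T, Finsupp.single Q (FunFld.ramIdx Q P : ℤ) : FunFld.Divisor k K') = ((∑ Q ∈ T, FunFld.ramIdx Q P * Q.deg : ℕ) : ℤ) := fun T => by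
      induction T using Finset.induction with
      | empty => simp [deg_zero]
      | insert a T ha ih => rw [Finset.sum_insert ha, deg_add, deg_single, ih, Finset.sum_insert ha]; push_cast; ring
    exact this Qs
  rw [deg_zero, hdeg] at hQrank
  let ext0 : K' →ₗ[k] (FunFld.Place k K' → K') := LinearMap.pi fun Q => if Q ∈ Qs then LinearMap.id else 0
  have hext : ∀ f ∈ Bk, ext0 f ∈ FunFld.AD (0 : FunFld.Divisor k K') := fun f hf Q => by
    simp only [ext0, LinearMap.pi_apply, Finsupp.coe_zero, Pi.zero_apply, WithZero.exp_zero]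
    split_ifs with h
    · exact hf Q h
    · simp
  let ψ := ((FunFld.AD D).comap (FunFld.AD (0 : FunFld.Divisor k K')).subtype).mkQ.comp
    (LinearMap.codRestrict _ (ext0.comp Bk.subtype) fun f => hext f.1 f.2)
  have hψ0 : ∀ f : Bk, ψ f = 0 ↔ ∀ Q ∈ Qs, Q.1 (f : K') ≤ Q.1 tt := fun f => by
    show Submodule.Quotient.mk _ = 0 ↔ _
    rw [Submodule.Quotient.mk_eq_zero]
    constructor
    · intro h Q hQ
      have := h Q
      change Q.1 (ext0 f.1 Q) ≤ _ at this
      simp only [ext0, LinearMap.pi_apply, hD, if_pos hQ] at this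
      rw [htt Q hQ]
      exact this
    · intro h Q
      show Q.1 (ext0 f.1 Q) ≤ _
      simp only [ext0, LinearMap.pi_apply, hD]
      split_ifs with hQ
      · rw [← htt Q hQ]; exact h Q hQ
      · simp
  have hψ : Function.Surjective ψ := fun z => by
    obtain ⟨a, rfl⟩ := Submodule.Quotient.mk_surjective _ z
    obtain ⟨y, hy⟩ := approx Qs a.1 D
    have hyB : y ∈ Bk := fun Q hQ => by
      have h1 : Q.1 (a.1 Q) ≤ 1 := by simpa using a.2 Q
      have h2 : Q.1 (y - a.1 Q) ≤ 1 := (hy Q hQ).trans (by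
        simp only [← WithZero.exp_zero, WithZero.exp_le_exp]; exact hD0 Q)
      simpa using (Valuation.map_add Q.1 (y - a.1 Q) (a.1 Q)).trans (max_le h2 h1)
    refine ⟨⟨y, hyB⟩, ?_⟩
    show Submodule.Quotient.mk _ = _
    rw [Submodule.Quotient.eq]
    intro Q
    show Q.1 (ext0 y Q - a.1 Q) ≤ _
    simp only [ext0, LinearMap.pi_apply]
    split_ifs with hQ
    · exact hy Q hQ
    · rw [hD, if_neg hQ]
      simpa using a.2 Q
  have := finite_residue hK.1 P
  obtain ⟨lift, hlift⟩ : ∃ lift : Fin P.deg → P.O, ∀ o : P.O, ∃ a : Fin P.deg → k, P.1 ((o : K) - ∑ i, a i • (lift i : K)) < 1 := by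
    set bs := Module.finBasis k (IsLocalRing.ResidueField P.O)
    choose l hl using fun i => IsLocalRing.residue_surjective (bs i)
    refine ⟨fun i => l i, fun o => ⟨fun i => bs.repr (IsLocalRing.residue P.O o) i, ?_⟩⟩
    have h0 : IsLocalRing.residue P.O (o - ∑ i, bs.repr (IsLocalRing.residue P.O o) i • l i) = 0 := by
      rw [map_sub, map_sum, sub_eq_zero]
      conv_lhs => rw [← bs.sum_repr (IsLocalRing.residue P.O o)]
      refine Finset.sum_congr rfl fun i _ => ?_
      rw [← hl i]
      refine Eq.trans (Algebra.smul_def _ _) ?_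
      rw [Algebra.smul_def, map_mul]
      rfl
    have h1 := (residue_eq_zero _).1 h0
    simp [Algebra.smul_def] at h1 ⊢
    exact h1
  let gen : Fin P.deg × s → Bk := fun p => ⟨algebraMap K K' (lift p.1 : K) * (p.2 : K'), fun Q hQ => by
    rw [map_mul]; exact mul_le_one' (hle1 _ (lift p.1).2 Q hQ) (hs.1 _ p.2.2 Q hQ)⟩
  have hspan : Submodule.span k (Set.range fun p => ψ (gen p)) = ⊤ := by
    rw [eq_top_iff]
    intro z _
    obtain ⟨f, rfl⟩ := hψ z
    obtain ⟨c, hc, hcQ⟩ := happrox f.1 f.2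
    choose a ha using fun b : s => hlift ⟨c b, hc b b.2⟩
    have h1 : ψ f = ∑ p : Fin P.deg × s, a p.2 p.1 • ψ (gen p) := by
      rw [← sub_eq_zero]
      simp only [← map_smul, ← map_sum, ← map_sub]
      rw [hψ0]
      intro Q hQ
      have e : ((f - ∑ p : Fin P.deg × s, a p.2 p.1 • gen p : Bk) : K') = (f.1 - ∑ b ∈ s, algebraMap K K' (c b) * b) +
          ∑ b : s, algebraMap K K' (c b - ∑ i, a b i • (lift i : K)) * (b : K') := by
        simp only [AddSubgroupClass.coe_sub, AddSubmonoidClass.coe_finsetSum, Submodule.coe_smul, gen]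
        rw [← Finset.sum_coe_sort s]
        simp only [map_sub, map_sum, sub_mul, Finset.sum_sub_distrib, Finset.sum_mul]
        rw [Fintype.sum_prod_type, Finset.sum_comm]
        simp only [Algebra.smul_def, map_mul, ← IsScalarTower.algebraMap_apply, mul_assoc]
        ring
      rw [e]
      refine (Valuation.map_add _ _ _).trans (max_le (hcQ Q hQ) (Valuation.map_sum_le _ fun b _ => ?_))
      rw [map_mul]
      exact (mul_le_of_le_one_right zero_le (hs.1 _ b.2 Q hQ)).trans (hlt _ (ha b) Q hQ)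
    rw [h1]
    exact Submodule.sum_mem _ fun p _ => Submodule.smul_mem _ _ (Submodule.subset_span ⟨p, rfl⟩)
  have hcard : Module.finrank K K' ≤ s.card := by
    have h1 := finrank_range_le_card (R := k) (fun p => ψ (gen p))
    rw [Set.finrank, hspan, finrank_top, Fintype.card_prod, Fintype.card_fin, Fintype.card_coe] at h1
    have h2 : Module.finrank K K' * P.deg ≤ P.deg * s.card := by
      refine le_trans (le_of_eq ?_) h1
      omega
    exact Nat.le_of_mul_le_mul_left (by rwa [mul_comm (Module.finrank K K')] at h2) (deg_pos hK.1 P)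
  have hbasis : Submodule.span K (Set.range fun b : s => (b : K')) = ⊤ := by
    refine Submodule.eq_top_of_finrank_eq ?_
    rw [finrank_span_eq_card (hLI s hs), Fintype.card_coe]
    exact le_antisymm (by simpa using (hLI s hs).fintype_card_le_finrank) hcard
  show Module.Finite P.O ↥(Subalgebra.toSubmodule (integralClosure P.O K'))
  rw [Module.Finite.iff_fg]
  refine ⟨s, le_antisymm (Submodule.span_le.2 fun b hb => (hint b).2 (hs.1 b hb)) fun f hf => ?_⟩
  have hf' := (hint f).1 hf
  have hftop : f ∈ Submodule.span K (Set.range fun b : s => (b : K')) := by rw [hbasis]; trivial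
  obtain ⟨g, hg⟩ := (Submodule.mem_span_range_iff_exists_fun K).1 hftop
  have hg1 : ∀ b : s, P.1 (g b) ≤ 1 := by
    intro b0
    by_contra hgt
    push Not at hgt
    obtain ⟨j, -, hj⟩ := Finset.univ.exists_max_image (fun b : s => P.1 (g b)) ⟨b0, Finset.mem_univ _⟩
    have hgj1 : 1 < P.1 (g j) := hgt.trans_le (hj b0 (Finset.mem_univ _))
    have hgj : g j ≠ 0 := fun e => by rw [e, map_zero] at hgj1; exact not_lt_zero hgj1
    let c : K' → K := fun b => if h : b ∈ s then g ⟨b, h⟩ / g j else 0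
    have h1 := hs.2 c (fun b hb => by
      simp only [c, dif_pos hb, map_div₀]
      exact (div_le_one₀ (zero_lt_iff.2 (v_ne_zero P hgj))).2 (hj _ (Finset.mem_univ _)))
      (fun Q hQ => by
        have : ∑ b ∈ s, algebraMap K K' (c b) * b = algebraMap K K' (g j)⁻¹ * ∑ b : s, g b • (b : K') := by
          rw [← Finset.sum_coe_sort s, Finset.mul_sum]
          refine Finset.sum_congr rfl fun b _ => ?_
          simp only [c, dif_pos b.2, Algebra.smul_def, div_eq_mul_inv, map_mul]
          ring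
        rw [this, hg, map_mul]
        exact (mul_le_of_le_one_right zero_le (hf' Q hQ)).trans
          (hlt _ (by rw [map_inv₀]; exact inv_lt_one_of_one_lt₀ hgj1) Q hQ)) j.1 j.2
    simp only [c, dif_pos j.2] at h1
    rw [div_self hgj, map_one] at h1
    exact lt_irrefl _ h1
  rw [← hg]
  refine Submodule.sum_mem _ fun b _ => ?_
  have : g b • (b : K') = (⟨g b, hg1 b⟩ : P.O) • (b : K') := by rw [Algebra.smul_def, Algebra.smul_def, hO]
  rw [this]
  exact Submodule.smul_mem _ _ (Submodule.subset_span b.2)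

end Groth.Agent.S10981
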