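import Groth.Statements.S10989
import Groth.Agent.FunFldLib.Extra

set_option autoImplicit false
open FunFld

namespace Groth.Agent.S10989
open Groth.Agent.FunFldLib


/-- Any two canonical divisors of a function field of one variable are linearly equivalent. -/
theorem result (k K : Type*) [Field k] [Field K] [Algebra k K]
    (hK : FunFld.IsFunctionField k K) (C₁ C₂ : FunFld.Divisor k K) (h₁ : FunFld.IsCanonical k K C₁) (h₂ : FunFld.IsCanonical k K C₂) :
    ∃ x : K, x ≠ 0 ∧ C₂ = C₁ + FunFld.div k x := by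
  obtain ⟨ω₁, h10, hω₁⟩ := h₁
  obtain ⟨ω₂, h20, hω₂⟩ := h₂
  obtain ⟨x, hx⟩ := exists_mulW_eq hK (isWeil_of_isDivOf hω₁) h10 (isWeil_of_isDivOf hω₂)
  have hx0 : x ≠ 0 := fun e => h20 (by rw [← hx, e, map_zero])
  have h3 := isDivOf_mulW hK hx0 (mem_adele_smul hK x) hω₁
  rw [← mulWLin_apply hK ω₁ x, hx] at h3
  exact ⟨x, hx0, le_antisymm ((h3 C₂).1 ((hω₂ C₂).2 le_rfl)) ((hω₂ _).1 ((h3 _).2 le_rfl))⟩

end Groth.Agent.S10989
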