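import Groth.Statements.S10992
import Groth.Agent.FunFldLib.Extra

set_option autoImplicit false
open FunFld

namespace Groth.Agent.S10992
open Groth.Agent.FunFldLib


/-- A divisor `C` of a function field of one variable of genus `g` is canonical iff `ℓ(C) = g` and `deg
C = 2g - 2`. -/
theorem result (k K : Type*) [Field k] [Field K] [Algebra k K]
    (hK : FunFld.IsFunctionField k K) (C : FunFld.Divisor k K) :
    FunFld.IsCanonical k K C ↔ (FunFld.ell C = FunFld.genus k K ∧ C.deg = 2 * FunFld.genus k K - 2) := by
  constructor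
  · exact deg_canonical hK
  · rintro ⟨hl, hd⟩
    obtain ⟨C', hC'⟩ := exists_canonical hK
    have h1 := riemann_roch hK hC' C
    rw [hl, hd] at h1
    obtain ⟨x, hx0, hx⟩ := exists_mem_L hK (show 0 < FunFld.ell (C' - C) by omega)
    have h3 : C' - C + FunFld.div k x = 0 := by
      refine ((deg_mono_aux (deg_pos hK) hx).2 ?_).symm
      rw [deg_zero, deg_add, deg_sub, deg_div hK, hd, (deg_canonical hK hC').2]; ring
    obtain ⟨ω, h0, hω⟩ := hC'
    refine ⟨FunFld.mulW x (mem_adele_smul hK x) ω, ?_, ?_⟩
    · rw [← mulWLin_apply hK ω x]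
      exact fun e => hx0 (mulWLin_injective hK h0 (e.trans (map_zero _).symm))
    · rw [show C = C' + FunFld.div k x by
        rw [← sub_eq_zero, ← neg_eq_zero, ← h3]; abel]
      exact isDivOf_mulW hK hx0 _ hω

end Groth.Agent.S10992
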