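import Groth.Statements.S10996
import Groth.Agent.FunFldLib.Extra

set_option autoImplicit false
open FunFld

namespace Groth.Agent.S10996
open Groth.Agent.FunFldLib


/-- In a function field of one variable of positive genus, distinct places of degree one are not
linearly equivalent. -/
theorem result (k K : Type*) [Field k] [Field K] [Algebra k K]
    (hK : FunFld.IsFunctionField k K) (hg : 0 < FunFld.genus k K) (P P' : FunFld.Place k K) (hP : P.deg = 1) (hP' : P'.deg = 1)
    (x : K) (hx : x ≠ 0) (h : Finsupp.single P 1 - Finsupp.single P' 1 = FunFld.div k x) : P = P' := by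
  classical
  by_contra hne
  have e : ∀ Q, Q.ord x = (Finsupp.single P 1 - Finsupp.single P' 1 : FunFld.Divisor k K) Q :=
    fun Q => by rw [h, div_apply hK]
  have h1 := e P'
  simp [Finsupp.single_eq_of_ne (Ne.symm hne)] at h1
  have h2 : ∀ Q, Q ≠ P' → 0 ≤ Q.ord x := fun Q hQ => by
    rw [e Q, Finsupp.sub_apply, Finsupp.single_eq_of_ne hQ, sub_zero]
    exact (Finsupp.single_nonneg.2 zero_le_one : (0 : FunFld.Divisor k K) ≤ Finsupp.single P 1) Q
  have := (genus_zero_of_rational hK (rational_of_pole hK hP' h1 h2)).1
  omega

end Groth.Agent.S10996
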