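import Groth.Statements.S10997
import Groth.Agent.FunFldLib.Extra

set_option autoImplicit false
open FunFld

namespace Groth.Agent.S10997
open Groth.Agent.FunFldLib


/-- Given distinct places `P∞, P_1, …, P_n` of a function field of one variable, elements `x_i` and
integers `m_i`, some `x ∈ K` has `ord_{P_i}(x - x_i) = m_i` for all `i` and is integral outside
`{P∞, P_1, …, P_n}`. -/
theorem result (k K : Type*) [Field k] [Field K] [Algebra k K]
    (hK : FunFld.IsFunctionField k K) (Pinf : FunFld.Place k K) (n : ℕ) (P : Fin n → FunFld.Place k K) (hP : Function.Injective P)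
    (hinf : Pinf ∉ Set.range P) (x : Fin n → K) (m : Fin n → ℤ) :
    ∃ y : K, (∀ i, (P i).1 (y - x i) = WithZero.exp (-(m i))) ∧
      ∀ Q : FunFld.Place k K, Q ≠ Pinf → Q ∉ Set.range P → Q.1 y ≤ 1 := by
  classical
  obtain ⟨N, hN⟩ := exists_large hK
  choose z _ hz using fun i => exists_exp (P i) (-(m i))
  let T : FunFld.Divisor k K := ∑ i, Finsupp.single (P i) (-(m i) - 1)
  set M := |N - T.deg|
  let D : FunFld.Divisor k K := T + Finsupp.single Pinf M
  have hTP : ∀ i, T (P i) = -(m i) - 1 := fun i => by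
    simp [T, Finsupp.finsetSum_apply, Finsupp.single_apply, hP.eq_iff]
  have hTQ : ∀ Q, Q ∉ Set.range P → T Q = 0 := fun Q hQ => by
    simp only [T, Finsupp.finsetSum_apply, Finsupp.single_apply]
    exact Finset.sum_eq_zero fun i _ => if_neg fun e => hQ ⟨i, e⟩
  have hD : N ≤ D.deg := by
    rw [deg_add, deg_single]
    have h1 : (1 : ℤ) ≤ Pinf.deg := by exact_mod_cast deg_pos hK Pinf
    have := le_mul_of_one_le_right (abs_nonneg (N - T.deg)) h1
    have := le_abs_self (N - T.deg)
    simp only [M]; linarith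
  let a : FunFld.Place k K → K := fun Q => if h : Q ∈ Set.range P then x h.choose + z h.choose else 0
  have haP : ∀ i, a (P i) = x i + z i := fun i => by
    have h : P i ∈ Set.range P := ⟨i, rfl⟩
    simp only [a, dif_pos h, hP h.choose_spec]
  have ha0 : ∀ Q, Q ∉ Set.range P → a Q = 0 := fun Q hQ => dif_neg hQ
  have ha : a ∈ FunFld.adele k K := mem_adele.2 ((Set.finite_range P).subset fun Q hQ => by
    by_contra hc
    exact hQ (by simp [ha0 Q hc]))
  rw [← AD_sup_diag_eq_adele hK (hN D hD), Submodule.mem_sup] at ha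
  obtain ⟨b, hb, _, ⟨y, rfl⟩, e⟩ := ha
  have he : ∀ Q, y - a Q = -(b Q) := fun Q => by
    rw [← e]; show y - (b Q + y) = _; ring
  refine ⟨y, fun i => ?_, fun Q hQ hQ' => ?_⟩
  · have h1 := hb (P i)
    have h2 : D (P i) = -(m i) - 1 := by
      simp only [D, Finsupp.add_apply, hTP]
      rw [Finsupp.single_eq_of_ne fun e => hinf ⟨i, e⟩, add_zero]
    rw [h2, ← Valuation.map_neg, ← he, haP] at h1
    rw [← lt_exp_iff, ← hz i] at h1
    rw [show y - x i = (y - (x i + z i)) + z i by ring, Valuation.map_add_eq_of_lt_right _ h1, hz i]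
  · have h1 := hb Q
    have h2 : D Q = 0 := by simp [D, hTQ Q hQ', Finsupp.single_eq_of_ne hQ]
    rw [h2, ← Valuation.map_neg, ← he, ha0 Q hQ', sub_zero] at h1
    simpa using h1

end Groth.Agent.S10997
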