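import Mathlib.Tactic.FinCases
import Mathlib.Tactic.LinearCombination
import Groth.Statements.S10998
import Groth.Agent.FunFldLib.Order

set_option autoImplicit false
open FunFld

namespace Groth.Agent.S10998
open Groth.Agent.FunFldLib


/-- A genus-one function field with a place `P₀` of degree one is `k(x, y)` with `x ∈ L(2P₀)`, `y ∈
L(3P₀)` of pole orders `2` and `3`, and `y² + f(x) y + g(x) = 0` for polynomials `f` of degree `≤ 1`
and `g` of degree `3`. -/
theorem result (k K : Type*) [Field k] [Field K] [Algebra k K]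
    (hK : FunFld.IsFunctionField k K) (hg : FunFld.genus k K = 1) (P₀ : FunFld.Place k K) (hP : P₀.deg = 1) :
    ∃ x y : K, x ∈ FunFld.L (Finsupp.single P₀ 2) ∧ y ∈ FunFld.L (Finsupp.single P₀ 3) ∧
      P₀.ord x = -2 ∧ P₀.ord y = -3 ∧
      IntermediateField.adjoin k ({x, y} : Set K) = ⊤ ∧
      ∃ f g : Polynomial k, f.natDegree ≤ 1 ∧ g.natDegree = 3 ∧
        y ^ 2 + Polynomial.aeval x f * y + Polynomial.aeval x g = 0 := by
  classical
  have hspan : ∀ m : ℕ, 1 ≤ m → (FunFld.ell (Finsupp.single P₀ (m : ℤ)) : ℤ) = m := fun m hm => by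
    have := ell_eq_of_large hK (D := Finsupp.single P₀ (m : ℤ)) (by rw [deg_single, hg, hP]; push_cast; omega)
    rw [deg_single, hg, hP] at this
    push_cast at this; omega
  have wit : ∀ m : ℕ, 2 ≤ m → ∃ z : K, z ∈ FunFld.L (Finsupp.single P₀ (m : ℤ)) ∧ z ≠ 0 ∧ P₀.ord z = -m := by
    intro m hm
    have hle : ¬ FunFld.L (Finsupp.single P₀ (m : ℤ)) ≤ FunFld.L (Finsupp.single P₀ ((m - 1 : ℕ) : ℤ)) := fun hle => by
      have := finite_L hK (Finsupp.single P₀ ((m - 1 : ℕ) : ℤ))
      have h3 : FunFld.ell (Finsupp.single P₀ (m : ℤ)) ≤ FunFld.ell (Finsupp.single P₀ ((m - 1 : ℕ) : ℤ)) :=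
        Submodule.finrank_mono hle
      have := hspan m (by omega); have := hspan (m - 1) (by omega)
      omega
    obtain ⟨z, hz, hz'⟩ := SetLike.not_le_iff_exists.1 hle
    have hz0 : z ≠ 0 := fun e => hz' (e ▸ zero_mem _)
    refine ⟨z, hz, hz0, ?_⟩
    have h2 : -(m : ℤ) ≤ P₀.ord z := (v_le_exp_iff P₀ hz0 _).1 (by simpa using hz P₀)
    by_contra hne
    apply hz'
    intro R
    rcases eq_or_ne R P₀ with rfl | hR
    · rw [v_le_exp_iff R hz0, Finsupp.single_eq_same]; omega
    · simpa [Finsupp.single_eq_of_ne hR] using hz R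
  obtain ⟨x, hx, hx0, hxo⟩ := wit 2 le_rfl
  obtain ⟨y, hy, hy0, hyo⟩ := wit 3 (by norm_num)
  have hxo' : P₀.ord x = -2 := by simpa using hxo
  have hyo' : P₀.ord y = -3 := by simpa using hyo
  refine ⟨x, y, hx, hy, hxo', hyo', ?_, ?_⟩
  · have hnn : ∀ (z : K) (m : ℕ), z ∈ FunFld.L (Finsupp.single P₀ (m : ℤ)) → z ≠ 0 → ∀ R, R ≠ P₀ → 0 ≤ R.ord z :=
      fun z m hz hz0 R hR => (v_le_one_iff R hz0).1 (by simpa [Finsupp.single_eq_of_ne hR] using hz R)
    have d2 := degX_eq_of_pole hK (by norm_num : 0 < 2) hP hxo (hnn x 2 hx hx0)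
    have d3 := degX_eq_of_pole hK (by norm_num : 0 < 3) hP hyo (hnn y 3 hy hy0)
    set F := IntermediateField.adjoin k ({x, y} : Set K)
    have a2 : Module.finrank F K ∣ degX k x :=
      IntermediateField.finrank_dvd_of_le_left (IntermediateField.adjoin.mono k _ _ (by simp))
    have a3 : Module.finrank F K ∣ degX k y :=
      IntermediateField.finrank_dvd_of_le_left (IntermediateField.adjoin.mono k _ _ (by simp))
    rw [d2] at a2; rw [d3] at a3
    exact IntermediateField.finrank_eq_one_iff_eq_top.1 (Nat.dvd_one.1 ((Nat.dvd_add_right a2).1 (by simpa using a3)))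
  · let b : Fin 6 → K := ![1, x, y, x ^ 2, x * y, x ^ 3]
    have hord : ∀ i, P₀.ord (b i) = (![0, -2, -3, -4, -5, -6] : Fin 6 → ℤ) i := by
      intro i
      fin_cases i <;> simp [b, ord_one, ord_mul P₀ hx0 hy0, ord_pow P₀ hx0, hxo', hyo']
    have hne : ∀ i, b i ≠ 0 := by intro i; fin_cases i <;> simp [b, hx0, hy0]
    have hli : LinearIndependent k b := linearIndependent_of_ord P₀ b hne (fun i j e => by
      simp only [hord] at e
      fin_cases i <;> fin_cases j <;> simp at e ⊢)
    have hmem : ∀ i, b i ∈ FunFld.L (Finsupp.single P₀ ((6 : ℕ) : ℤ)) := fun i R => by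
      rcases eq_or_ne R P₀ with rfl | hR
      · rw [v_le_exp_iff R (hne i), hord, Finsupp.single_eq_same]
        fin_cases i <;> simp
      · have hx' : R.1 x ≤ 1 := by simpa [Finsupp.single_eq_of_ne hR] using hx R
        have hy' : R.1 y ≤ 1 := by simpa [Finsupp.single_eq_of_ne hR] using hy R
        rw [Finsupp.single_eq_of_ne hR]
        simp only [WithZero.exp_zero]
        fin_cases i <;> simp [b, map_mul, map_pow, hx', hy', mul_le_one', pow_le_one₀]
    have hsp : Submodule.span k (Set.range b) = FunFld.L (Finsupp.single P₀ ((6 : ℕ) : ℤ)) := by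
      have := finite_L hK (Finsupp.single P₀ ((6 : ℕ) : ℤ))
      refine Submodule.eq_of_le_of_finrank_le (Submodule.span_le.2 (by rintro _ ⟨s, rfl⟩; exact hmem s)) ?_
      rw [finrank_span_eq_card hli]
      have := hspan 6 (by norm_num)
      show FunFld.ell _ ≤ _
      simp only [Fintype.card_fin]
      omega
    have hyy : y ^ 2 ∈ Submodule.span k (Set.range b) := by
      rw [hsp, show ((6 : ℕ) : ℤ) = 3 + 3 by norm_num, Finsupp.single_add]
      intro R
      rw [sq, map_mul, Finsupp.add_apply, WithZero.exp_add]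
      exact mul_le_mul' (hy R) (hy R)
    obtain ⟨c, hc⟩ := (Submodule.mem_span_range_iff_exists_fun k).1 hyy
    rw [Fin.sum_univ_six] at hc
    simp only [b, Matrix.cons_val_zero, Matrix.cons_val_one, Matrix.cons_val, Algebra.smul_def] at hc
    refine ⟨-(Polynomial.C (c 2) + Polynomial.C (c 4) * Polynomial.X),
      -(Polynomial.C (c 5) * Polynomial.X ^ 3 + Polynomial.C (c 3) * Polynomial.X ^ 2 + Polynomial.C (c 1) * Polynomial.X + Polynomial.C (c 0)), ?_, ?_, ?_⟩
    · rw [Polynomial.natDegree_neg, add_comm]; exact Polynomial.natDegree_linear_le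
    · rw [Polynomial.natDegree_neg, Polynomial.natDegree_cubic]
      intro h5
      rw [h5, map_zero, zero_mul, add_zero] at hc
      have hv : P₀.1 (y ^ 2) ≤ WithZero.exp 5 := by
        rw [← hc]
        have hb : ∀ i : Fin 6, i ≠ 5 → P₀.1 (c i • b i) ≤ WithZero.exp 5 := fun i hi => by
          refine v_smul_le P₀ _ _ ?_
          rw [v_le_exp_iff P₀ (hne i), hord]
          fin_cases i <;> simp at hi ⊢
        have a0 := hb 0 (by decide); have a1 := hb 1 (by decide); have a2 := hb 2 (by decide)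
        have a3 := hb 3 (by decide); have a4 := hb 4 (by decide)
        simp only [b, Matrix.cons_val_zero, Matrix.cons_val_one, Matrix.cons_val, Algebra.smul_def] at a0 a1 a2 a3 a4
        refine (Valuation.map_add _ _ _).trans (max_le ?_ a4)
        refine (Valuation.map_add _ _ _).trans (max_le ?_ a3)
        refine (Valuation.map_add _ _ _).trans (max_le ?_ a2)
        exact (Valuation.map_add _ _ _).trans (max_le a0 a1)
      rw [v_le_exp_iff P₀ (pow_ne_zero _ hy0), ord_pow P₀ hy0, hyo'] at hv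
      norm_num at hv
    · simp only [map_neg, map_add, map_mul, map_pow, Polynomial.aeval_C, Polynomial.aeval_X]
      linear_combination -hc

end Groth.Agent.S10998
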