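import Groth.Statements.S10999
import Groth.Agent.FunFldLib.Extra

set_option autoImplicit false
open FunFld

namespace Groth.Agent.S10999
open Groth.Agent.FunFldLib


/-- In a genus-one function field with a place `P₀` of degree one, `P ↦ P - P₀` is a bijection from the
places of degree one onto the divisor classes of degree zero. The geometric description of the group
law is not stated. -/
theorem result (k K : Type*) [Field k] [Field K] [Algebra k K]
    (hK : FunFld.IsFunctionField k K) (hg : FunFld.genus k K = 1) (P₀ : FunFld.Place k K) (hP : P₀.deg = 1)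
    (D : FunFld.Divisor k K) (hD : D.deg = 0) :
    ∃! P : FunFld.Place k K, P.deg = 1 ∧
      ∃ x : K, x ≠ 0 ∧ D = Finsupp.single P 1 - Finsupp.single P₀ 1 + FunFld.div k x := by
  classical
  have h1 := ell_eq_of_large hK (D := D + Finsupp.single P₀ 1) (by
    rw [deg_add, hD, deg_single, hg, hP]; simp)
  rw [deg_add, hD, deg_single, hg, hP] at h1
  simp at h1
  obtain ⟨z, hz0, hz⟩ := exists_mem_L hK (show 0 < FunFld.ell (D + Finsupp.single P₀ 1) by omega)
  have hd : (D + Finsupp.single P₀ 1 + FunFld.div k z).deg = 1 := by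
    rw [deg_add, deg_add, deg_div hK, hD, deg_single, hP]; simp
  have hc := support_le_card _ hz (deg_pos hK)
  have hne : (D + Finsupp.single P₀ 1 + FunFld.div k z).support.card ≠ 0 := fun h0 => by
    rw [Finset.card_eq_zero, Finsupp.support_eq_empty] at h0
    rw [h0, deg_zero] at hd
    simp at hd
  obtain ⟨P, hPs⟩ := Finset.card_eq_one.1
    (show (D + Finsupp.single P₀ 1 + FunFld.div k z).support.card = 1 by omega)
  have hE := (Finsupp.support_eq_singleton.1 hPs).2
  obtain ⟨e, hee⟩ : ∃ e : ℤ, (D + Finsupp.single P₀ 1 + FunFld.div k z : FunFld.Divisor k K) P = e := ⟨_, rfl⟩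
  rw [hee] at hE
  rw [hE, deg_single] at hd
  have he : e = 1 := Int.eq_one_of_mul_eq_one_right (hee ▸ hz P) hd
  rw [he, one_mul] at hd
  have hdeg : P.deg = 1 := by exact_mod_cast hd
  rw [he] at hE
  refine ⟨P, ⟨hdeg, z⁻¹, inv_ne_zero hz0, ?_⟩, ?_⟩
  · rw [← hE, div_inv hK]; abel
  · rintro P' ⟨hP', w, hw0, hw⟩
    refine (Groth.Agent.FunFldLib.places_eq hK (by omega) hdeg hP' (w * z) (mul_ne_zero hw0 hz0) ?_).symm
    rw [← hE, hw, div_mul hK hw0 hz0]; abel

end Groth.Agent.S10999
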