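import Mathlib.FieldTheory.IntermediateField.Adjoin.Basic
import Mathlib.FieldTheory.PrimitiveElement
import Mathlib.RingTheory.AdjoinRoot
import Mathlib.RingTheory.Polynomial.GaussLemma
import Groth.Statements.S11000
import Groth.Agent.FunFldLib.Order

set_option autoImplicit false
universe u v
open FunFld

namespace Groth.Agent.S11000
open Groth.Agent.FunFldLib


/-- Over a perfect ground field every function field of one variable is geometric (`k' ⊗_k K` is a field
for all finite `k'/k`). -/
theorem result (k : Type u) (K : Type v) [Field k] [Field K] [Algebra k K] [PerfectField k]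
    (hK : FunFld.IsFunctionField k K) : FunFld.IsGeometric k K := by
  intro k' _ _ hfin
  obtain ⟨α, hα⟩ := Field.exists_primitive_element k k'
  have hint : IsIntegral k α := IsIntegral.of_finite k α
  let pb := PowerBasis.map (IntermediateField.adjoin.powerBasis hint) ((IntermediateField.equivOfEq hα).trans IntermediateField.topEquiv)
  have hgen : pb.gen = α := rfl
  set m := minpoly k α
  set M := m.map (algebraMap k K)
  have hirr : Irreducible M := by
    refine Polynomial.Monic.irreducible_iff_natDegree ((minpoly.monic hint).map _) |>.2 ⟨fun h => ?_, fun f g hf hg hfg => ?_⟩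
    · have := congrArg Polynomial.natDegree h
      rw [Polynomial.natDegree_map, Polynomial.natDegree_one] at this
      exact (minpoly.natDegree_pos hint).ne' this
    · by_contra hc
      push Not at hc
      have halg : ∀ f g : Polynomial K, f.Monic → g.Monic → f * g = M → ∃ f0 : Polynomial k, f0.map (algebraMap k K) = f := by
        intro f g hf hg hfg
        have hmem := integralClosure.mem_lifts_of_monic_of_dvd_map K (minpoly.monic hint) hf ⟨g, hfg.symm⟩
        refine (Polynomial.mem_lifts f).1 ((Polynomial.lifts_iff_coeff_lifts f).2 fun n => ?_)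
        obtain ⟨z, hz⟩ := (Polynomial.lifts_iff_coeff_lifts f).1 hmem n
        rw [← hz]
        exact hK.2 _ (z.2.isAlgebraic)
      obtain ⟨f0, hf0⟩ := halg f g hf hg hfg
      obtain ⟨g0, hg0⟩ := halg g f hg hf (by rw [mul_comm, hfg])
      have e : f0 * g0 = m := Polynomial.map_injective _ (algebraMap k K).injective (by rw [Polynomial.map_mul, hf0, hg0, hfg])
      rcases (minpoly.irreducible hint).isUnit_or_isUnit e.symm with h | h
      · apply hc.1; rw [← hf0, Polynomial.natDegree_map, Polynomial.natDegree_eq_zero_of_isUnit h]
      · apply hc.2; rw [← hg0, Polynomial.natDegree_map, Polynomial.natDegree_eq_zero_of_isUnit h]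
  have : Fact (Irreducible M) := ⟨hirr⟩
  have e1 : k' ≃ₐ[k] AdjoinRoot m := (AdjoinRoot.equiv' m pb (by rw [hgen]; simp [m]) (by rw [hgen]; simp [m])).symm
  have e2 : TensorProduct k k' K ≃+* AdjoinRoot M :=
    (((Algebra.TensorProduct.comm k k' K).trans (Algebra.TensorProduct.congr AlgEquiv.refl e1)).toRingEquiv.trans
      (AdjoinRoot.tensorAlgEquiv (R := k) (S := k) (T := K) m (m.map Algebra.TensorProduct.includeRight.toRingHom) rfl).toRingEquiv).trans
      (AdjoinRoot.mapRingEquiv (Algebra.TensorProduct.rid k k K).toRingEquiv _ M (Associated.of_eq (by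
        rw [Polynomial.map_map]
        refine congrArg (fun φ => Polynomial.map φ m) (RingHom.ext fun c => ?_)
        show Algebra.TensorProduct.rid k k K ((1 : K) ⊗ₜ[k] c) = algebraMap k K c
        rw [Algebra.TensorProduct.rid_tmul, Algebra.smul_def, mul_one])))
  exact e2.toMulEquiv.isField (Field.toIsField _)

end Groth.Agent.S11000
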