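import Groth.Statements.S11002
import Groth.Agent.FunFldLib.Kaehler.Basic

set_option autoImplicit false
universe u v
open FunFld

namespace Groth.Agent.S11002

/-- In a geometric function field of one variable of characteristic `p > 0`, `x ∈ kK^p` iff `dx = 0` in
`Ω_{K/k}` iff `x` is not a separating variable (`K/k(x)` not separable algebraic). -/
theorem result (k : Type u) (K : Type v) [Field k] [Field K] [Algebra k K] (p : ℕ) [Fact p.Prime] [CharP K p]
    (hK : FunFld.IsFunctionField k K) (hg : FunFld.IsGeometric k K) (x : K) :
    (x ∈ IntermediateField.adjoin k (Set.range fun y : K => y ^ p) ↔ KaehlerDifferential.D k K x = 0) ∧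
    (x ∈ IntermediateField.adjoin k (Set.range fun y : K => y ^ p) ↔
      ¬ Algebra.IsSeparable (IntermediateField.adjoin k ({x} : Set K)) K) := by
  refine ⟨?_, Groth.Agent.FunFldLib.Kaehler.mem_kp_iff_not_separable hK hg x⟩
  rw [show IntermediateField.adjoin k (Set.range fun y : K => y ^ p) = Groth.Agent.FunFldLib.Kaehler.dker k K from (Groth.Agent.FunFldLib.Kaehler.kp_eq hK.1 hg).1]
  exact Iff.rfl

end Groth.Agent.S11002
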