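import Mathlib.RingTheory.Flat.Basic
import Mathlib.RingTheory.TensorProduct.Finite
import Groth.Statements.S11005
import Groth.Agent.FunFldLib.Order

set_option autoImplicit false
universe u v
open FunFld

namespace Groth.Agent.S11005
open Groth.Agent.FunFldLib


/-- An intermediate field `K₀` of a geometric function field of one variable `K/k` that is
transcendental over `k` is again a geometric function field of one variable over `k`. -/
theorem result (k : Type u) (K : Type v) [Field k] [Field K] [Algebra k K]
    (hK : FunFld.IsFunctionField k K) (hg : FunFld.IsGeometric k K) (K₀ : IntermediateField k K)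
    (h₀ : ∃ x ∈ K₀, Transcendental k x) : FunFld.IsFunctionField k K₀ ∧ FunFld.IsGeometric k K₀ := by
  obtain ⟨x, hx0, hx⟩ := h₀
  refine ⟨⟨⟨⟨x, hx0⟩, fun h => hx (h.algHom K₀.val), ?_⟩, ?_⟩, ?_⟩
  · set E := IntermediateField.adjoin k ({(⟨x, hx0⟩ : K₀)} : Set K₀)
    set Ex := IntermediateField.adjoin k ({x} : Set K)
    have hfin := finite_over hK hx
    have hle : Ex ≤ K₀ := by rw [IntermediateField.adjoin_le_iff, Set.singleton_subset_iff]; exact hx0
    have hmap : E.map K₀.val = Ex := by rw [IntermediateField.adjoin_map, Set.image_singleton]; rfl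
    have h2 : FiniteDimensional Ex (IntermediateField.extendScalars hle) :=
      FiniteDimensional.finiteDimensional_submodule (IntermediateField.extendScalars hle).toSubalgebra.toSubmodule
    obtain ⟨s, hs⟩ := h2.fg_top
    classical
    refine ⟨⟨s.image fun z => (⟨z.1, z.2⟩ : K₀), eq_top_iff.2 fun z _ => ?_⟩⟩
    have hz : (⟨z.1, z.2⟩ : IntermediateField.extendScalars hle) ∈ Submodule.span Ex (s : Set (IntermediateField.extendScalars hle)) := by rw [hs]; trivial
    obtain ⟨c, hc⟩ := (Submodule.mem_span_finset' ).1 hz
    have : z = ∑ a : s, (⟨⟨(c a : K), hle (c a).2⟩, by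
        have h3 : ((c a : K)) ∈ E.map K₀.val := by rw [hmap]; exact (c a).2
        obtain ⟨w, hw, hwe⟩ := h3
        have : (⟨(c a : K), hle (c a).2⟩ : K₀) = w := Subtype.ext hwe.symm
        rw [this]; exact hw⟩ : E) • (⟨(a : IntermediateField.extendScalars hle).1, (a : IntermediateField.extendScalars hle).2⟩ : K₀) := by
      apply Subtype.ext
      have h4 := congrArg (fun w : IntermediateField.extendScalars hle => (w : K)) hc
      simp only [AddSubmonoidClass.coe_finsetSum] at h4 ⊢
      exact h4.symm
    rw [this]
    exact Submodule.sum_mem _ fun a _ => Submodule.smul_mem _ _ (Submodule.subset_span (Finset.mem_coe.2 (Finset.mem_image_of_mem _ a.2)))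
  · intro y hy
    obtain ⟨c, hc⟩ := hK.2 y.1 (hy.algHom K₀.val)
    exact ⟨c, Subtype.ext hc⟩
  · intro k' _ _ hfin
    have hi : Function.Injective (Algebra.TensorProduct.map (AlgHom.id k k') K₀.val) :=
      Module.Flat.lTensor_preserves_injective_linearMap K₀.val.toLinearMap Subtype.val_injective
    have hT := hg k' hfin
    letI := hT.toField
    have : IsDomain (TensorProduct k k' K₀) := Function.Injective.isDomain _ hi
    have : IsDomain (TensorProduct k K₀ k') := Function.Injective.isDomain
      (Algebra.TensorProduct.comm k K₀ k').toAlgHom.toRingHom (Algebra.TensorProduct.comm k K₀ k').injective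
    exact (Algebra.TensorProduct.comm k k' K₀).toRingEquiv.toMulEquiv.isField
      (isField_of_isIntegral_of_isField' (Field.toIsField K₀))

end Groth.Agent.S11005
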