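import Groth.Statements.S11007
import Groth.Agent.FunFldLib.Kaehler.Basic

set_option autoImplicit false
universe u v
open FunFld

namespace Groth.Agent.S11007

/-- In a geometric function field of one variable of characteristic `p > 0`, `kK^p` is the only
intermediate field over which `K` is purely inseparable of degree `p`. The companion assertion about
the natural map on Kähler differentials is not stated. -/
theorem result (k : Type u) (K : Type v) [Field k] [Field K] [Algebra k K] (p : ℕ) [Fact p.Prime] [CharP K p]
    (hK : FunFld.IsFunctionField k K) (hg : FunFld.IsGeometric k K) (K₀ : IntermediateField k K) :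
    (IsPurelyInseparable K₀ K ∧ Module.finrank K₀ K = p) ↔ K₀ = IntermediateField.adjoin k (Set.range fun y : K => y ^ p) := by
  open Groth.Agent.FunFldLib.Kaehler in
  have hkp := kp_eq (p := p) hK.1 hg
  constructor
  · rintro ⟨hpi, hrank⟩
    have : FiniteDimensional K₀ K := Module.finite_of_finrank_pos (hrank.symm ▸ (Fact.out : p.Prime).pos)
    have : CharP K₀ p := (RingHom.charP_iff (algebraMap K₀ K) (algebraMap K₀ K).injective p).2 inferInstance
    have : ExpChar K₀ p := .prime Fact.out
    have hle : IntermediateField.adjoin k (Set.range fun y : K => y ^ p) ≤ K₀ := IntermediateField.adjoin_le_iff.2 fun z ⟨y, hy⟩ => by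
      subst hy
      obtain ⟨n, c, hc⟩ := IsPurelyInseparable.minpoly_eq_X_pow_sub_C K₀ p y
      have hd : (minpoly K₀ y).natDegree ≤ p := by
        rw [← hrank]; exact minpoly.natDegree_le y
      rw [hc, Polynomial.natDegree_X_pow_sub_C] at hd
      have hroot := minpoly.aeval K₀ y
      rw [hc, map_sub, map_pow, Polynomial.aeval_X, Polynomial.aeval_C, sub_eq_zero] at hroot
      rcases n with _ | _ | n
      · rw [pow_zero, pow_one] at hroot
        simp only [hroot]; exact pow_mem c.2 p
      · rw [zero_add, pow_one] at hroot
        simp only [hroot]; exact c.2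
      · exfalso
        have h2 := (Fact.out : p.Prime).two_le
        have : p ^ 2 ≤ p ^ (n + 1 + 1) := Nat.pow_le_pow_right (by omega) (by omega)
        nlinarith
    have : FiniteDimensional (IntermediateField.adjoin k (Set.range fun y : K => y ^ p)) K :=
      Module.finite_of_finrank_pos (by rw [hkp.2]; exact (Fact.out : p.Prime).pos)
    exact (IntermediateField.eq_of_le_of_finrank_eq' hle (hkp.2.trans hrank.symm)).symm
  · rintro rfl
    exact ⟨Groth.Agent.FunFldLib.Kaehler.pure_kp (k := k) (K := K) (p := p), hkp.2⟩

end Groth.Agent.S11007
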