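import Groth.Statements.S11013
import Groth.Agent.FunFldLib.Gal.Action

set_option autoImplicit false
open FunFld

namespace Groth.Agent.S11013

/-- In a finite Galois extension `K'/K` of a geometric function field of one variable, the Galois group
acts transitively on the places of `K'` above a given place of `K`. -/
theorem result (k K K' : Type*) [Field k] [Field K] [Field K'] [Algebra k K] [Algebra K K'] [Algebra k K']
    [IsScalarTower k K K'] [FiniteDimensional K K'] (hK : FunFld.IsFunctionField k K) (hg : FunFld.IsGeometric k K) [IsGalois K K']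
    (Q₁ Q₂ : FunFld.Place k K')
    (h : (Q₁.1.comap (algebraMap K K')).IsEquiv (Q₂.1.comap (algebraMap K K'))) :
    ∃ σ : K' ≃ₐ[K] K', Q₁.1.comap (σ : K' →+* K') = Q₂.1 := by
  open Groth.Agent.FunFldLib in
  obtain ⟨P₁, e₁, -, hP₁⟩ := exists_over hK.1 Q₁
  open Groth.Agent.FunFldLib in
  obtain ⟨P₂, e₂, -, hP₂⟩ := exists_over hK.1 Q₂
  obtain rfl : P₁ = P₂ := Groth.Agent.FunFldLib.ext_of_le P₁ P₂ fun x hx =>
    (Groth.Agent.FunFldLib.over_le_iff hP₂ x).1 (h.le_one_iff_le_one.1 ((Groth.Agent.FunFldLib.over_le_iff hP₁ x).2 hx))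
  obtain ⟨σ, hσ⟩ := Groth.Agent.FunFldLib.Gal.exists_smul_eq (K := K) hK.1 ⟨e₁, hP₁⟩ ⟨e₂, hP₂⟩
  exact ⟨σ⁻¹, by rw [← hσ]; rfl⟩

end Groth.Agent.S11013
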