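import Mathlib.Tactic.LinearCombination
import Groth.Statements.S11014
import Groth.Agent.FunFldLib.Hyper

set_option autoImplicit false
open FunFld

namespace Groth.Agent.S11014
open Groth.Agent.FunFldLib


/-- For `char k ≠ 2` and `K = k(x, y)` with `y² = f(x)`, `f` squarefree of degree `d ≥ 1`, the genus is
`(d - 2)/2` for `d` even and `(d - 1)/2` for `d` odd. -/
theorem result (k K : Type*) [Field k] [Field K] [Algebra k K]
    (hK : FunFld.IsFunctionField k K) (h2 : ringChar k ≠ 2) (x y : K) (hx : Transcendental k x)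
    (hxy : IntermediateField.adjoin k ({x, y} : Set K) = ⊤)
    (f : Polynomial k) (hf : Squarefree f) (hd : 1 ≤ f.natDegree)
    (heq : y ^ 2 = Polynomial.aeval x f) :
    FunFld.genus k K = (f.natDegree - 1) / 2 := by
  classical
  set F := IntermediateField.adjoin k ({x} : Set K)
  set d := f.natDegree
  have hfx : Polynomial.aeval x f ∈ F := (IntermediateField.mem_adjoin_simple_iff k _).2 ⟨f, 1, by simp⟩
  have h2' : (2 : k) ≠ 0 := Ring.two_ne_zero h2
  have h2K : (2 : K) ≠ 0 := by
    have := (algebraMap k K).injective.ne h2'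
    rwa [map_ofNat, map_zero] at this
  have hx0 : x ≠ 0 := fun h => by subst h; exact hx isAlgebraic_zero
  have hf0 : Polynomial.aeval x f ≠ 0 := fun e => by
    have : f = 0 := transcendental_iff.1 hx _ e
    simp [d, this] at hd
  have hy0 : y ≠ 0 := fun e => hf0 (by rw [← heq, e]; simp)
  -- the conjugation
  have hrep := exists_rep hxy heq
  choose A B hA hB hAB using hrep
  have uniq : ∀ {a b : K}, a ∈ F → b ∈ F → ∀ z, z = a + b * y → A z = a ∧ B z = b := fun {a b} ha hb z hz =>
    rep_unique hx hf hd heq (hA z) (hB z) ha hb ((hAB z).symm.trans hz)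
  let σ : K →+* K :=
    { toFun := fun z => A z - B z * y
      map_one' := by obtain ⟨e1, e2⟩ := uniq (one_mem F) (zero_mem F) 1 (by ring); rw [e1, e2]; ring
      map_zero' := by obtain ⟨e1, e2⟩ := uniq (zero_mem F) (zero_mem F) 0 (by ring); rw [e1, e2]; ring
      map_add' := fun z w => by
        obtain ⟨e1, e2⟩ := uniq (add_mem (hA z) (hA w)) (add_mem (hB z) (hB w)) (z + w) (by
          conv_lhs => rw [hAB z, hAB w]
          ring)
        rw [e1, e2]; ring
      map_mul' := fun z w => by
        obtain ⟨e1, e2⟩ := uniq (add_mem (mul_mem (hA z) (hA w)) (mul_mem (mul_mem (hB z) (hB w)) hfx))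
          (add_mem (mul_mem (hA z) (hB w)) (mul_mem (hB z) (hA w))) (z * w) (by
          conv_lhs => rw [hAB z, hAB w]
          rw [← heq]; ring)
        rw [e1, e2, ← heq]; ring }
  have σF : ∀ a ∈ F, σ a = a := fun a ha => by
    obtain ⟨e1, e2⟩ := uniq ha (zero_mem F) a (by ring)
    show A a - B a * y = a
    rw [e1, e2]; ring
  have σy : σ y = -y := by
    obtain ⟨e1, e2⟩ := uniq (zero_mem F) (one_mem F) y (by ring)
    show A y - B y * y = -y
    rw [e1, e2]; ring
  have σσ : ∀ z, σ (σ z) = z := fun z => by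
    have : σ z = A z + (-(B z)) * y := by show A z - B z * y = _; ring
    rw [this, map_add, map_mul, map_neg, σF _ (hA z), σF _ (hB z), σy]
    conv_rhs => rw [hAB z]
    ring
  have hxF : x ∈ F := IntermediateField.mem_adjoin_simple_self k x
  let pl : FunFld.Place k K → FunFld.Place k K := fun R => ⟨R.1.comap σ, fun c => by
    show R.1 (σ (algebraMap k K c)) ≤ 1
    rw [σF _ (F.algebraMap_mem c)]; exact R.2.1 c, fun v => by
    obtain ⟨z, hz⟩ := R.2.2 v
    exact ⟨σ z, by show R.1 (σ (σ z)) = v; rw [σσ, hz]⟩⟩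
  -- poles of `x`
  set D := -FunFld.div k x ⊔ 0
  have hDP : ∀ R : FunFld.Place k K, D R = max (-(R.ord x)) 0 := fun R => by
    simp [D, div_apply hK.1]
  have hD0 : ∀ R, 0 ≤ D R := fun R => le_sup_right.trans_eq (hDP R).symm
  have hpoly : ∀ (p : Polynomial k) (R : FunFld.Place k K), R.1 (Polynomial.aeval x p) ≤ WithZero.exp (p.natDegree * D R) := by
    intro p R
    rw [Polynomial.aeval_eq_sum_range]
    refine Valuation.map_sum_le _ fun i hi => v_smul_le R _ _ ?_
    rw [Finset.mem_range] at hi
    rw [v_le_exp_iff R (pow_ne_zero _ hx0), ord_pow R hx0]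
    have h1 : -(R.ord x) ≤ D R := (le_max_left _ _).trans_eq (hDP R).symm
    have h3 : (i : ℤ) * -(R.ord x) ≤ (p.natDegree : ℤ) * D R :=
      (mul_le_mul_of_nonneg_left h1 (Int.natCast_nonneg i)).trans
        (mul_le_mul_of_nonneg_right (by exact_mod_cast (show i ≤ p.natDegree by omega)) (hD0 R))
    linarith
  have hexact : ∀ (p : Polynomial k), p ≠ 0 → ∀ R : FunFld.Place k K, R.ord x < 0 →
      R.ord (Polynomial.aeval x p) = p.natDegree * R.ord x := by
    intro p hp R hR
    have hv : ∀ i : ℕ, R.1 (x ^ i) = WithZero.exp (-((i : ℤ) * R.ord x)) := fun i => by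
      rw [v_eq_exp R (pow_ne_zero _ hx0), ord_pow R hx0]
    have hv2 : R.1 (Polynomial.aeval x p) = R.1 (p.coeff p.natDegree • x ^ p.natDegree) := by
      rw [Polynomial.aeval_eq_sum_range]
      refine Valuation.map_sum_eq_of_lt R.1 (Finset.self_mem_range_succ _) fun i hi => ?_
      rw [Finset.mem_sdiff, Finset.mem_range, Finset.mem_singleton] at hi
      have hlc : p.coeff p.natDegree ≠ 0 := Polynomial.leadingCoeff_ne_zero.2 hp
      refine (smul_le R _ _).trans_lt ?_
      rw [hv, Algebra.smul_def, map_mul, v_algebraMap R hlc, one_mul, hv, WithZero.exp_lt_exp, neg_lt_neg_iff]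
      exact mul_lt_mul_of_neg_right (by exact_mod_cast (show i < p.natDegree by omega)) hR
    have hne : Polynomial.aeval x p ≠ 0 := fun e => hp (transcendental_iff.1 hx _ e)
    have hlc : p.coeff p.natDegree ≠ 0 := Polynomial.leadingCoeff_ne_zero.2 hp
    rw [Algebra.smul_def, map_mul, v_algebraMap R hlc, one_mul, hv,
      v_eq_exp R hne, WithZero.exp_inj] at hv2
    omega
  obtain ⟨R0, hR0⟩ := exists_pole hK (x := x) (fun ⟨c, hc⟩ => hx (hc ▸ isAlgebraic_algebraMap c))
  -- rational functions with bounded poles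
  have hrat : ∀ (r : K) (m : ℕ), r ∈ F → r ∈ FunFld.L (m • D) → ∃ p : Polynomial k, p.natDegree ≤ m ∧ r = Polynomial.aeval x p := by
    intro r m hr hL
    obtain ⟨p, q, hq, hco, he⟩ := exists_coprime_rep x hr hx
    have hqd : q.natDegree = 0 := by
      by_contra hne
      obtain ⟨R, hR⟩ := exists_zero hK (transcendental_aeval hx (Nat.pos_of_ne_zero hne))
      have hxR : 0 ≤ R.ord x := by
        by_contra hneg
        have h5 := hexact q hq R (not_le.1 hneg)
        have h6 := (v_lt_one_iff R (fun e => hq (transcendental_iff.1 hx _ e))).1 hR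
        have h7 : (q.natDegree : ℤ) * R.ord x ≤ 0 := mul_nonpos_of_nonneg_of_nonpos (Int.natCast_nonneg _) (not_le.1 hneg).le
        omega
      have hDR : D R = 0 := by rw [hDP]; omega
      have hr1 : R.1 r ≤ 1 := by
        have := hL R
        rwa [Finsupp.smul_apply, hDR, smul_zero, WithZero.exp_zero] at this
      have hp1 : R.1 (Polynomial.aeval x p) < 1 := by
        rw [← he, map_mul]; exact (mul_le_of_le_one_left zero_le hr1).trans_lt hR
      obtain ⟨u, v, huv⟩ := hco
      have h1 : R.1 (Polynomial.aeval x (u * p + v * q)) < 1 := by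
        have hu : ∀ u : Polynomial k, R.1 (Polynomial.aeval x u) ≤ 1 := fun u => by
          have := hpoly u R; rwa [hDR, mul_zero, WithZero.exp_zero] at this
        rw [map_add, map_mul, map_mul]
        refine (Valuation.map_add _ _ _).trans_lt (max_lt ?_ ?_) <;> rw [map_mul]
        · exact (mul_le_of_le_one_left zero_le (hu u)).trans_lt hp1
        · exact (mul_le_of_le_one_left zero_le (hu v)).trans_lt hR
      rw [huv, map_one, map_one] at h1
      exact lt_irrefl _ h1
    obtain ⟨c, rfl⟩ := Polynomial.natDegree_eq_zero.1 hqd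
    have hc : c ≠ 0 := fun e => hq (by rw [e, map_zero])
    have hr' : r = Polynomial.aeval x (p * Polynomial.C c⁻¹) := by
      rw [map_mul, ← he, Polynomial.aeval_C, Polynomial.aeval_C, mul_assoc, ← map_mul, mul_inv_cancel₀ hc, map_one, mul_one]
    refine ⟨_, ?_, hr'⟩
    rcases eq_or_ne (p * Polynomial.C c⁻¹) 0 with h0 | h0
    · simp [h0]
    have := hexact _ h0 R0 hR0
    have hne : r ≠ 0 := fun e => h0 (transcendental_iff.1 hx _ (hr'.symm.trans e))
    rw [← hr'] at this
    have h3 := (v_le_exp_iff R0 hne _).1 (hL R0)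
    rw [Finsupp.smul_apply, hDP, max_eq_left (by omega), this, nsmul_eq_mul] at h3
    have h4 : ((p * Polynomial.C c⁻¹).natDegree : ℤ) * -(R0.ord x) ≤ (m : ℤ) * -(R0.ord x) := by linarith
    exact_mod_cast le_of_mul_le_mul_right h4 (by omega)
  -- `L (l D)`
  have hyv : ∀ R : FunFld.Place k K, 2 * -(R.ord y) ≤ d * D R := fun R => by
    have h1 := (v_le_exp_iff R hf0 _).1 (hpoly f R)
    rw [← heq, ord_pow R hy0] at h1
    push_cast at h1; linarith
  have hmemL : ∀ (l : ℕ) (p q : Polynomial k), p.natDegree ≤ l → (q = 0 ∨ 2 * q.natDegree + d ≤ 2 * l) →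
      Polynomial.aeval x p + Polynomial.aeval x q * y ∈ FunFld.L (l • D) := by
    intro l p q hp hq R
    rw [Finsupp.smul_apply, nsmul_eq_mul]
    refine (Valuation.map_add _ _ _).trans (max_le ((hpoly p R).trans (WithZero.exp_le_exp.2
      (mul_le_mul_of_nonneg_right (by exact_mod_cast hp) (hD0 R)))) ?_)
    rcases hq with rfl | hq
    · simp
    rw [map_mul]
    refine (mul_le_mul' (hpoly q R) (v_eq_exp R hy0).le).trans ?_
    rw [← WithZero.exp_add, WithZero.exp_le_exp]
    have h1 := hyv R
    have h2 : ((2 * q.natDegree + d : ℕ) : ℤ) * D R ≤ ((2 * l : ℕ) : ℤ) * D R :=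
      mul_le_mul_of_nonneg_right (by exact_mod_cast hq) (hD0 R)
    push_cast at h2
    linarith
  have hL : ∀ (l : ℕ), d ≤ l → ∀ z ∈ FunFld.L (l • D), ∃ p q : Polynomial k, p.natDegree ≤ l ∧
      (q = 0 ∨ 2 * q.natDegree + d ≤ 2 * l) ∧ z = Polynomial.aeval x p + Polynomial.aeval x q * y := by
    intro l _ z hz
    have hDinv : ∀ R, D (pl R) = D R := fun R => by
      rw [hDP, hDP]
      have : (pl R).ord x = R.ord x := by
        show -WithZero.log (R.1 (σ x)) = _
        rw [σF x hxF]; rfl
      rw [this]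
    have hσz : σ z ∈ FunFld.L (l • D) := fun R => by
      have := hz (pl R)
      rw [Finsupp.smul_apply, hDinv] at this
      exact this
    have hσe : σ z = A z - B z * y := rfl
    have hAz : A z ∈ FunFld.L (l • D) := by
      have : A z = ((2 : k)⁻¹) • (z + σ z) := by
        rw [hσe, Algebra.smul_def, map_inv₀, map_ofNat]
        field_simp
        first | linear_combination -(hAB z) | linear_combination (hAB z)
      rw [this]
      exact (FunFld.L _).smul_mem _ (add_mem hz hσz)
    have hBy : B z * y ∈ FunFld.L (l • D) := by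
      have : B z * y = z - A z := by linear_combination -(hAB z)
      rw [this]
      exact sub_mem hz hAz
    obtain ⟨p, hp, hpe⟩ := hrat _ l (hA z) hAz
    have hsq : (B z) ^ 2 * Polynomial.aeval x f ∈ FunFld.L ((2 * l) • D) := fun R => by
      rw [← heq, ← mul_pow, sq, map_mul, Finsupp.smul_apply, two_mul, add_nsmul, WithZero.exp_add]
      exact mul_le_mul' (hBy R) (hBy R)
    obtain ⟨s, hs, hse⟩ := hrat _ (2 * l) (mul_mem (pow_mem (hB z) 2) hfx) hsq
    obtain ⟨q, r, hr, hco, he⟩ := exists_coprime_rep x (hB z) hx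
    have h3 : q ^ 2 * f = s * r ^ 2 := aeval_inj hx (by
      rw [map_mul, map_mul, map_pow, map_pow, ← hse, ← he]; ring)
    have hru : IsUnit r := by
      refine hf r ?_
      have : r ^ 2 ∣ f := ((hco.symm.pow_left (m := 2)).pow_right (n := 2)).dvd_of_dvd_mul_left ⟨s, by rw [h3]; ring⟩
      rwa [sq] at this
    obtain ⟨c, hc, rfl⟩ := Polynomial.isUnit_iff.1 hru
    have hBz : B z = Polynomial.aeval x (q * Polynomial.C c⁻¹) := by
      rw [map_mul, ← he, Polynomial.aeval_C, Polynomial.aeval_C, mul_assoc, ← map_mul, mul_inv_cancel₀ hc.ne_zero, map_one, mul_one]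
    refine ⟨p, q * Polynomial.C c⁻¹, hp, ?_, by rw [← hpe, ← hBz]; exact hAB z⟩
    by_cases hq0 : q * Polynomial.C c⁻¹ = 0
    · exact Or.inl hq0
    right
    have h5 : s = (q * Polynomial.C c⁻¹) ^ 2 * f := aeval_inj hx (by rw [← hse, hBz, map_mul _ (_ ^ 2), map_pow])
    rw [h5, Polynomial.natDegree_mul (pow_ne_zero _ hq0) (fun e => by simp [d, e] at hd), Polynomial.natDegree_pow] at hs
    exact hs
  -- count
  obtain ⟨N, hN⟩ := exists_large hK
  have hdeg : (degX k x) = 2 := by
    have hli : LinearIndependent F ![1, y] := by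
      rw [LinearIndependent.pair_iff]
      intro s t hst
      have h := rep_unique hx hf hd heq s.2 t.2 (zero_mem F) (zero_mem F) (a' := 0) (b' := 0) (by
        have h' : (s : K) * 1 + (t : K) * y = 0 := hst
        linear_combination h')
      exact ⟨Subtype.ext h.1, Subtype.ext h.2⟩
    have hsp : ⊤ ≤ Submodule.span F (Set.range ![1, y]) := fun z _ => by
      rw [Submodule.mem_span_range_iff_exists_fun]
      exact ⟨![⟨A z, hA z⟩, ⟨B z, hB z⟩], by
        rw [Fin.sum_univ_two]
        show A z * 1 + B z * y = z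
        rw [mul_one]; exact (hAB z).symm⟩
    exact (Module.finrank_eq_card_basis (Module.Basis.mk hli hsp)).trans (Fintype.card_fin 2)
  set l := d + N.toNat
  set M := (2 * l - d) / 2
  let ψ : (Polynomial.degreeLT k (l + 1)) × (Polynomial.degreeLT k (M + 1)) →ₗ[k] K :=
    LinearMap.coprod ((Polynomial.aeval x).toLinearMap.comp (Submodule.subtype _))
      ((LinearMap.mulRight k y).comp ((Polynomial.aeval x).toLinearMap.comp (Submodule.subtype _)))
  have hψ : ∀ pq, ψ pq = Polynomial.aeval x pq.1.1 + Polynomial.aeval x pq.2.1 * y := fun pq => rfl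
  have hFp : ∀ p : Polynomial k, Polynomial.aeval x p ∈ F := fun p =>
    (IntermediateField.mem_adjoin_simple_iff k _).2 ⟨p, 1, by simp⟩
  have hinj : Function.Injective ψ := by
    intro u v huv
    rw [hψ, hψ] at huv
    obtain ⟨e1, e2⟩ := rep_unique hx hf hd heq (hFp _) (hFp _) (hFp _) (hFp _) huv
    exact Prod.ext (Subtype.ext (aeval_inj hx e1)) (Subtype.ext (aeval_inj hx e2))
  have hdlt : ∀ (p : Polynomial k) (n : ℕ), p ∈ Polynomial.degreeLT k (n + 1) ↔ p.natDegree ≤ n := fun p n => by
    rw [Polynomial.mem_degreeLT, Polynomial.natDegree_le_iff_degree_le]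
    exact ⟨fun h => Nat.cast_le.2 le_rfl |>.trans' (by
      rcases eq_or_ne p 0 with rfl | h0
      · simp
      rw [Polynomial.degree_eq_natDegree h0] at h ⊢
      exact Nat.cast_le.2 (Nat.lt_succ_iff.1 (Nat.cast_lt.1 h))), fun h => h.trans_lt (Nat.cast_lt.2 (Nat.lt_succ_self n))⟩
  have hrange : LinearMap.range ψ = FunFld.L (l • D) := by
    refine le_antisymm ?_ fun z hz => ?_
    · rintro _ ⟨⟨⟨p, hp⟩, q, hq⟩, rfl⟩
      rw [hψ]
      refine hmemL l p q ((hdlt p l).1 hp) (Or.inr ?_)
      have := (hdlt q M).1 hq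
      omega
    · obtain ⟨p, q, hp, hq, rfl⟩ := hL l (by omega) z hz
      have hqM : q.natDegree ≤ M := by
        rcases hq with rfl | hq
        · simp
        · omega
      exact ⟨⟨⟨p, (hdlt p l).2 hp⟩, q, (hdlt q M).2 hqM⟩, rfl⟩
  have hell : FunFld.ell (l • D) = (l + 1) + (M + 1) := by
    have i1 : Module.Finite k (Polynomial.degreeLT k (l + 1)) := Module.Finite.equiv (Polynomial.degreeLTEquiv k (l + 1)).symm
    have i2 : Module.Finite k (Polynomial.degreeLT k (M + 1)) := Module.Finite.equiv (Polynomial.degreeLTEquiv k (M + 1)).symm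
    show Module.finrank k (FunFld.L (l • D)) = _
    rw [← hrange, LinearMap.finrank_range_of_inj hinj, Module.finrank_prod,
      (Polynomial.degreeLTEquiv k (l + 1)).finrank_eq, (Polynomial.degreeLTEquiv k (M + 1)).finrank_eq]
    simp
  have hDdeg : D.deg = 2 := by rw [deg_poles_eq hK hx, hdeg]; rfl
  have hld : ∀ n : ℕ, (n • D).deg = 2 * n := fun n => by
    induction n with
    | zero => simp [deg_zero]
    | succ n ih => rw [succ_nsmul, deg_add, ih, hDdeg]; push_cast; ring
  have := hN (l • D) (by rw [hld]; have := Int.self_le_toNat N; omega)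
  simp only [delta, hld, hell] at this
  omega

end Groth.Agent.S11014
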