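import Groth.Statements.S11017
import Groth.Agent.FunFldLib.Extra

set_option autoImplicit false
open FunFld

namespace Groth.Agent.S11017
open Groth.Agent.FunFldLib


/-- For a Weil differential `ω` with divisor `C`, `ord_P [ω] ≥ e` iff `ω` kills every repartition
concentrated at `P` with `P`-component of order at least `-e`. -/
theorem result (k K : Type*) [Field k] [Field K] [Algebra k K] (ω : Module.Dual k (FunFld.adele k K)) (C : FunFld.Divisor k K) (hω : FunFld.IsDivOf ω C)
    (P : FunFld.Place k K) (e : ℤ) :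
    e ≤ C P ↔ ∀ (a : FunFld.Place k K → K) (ha : a ∈ FunFld.adele k K),
      (∀ Q, Q ≠ P → a Q = 0) → P.1 (a P) ≤ WithZero.exp e → ω ⟨a, ha⟩ = 0 := by
  classical
  constructor
  · intro h a ha h0 hP
    refine mem_WD.1 ((hω C).2 le_rfl) ⟨a, ha⟩ (Submodule.mem_sup_left fun Q => ?_)
    rcases eq_or_ne Q P with rfl | hQ
    · exact hP.trans (WithZero.exp_le_exp.2 h)
    · simp [h0 Q hQ]
  · intro h
    let E : FunFld.Divisor k K := C + Finsupp.single P (max 0 (e - C P))
    have hE : FunFld.ADK E ≤ LinearMap.ker ω := fun a ha => by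
      obtain ⟨b, hb, c, hc, eq⟩ := Submodule.mem_sup.1 (ha : a.1 ∈ _)
      have hb' : b ∈ FunFld.adele k K := AD_le_adele E hb
      let b1 : FunFld.Place k K → K := Function.update b P 0
      let b2 : FunFld.Place k K → K := Pi.single P (b P)
      have hb1 : b1 ∈ FunFld.AD C := fun Q => by
        rcases eq_or_ne Q P with rfl | hQ
        · simp [b1]
        · simpa [b1, hQ, E] using hb Q
      have hb2 : b2 ∈ FunFld.adele k K :=
        mem_adele.2 ((Set.finite_singleton P).subset fun Q hQ => by
          by_contra hc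
          exact hQ (by simp [b2, Pi.single_eq_of_ne (show Q ≠ P from hc)]))
      have hsum : b = b1 + b2 := funext fun Q => by
        rcases eq_or_ne Q P with rfl | hQ
        · simp [b1, b2]
        · simp [b1, b2, hQ, Pi.single_eq_of_ne hQ]
      have hb1c : b1 + c ∈ FunFld.adele k K := by
        have : b1 + c = a.1 - b2 := by rw [← eq, hsum]; abel
        rw [this]; exact sub_mem a.2 hb2
      have ha' : a = ⟨b1 + c, hb1c⟩ + ⟨b2, hb2⟩ := Subtype.ext (by
        show a.1 = b1 + c + b2
        rw [← eq, hsum]; abel)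
      have z1 : ω ⟨b1 + c, hb1c⟩ = 0 := mem_WD.1 ((hω C).2 le_rfl) _
        (add_mem (Submodule.mem_sup_left hb1) (Submodule.mem_sup_right hc))
      have z2 : ω ⟨b2, hb2⟩ = 0 := by
        by_cases hle : e ≤ C P
        · refine mem_WD.1 ((hω C).2 le_rfl) ⟨b2, hb2⟩ (Submodule.mem_sup_left fun Q => ?_)
          rcases eq_or_ne Q P with rfl | hQ
          · simpa [b2, E, max_eq_left (sub_nonpos.2 hle)] using hb Q
          · simp [b2, Pi.single_eq_of_ne hQ]
        · refine h b2 hb2 (fun Q hQ => by simp [b2, Pi.single_eq_of_ne hQ]) ?_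
          have := hb P
          simpa [b2, E, max_eq_right (sub_nonneg.2 (not_le.1 hle).le)] using this
      rw [LinearMap.mem_ker, ha', map_add, z1, z2, add_zero]
    have h1 : ω ∈ FunFld.WD E := mem_WD.2 fun a ha => hE ha
    have h2 := (hω E).1 h1 P
    simp [E] at h2
    omega

end Groth.Agent.S11017
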