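import Groth.Statements.S11019
import Groth.Agent.FunFldLib.Hyper

set_option autoImplicit false
open FunFld

namespace Groth.Agent.S11019
open Groth.Agent.FunFldLib


/-- For `char k ≠ 2` and `K = k(x, y)` with `x` transcendental and `y² = f(x)`, `f` squarefree of degree
`≥ 1`: the field `k` is algebraically closed in `K` (whatever in `K` is algebraic over `k` lies in
`k`), and `K/k` is a function field of one variable. -/
theorem result (k K : Type*) [Field k] [Field K] [Algebra k K] (h2 : ringChar k ≠ 2) (x y : K) (hx : Transcendental k x)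
    (hxy : IntermediateField.adjoin k ({x, y} : Set K) = ⊤)
    (f : Polynomial k) (hf : Squarefree f) (hd : 1 ≤ f.natDegree)
    (heq : y ^ 2 = Polynomial.aeval x f) : FunFld.IsFunctionField k K := by
  have h2' : (2 : k) ≠ 0 := Ring.two_ne_zero h2
  set F := IntermediateField.adjoin k ({x} : Set K)
  have hfx : Polynomial.aeval x f ∈ F := (IntermediateField.mem_adjoin_simple_iff k _).2 ⟨f, 1, by simp⟩
  refine ⟨⟨x, hx, ⟨⟨({1, y} : Set K).toFinite.toFinset, eq_top_iff.2 fun z _ => ?_⟩⟩⟩, fun z hz => ?_⟩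
  · obtain ⟨a, b, ha, hb, rfl⟩ := exists_rep hxy heq z
    rw [Set.Finite.coe_toFinset]
    exact Submodule.mem_span_pair.2 ⟨⟨a, ha⟩, ⟨b, hb⟩, by
      show a * 1 + b * y = a + b * y
      rw [mul_one]⟩
  obtain ⟨a, b, ha, hb, rfl⟩ := exists_rep hxy heq z
  have key : ∀ p : Polynomial k, ∃ A B : K, A ∈ F ∧ B ∈ F ∧
      Polynomial.aeval (a + b * y) p = A + B * y ∧ Polynomial.aeval (a - b * y) p = A - B * y := by
    intro p
    induction p using Polynomial.induction_on with
    | C c => exact ⟨algebraMap k K c, 0, F.algebraMap_mem c, zero_mem _, by simp, by simp⟩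
    | add p q hp hq =>
      obtain ⟨A, B, hA, hB, e1, e2⟩ := hp
      obtain ⟨A', B', hA', hB', e1', e2'⟩ := hq
      exact ⟨A + A', B + B', add_mem hA hA', add_mem hB hB', by rw [map_add, e1, e1']; ring, by rw [map_add, e2, e2']; ring⟩
    | monomial n c ih =>
      obtain ⟨A, B, hA, hB, e1, e2⟩ := ih
      refine ⟨A * a + B * b * Polynomial.aeval x f, A * b + B * a,
        add_mem (mul_mem hA ha) (mul_mem (mul_mem hB hb) hfx), add_mem (mul_mem hA hb) (mul_mem hB ha), ?_, ?_⟩
      · rw [pow_succ, ← mul_assoc, map_mul, e1, Polynomial.aeval_X, ← heq]; ring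
      · rw [pow_succ, ← mul_assoc, map_mul, e2, Polynomial.aeval_X, ← heq]; ring
  obtain ⟨A, B, hA, hB, e1, e2⟩ := key (minpoly k (a + b * y))
  rw [minpoly.aeval] at e1
  obtain ⟨hA0, hB0⟩ := rep_unique hx hf hd heq hA hB (zero_mem _) (zero_mem _) (by rw [← e1]; ring)
  rw [hA0, hB0, zero_mul, sub_zero] at e2
  have hz' : IsAlgebraic k (a - b * y) := ⟨_, minpoly.ne_zero hz.isIntegral, e2⟩
  have h2K : (2 : K) ≠ 0 := by
    have := (algebraMap k K).injective.ne h2'
    rwa [map_ofNat, map_zero] at this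
  have hhalf : IsAlgebraic k ((2 : K)⁻¹) := by
    have := isAlgebraic_algebraMap (R := k) (A := K) ((2 : k)⁻¹)
    rwa [map_inv₀, map_ofNat] at this
  have haalg : IsAlgebraic k a := by
    have : a = (a + b * y + (a - b * y)) * (2 : K)⁻¹ := by field_simp; ring
    rw [this]; exact (hz.add hz').mul hhalf
  obtain ⟨ca, hca⟩ := mem_range_of_algebraic hx ha haalg
  have hby : IsAlgebraic k (b * y) := by
    have : b * y = (a + b * y) - a := by ring
    rw [this]; exact hz.sub haalg
  have hb2 : IsAlgebraic k (b ^ 2 * Polynomial.aeval x f) := by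
    rw [← heq, ← mul_pow]; exact hby.pow 2
  obtain ⟨c, hc⟩ := mem_range_of_algebraic hx (mul_mem (pow_mem hb 2) hfx) hb2
  obtain ⟨p, q, hq, hco, he⟩ := exists_coprime_rep x hb hx
  have h3 : p ^ 2 * f = Polynomial.C c * q ^ 2 := aeval_inj hx (by
    rw [map_mul, map_mul, map_pow, map_pow, Polynomial.aeval_C, hc, ← he]; ring)
  rcases eq_or_ne c 0 with rfl | hc0
  · refine ⟨ca, ?_⟩
    have : b = 0 := by
      rw [map_zero, eq_comm, mul_eq_zero, sq, mul_self_eq_zero] at hc
      refine hc.resolve_right fun e => ?_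
      rw [transcendental_iff.1 hx _ e] at hd
      simp at hd
    rw [hca, this, zero_mul, add_zero]
  exfalso
  have hu : IsUnit p := (hco.symm.pow_left (m := 2)).isUnit_of_dvd'
    (dvd_trans (dvd_pow_self p two_ne_zero) ((IsUnit.dvd_mul_left (Polynomial.isUnit_C.2 hc0.isUnit)).1 ⟨f, h3.symm⟩)) dvd_rfl
  obtain ⟨w, hw⟩ := hu.exists_left_inv
  have hf2 : q * w * (q * w) ∣ f := ⟨Polynomial.C c, by
    calc f = (w * p) ^ 2 * f := by rw [hw, one_pow, one_mul]
      _ = w ^ 2 * (p ^ 2 * f) := by ring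
      _ = _ := by rw [h3]; ring⟩
  have hqw := hf _ hf2
  have : f.natDegree = 0 := Polynomial.natDegree_eq_zero_of_isUnit (by
    have hq : IsUnit q := isUnit_of_mul_isUnit_left hqw
    have := congrArg IsUnit h3
    exact (IsUnit.mul_iff.1 (this.symm ▸ ((Polynomial.isUnit_C.2 hc0.isUnit).mul (hq.pow 2)))).2)
  omega

end Groth.Agent.S11019
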