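import Mathlib.FieldTheory.PrimitiveElement
import Mathlib.FieldTheory.Separable
import Mathlib.Algebra.Polynomial.Div
import Mathlib.Tactic.LinearCombination
import Groth.Statements.S11020
import Groth.Agent.FunFldLib.Ext

set_option autoImplicit false
open FunFld

namespace Groth.Agent.S11020
open Groth.Agent.FunFldLib


/-- In a finite separable extension `K'/K` of function fields of one variable, almost all places `Q` of
`K'` have `e(Q|P) = 1` over the place `P` of `K` below. (The published statement also gives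
separability of almost all residue extensions `F_Q/F_P`; only the ramification part is stated here.) -/
theorem result (k K K' : Type*) [Field k] [Field K] [Field K'] [Algebra k K] [Algebra K K'] [Algebra k K']
    [IsScalarTower k K K'] [FiniteDimensional K K'] (hK : FunFld.IsFunctionField k K) [Algebra.IsSeparable K K'] :
    {Q : FunFld.Place k K' | ¬ Function.Surjective (Q.1.comap (algebraMap K K'))}.Finite := by
  classical
  have hK' : IsFF0 k K' := ff0_ext hK.1
  obtain ⟨y, hy⟩ := Field.exists_primitive_element K K'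
  set g := minpoly K y
  have hgm : g.Monic := minpoly.monic (IsIntegral.of_finite K y)
  have hg' : Polynomial.aeval y (Polynomial.derivative g) ≠ 0 :=
    (Algebra.IsSeparable.isSeparable K y).aeval_derivative_ne_zero (minpoly.aeval K y)
  -- places of `K` where a coefficient of `g` has a pole
  let bad : Set (FunFld.Place k K) := ⋃ i ∈ Finset.range (g.natDegree + 1), Function.support fun P : FunFld.Place k K => P.ord (g.coeff i)
  have hbad : bad.Finite := Set.Finite.biUnion (Finset.finite_toSet _) fun i _ => finite_ord_support hK.1 _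
  refine ((hbad.biUnion fun P _ => finite_over_place (K' := K') hK.1 P).union
    (finite_ord_support hK' (Polynomial.aeval y (Polynomial.derivative g)))).subset fun Q hQ => ?_
  by_contra hgood
  rw [Set.mem_union, not_or] at hgood
  obtain ⟨hg1, hg2⟩ := hgood
  rw [Function.mem_support, not_not] at hg2
  obtain ⟨P, e, he, hov⟩ := exists_over hK.1 Q
  have hcoef : ∀ i, P.1 (g.coeff i) ≤ 1 := by
    intro i
    rcases le_or_gt i g.natDegree with hi | hi
    · rcases eq_or_ne (g.coeff i) 0 with h0 | h0
      · simp [h0]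
      rw [v_le_one_iff P h0]
      by_contra hc
      apply hg1
      simp only [Set.mem_iUnion, bad]
      refine ⟨P, ?_, ⟨e, hov⟩⟩
      exact ⟨i, Finset.mem_range.2 (by omega), fun h => by change P.ord (g.coeff i) = 0 at h; omega⟩
    · rw [Polynomial.coeff_eq_zero_of_natDegree_lt hi]; simp
  obtain ⟨t, ht0, ht⟩ := exists_exp P (-1)
  let tO : P.O := ⟨t, by show P.1 t ≤ 1; rw [ht]; simp only [← WithZero.exp_zero, WithZero.exp_le_exp]; omega⟩
  let ι : P.O →+* K' := (algebraMap K K').comp P.O.subtype
  have hι : ∀ c : P.O, Q.1 (ι c) ≤ 1 := fun c => (over_le_iff hov _).2 c.2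
  have hιlt : ∀ c : P.O, P.1 (c : K) < 1 → ∃ d : P.O, c = tO * d := fun c hc => by
    refine ⟨⟨(c : K) / t, ?_⟩, Subtype.ext ?_⟩
    · show P.1 ((c : K) / t) ≤ 1
      rw [map_div₀, div_le_one₀ (zero_lt_iff.2 (v_ne_zero P ht0)), ht]
      exact (lt_one_iff_le _).1 hc
    · show (c : K) = t * ((c : K) / t)
      field_simp
  have htlt : Q.1 (ι tO) < 1 := by
    show Q.1 (algebraMap K K' t) < 1
    rw [hov t, ht]
    exact pow_lt_one₀ zero_le (by simp only [← WithZero.exp_zero, WithZero.exp_lt_exp]; omega) he.ne'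
  let gO : Polynomial P.O := ∑ i ∈ Finset.range (g.natDegree + 1), Polynomial.monomial i (⟨g.coeff i, hcoef i⟩ : P.O)
  have hgO : gO.map P.O.subtype = g := by
    simp only [gO, Polynomial.map_sum, Polynomial.map_monomial]
    exact (Polynomial.as_sum_range' g _ (Nat.lt_succ_self _)).symm
  have hgOm : gO.Monic := Polynomial.monic_of_injective Subtype.val_injective (by rwa [hgO])
  let ev : Polynomial P.O →+* K' := Polynomial.eval₂RingHom ι y
  have hevg : ev gO = 0 := by
    show Polynomial.eval₂ ι y gO = 0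
    rw [← Polynomial.eval₂_map, hgO]
    exact minpoly.aeval K y
  have hevg' : ev (Polynomial.derivative gO) = Polynomial.aeval y (Polynomial.derivative g) := by
    show Polynomial.eval₂ ι y _ = _
    rw [← Polynomial.eval₂_map, ← Polynomial.derivative_map, hgO]
    rfl
  have hy1 : Q.1 y ≤ 1 := by
    by_contra hgt
    push Not at hgt
    have h1 : Q.1 (ev gO) = Q.1 (ι (gO.coeff gO.natDegree) * y ^ gO.natDegree) := by
      show Q.1 (Polynomial.eval₂ ι y gO) = _
      rw [Polynomial.eval₂_eq_sum_range]
      refine Valuation.map_sum_eq_of_lt Q.1 (Finset.self_mem_range_succ _) fun i hi => ?_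
      rw [Finset.mem_sdiff, Finset.mem_range, Finset.mem_singleton] at hi
      rw [hgOm.coeff_natDegree, map_one, one_mul, map_mul, map_pow, map_pow]
      exact (mul_le_of_le_one_left zero_le (hι _)).trans_lt (pow_lt_pow_right₀ hgt (by omega))
    rw [hevg, map_zero, hgOm.coeff_natDegree, map_one, one_mul, map_pow] at h1
    exact (pow_pos (lt_trans zero_lt_one hgt) _).ne h1
  have hev1 : ∀ p, Q.1 (ev p) ≤ 1 := fun p => by
    show Q.1 (Polynomial.eval₂ ι y p) ≤ 1
    rw [Polynomial.eval₂_eq_sum_range]
    refine Valuation.map_sum_le _ fun i _ => ?_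
    rw [map_mul, map_pow]
    exact mul_le_one' (hι _) (pow_le_one₀ zero_le hy1)
  have hg'1 : Q.1 (ev (Polynomial.derivative gO)) = 1 := by
    rw [hevg', v_eq_exp Q hg', hg2, neg_zero, WithZero.exp_zero]
  -- a monic polynomial of least degree vanishing in the residue field
  have hex : ∃ n, ∃ h : Polynomial P.O, h.Monic ∧ Q.1 (ev h) < 1 ∧ h.natDegree = n :=
    ⟨_, gO, hgOm, by rw [hevg, map_zero]; exact zero_lt_one, rfl⟩
  obtain ⟨h, hhm, hh1, hhd⟩ := Nat.find_spec hex
  have hmin : ∀ r : Polynomial P.O, r.degree < h.degree → Q.1 (ev r) < 1 → ∃ r₁, r = Polynomial.C tO * r₁ := by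
    intro r hrd hr
    suffices hc : ∀ i, tO ∣ r.coeff i from (Polynomial.C_dvd_iff_dvd_coeff tO r).2 hc
    intro i
    by_contra hi
    let T := r.support.filter fun j => ¬ tO ∣ r.coeff j
    have hT : T.Nonempty := ⟨i, Finset.mem_filter.2 ⟨Polynomial.mem_support_iff.2 fun e => hi (e ▸ dvd_zero _), hi⟩⟩
    obtain ⟨hjs, hj⟩ := Finset.mem_filter.1 (T.max'_mem hT)
    set j := T.max' hT
    have hu : P.1 (r.coeff j : K) = 1 := by
      refine le_antisymm (r.coeff j).2 ?_
      by_contra hlt'
      obtain ⟨d, hd⟩ := hιlt _ (not_le.1 hlt')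
      exact hj ⟨d, hd⟩
    let uinv : P.O := ⟨((r.coeff j : P.O) : K)⁻¹, by show P.1 _ ≤ 1; rw [map_inv₀, hu, inv_one]⟩
    have huinv : uinv * r.coeff j = 1 := Subtype.ext (by
      show ((r.coeff j : P.O) : K)⁻¹ * ((r.coeff j : P.O) : K) = 1
      exact inv_mul_cancel₀ fun e => by rw [e, map_zero] at hu; exact zero_ne_one hu)
    let r' : Polynomial P.O := ∑ l ∈ Finset.range (j + 1), Polynomial.monomial l (uinv * r.coeff l)
    have hr'c : ∀ l, r'.coeff l = if l ≤ j then uinv * r.coeff l else 0 := fun l => by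
      simp [r', Polynomial.finsetSum_coeff, Polynomial.coeff_monomial, Nat.lt_succ_iff]
    have hr'd : r'.natDegree ≤ j := Polynomial.natDegree_le_iff_coeff_eq_zero.2 fun l hl => by
      rw [hr'c, if_neg (by omega)]
    have hr'm : r'.Monic := Polynomial.monic_of_natDegree_le_of_coeff_eq_one j hr'd (by rw [hr'c, if_pos le_rfl, huinv])
    have hdiff : ∀ l, tO ∣ (Polynomial.C uinv * r - r').coeff l := fun l => by
      rw [Polynomial.coeff_sub, Polynomial.coeff_C_mul, hr'c]
      split_ifs with hl
      · rw [sub_self]; exact dvd_zero _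
      · rw [sub_zero]
        refine dvd_mul_of_dvd_right ?_ _
        by_contra hn
        exact hl (T.le_max' l (Finset.mem_filter.2 ⟨Polynomial.mem_support_iff.2 fun e => hn (e ▸ dvd_zero _), hn⟩))
    obtain ⟨s, hs⟩ := (Polynomial.C_dvd_iff_dvd_coeff tO _).2 hdiff
    have hr'1 : Q.1 (ev r') < 1 := by
      have : r' = Polynomial.C uinv * r - Polynomial.C tO * s := by rw [← hs]; ring
      rw [this, map_sub, map_mul, map_mul]
      refine (Valuation.map_sub _ _ _).trans_lt (max_lt ?_ ?_) <;> rw [map_mul]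
      · exact (mul_le_of_le_one_left zero_le (hev1 _)).trans_lt hr
      · refine (mul_le_of_le_one_right zero_le (hev1 _)).trans_lt ?_
        show Q.1 (Polynomial.eval₂ ι y (Polynomial.C tO)) < 1
        rwa [Polynomial.eval₂_C]
    have hjd : j < h.natDegree := by
      have h1 : (j : WithBot ℕ) ≤ r.degree := Polynomial.le_degree_of_ne_zero (Polynomial.mem_support_iff.1 hjs)
      have h2 := h1.trans_lt hrd
      rw [Polynomial.degree_eq_natDegree hhm.ne_zero] at h2
      exact_mod_cast h2
    exact Nat.find_min hex (show r'.natDegree < Nat.find hex by omega) ⟨r', hr'm, hr'1, rfl⟩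
  have hdivmod : ∀ p : Polynomial P.O, Q.1 (ev p) < 1 → ∃ a r₁, p = h * a + Polynomial.C tO * r₁ := by
    intro p hp
    have e := Polynomial.modByMonic_add_div p h
    obtain ⟨r₁, hr₁⟩ := hmin (p %ₘ h) (Polynomial.degree_modByMonic_lt p hhm) (by
      have : p %ₘ h = p - h * (p /ₘ h) := by linear_combination e
      rw [this, map_sub, map_mul]
      refine (Valuation.map_sub _ _ _).trans_lt (max_lt hp ?_)
      rw [map_mul]
      exact (mul_le_of_le_one_right zero_le (hev1 _)).trans_lt hh1)
    exact ⟨p /ₘ h, r₁, by rw [← hr₁]; linear_combination -e⟩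
  obtain ⟨q, rg, hqr⟩ := hdivmod gO (by rw [hevg, map_zero]; exact zero_lt_one)
  have hevC : ev (Polynomial.C tO) = ι tO := Polynomial.eval₂_C ι y
  have hq1 : Q.1 (ev q) = 1 := by
    refine le_antisymm (hev1 _) ?_
    by_contra hlt'
    push Not at hlt'
    have : Q.1 (ev (Polynomial.derivative gO)) < 1 := by
      rw [hqr, Polynomial.derivative_add, Polynomial.derivative_mul, Polynomial.derivative_C_mul, map_add ev, map_add ev, map_mul ev, map_mul ev, map_mul ev, hevC]
      refine (Valuation.map_add _ _ _).trans_lt (max_lt ((Valuation.map_add _ _ _).trans_lt (max_lt ?_ ?_)) ?_) <;> rw [map_mul]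
      · exact (mul_le_of_le_one_left zero_le (hev1 _)).trans_lt hlt'
      · exact (mul_le_of_le_one_right zero_le (hev1 _)).trans_lt hh1
      · exact (mul_le_of_le_one_right zero_le (hev1 _)).trans_lt htlt
    rw [hg'1] at this
    exact lt_irrefl _ this
  have hev : ev h * ev q + ι tO * ev rg = 0 := by rw [← hevC, ← map_mul, ← map_mul, ← map_add, ← hqr, hevg]
  have hqne : ev q ≠ 0 := fun e0 => by rw [e0, map_zero] at hq1; exact zero_ne_one hq1
  have htord : Q.ord (ι tO) = e := by
    show Q.ord (algebraMap K K' t) = e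
    rw [ord_map hov]
    have : P.ord t = 1 := by rw [v_eq_exp P ht0, WithZero.exp_inj] at ht; omega
    rw [this, mul_one]
  have htne : ι tO ≠ 0 := fun e0 => by rw [e0] at htord; simp [FunFld.Place.ord] at htord; omega
  have hint : ∀ (N : ℕ) (p : Polynomial P.O), Q.ord (ev p) ≤ N → (e : ℤ) ∣ Q.ord (ev p) := by
    intro N
    induction N using Nat.strong_induction_on with
    | _ N ih =>
      intro p hp
      rcases eq_or_ne (ev p) 0 with h0 | h0
      · rw [h0]; simp [FunFld.Place.ord]
      rcases (hev1 p).lt_or_eq with hlt' | heq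
      · obtain ⟨a, r₁, hpe⟩ := hdivmod p hlt'
        have key : ev p * ev q = ι tO * ev (q * r₁ - a * rg) := by
          rw [hpe, map_add, map_mul, map_mul, hevC, map_sub, map_mul, map_mul]
          linear_combination (ev a) * hev
        have h1 : ev (q * r₁ - a * rg) ≠ 0 := fun e0 => by
          rw [e0, mul_zero] at key; exact (mul_ne_zero h0 hqne) key
        have h2 := congrArg Q.ord key
        rw [ord_mul Q h0 hqne, ord_mul Q htne h1, htord,
          show Q.ord (ev q) = 0 by simp [FunFld.Place.ord, hq1], add_zero] at h2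
        have h3 : 0 ≤ Q.ord (ev (q * r₁ - a * rg)) := (v_le_one_iff Q h1).1 (hev1 _)
        rw [h2]
        refine dvd_add dvd_rfl (ih (Q.ord (ev (q * r₁ - a * rg))).toNat ?_ _ (Int.self_le_toNat _))
        omega
      · rw [show Q.ord (ev p) = 0 by simp [FunFld.Place.ord, heq]]
        exact dvd_zero _
  obtain ⟨z, hz0, hz⟩ := exists_exp Q (-1)
  have hzmem : z ∈ Algebra.adjoin K ({y} : Set K') := by
    rw [← IntermediateField.adjoin_simple_toSubalgebra_of_isAlgebraic (IsIntegral.of_finite K y).isAlgebraic, hy]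
    trivial
  rw [Algebra.adjoin_singleton_eq_range_aeval] at hzmem
  obtain ⟨p, hp⟩ := hzmem
  obtain ⟨N, hN⟩ : ∃ N : ℕ, ∀ i ∈ Finset.range (p.natDegree + 1), -(P.ord (p.coeff i)) ≤ N :=
    ⟨(Finset.range (p.natDegree + 1)).sup fun i => (-(P.ord (p.coeff i))).toNat, fun i hi =>
      (Int.self_le_toNat _).trans (Int.ofNat_le.2 (Finset.le_sup (f := fun i => (-(P.ord (p.coeff i))).toNat) hi))⟩
  have hc : ∀ i ∈ Finset.range (p.natDegree + 1), P.1 (t ^ N * p.coeff i) ≤ 1 := fun i hi => by
    rcases eq_or_ne (p.coeff i) 0 with h0 | h0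
    · simp [h0]
    rw [map_mul, map_pow, ht, v_eq_exp P h0, ← WithZero.exp_nsmul, ← WithZero.exp_add]
    simp only [← WithZero.exp_zero, WithZero.exp_le_exp]
    have := hN i hi
    simp
    omega
  let pO : Polynomial P.O := ∑ i ∈ (Finset.range (p.natDegree + 1)).attach,
    Polynomial.monomial i.1 (⟨t ^ N * p.coeff i, hc i i.2⟩ : P.O)
  have hpO : ev pO = (ι tO) ^ N * z := by
    have hp' : Polynomial.aeval y p = z := hp
    rw [← hp', Polynomial.aeval_eq_sum_range, Finset.mul_sum, ← Finset.sum_attach (Finset.range (p.natDegree + 1))]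
    show Polynomial.eval₂ ι y pO = _
    simp only [pO, Polynomial.eval₂_finsetSum, Polynomial.eval₂_monomial]
    refine Finset.sum_congr rfl fun i _ => ?_
    show algebraMap K K' (t ^ N * p.coeff i) * y ^ (i : ℕ) = algebraMap K K' t ^ N * (p.coeff i • y ^ (i : ℕ))
    rw [Algebra.smul_def, map_mul, map_pow]; ring
  have h4 := hint (Q.ord (ev pO)).toNat pO (Int.self_le_toNat _)
  have hzord : Q.ord z = 1 := by rw [v_eq_exp Q hz0, WithZero.exp_inj] at hz; omega
  rw [hpO, ord_mul Q (pow_ne_zero _ htne) hz0, ord_pow Q htne, htord, hzord] at h4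
  have he1 : e = 1 := by
    have := (dvd_add_right (dvd_mul_left (e : ℤ) (N : ℤ))).1 h4
    exact_mod_cast Int.eq_one_of_dvd_one (Int.natCast_nonneg e) this
  apply hQ
  intro v
  obtain ⟨x, hx⟩ := P.2.2 v
  exact ⟨x, by show Q.1 (algebraMap K K' x) = v; rw [hov x, he1, pow_one, hx]⟩

end Groth.Agent.S11020
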