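import Groth.Statements.S11028
import Groth.Agent.FunFldLib.Quad.Local
import Groth.Agent.FunFldLib.Quad.Poles
import Groth.Agent.FunFldLib.Gal.Expand

set_option autoImplicit false
open FunFld

namespace Groth.Agent.S11028

/-- For `k` perfect of characteristic `2` and `K = k(x, y)` with `y² + y = f(x)`, all poles of `f` of
odd order `2d_i - 1` at places `p_i` of `k(x)`, the genus of `K` is `-1 + ∑ d_i deg p_i`. -/
theorem result (k K : Type*) [Field k] [Field K] [PerfectField k] (h2 : ringChar k = 2) [Algebra k K]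
    [Algebra (RatFunc k) K] [IsScalarTower k (RatFunc k) K] (hK : FunFld.IsFunctionField k K)
    (hdeg : Module.finrank (RatFunc k) K = 2) (y : K) (hy : y ∉ Set.range (algebraMap (RatFunc k) K))
    (f : RatFunc k) (heq : y ^ 2 + y = algebraMap (RatFunc k) K f)
    (hodd : ∀ P : FunFld.Place k (RatFunc k), FunFld.div k f P < 0 → Odd (FunFld.div k f P)) :
    (FunFld.genus k K : ℤ) = -1 + ∑ P ∈ (FunFld.div k f).support with FunFld.div k f P < 0,
      (1 - FunFld.div k f P) / 2 * (P.deg : ℤ) := by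
  classical
  open Groth.Agent.FunFldLib Groth.Agent.FunFldLib.Quad in
  have : FiniteDimensional (RatFunc k) K := finite_K hdeg
  have hK0 := Groth.Agent.FunFldLib.Quad.ff0_rat (k := k)
  have : CharP k 2 := h2 ▸ ringChar.charP k
  have : CharP K 2 := charP_of_injective_algebraMap (algebraMap k K).injective 2
  have : Algebra.IsSeparable (RatFunc k) K := by
    open Groth.Agent.FunFldLib.Quad in
    refine separable_of_as hdeg hy heq
  have hsep : ∀ P : FunFld.Place k K, Algebra.IsSeparable k (IsLocalRing.ResidueField P.O) := fun P => by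
    have hfd : FiniteDimensional k (IsLocalRing.ResidueField P.O) :=
      Module.finite_of_finrank_pos (Groth.Agent.FunFldLib.deg_pos hK.1 P)
    have hfd' : @Module.Finite k (IsLocalRing.ResidueField P.O) _ _ Algebra.toModule := hfd
    have : Algebra.IsAlgebraic k (IsLocalRing.ResidueField P.O) := @Algebra.IsAlgebraic.of_finite k _ _ _ _ _ hfd'
    exact Algebra.IsAlgebraic.isSeparable_of_perfectField
  choose φ hφ using fun P : FunFld.Place k K => @Groth.Agent.FunFldLib.Gal.exists_expansion_separable k K _ _ _ P hK.1 (hsep P)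
  have hfd : ∀ P : FunFld.Place k K, FiniteDimensional k (IsLocalRing.ResidueField P.O) := fun P =>
    Module.finite_of_finrank_pos (Groth.Agent.FunFldLib.deg_pos hK.1 P)
  have : ∀ P : FunFld.Place k K, @Module.Finite k (IsLocalRing.ResidueField P.O) _ _ Algebra.toModule := hfd
  obtain ⟨Pinf, hinf⟩ := Groth.Agent.FunFldLib.Quad.exists_inf (k := k)
  obtain ⟨hX, hdeg1, honly⟩ := Groth.Agent.FunFldLib.Quad.infinite_place Pinf hinf
  have hdv : ∀ p : FunFld.Place k (RatFunc k), FunFld.div k f p = p.ord f := fun p => Groth.Agent.FunFldLib.div_apply hK0 f p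
  have hiff : ∀ p : FunFld.Place k (RatFunc k), 1 < p.1 f ↔ FunFld.div k f p < 0 := fun p => by
    rw [hdv]
    rcases eq_or_ne f 0 with rfl | h0
    · simp [FunFld.Place.ord]
    · rw [Groth.Agent.FunFldLib.v_eq_exp p h0, ← WithZero.exp_zero, WithZero.exp_lt_exp]; omega
  obtain ⟨q, hq0, hq, hqd⟩ := Groth.Agent.FunFldLib.Quad.exists_q Pinf hinf f
    (fun p hp => by rw [← hdv]; exact hodd p ((hiff p).1 hp))
  have hq' : algebraMap (RatFunc k) K (algebraMap (Polynomial k) (RatFunc k) q) ≠ 0 :=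
    (map_ne_zero _).2 (RatFunc.algebraMap_ne_zero hq0)
  obtain ⟨hgen, -, -⟩ := Groth.Agent.FunFldLib.Quad.regular_basis hK Groth.Agent.FunFldLib.Quad.sep_K hdeg φ hφ Pinf hinf hq' _
    (fun P => Groth.Agent.FunFldLib.Quad.as_local h2 hdeg hy heq (fun p hp => by rw [← hdv]; exact hodd p ((hiff p).1 hp)) hq0 hq Pinf hinf (hφ P))
  rw [hgen, hqd]
  set S := (FunFld.div k f).support.filter fun p => FunFld.div k f p < 0 with hS
  have hterm : (∑ p ∈ S, (1 - FunFld.div k f p) / 2 * (p.deg : ℤ)) =
      ∑ p ∈ S, (1 - p.ord f) / 2 * (p.deg : ℤ) := Finset.sum_congr rfl fun p _ => by rw [hdv]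
  rw [hterm]
  have hmem : ∀ p : FunFld.Place k (RatFunc k), p ∈ S ↔ 1 < p.1 f := fun p => by
    rw [hS, Finset.mem_filter, hiff, Finsupp.mem_support_iff]
    exact ⟨fun h => h.2, fun h => ⟨h.ne, h⟩⟩
  rw [show (Groth.Agent.FunFldLib.Quad.poles (k := k) f).filter (fun p => p ≠ Pinf) = S.erase Pinf by
    ext p; rw [Finset.mem_filter, Finset.mem_erase, hmem, Groth.Agent.FunFldLib.Quad.mem_poles]; tauto]
  by_cases hP : 1 < Pinf.1 f
  · rw [if_pos hP, ← Finset.add_sum_erase S _ ((hmem Pinf).2 hP), hdeg1]; push_cast; ring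
  · rw [if_neg hP, Finset.erase_eq_of_notMem fun h => hP ((hmem Pinf).1 h)]; ring

end Groth.Agent.S11028
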