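import Groth.Statements.S11034
import Groth.Agent.FunFldLib.Quad.Normal

set_option autoImplicit false
open FunFld

namespace Groth.Agent.S11034

/-- For `char k ≠ 2` and `K = k(x, y)`, `y² = f(x)` with `f` squarefree, each irreducible factor `p` of
`f` has a unique place `P` of `K` above it, with `e(P|p) = 2`, `f(P|p) = 1` and `deg P = deg p`. The
zero divisor of `y` and the behaviour above the infinite place of `k(x)` are not stated. -/
theorem result (k K : Type*) [Field k] [Field K] (h2 : ringChar k ≠ 2) [Algebra k K]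
    [Algebra (RatFunc k) K] [IsScalarTower k (RatFunc k) K]
    (hdeg : Module.finrank (RatFunc k) K = 2) (y : K) (f : Polynomial k) (hf : Squarefree f)
    (hd : 1 ≤ f.natDegree)
    (heq : y ^ 2 = algebraMap (RatFunc k) K (algebraMap (Polynomial k) (RatFunc k) f))
    (p : Polynomial k) (hp : Irreducible p) (hpf : p ∣ f)
    (P₀ : FunFld.Place k (RatFunc k)) (hP₀ : P₀.1 (algebraMap (Polynomial k) (RatFunc k) p) < 1) :
    (∃! P : FunFld.Place k K, FunFld.IsOver P P₀) ∧
    ∀ P : FunFld.Place k K, FunFld.IsOver P P₀ → FunFld.IsOverWith P P₀ 2 ∧ P.deg = P₀.deg := by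
  classical
  have hK := Groth.Agent.FunFldLib.Quad.ff0_rat (k := k)
  have : FiniteDimensional (RatFunc k) K := Module.finite_of_finrank_pos (by omega)
  open Groth.Agent.FunFldLib.Quad in
  have hp' : P₀.1 (Polynomial.aeval (RatFunc.X : RatFunc k) p) < 1 := by rw [aeval_X_eq]; exact hP₀
  open Groth.Agent.FunFldLib.Quad in
  have hfin := x_le_one_of_lt P₀ hp.ne_zero hp'
  set F := algebraMap (Polynomial k) (RatFunc k) f with hF
  have hfv : P₀.1 F = WithZero.exp (-1) := by
    rw [hF, ← Groth.Agent.FunFldLib.Quad.aeval_X_eq]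
    refine (Groth.Agent.FunFldLib.Quad.v_squarefree P₀ hfin hf).resolve_left fun h => ?_
    obtain ⟨g, rfl⟩ := hpf
    rw [map_mul, map_mul] at h
    exact ((mul_le_of_le_one_right' (Groth.Agent.FunFldLib.Quad.aeval_le_one P₀ hfin g)).trans_lt hp').ne h
  have hodd : Odd (P₀.ord F) := by rw [FunFld.Place.ord, hfv, WithZero.log_exp, neg_neg]; exact odd_one
  have key : ∀ (P : FunFld.Place k K) (e : ℕ), FunFld.IsOverWith P P₀ e →
      e = 2 ∧ P.deg = P₀.deg ∧ ∀ R : FunFld.Place k K, FunFld.IsOver R P₀ → R = P := fun P e he => by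
    refine Groth.Agent.FunFldLib.Quad.ram_of_odd hK hdeg he hodd (w := y) ?_
    have hy0 : y ≠ 0 := fun h => Groth.Agent.FunFldLib.Quad.not_mem_range hf hd heq ⟨0, by rw [h, map_zero]⟩
    rw [← Groth.Agent.FunFldLib.ord_map he, hF, ← heq, Groth.Agent.FunFldLib.ord_pow P hy0]
    norm_num
  obtain ⟨P, e, he⟩ := Groth.Agent.FunFldLib.Quad.exists_above (K' := K) hK P₀
  exact ⟨⟨P, ⟨e, he⟩, fun R hR => (key P e he).2.2 R hR⟩, fun R ⟨e', he'⟩ => by
    obtain ⟨rfl, h, -⟩ := key R e' he'
    exact ⟨he', h⟩⟩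

end Groth.Agent.S11034
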