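import Groth.Statements.S11044
import Groth.Agent.FunFldLib.Order

set_option autoImplicit false
open FunFld

namespace Groth.Agent.S11044
open Groth.Agent.FunFldLib


/-- Over an algebraically closed constant field, if the genus `g` is positive and `D` has degree at
least `2g` or is canonical, then `ℓ(D - P) < ℓ(D)` for every place `P`; that is, `D` is the divisor
of the projective map given by `L(D)`. -/
theorem result
    (k K : Type*) [Field k] [IsAlgClosed k] [Field K] [Algebra k K]
    (hK : FunFld.IsFunctionField k K) (hg : 0 < FunFld.genus k K)
    (D : FunFld.Divisor k K)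
    (hD : 2 * (FunFld.genus k K : ℤ) ≤ D.deg ∨ FunFld.IsCanonical k K D) (P : FunFld.Place k K) :
    FunFld.ell (D - Finsupp.single P 1) < FunFld.ell D := by
  classical
  have h1 : ∀ R : FunFld.Place k K, R.deg = 1 := deg_eq_one hK
  have := finite_L hK D
  rcases hD with hD | hD
  · have a := ell_eq_of_large hK (D := D) (by omega)
    have b := ell_eq_of_large hK (D := D - Finsupp.single P 1) (by
      rw [deg_sub, deg_single, h1]; push_cast; omega)
    rw [deg_sub, deg_single, h1] at b
    push_cast at b
    omega
  · have a := riemann_roch hK hD (Finsupp.single P 1)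
    have b := ell_mono hK (Finsupp.single_nonneg.2 zero_le_one : (0 : FunFld.Divisor k K) ≤ Finsupp.single P 1)
    have c := ell_le_one_of_deg_one hK hg h1 (D := Finsupp.single P 1) (by rw [deg_single, h1]; simp)
    rw [ell_zero hK] at b
    rw [deg_single, h1] at a
    have d := (deg_canonical hK hD).1
    push_cast at a
    omega

end Groth.Agent.S11044
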