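import Groth.Statements.S11045
import Groth.Agent.FunFldLib.Order

set_option autoImplicit false
open FunFld

namespace Groth.Agent.S11045
open Groth.Agent.FunFldLib


/-- Over an algebraically closed constant field, if `n ≥ 1` is a gap number at the place `P` (no
function has a pole of exact order `n` at `P` and no other pole, i.e. `L(nP) = L((n-1)P)`), then the
gap numbers at `P` make up at least half of the positive integers below `n`. -/
theorem result
    (k K : Type*) [Field k] [IsAlgClosed k] [Field K] [Algebra k K]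
    (hK : FunFld.IsFunctionField k K) (P : FunFld.Place k K) (n : ℕ) (hn : 1 ≤ n)
    (hgap : FunFld.L (Finsupp.single P (n : ℤ)) = FunFld.L (Finsupp.single P ((n : ℤ) - 1))) :
    n - 1 ≤ 2 * Set.ncard {m : ℕ | 1 ≤ m ∧ m < n ∧
      FunFld.L (Finsupp.single P (m : ℤ)) = FunFld.L (Finsupp.single P ((m : ℤ) - 1))} := by
  classical
  have h1 : ∀ R : FunFld.Place k K, R.deg = 1 := deg_eq_one hK
  let gap : ℕ → Prop := fun m => FunFld.L (Finsupp.single P (m : ℤ)) = FunFld.L (Finsupp.single P ((m : ℤ) - 1))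
  have wit : ∀ m : ℕ, ¬ gap m → ∃ f : K, f ∈ FunFld.L (Finsupp.single P (m : ℤ)) ∧ f ≠ 0 ∧ P.ord f = -m := by
    intro m hm
    have hle : ¬ FunFld.L (Finsupp.single P (m : ℤ)) ≤ FunFld.L (Finsupp.single P ((m : ℤ) - 1)) :=
      fun h => hm (le_antisymm h (L_mono (Finsupp.single_le_single.2 (by omega))))
    obtain ⟨f, hf, hf'⟩ := SetLike.not_le_iff_exists.1 hle
    have hf0 : f ≠ 0 := fun e => hf' (e ▸ zero_mem _)
    refine ⟨f, hf, hf0, ?_⟩
    have h2 : -(m : ℤ) ≤ P.ord f := (v_le_exp_iff P hf0 _).1 (by simpa using hf P)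
    by_contra hne
    apply hf'
    intro Q
    rcases eq_or_ne Q P with rfl | hQ
    · rw [v_le_exp_iff Q hf0, Finsupp.single_eq_same]; omega
    · simpa [Finsupp.single_eq_of_ne hQ] using hf Q
  have key : ∀ m, m ≤ n → ¬ gap m → gap (n - m) := by
    intro m hm hg1
    by_contra hg2
    obtain ⟨f, hf, hf0, hfo⟩ := wit m hg1
    obtain ⟨g, hg, hg0, hgo⟩ := wit (n - m) hg2
    have hfg : f * g ∈ FunFld.L (Finsupp.single P (n : ℤ)) := fun Q => by
      rw [map_mul]
      refine (mul_le_mul' (hf Q) (hg Q)).trans_eq ?_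
      rw [← WithZero.exp_add, ← Finsupp.add_apply, ← Finsupp.single_add]
      congr 2
      push_cast [hm]; ring_nf
    rw [hgap] at hfg
    have := (v_le_exp_iff P (mul_ne_zero hf0 hg0) _).1 (hfg P)
    rw [ord_mul P hf0 hg0, hfo, hgo, Finsupp.single_eq_same] at this
    push_cast [hm] at this
    omega
  let G := (Finset.Ico 1 n).filter gap
  let N := (Finset.Ico 1 n).filter fun m => ¬ gap m
  have hc : G.card + N.card = n - 1 := by
    rw [Finset.card_filter_add_card_filter_not, Nat.card_Ico]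
  have hinj : N.card ≤ G.card := Finset.card_le_card_of_injOn (fun m => n - m) (fun m hm => by
    obtain ⟨hm1, hm2⟩ := Finset.mem_filter.1 hm
    rw [Finset.mem_Ico] at hm1
    exact Finset.mem_filter.2 ⟨Finset.mem_Ico.2 (show 1 ≤ n - m ∧ n - m < n by omega), key m hm1.2.le hm2⟩)
    (fun a ha b hb e => by
      have ha' := Finset.mem_Ico.1 (Finset.mem_filter.1 ha).1
      have hb' := Finset.mem_Ico.1 (Finset.mem_filter.1 hb).1
      simp only at e; omega)
  have hs : {m : ℕ | 1 ≤ m ∧ m < n ∧ gap m} = ↑G := by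
    ext m; simp [G, and_assoc]
  show n - 1 ≤ 2 * Set.ncard {m : ℕ | 1 ≤ m ∧ m < n ∧ gap m}
  rw [hs, Set.ncard_coe_finset]
  omega

end Groth.Agent.S11045
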