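import Groth.Statements.S11047
import Groth.Agent.FunFldLib.Order

set_option autoImplicit false
open FunFld

namespace Groth.Agent.S11047
open Groth.Agent.FunFldLib


/-- Over an algebraically closed constant field, a `k`-automorphism of a function field of one variable
of genus `g` that fixes more than `2g + 2` places is the identity. -/
theorem result
    (k K : Type*) [Field k] [IsAlgClosed k] [Field K] [Algebra k K]
    (hK : FunFld.IsFunctionField k K) (σ : K ≃ₐ[k] K)
    (h : ((2 * FunFld.genus k K + 2 : ℕ) : ℕ∞) <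
      Set.encard {P : FunFld.Place k K | ∀ x : K, P.1 x < 1 → P.1 (σ x) < 1}) :
    σ = 1 := by
  classical
  have h1 : ∀ R : FunFld.Place k K, R.deg = 1 := deg_eq_one hK
  set g := FunFld.genus k K
  let Fix := {P : FunFld.Place k K | ∀ x : K, P.1 x < 1 → P.1 (σ x) < 1}
  obtain ⟨Q, hQ⟩ : Fix.Nonempty := by
    by_contra hc
    rw [Set.not_nonempty_iff_eq_empty] at hc
    simp [Fix, hc] at h
  let pl : FunFld.Place k K → FunFld.Place k K := fun R => ⟨R.1.comap (σ : K →+* K), fun c => by
    show R.1 (σ (algebraMap k K c)) ≤ 1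
    rw [σ.commutes]; exact R.2.1 c, fun y => by
    obtain ⟨z, hz⟩ := R.2.2 y
    exact ⟨σ.symm z, by show R.1 (σ (σ.symm z)) = y; rw [σ.apply_symm_apply, hz]⟩⟩
  have hfix : ∀ R ∈ Fix, pl R = R := fun R hR => by
    refine ext_of_le (pl R) R fun x hx => ?_
    by_contra hgt
    push Not at hgt
    have h2 := hR x⁻¹ (by rw [map_inv₀]; exact inv_lt_one_of_one_lt₀ hgt)
    rw [map_inv₀, map_inv₀] at h2
    have h3 : R.1 (σ x) ≤ 1 := hx
    rcases eq_or_ne (σ x) 0 with h0 | h0
    · rw [show x = 0 from σ.injective (by rw [h0, map_zero]), map_zero] at hgt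
      exact not_lt_zero hgt
    · exact absurd ((inv_lt_one₀ (zero_lt_iff.2 (v_ne_zero R h0))).1 h2) (not_lt.2 h3)
  have hinv : ∀ R, pl R = Q → R = Q := fun R hR => ext_of_le R Q fun x hx => by
    have h2 : (pl R).1 (σ.symm x) ≤ 1 := by
      show R.1 (σ (σ.symm x)) ≤ 1
      rwa [σ.apply_symm_apply]
    rw [hR, ← hfix Q hQ] at h2
    change Q.1 (σ (σ.symm x)) ≤ 1 at h2
    rwa [σ.apply_symm_apply] at h2
  obtain ⟨S, hS, hSc⟩ : ∃ S : Finset (FunFld.Place k K), ↑S ⊆ Fix ∧ S.card = 2 * g + 3 := by
    obtain ⟨T, hT, hTc⟩ := Set.exists_subset_encard_eq (s := Fix) (k := ((2 * g + 3 : ℕ) : ℕ∞)) (by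
      have := Order.add_one_le_of_lt h
      exact_mod_cast this)
    have hfin : T.Finite := Set.finite_of_encard_eq_coe hTc
    refine ⟨hfin.toFinset, by simpa using hT, ?_⟩
    rw [hfin.encard_eq_coe_toFinset_card] at hTc
    exact_mod_cast hTc
  have main : ∀ (m : ℕ), m ≤ 2 * g + 1 → ∀ z : K, z ∈ FunFld.L (Finsupp.single Q (m : ℤ)) → σ z = z := by
    intro m hm z hz
    by_contra hne
    have hy : σ z - z ≠ 0 := sub_ne_zero.2 hne
    let D : FunFld.Divisor k K := Finsupp.single Q (m : ℤ) - ∑ R ∈ S.erase Q, Finsupp.single R 1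
    have hσz : ∀ R, R.1 (σ z) ≤ WithZero.exp (Finsupp.single Q (m : ℤ) R) := fun R => by
      rcases eq_or_ne R Q with rfl | hR
      · show (pl R).1 z ≤ _
        rw [hfix R hQ]; exact hz R
      · show (pl R).1 z ≤ _
        have := hz (pl R)
        rw [Finsupp.single_eq_of_ne (fun e => hR (hinv R e))] at this
        rwa [Finsupp.single_eq_of_ne hR]
    have hD : σ z - z ∈ FunFld.L D := fun R => by
      have hsum : (∑ R' ∈ S.erase Q, Finsupp.single R' (1 : ℤ) : FunFld.Divisor k K) R = if R ∈ S.erase Q then 1 else 0 := by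
        rw [Finsupp.finsetSum_apply]
        simp [Finsupp.single_apply]
      simp only [D, Finsupp.sub_apply, hsum]
      split_ifs with hR
      · obtain ⟨hRQ, hRS⟩ := Finset.mem_erase.1 hR
        rw [Finsupp.single_eq_of_ne hRQ]
        have := finite_residue hK R
        have hzR : R.1 z ≤ 1 := by simpa [Finsupp.single_eq_of_ne hRQ] using hz R
        obtain ⟨c, hc⟩ : ∃ c : k, algebraMap k (IsLocalRing.ResidueField R.O) c = IsLocalRing.residue R.O ⟨z, hzR⟩ := by
          have : Algebra.IsIntegral k (IsLocalRing.ResidueField R.O) := @Algebra.IsIntegral.of_finite k (IsLocalRing.ResidueField R.O) _ _ _ this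
          exact (IsAlgClosed.algebraMap_bijective_of_isIntegral (k := k) (K := IsLocalRing.ResidueField R.O)).2 _
        have hzc : R.1 (z - algebraMap k K c) < 1 := by
          refine (residue_eq_zero (⟨z, hzR⟩ - algebraMap k R.O c)).1 ?_
          rw [map_sub, ← hc]; exact sub_self _
        have hσ := hS hRS _ hzc
        rw [map_sub, AlgEquiv.commutes] at hσ
        rw [show σ z - z = (σ z - algebraMap k K c) - (z - algebraMap k K c) by ring]
        rw [zero_sub, ← lt_one_iff_le]
        exact (Valuation.map_sub _ _ _).trans_lt (max_lt hσ hzc)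
      · rw [sub_zero]
        exact (Valuation.map_sub _ _ _).trans (max_le (hσz R) (hz R))
    have hdeg : D.deg < 0 := by
      have h2 : ∀ T : Finset (FunFld.Place k K), (∑ R ∈ T, Finsupp.single R (1 : ℤ) : FunFld.Divisor k K).deg = T.card := fun T => by
        induction T using Finset.induction with
        | empty => simp [deg_zero]
        | insert a T ha ih => rw [Finset.sum_insert ha, deg_add, deg_single, h1, ih, Finset.card_insert_of_notMem ha]; push_cast; ring
      simp only [D, deg_sub, deg_single, h1, h2]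
      have := Finset.pred_card_le_card_erase (s := S) (a := Q)
      push_cast; omega
    rw [L_eq_bot_of_deg_neg hK hdeg, Submodule.mem_bot] at hD
    exact hy hD
  let F : IntermediateField k K :=
    { AlgHom.equalizer (σ : K →ₐ[k] K) (AlgHom.id k K) with
      inv_mem' := fun x (hx : σ x = x) => by
        show σ x⁻¹ = x⁻¹
        rw [map_inv₀, hx] }
  have dvd : ∀ m : ℕ, 2 * g ≤ m → m ≤ 2 * g + 1 → 0 < m → Module.finrank F K ∣ m := by
    intro m hm1 hm2 hm0
    have a := ell_eq_of_large hK (D := Finsupp.single Q (m : ℤ)) (by rw [deg_single, h1]; push_cast; omega)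
    have b := ell_eq_of_large hK (D := Finsupp.single Q ((m : ℤ) - 1)) (by rw [deg_single, h1]; push_cast; omega)
    rw [deg_single, h1] at a b
    push_cast at a b
    have hle : ¬ FunFld.L (Finsupp.single Q (m : ℤ)) ≤ FunFld.L (Finsupp.single Q ((m : ℤ) - 1)) := fun hle => by
      have := finite_L hK (Finsupp.single Q ((m : ℤ) - 1))
      have h3 : FunFld.ell (Finsupp.single Q (m : ℤ)) ≤ FunFld.ell (Finsupp.single Q ((m : ℤ) - 1)) :=
        Submodule.finrank_mono hle
      omega
    obtain ⟨f, hf, hf'⟩ := SetLike.not_le_iff_exists.1 hle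
    have hf0 : f ≠ 0 := fun e => hf' (e ▸ zero_mem _)
    have hQn : ∀ R, R ≠ Q → 0 ≤ R.ord f := fun R hR =>
      (v_le_one_iff R hf0).1 (by simpa [Finsupp.single_eq_of_ne hR] using hf R)
    have hord : Q.ord f = -m := by
      have h2 : -(m : ℤ) ≤ Q.ord f := (v_le_exp_iff Q hf0 _).1 (by simpa using hf Q)
      by_contra hne
      apply hf'
      intro R
      rcases eq_or_ne R Q with rfl | hR
      · rw [v_le_exp_iff R hf0, Finsupp.single_eq_same]; omega
      · simpa [Finsupp.single_eq_of_ne hR] using hf R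
    rw [← degX_eq_of_pole hK hm0 (h1 Q) hord hQn]
    have hle : IntermediateField.adjoin k ({f} : Set K) ≤ F := by
      rw [IntermediateField.adjoin_le_iff, Set.singleton_subset_iff]
      exact main m hm2 f hf
    exact IntermediateField.finrank_dvd_of_le_left hle
  have hF : Module.finrank F K = 1 := by
    have d1 := dvd (2 * g + 1) (by omega) le_rfl (by omega)
    rcases Nat.eq_zero_or_pos g with hg | hg
    · rw [hg] at d1; exact Nat.dvd_one.1 (by simpa using d1)
    · have d2 := dvd (2 * g) le_rfl (by omega) (by omega)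
      exact Nat.dvd_one.1 ((Nat.dvd_add_right d2).1 d1)
  ext x
  have hx : x ∈ F := by rw [IntermediateField.finrank_eq_one_iff_eq_top.1 hF]; trivial
  exact hx

end Groth.Agent.S11047
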