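import Groth.Statements.S11055
import Groth.Agent.FunFldLib.Proj.Image
import Groth.Agent.FunFldLib.Hasse.Weier

set_option autoImplicit false
open FunFld

namespace Groth.Agent.S11055

/-- Over an algebraically closed constant field, a projective map `φ = (φ₀, …, φₙ)`, `n ≥ 1`, with span
`W` and divisor `[φ]` is nonsingular at the place `P` if and only if `W ∩ L([φ] - P - Q)` has
codimension `2` in `W` for every place `Q`. Here a projective map is nonsingular at a place when its
local ring there (quotients of polynomials over `k` in the ratios `φᵢ/φⱼ`, `φⱼ` of least order at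
the place, with denominator a unit there) is the whole valuation ring. (The published statement is
for any projective map; the published proof uses the finiteness property of the local ring that is
established for birational maps, so `φ` is taken birational here: the ratios `φᵢ/φ₀` generate `K`
over `k`.) -/
theorem result
    (k K : Type*) [Field k] [IsAlgClosed k] [Field K] [Algebra k K]
    (hK : FunFld.IsFunctionField k K) {n : ℕ} (hn : 1 ≤ n)
    (φ : Fin (n + 1) → K) (hφ : LinearIndependent k φ)
    (hbir : IntermediateField.adjoin k (Set.range fun i => φ i / φ 0) = ⊤) (P : FunFld.Place k K) :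
    FunFld.IsNonsingularAt φ P ↔ ∀ Q : FunFld.Place k K,
      Module.finrank k ↥(Submodule.span k (Set.range φ) ⊓
          FunFld.L (FunFld.mapDiv k φ - Finsupp.single P 1 - Finsupp.single Q 1)) + 2 =
        Module.finrank k ↥(Submodule.span k (Set.range φ)) := by
  classical
  open Groth.Agent.FunFldLib in
  set D := FunFld.mapDiv k φ with hD
  set W := Submodule.span k (Set.range φ) with hW
  have hne : ∀ i, φ i ≠ 0 := fun i => hφ.ne_zero i
  have hspec := mapDiv_spec hK φ hne
  have hWL : W ≤ FunFld.L D := Submodule.span_le.2 (Set.range_subset_iff.2 fun i R => (hspec R).1 i)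
  obtain ⟨j, hj0, hj⟩ := Proj.exists_max φ P ⟨0, hne 0⟩
  have hexp : P.1 (φ j) = WithZero.exp (D P) := by
    obtain ⟨h1, i, hi⟩ := hspec P
    exact le_antisymm (h1 j) (hi ▸ hj i)
  have : FiniteDimensional k W := FiniteDimensional.span_of_finite k (Set.finite_range φ)
  have hdeg := deg_eq_one hK
  have hH : ∀ v ∈ W, (v ∈ FunFld.L (D - Finsupp.single P 1) ↔ P.1 (v / φ j) < 1) := by
    intro v hv
    have key : P.1 (v / φ j) < 1 ↔ P.1 v ≤ WithZero.exp (D P - 1) := by
      rw [map_div₀, hexp, div_lt_one₀ WithZero.exp_pos, lt_exp_iff]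
    rw [key]
    refine ⟨fun h => by simpa using h P, fun h R => ?_⟩
    rcases eq_or_ne R P with rfl | hR
    · simpa using h
    · simpa [Finsupp.single_eq_of_ne hR] using hWL hv R
  have hjW : φ j ∈ W := Submodule.subset_span ⟨j, rfl⟩
  have hjH : φ j ∉ FunFld.L (D - Finsupp.single P 1) := by
    rw [hH _ hjW, div_self hj0, map_one]; exact lt_irrefl _
  have hiff : ∀ Q : FunFld.Place k K,
      (Module.finrank k ↥(W ⊓ FunFld.L (D - Finsupp.single P 1 - Finsupp.single Q 1)) + 2 = Module.finrank k ↥W) ↔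
        ∃ v ∈ W, v ∈ FunFld.L (D - Finsupp.single P 1) ∧ v ∉ FunFld.L (D - Finsupp.single P 1 - Finsupp.single Q 1) := by
    intro Q
    have h1 := finrank_inf_L_drop hK W D (hdeg P)
    rw [inf_eq_left.2 hWL] at h1
    have h2 := finrank_inf_L_drop hK W (D - Finsupp.single P 1) (hdeg Q)
    have h3 : Module.finrank k ↥(W ⊓ FunFld.L (D - Finsupp.single P 1)) < Module.finrank k W :=
      Submodule.finrank_lt_finrank_of_lt (lt_of_le_of_ne inf_le_left fun h => hjH (h.ge hjW).2)
    have hle : W ⊓ FunFld.L (D - Finsupp.single P 1 - Finsupp.single Q 1) ≤ W ⊓ FunFld.L (D - Finsupp.single P 1) :=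
      inf_le_inf_left _ (L_mono (sub_le_self _ (Finsupp.single_nonneg.2 zero_le_one)))
    have : FiniteDimensional k ↥(W ⊓ FunFld.L (D - Finsupp.single P 1)) := Submodule.finiteDimensional_of_le inf_le_left
    constructor
    · intro h
      by_contra hcon
      push Not at hcon
      have := Submodule.finrank_mono (show W ⊓ FunFld.L (D - Finsupp.single P 1) ≤
        W ⊓ FunFld.L (D - Finsupp.single P 1 - Finsupp.single Q 1) from fun v hv => ⟨hv.1, hcon v hv.1 hv.2⟩)
      omega
    · rintro ⟨v, hv, hv1, hv2⟩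
      have := Submodule.finrank_lt_finrank_of_lt (lt_of_le_of_ne hle fun h => hv2 (h.ge ⟨hv, hv1⟩).2)
      omega
  simp only [hiff]
  constructor
  · intro hns Q
    rcases eq_or_ne Q P with rfl | hQ
    · obtain ⟨-, t, ht, htv⟩ := (Proj.ns_iff_crit hK (hne 0) hbir Q).1 hns
      obtain ⟨v, hv, hvv⟩ := (Proj.param_iff hK hj0 hj).1 ⟨t, (Proj.inLocRing_iff hj0 hj t).1 ht, htv⟩
      refine ⟨v, hv, (hH v hv).2 (by rw [hvv, ← WithZero.exp_zero, WithZero.exp_lt_exp]; omega), fun hcon => ?_⟩
      have := hcon Q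
      rw [map_div₀, hexp, div_eq_iff WithZero.exp_ne_zero, ← WithZero.exp_add] at hvv
      rw [hvv] at this
      rw [Finsupp.sub_apply, Finsupp.sub_apply, Finsupp.single_eq_same, WithZero.exp_le_exp] at this
      omega
    · by_contra hcon
      push Not at hcon
      have hQv : ∀ v ∈ W, v ∈ FunFld.L (D - Finsupp.single P 1) → Q.1 v ≤ WithZero.exp (D Q - 1) := fun v hv h => by
        simpa [Finsupp.single_eq_of_ne hQ] using hcon v hv h Q
      have hjQ : Q.1 (φ j) = WithZero.exp (D Q) := by
        refine le_antisymm ((hspec Q).1 j) (le_of_not_gt fun hlt => ?_)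
        obtain ⟨i, hi⟩ := (hspec Q).2
        obtain ⟨c, hc⟩ := exists_res hK P (Proj.ratio_le hj0 hj i)
        have hv : φ i - c • φ j ∈ W := sub_mem (Submodule.subset_span ⟨i, rfl⟩) (Submodule.smul_mem _ _ hjW)
        have hv1 : φ i - c • φ j ∈ FunFld.L (D - Finsupp.single P 1) := (hH _ hv).2 (by
          rwa [sub_div, Algebra.smul_def, mul_div_cancel_right₀ _ hj0])
        have h2 := (lt_exp_iff _ (D Q)).2 (hQv _ hv hv1)
        have : Q.1 (φ i) < WithZero.exp (D Q) := by
          rw [show φ i = (φ i - c • φ j) + c • φ j by ring]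
          exact Valuation.map_add_lt _ h2 ((smul_le Q _ _).trans_lt hlt)
        exact lt_irrefl _ (hi ▸ this)
      refine hQ (Proj.eq_of_sameImage hK ⟨0, hne 0⟩ hns ⟨j, hj0, hj, fun i => hjQ ▸ (hspec Q).1 i, fun i => ?_⟩)
      obtain ⟨c, hc⟩ := exists_res hK P (Proj.ratio_le hj0 hj i)
      refine ⟨c, hc, ?_⟩
      have hv : φ i - c • φ j ∈ W := sub_mem (Submodule.subset_span ⟨i, rfl⟩) (Submodule.smul_mem _ _ hjW)
      have hv1 : φ i - c • φ j ∈ FunFld.L (D - Finsupp.single P 1) := (hH _ hv).2 (by
        rwa [sub_div, Algebra.smul_def, mul_div_cancel_right₀ _ hj0])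
      have h2 := (lt_exp_iff _ (D Q)).2 (hQv _ hv hv1)
      have h3 : Q.1 ((φ i - c • φ j) / φ j) < 1 := by
        rw [map_div₀, hjQ]; exact (div_lt_one₀ WithZero.exp_pos).2 h2
      rwa [sub_div, Algebra.smul_def, mul_div_cancel_right₀ _ hj0] at h3
  · intro hall
    refine (Proj.ns_iff_crit hK (hne 0) hbir P).2 ⟨fun Q hQ => ?_, ?_⟩
    · by_contra hne'
      obtain ⟨v, hv, hv1, hv2⟩ := hall Q
      have hs := (Proj.loc_le_iff hK hj0 hj).1 hQ
      obtain ⟨hQj, -⟩ := Proj.sameImage_norm hj0 hj hs
      obtain ⟨c, hcP, hcQ⟩ := Proj.sameImage_lin hj0 hj hs hv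
      have hc : c = 0 := by
        by_contra hc
        have h1 : P.1 (algebraMap k K c) = 1 := v_algebraMap P hc
        rw [show algebraMap k K c = v / φ j - (v / φ j - algebraMap k K c) by ring] at h1
        exact lt_irrefl _ (h1 ▸ (P.1.map_sub _ _).trans_lt (max_lt ((hH v hv).1 hv1) hcP))
      rw [hc, map_zero, sub_zero] at hcQ
      apply hv2
      intro R
      rcases eq_or_ne R Q with rfl | hR
      · have hjQ : R.1 (φ j) = WithZero.exp (D R) := by
          obtain ⟨h1, i, hi⟩ := hspec R
          exact le_antisymm (h1 j) (hi ▸ hQj i)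
        rw [map_div₀, hjQ, div_lt_one₀ WithZero.exp_pos, lt_exp_iff] at hcQ
        simpa [Finsupp.single_eq_of_ne hne'] using hcQ
      · simpa [Finsupp.single_eq_of_ne hR] using hv1 R
    · obtain ⟨v, hv, hv1, hv2⟩ := hall P
      refine ⟨v / φ j, (Proj.inLocRing_iff hj0 hj _).2 (Proj.inLoc_of_mem (Proj.ratio_div hj0 hv)),
        le_antisymm ((lt_one_iff_le _).1 ((hH v hv).1 hv1)) (le_of_not_gt fun hlt => hv2 fun R => ?_)⟩
      rcases eq_or_ne R P with rfl | hR
      · rw [lt_exp_iff, map_div₀, hexp, div_le_iff₀ WithZero.exp_pos, ← WithZero.exp_add] at hlt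
        simp only [Finsupp.sub_apply, Finsupp.single_eq_same]
        refine hlt.trans (WithZero.exp_le_exp.2 ?_)
        omega
      · simpa [Finsupp.single_eq_of_ne hR] using hv1 R

end Groth.Agent.S11055
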