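import Groth.Statements.S11057
import Groth.Agent.FunFldLib.Embedding

set_option autoImplicit false
open FunFld

namespace Groth.Agent.S11057
open Groth.Agent.FunFldLib FunFld


/-- Over an algebraically closed constant field, if `K` has degree at least `3` over every subfield
`k(x)` generated by a nonconstant element, then the canonical map (given by a basis of `L(D)` for a
canonical divisor `D`) is an embedding, i.e. nonsingular at every place. Here a projective map is
nonsingular at a place when its local ring there (quotients of polynomials over `k` in the ratios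
`φᵢ/φⱼ`, `φⱼ` of least order at the place, with denominator a unit there) is the whole valuation
ring. -/
theorem result
    (k K : Type*) [Field k] [IsAlgClosed k] [Field K] [Algebra k K]
    (hK : FunFld.IsFunctionField k K)
    (h2 : ∀ x : K, Transcendental k x →
      2 < Module.finrank (IntermediateField.adjoin k ({x} : Set K)) K)
    (D : FunFld.Divisor k K) (hD : FunFld.IsCanonical k K D) {n : ℕ} (φ : Fin (n + 1) → K)
    (hφ : LinearIndependent k φ) (hspan : Submodule.span k (Set.range φ) = FunFld.L D)
    (P : FunFld.Place k K) : FunFld.IsNonsingularAt φ P := by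
  classical
  refine nonsingular_of_separates hK (fun R Q => ?_) φ hφ hspan P
  obtain ⟨hC1, -⟩ := deg_canonical hK hD
  set E : Divisor k K := Finsupp.single R 1 + Finsupp.single Q 1 with hE
  have hE0 : 0 ≤ E := add_nonneg (Finsupp.single_nonneg.2 zero_le_one) (Finsupp.single_nonneg.2 zero_le_one)
  have hEd : E.deg = 2 := by
    rw [hE, deg_add, deg_single, deg_single, deg_eq_one hK R, deg_eq_one hK Q]; simp
  have hl : ell E ≤ 1 := by
    by_contra hlt
    have := finite_L hK.1 E
    obtain ⟨x, hx, hxc⟩ : ∃ x ∈ FunFld.L E, x ∉ Submodule.span k ({1} : Set K) := by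
      by_contra h
      push Not at h
      have h' := Submodule.finrank_mono (show FunFld.L E ≤ Submodule.span k ({1} : Set K) from h)
      rw [finrank_span_singleton (one_ne_zero (α := K))] at h'
      exact hlt h'
    have hxk : x ∉ Set.range (algebraMap k K) := by
      rintro ⟨c, rfl⟩
      exact hxc (Submodule.mem_span_singleton.2 ⟨c, by rw [Algebra.smul_def, mul_one]⟩)
    have hxt := transcendental_of_not_mem hK hxk
    have hx0 : x ≠ 0 := fun h => hxt (h ▸ isAlgebraic_zero)
    have hle : -FunFld.div k x ⊔ 0 ≤ E :=
      sup_le (neg_le_iff_add_nonneg.2 ((mem_L_iff hK.1 hx0 E).1 hx)) hE0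
    have h3 := (deg_mono_aux (fun P => deg_pos hK P) hle).1
    rw [deg_poles_eq hK.1 hxt, hEd] at h3
    have h4 : degX k x ≤ 2 := by exact_mod_cast h3
    exact absurd (h2 x hxt) (by rw [degX] at h4; omega)
  have h5 := riemann_roch hK hD E
  rw [hEd] at h5
  rw [sub_sub, ← hE]
  omega

end Groth.Agent.S11057
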