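import Groth.Statements.S11059
import Groth.Agent.FunFldLib.Plane.Model
import Groth.Agent.FunFldLib.Hasse.Diff
import Groth.Agent.FunFldLib.Hasse.Expansion
import Groth.Agent.FunFldLib.Fibre.Degree

set_option autoImplicit false
open FunFld

namespace Groth.Agent.S11059

open Groth.Agent.FunFldLib

theorem ns_perm {k K : Type*} [Field k] [Field K] [Algebra k K] {ι ι' : Type} (φ : ι → K) (ψ : ι' → K)
    (h : Set.range φ = Set.range ψ) (P : Place k K) : IsNonsingularAt φ P ↔ IsNonsingularAt ψ P := by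
  have key : ∀ {ι ι' : Type} (φ : ι → K) (ψ : ι' → K), Set.range φ = Set.range ψ →
      IsNonsingularAt φ P → IsNonsingularAt ψ P := by
    intro ι ι' φ ψ h hns z hz
    obtain ⟨j, hj0, hjm, u, hu, w, hw, hw1, he⟩ := hns z hz
    obtain ⟨j', hj'⟩ : φ j ∈ Set.range ψ := h ▸ ⟨j, rfl⟩
    have hr : (Set.range fun i => φ i / φ j) = Set.range fun i => ψ i / ψ j' := by
      rw [hj', show (fun i => φ i / φ j) = (fun a => a / φ j) ∘ φ from rfl,
        show (fun i => ψ i / φ j) = (fun a => a / φ j) ∘ ψ from rfl, Set.range_comp, Set.range_comp, h]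
    refine ⟨j', hj' ▸ hj0, fun i => ?_, u, hr ▸ hu, w, hr ▸ hw, hw1, he⟩
    obtain ⟨i', hi'⟩ : ψ i ∈ Set.range φ := h ▸ ⟨i, rfl⟩
    rw [hj', ← hi']; exact hjm i'
  exact ⟨key φ ψ h, key ψ φ h.symm⟩

theorem aux {k K : Type*} [Field k] [IsAlgClosed k] [Field K] [Algebra k K] (hK : IsFunctionField k K)
    {s : K} {H : K →ₐ[k] PowerSeries K} (hH : LocRes.IsHasseFamily s H)
    (hsep : Algebra.IsSeparable (IntermediateField.adjoin k ({s} : Set K)) K)
    (x y : K) (hxy : IntermediateField.adjoin k ({x, y} : Set K) = ⊤) (hx : LocRes.hasseD H 1 x ≠ 0) :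
    2 * (genus k K : ℤ) = ((mapDiv k ![(1 : K), x, y]).deg - 1) * ((mapDiv k ![(1 : K), x, y]).deg - 2) ↔
      ∀ P : Place k K, IsNonsingularAt ![(1 : K), x, y] P := by
  classical
  obtain ⟨u, w, c₀, c₁, c₂, hu, hw, hδu, hutr, hgen, hdeg, huL, hwL, hexact⟩ :=
    Plane.exists_gen hK x y hxy (Hasse.deriv hH) (Or.inl hx)
  set D := mapDiv k ![(1 : K), x, y] with hD
  obtain ⟨a, ha⟩ := mem_span_pows hK hutr hgen (fun P h => (hwL P).trans (by
    have h0 : 0 ≤ D P := by rw [hD, mapDiv_plane hK]; omega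
    by_contra hcon
    push Not at hcon
    rw [← WithZero.exp_zero, WithZero.exp_lt_exp] at hcon
    rw [hexact P (by omega), ← WithZero.exp_zero, WithZero.exp_le_exp] at h
    omega)) (f := w ^ degX k u) (pow_mem (Algebra.subset_adjoin (by simp)) _)
  obtain ⟨n, hn⟩ : ∃ n : ℤ, n = (degX k u : ℤ) := ⟨_, rfl⟩
  set G := Plane.dRel w (fun j => Polynomial.aeval u (a j)) with hG
  obtain ⟨c, hc⟩ := kaehler_span (k := k) (s := s) u
  have hc' : LocRes.hasseD H 1 u = c := coeff_eq hH hc
  have hc0 : c ≠ 0 := hc' ▸ hδu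
  choose Φ hΦ using fun P => exists_expansion hK hH P
  have hcoef : ∀ Q : Place k K, G ≠ 0 ∧ 0 ≤ ((n - 3) • D - divDiff Φ G⁻¹ u) Q ∧
      (((n - 3) • D - divDiff Φ G⁻¹ u) Q = 0 ↔ IsNonsingularAt ![(1 : K), x, y] Q) := by
    intro Q
    obtain ⟨t, -, ht⟩ := exists_exp (P := Q) (-1)
    obtain ⟨ρ, -, -, Ht, hHt, -⟩ := exists_family hK Q ht hH
    obtain ⟨ρ', -, h1, -, h2, -⟩ := change_var hK hH hHt
    have hds : LocRes.hasseD Ht 1 s ≠ 0 := h2 ▸ h1
    have hu' : LocRes.hasseD Ht 1 u = c * LocRes.hasseD Ht 1 s := by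
      have h := congrArg (Hasse.deriv hHt).liftKaehlerDifferential hc
      simpa only [map_smul, Derivation.liftKaehlerDifferential_comp_D, Hasse.deriv_apply, smul_eq_mul] using h
    obtain ⟨hG0, hres⟩ := Plane.chart_coeff hK hu hw hutr hgen huL hwL hexact rfl a ha Q ht hHt
      (by rw [hu']; exact mul_ne_zero hc0 hds)
    refine ⟨hG0, ?_⟩
    have he : divDiff Φ G⁻¹ u Q = Q.ord (LocRes.hasseD Ht 1 u) - Q.ord G := by
      rw [divDiff_apply hK hH hΦ (inv_ne_zero hG0) hc0 hc Q, ordDiff_eq hK Q ht hHt (Φ Q) (hΦ Q), hu',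
        ord_mul Q (inv_ne_zero hG0) hc0, ord_mul Q hc0 hds, ord_inv]
      ring
    simp only [Finsupp.sub_apply, Finsupp.smul_apply, smul_eq_mul, he, hn]
    exact hres
  obtain ⟨P₀⟩ := nonempty_place hK.1
  have hG0 : G ≠ 0 := (hcoef P₀).1
  have hdiff : divDiff Φ G⁻¹ u = FunFld.div k (G⁻¹ * c) + divDiff Φ 1 s := Finsupp.ext fun Q => by
    rw [divDiff_apply hK hH hΦ (inv_ne_zero hG0) hc0 hc Q, Finsupp.add_apply, div_apply hK.1, divDiff,
      dif_pos (finite_divDiff hK hH hΦ), Finsupp.ofSupportFinite_coe]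
  set A := (n - 3) • D - divDiff Φ G⁻¹ u with hA
  have hdegA : A.deg = (n - 3) * n - (2 * (genus k K : ℤ) - 2) := by
    rw [hA, FunFldLib.deg_sub, Fibre.deg_zsmul, hdiff, FunFldLib.deg_add, deg_div hK.1,
      Fibre.deg_diff hK hH Φ hΦ, hn, hdeg]
    ring
  have hA0 : (0 : Divisor k K) ≤ A := fun Q => (hcoef Q).2.1
  have hzero := deg_mono_aux (fun P => deg_pos hK.1 P) hA0
  rw [← hdeg, ← hn]
  constructor
  · intro h Q
    have : A = 0 := (hzero.2 (by rw [FunFldLib.deg_zero, hdegA]; linarith)).symm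
    exact (hcoef Q).2.2.1 (by rw [this]; rfl)
  · intro h
    have : A = 0 := Finsupp.ext fun Q => (hcoef Q).2.2.2 (h Q)
    rw [this, FunFldLib.deg_zero] at hdegA
    linarith


/-- Over an algebraically closed constant field, a birational plane model `(1 : x : y)` of degree `d` of
a function field of genus `g` has `g = (d - 1)(d - 2)/2` if and only if it is nonsingular at every
place. Here a projective map is nonsingular at a place when its local ring there (quotients of
polynomials over `k` in the ratios `φᵢ/φⱼ`, `φⱼ` of least order at the place, with denominator a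
unit there) is the whole valuation ring. -/
theorem result
    (k K : Type*) [Field k] [IsAlgClosed k] [Field K] [Algebra k K]
    (hK : FunFld.IsFunctionField k K) (x y : K)
    (hxy : IntermediateField.adjoin k ({x, y} : Set K) = ⊤) :
    2 * (FunFld.genus k K : ℤ) =
        ((FunFld.mapDiv k ![(1 : K), x, y]).deg - 1) *
          ((FunFld.mapDiv k ![(1 : K), x, y]).deg - 2) ↔
      ∀ P : FunFld.Place k K, FunFld.IsNonsingularAt ![(1 : K), x, y] P := by
  classical
  obtain ⟨s, H, hH, -, hsep⟩ := exists_hasse_separating hK.1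
  by_cases hx : LocRes.hasseD H 1 x = 0
  swap
  · exact aux hK hH hsep x y hxy hx
  have hy : LocRes.hasseD H 1 y ≠ 0 := by
    intro hy
    let Z : IntermediateField k K :=
      { carrier := {z | Hasse.deriv hH z = 0}
        mul_mem' := fun {a b} (ha : Hasse.deriv hH a = 0) (hb : Hasse.deriv hH b = 0) =>
          show Hasse.deriv hH (a * b) = 0 by simp [ha, hb]
        one_mem' := (Hasse.deriv hH).map_one_eq_zero
        add_mem' := fun {a b} (ha : Hasse.deriv hH a = 0) (hb : Hasse.deriv hH b = 0) =>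
          show Hasse.deriv hH (a + b) = 0 by simp [ha, hb]
        zero_mem' := map_zero _
        algebraMap_mem' := fun c => (Hasse.deriv hH).map_algebraMap c
        inv_mem' := fun a (ha : Hasse.deriv hH a = 0) => show Hasse.deriv hH a⁻¹ = 0 by
          rw [(Hasse.deriv hH).leibniz_inv, ha, smul_zero] }
    have hle : IntermediateField.adjoin k ({x, y} : Set K) ≤ Z :=
      IntermediateField.adjoin_le_iff.2 (by rintro z (rfl | rfl); exacts [hx, hy])
    have : Hasse.deriv hH s = 0 := hle (hxy ▸ IntermediateField.mem_top)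
    rw [Hasse.deriv_apply, LocRes.hasseD_apply, hH.1] at this
    simp at this
  have hm : FunFld.mapDiv k ![(1 : K), x, y] = FunFld.mapDiv k ![(1 : K), y, x] :=
    Finsupp.ext fun P => by rw [mapDiv_plane hK, mapDiv_plane hK]; omega
  rw [hm, aux hK hH hsep y x (by rwa [Set.pair_comm]) hy]
  exact forall_congr' fun P => ns_perm ![(1 : K), y, x] ![(1 : K), x, y]
    (by simp [Matrix.range_cons, Set.union_comm, Set.insert_comm]) P

end Groth.Agent.S11059
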