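import Groth.Statements.S11060
import Groth.Agent.FunFldLib.PlaneModel

set_option autoImplicit false
open FunFld

namespace Groth.Agent.S11060

/-- Over an algebraically closed constant field, a function field of genus `g` with a nonsingular plane
model has `g` a triangular number. Here a projective map is nonsingular at a place when its local
ring there (quotients of polynomials over `k` in the ratios `φᵢ/φⱼ`, `φⱼ` of least order at the
place, with denominator a unit there) is the whole valuation ring. -/
theorem result
    (k K : Type*) [Field k] [IsAlgClosed k] [Field K] [Algebra k K]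
    (hK : FunFld.IsFunctionField k K)
    (h : ∃ x y : K, IntermediateField.adjoin k ({x, y} : Set K) = ⊤ ∧
      ∀ P : FunFld.Place k K, FunFld.IsNonsingularAt ![(1 : K), x, y] P) :
    ∃ m : ℕ, 2 * FunFld.genus k K = m * (m + 1) := by
  obtain ⟨x, y, hxy, hns⟩ := h
  obtain ⟨u, w, hp⟩ := FunFldLib.exists_proj hK x y hxy
  refine FunFldLib.genus_eq hK hp (fun P => ?_) rfl hns
  rw [FunFldLib.mapDiv_plane hK]
  exact (le_max_left (0 : ℤ) _).trans (le_max_left _ _)

end Groth.Agent.S11060
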