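import Groth.Statements.S11063
import Groth.Agent.FunFldLib.Order

set_option autoImplicit false
open FunFld

namespace Groth.Agent.S11063
open Groth.Agent.FunFldLib


/-- Over an algebraically closed constant field, for a place `P` of a function field of genus `g` and `1
≤ l ≤ g`, the `l`-th gap number at `P` is at most `2l - 1`, i.e. at least `l` of the integers `1 ≤ m
≤ 2l - 1` satisfy `L(mP) = L((m-1)P)`. (The published statement bounds the `l`-th order of the
canonical map at `P` by `2l`; the orders of the canonical map at `P` are the gap numbers at `P` less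
one, which gives the form stated here.) -/
theorem result
    (k K : Type*) [Field k] [IsAlgClosed k] [Field K] [Algebra k K]
    (hK : FunFld.IsFunctionField k K) (P : FunFld.Place k K) (l : ℕ)
    (hl : 1 ≤ l) (hlg : l ≤ FunFld.genus k K) :
    l ≤ Set.ncard {m : ℕ | 1 ≤ m ∧ m ≤ 2 * l - 1 ∧
      FunFld.L (Finsupp.single P (m : ℤ)) = FunFld.L (Finsupp.single P ((m : ℤ) - 1))} := by
  classical
  have h1 : ∀ R : FunFld.Place k K, R.deg = 1 := deg_eq_one hK
  let gap : ℕ → Prop := fun m => FunFld.L (Finsupp.single P (m : ℤ)) = FunFld.L (Finsupp.single P ((m : ℤ) - 1))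
  have step : ∀ N : ℕ, N + 1 ≤ ((Finset.Icc 1 N).filter gap).card + FunFld.ell (Finsupp.single P (N : ℤ)) := by
    intro N
    induction N with
    | zero => simp [ell_zero hK]
    | succ N ih =>
      have hle : (Finsupp.single P (N : ℤ) : FunFld.Divisor k K) ≤ Finsupp.single P ((N + 1 : ℕ) : ℤ) :=
        Finsupp.single_le_single.2 (by push_cast; omega)
      have := finite_L hK (Finsupp.single P ((N + 1 : ℕ) : ℤ))
      by_cases hg : gap (N + 1)
      · have e : ((Finset.Icc 1 (N + 1)).filter gap).card = ((Finset.Icc 1 N).filter gap).card + 1 := by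
          rw [← Finset.insert_Icc_right_eq_Icc_add_one (by omega), Finset.filter_insert, if_pos hg,
            Finset.card_insert_of_notMem (by simp)]
        have := ell_mono hK hle
        omega
      · have e : ((Finset.Icc 1 (N + 1)).filter gap).card = ((Finset.Icc 1 N).filter gap).card := by
          rw [← Finset.insert_Icc_right_eq_Icc_add_one (by omega), Finset.filter_insert, if_neg hg]
        have h2 : FunFld.ell (Finsupp.single P (N : ℤ)) < FunFld.ell (Finsupp.single P ((N + 1 : ℕ) : ℤ)) := by
          refine Submodule.finrank_lt_finrank_of_lt (lt_of_le_of_ne (L_mono hle) fun he => hg ?_)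
          show FunFld.L _ = FunFld.L _
          rw [← he]; push_cast; simp
        omega
  have hs : {m : ℕ | 1 ≤ m ∧ m ≤ 2 * l - 1 ∧ gap m} = ↑((Finset.Icc 1 (2 * l - 1)).filter gap) := by
    ext m; simp [and_assoc]
  show l ≤ Set.ncard {m : ℕ | 1 ≤ m ∧ m ≤ 2 * l - 1 ∧ gap m}
  rw [hs, Set.ncard_coe_finset]
  have := step (2 * l - 1)
  have hd : FunFld.Divisor.deg (Finsupp.single P ((2 * l - 1 : ℕ) : ℤ) : FunFld.Divisor k K) = ((2 * l - 1 : ℕ) : ℤ) := by
    rw [deg_single, h1]; simp
  rcases Nat.lt_or_ge l (FunFld.genus k K) with h | h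
  · have h2 := clifford hK (h1 P) (Finsupp.single P ((2 * l - 1 : ℕ) : ℤ)) (by omega) (by omega)
    omega
  · have h2 := ell_eq_of_large hK (D := Finsupp.single P ((2 * l - 1 : ℕ) : ℤ)) (by omega)
    omega

end Groth.Agent.S11063
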