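import Groth.Statements.S11066
import Groth.Agent.FunFldLib.Proj.Map
import Groth.Agent.FunFldLib.Hasse.Div

set_option autoImplicit false
open FunFld

namespace Groth.Agent.S11066

/-- Over an algebraically closed constant field, for an effective projective map `φ` normalized at the
place `P` (`1` in the span of the entries, all entries integral at `P`), the local ring of `φ` at
`P` has an element of order one at `P` (a local parameter) exactly when the span of the entries has
one. The local ring consists of the quotients of polynomials over `k` in the ratios `φᵢ/φⱼ`, `φⱼ` of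
least order at `P`, with denominator a unit at `P`. -/
theorem result
    (k K : Type*) [Field k] [IsAlgClosed k] [Field K] [Algebra k K]
    (hK : FunFld.IsFunctionField k K) {n : ℕ} (φ : Fin (n + 1) → K)
    (P : FunFld.Place k K) (heff : (1 : K) ∈ Submodule.span k (Set.range φ))
    (hnorm : ∀ i, P.1 (φ i) ≤ 1) :
    (∃ t : K, FunFld.InLocRing φ P t ∧ P.1 t = WithZero.exp (-1)) ↔
      ∃ t ∈ Submodule.span k (Set.range φ), P.1 t = WithZero.exp (-1) := by
  obtain ⟨i, hi⟩ : ∃ i, P.1 (φ i) = 1 := Groth.Agent.FunFldLib.exists_v_one P φ heff hnorm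
  have hi0 : φ i ≠ 0 := fun h => by rw [h, map_zero] at hi; exact zero_ne_one hi
  have hmax : ∀ l, P.1 (φ l) ≤ P.1 (φ i) := fun l => hi.symm ▸ hnorm l
  simp only [Groth.Agent.FunFldLib.Proj.inLocRing_iff hi0 hmax]
  rw [Groth.Agent.FunFldLib.Proj.param_iff hK hi0 hmax]
  simp only [map_div₀, hi, div_one]

end Groth.Agent.S11066
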