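import Groth.Statements.S11067
import Groth.Agent.FunFldLib.Field

set_option autoImplicit false
open FunFld

namespace Groth.Agent.S11067

/-- Over an algebraically closed constant field, for a plane curve with natural map `(1 : x : y)` (so `K
= k(x, y)`) and `y` integral over `k[x]`, the ring `k[x, y]` is the intersection of the rings
`O_P[y]` over the places `P` of `k(x)` at which `x` is integral. -/
theorem result
    (k K : Type*) [Field k] [IsAlgClosed k] [Field K] [Algebra k K]
    (hK : FunFld.IsFunctionField k K) (x y : K) (hx : Transcendental k x)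
    (hxy : IntermediateField.adjoin k ({x, y} : Set K) = ⊤)
    (hy : IsIntegral (Algebra.adjoin k ({x} : Set K)) y) :
    (Algebra.adjoin k ({x, y} : Set K) : Set K) =
      ⋂ (P : FunFld.Place k (IntermediateField.adjoin k ({x} : Set K)))
        (_ : P.1 ⟨x, IntermediateField.mem_adjoin_simple_self k x⟩ ≤ 1),
        (Subring.closure
          ((algebraMap (IntermediateField.adjoin k ({x} : Set K)) K '' (P.O : Set _)) ∪ {y}) :
          Set K) := by
  classical
  open Groth.Agent.FunFldLib in
  set F := IntermediateField.adjoin k ({x} : Set K)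
  set A := Algebra.adjoin k ({x, y} : Set K)
  let g : F := ⟨x, IntermediateField.mem_adjoin_simple_self k x⟩
  have hgt : Transcendental k g := fun h => hx (by
    obtain ⟨p, hp, hp'⟩ := h
    exact ⟨p, hp, by rw [show x = algebraMap F K g from rfl, Polynomial.aeval_algebraMap_apply, hp', map_zero]⟩)
  have hF : IsFF0 k F := by
    have e : IntermediateField.adjoin k ({g} : Set F) = ⊤ := by
      apply IntermediateField.lift_injective F
      rw [IntermediateField.lift_adjoin_simple, IntermediateField.lift_top]
    exact ⟨g, hgt, Module.Finite.of_surjective (Algebra.linearMap (IntermediateField.adjoin k ({g} : Set F)) F)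
      (fun a => ⟨⟨a, e ▸ IntermediateField.mem_top⟩, rfl⟩)⟩
  have hxA : ∀ p : Polynomial k, Polynomial.aeval x p ∈ A := fun p =>
    Algebra.adjoin_mono (Set.singleton_subset_iff.2 (Set.mem_insert x _))
      (Algebra.adjoin_singleton_eq_range_aeval k x ▸ ⟨p, rfl⟩)
  refine Set.Subset.antisymm (fun z hz => ?_) (fun z hz => ?_)
  · simp only [Set.mem_iInter]
    intro P hP
    set S := Subring.closure ((algebraMap F K '' (P.O : Set _)) ∪ {y})
    let SA : Subalgebra k K :=
      { S.toSubsemiring with
        algebraMap_mem' := fun c => Subring.subset_closure (Or.inl ⟨algebraMap k F c, P.2.1 c, rfl⟩) }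
    exact (Algebra.adjoin_le (S := SA) (Set.insert_subset_iff.2 ⟨Subring.subset_closure (Or.inl ⟨g, hP, rfl⟩),
      Set.singleton_subset_iff.2 (Subring.subset_closure (Or.inr rfl))⟩)) hz
  · simp only [Set.mem_iInter] at hz
    let I : Ideal (Polynomial k) :=
      { carrier := {d | Polynomial.aeval x d * z ∈ A}
        add_mem' := fun {a b} ha hb => by
          show Polynomial.aeval x (a + b) * z ∈ A
          rw [map_add, add_mul]; exact add_mem ha hb
        zero_mem' := by
          show Polynomial.aeval x (0 : Polynomial k) * z ∈ A
          rw [map_zero, zero_mul]; exact zero_mem A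
        smul_mem' := fun a b hb => by
          show Polynomial.aeval x (a * b) * z ∈ A
          rw [map_mul, mul_assoc]; exact mul_mem (hxA a) hb }
    have key : ∀ c : k, ∃ d ∈ I, d.eval c ≠ 0 := by
      intro c
      obtain ⟨P, hP⟩ := exists_zero hF (z := g - algebraMap k F c) (fun h => hgt (by
        simpa using h.add (isAlgebraic_algebraMap c)))
      have hPg : P.1 g ≤ 1 := by
        rw [← sub_add_cancel g (algebraMap k F c)]
        exact (P.1.map_add _ _).trans (max_le hP.le (P.2.1 c))
      have hres : ∀ p : Polynomial k, P.1 (Polynomial.aeval g p - algebraMap k F (p.eval c)) < 1 := by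
        intro p
        obtain ⟨r, hr⟩ := Polynomial.X_sub_C_dvd_sub_C_eval (a := c) (p := p)
        have e := congrArg (Polynomial.aeval g) hr
        simp only [map_sub, map_mul, Polynomial.aeval_C, Polynomial.aeval_X] at e
        rw [e, map_mul]
        exact (mul_le_mul' le_rfl (v_aeval_le P hPg r)).trans_lt (by rw [mul_one]; exact hP)
      have hmain : ∀ w ∈ Subring.closure ((algebraMap F K '' (P.O : Set _)) ∪ {y}),
          ∃ d : Polynomial k, d.eval c ≠ 0 ∧ Polynomial.aeval x d * w ∈ A := by
        intro w hw
        induction hw using Subring.closure_induction with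
        | mem w hw =>
          rcases hw with ⟨a, ha, rfl⟩ | rfl
          · obtain ⟨p, q, hpq⟩ := IntermediateField.mem_adjoin_simple_iff k _ |>.1 a.2
            rcases eq_or_ne q 0 with rfl | hq
            · exact ⟨1, by simp, by simp [show algebraMap F K a = 0 by simpa using hpq]⟩
            obtain ⟨p', q', G, hu, hp', hq'⟩ : ∃ p' q' G : Polynomial k, IsCoprime p' q' ∧
                p = p' * G ∧ q = q' * G := by
              obtain ⟨p', q', hp', hq', hu⟩ := extract_gcd p q
              exact ⟨p', q', _, (gcd_isUnit_iff _ _).1 hu, hp'.trans (mul_comm _ _), hq'.trans (mul_comm _ _)⟩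
            have hq'0 : q' ≠ 0 := fun h => hq (by rw [hq', h, zero_mul])
            have hg0 : G ≠ 0 := fun h => hq (by rw [hq', h, mul_zero])
            have he : algebraMap F K a * Polynomial.aeval x q' = Polynomial.aeval x p' := by
              have hd : ∀ r : Polynomial k, r ≠ 0 → Polynomial.aeval x r ≠ 0 := fun r hr h => hx ⟨r, hr, h⟩
              show (a : K) * _ = _
              rw [hpq, hp', hq', map_mul, map_mul]
              field_simp [hd _ hg0, hd _ hq'0]
            refine ⟨q', fun hc => ?_, by rw [mul_comm, he]; exact hxA p'⟩
            have hpc : p'.eval c ≠ 0 := fun hc' => by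
              obtain ⟨u, v, huv⟩ := hu
              simpa [hc, hc'] using congrArg (Polynomial.eval c) huv
            have he' : a * Polynomial.aeval g q' = Polynomial.aeval g p' := (algebraMap F K).injective (by
              rw [map_mul, ← Polynomial.aeval_algebraMap_apply, ← Polynomial.aeval_algebraMap_apply]
              exact he)
            have h1 : P.1 (Polynomial.aeval g q') < 1 := by simpa [hc] using hres q'
            have h2 : P.1 (Polynomial.aeval g p') = 1 := by
              have := Valuation.map_add_eq_of_lt_right P.1 (x := Polynomial.aeval g p' - algebraMap k F (p'.eval c))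
                (y := algebraMap k F (p'.eval c)) (by rw [v_algebraMap P hpc]; exact hres p')
              rwa [sub_add_cancel, v_algebraMap P hpc] at this
            rw [← he', map_mul] at h2
            exact absurd h2 (ne_of_lt ((mul_le_mul' ha le_rfl).trans_lt (by rwa [one_mul])))
          · exact ⟨1, by simp, by
              rw [map_one, one_mul]
              exact Algebra.subset_adjoin (Set.mem_insert_of_mem x rfl)⟩
        | zero => exact ⟨1, by simp, by simp⟩
        | one => exact ⟨1, by simp, by simp⟩
        | add a b _ _ ha hb =>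
          obtain ⟨d, hd, hda⟩ := ha
          obtain ⟨e, he, heb⟩ := hb
          refine ⟨d * e, by simp [hd, he], ?_⟩
          rw [map_mul, mul_add, mul_right_comm, mul_assoc (Polynomial.aeval x d) (Polynomial.aeval x e) b]
          exact add_mem (mul_mem hda (hxA e)) (mul_mem (hxA d) heb)
        | neg a _ ha =>
          obtain ⟨d, hd, hda⟩ := ha
          exact ⟨d, hd, by rw [mul_neg]; exact neg_mem hda⟩
        | mul a b _ _ ha hb =>
          obtain ⟨d, hd, hda⟩ := ha
          obtain ⟨e, he, heb⟩ := hb
          exact ⟨d * e, by simp [hd, he], by rw [map_mul, mul_mul_mul_comm]; exact mul_mem hda heb⟩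
      obtain ⟨d, hd, hdz⟩ := hmain z (hz P hPg)
      exact ⟨d, hdz, hd⟩
    obtain ⟨G, hG⟩ := (IsPrincipalIdealRing.principal I).1
    have hGu : IsUnit G := by
      by_contra hcon
      rcases eq_or_ne G 0 with rfl | hG0
      · obtain ⟨d, hd, hd'⟩ := key 0
        rw [hG, Submodule.span_zero_singleton] at hd
        exact hd' (by rw [(Submodule.mem_bot _).1 hd, Polynomial.eval_zero])
      obtain ⟨c, hc⟩ := IsAlgClosed.exists_root G (fun h => hcon (Polynomial.isUnit_iff_degree_eq_zero.2 h))
      obtain ⟨d, hd, hd'⟩ := key c
      rw [hG] at hd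
      obtain ⟨e, rfl⟩ := Ideal.mem_span_singleton'.1 hd
      exact hd' (by rw [Polynomial.eval_mul, hc.eq_zero, mul_zero])
    have h1 : (1 : Polynomial k) ∈ I := by
      rw [hG]
      exact Ideal.mem_span_singleton.2 hGu.dvd
    simpa [I] using h1

end Groth.Agent.S11067
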