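import Groth.Statements.S11069
import Groth.Agent.FunFldLib.Ext

set_option autoImplicit false
open FunFld

namespace Groth.Agent.S11069

open Groth.Agent.FunFldLib in
theorem hsup {k L : Type*} [Field k] [Field L] [Algebra k L] (hL : IsFF0 k L) {n : ℕ} (ψ : Fin (n + 1) → L)
    (P : Place k L) :
    FunFld.mapDiv k ψ P = -Finset.univ.inf' Finset.univ_nonempty (fun i => P.ord (ψ i)) := by
  have hfin : (Function.support fun P : Place k L =>
      -Finset.univ.inf' Finset.univ_nonempty (fun i => P.ord (ψ i))).Finite := by
    refine (Set.finite_iUnion fun i => finite_ord_support hL (ψ i)).subset fun Q hQ => ?_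
    by_contra hcon
    simp only [Set.mem_iUnion, Function.mem_support, ne_eq, not_exists, not_not] at hcon
    simp [hcon] at hQ
  rw [FunFld.mapDiv, dif_pos hfin, Finsupp.ofSupportFinite_coe]


/-- Over an algebraically closed constant field, for function fields `K ⊇ K'` and a projective map `φ`
with entries in `K'`, the divisor of `φ` as a map of `K` is the conorm `N*_{K/K'}` of its divisor as
a map of `K'`. -/
theorem result
    (k K' K : Type*) [Field k] [IsAlgClosed k] [Field K'] [Field K] [Algebra k K'] [Algebra k K]
    [Algebra K' K] [IsScalarTower k K' K] [FiniteDimensional K' K]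
    (hK : FunFld.IsFunctionField k K) (hK' : FunFld.IsFunctionField k K') {n : ℕ}
    (φ : Fin (n + 1) → K') (hφ : LinearIndependent k φ) :
    FunFld.mapDiv k (fun i => algebraMap K' K (φ i)) = FunFld.conorm K (FunFld.mapDiv k φ) := by
  classical
  open Groth.Agent.FunFldLib in
  refine Finsupp.ext fun Q => ?_
  obtain ⟨P, e, he, h⟩ := exists_over hK'.1 Q
  rw [conorm_apply hK'.1 _ h, hsup hK.1, hsup hK'.1]
  simp only [ord_map h]
  rw [mul_neg, neg_inj]
  exact (Finset.apply_inf'_eq_inf'_comp Finset.univ_nonempty (fun a : ℤ => (e : ℤ) * a) fun a b => mul_min_of_nonneg a b (Int.natCast_nonneg e)).symm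

end Groth.Agent.S11069
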