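import Groth.Statements.S11073
import Groth.Agent.FunFldLib.Plane.Relation

set_option autoImplicit false
open FunFld

namespace Groth.Agent.S11073

/-- Over an algebraically closed constant field, the ideal of a projective plane curve — here the curve
with function field `K = k(x, y)`, whose ideal is the kernel of `X₀ ↦ T, X₁ ↦ xT, X₂ ↦ yT` into
`K[T]` — is principal, with an irreducible homogeneous generator. -/
theorem result
    (k K : Type*) [Field k] [IsAlgClosed k] [Field K] [Algebra k K]
    (hK : FunFld.IsFunctionField k K) (x y : K)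
    (hxy : IntermediateField.adjoin k ({x, y} : Set K) = ⊤) :
    ∃ f : MvPolynomial (Fin 3) k, Irreducible f ∧ f.IsHomogeneous f.totalDegree ∧
      RingHom.ker (MvPolynomial.aeval fun i => Polynomial.C (![(1 : K), x, y] i) * Polynomial.X) =
        Ideal.span {f} := by
  classical
  open Groth.Agent.FunFldLib.Plane in
  obtain ⟨f, hf, hfxy, -, hdiv⟩ := exists_rel hK x y hxy
  have hev : ∀ (g : MvPolynomial (Fin 3) k), MvPolynomial.aeval ![(1 : K), x, y] g = MvPolynomial.aeval ![x, y] (dehom g) := fun g => by
    rw [dehom, ← AlgHom.comp_apply, MvPolynomial.comp_aeval]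
    congr 1
    apply MvPolynomial.algHom_ext
    intro i
    refine Fin.cases ?_ (fun l => ?_) i
    · simp
    · simp only [MvPolynomial.aeval_X, AlgHom.comp_apply, Fin.cons_succ, Matrix.cons_val_succ]
  have hhom : ∀ (m : ℕ) (p : MvPolynomial (Fin 2) k), p.totalDegree ≤ m →
      MvPolynomial.aeval ![(1 : K), x, y] (hom m p) = MvPolynomial.aeval ![x, y] p := fun m p h => by
    rw [hev, dehom_hom h]
  set F := hom f.totalDegree f with hF
  have hFh := hom_isHomogeneous f.totalDegree f
  have hFne : F ≠ 0 := fun h => hf.ne_zero (by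
    have := dehom_hom (m := f.totalDegree) (p := f) le_rfl
    rw [← hF, h, map_zero] at this
    exact this.symm)
  let ev := MvPolynomial.aeval (R := k) (fun i => Polynomial.C (![(1 : K), x, y] i) * Polynomial.X)
  have hmem : ∀ g, ev g = 0 ↔ ∀ m, MvPolynomial.aeval ![(1 : K), x, y] (MvPolynomial.homogeneousComponent m g) = 0 :=
    fun g => mem_cone_iff _ g
  have hdivF : ∀ g, ev g = 0 → F ∣ g := by
    intro g hg
    rw [← MvPolynomial.sum_homogeneousComponent g]
    refine Finset.dvd_sum fun m _ => ?_
    have hc := (hmem g).1 hg m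
    rw [hev] at hc
    obtain ⟨h, hh⟩ := hdiv _ hc
    have hgh := MvPolynomial.homogeneousComponent_isHomogeneous m g
    rcases eq_or_ne h 0 with rfl | h0
    · rw [mul_zero] at hh
      rw [eq_zero_of_dehom hgh hh]
      exact dvd_zero _
    have hle : f.totalDegree + h.totalDegree ≤ m := by
      rw [← MvPolynomial.totalDegree_mul_of_isDomain hf.ne_zero h0, ← hh]
      refine (totalDegree_subst_le _ (Fin.cases (by simp) fun l => ?_) _).trans hgh.totalDegree_le
      simp only [Fin.cons_succ]
      exact (MvPolynomial.totalDegree_X l).le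
    refine ⟨hom (m - f.totalDegree) h, eq_of_dehom hgh ?_ ?_⟩
    · have := hFh.mul (hom_isHomogeneous (m - f.totalDegree) h)
      rwa [show f.totalDegree + (m - f.totalDegree) = m by omega] at this
    · rw [map_mul, hF, dehom_hom le_rfl, dehom_hom (by omega), hh]
  have hF0 : ev F = 0 := by
    rw [hmem]
    intro m
    rw [MvPolynomial.homogeneousComponent_of_mem hFh]
    split_ifs
    · rw [hhom _ _ le_rfl, hfxy]
    · exact map_zero _
  refine ⟨F, ⟨fun hu => ?_, fun G G' he => ?_⟩, ?_, ?_⟩
  · have := hu.map ev
    rw [hF0] at this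
    exact not_isUnit_zero this
  · have h : ev G * ev G' = 0 := by rw [← map_mul, ← he, hF0]
    rcases mul_eq_zero.1 h with h' | h'
    · obtain ⟨q, hq⟩ := hdivF G h'
      refine Or.inr (IsUnit.of_mul_eq_one q ?_)
      rw [hq, mul_assoc] at he
      exact mul_left_cancel₀ hFne (by rw [mul_comm G', ← he, mul_one])
    · obtain ⟨q, hq⟩ := hdivF G' h'
      refine Or.inl (IsUnit.of_mul_eq_one q ?_)
      rw [hq, mul_left_comm] at he
      exact mul_left_cancel₀ hFne (by rw [← he, mul_one])
  · rwa [hFh.totalDegree hFne]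
  · ext g
    rw [RingHom.mem_ker, Ideal.mem_span_singleton]
    refine ⟨hdivF g, ?_⟩
    rintro ⟨q, rfl⟩
    show ev (F * q) = 0
    rw [map_mul, hF0, zero_mul]

end Groth.Agent.S11073
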