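import Groth.Statements.S11072
import Groth.Agent.FunFldLib.Proj.Relations
import Groth.Agent.S11073

set_option autoImplicit false
open FunFld

namespace Groth.Agent.S11072

/-- Over an algebraically closed constant field, a plane curve with defining irreducible homogeneous
polynomial `f` and birational natural map `φ = (φ₀ : φ₁ : φ₂)` is singular at the point `a = φ(P)`
(coordinates `(φᵢ/φⱼ)(P)` for an entry `φⱼ` of least order at `P`, read in the residue field) if and
only if `∂f/∂Xᵢ(a) = 0` for `i = 0, 1, 2`. Here `φ` is nonsingular at `P` when its local ring there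
(quotients of polynomials over `k` in the `φᵢ/φⱼ` with denominator a unit at `P`) is the whole
valuation ring. -/
theorem result (k K : Type*) [Field k] [IsAlgClosed k] [Field K] [Algebra k K]
    (hK : FunFld.IsFunctionField k K) (φ : Fin 3 → K)
    (hφ : LinearIndependent k φ)
    (hbir : IntermediateField.adjoin k (Set.range fun i => φ i / φ 0) = ⊤)
    (f : MvPolynomial (Fin 3) k) (hf : Irreducible f) (hhom : f.IsHomogeneous f.totalDegree)
    (hfφ : MvPolynomial.aeval φ f = 0) (P : FunFld.Place k K) (j : Fin 3)
    (hj : ∀ i, P.1 (φ i) ≤ P.1 (φ j)) (a : Fin 3 → P.O) (ha : ∀ i, ((a i : P.O) : K) = φ i / φ j) :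
    ¬ FunFld.IsNonsingularAt φ P ↔
      ∀ l : Fin 3, MvPolynomial.aeval (fun i => IsLocalRing.residue P.O (a i))
        (MvPolynomial.pderiv l f) = 0 := by
    classical
    open Groth.Agent.FunFldLib Groth.Agent.FunFldLib.Proj in
    have hj0 : φ j ≠ 0 := hφ.ne_zero j
    have hR : ∀ i, P.1 (φ i / φ j) ≤ 1 := ratio_le hj0 hj
    choose β hβ using fun i => exists_res hK P (hR i)
    have hfr : MvPolynomial.aeval (fun i => φ i / φ j) f = 0 := by
      rw [show (fun i => φ i / φ j) = fun i => (φ j)⁻¹ * φ i from funext fun i => div_eq_inv_mul _ _,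
        Groth.Agent.FunFldLib.Plane.aeval_scale hhom, hfφ, mul_zero]
    have he0 : MvPolynomial.eval β f = 0 := eval_eq_zero hR hβ (by rw [hfr, map_zero]; exact zero_lt_one)
    have heuler : ∑ i, β i * MvPolynomial.eval β (MvPolynomial.pderiv i f) = 0 := by
      have h := congrArg (MvPolynomial.eval β) hhom.sum_X_mul_pderiv
      rw [nsmul_eq_mul, map_mul, he0, mul_zero, map_sum] at h
      simpa using h
    have hres : ∀ g : MvPolynomial (Fin 3) k, MvPolynomial.aeval (fun i => IsLocalRing.residue P.O (a i)) g =
        algebraMap k (IsLocalRing.ResidueField P.O) (MvPolynomial.eval β g) := fun g => by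
      rw [show (fun i => IsLocalRing.residue P.O (a i)) = fun i => algebraMap k (IsLocalRing.ResidueField P.O) (β i) from
        funext fun i => residue_eq_algebraMap _ _ (by rw [ha]; exact hβ i)]
      exact (MvPolynomial.comp_aeval_apply (fun i => β i) (Algebra.ofId k (IsLocalRing.ResidueField P.O)) g).symm.trans
        (by rw [MvPolynomial.aeval_eq_eval]; rfl)
    have hβj : β j = 1 := by
      by_contra hne
      have h := hβ j
      rw [div_self hj0, ← map_one (algebraMap k K), ← map_sub, v_algebraMap P (sub_ne_zero.2 (Ne.symm hne))] at h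
      exact lt_irrefl _ h
    set e := Equiv.swap 0 j with he
    set φ' : Fin 3 → K := fun i => φ (e i) with hφ'
    have hee : ∀ i, e (e i) = i := fun i => Equiv.swap_apply_self _ _ i
    have h0' : φ' 0 ≠ 0 := hφ.ne_zero _
    have he00 : e 0 = j := Equiv.swap_apply_left _ _
    have hP' : ∀ i, P.1 (φ' i) ≤ P.1 (φ' 0) := fun i => by simpa [hφ', he00] using hj (e i)
    have hchart : chartRing k φ' 0 = chartRing k φ j :=
      congrArg (Algebra.adjoin k) (Set.ext fun z => ⟨fun ⟨i, hi⟩ => ⟨e i, by simpa [hφ', he00] using hi⟩,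
        fun ⟨i, hi⟩ => ⟨e i, by simpa [hφ', he00, hee] using hi⟩⟩)
    have hns : FunFld.IsNonsingularAt φ P ↔ FunFld.IsNonsingularAt φ' P := by
      simp only [FunFld.IsNonsingularAt, inLocRing_iff hj0 hj, inLocRing_iff h0' hP', hchart]
    have hbir' : IntermediateField.adjoin k (Set.range fun i => φ' i / φ' 0) = ⊤ := by
      rw [← adjoin_chart (hφ.ne_zero 0) hj0 hbir]
      exact congrArg (IntermediateField.adjoin k) (Set.ext fun z => ⟨fun ⟨i, hi⟩ => ⟨e i, by simpa [hφ', he00] using hi⟩,
        fun ⟨i, hi⟩ => ⟨e i, by simpa [hφ', he00, hee] using hi⟩⟩)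
    set r : Fin 2 → K := fun l => φ' l.succ / φ' 0 with hr
    set α : Fin 2 → k := fun l => β (e l.succ) with hα
    have hα' : ∀ l, P.1 (r l - algebraMap k K (α l)) < 1 := fun l => by simpa [hr, hα, hφ', he00] using hβ (e l.succ)
    have hcons : (Fin.cons 1 α : Fin 3 → k) = β ∘ e :=
      funext (Fin.cases (by simp [he00, hβj]) fun l => by simp [hα])
    have hc : ∀ i, φ' i = φ' 0 * (Fin.cons 1 r : Fin 3 → K) i :=
      Fin.cases (by simp) fun l => by rw [Fin.cons_succ, hr, mul_div_cancel₀ _ h0']
    have hxy : IntermediateField.adjoin k ({r 0, r 1} : Set K) = ⊤ := by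
      rw [eq_top_iff, ← hbir', IntermediateField.adjoin_le_iff]
      rintro _ ⟨i, rfl⟩
      fin_cases i
      · simp [h0']
      · exact IntermediateField.subset_adjoin k _ (Or.inl rfl)
      · exact IntermediateField.subset_adjoin k _ (Or.inr rfl)
    set f' := MvPolynomial.rename e f with hf'
    obtain ⟨F, hF, hFh, hker⟩ := Groth.Agent.S11073.result k K hK (r 0) (r 1) hxy
    have hker' : RingHom.ker (MvPolynomial.aeval (R := k) fun i => Polynomial.C ((Fin.cons 1 r : Fin 3 → K) i) * Polynomial.X) =
        Ideal.span {F} := by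
      rw [← hker, show (Fin.cons 1 r : Fin 3 → K) = ![(1 : K), r 0, r 1] from funext fun i => by fin_cases i <;> rfl]
    have hfirr : Irreducible f' := (MulEquiv.irreducible_iff (MvPolynomial.renameEquiv k e)).2 hf
    have hfmem : f' ∈ Ideal.span ({F} : Set _) := by
      rw [← hker', ← ker_scale h0' hc]
      refine mem_cone_of_hom (MvPolynomial.IsHomogeneous.rename_isHomogeneous hhom) ?_
      rw [hf', MvPolynomial.aeval_rename]
      simpa [Function.comp_def, hφ', hee] using hfφ
    have hgen : Ideal.span (Set.range fun _ : Fin 1 => f') =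
        RingHom.ker (MvPolynomial.aeval (R := k) fun i => Polynomial.C ((Fin.cons 1 r : Fin 3 → K) i) * Polynomial.X) := by
      rw [hker', Set.range_const, Ideal.span_singleton_eq_span_singleton]
      exact (hF.associated_of_dvd hfirr (Ideal.mem_span_singleton.1 hfmem)).symm
    have hg : grad α (Groth.Agent.FunFldLib.Plane.dehom f') =
        fun l => MvPolynomial.eval β (MvPolynomial.pderiv (e l.succ) f) := funext fun l => by
      rw [grad, pderiv_dehom, eval_dehom, hcons, hf', show l.succ = e (e l.succ) from (hee _).symm,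
        MvPolynomial.pderiv_rename e.injective, MvPolynomial.eval_rename, hee]
      simp [Function.comp_def, hee]
    simp only [hres, map_eq_zero]
    rw [hns, ns_iff_rank hK (by norm_num) h0' (fun l => rfl) hP' hbir' hα',
      relSpan_eq (fun _ : Fin 1 => f') hgen (fun l => ratio_le h0' hP' _) hα', Set.range_const, hg]
    constructor
    · intro h
      by_contra hcon
      apply h
      rw [finrank_span_singleton]
      intro hz
      apply hcon
      have h1 : MvPolynomial.eval β (MvPolynomial.pderiv (e 1) f) = 0 := congrFun hz 0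
      have h2 : MvPolynomial.eval β (MvPolynomial.pderiv (e 2) f) = 0 := congrFun hz 1
      have h3 : MvPolynomial.eval β (MvPolynomial.pderiv (e 0) f) = 0 := by
        have := heuler
        rw [← Equiv.sum_comp e, Fin.sum_univ_three, h1, h2, he00, hβj] at this
        simpa [he00] using this
      intro l
      rw [← hee l]
      have key : ∀ m : Fin 3, MvPolynomial.eval β (MvPolynomial.pderiv (e m) f) = 0 := fun m => by
        fin_cases m
        exacts [h3, h1, h2]
      exact key (e l)
    · intro h
      rw [show (fun l : Fin 2 => MvPolynomial.eval β (MvPolynomial.pderiv (e l.succ) f)) = 0 from funext fun l => h _,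
        Submodule.span_zero_singleton, finrank_bot]
      norm_num

end Groth.Agent.S11072
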