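import Groth.Statements.S11074
import Groth.Agent.FunFldLib.Proj.Relations

set_option autoImplicit false
open FunFld

namespace Groth.Agent.S11074

/-- Over an algebraically closed constant field, at a nonsingular point `a = φ(P)` of a plane curve
`V(f)` with birational natural map `φ = (φ₀ : φ₁ : φ₂)`, the tangent line is `(∂f/∂X₀(a) : ∂f/∂X₁(a)
: ∂f/∂X₂(a))`: the corresponding linear form, pulled back along `φ` normalized at `P`, vanishes to
order at least `2` at `P` (the tangent line being the one line whose pullback vanishes to order `≥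
2`). Nonsingular at `P` means that the local ring of `φ` at `P` (quotients of polynomials over `k`
in the `φᵢ/φⱼ`, `φⱼ` of least order at `P`, denominator a unit at `P`) is the whole valuation ring. -/
theorem result
    (k K : Type*) [Field k] [IsAlgClosed k] [Field K] [Algebra k K]
    (hK : FunFld.IsFunctionField k K) (φ : Fin 3 → K) (hφ : LinearIndependent k φ)
    (hbir : IntermediateField.adjoin k (Set.range fun i => φ i / φ 0) = ⊤)
    (f : MvPolynomial (Fin 3) k) (hf : Irreducible f) (hhom : f.IsHomogeneous f.totalDegree)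
    (hfφ : MvPolynomial.aeval φ f = 0) (P : FunFld.Place k K) (j : Fin 3)
    (hj : ∀ i, P.1 (φ i) ≤ P.1 (φ j)) (hns : FunFld.IsNonsingularAt φ P) (a : Fin 3 → P.O)
    (ha : ∀ i, ((a i : P.O) : K) = φ i / φ j) (c : Fin 3 → k)
    (hc : ∀ i, algebraMap k (IsLocalRing.ResidueField P.O) (c i) =
      MvPolynomial.aeval (fun l => IsLocalRing.residue P.O (a l)) (MvPolynomial.pderiv i f)) :
    P.1 (∑ i, c i • (φ i / φ j)) ≤ WithZero.exp (-2) := by
    classical
    open Groth.Agent.FunFldLib Groth.Agent.FunFldLib.Proj in
    have hj0 : φ j ≠ 0 := hφ.ne_zero j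
    have hR : ∀ i, P.1 (φ i / φ j) ≤ 1 := ratio_le hj0 hj
    choose β hβ using fun i => exists_res hK P (hR i)
    have hfr : MvPolynomial.aeval (fun i => φ i / φ j) f = 0 := by
      rw [show (fun i => φ i / φ j) = fun i => (φ j)⁻¹ * φ i from funext fun i => div_eq_inv_mul _ _,
        Groth.Agent.FunFldLib.Plane.aeval_scale hhom, hfφ, mul_zero]
    have he0 : MvPolynomial.eval β f = 0 := eval_eq_zero hR hβ (by rw [hfr, map_zero]; exact zero_lt_one)
    have heuler : ∑ i, β i * MvPolynomial.eval β (MvPolynomial.pderiv i f) = 0 := by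
      have h := congrArg (MvPolynomial.eval β) hhom.sum_X_mul_pderiv
      rw [nsmul_eq_mul, map_mul, he0, mul_zero, map_sum] at h
      simpa using h
    have hres : ∀ g : MvPolynomial (Fin 3) k, MvPolynomial.aeval (fun i => IsLocalRing.residue P.O (a i)) g =
        algebraMap k (IsLocalRing.ResidueField P.O) (MvPolynomial.eval β g) := fun g => by
      rw [show (fun i => IsLocalRing.residue P.O (a i)) = fun i => algebraMap k (IsLocalRing.ResidueField P.O) (β i) from
        funext fun i => residue_eq_algebraMap _ _ (by rw [ha]; exact hβ i)]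
      exact (MvPolynomial.comp_aeval_apply (fun i => β i) (Algebra.ofId k (IsLocalRing.ResidueField P.O)) g).symm.trans
        (by rw [MvPolynomial.aeval_eq_eval]; rfl)
    have hcc : c = grad β f := funext fun i =>
      (algebraMap k (IsLocalRing.ResidueField P.O)).injective ((hc i).trans (hres _))
    have hl := lin_le_two hR hβ (c := c) (hcc ▸ Submodule.subset_span ⟨f, hfr, rfl⟩)
    refine le_of_eq_of_le (congrArg P.1 ?_) hl
    simp only [mul_sub, Finset.sum_sub_distrib, ← map_mul, ← map_sum, Algebra.smul_def]
    rw [show ∑ i, c i * β i = 0 by simpa [hcc, grad, mul_comm] using heuler, map_zero, sub_zero]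

end Groth.Agent.S11074
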