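import Groth.Statements.S11075
import Groth.Agent.FunFldLib.Proj.Image

set_option autoImplicit false
open FunFld

namespace Groth.Agent.S11075

/-- Over an algebraically closed constant field, let `φ = (φ₀, …, φₙ)`, `n ≥ 1`, be a projective map
onto the curve `V`. (a) A homogeneous `g` not vanishing identically on `V` vanishes at the image
point of only finitely many places (so a closed set not containing `V` meets `V` in a finite set);
(b) each fibre of `φ` is finite. Here `g` vanishes at `φ(P)` when `g(φ₀/φⱼ, …, φₙ/φⱼ)` lies in the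
maximal ideal of `P` for an entry `φⱼ` of least order at `P`. Two places have the same image point
when some entry `φⱼ` has least order at both and each `φᵢ/φⱼ` is congruent to one constant modulo
both maximal ideals. -/
theorem result (k K : Type*) [Field k] [IsAlgClosed k] [Field K] [Algebra k K]
    (hK : FunFld.IsFunctionField k K) {n : ℕ} (hn : 1 ≤ n)
    (φ : Fin (n + 1) → K) (hφ : LinearIndependent k φ) :
    (∀ g : MvPolynomial (Fin (n + 1)) k, g.IsHomogeneous g.totalDegree →
      MvPolynomial.aeval φ g ≠ 0 →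
        {P : FunFld.Place k K | ∃ j, φ j ≠ 0 ∧ (∀ i, P.1 (φ i) ≤ P.1 (φ j)) ∧
          P.1 (MvPolynomial.aeval (fun i => φ i / φ j) g) < 1}.Finite) ∧
    ∀ P : FunFld.Place k K, {Q : FunFld.Place k K | FunFld.SameImage φ P Q}.Finite := by
  classical
  open Groth.Agent.FunFldLib in
  refine ⟨fun g hg hg0 => ?_, fun P => ?_⟩
  · refine (((finite_ord_support hK.1 (MvPolynomial.aeval φ g))).union
      (Set.finite_iUnion fun i => finite_ord_support hK.1 (φ i))).subset fun P hP => ?_
    obtain ⟨j, hj0, hj, hlt⟩ := hP
    by_contra hcon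
    simp only [Set.mem_union, Set.mem_iUnion, not_or, not_exists, Function.mem_support, not_not] at hcon
    obtain ⟨h1, h2⟩ := hcon
    have hscale : MvPolynomial.aeval φ g = φ j ^ g.totalDegree * MvPolynomial.aeval (fun i => φ i / φ j) g := by
      rw [MvPolynomial.aeval_def, MvPolynomial.aeval_def, MvPolynomial.eval₂_eq', MvPolynomial.eval₂_eq', Finset.mul_sum]
      refine Finset.sum_congr rfl fun d hd => ?_
      have hdeg : ∑ i, d i = g.totalDegree := by
        have h := hg (MvPolynomial.mem_support_iff.1 hd)
        simpa [Finsupp.weight_apply, Finsupp.sum_fintype] using h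
      have hp : φ j ^ g.totalDegree * ∏ i, (φ i / φ j) ^ d i = ∏ i, φ i ^ d i := by
        rw [← hdeg, ← Finset.prod_pow_eq_pow_sum, ← Finset.prod_mul_distrib]
        exact Finset.prod_congr rfl fun i _ => by rw [← mul_pow, mul_div_cancel₀ _ hj0]
      rw [← hp]; ring
    have h3 : P.1 (MvPolynomial.aeval φ g) = 1 := by rw [v_eq_exp P hg0, h1, neg_zero, WithZero.exp_zero]
    have h4 : P.1 (φ j) = 1 := by rw [v_eq_exp P hj0, h2 j, neg_zero, WithZero.exp_zero]
    rw [hscale, map_mul, map_pow, h4, one_pow, one_mul] at h3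
    exact lt_irrefl _ (h3 ▸ hlt)
  · obtain ⟨j, hj0, hj⟩ := Proj.exists_max φ P ⟨0, hφ.ne_zero 0⟩
    obtain ⟨l, hl⟩ := Proj.exists_nonconst hn hφ j
    exact Proj.fibre_finite hK hj0 hl hj

end Groth.Agent.S11075
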