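import Groth.Statements.S11076
import Groth.Agent.FunFldLib.Proj.Image
import Groth.Agent.FunFldLib.Hasse.Weier

set_option autoImplicit false
open FunFld

namespace Groth.Agent.S11076

/-- Over an algebraically closed constant field, a projective curve (given by a birational projective
map `φ = (φ₀, …, φₙ)`, `n ≥ 1`) is nonsingular at the point `a = φ(P)` if and only if some
hyperplane `∑ cᵢ Xᵢ` has intersection multiplicity `1` with it at `a`: the sum over the places `Q`
of the fibre of `a` of `[φ](Q) + ord_Q(∑ cᵢ φᵢ)` is `1`. Nonsingular at `P` means that the local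
ring of `φ` at `P` (quotients of polynomials over `k` in the `φᵢ/φⱼ`, `φⱼ` of least order at `P`,
denominator a unit at `P`) is the whole valuation ring. Two places have the same image point when
some entry `φⱼ` has least order at both and each `φᵢ/φⱼ` is congruent to one constant modulo both
maximal ideals. -/
theorem result (k K : Type*) [Field k] [IsAlgClosed k] [Field K] [Algebra k K]
    (hK : FunFld.IsFunctionField k K) {n : ℕ} (hn : 1 ≤ n)
    (φ : Fin (n + 1) → K) (hφ : LinearIndependent k φ)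
    (hbir : IntermediateField.adjoin k (Set.range fun i => φ i / φ 0) = ⊤)
    (P : FunFld.Place k K) :
    FunFld.IsNonsingularAt φ P ↔ ∃ c : Fin (n + 1) → k, ∑ i, c i • φ i ≠ 0 ∧
      ∑ᶠ Q ∈ {Q : FunFld.Place k K | FunFld.SameImage φ P Q},
        ((FunFld.mapDiv k φ) Q + Q.ord (∑ i, c i • φ i)) = 1 := by
  classical
  open Groth.Agent.FunFldLib in
  set D := FunFld.mapDiv k φ with hD
  have hne : ∀ i, φ i ≠ 0 := fun i => hφ.ne_zero i
  obtain ⟨j, hj0, hj⟩ := Proj.exists_max φ P ⟨0, hne 0⟩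
  have hexp : ∀ R : FunFld.Place k K, (∀ i, R.1 (φ i) ≤ R.1 (φ j)) → R.1 (φ j) = WithZero.exp (D R) := by
    intro R hR
    obtain ⟨h1, i, hi⟩ := mapDiv_spec hK φ hne R
    exact le_antisymm (h1 j) (hi ▸ hR i)
  have hterm : ∀ R : FunFld.Place k K, FunFld.SameImage φ P R → ∀ v : K, v ≠ 0 →
      D R + R.ord v = R.ord (v / φ j) := by
    intro R hR v hv
    obtain ⟨hRj, -⟩ := Proj.sameImage_norm hj0 hj hR
    have h := hexp R hRj
    rw [v_eq_exp R hj0, WithZero.exp_inj] at h
    rw [div_eq_mul_inv, ord_mul R hv (inv_ne_zero hj0), ord_inv]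
    omega
  obtain ⟨l, hl⟩ := Proj.exists_nonconst hn hφ j
  have hfib := Proj.fibre_finite (P := P) hK hj0 hl hj
  have hPP : FunFld.SameImage φ P P := Proj.sameImage_self hK ⟨0, hne 0⟩
  have huniq : ∀ c : Fin (n + 1) → k, ∑ i, c i • φ i ∈ Submodule.span k (Set.range φ) := fun c =>
    sum_mem fun i _ => Submodule.smul_mem _ _ (Submodule.subset_span ⟨i, rfl⟩)
  constructor
  · intro hns
    have hs : {Q : FunFld.Place k K | FunFld.SameImage φ P Q} = {P} := Set.ext fun Q =>
      ⟨fun h => Proj.eq_of_sameImage hK ⟨0, hne 0⟩ hns h, fun h => h ▸ hPP⟩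
    obtain ⟨-, t, ht, htv⟩ := (Proj.ns_iff_crit hK (hne 0) hbir P).1 hns
    obtain ⟨v, hv, hvv⟩ := (Proj.param_iff hK hj0 hj).1 ⟨t, (Proj.inLocRing_iff hj0 hj t).1 ht, htv⟩
    obtain ⟨c, hc⟩ := (Submodule.mem_span_range_iff_exists_fun k).1 hv
    have hv0 : v ≠ 0 := fun h => by rw [h, zero_div, map_zero] at hvv; exact WithZero.exp_ne_zero hvv.symm
    refine ⟨c, hc ▸ hv0, ?_⟩
    rw [hs, finsum_mem_singleton, hc, hterm P hPP v hv0, FunFld.Place.ord, hvv, WithZero.log_exp]
    rfl
  · rintro ⟨c, hc0, hsum⟩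
    set v := ∑ i, c i • φ i
    have hnn : ∀ R ∈ hfib.toFinset, 0 ≤ R.ord (v / φ j) := fun R hR => by
      obtain ⟨a, -, ha⟩ := Proj.sameImage_lin hj0 hj (hfib.mem_toFinset.1 hR) (huniq c)
      refine (v_le_one_iff R (div_ne_zero hc0 hj0)).1 ?_
      rw [show v / φ j = (v / φ j - algebraMap k K a) + algebraMap k K a by ring]
      exact (R.1.map_add _ _).trans (max_le ha.le (R.2.1 a))
    have hsum' : ∑ R ∈ hfib.toFinset, R.ord (v / φ j) = 1 := by
      rw [← hsum, finsum_mem_eq_finite_toFinset_sum _ hfib]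
      exact Finset.sum_congr rfl fun R hR => (hterm R (hfib.mem_toFinset.1 hR) v hc0).symm
    obtain ⟨R0, hR0, hR0p⟩ : ∃ R ∈ hfib.toFinset, 0 < R.ord (v / φ j) := by
      by_contra h
      push Not at h
      have := Finset.sum_nonpos h
      omega
    have hall : ∀ R ∈ hfib.toFinset, 0 < R.ord (v / φ j) := by
      intro R hR
      obtain ⟨a, haP, haR⟩ := Proj.sameImage_lin hj0 hj (hfib.mem_toFinset.1 hR) (huniq c)
      obtain ⟨b, hbP, hbR⟩ := Proj.sameImage_lin hj0 hj (hfib.mem_toFinset.1 hR0) (huniq c)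
      have same : ∀ (S : FunFld.Place k K) (a b : k), S.1 (v / φ j - algebraMap k K a) < 1 →
          S.1 (v / φ j - algebraMap k K b) < 1 → a = b := fun S a b h1 h2 => by
        by_contra hne'
        have h3 : S.1 (algebraMap k K (b - a)) = 1 := v_algebraMap S (sub_ne_zero.2 (Ne.symm hne'))
        rw [show algebraMap k K (b - a) = (v / φ j - algebraMap k K a) - (v / φ j - algebraMap k K b) by
          rw [map_sub]; ring] at h3
        exact lt_irrefl _ (h3 ▸ (S.1.map_sub _ _).trans_lt (max_lt h1 h2))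
      have hb : b = 0 := same R0 b 0 hbR (by
        rw [map_zero, sub_zero]; exact (v_lt_one_iff R0 (div_ne_zero hc0 hj0)).2 hR0p)
      have ha : a = 0 := (same P a b haP hbP).trans hb
      rw [ha, map_zero, sub_zero] at haR
      exact (v_lt_one_iff R (div_ne_zero hc0 hj0)).1 haR
    have hcard : hfib.toFinset.card ≤ 1 := by
      have h := Finset.card_nsmul_le_sum hfib.toFinset (fun R => R.ord (v / φ j)) 1 fun R hR => hall R hR
      rw [hsum', nsmul_one] at h
      exact_mod_cast h
    have hs : hfib.toFinset = {P} := Finset.eq_singleton_iff_unique_mem.2 ⟨hfib.mem_toFinset.2 hPP,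
      fun R hR => Finset.card_le_one.1 hcard R hR P (hfib.mem_toFinset.2 hPP)⟩
    rw [hs, Finset.sum_singleton] at hsum'
    refine (Proj.ns_iff_crit hK (hne 0) hbir P).2 ⟨fun Q hQ => ?_, v / φ j,
      (Proj.inLocRing_iff hj0 hj _).2 (Proj.inLoc_of_mem (Proj.ratio_div hj0 (huniq c))), ?_⟩
    · have : Q ∈ hfib.toFinset := hfib.mem_toFinset.2 ((Proj.loc_le_iff hK hj0 hj).1 hQ)
      rw [hs, Finset.mem_singleton] at this
      exact this
    · rw [v_eq_exp P (div_ne_zero hc0 hj0), hsum']

end Groth.Agent.S11076
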