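import Groth.Statements.S11079
import Mathlib

set_option autoImplicit false
universe u
open CAlg

namespace Groth.Agent.S11079

/-- Let L/K be a finite Galois extension of fields, n a natural number, and B a map from the Galois
group of L over K to the invertible n × n matrices over L such that B(σ) · σ(B(τ)) = B(στ) for all
σ, τ, where σ acts on matrices entrywise and στ is the automorphism applying τ first. Then there is
an invertible matrix A over L with B(σ) = A⁻¹ · σ(A) for every σ; that is, every 1-cocycle of the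
Galois group with values in GL_n(L) is a coboundary. -/
theorem result (K L : Type u) [Field K] [Field L]
    [Algebra K L] [FiniteDimensional K L] [IsGalois K L] (n : ℕ)
    (B : (L ≃ₐ[K] L) → GL (Fin n) L)
    (hB : ∀ σ τ : L ≃ₐ[K] L,
      (B σ : Matrix (Fin n) (Fin n) L) * (B τ : Matrix (Fin n) (Fin n) L).map σ = (B (σ * τ) : Matrix (Fin n) (Fin n) L)) :
    ∃ A : GL (Fin n) L, ∀ σ : L ≃ₐ[K] L,
      (B σ : Matrix (Fin n) (Fin n) L) = ((A⁻¹ : GL (Fin n) L) : Matrix (Fin n) (Fin n) L) * (A : Matrix (Fin n) (Fin n) L).map σ := by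
  classical
  let v : (Fin n → L) → (Fin n → L) := fun x => ∑ σ : L ≃ₐ[K] L, (B σ : Matrix (Fin n) (Fin n) L).mulVec (fun i => σ (x i))
  have hfix : ∀ (τ : L ≃ₐ[K] L) x, (B τ : Matrix (Fin n) (Fin n) L).mulVec (fun i => τ (v x i)) = v x := by
    intro τ x
    have h1 : (fun i => τ (v x i)) = ∑ σ : L ≃ₐ[K] L, ((B σ : Matrix (Fin n) (Fin n) L).map τ).mulVec (fun i => (τ * σ) (x i)) := by
      funext i
      simp only [v, Finset.sum_apply, map_sum, Matrix.mulVec, dotProduct, map_mul, Matrix.map_apply, AlgEquiv.mul_apply]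
    rw [h1, Matrix.mulVec_sum]
    simp only [Matrix.mulVec_mulVec, hB]
    exact Fintype.sum_equiv (Equiv.mulLeft τ) _ _ (fun σ => rfl)
  have hspan : Submodule.span L (Set.range v) = ⊤ := by
    by_contra hne
    obtain ⟨f, hf, hle⟩ := Submodule.exists_le_ker_of_lt_top _ (lt_top_iff_ne_top.mpr hne)
    apply hf
    have h0 : f ∘ₗ Matrix.mulVecLin (B 1 : Matrix (Fin n) (Fin n) L) = 0 := by
      apply (Pi.basisFun L (Fin n)).ext
      intro i
      have hli := Fintype.linearIndependent_iff.mp
        ((linearIndependent_monoidHom L L).comp (fun σ : L ≃ₐ[K] L => (σ : L →+* L).toMonoidHom)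
          (fun a b hab => by ext x; exact DFunLike.congr_fun hab x))
        (fun σ => f ((B σ : Matrix (Fin n) (Fin n) L).mulVec (Pi.single i 1))) ?_ 1
      · simpa using hli
      · funext c
        have hk : f (v (Pi.single i c)) = 0 := hle (Submodule.subset_span ⟨_, rfl⟩)
        simp only [v, map_sum] at hk
        simp only [Finset.sum_apply, Pi.smul_apply, Pi.zero_apply, smul_eq_mul, Function.comp]
        rw [← hk]
        refine Finset.sum_congr rfl fun σ _ => ?_
        have : (fun j => σ ((Pi.single i c : Fin n → L) j)) = σ c • (Pi.single i 1 : Fin n → L) := by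
          funext j; by_cases hj : j = i <;> simp [hj]
        rw [this, Matrix.mulVec_smul, map_smul, smul_eq_mul, mul_comm]
        rfl
    apply LinearMap.ext
    intro y
    obtain ⟨z, rfl⟩ := Matrix.mulVec_surjective_iff_isUnit.mpr (B 1).isUnit y
    simpa using DFunLike.congr_fun h0 z
  let b0 := Module.Basis.ofSpan hspan.ge
  let b := b0.reindex (b0.indexEquiv (Pi.basisFun L (Fin n)))
  have hb : ∀ j, b j ∈ Set.range v := fun j => by
    rw [Module.Basis.reindex_apply]
    exact Module.Basis.ofSpan_subset hspan.ge ⟨_, rfl⟩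
  let C : Matrix (Fin n) (Fin n) L := Matrix.of fun i j => b j i
  have hC : IsUnit C := Matrix.linearIndependent_cols_iff_isUnit.mp b.linearIndependent
  obtain ⟨U, hU⟩ := hC
  refine ⟨U⁻¹, fun σ => ?_⟩
  have hBC : (B σ : Matrix (Fin n) (Fin n) L) * C.map σ = C := by
    ext i j
    obtain ⟨x, hx⟩ := hb j
    have := congrFun (hfix σ x) i
    simp only [hx] at this
    exact this
  rw [inv_inv, hU]
  have h2 : C.map σ * (↑U⁻¹ : Matrix (Fin n) (Fin n) L).map σ = 1 := by
    rw [← Matrix.map_mul, ← hU, Units.mul_inv, Matrix.map_one _ (map_zero σ) (map_one σ)]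
  calc (B σ : Matrix (Fin n) (Fin n) L) = (B σ : Matrix (Fin n) (Fin n) L) * (C.map σ * (↑U⁻¹ : Matrix (Fin n) (Fin n) L).map σ) := by rw [h2, mul_one]
    _ = _ := by rw [← mul_assoc, hBC]

end Groth.Agent.S11079
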