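import Groth.Statements.S11091
import Mathlib
import Groth.Agent.Adic.FiniteModule

set_option autoImplicit false
set_option linter.style.haveILetI false
universe u
attribute [local instance] FractionRing.liftAlgebra
open CAlg

namespace Groth.Agent.S11091

/-- Let A be a complete discrete valuation ring and B a Dedekind domain which is a finite torsion-free
A-algebra whose fraction field is separable over that of A (the integral closure of A in a finite
separable extension E of the fraction field F). Then B has exactly one maximal ideal; equivalently,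
since the discrete valuations of E extending a multiple of the valuation of F correspond to the
nonzero primes of B, the valuation of F extends uniquely to E, and B is a complete discrete
valuation ring. -/
theorem result (A B : Type u) [CommRing A] [IsDomain A] [IsDiscreteValuationRing A]
    [IsAdicComplete (IsLocalRing.maximalIdeal A) A]
    [CommRing B] [IsDedekindDomain B] [Algebra A B] [Module.Finite A B] [Module.IsTorsionFree A B]
    [Algebra.IsSeparable (FractionRing A) (FractionRing B)] :
    ∃! M : Ideal B, M.IsMaximal := by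
  classical
  set mA := IsLocalRing.maximalIdeal A
  set J : Ideal B := mA.map (algebraMap A B) with hJ
  haveI : IsAdicComplete mA B := Groth.Agent.Adic.FiniteModule.isAdicComplete_of_finite
  haveI : IsAdicComplete J B := (IsAdicComplete.map_algebraMap_iff _ _).mpr inferInstance
  have hjac : J ≤ (⊥ : Ideal B).jacobson := IsAdicComplete.le_jacobson_bot J
  obtain ⟨M, hM⟩ := Ideal.exists_maximal B
  refine ⟨M, hM, fun N hN => ?_⟩
  by_contra hne
  have hJle : ∀ (P : Ideal B), P.IsMaximal → J ≤ P := fun P hP => hjac.trans (sInf_le ⟨bot_le, hP⟩)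
  obtain ⟨x, hxN, hxM⟩ := SetLike.not_le_iff_exists.mp (fun h : N ≤ M => hne (hN.eq_of_le hM.ne_top h))
  haveI : IsScalarTower A B (B ⧸ J) := inferInstance
  haveI : Module.Finite A (B ⧸ J) := Module.Finite.of_surjective (Ideal.Quotient.mkₐ A J).toLinearMap (Ideal.Quotient.mkₐ_surjective A J)
  haveI : IsArtinianRing (A ⧸ mA) := inferInstanceAs (IsArtinianRing (IsLocalRing.ResidueField A))
  haveI : Module.Finite (A ⧸ mA) (B ⧸ mA.map (algebraMap A B)) := Module.Finite.of_restrictScalars_finite A (A ⧸ mA) (B ⧸ mA.map (algebraMap A B))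
  haveI : IsArtinianRing (B ⧸ J) := IsArtinianRing.of_finite (A ⧸ mA) (B ⧸ mA.map (algebraMap A B))
  obtain ⟨k, y, hy⟩ := IsArtinian.exists_pow_succ_smul_dvd (Ideal.Quotient.mk J x) (1 : B ⧸ J)
  obtain ⟨y, rfl⟩ := Ideal.Quotient.mk_surjective y
  simp only [smul_eq_mul, mul_one, ← map_pow, ← map_mul, Ideal.Quotient.eq] at hy
  have key : ∀ i : ℕ, x ^ k * (x * y) ^ i - x ^ k ∈ J := by
    intro i
    induction i with
    | zero => simp
    | succ i ih =>
      have e : x ^ k * (x * y) ^ (i + 1) - x ^ k = (x * y) * (x ^ k * (x * y) ^ i - x ^ k) + (x ^ k.succ * y - x ^ k) := by rw [Nat.succ_eq_add_one]; ring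
      rw [e]
      exact J.add_mem (J.mul_mem_left _ ih) hy
  set e₀ := (x * y) ^ (k + 1) with he₀
  have hee : e₀ * e₀ - e₀ ∈ J := by
    have : e₀ * e₀ - e₀ = (x * y ^ (k + 1)) * (x ^ k * (x * y) ^ (k + 1) - x ^ k) := by rw [he₀]; ring
    rw [this]
    exact J.mul_mem_left _ (key _)
  have hf : (Polynomial.X ^ 2 - Polynomial.X : Polynomial B).Monic := Polynomial.monic_X_pow_sub (by rw [Polynomial.degree_X]; norm_num)
  obtain ⟨e, he, hee₀⟩ := HenselianRing.is_henselian (R := B) (I := J) (Polynomial.X ^ 2 - Polynomial.X) hf e₀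
    (by simpa [sq] using hee)
    (by
      have h4 : Ideal.Quotient.mk J ((2 * e₀ - 1) * (2 * e₀ - 1)) = 1 := by
        rw [← map_one (Ideal.Quotient.mk J), Ideal.Quotient.eq]
        have : (2 * e₀ - 1) * (2 * e₀ - 1) - 1 = 4 * (e₀ * e₀ - e₀) := by ring
        rw [this]; exact J.mul_mem_left _ hee
      rw [map_mul] at h4
      simpa [Polynomial.derivative_pow] using IsUnit.of_mul_eq_one _ h4)
  have hid : e * (e - 1) = 0 := by
    have := he.eq_zero
    simp [sq] at this
    linear_combination this
  rcases mul_eq_zero.mp hid with h | h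
  · -- e₀ ∈ J, hence x ^ k ∈ M
    rw [h, zero_sub, neg_mem_iff] at hee₀
    apply hxM
    refine hM.isPrime.mem_of_pow_mem k ?_
    have : x ^ k = x ^ k * e₀ - (x ^ k * e₀ - x ^ k) := by ring
    rw [this]
    exact M.sub_mem (M.mul_mem_left _ (hJle M hM hee₀)) (hJle M hM (key _))
  · rw [sub_eq_zero.mp h] at hee₀
    apply hN.ne_top
    rw [Ideal.eq_top_iff_one]
    have : (1 : B) = (1 - e₀) + e₀ := by ring
    rw [this]
    exact N.add_mem (hJle N hN hee₀) (N.pow_mem_of_mem (N.mul_mem_right _ hxN) _ (Nat.succ_pos _))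

end Groth.Agent.S11091
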