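import Groth.Statements.S11125
import Groth.Agent.KInjRes.Hull
import Mathlib.Algebra.Homology.DerivedCategory.KInjective
import Mathlib.Algebra.Homology.HomologySequence

set_option autoImplicit false
universe v u
open CategoryTheory
open CohDer

open CategoryTheory.Limits
namespace Groth.Agent.S11125

/-- In an abelian category, a cochain complex I is K-injective with injective terms if and only if for
every short exact sequence 0 → A → B → C → 0 of cochain complexes whose third term C is acyclic,
every chain map A → I extends to a chain map B → I. -/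
theorem result {A : Type u} [Category.{v} A] [Abelian A]
    (I : CochainComplex A ℤ) :
    (I.IsKInjective ∧ ∀ n : ℤ, Injective (I.X n)) ↔
      ∀ (S : ShortComplex (CochainComplex A ℤ)), S.ShortExact → S.X₃.Acyclic →
        ∀ φ : S.X₁ ⟶ I, ∃ ψ : S.X₂ ⟶ I, S.f ≫ ψ = φ := by
  constructor
  · rintro ⟨hI, hinj⟩ S hS hC φ
    letI := HasDerivedCategory.standard A
    haveI := hS.mono_f
    haveI hm : ∀ n, Mono (S.f.f n) := fun n => inferInstance
    let P := pushout S.f φ
    let i : I ⟶ P := pushout.inr S.f φ
    haveI : Mono i := inferInstance
    have hq : QuasiIso S.f := by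
      rw [quasiIso_iff]
      intro n
      rw [quasiIsoAt_iff_isIso_homologyMap]
      haveI : Mono (HomologicalComplex.homologyMap S.f n) := by
        refine (hS.homology_exact₁ (n - 1) n (by simp)).mono_g ?_
        exact ((HomologicalComplex.exactAt_iff_isZero_homology _ _).1 (hC _)).eq_of_src _ _
      haveI : Epi (HomologicalComplex.homologyMap S.f n) :=
        (hS.homology_exact₂ n).epi_f
          (((HomologicalComplex.exactAt_iff_isZero_homology _ _).1 (hC _)).eq_of_tgt _ _)
      exact isIso_of_mono_of_epi _
    have hsq : IsPushout S.f φ (pushout.inl S.f φ) i := IsPushout.of_hasPushout _ _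
    haveI : QuasiIso i := by
      let T := ShortComplex.mk i (cokernel.π i) (cokernel.condition i)
      have hT : T.ShortExact :=
        { exact := ShortComplex.exact_of_g_is_cokernel _ (cokernelIsCokernel i)
          mono_f := inferInstanceAs (Mono i)
          epi_g := inferInstanceAs (Epi (cokernel.π i)) }
      let e0 : cokernel S.f ≅ cokernel i :=
        { hom := cokernel.map S.f i φ (pushout.inl S.f φ) hsq.w
          inv := cokernel.desc i (pushout.desc (cokernel.π S.f) 0 (by simp)) (pushout.inr_desc _ _ _)
          hom_inv_id := by
            apply coequalizer.hom_ext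
            simp
            exact pushout.inl_desc _ _ _
          inv_hom_id := by
            apply coequalizer.hom_ext
            change cokernel.π i ≫ _ = cokernel.π i ≫ _
            rw [cokernel.π_desc_assoc, Category.comp_id]
            apply pushout.hom_ext
            · rw [pushout.inl_desc_assoc]
              exact cokernel.π_desc _ _ _
            · rw [pushout.inr_desc_assoc, zero_comp]; exact (cokernel.condition i).symm }
      let e : S.X₃ ≅ cokernel i :=
        (hS.gIsCokernel.coconePointUniqueUpToIso (cokernelIsCokernel S.f)) ≪≫ e0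
      have hC' : ∀ k, IsZero (T.X₃.homology k) := fun k =>
        ((HomologicalComplex.exactAt_iff_isZero_homology _ _).1 (hC k)).of_iso
          ((HomologicalComplex.homologyFunctor A _ k).mapIso e).symm
      rw [quasiIso_iff]
      intro n
      rw [quasiIsoAt_iff_isIso_homologyMap]
      haveI : Mono (HomologicalComplex.homologyMap i n) :=
        (hT.homology_exact₁ (n - 1) n (by simp)).mono_g ((hC' _).eq_of_src _ _)
      haveI : Epi (HomologicalComplex.homologyMap i n) :=
        (hT.homology_exact₂ n).epi_f ((hC' _).eq_of_tgt _ _)
      exact isIso_of_mono_of_epi _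
    haveI : IsIso (DerivedCategory.Qh.map ((HomotopyCategory.quotient A (ComplexShape.up ℤ)).map i)) :=
      (NatIso.isIso_map_iff (DerivedCategory.quotientCompQhIso A) i).2
        (inferInstanceAs (IsIso (DerivedCategory.Q.map i)))
    obtain ⟨r₀, hr₀⟩ := (CochainComplex.IsKInjective.Qh_map_bijective
      ((HomotopyCategory.quotient A (ComplexShape.up ℤ)).obj P) I).2
      (inv (DerivedCategory.Qh.map ((HomotopyCategory.quotient A _).map i)))
    obtain ⟨r, rfl⟩ := (HomotopyCategory.quotient A _).map_surjective r₀
    have hir : (HomotopyCategory.quotient A (ComplexShape.up ℤ)).map (i ≫ r) =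
        (HomotopyCategory.quotient A _).map (𝟙 I) := by
      apply (CochainComplex.IsKInjective.Qh_map_bijective _ I).1
      rw [Functor.map_comp, Functor.map_comp, hr₀, IsIso.hom_inv_id,
        CategoryTheory.Functor.map_id, CategoryTheory.Functor.map_id]
    let h := HomotopyCategory.homotopyOfEq _ _ hir
    haveI : ∀ p, Mono (i.f p) := fun p => inferInstance
    let h' : ∀ p q, P.X p ⟶ I.X q := fun p q =>
      haveI := hinj q
      Injective.factorThru (h.hom p q) (i.f p)
    have hh' : i ≫ Homotopy.nullHomotopicMap h' = i ≫ r - 𝟙 I := by
      rw [Homotopy.comp_nullHomotopicMap]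
      ext n
      haveI := hinj n
      have e : (fun p q => i.f p ≫ h' p q) = h.hom := by
        funext p q
        haveI := hinj q
        simp [h', Injective.comp_factorThru]
      rw [e]
      have := h.comm n
      simp only [HomologicalComplex.sub_f_apply]
      rw [this]
      simp [Homotopy.nullHomotopicMap]
    refine ⟨pushout.inl S.f φ ≫ (r - Homotopy.nullHomotopicMap h'), ?_⟩
    rw [pushout.condition_assoc, Preadditive.comp_sub, hh', sub_sub_cancel, Category.comp_id]
  · intro H
    constructor
    · refine ⟨fun {K} f hK => ?_⟩
      haveI : ∀ n, Mono ((CochainComplex.mappingCone.inr (𝟙 K)).f n) := fun n =>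
        (SplitMono.mk ((CochainComplex.mappingCone.snd (𝟙 K)).v n n (add_zero n))
          (by simp)).mono
      let i := CochainComplex.mappingCone.inr (𝟙 K)
      haveI : Mono i := HomologicalComplex.mono_of_mono_f _ fun n => inferInstance
      let S := ShortComplex.mk i (cokernel.π i) (cokernel.condition i)
      have hS : S.ShortExact :=
        { exact := ShortComplex.exact_of_g_is_cokernel _ (cokernelIsCokernel i)
          mono_f := inferInstanceAs (Mono i)
          epi_g := inferInstanceAs (Epi (cokernel.π i)) }
      have hz : ∀ k, IsZero ((CochainComplex.mappingCone (𝟙 K)).homology k) := fun k => by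
        rw [IsZero.iff_id_eq_zero, ← HomologicalComplex.homologyMap_id,
          (CochainComplex.mappingCone.homotopyToZeroOfId K).homologyMap_eq k,
          HomologicalComplex.homologyMap_zero]
      have h3 : S.X₃.Acyclic := fun k => by
        rw [HomologicalComplex.exactAt_iff_isZero_homology]
        exact (hS.homology_exact₃ k (k + 1) rfl).isZero_of_both_zeros ((hz k).eq_of_src _ _)
          (((HomologicalComplex.exactAt_iff_isZero_homology _ _).1 (hK _)).eq_of_tgt _ _)
      obtain ⟨ψ, hψ⟩ := H S hS h3 f
      refine ⟨(Homotopy.ofEq ?_).trans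
        ((((CochainComplex.mappingCone.homotopyToZeroOfId K).compRight ψ).compLeft i).trans
          (Homotopy.ofEq ?_))⟩
      · rw [Category.id_comp]; exact hψ.symm
      · simp
    · intro m
      refine ⟨fun {X Y} g a _ => ?_⟩
      let i := KInjRes.discMap m a
      haveI : ∀ k, Mono (i.f k) := fun k => by
        by_cases h₀ : k = m
        · subst h₀
          have e := KInjRes.discHom_f (m := k) (K := KInjRes.disc k Y)
            (a ≫ (HomologicalComplex.doubleXIso₀ (𝟙 Y) (KInjRes.rel_succ k)).inv)
          rw [Iso.inv_comp_eq] at e
          rw [show i.f k = _ from e]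
          infer_instance
        by_cases h₁ : k = m + 1
        · subst h₁
          have e := KInjRes.discHom_f_succ (m := m) (K := KInjRes.disc m Y)
            (a ≫ (HomologicalComplex.doubleXIso₀ (𝟙 Y) (KInjRes.rel_succ m)).inv)
          rw [Iso.inv_comp_eq, HomologicalComplex.double_d _ _ (KInjRes.succ_ne m)] at e
          rw [show i.f (m + 1) = _ from e]
          simp only [Category.assoc, Category.id_comp, Iso.inv_hom_id_assoc]
          infer_instance
        · exact ⟨fun _ _ _ => (HomologicalComplex.isZero_double_X _ _ k h₀ h₁).eq_of_tgt _ _⟩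
      haveI : Mono i := HomologicalComplex.mono_of_mono_f _ fun n => inferInstance
      let S := ShortComplex.mk i (cokernel.π i) (cokernel.condition i)
      have hS : S.ShortExact :=
        { exact := ShortComplex.exact_of_g_is_cokernel _ (cokernelIsCokernel i)
          mono_f := inferInstanceAs (Mono i)
          epi_g := inferInstanceAs (Epi (cokernel.π i)) }
      have h3 : S.X₃.Acyclic := fun k => by
        rw [HomologicalComplex.exactAt_iff_isZero_homology]
        exact (hS.homology_exact₃ k (k + 1) rfl).isZero_of_both_zeros
          (((HomologicalComplex.exactAt_iff_isZero_homology _ _).1 (KInjRes.acyclic_disc m Y k)).eq_of_src _ _)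
          (((HomologicalComplex.exactAt_iff_isZero_homology _ _).1 (KInjRes.acyclic_disc m X (k + 1))).eq_of_tgt _ _)
      obtain ⟨ψ, hψ⟩ := H S hS h3 (KInjRes.discHom g)
      refine ⟨(HomologicalComplex.doubleXIso₀ (𝟙 Y) (KInjRes.rel_succ m)).inv ≫ ψ.f m, ?_⟩
      have e1 := KInjRes.discHom_f (m := m) (K := I) g
      have e2 := KInjRes.discHom_f (m := m) (K := KInjRes.disc m Y)
        (a ≫ (HomologicalComplex.doubleXIso₀ (𝟙 Y) (KInjRes.rel_succ m)).inv)
      rw [← e1, ← hψ]
      simp only [S, HomologicalComplex.comp_f, i, KInjRes.discMap]
      exact (reassoc_of% e2) (ψ.f m) |>.symm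

end Groth.Agent.S11125
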