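import Groth.Statements.S11126
import Groth.Agent.AbTransfer.Generators
-- import your own Groth.Agent.* helpers here

set_option autoImplicit false
universe w u₁ u₂
open CategoryTheory CategoryTheory.Limits
open CohDer

namespace Groth.Agent.S11126

/-- Let A and B be abelian categories with small hom-sets and all small colimits, B having exact
filtered colimits and a small family of noetherian objects which is separating. Let F : A ⥤ B be
faithful and exact with a right adjoint G preserving filtered colimits. Then A has exact filtered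
colimits and admits a small separating family of noetherian objects. -/
theorem result
    {A : Type u₁} [Category.{w} A] [Abelian A] [HasColimitsOfSize.{w, w} A]
    {B : Type u₂} [Category.{w} B] [Abelian B] [HasColimitsOfSize.{w, w} B] [AB5OfSize.{w, w} B]
    {ι : Type w} (s : ι → B) (hsN : ∀ i, IsNoetherianObject (s i))
    (hsep : ∀ ⦃X Y : B⦄ (f g : X ⟶ Y), (∀ (i : ι) (h : s i ⟶ X), h ≫ f = h ≫ g) → f = g)
    (F : A ⥤ B) (G : B ⥤ A) (adj : F ⊣ G) [F.Additive] [F.Faithful]
    [PreservesFiniteLimits F] [PreservesFiniteColimits F] [PreservesFilteredColimitsOfSize.{w, w} G] :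
    AB5OfSize.{w, w} A ∧
      ∃ (κ : Type w) (t : κ → A), (∀ k, IsNoetherianObject (t k)) ∧
        ∀ ⦃X Y : A⦄ (f g : X ⟶ Y), (∀ (k : κ) (h : t k ⟶ X), h ≫ f = h ≫ g) → f = g := by
  classical
  haveI : IsGrothendieckAbelian.{w} B :=
    { hasSeparator := ⟨⟨∐ s, (isSeparator_sigma _).2 (fun X Y f g h => hsep f g fun i k => h _ ⟨i⟩ k)⟩⟩ }
  haveI hA : AB5OfSize.{w, w} A := Groth.Agent.AbTransfer.ab5 F adj
  haveI : Small.{w} (Groth.Agent.AbTransfer.Cand s G) := Groth.Agent.AbTransfer.small_cand (F := F) s
  refine ⟨hA, Shrink.{w} {k : Groth.Agent.AbTransfer.Cand s G // IsNoetherianObject k.ob},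
    fun k => ((equivShrink _).symm k).1.ob, fun k => ((equivShrink _).symm k).2, ?_⟩
  intro X Y f g h
  refine Groth.Agent.AbTransfer.eq_of_spans adj s hsep f g fun S => ?_
  obtain ⟨k, ⟨e⟩⟩ := Groth.Agent.AbTransfer.exists_cand adj s X S
  obtain ⟨m, hm⟩ := Groth.Agent.AbTransfer.span_part_mono adj s X S
  haveI := Groth.Agent.AbTransfer.span_noeth s hsN (F.obj X) S
  haveI := isNoetherianObject_of_mono m
  haveI := Groth.Agent.AbTransfer.noeth_of_map F (pullback (adj.unit.app X)
    (G.map (Groth.Agent.AbTransfer.span s (F.obj X) S).arrow))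
  have hk : IsNoetherianObject k.ob := isNoetherianObject_of_mono e.hom
  have key : ∀ (k : {k : Groth.Agent.AbTransfer.Cand s G // IsNoetherianObject k.ob}) (l : k.1.ob ⟶ X),
      l ≫ f = l ≫ g := by
    intro k
    obtain ⟨q, rfl⟩ := (equivShrink.{w} {k : Groth.Agent.AbTransfer.Cand s G // IsNoetherianObject k.ob}).symm.surjective k
    exact h q
  have h1 := key ⟨k, hk⟩
  have h2 := h1 (e.hom ≫ pullback.fst _ _)
  rw [Category.assoc, Category.assoc] at h2
  exact (cancel_epi e.hom).1 h2

end Groth.Agent.S11126
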