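import Groth.Statements.S11128
import Groth.Agent.AbTransfer.Generators
-- import your own Groth.Agent.* helpers here

set_option autoImplicit false
universe w u₁ u₂
open CategoryTheory CategoryTheory.Limits
open CohDer

namespace Groth.Agent.S11128

/-- Suppose A is an abelian category that has small hom-sets and all small colimits, B is a Grothendieck
abelian category, and F : A ⥤ B is a faithful exact functor with a right adjoint G preserving
filtered colimits. Then A is a Grothendieck abelian category. -/
theorem result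
    {A : Type u₁} [Category.{w} A] [Abelian A] [HasColimitsOfSize.{w, w} A]
    {B : Type u₂} [Category.{w} B] [Abelian B] [IsGrothendieckAbelian.{w} B]
    (F : A ⥤ B) (G : B ⥤ A) (adj : F ⊣ G) [F.Additive] [F.Faithful]
    [PreservesFiniteLimits F] [PreservesFiniteColimits F] [PreservesFilteredColimitsOfSize.{w, w} G] :
    IsGrothendieckAbelian.{w} A := by
  classical
  obtain ⟨S₀, hS₀⟩ := (IsGrothendieckAbelian.hasSeparator.{w} (C := B)).hasSeparator
  let s : PUnit.{w + 1} → B := fun _ => S₀
  have hsep : ∀ ⦃X Y : B⦄ (f g : X ⟶ Y), (∀ (i : PUnit.{w + 1}) (h : s i ⟶ X), h ≫ f = h ≫ g) → f = g :=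
    fun X Y f g h => hS₀.def f g (h PUnit.unit)
  haveI hA : AB5OfSize.{w, w} A := Groth.Agent.AbTransfer.ab5 F adj
  haveI : Small.{w} (Groth.Agent.AbTransfer.Cand s G) := Groth.Agent.AbTransfer.small_cand (F := F) s
  let t : Shrink.{w} (Groth.Agent.AbTransfer.Cand s G) → A := fun k => ((equivShrink _).symm k).ob
  refine { hasSeparator := ⟨⟨∐ t, (isSeparator_sigma _).2 ?_⟩⟩ }
  intro X Y f g h
  refine Groth.Agent.AbTransfer.eq_of_spans adj s hsep f g fun S => ?_
  obtain ⟨k, ⟨e⟩⟩ := Groth.Agent.AbTransfer.exists_cand adj s X S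
  have key : ∀ (k : Groth.Agent.AbTransfer.Cand s G) (l : k.ob ⟶ X), l ≫ f = l ≫ g := by
    intro k
    obtain ⟨q, rfl⟩ := (equivShrink.{w} (Groth.Agent.AbTransfer.Cand s G)).symm.surjective k
    exact h (t q) ⟨q⟩
  have h1 := key k
  have h2 := h1 (e.hom ≫ pullback.fst _ _)
  rw [Category.assoc, Category.assoc] at h2
  exact (cancel_epi e.hom).1 h2

end Groth.Agent.S11128
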