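import Groth.Statements.S1113
import Groth.Agent.TruncFactor.Basic

set_option autoImplicit false
universe w v u
open CategoryTheory CategoryTheory.Limits
open CohDer

namespace Groth.Agent.S1113

/-- Let K : ℕᵒᵖ ⥤ CochainComplex A ℤ be a sequence of cochain maps … → K₂ → K₁ → K₀ in an abelian
category with Hⁱ(K₀) = 0 for i < 0 and such that for every j < n the map Hʲ(Kⱼ₊₁) → Hʲ(Kⱼ) is zero.
Then in the derived category the composite Kₙ → K₀ factors through the canonical truncation Kₙ →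
τ_{≥ n}Kₙ. -/
theorem result {A : Type u} [Category.{v} A] [Abelian A] [HasDerivedCategory.{w} A]
    (K : ℕᵒᵖ ⥤ CochainComplex A ℤ) (n : ℕ)
    (h0 : ∀ i : ℤ, i < 0 → IsZero ((K.obj (Opposite.op 0)).homology i))
    (hz : ∀ j : ℕ, j < n → HomologicalComplex.homologyMap (K.map (homOfLE (Nat.le_succ j)).op) (j : ℤ) = 0) :
    ∃ φ : DerivedCategory.Q.obj ((K.obj (Opposite.op n)).truncGE (n : ℤ)) ⟶ DerivedCategory.Q.obj (K.obj (Opposite.op 0)),
      DerivedCategory.Q.map ((K.obj (Opposite.op n)).πTruncGE (n : ℤ)) ≫ φ = DerivedCategory.Q.map (K.map (homOfLE (Nat.zero_le n)).op) := by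
  let H := fun i : ℤ => DerivedCategory.homologyFunctor A i
  let Q := (DerivedCategory.Q : CochainComplex A ℤ ⥤ DerivedCategory A)
  have key : ∀ j : ℕ, j ≤ n → ∃ (Z : DerivedCategory A) (b : Q.obj (K.obj (Opposite.op j)) ⟶ Z)
      (a : Z ⟶ Q.obj (K.obj (Opposite.op 0))),
      Z.IsGE (j : ℤ) ∧ b ≫ a = Q.map (K.map (homOfLE (Nat.zero_le j)).op) := by
    intro j
    induction j with
    | zero =>
      refine fun _ => ⟨_, 𝟙 _, 𝟙 _, (DerivedCategory.isGE_iff _ _).2 fun i hi => ?_, ?_⟩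
      · exact (h0 i (by omega)).of_iso ((DerivedCategory.homologyFunctorFactors A i).app (K.obj (Opposite.op 0)))
      · rw [show homOfLE (Nat.zero_le 0) = 𝟙 (0 : ℕ) from Subsingleton.elim _ _, op_id, CategoryTheory.Functor.map_id,
          CategoryTheory.Functor.map_id, Category.comp_id]
    | succ j ih =>
      intro hj
      obtain ⟨Z, b, a, hZ, hab⟩ := ih (by omega)
      obtain ⟨T, hT, hobj, h₁, h₃⟩ := Groth.Agent.DerAdj.exists_truncTriangle (Q.obj (K.obj (Opposite.op (j + 1)))) (((j + 1 : ℕ) : ℤ))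
      obtain ⟨T₁, T₂, T₃, f, g, w⟩ := T
      subst hobj
      have hk : (H (j : ℤ)).map (Q.map (K.map (homOfLE (Nat.le_succ j)).op)) = 0 := by
        rw [← cancel_mono ((DerivedCategory.homologyFunctorFactors A (j : ℤ)).hom.app _), zero_comp]
        refine ((DerivedCategory.homologyFunctorFactors A (j : ℤ)).hom.naturality _).trans ?_
        exact (congrArg (_ ≫ ·) (hz j (by omega))).trans comp_zero
      haveI := h₁
      obtain ⟨l, hl⟩ := Pretriangulated.Triangle.yoneda_exact₂ _ hT (Q.map (K.map (homOfLE (Nat.le_succ j)).op) ≫ b)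
        (Groth.Agent.TruncFactor.eq_zero_of_homology (j : ℤ) (DerivedCategory.TStructure.t.isLE_of_le T₁ (((j + 1 : ℕ) : ℤ) - 1) _ (by omega)) hZ _ (by
          rw [Functor.map_comp, Functor.map_comp, hk, zero_comp, comp_zero]))
      refine ⟨T₃, g, l ≫ a, h₃, ?_⟩
      refine (Category.assoc _ _ _).symm.trans ((congrArg (· ≫ a) hl.symm).trans ?_)
      show (Q.map _ ≫ b) ≫ a = _
      rw [Category.assoc, hab, ← Functor.map_comp, ← Functor.map_comp]
      rfl
  obtain ⟨Z, b, a, hZ, hab⟩ := key n le_rfl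
  obtain ⟨ψ, hψ⟩ := Groth.Agent.TruncFactor.exists_desc_truncGE _ hZ (K.obj (Opposite.op n)) b
  exact ⟨ψ ≫ a, by rw [← Category.assoc, hψ, hab]⟩

end Groth.Agent.S1113
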