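import Groth.Statements.S11135
import Mathlib.RingTheory.IntegralClosure.IntegrallyClosed
import Mathlib.Algebra.Ring.Subring.Basic
import Mathlib.RingTheory.Localization.FractionRing
import Mathlib.Algebra.Ring.Pi
import Mathlib.Data.Fintype.Powerset

set_option autoImplicit false
universe u
open InvTh

namespace Groth.Agent.S11135

theorem coord_int {E D : Type*} [CommRing E] [IsDomain E] [CommRing D] [IsDomain D] [IsIntegrallyClosed D]
    (K L : Type*) [Field K] [Algebra E K] [IsFractionRing E K] [Field L] [Algebra D L] [IsFractionRing D L]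
    (ψ : E →+* D) (hψ : ∀ z, z ≠ 0 → ψ z ≠ 0) (u v : E) (hv : v ≠ 0)
    (hq : IsIntegral E (algebraMap E K u / algebraMap E K v)) :
    ∃ c : D, ψ v * c = ψ u := by
  have hinj : Function.Injective ((algebraMap D L).comp ψ) := by
    rw [injective_iff_map_eq_zero]
    intro z hz
    by_contra h
    rw [RingHom.comp_apply, map_eq_zero_iff _ (IsFractionRing.injective D L)] at hz
    exact hψ z h hz
  obtain ⟨P, hP, hPq⟩ := hq
  obtain ⟨Φ, hΦ⟩ : ∃ Φ : K →+* L, ∀ z, Φ (algebraMap E K z) = algebraMap D L (ψ z) :=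
    ⟨IsFractionRing.lift hinj, fun z => IsFractionRing.lift_algebraMap hinj z⟩
  have hint : IsIntegral D (Φ (algebraMap E K u / algebraMap E K v)) := by
    refine ⟨P.map ψ, hP.map ψ, ?_⟩
    rw [Polynomial.eval₂_map, show (algebraMap D L).comp ψ = Φ.comp (algebraMap E K) from
      RingHom.ext fun z => (hΦ z).symm, ← Polynomial.hom_eval₂, hPq, map_zero]
  obtain ⟨c, hc⟩ := IsIntegrallyClosed.isIntegral_iff.mp hint
  refine ⟨c, IsFractionRing.injective D L ?_⟩
  rw [map_div₀, hΦ, hΦ] at hc
  have hb' : algebraMap D L (ψ v) ≠ 0 :=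
    fun h => hψ v hv ((map_eq_zero_iff _ (IsFractionRing.injective D L)).mp h)
  rw [map_mul, hc, mul_div_cancel₀ _ hb']


/-- Suppose S is the product of a finite family of integrally closed domains (a finite product of normal
domains), R is any commutative ring, and F is a family of ring maps S → R each carrying
non-zero-divisors of S to non-zero-divisors of R. Then the subring A of S on which all members of F
coincide (a ∈ A iff f(a) = f'(a) for all f, f' in F) is ring-isomorphic to a product of finitely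
many integrally closed domains. -/
theorem result {ι : Type u} [Fintype ι] (D : ι → Type u)
    [∀ i, CommRing (D i)] [∀ i, IsDomain (D i)] [∀ i, IsIntegrallyClosed (D i)]
    (R : Type u) [CommRing R] (F : Set ((Π i, D i) →+* R))
    (hF : ∀ f ∈ F, ∀ s ∈ nonZeroDivisors (Π i, D i), f s ∈ nonZeroDivisors R)
    (A : Subring (Π i, D i)) (hA : ∀ a, a ∈ A ↔ ∀ f ∈ F, ∀ f' ∈ F, f a = f' a) :
    ∃ (κ : Type u) (_ : Fintype κ) (E : κ → Type u) (_ : ∀ j, CommRing (E j)) (_ : ∀ j, IsDomain (E j))
      (_ : ∀ j, IsIntegrallyClosed (E j)), Nonempty (A ≃+* Π j, E j) := by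
  classical
  let ind : Finset ι → (Π i, D i) := fun J i => if i ∈ J then 1 else 0
  have hnzd : ∀ s : Π i, D i, (∀ i, s i ≠ 0) → s ∈ nonZeroDivisors (Π i, D i) := fun s hs =>
    mem_nonZeroDivisors_iff_right.mpr fun z hz => funext fun i => (mul_eq_zero.mp (congrFun hz i)).resolve_right (hs i)
  let supp : (Π i, D i) → Finset ι := fun a => Finset.univ.filter fun i => a i ≠ 0
  have hsupp : ∀ a i, i ∈ supp a ↔ a i ≠ 0 := fun a i => by simp [supp]
  -- cancellation by an element completed to a non-zero-divisor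
  have hcancel : ∀ (a : Π i, D i), ∀ f ∈ F, ∀ r : R, f a * r = 0 → f (1 - ind (supp a)) * r = 0 → r = 0 := by
    intro a f hf r h1 h2
    have hs := hF f hf (a + (1 - ind (supp a))) (hnzd _ fun i => by
      by_cases h : a i = 0 <;> simp [ind, supp, h])
    refine mem_nonZeroDivisors_iff_right.mp hs r ?_
    rw [map_add, mul_comm, add_mul, h1, h2, add_zero]
  have hae : ∀ a, a * ind (supp a) = a := fun a => funext fun i => by
    by_cases h : a i = 0 <;> simp [ind, supp, h]
  have hidem : ∀ J, ind J * (1 - ind J) = 0 := fun J => funext fun i => by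
    by_cases h : i ∈ J <;> simp [ind, h]
  have hsuppA : ∀ a ∈ A, ind (supp a) ∈ A := by
    intro a ha
    rw [hA]
    intro f hf g hg
    have e1 : f a * g (ind (supp a)) = f a := by
      rw [(hA a).mp ha f hf g hg, ← map_mul, hae]
    have e2 : f (1 - ind (supp a)) * g (ind (supp a)) = 0 := by
      refine hcancel a g hg _ ?_ ?_
      · rw [mul_left_comm, ← map_mul g, hae, ← (hA a).mp ha f hf g hg, ← map_mul, sub_mul, one_mul, mul_comm (ind _) a, hae, sub_self, map_zero]
      · rw [mul_left_comm, ← map_mul, mul_comm (1 - _), hidem, map_zero, mul_zero]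
    refine sub_eq_zero.mp (hcancel a f hf _ ?_ ?_)
    · rw [mul_sub, ← map_mul, hae, e1, sub_self]
    · rw [mul_sub, ← map_mul, mul_comm (1 - _), hidem, map_zero, e2, sub_self]
  -- the minimal idempotents of `A`
  let 𝒥 : Finset (Finset ι) := Finset.univ.filter fun J => ind J ∈ A
  have h𝒥 : ∀ J, J ∈ 𝒥 ↔ ind J ∈ A := fun J => by simp [𝒥]
  have hinter : ∀ J K, ind (J ∩ K) = ind J * ind K := fun J K => funext fun i => by
    by_cases h : i ∈ J <;> by_cases h' : i ∈ K <;> simp [ind, h, h']
  have hcompl : ∀ J, ind Jᶜ = 1 - ind J := fun J => funext fun i => by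
    by_cases h : i ∈ J <;> simp [ind, h]
  have huniv : ind Finset.univ = 1 := funext fun i => by simp [ind]
  let cls : ι → Finset ι := fun i => (𝒥.filter (i ∈ ·)).inf id
  have hcls : ∀ i, ind (cls i) ∈ A := fun i =>
    Finset.inf_induction (p := fun J => ind J ∈ A) (by rw [Finset.top_eq_univ, huniv]; exact one_mem A)
      (fun J hJ K hK => by rw [Finset.inf_eq_inter, hinter]; exact mul_mem hJ hK)
      (fun J hJ => (h𝒥 J).mp (Finset.mem_filter.mp hJ).1)
  have hmem : ∀ i, i ∈ cls i := fun i => by simp [cls, Finset.mem_inf]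
  have hmin : ∀ i J, ind J ∈ A → i ∈ J → cls i ⊆ J := fun i J hJ hi =>
    Finset.inf_le (f := id) (Finset.mem_filter.mpr ⟨(h𝒥 J).mpr hJ, hi⟩)
  have hpart : ∀ i j, j ∈ cls i → cls j = cls i := by
    intro i j hj
    refine le_antisymm (hmin j _ (hcls i) hj) (hmin i _ (hcls j) ?_)
    by_contra hi
    have : cls i ⊆ cls i ∩ (cls j)ᶜ := hmin i _ (by rw [hinter, hcompl]; exact mul_mem (hcls i) (sub_mem (one_mem A) (hcls j))) (by simp [hi, hmem i])
    exact (Finset.mem_compl.mp (Finset.mem_inter.mp (this hj)).2) (hmem j)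
  let κ := {J : Finset ι // J ∈ Finset.univ.image cls}
  have hκ : ∀ (J : κ) (i : ι), i ∈ J.1 → cls i = J.1 := fun J i hi => by
    obtain ⟨i₀, -, h⟩ := Finset.mem_image.mp J.2
    rw [← h] at hi ⊢
    exact hpart _ _ hi
  have hκA : ∀ J : κ, ind J.1 ∈ A := fun J => by
    obtain ⟨i₀, -, h⟩ := Finset.mem_image.mp J.2
    rw [← h]; exact hcls i₀
  let π : ∀ J : κ, (Π i, D i) →+* Π i : {i // i ∈ J.1}, D i.1 := fun J => RingHom.pi fun i => Pi.evalRingHom D i.1
  have hπ : ∀ J a (i : {i // i ∈ J.1}), π J a i = a i.1 := fun _ _ _ => rfl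
  let E : κ → Type u := fun J => ↥(A.map (π J))
  -- a non-zero element of a factor vanishes nowhere
  have key : ∀ (J : κ) (x : E J), x ≠ 0 → ∃ a ∈ A, π J a = x.1 ∧ (∀ i ∈ J.1, a i ≠ 0) ∧ supp a = J.1 := by
    intro J x hx
    obtain ⟨a, ha, hax⟩ := Subring.mem_map.mp x.2
    have hsub : supp (a * ind J.1) ⊆ J.1 := fun i hi => by
      rw [hsupp] at hi
      by_contra h
      simp [ind, h] at hi
    obtain ⟨i, hi⟩ : (supp (a * ind J.1)).Nonempty := by
      rw [Finset.nonempty_iff_ne_empty]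
      intro h
      refine hx (Subtype.ext (funext fun i => ?_))
      have := Finset.eq_empty_iff_forall_notMem.mp h i.1
      rw [hsupp, not_not, Pi.mul_apply] at this
      rw [← hax]
      show a i.1 = 0
      simpa [ind, i.2] using this
    have h2 := hmin i _ (hsuppA _ (mul_mem ha (hκA J))) hi
    rw [hκ J i (hsub hi)] at h2
    have heq : supp (a * ind J.1) = J.1 := le_antisymm hsub h2
    refine ⟨a * ind J.1, mul_mem ha (hκA J), ?_, fun i hi => (hsupp _ i).mp (by rw [heq]; exact hi), heq⟩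
    rw [← hax]
    funext i
    simp [hπ, ind, i.2]
  have hne : ∀ (J : κ) (x : E J) (i : {i // i ∈ J.1}), x ≠ 0 → x.1 i ≠ 0 := fun J x i hx => by
    obtain ⟨a, -, hax, ha, -⟩ := key J x hx
    rw [← hax]
    exact ha i.1 i.2
  have hdom : ∀ J, IsDomain (E J) := fun J => by
    obtain ⟨i₀, -, hJ⟩ := Finset.mem_image.mp J.2
    have i₁ : {i // i ∈ J.1} := ⟨i₀, hJ ▸ hmem i₀⟩
    haveI : Nontrivial (E J) := ⟨⟨0, 1, fun h => zero_ne_one (congrFun (congrArg Subtype.val h) i₁)⟩⟩
    haveI : NoZeroDivisors (E J) := ⟨fun {x y} h => by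
      by_contra hc
      push Not at hc
      exact (mul_ne_zero (hne J x i₁ hc.1) (hne J y i₁ hc.2)) (congrFun (congrArg Subtype.val h) i₁)⟩
    exact NoZeroDivisors.to_isDomain _
  have hic : ∀ J, IsIntegrallyClosed (E J) := fun J => by
    haveI := hdom J
    refine (isIntegrallyClosed_iff (FractionRing (E J))).mpr fun {q} hq => ?_
    obtain ⟨u, v, hv, rfl⟩ := IsFractionRing.div_surjective (E J) q
    obtain ⟨b, hb, hbv, hb0, hbs⟩ := key J v (nonZeroDivisors.ne_zero hv)
    obtain ⟨a, ha, hau⟩ := Subring.mem_map.mp u.2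
    have hcoord : ∀ i : ι, ∃ c : D i, i ∈ J.1 → b i * c = a i := by
      intro i
      by_cases hi : i ∈ J.1
      swap
      · exact ⟨0, fun h => absurd h hi⟩
      let ψ : E J →+* D i := (Pi.evalRingHom (fun i : {i // i ∈ J.1} => D i.1) ⟨i, hi⟩).comp (A.map (π J)).subtype
      obtain ⟨c, hc⟩ := coord_int (FractionRing (E J)) (FractionRing (D i)) ψ (fun z hz => hne J z ⟨i, hi⟩ hz) u v (nonZeroDivisors.ne_zero hv) hq
      refine ⟨c, fun _ => ?_⟩
      have hbi : ψ v = b i := by
        show v.1 ⟨i, hi⟩ = b i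
        rw [← hbv, hπ]
      have hai : ψ u = a i := by
        show u.1 ⟨i, hi⟩ = a i
        rw [← hau, hπ]
      rw [← hbi, ← hai]
      exact hc
    choose c hc using hcoord
    have hbc : b * (c * ind J.1) = a * ind J.1 := funext fun i => by
      by_cases h : i ∈ J.1
      · simp [ind, h, hc i h]
      · simp [ind, h]
    have hcA : c * ind J.1 ∈ A := by
      rw [hA]
      intro f hf g hg
      refine sub_eq_zero.mp (hcancel b f hf _ ?_ ?_)
      · rw [mul_sub]
        nth_rw 2 [(hA b).mp hb f hf g hg]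
        rw [← map_mul, ← map_mul, hbc, (hA _).mp (mul_mem ha (hκA J)) f hf g hg, sub_self]
      · rw [hbs, mul_sub, ← map_mul, mul_comm (1 - ind J.1), mul_assoc, hidem, mul_zero, map_zero,
          (hA _).mp (sub_mem (one_mem A) (hκA J)) f hf g hg, ← map_mul, mul_comm (1 - ind J.1), mul_assoc, hidem,
          mul_zero, map_zero, sub_self]
    refine ⟨⟨π J (c * ind J.1), Subring.mem_map.mpr ⟨_, hcA, rfl⟩⟩, ?_⟩
    have hv' : algebraMap (E J) (FractionRing (E J)) v ≠ 0 :=
      fun h => nonZeroDivisors.ne_zero hv ((map_eq_zero_iff _ (IsFractionRing.injective _ _)).mp h)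
    rw [eq_div_iff hv', ← map_mul]
    congr 1
    refine Subtype.ext ?_
    show π J (c * ind J.1) * v.1 = u.1
    rw [← hbv, ← map_mul, mul_comm (c * _), hbc, ← hau]
    funext i
    simp [hπ, ind, i.2]
  let Ψ : A →+* Π J, E J := RingHom.pi fun J => ((π J).comp A.subtype).codRestrict (A.map (π J)) fun a => Subring.mem_map.mpr ⟨a.1, a.2, rfl⟩
  refine ⟨κ, inferInstance, E, fun J => inferInstance, hdom, hic, ⟨RingEquiv.ofBijective Ψ ⟨?_, ?_⟩⟩⟩
  · intro a a' h
    refine Subtype.ext (funext fun i => ?_)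
    exact congrFun (congrArg Subtype.val (congrFun h ⟨cls i, Finset.mem_image_of_mem cls (Finset.mem_univ i)⟩)) ⟨i, hmem i⟩
  · intro x
    choose a ha hax using fun J : κ => Subring.mem_map.mp (x J).2
    refine ⟨⟨∑ J, a J * ind J.1, sum_mem fun J _ => mul_mem (ha J) (hκA J)⟩, funext fun J => Subtype.ext (funext fun i => ?_)⟩
    show (∑ K, a K * ind K.1) i.1 = _
    rw [Finset.sum_apply, Finset.sum_eq_single J, ← hax J]
    · simp [hπ, ind, i.2]
    · intro K _ hK
      have : i.1 ∉ K.1 := fun h => hK (Subtype.ext ((hκ K _ h).symm.trans (hκ J _ i.2)))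
      simp [ind, this]
    · simp

end Groth.Agent.S11135
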