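import Groth.Statements.S11141
import Groth.Agent.HopfRep.Corep
import Mathlib

set_option autoImplicit false
universe u
open TensorProduct
open InvTh

namespace Groth.Agent.S11141

open TensorProduct

theorem exists_normal_decomposition {A : Type u} [CommRing A] {ι : Type u} [Fintype ι] (D : ι → Type u)
    [∀ i, CommRing (D i)] [∀ i, IsDomain (D i)] [∀ i, IsIntegrallyClosed (D i)]
    (φ : A →+* Π i, D i) (hφ : Function.Injective φ)
    (hidem : ∀ b : A, ∃ e : A, ∀ i, (φ b i = 0 → φ e i = 1) ∧ (φ b i ≠ 0 → φ e i = 0))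
    (hsat : ∀ (s : Π i, D i) (a b : A), (∀ i, φ b i ≠ 0) → s * φ b = φ a → ∃ c, φ c = s) :
    ∃ (κ : Type u) (_ : Fintype κ) (E : κ → Type u) (_ : ∀ j, CommRing (E j)) (_ : ∀ j, IsDomain (E j))
      (_ : ∀ j, IsIntegrallyClosed (E j)), Nonempty (A ≃+* Π j, E j) := by
  classical
  let π : ∀ i, A →+* D i := fun i => (Pi.evalRingHom D i).comp φ
  have hπ : ∀ i a, π i a = φ a i := fun _ _ => rfl
  let P : ι → Ideal A := fun i => RingHom.ker (π i)
  let κ : Type u := Set.range P
  have hfin : Finite κ := Finite.of_fintype _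
  let cls : κ → Ideal A := Subtype.val
  have hprime : ∀ c : κ, (cls c).IsPrime := by
    rintro ⟨_, i, rfl⟩
    exact RingHom.ker_isPrime _
  have hcop : Pairwise fun c d : κ => IsCoprime (cls c) (cls d) := by
    have key : ∀ i j, ∀ b, b ∈ P i → b ∉ P j → IsCoprime (P i) (P j) := by
      intro i j b hbi hbj
      obtain ⟨e, he⟩ := hidem b
      rw [Ideal.isCoprime_iff_exists]
      refine ⟨1 - e, ?_, e, ?_, by ring⟩
      · simp [P, π, (he i).1 hbi]
      · exact RingHom.mem_ker.2 ((he j).2 hbj)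
    rintro ⟨_, i, rfl⟩ ⟨_, j, rfl⟩ hne
    show IsCoprime (P i) (P j)
    by_cases h : P i ≤ P j
    · have hlt : ¬ P j ≤ P i := fun h' => hne (Subtype.ext (le_antisymm h h'))
      obtain ⟨b, hbj, hbi⟩ := SetLike.not_le_iff_exists.1 hlt
      exact (key j i b hbj hbi).symm
    · obtain ⟨b, hbi, hbj⟩ := SetLike.not_le_iff_exists.1 h
      exact key i j b hbi hbj
  have hinf : ⨅ c, cls c = ⊥ := by
    refine (Submodule.eq_bot_iff _).2 fun x hx => hφ ?_
    rw [map_zero]
    funext i
    exact RingHom.mem_ker.1 (Submodule.mem_iInf _ |>.1 hx ⟨_, i, rfl⟩)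
  let e₀ : A ≃+* Π c : κ, A ⧸ cls c :=
    ((RingEquiv.quotientBot A).symm.trans (Ideal.quotEquivOfEq hinf.symm)).trans
      (Ideal.quotientInfRingEquivPiQuotient cls hcop)
  refine ⟨κ, Fintype.ofFinite κ, fun c => A ⧸ cls c, fun c => inferInstance,
    fun c => (Ideal.Quotient.isDomain_iff_prime _).2 (hprime c), fun c => ?_, ⟨e₀⟩⟩
  have := hprime c
  rw [isIntegrallyClosed_iff (FractionRing (A ⧸ cls c))]
  intro x hx
  obtain ⟨a₀, b₀, hb₀, rfl⟩ := IsFractionRing.div_surjective (A := A ⧸ cls c) x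
  obtain ⟨a, rfl⟩ := Ideal.Quotient.mk_surjective a₀
  obtain ⟨b, rfl⟩ := Ideal.Quotient.mk_surjective b₀
  have hb : b ∉ cls c := fun h => nonZeroDivisors.ne_zero hb₀ (Ideal.Quotient.eq_zero_iff_mem.2 h)
  have hloc : ∀ i, P i = cls c → ∃ d : D i, d * φ b i = φ a i := by
    intro i hi
    let ψ : A ⧸ cls c →+* D i := Ideal.Quotient.lift _ (π i) fun y hy => RingHom.mem_ker.1 (hi.ge hy : y ∈ P i)
    have hψ : Function.Injective ψ := by
      refine (injective_iff_map_eq_zero ψ).2 fun y hy => ?_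
      obtain ⟨y, rfl⟩ := Ideal.Quotient.mk_surjective y
      exact Ideal.Quotient.eq_zero_iff_mem.2 (hi.le (RingHom.mem_ker.2 hy))
    let Ψ : FractionRing (A ⧸ cls c) →+* FractionRing (D i) :=
      IsFractionRing.map hψ
    have hΨ : ∀ y, Ψ (algebraMap _ _ y) = algebraMap (D i) (FractionRing (D i)) (ψ y) := fun y =>
      IsLocalization.map_eq _ y
    have hint := IsIntegral.map_of_comp_eq ψ Ψ (RingHom.ext fun y => (hΨ y).symm) hx
    obtain ⟨d, hd⟩ := (isIntegrallyClosed_iff (FractionRing (D i))).1 inferInstance hint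
    rw [map_div₀, hΨ, hΨ] at hd
    have hbne : φ b i ≠ 0 := fun h => hb (hi.le (RingHom.mem_ker.2 h))
    have hbne' : algebraMap (D i) (FractionRing (D i)) (φ b i) ≠ 0 :=
      (map_ne_zero_iff _ (IsFractionRing.injective _ _)).2 hbne
    refine ⟨d, IsFractionRing.injective (D i) (FractionRing (D i)) ?_⟩
    rw [map_mul, hd]
    exact div_mul_cancel₀ _ hbne'
  obtain ⟨ε, hε⟩ : ∃ ε : A, ∀ d : κ, Ideal.Quotient.mk (cls d) ε = if d = c then 1 else 0 := by
    obtain ⟨ε, hε⟩ := (e₀.surjective fun d => if d = c then 1 else 0)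
    exact ⟨ε, fun d => congrFun hε d⟩
  have hε1 : ∀ i, P i = cls c → φ ε i = 1 := by
    intro i hi
    have h := hε ⟨P i, i, rfl⟩
    rw [if_pos (Subtype.ext hi), ← map_one (Ideal.Quotient.mk (cls ⟨P i, i, rfl⟩)), Ideal.Quotient.eq] at h
    have h2 : π i (ε - 1) = 0 := RingHom.mem_ker.1 h
    rw [map_sub, map_one, sub_eq_zero] at h2
    exact h2
  have hε0 : ∀ i, P i ≠ cls c → φ ε i = 0 := by
    intro i hi
    have h := hε ⟨P i, i, rfl⟩
    rw [if_neg (fun h => hi (congrArg Subtype.val h)), Ideal.Quotient.eq_zero_iff_mem] at h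
    exact RingHom.mem_ker.1 h
  choose d hd using hloc
  obtain ⟨z, hz⟩ := hsat (fun i => if h : P i = cls c then d i h else 0) (a * ε) (b * ε + (1 - ε)) (fun i => by
    by_cases h : P i = cls c
    · simp only [map_add, map_mul, map_sub, map_one, Pi.add_apply, Pi.mul_apply, Pi.sub_apply, Pi.one_apply,
        hε1 i h, mul_one, sub_self, add_zero]
      exact fun h' => hb (h.le (RingHom.mem_ker.2 h'))
    · simp [hε0 i h]) (funext fun i => by
    by_cases h : P i = cls c
    · simp [hε1 i h, h, hd i h]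
    · simp [hε0 i h, h])
  refine ⟨Ideal.Quotient.mk _ z, ?_⟩
  rw [eq_div_iff ((map_ne_zero_iff _ (IsFractionRing.injective _ _)).2 (nonZeroDivisors.ne_zero hb₀)),
    ← map_mul, ← map_mul]
  congr 1
  rw [Ideal.Quotient.eq]
  obtain ⟨_, i, rfl⟩ := c
  refine RingHom.mem_ker.2 ?_
  rw [map_sub, map_mul, hπ, hπ, hπ, hz]
  simp [hd i rfl, cls]

/-- Let k be a field, H a finitely generated commutative Hopf algebra over k (the coordinate ring of a
group scheme affine and of finite type over k), and S a commutative k-algebra which is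
ring-isomorphic to a finite product of normal (integrally closed) domains and carries an H-comodule
structure whose coaction S → S ⊗ H is multiplicative and unital. Then the k-subalgebra of invariants
of S, the elements s whose coaction is s ⊗ 1, is again ring-isomorphic to a finite product of normal
domains. -/
theorem result (k : Type u) [Field k]
    (H : Type u) [CommRing H] [HopfAlgebra k H] [Algebra.FiniteType k H]
    (S : Type u) [CommRing S] [Algebra k S] [HopfRep.Comod k H S]
    (hmul : ∀ x y : S, HopfRep.Comod.coact (k := k) (A := H) (x * y) =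
        HopfRep.Comod.coact (k := k) (A := H) x * HopfRep.Comod.coact (k := k) (A := H) y)
    (hone : HopfRep.Comod.coact (k := k) (A := H) (1 : S) = 1)
    {ι : Type u} [Fintype ι] (D : ι → Type u) [∀ i, CommRing (D i)] [∀ i, IsDomain (D i)]
    [∀ i, IsIntegrallyClosed (D i)] (e : S ≃+* Π i, D i)
    (A : Subalgebra k S)
    (hA : ∀ a : S, a ∈ A ↔ HopfRep.Comod.coact (k := k) (A := H) a = a ⊗ₜ[k] (1 : H)) :
    ∃ (κ : Type u) (_ : Fintype κ) (E : κ → Type u) (_ : ∀ j, CommRing (E j)) (_ : ∀ j, IsDomain (E j))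
      (_ : ∀ j, IsIntegrallyClosed (E j)), Nonempty (A ≃+* Π j, E j) := by
  classical
  let ρ : S →ₐ[k] S ⊗[k] H := AlgHom.ofLinearMap (HopfRep.Comod.coact (k := k) (A := H)) hone hmul
  have hρ : ∀ x, ρ x = HopfRep.Comod.coact (k := k) (A := H) x := fun _ => rfl
  let S' : H →ₐ[k] H := HopfAlgebra.antipodeAlgHom k H
  let σ : S ⊗[k] H →ₐ[k] S ⊗[k] H := Algebra.TensorProduct.map (AlgHom.id k S) S'
  let Θ : S ⊗[k] H →ₐ[k] S ⊗[k] H :=
    Algebra.TensorProduct.productMap (σ.comp ρ) Algebra.TensorProduct.includeRight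
  have hreg : ∀ u : S, (∀ x, u * x = 0 → x = 0) → ∀ z : S ⊗[k] H, (u ⊗ₜ[k] (1 : H)) * z = 0 → z = 0 := by
    intro u hu z hz
    have hinj : Function.Injective ((LinearMap.mulLeft k u).rTensor H) :=
      Module.Flat.rTensor_preserves_injective_linearMap _
        ((injective_iff_map_eq_zero (LinearMap.mulLeft k u)).2 hu)
    refine hinj ?_
    rw [map_zero, ← hz]
    clear hz
    induction z with
    | zero => simp
    | tmul p q => simp [Algebra.TensorProduct.tmul_mul_tmul]
    | add p q hp hq => rw [map_add, mul_add, hp, hq]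
  have hΘρ : ∀ x : S, Θ (ρ x) = x ⊗ₜ[k] 1 := by
    intro x
    let m : H ⊗[k] H →ₗ[k] H := LinearMap.mul' k H ∘ₗ (HopfAlgebraStruct.antipode (R := k)).rTensor H
    have h1 : ∀ y : S ⊗[k] H, Θ y =
        m.lTensor S (TensorProduct.assoc k S H H
          ((HopfRep.Comod.coact (k := k) (A := H) (V := S)).rTensor H y)) := by
      intro y
      induction y with
      | zero => simp
      | add p q hp hq => simp only [map_add, hp, hq]
      | tmul p q =>
        simp only [Θ, Algebra.TensorProduct.productMap_apply_tmul, AlgHom.comp_apply, hρ, LinearMap.rTensor_tmul,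
          Algebra.TensorProduct.includeRight_apply]
        generalize HopfRep.Comod.coact (k := k) (A := H) p = w
        induction w with
        | zero => simp
        | add p q hp hq => simp only [map_add, TensorProduct.add_tmul, add_mul, hp, hq]
        | tmul s h => simp [σ, S', m, Algebra.TensorProduct.tmul_mul_tmul, HopfAlgebra.antipodeAlgHom_apply]
    rw [h1, hρ, Groth.Agent.HopfRep.Slice.coassoc_apply, ← LinearMap.lTensor_comp_apply]
    have h2 : m ∘ₗ Coalgebra.comul (R := k) (A := H) = Algebra.linearMap k H ∘ₗ Coalgebra.counit :=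
      HopfAlgebra.mul_antipode_rTensor_comul
    rw [h2, LinearMap.lTensor_comp_apply]
    have h3 := LinearMap.congr_fun (HopfRep.Comod.counit_comp (k := k) (A := H) (V := S)) x
    simp only [LinearMap.comp_apply, LinearMap.flip_apply, TensorProduct.mk_apply] at h3
    rw [h3]
    simp
  have hfix : ∀ b e : S, ρ b = b ⊗ₜ[k] 1 → e * e = e → b * e = 0 →
      (∀ x, ((1 - e) * b + e) * x = 0 → x = 0) → ρ e = e ⊗ₜ[k] 1 := by
    intro b e hb he hbe hu
    have h1 : ((1 - e) ⊗ₜ[k] (1 : H)) * ρ e = 0 := by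
      refine hreg _ hu _ ?_
      rw [← mul_assoc, Algebra.TensorProduct.tmul_mul_tmul, one_mul]
      have : ((1 - e) * b + e) * (1 - e) = (1 - e) * b := by linear_combination (b - 1) * he
      rw [this, show ((1 - e) * b) ⊗ₜ[k] (1 : H) = ((1 - e) ⊗ₜ[k] (1 : H)) * (b ⊗ₜ[k] 1) by
        rw [Algebra.TensorProduct.tmul_mul_tmul, one_mul], mul_assoc, ← hb, ← map_mul, hbe, map_zero, mul_zero]
    have h2 : (1 : S ⊗[k] H) = (1 : S) ⊗ₜ[k] (1 : H) := Algebra.TensorProduct.one_def
    have h3 := congrArg Θ h1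
    rw [map_mul, map_zero, hΘρ] at h3
    have h4 : Θ ((1 - e) ⊗ₜ[k] (1 : H)) = 1 - σ (ρ e) := by
      simp [Θ, Algebra.TensorProduct.productMap_apply_tmul, map_sub, ← h2]
    rw [h4, sub_mul, one_mul, sub_eq_zero] at h3
    have h5 := congrArg σ h1
    rw [map_mul, map_zero, show σ ((1 - e) ⊗ₜ[k] (1 : H)) = (1 - e) ⊗ₜ[k] (1 : H) by simp [σ],
      TensorProduct.sub_tmul, ← h2, sub_mul, one_mul, sub_eq_zero] at h5
    have h6 : σ (ρ e) = e ⊗ₜ[k] 1 := by rw [h5, mul_comm, ← h3]
    have h7 : ∀ z : S ⊗[k] H, σ (σ z) = z := by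
      intro z
      induction z with
      | zero => simp
      | add p q hp hq => simp only [map_add, hp, hq]
      | tmul s h => simp [σ, S', HopfAlgebra.antipodeAlgHom_apply, Groth.Agent.HopfRep.Corep.antipode_antipode]
    rw [← h7 (ρ e), h6]
    simp [σ]
  refine Groth.Agent.S11141.exists_normal_decomposition D (e.toRingHom.comp A.val.toRingHom)
    (e.injective.comp Subtype.val_injective) (fun b => ?_) (fun s a b hb hs => ?_)
  · let v : Π i, D i := fun i => if e (b : S) i = 0 then 1 else 0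
    have hv : ∀ i, e (e.symm v) i = v i := fun i => by rw [e.apply_symm_apply]
    refine ⟨⟨e.symm v, (hA _).2 (hfix (b : S) (e.symm v) ((hA _).1 b.2) ?_ ?_ ?_)⟩, fun i => ?_⟩
    · apply e.injective
      funext i
      rw [map_mul, Pi.mul_apply, hv]
      simp [v]
    · apply e.injective
      funext i
      rw [map_mul, map_zero, Pi.mul_apply, hv, Pi.zero_apply]
      by_cases h : e (b : S) i = 0 <;> simp [v, h]
    · intro x hx
      apply e.injective
      funext i
      have h := congrFun (congrArg e hx) i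
      simp only [map_mul, map_add, map_sub, map_one, map_zero, Pi.mul_apply, Pi.add_apply, Pi.sub_apply,
        Pi.one_apply, Pi.zero_apply, hv] at h
      rw [map_zero, Pi.zero_apply]
      by_cases hb : e (b : S) i = 0
      · simpa [v, hb] using h
      · simpa [v, hb] using h
    · exact ⟨fun h => (hv i).trans (if_pos h), fun h => (hv i).trans (if_neg h)⟩
  · have h : (e.symm s) * (b : S) = (a : S) := by
      apply e.injective
      rw [map_mul, e.apply_symm_apply]
      exact hs
    refine ⟨⟨e.symm s, (hA _).2 ?_⟩, e.apply_symm_apply s⟩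
    refine sub_eq_zero.1 (hreg (b : S) (fun x hx => e.injective ?_) _ ?_)
    · funext i
      have := congrFun (congrArg e hx) i
      rw [map_mul, map_zero, Pi.mul_apply, Pi.zero_apply] at this
      rw [map_zero, Pi.zero_apply]
      exact (mul_eq_zero.1 this).resolve_left (hb i)
    · rw [mul_sub, Algebra.TensorProduct.tmul_mul_tmul, one_mul, ← (hA _).1 b.2, ← hρ, ← hρ, ← map_mul,
        mul_comm, h, hρ, (hA _).1 a.2, sub_self]

end Groth.Agent.S11141
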