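import Groth.Statements.S11142
import Mathlib

set_option autoImplicit false
universe u
open CategoryTheory AlgebraicGeometry
open FlatMor

namespace Groth.Agent.S11142

/-- For a flat morphism f : X → Y between locally Noetherian schemes, the preimage under f of any dense
open subset of Y is dense in X. -/
theorem result (X Y : Scheme.{u}) [IsLocallyNoetherian X]
    [IsLocallyNoetherian Y] (f : X ⟶ Y) [Flat f] (U : Y.Opens) (hU : Dense (U : Set Y)) :
    Dense ((f ⁻¹ᵁ U : X.Opens) : Set X) := by
  rw [dense_iff_inter_open]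
  rintro V hV ⟨x, hx⟩
  obtain ⟨Z, hZ, hxZ⟩ : ∃ Z ∈ irreducibleComponents X, x ∈ Z :=
    ⟨_, irreducibleComponent_mem_irreducibleComponents x, mem_irreducibleComponent⟩
  obtain ⟨η, hη⟩ : ∃ η, IsGenericPoint η Z :=
    QuasiSober.sober hZ.1 (isClosed_of_mem_irreducibleComponents Z hZ)
  have hηV : η ∈ V := ((hη.specializes hxZ).mem_open hV hx)
  refine ⟨η, hηV, ?_⟩
  show f η ∈ U
  -- `f η` has no proper generalization
  have hmax : ∀ y, y ⤳ f η → y = f η := by
    intro y hy
    obtain ⟨z, hz, rfl⟩ := Flat.generalizingMap f hy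
    have hle : Z ⊆ closure {z} := hη.def ▸ closure_minimal
      (Set.singleton_subset_iff.mpr (specializes_iff_mem_closure.mp hz)) isClosed_closure
    have hzZ : z ∈ Z := hZ.2 isIrreducible_singleton.closure hle (subset_closure rfl)
    rw [(hz.antisymm (hη.specializes hzZ)).eq]
  obtain ⟨_, ⟨W, hW, rfl⟩, hyW, -⟩ :=
    Y.isBasis_affineOpens.exists_subset_of_mem_open (Set.mem_univ (f η)) isOpen_univ
  by_contra hyU
  haveI : IsNoetherianRing Γ(Y, W) := IsLocallyNoetherian.component_noetherian ⟨W, hW⟩
  haveI : TopologicalSpace.NoetherianSpace (W : Set Y) :=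
    (noetherianSpace_of_isAffineOpen W hW :)
  let y : (W : Set Y) := ⟨f η, hyW⟩
  obtain ⟨o, ho, hne, hoC⟩ := TopologicalSpace.NoetherianSpace.exists_isOpen_nonempty_subset_irreducibleComponent
    (irreducibleComponent y) (irreducibleComponent_mem_irreducibleComponents y)
  haveI : QuasiSober (W : Set Y) := W.isOpen.isOpenEmbedding_subtypeVal.quasiSober
  obtain ⟨η', hη'⟩ : ∃ η' : (W : Set Y), IsGenericPoint η' (irreducibleComponent y) :=
    QuasiSober.sober isIrreducible_irreducibleComponent isClosed_irreducibleComponent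
  have h1 : η' = y := by
    refine Subtype.ext (hmax _ ?_)
    exact (hη'.specializes mem_irreducibleComponent).map continuous_subtype_val
  have h2 : IsOpen (Subtype.val '' o) := W.isOpen.isOpenMap_subtype_val o ho
  obtain ⟨_, ⟨u, hu, rfl⟩, huU⟩ :=
    (hU.inter_open_nonempty _ h2 (hne.image _))
  have h3 : y ⤳ u := h1 ▸ hη'.specializes (hoC hu)
  exact hyU ((h3.map continuous_subtype_val).mem_open U.isOpen huU)

end Groth.Agent.S11142
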