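import Groth.Statements.S11152
import Groth.Agent.WayOut.Basic

set_option autoImplicit false
universe w w' v v' u u'
open CategoryTheory CategoryTheory.Limits
open CohDer

namespace Groth.Agent.S11152

open CategoryTheory.Pretriangulated

/-- Fix abelian categories A and B, P a class of objects of A such that every object of A admits a
monomorphism into an object of P, F and G triangulated functors from D(A) to D(B) which are both
way-out right (given n₁ there is n₂ such that H^i(Y) = 0 for i < n₂ implies H^i(F Y) = 0 for i <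
n₁), and η : F ⟶ G a morphism of triangulated functors. If η_X is an isomorphism for every object X
of P placed in degree 0, then η_X is an isomorphism for every object X of A placed in degree 0.
(Stated for functors defined on all of D(A) and the thick subcategory taken to be all of A.) -/
theorem result {A : Type u} [Category.{v} A] [Abelian A] [HasDerivedCategory.{w} A]
    {B : Type u'} [Category.{v'} B] [Abelian B] [HasDerivedCategory.{w'} B]
    (P : ObjectProperty A) (hP : ∀ X : A, ∃ (Y : A) (i : X ⟶ Y), P Y ∧ Mono i)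
    (F G : DerivedCategory A ⥤ DerivedCategory B) [F.CommShift ℤ] [G.CommShift ℤ]
    [F.IsTriangulated] [G.IsTriangulated] (η : F ⟶ G) [NatTrans.CommShift η ℤ]
    (hF : ∀ n₁ : ℤ, ∃ n₂ : ℤ, ∀ Y : DerivedCategory A, Y.IsGE n₂ → (F.obj Y).IsGE n₁)
    (hG : ∀ n₁ : ℤ, ∃ n₂ : ℤ, ∀ Y : DerivedCategory A, Y.IsGE n₂ → (G.obj Y).IsGE n₁)
    (hη : ∀ X : A, P X → IsIso (η.app ((DerivedCategory.singleFunctor A 0).obj X)))
    (X : A) :
    IsIso (η.app ((DerivedCategory.singleFunctor A 0).obj X)) := by
  obtain ⟨p, hp⟩ := hF 0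
  obtain ⟨q, hq⟩ := hG 0
  let H := fun i : ℤ => DerivedCategory.homologyFunctor B i
  let m : ℤ := -(max p q) - 1
  let S := fun Z : A => (DerivedCategory.singleFunctor A 0).obj Z
  have hvan : ∀ (R : DerivedCategory A ⥤ DerivedCategory B) [R.CommShift ℤ] (k : ℤ),
      (∀ Y : DerivedCategory A, Y.IsGE k → (R.obj Y).IsGE 0) → ∀ (Z : A) (i : ℤ), i + k < 0 →
      Limits.IsZero ((H i).obj (R.obj (S Z))) := fun R _ k hk Z i hi => by
    let t : S Z ≅ ((DerivedCategory.singleFunctor A k).obj Z)⟦k⟧ :=
      (((DerivedCategory.singleFunctors A).shiftIso k 0 k (by omega)).app Z).symm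
    haveI : (R.obj ((DerivedCategory.singleFunctor A k).obj Z)).IsGE 0 := hk _ inferInstance
    exact (DerivedCategory.isZero_of_isGE (R.obj ((DerivedCategory.singleFunctor A k).obj Z)) 0 (k + i) (by omega)).of_iso
      ((H i).mapIso (R.mapIso t ≪≫ (R.commShiftIso k).app _) ≪≫
        ((DerivedCategory.homologyFunctor B 0).shiftIso k i (k + i) rfl).app _)
  have hvanF : ∀ (Z : A) (i : ℤ), i ≤ m → Limits.IsZero ((H i).obj (F.obj (S Z))) := fun Z i hi =>
    hvan F (max p q) (fun Y h => hp Y (DerivedCategory.TStructure.t.isGE_of_ge Y p (max p q) (le_max_left _ _))) Z i (by omega)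
  have hvanG : ∀ (Z : A) (i : ℤ), i ≤ m → Limits.IsZero ((H i).obj (G.obj (S Z))) := fun Z i hi =>
    hvan G (max p q) (fun Y h => hq Y (DerivedCategory.TStructure.t.isGE_of_ge Y q (max p q) (le_max_right _ _))) Z i (by omega)
  suffices key : ∀ (d : ℕ) (Z : A), IsIso ((H (m + d - 1)).map (η.app (S Z))) ∧ IsIso ((H (m + d)).map (η.app (S Z))) by
    rw [DerivedCategory.isIso_iff]
    intro i
    by_cases hi : m - 1 ≤ i
    · obtain ⟨d, hd⟩ : ∃ d : ℕ, i = m + d - 1 := ⟨(i - (m - 1)).toNat, by omega⟩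
      rw [hd]; exact (key d X).1
    · exact Limits.isIso_of_source_target_iso_zero _ (hvanF X i (by omega)).isoZero (hvanG X i (by omega)).isoZero
  intro d
  induction d with
  | zero =>
    exact fun Z => ⟨Limits.isIso_of_source_target_iso_zero _ (hvanF Z _ (by omega)).isoZero (hvanG Z _ (by omega)).isoZero,
      Limits.isIso_of_source_target_iso_zero _ (hvanF Z _ (by omega)).isoZero (hvanG Z _ (by omega)).isoZero⟩
  | succ d ih =>
    have hcast : m + ((d + 1 : ℕ) : ℤ) - 1 = m + d := by omega
    rw [hcast]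
    have hm : ∀ Z : A, Mono ((H (m + ((d + 1 : ℕ) : ℤ))).map (η.app (S Z))) := fun Z => by
      obtain ⟨Y, i, hY, hi⟩ := hP Z
      let K := ShortComplex.mk i (Limits.cokernel.π i) (Limits.cokernel.condition i)
      have hK : K.ShortExact := { exact := ShortComplex.exact_cokernel i }
      let T := hK.singleTriangle
      have hT : T ∈ distTriang _ := hK.singleTriangle_distinguished
      let T₁ := F.mapTriangle.obj T
      let T₂ := G.mapTriangle.obj T
      have h₁ := F.map_distinguished T hT
      have h₂ := G.map_distinguished T hT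
      let φ : T₁ ⟶ T₂ := Groth.Agent.WayOut.triMap η T
      haveI : IsIso ((H (m + d)).map φ.hom₂) := (ih Y).2
      haveI : IsIso ((H (m + d)).map φ.hom₃) := (ih (Limits.cokernel i)).2
      haveI : IsIso (η.app (S Y)) := hη Y hY
      haveI : IsIso ((H (m + ((d + 1 : ℕ) : ℤ))).map φ.hom₂) := (inferInstance : IsIso ((H _).map (η.app (S Y))))
      exact Groth.Agent.WayOut.four_mono
        (α := (H (m + d)).map φ.hom₂) (β := (H (m + d)).map φ.hom₃)
        (δ := (H (m + ((d + 1 : ℕ) : ℤ))).map φ.hom₂)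
        (DerivedCategory.HomologySequence.comp_δ T₁ h₁ (m + d) (m + ((d + 1 : ℕ) : ℤ)) (by omega))
        (DerivedCategory.HomologySequence.δ_comp T₁ h₁ (m + d) (m + ((d + 1 : ℕ) : ℤ)) (by omega))
        (DerivedCategory.HomologySequence.exact₁ T₁ h₁ (m + d) (m + ((d + 1 : ℕ) : ℤ)) (by omega))
        (DerivedCategory.HomologySequence.comp_δ T₂ h₂ (m + d) (m + ((d + 1 : ℕ) : ℤ)) (by omega))
        (DerivedCategory.HomologySequence.exact₃ T₂ h₂ (m + d) (m + ((d + 1 : ℕ) : ℤ)) (by omega))
        (((H (m + d)).map_comp _ _).symm.trans ((congrArg (H (m + d)).map φ.comm₂).trans ((H (m + d)).map_comp _ _)))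
        ((DerivedCategory.homologyFunctor B 0).homologySequenceδ_naturality T₁ T₂ φ (m + d) (m + ((d + 1 : ℕ) : ℤ)) (by omega)).symm
        (((H _).map_comp _ _).symm.trans ((congrArg (H _).map φ.comm₁).trans ((H _).map_comp _ _)))
    intro Z
    refine ⟨(ih Z).2, ?_⟩
    obtain ⟨Y, i, hY, hi⟩ := hP Z
    let K := ShortComplex.mk i (Limits.cokernel.π i) (Limits.cokernel.condition i)
    have hK : K.ShortExact := { exact := ShortComplex.exact_cokernel i }
    let T := hK.singleTriangle
    have hT : T ∈ distTriang _ := hK.singleTriangle_distinguished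
    let T₁ := F.mapTriangle.obj T
    let T₂ := G.mapTriangle.obj T
    have h₁ := F.map_distinguished T hT
    have h₂ := G.map_distinguished T hT
    let φ : T₁ ⟶ T₂ := Groth.Agent.WayOut.triMap η T
    haveI : IsIso ((H (m + d)).map φ.hom₃) := (ih (Limits.cokernel i)).2
    haveI : IsIso (η.app (S Y)) := hη Y hY
    haveI : IsIso ((H (m + ((d + 1 : ℕ) : ℤ))).map φ.hom₂) := (inferInstance : IsIso ((H _).map (η.app (S Y))))
    haveI : Mono ((H (m + ((d + 1 : ℕ) : ℤ))).map φ.hom₃) := hm (Limits.cokernel i)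
    haveI := hm Z
    haveI : Epi ((H (m + ((d + 1 : ℕ) : ℤ))).map (η.app (S Z))) := Groth.Agent.WayOut.four_epi
      (β := (H (m + d)).map φ.hom₃) (δ := (H (m + ((d + 1 : ℕ) : ℤ))).map φ.hom₂)
      (ε := (H (m + ((d + 1 : ℕ) : ℤ))).map φ.hom₃)
      (((H _).map_comp _ _).symm.trans ((congrArg (H _).map (Pretriangulated.comp_distTriang_mor_zero₁₂ _ h₁)).trans ((H _).map_zero _ _)))
      (DerivedCategory.HomologySequence.exact₂ T₁ h₁ (m + ((d + 1 : ℕ) : ℤ)))
      (DerivedCategory.HomologySequence.δ_comp T₂ h₂ (m + d) (m + ((d + 1 : ℕ) : ℤ)) (by omega))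
      (DerivedCategory.HomologySequence.exact₁ T₂ h₂ (m + d) (m + ((d + 1 : ℕ) : ℤ)) (by omega))
      (((H _).map_comp _ _).symm.trans ((congrArg (H _).map (Pretriangulated.comp_distTriang_mor_zero₁₂ _ h₂)).trans ((H _).map_zero _ _)))
      ((DerivedCategory.homologyFunctor B 0).homologySequenceδ_naturality T₁ T₂ φ (m + d) (m + ((d + 1 : ℕ) : ℤ)) (by omega)).symm
      (((H _).map_comp _ _).symm.trans ((congrArg (H _).map φ.comm₁).trans ((H _).map_comp _ _)))
      (((H _).map_comp _ _).symm.trans ((congrArg (H _).map φ.comm₂).trans ((H _).map_comp _ _)))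
    exact isIso_of_mono_of_epi _

end Groth.Agent.S11152
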