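import Groth.Statements.S11153
import Groth.Agent.InjAmp.Basic

set_option autoImplicit false
universe w v u
open CategoryTheory CategoryTheory.Limits
open CohDer

namespace Groth.Agent.S11153

/-- (i) ⇔ (iii): let A be an abelian category with enough injectives and K a bounded below cochain
complex of objects of A. Then K admits a quasi-isomorphism into a bounded complex of injective
objects of A if and only if there is an integer n₀ such that Hom_{D(A)}(Y[0], K[i]) = 0 for every
object Y of A and every i > n₀. -/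
theorem result {A : Type u} [Category.{v} A] [Abelian A]
    [HasDerivedCategory.{w} A] [EnoughInjectives A]
    (K : CochainComplex A ℤ) (a : ℤ) [K.IsStrictlyGE a] :
    (∃ (I : CochainComplex A ℤ) (b c : ℤ) (f : K ⟶ I), I.IsStrictlyGE b ∧ I.IsStrictlyLE c ∧
        (∀ n : ℤ, Injective (I.X n)) ∧ QuasiIso f) ↔
      ∃ n₀ : ℤ, ∀ (Y : A) (i : ℤ), n₀ < i →
        ∀ φ : (DerivedCategory.singleFunctor A 0).obj Y ⟶ (DerivedCategory.Q.obj K)⟦i⟧, φ = 0 := by
  constructor
  · rintro ⟨I, b, c, f, hb, hc, hI, hf⟩
    refine ⟨c, fun Y i hi φ => ?_⟩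
    exact ((InjAmp.van_of_bounded b c hI (Or.inr hi)).of_iso
      (asIso (DerivedCategory.Q.map f)).symm) Y φ
  · rintro ⟨n₀, h⟩
    obtain ⟨I, h₁, h₂, hI, ⟨e⟩⟩ := InjAmp.exists_bounded (DerivedCategory.Q.obj K) a n₀
      (fun i hi Y φ => h Y i hi φ)
    haveI : ∀ n, Injective (I.X n) := hI
    haveI := CochainComplex.isKInjective_of_injective I a
    obtain ⟨g, hg⟩ := (CochainComplex.IsKInjective.Qh_map_bijective
      ((HomotopyCategory.quotient A _).obj K) I).2
        ((DerivedCategory.quotientCompQhIso A).hom.app _ ≫ e.inv ≫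
          (DerivedCategory.quotientCompQhIso A).inv.app _)
    obtain ⟨f, rfl⟩ := (HomotopyCategory.quotient A _).map_surjective g
    refine ⟨I, a, n₀, f, h₁, h₂, hI, ?_⟩
    rw [← DerivedCategory.isIso_Q_map_iff_quasiIso,
      ← NatIso.isIso_map_iff (DerivedCategory.quotientCompQhIso A) f]
    change IsIso (DerivedCategory.Qh.map ((HomotopyCategory.quotient A _).map f))
    rw [hg]
    infer_instance

end Groth.Agent.S11153
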