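import Groth.Statements.S11159
import Groth.Agent.InjAmp.Basic

set_option autoImplicit false
universe w v u
open CategoryTheory CategoryTheory.Limits CategoryTheory.Pretriangulated
open CohDer

namespace Groth.Agent.S11159

/-- Let A be an abelian category with enough injectives and X ⟶ Y ⟶ Z ⟶ X⟦1⟧ a distinguished triangle in
D(A). If X and Z are each isomorphic in D(A) to a bounded complex of injective objects of A, then so
is Y. -/
theorem result {A : Type u} [Category.{v} A] [Abelian A]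
    [HasDerivedCategory.{w} A] [EnoughInjectives A]
    (T : Triangle (DerivedCategory A)) (hT : T ∈ distTriang (DerivedCategory A))
    (h₁ : (∃ (I : CochainComplex A ℤ) (b c : ℤ), I.IsStrictlyGE b ∧ I.IsStrictlyLE c ∧
        (∀ n : ℤ, Injective (I.X n)) ∧ Nonempty (T.obj₁ ≅ DerivedCategory.Q.obj I)))
    (h₃ : (∃ (I : CochainComplex A ℤ) (b c : ℤ), I.IsStrictlyGE b ∧ I.IsStrictlyLE c ∧
        (∀ n : ℤ, Injective (I.X n)) ∧ Nonempty (T.obj₃ ≅ DerivedCategory.Q.obj I))) :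
    (∃ (I : CochainComplex A ℤ) (b c : ℤ), I.IsStrictlyGE b ∧ I.IsStrictlyLE c ∧
        (∀ n : ℤ, Injective (I.X n)) ∧ Nonempty (T.obj₂ ≅ DerivedCategory.Q.obj I)) := by
  obtain ⟨I₁, a₁, b₁, _, _, hI₁, ⟨e₁⟩⟩ := h₁
  obtain ⟨I₃, a₃, b₃, _, _, hI₃, ⟨e₃⟩⟩ := h₃
  have key : ∀ i : ℤ, (i < min a₁ a₃ ∨ max b₁ b₃ < i) → InjAmp.Van T.obj₂ i := by
    intro i hi Y φ
    have hi₁ : i < a₁ ∨ b₁ < i := by omega
    have hi₃ : i < a₃ ∨ b₃ < i := by omega
    have v₁ := (InjAmp.van_of_bounded a₁ b₁ hI₁ hi₁).of_iso e₁.symm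
    have v₃ := (InjAmp.van_of_bounded a₃ b₃ hI₃ hi₃).of_iso e₃.symm
    have hd := Triangle.shift_distinguished T hT i
    obtain ⟨ψ, hψ⟩ := Triangle.coyoneda_exact₂ _ hd φ (v₃ Y _)
    rw [hψ, v₁ Y ψ]
    exact zero_comp
  haveI := InjAmp.isGE_of_van (X := T.obj₂) (a := min a₁ a₃) (fun i hi => key i (Or.inl hi))
  obtain ⟨I, h₁', h₂', hI, ⟨e⟩⟩ := InjAmp.exists_bounded T.obj₂ (min a₁ a₃) (max b₁ b₃)
    (fun i hi => key i (Or.inr hi))
  exact ⟨I, _, _, h₁', h₂', hI, ⟨e.symm⟩⟩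

end Groth.Agent.S11159
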