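import Groth.Statements.S11160
import Groth.Agent.CxRes.Basic
import Mathlib.Algebra.Homology.DerivedCategory.ExactFunctor
import Mathlib.Algebra.Homology.DerivedCategory.KInjective
import Mathlib.Algebra.Homology.DerivedCategory.TStructure

set_option autoImplicit false
universe w w' v v' u u'
open CategoryTheory CategoryTheory.Limits
open CohDer

namespace Groth.Agent.S11160

open CategoryTheory.Limits in
theorem injective_of_map {A' : Type u'} [Category.{v'} A'] [Abelian A'] {A : Type u} [Category.{v} A] [Abelian A]
    (ι : A' ⥤ A) [ι.Additive] [PreservesFiniteLimits ι] [ι.Full] [ι.Faithful] (Z : A')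
    (h : Injective (ι.obj Z)) : Injective Z :=
  ⟨fun {X Y} g f _ => by
    haveI := h
    obtain ⟨k, hk⟩ := Injective.factors (ι.map g) (ι.map f)
    exact ⟨ι.preimage k, ι.map_injective (by simpa using hk)⟩⟩


/-- Let ι : A' ⥤ A be an exact fully faithful functor of abelian categories whose essential image is
closed under extensions (a thick abelian subcategory), and suppose every object of A' admits a
monomorphism into an object of A' whose image in A is injective (A' has enough A-injectives). Then
the induced triangulated functor D(A') ⥤ D(A) is fully faithful on cohomologically bounded below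
objects. -/
theorem result {A' : Type u'} [Category.{v'} A'] [Abelian A'] [HasDerivedCategory.{w'} A']
    {A : Type u} [Category.{v} A] [Abelian A] [HasDerivedCategory.{w} A]
    (ι : A' ⥤ A) [ι.Additive] [PreservesFiniteLimits ι] [PreservesFiniteColimits ι] [ι.Full] [ι.Faithful]
    (hext : ∀ S : ShortComplex A, S.ShortExact → ι.essImage S.X₁ → ι.essImage S.X₃ → ι.essImage S.X₂)
    (hinj : ∀ X' : A', ∃ (Y' : A') (i : X' ⟶ Y'), Mono i ∧ Injective (ι.obj Y'))
    (X Y : DerivedCategory A') (a b : ℤ) [X.IsGE a] [Y.IsGE b] :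
    Function.Bijective (fun f : X ⟶ Y => ι.mapDerivedCategory.map f) := by
  obtain ⟨Y₀, _, ⟨e₀⟩⟩ := DerivedCategory.exists_iso_Q_obj_of_isGE Y b
  obtain ⟨Z, hZ, hZi⟩ : ∃ Z : A', CategoryTheory.Limits.IsZero Z ∧ Injective (ι.obj Z) :=
    ⟨_, CategoryTheory.Limits.isZero_zero A', (ι.map_isZero (CategoryTheory.Limits.isZero_zero A')).injective⟩
  obtain ⟨I, α, _, hI, -, hα⟩ := CxRes.exists_resolution (fun W : A' => Injective (ι.obj W))
    ⟨Z, hZ, hZi⟩ (fun W => by
      obtain ⟨Y', i, h₁, h₂⟩ := hinj W
      exact ⟨Y', i, h₂, h₁⟩) Y₀ b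
  let L : CochainComplex A ℤ := (ι.mapHomologicalComplex (ComplexShape.up ℤ)).obj I
  haveI : ∀ n, Injective (L.X n) := hI
  haveI : L.IsKInjective := CochainComplex.isKInjective_of_injective L b
  haveI : ∀ n, Injective (I.X n) := fun n => injective_of_map ι _ (hI n)
  haveI : I.IsKInjective := CochainComplex.isKInjective_of_injective I b
  haveI := hα
  let K₀ := DerivedCategory.Qh.objPreimage X
  let eX : DerivedCategory.Qh.obj K₀ ≅ X := DerivedCategory.Qh.objObjPreimageIso X
  let K : CochainComplex A' ℤ := K₀.as
  let eY : DerivedCategory.Qh.obj ((HomotopyCategory.quotient A' _).obj I) ≅ Y :=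
    (DerivedCategory.quotientCompQhIso A').app I ≪≫ (asIso (DerivedCategory.Q.map α)).symm ≪≫ e₀.symm
  let M := ι.mapDerivedCategory
  let e := ι.mapDerivedCategoryFactorsh
  have hbij : Function.Bijective (fun f : DerivedCategory.Qh.obj K₀ ⟶
      DerivedCategory.Qh.obj ((HomotopyCategory.quotient A' _).obj I) => M.map f) := by
    rw [← Function.Bijective.of_comp_iff _ (CochainComplex.IsKInjective.Qh_map_bijective K₀ I)]
    have : (fun f => M.map f) ∘ (DerivedCategory.Qh.map :
        (K₀ ⟶ (HomotopyCategory.quotient A' _).obj I) → _) =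
        (fun g => e.hom.app K₀ ≫ g ≫ e.inv.app _) ∘
          (DerivedCategory.Qh.map ∘ (ι.mapHomotopyCategory (ComplexShape.up ℤ)).map) := by
      funext g
      exact (NatIso.naturality_2 e g).symm
    rw [this]
    exact (Iso.homCongr (e.app K₀).symm (e.app ((HomotopyCategory.quotient A' _).obj I)).symm).bijective.comp
      ((CochainComplex.IsKInjective.Qh_map_bijective _ L).comp
        ((Functor.FullyFaithful.ofFullyFaithful _).map_bijective _ _))
  have : (fun f : X ⟶ Y => M.map f) = (Iso.homCongr (M.mapIso eX) (M.mapIso eY)) ∘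
      (fun f : DerivedCategory.Qh.obj K₀ ⟶
        DerivedCategory.Qh.obj ((HomotopyCategory.quotient A' _).obj I) => M.map f) ∘
      (Iso.homCongr eX eY).symm := by
    funext f
    simp [← Functor.map_comp]
  change Function.Bijective (fun f : X ⟶ Y => M.map f)
  rw [this]
  exact (Iso.homCongr _ _).bijective.comp (hbij.comp (Iso.homCongr _ _).symm.bijective)

end Groth.Agent.S11160
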