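import Groth.Statements.S11161
import Groth.Agent.CxRes.ClassRes
import Mathlib.Algebra.Homology.DerivedCategory.ExactFunctor
import Mathlib.Algebra.Homology.DerivedCategory.TStructure

set_option autoImplicit false
universe w w' v v' u u'
open CategoryTheory CategoryTheory.Limits
open CohDer

namespace Groth.Agent.S11161

/-- Let ι : A' ⥤ A be an exact fully faithful functor of abelian categories whose essential image is
closed under extensions, and suppose every object of A' admits a monomorphism into an object of A'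
whose image in A is injective. Then every object Z of D(A) with H^i(Z) = 0 for i < a and all
cohomology objects in the essential image of ι is isomorphic to the image under D(A') ⥤ D(A) of a
complex I of objects of A', zero in degrees < a, whose terms are injective in A. -/
theorem result {A' : Type u'} [Category.{v'} A'] [Abelian A'] [HasDerivedCategory.{w'} A']
    {A : Type u} [Category.{v} A] [Abelian A] [HasDerivedCategory.{w} A]
    (ι : A' ⥤ A) [ι.Additive] [PreservesFiniteLimits ι] [PreservesFiniteColimits ι] [ι.Full] [ι.Faithful]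
    (hext : ∀ S : ShortComplex A, S.ShortExact → ι.essImage S.X₁ → ι.essImage S.X₃ → ι.essImage S.X₂)
    (hinj : ∀ X' : A', ∃ (Y' : A') (i : X' ⟶ Y'), Mono i ∧ Injective (ι.obj Y'))
    (Z : DerivedCategory A) (a : ℤ) [Z.IsGE a]
    (hZ : ∀ i : ℤ, ι.essImage ((DerivedCategory.homologyFunctor A i).obj Z)) :
    ∃ (I : CochainComplex A' ℤ), I.IsStrictlyGE a ∧ (∀ n : ℤ, Injective (ι.obj (I.X n))) ∧
      Nonempty (ι.mapDerivedCategory.obj (DerivedCategory.Q.obj I) ≅ Z) := by
  obtain ⟨Z₀, _, ⟨e₀⟩⟩ := DerivedCategory.exists_iso_Q_obj_of_isGE Z a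
  have c : ClassRes.Ctx ι.essImage :=
    { iso := fun e h => ι.essImage.prop_of_iso e h
      coker := fun {X Y} f ⟨X', ⟨eX⟩⟩ ⟨Y', ⟨eY⟩⟩ => by
        let g := ι.preimage (eX.hom ≫ f ≫ eY.inv)
        refine ⟨cokernel g, ⟨PreservesCokernel.iso ι g ≪≫
          cokernel.mapIso (ι.map g) f eX eY (by simp [g])⟩⟩
      ext := hext
      emb := fun X ⟨X', ⟨eX⟩⟩ => by
        obtain ⟨Y', i, hi, hY⟩ := hinj X'
        exact ⟨ι.obj Y', eX.inv ≫ ι.map i, Functor.obj_mem_essImage ι Y', hY, inferInstance⟩ }
  have hH : ∀ n, ι.essImage (Z₀.homology n) := fun n =>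
    ι.essImage.prop_of_iso ((DerivedCategory.homologyFunctor A n).mapIso e₀ ≪≫
      (DerivedCategory.homologyFunctorFactors A n).app Z₀) (hZ n)
  obtain ⟨L, α, hLa, hL, hα⟩ := ClassRes.exists_resolution c Z₀ a hH
  let Y : ℤ → A' := fun n => (hL n).1.witness
  let ε : ∀ n, ι.obj (Y n) ≅ L.X n := fun n => (hL n).1.getIso
  let I : CochainComplex A' ℤ :=
    { X := Y
      d := fun i j => ι.preimage ((ε i).hom ≫ L.d i j ≫ (ε j).inv)
      shape := fun i j h => ι.map_injective (by simp [L.shape i j h])
      d_comp_d' := fun i j k _ _ => ι.map_injective (by simp) }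
  let eI : (ι.mapHomologicalComplex (ComplexShape.up ℤ)).obj I ≅ L :=
    HomologicalComplex.Hom.isoOfComponents ε fun i j _ => by
      simp [I]
      exact ((Category.assoc _ _ _).trans (congrArg _ ((Category.assoc _ _ _).trans
        ((congrArg _ (Iso.inv_hom_id _)).trans (Category.comp_id _))))).symm
  haveI := hα
  refine ⟨I, ?_, fun n => Injective.of_iso (ε n).symm (hL n).2, ⟨?_⟩⟩
  · rw [← CochainComplex.isStrictlyGE_mapHomologicalComplex_obj_iff I ι a]
    exact (CochainComplex.isStrictlyGE_iff _ a).2 fun n hn =>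
      (L.isZero_of_isStrictlyGE a n hn).of_iso (ε n)
  · exact ι.mapDerivedCategoryFactors.app I ≪≫ DerivedCategory.Q.mapIso eI ≪≫
      (asIso (DerivedCategory.Q.map α)).symm ≪≫ e₀.symm

end Groth.Agent.S11161
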