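import Groth.Statements.S11233
import Mathlib

set_option autoImplicit false
universe u
open CAlg

namespace Groth.Agent.S11233

/-- Let k be an algebraically closed field, A an integral domain which is a k-algebra, T an m by m
matrix over A with invertible determinant, and let the additive group k^m act on the polynomial ring
A[y_1, ..., y_m] by the A-algebra maps y_s ↦ y_s + Σ_r h_r T_rs. Then the only invariant polynomials
are the constants: a polynomial fixed by all these substitutions lies in A. -/
theorem result (k : Type u) [Field k] [IsAlgClosed k]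
    (A : Type u) [CommRing A] [IsDomain A] [Algebra k A] (m : ℕ) (T : Matrix (Fin m) (Fin m) A)
    (hT : IsUnit T.det) (f : MvPolynomial (Fin m) A)
    (hf : ∀ h : Fin m → k, MvPolynomial.aeval
      (fun s : Fin m => MvPolynomial.X s + MvPolynomial.C (∑ r : Fin m, algebraMap k A (h r) * T r s)) f = f) :
    ∃ a : A, f = MvPolynomial.C a := by
  classical
  haveI : Infinite k := inferInstance
  let φ : MvPolynomial (Fin m) A →ₐ[A] MvPolynomial (Fin m) A :=
    MvPolynomial.aeval fun s => ∑ r, MvPolynomial.C (T r s) * MvPolynomial.X r
  let ψ : MvPolynomial (Fin m) A →ₐ[A] MvPolynomial (Fin m) A :=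
    MvPolynomial.aeval fun s => ∑ r, MvPolynomial.C (T⁻¹ r s) * MvPolynomial.X r
  have hψφ : ∀ g, ψ (φ g) = g := by
    intro g
    have : ψ.comp φ = AlgHom.id A _ := by
      refine MvPolynomial.algHom_ext fun s => ?_
      show ψ (φ (MvPolynomial.X s)) = MvPolynomial.X s
      simp only [φ, ψ, MvPolynomial.aeval_X, map_sum, map_mul, MvPolynomial.aeval_C, MvPolynomial.algebraMap_eq, Finset.mul_sum]
      rw [Finset.sum_comm]
      simp only [← mul_assoc, ← map_mul, ← Finset.sum_mul, ← map_sum]
      have hTT : ∀ a, ∑ r, T r s * T⁻¹ a r = if a = s then 1 else 0 := fun a => by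
        rw [← Matrix.one_apply, ← Matrix.nonsing_inv_mul T hT, Matrix.mul_apply]
        exact Finset.sum_congr rfl fun r _ => mul_comm _ _
      simp [hTT]
    exact AlgHom.congr_fun this g
  refine ⟨MvPolynomial.eval 0 f, ?_⟩
  have hval : φ f = MvPolynomial.C (MvPolynomial.eval 0 f) := by
    refine MvPolynomial.funext_set (fun _ => Set.range (algebraMap k A))
      (fun _ => Set.infinite_range_of_injective (algebraMap k A).injective) fun x hx => ?_
    choose h hh using fun i => hx i (Set.mem_univ i)
    rw [MvPolynomial.eval_C]
    have := congrArg (MvPolynomial.eval (0 : Fin m → A)) (hf h)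
    rw [← this]
    show MvPolynomial.eval x (MvPolynomial.aeval _ f) = MvPolynomial.eval 0 (MvPolynomial.aeval _ f)
    rw [← MvPolynomial.aeval_eq_eval, ← MvPolynomial.aeval_eq_eval]
    show ((MvPolynomial.aeval x).comp (MvPolynomial.aeval _)) f = ((MvPolynomial.aeval (0 : Fin m → A)).comp (MvPolynomial.aeval _)) f
    congr 1
    refine MvPolynomial.algHom_ext fun s => ?_
    simp [hh, mul_comm]
  have := congrArg ψ hval
  rw [hψφ] at this
  rw [this]
  simp [ψ]

end Groth.Agent.S11233
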