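import Groth.Statements.S11235
import Mathlib

set_option autoImplicit false
universe u
open CAlg

namespace Groth.Agent.S11235

/-- Let k be an algebraically closed field, A a commutative k-algebra, α ∈ k, and M a maximal ideal of
the polynomial ring A[x] containing x - α. Let I ⊆ M be an ideal whose zero set in Spec A[x] is
invariant under the automorphisms x ↦ c·x, c ∈ k nonzero (equivalently: the image of I under each
such A-algebra automorphism has the same radical as I). Then there is a maximal ideal of A[x]
containing I and x. -/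
theorem result (k : Type u) [Field k] [IsAlgClosed k]
    (A : Type u) [CommRing A] [Algebra k A] (α : k)
    (M : Ideal (Polynomial A)) (hM : M.IsMaximal)
    (hα : Polynomial.X - Polynomial.C (algebraMap k A α) ∈ M)
    (I : Ideal (Polynomial A)) (hIM : I ≤ M)
    (hI : ∀ c : kˣ, (I.map (Polynomial.aeval (R := A)
      (algebraMap k A (c : k) • (Polynomial.X : Polynomial A)))).radical = I.radical) :
    ∃ N : Ideal (Polynomial A), N.IsMaximal ∧ I ≤ N ∧ Polynomial.X ∈ N := by
  classical
  haveI := hM
  let m0 : Ideal A := M.comap Polynomial.C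
  have hI0 : I ≤ Ideal.span {Polynomial.X} ⊔ m0.map Polynomial.C := by
    intro f hf
    have hev : ∀ c : kˣ, Polynomial.eval (algebraMap k A ((c : k) * α)) f ∈ m0 := by
      intro c
      have h1 : Polynomial.aeval (R := A) (algebraMap k A (c : k) • (Polynomial.X : Polynomial A)) f ∈ M := by
        have h := Ideal.mem_map_of_mem (Polynomial.aeval (R := A) (algebraMap k A (c : k) • (Polynomial.X : Polynomial A))) hf
        exact (hM.isPrime.radical_le_iff.2 hIM) (hI c ▸ Ideal.le_radical h)
      obtain ⟨q, hq⟩ := Polynomial.X_sub_C_dvd_sub_C_eval (a := algebraMap k A α)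
        (p := Polynomial.aeval (R := A) (algebraMap k A (c : k) • (Polynomial.X : Polynomial A)) f)
      have h2 := sub_mem h1 (hq ▸ Ideal.mul_mem_right q M hα)
      rw [sub_sub_cancel] at h2
      show Polynomial.C _ ∈ M
      convert h2 using 2
      rw [Polynomial.aeval_def, Polynomial.algebraMap_eq, ← Polynomial.comp, Polynomial.eval_comp, Polynomial.eval_smul, Polynomial.eval_X, smul_eq_mul, map_mul]
    have h0 : Polynomial.eval 0 f ∈ m0 := by
      by_cases hα0 : α = 0
      · simpa [hα0] using hev 1
      · have : m0.IsPrime := hM.isPrime.comap _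
        let g : Polynomial (A ⧸ m0) := f.map (Ideal.Quotient.mk m0)
        let ψ : k → A ⧸ m0 := fun c => Ideal.Quotient.mk m0 (algebraMap k A c)
        have hψ : Function.Injective ψ := ((Ideal.Quotient.mk m0).comp (algebraMap k A)).injective
        have hgz : g = 0 := by
          refine Polynomial.eq_zero_of_infinite_isRoot g ?_
          refine Set.Infinite.mono ?_ (((Set.finite_singleton (0 : k)).infinite_compl).image hψ.injOn)
          rintro _ ⟨c, hc, rfl⟩
          show g.eval (ψ c) = 0
          have := hev (Units.mk0 (c / α) (div_ne_zero hc hα0))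
          rw [Units.val_mk0, div_mul_cancel₀ _ hα0, ← Ideal.Quotient.eq_zero_iff_mem] at this
          show (f.map (Ideal.Quotient.mk m0)).eval (ψ c) = 0
          rw [Polynomial.eval_map]
          exact (Polynomial.eval₂_at_apply (Ideal.Quotient.mk m0) _).trans this
        rw [← Ideal.Quotient.eq_zero_iff_mem, ← Polynomial.coeff_zero_eq_eval_zero, ← Polynomial.coeff_map]
        show g.coeff 0 = 0
        rw [hgz, Polynomial.coeff_zero]
    obtain ⟨q, hq⟩ := Polynomial.X_sub_C_dvd_sub_C_eval (a := (0 : A)) (p := f)
    rw [map_zero, sub_zero] at hq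
    rw [show f = Polynomial.X * q + Polynomial.C (Polynomial.eval 0 f) by rw [← hq, sub_add_cancel]]
    exact Submodule.add_mem_sup (Ideal.mul_mem_right _ _ (Ideal.mem_span_singleton_self _)) (Ideal.mem_map_of_mem _ h0)
  obtain ⟨N, hN, hle⟩ := Ideal.exists_le_maximal (Ideal.span {Polynomial.X} ⊔ m0.map Polynomial.C) (by
    intro h
    have h1 : (1 : Polynomial A) ∈ Ideal.span {Polynomial.X} ⊔ m0.map Polynomial.C := h ▸ Submodule.mem_top
    have h2 := Ideal.mem_map_of_mem (Polynomial.evalRingHom (0 : A)) h1
    rw [Ideal.map_sup, Ideal.map_span, Set.image_singleton, Ideal.map_map,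
      show (Polynomial.evalRingHom (0 : A)).comp Polynomial.C = RingHom.id A from RingHom.ext fun a => Polynomial.eval_C,
      Ideal.map_id, Polynomial.coe_evalRingHom, Polynomial.eval_X, Ideal.span_singleton_eq_bot.2 rfl, bot_sup_eq,
      Polynomial.eval_one] at h2
    exact hM.ne_top ((Ideal.eq_top_iff_one M).2 (by simpa [m0] using h2)))
  exact ⟨N, hN, hI0.trans hle, hle (Ideal.mem_sup_left (Ideal.mem_span_singleton_self _))⟩

end Groth.Agent.S11235
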