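import Groth.Statements.S1124
import Groth.Agent.Fpqc.Descent
import Mathlib.AlgebraicGeometry.Morphisms.SchemeTheoreticallyDominant
import Mathlib.AlgebraicGeometry.Morphisms.Immersion
import Mathlib.AlgebraicGeometry.Morphisms.UniversallyOpen
import Mathlib.Topology.LocallyClosed

set_option autoImplicit false
open CategoryTheory CategoryTheory.Limits AlgebraicGeometry Opposite
universe u
open Desc

namespace Groth.Agent.S1124
open CategoryTheory CategoryTheory.Limits AlgebraicGeometry MorphismProperty TopologicalSpace
open Groth.Agent.Fpqc.Descent
set_option backward.isDefEq.respectTransparency.types false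

/-- If the base change of a morphism of schemes along a quasi-compact, flat, surjective morphism is a
quasi-compact immersion, then the morphism itself is a quasi-compact immersion. (Stated for a single
quasi-compact flat surjective base change; together with Zariski-locality on the target this is fpqc
descent for quasi-compact immersions.) -/
theorem result :
    MorphismProperty.DescendsAlong (@IsImmersion ⊓ @QuasiCompact : MorphismProperty Scheme.{u})
      (@Surjective ⊓ @Flat ⊓ @QuasiCompact : MorphismProperty Scheme.{u}) := by
  have := Groth.Agent.S0079.result.{u}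
  refine DescendsAlong.mk' fun {X Y Z f g _} hf hg => ?_
  have : QuasiCompact g := of_pullback_fst_of_descendsAlong (Q := (@Surjective ⊓ @Flat ⊓ @QuasiCompact : MorphismProperty Scheme.{u})) hf hg.2
  refine ⟨?_, this⟩
  let f' := pullback.snd f g.imageι
  have hf' : (@Surjective ⊓ @Flat ⊓ @QuasiCompact : MorphismProperty Scheme.{u}) f' :=
    MorphismProperty.pullback_snd _ _ hf
  have := hf'.1.2
  let a := pullback.fst f' g.toImage
  have hdom : IsSchemeTheoreticallyDominant g.toImage := by
    rw [isSchemeTheoreticallyDominant_iff]
    refine Scheme.IdealSheafData.ext_of_iSup_eq_top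
      (fun U : Z.affineOpens => (⟨g.imageι ⁻¹ᵁ U.1, U.2.preimage g.imageι⟩ : g.image.affineOpens))
      ?_ fun U => ?_
    · rw [← Scheme.Hom.preimage_iSup, iSup_affineOpens_eq_top, Scheme.Hom.preimage_top]
    · rw [g.toImage.ker_apply]
      exact (RingHom.injective_iff_ker_eq_bot _).mp (g.toImage_app_injective U)
  have himm : IsImmersion (pullback.fst f (g.toImage ≫ g.imageι)) := by
    have e : pullback.fst f (g.toImage ≫ g.imageι) =
      (pullback.congrHom rfl g.toImage_imageι).hom ≫ pullback.fst f g := ((pullback.lift_fst _ _ _).trans (Category.comp_id _)).symm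
    rw [e]
    have := hg.1
    infer_instance
  have : IsImmersion a := by
    have : IsImmersion (a ≫ pullback.fst f g.imageι) := by
      rw [← pullbackLeftPullbackSndIso_hom_fst]
      infer_instance
    exact IsImmersion.of_comp a (pullback.fst f g.imageι)
  have : QuasiCompact a := MorphismProperty.pullback_fst _ _ inferInstance
  have : IsOpenImmersion a := by
    have hι : IsIso a.imageι := by
      rw [IsClosedImmersion.isIso_iff_ker_eq_bot]
      exact (Scheme.IdealSheafData.ker_subschemeι _).trans a.ker_eq_bot
    rw [← a.toImage_imageι]
    infer_instance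
  have : IsOpenImmersion g.toImage :=
    of_pullback_fst_of_descendsAlong (Q := (@Surjective ⊓ @Flat ⊓ @QuasiCompact : MorphismProperty Scheme.{u})) hf' ‹IsOpenImmersion a›
  rw [← g.toImage_imageι]
  infer_instance

end Groth.Agent.S1124
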