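import Groth.Statements.S11240
import Mathlib

set_option autoImplicit false
set_option backward.isDefEq.respectTransparency false
universe u
open AGF

namespace Groth.Agent.S11240

/-- For a single root subgroup: let k be an algebraically closed field and X = (x_ab) the generic n × m
matrix over the polynomial ring k[x_ab]. Let i ≠ j be row indices and let I (rows) and J (columns)
be strictly increasing sequences of length p. The minor of X with rows I and columns J is invariant
under replacing X by (1 + b·E_ij)·X for every b ∈ k (the one-parameter unipotent group adding b
times row j to row i) if and only if j occurs in I whenever i does. (The published statement gives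
the criterion for the group generated by several such root subgroups, which is the conjunction of
these.) -/
theorem result (k : Type u) [Field k] [IsAlgClosed k] (n m p : ℕ)
    (i j : Fin n) (hij : i ≠ j) (I : Fin p ↪o Fin n) (J : Fin p ↪o Fin m) :
    (∀ b : k, ((Matrix.transvection i j (MvPolynomial.C b) *
        (Matrix.of fun a c => (MvPolynomial.X (a, c) : MvPolynomial (Fin n × Fin m) k))).submatrix I J).det =
        ((Matrix.of fun a c => (MvPolynomial.X (a, c) : MvPolynomial (Fin n × Fin m) k)).submatrix I J).det) ↔
      (i ∈ Set.range I → j ∈ Set.range I) := by
  classical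
  set X : Matrix (Fin n) (Fin m) (MvPolynomial (Fin n × Fin m) k) := Matrix.of fun a c => MvPolynomial.X (a, c) with hX
  have hrow : ∀ (c : MvPolynomial (Fin n × Fin m) k) (a0 : Fin p), I a0 = i →
      (Matrix.transvection i j c * X).submatrix I J
        = (X.submatrix I J).updateRow a0 ((X.submatrix I J) a0 + c • fun b => X j (J b)) := by
    intro c a0 ha0
    ext a b
    by_cases h : a = a0
    · subst h
      simp [ha0, Matrix.transvection, Matrix.add_mul, Matrix.single_mul_apply_same, Matrix.one_mul]
    · have : I a ≠ i := fun e => h (I.injective (e.trans ha0.symm))
      simp [Matrix.updateRow_ne h, Matrix.transvection_mul_apply_of_ne _ _ _ _ this]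
  constructor
  · rintro h ⟨a0, ha0⟩
    by_contra hj
    have h1 := h 1
    rw [map_one, hrow 1 a0 ha0, Matrix.det_updateRow_add, Matrix.updateRow_eq_self, one_smul,
      add_eq_left] at h1
    let f : Fin n × Fin m → k := fun x => if ∃ a, (if a = a0 then j else I a) = x.1 ∧ J a = x.2 then 1 else 0
    have h2 := congrArg (MvPolynomial.eval f) h1
    rw [map_zero, RingHom.map_det] at h2
    have e : (MvPolynomial.eval f).mapMatrix ((X.submatrix I J).updateRow a0 (fun b => X j (J b))) = 1 := by
      ext a b
      have eX : ∀ r c, MvPolynomial.eval f (X r c) = f (r, c) := fun r c => by simp [hX]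
      have : ∀ a b, f ((if a = a0 then j else I a), J b) = if a = b then 1 else 0 := by
        intro a b
        simp only [f]
        by_cases hab : a = b
        · subst hab
          rw [if_pos ⟨a, rfl, rfl⟩, if_pos rfl]
        · rw [if_neg hab, if_neg]
          rintro ⟨c, hc1, hc2⟩
          have hcb := J.injective hc2
          subst hcb
          by_cases hc : c = a0
          · subst hc
            rw [if_pos rfl, if_neg hab] at hc1
            exact hj ⟨a, hc1.symm⟩
          · rw [if_neg hc] at hc1
            by_cases ha : a = a0
            · rw [if_pos ha] at hc1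
              exact hj ⟨c, hc1⟩
            · rw [if_neg ha] at hc1
              exact hab (I.injective hc1.symm)
      rw [Matrix.one_apply, ← this a b]
      by_cases ha : a = a0
      · subst ha; simp [eX]
      · simp [Matrix.updateRow_ne ha, ha, eX]
    rw [e, Matrix.det_one] at h2
    exact one_ne_zero h2
  · intro h b
    by_cases hi : i ∈ Set.range I
    · obtain ⟨a0, ha0⟩ := hi
      obtain ⟨a1, ha1⟩ := h ⟨a0, ha0⟩
      have hne : a0 ≠ a1 := fun e => hij (by rw [← ha0, ← ha1, e])
      rw [hrow _ a0 ha0, show (fun b => X j (J b)) = (X.submatrix I J) a1 by
        funext b; simp [ha1], Matrix.det_updateRow_add_smul_self _ hne]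
    · congr 1
      ext a c
      exact congrArg _ (Matrix.transvection_mul_apply_of_ne _ _ _ _ (fun e => hi ⟨a, e⟩) _ _) |>.trans rfl

end Groth.Agent.S11240
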