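import Groth.Statements.S11243
import Groth.Agent.RootDat.BaseB

set_option autoImplicit false
universe u v w
open RootD

open RootPairing Groth.Agent.RootDat.Form Groth.Agent.RootDat.Pos Groth.Agent.RootDat.Weyl Groth.Agent.RootDat.Exist
namespace Groth.Agent.S11243

/-- (b), for a connected group, as a statement about its root datum: let P be a finite reduced
crystallographic root pairing over ℤ with weight lattice M, and b a base of P (simple roots,
determining the positive roots). Then there is an additive map h : M → ℤ which is positive on every
positive root (so that h strictly increases along the dominance order) and non-negative on every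
dominant weight, i.e. on every ω ∈ M pairing non-negatively with all simple coroots. (Part (c),
invariance under the component group of a disconnected group, is not stated.) -/
theorem result {ι : Type u} {M : Type v} {N : Type w}
    [Fintype ι] [AddCommGroup M] [AddCommGroup N]
    (P : RootPairing ι ℤ M N) [P.IsReduced] [P.IsCrystallographic] (b : P.Base) :
    ∃ h : M →+ ℤ, (∀ i : ι, b.IsPos i → 0 < h (P.root i)) ∧
      ∀ ω : M, (∀ j ∈ b.support, 0 ≤ P.toLinearMap ω (P.coroot j)) → 0 ≤ h ω := by
  classical
  have hΔ := Groth.Agent.RootDat.BaseB.isSimpleSys_base b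
  have hS := isPosSys_posOf P hΔ
  refine ⟨(P.RootForm (Groth.Agent.RootDat.Dom.rho P (RootD.posOf P (b.support : Set ι)))).toAddMonoidHom,
    fun i hi => ?_, fun ω hω => ?_⟩
  · show 0 < B P _ (P.root i)
    rw [B_pos_iff]
    exact Groth.Agent.RootDat.Dom.rho_pos P hS ((Groth.Agent.RootDat.BaseB.isPos_iff_posOf b i).mp hi)
  · show 0 ≤ B P _ ω
    rw [B_comm, Groth.Agent.RootDat.Dom.rho]
    simp only [B, map_sum]
    refine Finset.sum_nonneg fun j hj => ?_
    have h1 := Groth.Agent.RootDat.Dom.pairing_nonneg_of_simple P (Δ := (b.support : Set ι)) (x := ω) hω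
      (Finset.mem_filter.mp hj).2
    by_contra hc
    exact absurd ((B_neg_iff P ω j).mp (not_le.mp hc)) (not_lt.mpr h1)

end Groth.Agent.S11243
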