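import Groth.Statements.S1125
import Groth.Agent.Fpqc.Descent
import Mathlib.AlgebraicGeometry.Morphisms.SchemeTheoreticallyDominant
import Mathlib.AlgebraicGeometry.Morphisms.Immersion
import Mathlib.AlgebraicGeometry.Morphisms.UniversallyOpen
import Mathlib.Topology.LocallyClosed

set_option autoImplicit false
open CategoryTheory CategoryTheory.Limits AlgebraicGeometry Opposite
universe u
open Desc

namespace Groth.Agent.S1125
open CategoryTheory CategoryTheory.Limits AlgebraicGeometry MorphismProperty TopologicalSpace
open Groth.Agent.Fpqc.Descent
set_option backward.isDefEq.respectTransparency.types false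

/-- If the base change of a morphism along a flat, surjective morphism locally of finite presentation is
an immersion, then the morphism is an immersion. (Single-cover form of the fppf-local statement;
Zariski-locality on the target gives the covering form.) -/
theorem result :
    MorphismProperty.DescendsAlong (@IsImmersion : MorphismProperty Scheme.{u})
      (@Surjective ⊓ @Flat ⊓ @LocallyOfFinitePresentation : MorphismProperty Scheme.{u}) := by
  have := isClosedImmersion.{u}
  refine DescendsAlong.mk' fun {X Y Z f g _} hf hg => ?_
  have := hf.1.1
  have := hf.1.2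
  have := hf.2
  have := hg
  have hr : f ⁻¹' Set.range g = Set.range (pullback.fst f g) := by
    rw [Scheme.Pullback.range_fst]
  have hlc : IsLocallyClosed (f ⁻¹' Set.range g) := hr ▸ (pullback.fst f g).isLocallyClosed_range
  have hq : Topology.IsQuotientMap f :=
    IsOpenMap.isQuotientMap f.isOpenMap f.continuous f.surjective
  have hcb : coborder (f ⁻¹' Set.range g) = f ⁻¹' coborder (Set.range g) :=
    coborder_preimage f.isOpenMap f.continuous _
  have hopen : IsOpen (coborder (Set.range g)) := by
    rw [← hq.isOpen_preimage, ← hcb]; exact hlc.isOpen_coborder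
  let U : Z.Opens := ⟨coborder (Set.range g), hopen⟩
  let g' : Y ⟶ U := IsOpenImmersion.lift U.ι g (by simpa [U] using! subset_coborder)
  let f' := pullback.snd f U.ι
  have hf' : (@Surjective ⊓ @Flat ⊓ @LocallyOfFinitePresentation : MorphismProperty Scheme.{u}) f' :=
    MorphismProperty.pullback_snd _ _ hf
  let a := pullback.fst f' g'
  have himm : IsImmersion (pullback.fst f (g' ≫ U.ι)) := by
    have e : pullback.fst f (g' ≫ U.ι) =
      (pullback.congrHom rfl (IsOpenImmersion.lift_fac _ _ _)).hom ≫ pullback.fst f g := ((pullback.lift_fst _ _ _).trans (Category.comp_id _)).symm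
    rw [e]
    infer_instance
  have : IsImmersion a := by
    have : IsImmersion (a ≫ pullback.fst f U.ι) := by
      rw [← pullbackLeftPullbackSndIso_hom_fst]
      infer_instance
    exact IsImmersion.of_comp a (pullback.fst f U.ι)
  have : IsClosedImmersion a := by
    refine .of_isPreimmersion _ ?_
    rw [Scheme.Pullback.range_fst]
    refine IsClosed.preimage f'.continuous ?_
    have hcl : IsClosed ((Subtype.val : coborder (Set.range g) → Z) ⁻¹' Set.range g) := isClosed_preimage_val_coborder
    suffices e : Set.range g' = U.ι ⁻¹' Set.range g by rw [e]; exact hcl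
    ext v
    constructor
    · rintro ⟨y, rfl⟩
      exact ⟨y, (congr($(IsOpenImmersion.lift_fac U.ι g (by simpa [U] using! subset_coborder)) y)).symm⟩
    · rintro ⟨y, hy⟩
      exact ⟨y, U.ι.injective ((congr($(IsOpenImmersion.lift_fac U.ι g (by simpa [U] using! subset_coborder)) y)).trans hy)⟩
  have : IsClosedImmersion g' :=
    of_pullback_fst_of_descendsAlong (Q := (@Surjective ⊓ @Flat ⊓ @LocallyOfFinitePresentation : MorphismProperty Scheme.{u})) hf' ‹IsClosedImmersion a›
  rw [← IsOpenImmersion.lift_fac U.ι g (by simpa [U] using! subset_coborder)]
  infer_instance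

end Groth.Agent.S1125
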