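import Groth.Statements.S11257
-- import your own Groth.Agent.* helpers here

set_option autoImplicit false
universe u
open W4bk4grassmannian

namespace Groth.Agent.S11257

/-- Let A be a Noetherian local integral domain with maximal ideal m, I and J ideals of A, d ≥ 1, and
f_1, …, f_d ∈ m. Assume depth A/(I+J) ≥ d - 1, depth A/I ≥ d and depth A/J ≥ d (depths of the
quotients as A-modules), that f_1, …, f_d is a regular sequence on A/I and on A/J, and that f_1, …,
f_{d-1} is a regular sequence on A/(I+J). Then f_1, …, f_d is a regular sequence on A/(I ∩ J). -/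
theorem result (A : Type u) [CommRing A] [IsDomain A]
    [IsNoetherianRing A] [IsLocalRing A] (I J : Ideal A) (d : ℕ) (hd : 0 < d) (f : Fin d → A)
    (hf : ∀ k, f k ∈ IsLocalRing.maximalIdeal A)
    (hIJd : ((d - 1 : ℕ) : ℕ∞) ≤ LocCoh.depth A (A ⧸ (I ⊔ J)))
    (hId : (d : ℕ∞) ≤ LocCoh.depth A (A ⧸ I)) (hJd : (d : ℕ∞) ≤ LocCoh.depth A (A ⧸ J))
    (hI : RingTheory.Sequence.IsRegular (A ⧸ I) (List.ofFn f))
    (hJ : RingTheory.Sequence.IsRegular (A ⧸ J) (List.ofFn f))
    (hIJ : RingTheory.Sequence.IsRegular (A ⧸ (I ⊔ J)) ((List.ofFn f).take (d - 1))) :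
    RingTheory.Sequence.IsRegular (A ⧸ (I ⊓ J)) (List.ofFn f) := by
  classical
  open RingTheory.Sequence in
  have lemA : ∀ (rs : List A) (r : A) (M1 M2 M3 : Type u) [AddCommGroup M1] [Module A M1]
      [AddCommGroup M2] [Module A M2] [AddCommGroup M3] [Module A M3]
      (f1 : M1 →ₗ[A] M2) (g1 : M2 →ₗ[A] M3), Function.Injective f1 → Function.Exact f1 g1 →
      Function.Surjective g1 → IsWeaklyRegular M2 (rs ++ [r]) → IsWeaklyRegular M3 rs →
      IsWeaklyRegular M1 (rs ++ [r]) := by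
    intro rs
    induction rs with
    | nil =>
      intro r M1 M2 M3 _ _ _ _ _ _ f1 g1 hf1 _ _ h2 _
      simp only [List.nil_append, isWeaklyRegular_singleton_iff] at h2 ⊢
      exact h2.of_injective f1 hf1
    | cons a rs ih =>
      intro r M1 M2 M3 _ _ _ _ _ _ f1 g1 hf1 hex hg1 h2 h3
      simp only [List.cons_append, isWeaklyRegular_cons_iff] at h2 h3 ⊢
      refine ⟨h2.1.of_injective f1 hf1, ih r _ _ _ (QuotSMulTop.map a f1) (QuotSMulTop.map a g1) ?_
        (QuotSMulTop.map_exact a hex hg1) (QuotSMulTop.map_surjective a hg1) h2.2 h3.2⟩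
      have hz : Function.Exact (0 : M1 →ₗ[A] M1) f1 :=
        (LinearMap.exact_iff.mpr (by rw [LinearMap.range_zero, LinearMap.ker_eq_bot.mpr hf1]))
      have h := QuotSMulTop.map_first_exact_on_four_term_exact_of_isSMulRegular_last hz hex h3.1
      rw [map_zero, LinearMap.exact_iff, LinearMap.range_zero] at h
      exact LinearMap.ker_eq_bot.mp h
  have lemB : ∀ (rs : List A) (M1 M2 M3 : Type u) [AddCommGroup M1] [Module A M1]
      [AddCommGroup M2] [Module A M2] [AddCommGroup M3] [Module A M3]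
      (f1 : M1 →ₗ[A] M2) (g1 : M2 →ₗ[A] M3), Function.Injective f1 → Function.Exact f1 g1 →
      Function.Surjective g1 → IsWeaklyRegular M1 rs → IsWeaklyRegular M3 rs →
      IsWeaklyRegular M2 rs := by
    intro rs
    induction rs with
    | nil => intros; exact IsWeaklyRegular.nil A _
    | cons a rs ih =>
      intro M1 M2 M3 _ _ _ _ _ _ f1 g1 hf1 hex hg1 h1 h3
      rw [isWeaklyRegular_cons_iff] at h1 h3 ⊢
      refine ⟨?_, ih _ _ _ (QuotSMulTop.map a f1) (QuotSMulTop.map a g1) ?_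
        (QuotSMulTop.map_exact a hex hg1) (QuotSMulTop.map_surjective a hg1) h1.2 h3.2⟩
      · refine (isSMulRegular_iff_right_eq_zero_of_smul).mpr fun x hx => ?_
        have hgx : g1 x = 0 := h3.1.right_eq_zero_of_smul (by rw [← map_smul, hx, map_zero])
        obtain ⟨y, rfl⟩ := (hex x).mp hgx
        rw [← map_smul] at hx
        rw [h1.1.right_eq_zero_of_smul (hf1 (hx.trans (map_zero f1).symm)), map_zero]
      · have hz : Function.Exact (0 : M1 →ₗ[A] M1) f1 :=
          (LinearMap.exact_iff.mpr (by rw [LinearMap.range_zero, LinearMap.ker_eq_bot.mpr hf1]))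
        have h := QuotSMulTop.map_first_exact_on_four_term_exact_of_isSMulRegular_last hz hex h3.1
        rw [map_zero, LinearMap.exact_iff, LinearMap.range_zero] at h
        exact LinearMap.ker_eq_bot.mp h
  obtain ⟨r, hr⟩ : ∃ r, List.ofFn f = (List.ofFn f).take (d - 1) ++ [r] :=
    ⟨f ⟨d - 1, by omega⟩, by
      conv_lhs => rw [← List.take_append_drop (d - 1) (List.ofFn f)]
      congr 1
      rw [List.drop_eq_getElem_cons (by simp; omega)]
      simp
      omega⟩
  set rs := (List.ofFn f).take (d - 1)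
  let N : Submodule A (A ⧸ I) := Submodule.map I.mkQ (I ⊔ J)
  let eN : ((A ⧸ I) ⧸ N) ≃ₗ[A] A ⧸ (I ⊔ J) := Submodule.quotientQuotientEquivQuotient I (I ⊔ J) le_sup_left
  have hN : RingTheory.Sequence.IsWeaklyRegular N (List.ofFn f) := by
    rw [hr]
    exact lemA rs r N (A ⧸ I) ((A ⧸ I) ⧸ N) N.subtype N.mkQ N.injective_subtype
      (LinearMap.exact_subtype_mkQ N) N.mkQ_surjective (hr ▸ hI.toIsWeaklyRegular)
      ((eN.isWeaklyRegular_congr rs).mpr hIJ.toIsWeaklyRegular)
  let P : Submodule A (A ⧸ (I ⊓ J)) := Submodule.map (I ⊓ J).mkQ J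
  let eP : ((A ⧸ (I ⊓ J)) ⧸ P) ≃ₗ[A] A ⧸ J :=
    Submodule.quotientQuotientEquivQuotient (I ⊓ J) J inf_le_right
  let φ : P →ₗ[A] A ⧸ I := (Submodule.mapQ (I ⊓ J) I LinearMap.id (fun x hx => hx.1)).domRestrict P
  have hφi : Function.Injective φ := by
    rw [injective_iff_map_eq_zero]
    rintro ⟨q, j, hj, rfl⟩ hq
    have hjI : j ∈ I := (Submodule.Quotient.mk_eq_zero I).mp hq
    exact Subtype.ext ((Submodule.Quotient.mk_eq_zero _).mpr ⟨hjI, hj⟩)
  have hφr : LinearMap.range φ = N := by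
    refine le_antisymm ?_ ?_
    · rintro _ ⟨⟨q, j, hj, rfl⟩, rfl⟩
      exact ⟨j, Submodule.mem_sup_right hj, rfl⟩
    · rintro _ ⟨x, hx, rfl⟩
      obtain ⟨i, hi, j, hj, rfl⟩ := Submodule.mem_sup.mp hx
      refine ⟨⟨Submodule.Quotient.mk j, j, hj, rfl⟩, ?_⟩
      show Submodule.Quotient.mk j = (Submodule.Quotient.mk (i + j) : A ⧸ I)
      rw [Submodule.Quotient.mk_add, (Submodule.Quotient.mk_eq_zero I).mpr hi, zero_add]
  let eφ : P ≃ₗ[A] N := LinearEquiv.ofInjective φ hφi ≪≫ₗ LinearEquiv.ofEq _ _ hφr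
  have hw : RingTheory.Sequence.IsWeaklyRegular (A ⧸ (I ⊓ J)) (List.ofFn f) :=
    lemB _ P (A ⧸ (I ⊓ J)) ((A ⧸ (I ⊓ J)) ⧸ P) P.subtype P.mkQ P.injective_subtype
      (LinearMap.exact_subtype_mkQ P) P.mkQ_surjective ((eφ.isWeaklyRegular_congr _).mpr hN)
      ((eP.isWeaklyRegular_congr _).mpr hJ.toIsWeaklyRegular)
  haveI : Nontrivial (A ⧸ (I ⊓ J)) := by
    haveI := hI.nontrivial
    exact Submodule.Quotient.nontrivial_iff.mpr fun htop =>
        Submodule.Quotient.nontrivial_iff.mp (inferInstanceAs (Nontrivial (A ⧸ I)))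
          (top_le_iff.mp (htop ▸ inf_le_left))
  refine (IsLocalRing.isRegular_iff_isWeaklyRegular_of_subset_maximalIdeal ?_).mpr hw
  intro x hx
  rw [List.mem_ofFn] at hx
  obtain ⟨k, rfl⟩ := hx
  exact hf k

end Groth.Agent.S11257
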