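import Groth.Statements.S1126
import Groth.Agent.Fpqc.Descent
import Groth.Agent.UnivHomeo.Basic
import Groth.Agent.Cons.Basic
import Groth.Agent.S2489
import Groth.Prelude.Def_Mor2
import Mathlib.AlgebraicGeometry.Morphisms.FlatRank
import Mathlib.AlgebraicGeometry.Sites.Fpqc
import Mathlib.RingTheory.RingHom.Flat

set_option autoImplicit false
open CategoryTheory CategoryTheory.Limits AlgebraicGeometry Opposite
universe u
open Desc

namespace Groth.Agent.S1126
open CategoryTheory CategoryTheory.Limits AlgebraicGeometry MorphismProperty TopologicalSpace
open Groth.Agent.Fpqc.Descent Groth.Agent.Cons.Basic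
set_option backward.isDefEq.respectTransparency.types false

/-- If the base change of a morphism along a quasi-compact flat surjective morphism to its target is a
universal homeomorphism, then the morphism is a universal homeomorphism. (Stated for a single
quasi-compact flat surjective base change; combined with Zariski-locality on the target this gives
the fpqc-local form.) -/
theorem result :
    MorphismProperty.DescendsAlong (FlatMor.IsUnivHomeo.{u})
      (@Surjective ⊓ @Flat ⊓ @QuasiCompact : MorphismProperty Scheme.{u}) := by
  have : (FlatMor.IsUnivHomeo.{u}).RespectsIso := universally_respectsIso _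
  refine DescendsAlong.mk' fun {X Y Z f g _} hf hg => ?_
  have := Groth.Agent.UnivHomeo.Basic.universallyClosed_of_isUnivHomeo hg
  have := Groth.Agent.UnivHomeo.Basic.universallyInjective_of_isUnivHomeo hg
  have := Groth.Agent.UnivHomeo.Basic.surjective_of_isUnivHomeo hg
  have : UniversallyClosed g := of_pullback_fst_of_descendsAlong (Q := (@Surjective ⊓ @Flat ⊓ @QuasiCompact : MorphismProperty Scheme.{u})) hf ‹UniversallyClosed (pullback.fst f g)›
  have : UniversallyInjective g := of_pullback_fst_of_descendsAlong (Q := (@Surjective ⊓ @Flat ⊓ @QuasiCompact : MorphismProperty Scheme.{u})) hf ‹UniversallyInjective (pullback.fst f g)›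
  have : Surjective g := of_pullback_fst_of_descendsAlong (Q := (@Surjective ⊓ @Flat ⊓ @QuasiCompact : MorphismProperty Scheme.{u})) hf ‹Surjective (pullback.fst f g)›
  exact Groth.Agent.UnivHomeo.Basic.isUnivHomeo_of g

end Groth.Agent.S1126
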