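import Groth.Statements.S11261
import Groth.Agent.Lead.Grass.Varieties
-- import your own Groth.Agent.* helpers here

set_option autoImplicit false
universe u
open W4bk4grassmannian

namespace Groth.Agent.S11261

open W4bk4grassmannian in
/-- Shape of the straightening relations of a skew pair: let K be an algebraically closed field, 0 < d <
n, S = K[X_θ : θ ∈ I(d,n)] the Plücker polynomial ring on the strictly increasing maps Fin d → Fin n
ordered entrywise, and J ⊆ S the ideal of polynomials vanishing at the row-minors of every n × d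
matrix over K (the homogeneous ideal of G(d,n)). Let τ, φ ∈ I(d,n) be incomparable, with entrywise
maximum τ ∨ φ and minimum τ ∧ φ. Then there is a K-linear combination g of monomials X_α X_β with β
≤ α, τ ∨ φ < α and β < τ ∧ φ such that X_τ X_φ - X_{τ∨φ} X_{τ∧φ} - g lies in J. -/
theorem result (K : Type u) [Field K] [IsAlgClosed K] (d n : ℕ)
    (hd : 0 < d) (hdn : d < n) (τ φ : Idx d n) (h₁ : ¬ τ ≤ φ) (h₂ : ¬ φ ≤ τ) :
    ∃ g ∈ Submodule.span K {f : PlRing K d n | ∃ α β : Idx d n,
        β ≤ α ∧ W4bk4grassmannian.sup τ φ < α ∧ β < W4bk4grassmannian.inf τ φ ∧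
          f = MvPolynomial.X α * MvPolynomial.X β},
      MvPolynomial.X τ * MvPolynomial.X φ -
          MvPolynomial.X (W4bk4grassmannian.sup τ φ) * MvPolynomial.X (W4bk4grassmannian.inf τ φ) - g ∈
        vanishing K d n := by
  classical
  obtain ⟨l, h1, h2, h3⟩ := LeadGrass.straighten K hd hdn.le τ φ
  have hsame : ∀ p ∈ l.support, p ≠ (W4bk4grassmannian.sup τ φ, W4bk4grassmannian.inf τ φ) →
      p.2 ≤ p.1 ∧ W4bk4grassmannian.sup τ φ < p.1 ∧ p.2 < W4bk4grassmannian.inf τ φ := by
    intro p hp hne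
    obtain ⟨a, b, c, e⟩ := h2 p hp
    refine ⟨a, lt_of_le_of_ne b fun he => hne (Prod.ext he.symm (LeadGrass.eq_of_cnt fun x => ?_)),
      lt_of_le_of_ne c fun he => hne (Prod.ext (LeadGrass.eq_of_cnt fun x => ?_) he)⟩
    · have := e x; rw [← he, LeadGrass.cnt_sup] at this; rw [LeadGrass.cnt_inf]; omega
    · have := e x; rw [he, LeadGrass.cnt_inf] at this; rw [LeadGrass.cnt_sup]; omega
  refine ⟨∑ p ∈ l.support.erase (W4bk4grassmannian.sup τ φ, W4bk4grassmannian.inf τ φ), l p • LeadGrass.pairMon K p,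
    Submodule.sum_mem _ fun p hp => ?_, ?_⟩
  · obtain ⟨hne, hp⟩ := Finset.mem_erase.1 hp
    obtain ⟨a, b, c⟩ := hsame p hp hne
    exact Submodule.smul_mem _ _ (Submodule.subset_span ⟨p.1, p.2, a, b, c, rfl⟩)
  · rw [LeadGrass.vanishing_eq K hd hdn.le]
    convert h3 using 1
    rw [Finsupp.sum, ← Finset.add_sum_erase _ _ (Finsupp.mem_support_iff.2 (by rw [h1]; exact one_ne_zero) :
      (W4bk4grassmannian.sup τ φ, W4bk4grassmannian.inf τ φ) ∈ l.support), h1, one_smul, LeadGrass.pairMon]
    ring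

end Groth.Agent.S11261
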