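import Groth.Statements.S11262
import Mathlib.RingTheory.MvPolynomial.Ideal
import Mathlib.RingTheory.MvPolynomial.Homogeneous
import Mathlib.Algebra.Order.Antidiag.FinsuppEquiv
import Mathlib.LinearAlgebra.Dimension.Constructions
import Mathlib.LinearAlgebra.Isomorphisms
-- import your own Groth.Agent.* helpers here

set_option autoImplicit false
universe u v
open W4bk4grassmannian

namespace Groth.Agent.S11262

/-- Hilbert function of the Stanley–Reisner ring of a finite distributive lattice: let K be a field, L a
finite distributive lattice, R = K[x_α : α ∈ L], I ⊆ R the ideal generated by the products x_α x_β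
over the incomparable (skew) pairs α, β, and m ≥ 1. Then the image in R/I of the homogeneous
polynomials of degree m has K-dimension equal to the sum, over the nonempty chains C ⊆ L, of the
binomial coefficient (m - 1 choose |C| - 1). (The published statement is that the degree of R/I
equals the number of maximal chains of L; this row states the Hilbert function from which that
degree is read off.) -/
theorem result (K : Type u) [Field K] (L : Type v) [DistribLattice L]
    [Fintype L] (m : ℕ) (hm : 1 ≤ m) :
    Module.finrank K ((MvPolynomial.homogeneousSubmodule L K m).map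
        (Ideal.Quotient.mkₐ K (Ideal.span {f : MvPolynomial L K | ∃ a b : L, ¬ a ≤ b ∧ ¬ b ≤ a ∧
          f = MvPolynomial.X a * MvPolynomial.X b})).toLinearMap) =
      ∑ᶠ C : {C : Finset L // C.Nonempty ∧ IsChain (fun a b : L => a ≤ b) (↑C : Set L)},
        Nat.choose (m - 1) (C.1.card - 1) := by
  classical
  let P : Finset L → Prop := fun C => IsChain (fun a b : L => a ≤ b) (↑C : Set L)
  let G : Finset (L →₀ ℕ) := ((Finset.univ : Finset L).finsuppAntidiag m).filter fun d => P d.support
  let I : Ideal (MvPolynomial L K) := Ideal.span {f : MvPolynomial L K | ∃ a b : L, ¬ a ≤ b ∧ ¬ b ≤ a ∧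
    f = MvPolynomial.X a * MvPolynomial.X b}
  have hI : I = Ideal.span ((fun s => MvPolynomial.monomial s (1 : K)) ''
      {s : L →₀ ℕ | ∃ a b : L, ¬ a ≤ b ∧ ¬ b ≤ a ∧ s = Finsupp.single a 1 + Finsupp.single b 1}) := by
    refine congrArg Ideal.span (Set.ext fun f => ?_)
    constructor
    · rintro ⟨a, b, h1, h2, rfl⟩
      exact ⟨_, ⟨a, b, h1, h2, rfl⟩, by simp [MvPolynomial.X, MvPolynomial.monomial_mul]⟩
    · rintro ⟨_, ⟨a, b, h1, h2, rfl⟩, rfl⟩
      exact ⟨a, b, h1, h2, by simp [MvPolynomial.X, MvPolynomial.monomial_mul]⟩
  have hnc : ∀ d : L →₀ ℕ, ¬ P d.support ↔ ∃ s ∈ {s : L →₀ ℕ | ∃ a b : L, ¬ a ≤ b ∧ ¬ b ≤ a ∧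
      s = Finsupp.single a 1 + Finsupp.single b 1}, s ≤ d := by
    intro d
    constructor
    · intro h
      by_contra hc
      refine h fun a ha b hb hab => ?_
      by_contra hab'
      push Not at hab'
      refine hc ⟨_, ⟨a, b, hab'.1, hab'.2, rfl⟩, fun i => ?_⟩
      have ha' : d a ≠ 0 := Finsupp.mem_support_iff.mp ha
      have hb' : d b ≠ 0 := Finsupp.mem_support_iff.mp hb
      rcases eq_or_ne i a with rfl | hia
      · simp [Finsupp.single_apply, Ne.symm hab]
        omega
      · rcases eq_or_ne i b with rfl | hib
        · simp [Finsupp.single_apply, Ne.symm hia]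
          omega
        · simp [Finsupp.single_apply, Ne.symm hia, Ne.symm hib]
    · rintro ⟨_, ⟨a, b, h1, h2, rfl⟩, hle⟩ hP
      have hab : a ≠ b := fun h => h1 h.le
      have ha : a ∈ d.support := by
        have := hle a
        simp [Finsupp.single_apply, Ne.symm hab] at this
        exact Finsupp.mem_support_iff.mpr (by omega)
      have hb : b ∈ d.support := by
        have := hle b
        simp [Finsupp.single_apply, hab] at this
        exact Finsupp.mem_support_iff.mpr (by omega)
      rcases hP ha hb hab with h | h
      · exact h1 h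
      · exact h2 h
  have hGmem : ∀ d : L →₀ ℕ, d ∈ G ↔ d.degree = m ∧ P d.support := by
    intro d
    simp [G, Finset.mem_finsuppAntidiag, Finsupp.degree_eq_sum]
  let W := MvPolynomial.homogeneousSubmodule L K m
  let q : W →ₗ[K] MvPolynomial L K ⧸ I := (Ideal.Quotient.mkₐ K I).toLinearMap ∘ₗ W.subtype
  let Φ : W →ₗ[K] (↥G → K) := LinearMap.pi fun d => MvPolynomial.lcoeff K d.1 ∘ₗ W.subtype
  have hker : LinearMap.ker q = LinearMap.ker Φ := by
    ext ⟨f, hf⟩
    simp only [LinearMap.mem_ker]
    refine Iff.trans (Ideal.Quotient.eq_zero_iff_mem) ?_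
    rw [hI, MvPolynomial.mem_ideal_span_monomial_image]
    constructor
    · intro h
      funext d
      show MvPolynomial.coeff d.1 f = 0
      by_contra hd
      exact (hnc d.1).mpr (h d.1 (MvPolynomial.mem_support_iff.mpr hd)) ((hGmem d.1).mp d.2).2
    · intro h d hd
      refine (hnc d).mp fun hP => MvPolynomial.mem_support_iff.mp hd ?_
      have hdeg : d.degree = m := by
        have := hf (MvPolynomial.mem_support_iff.mp hd)
        rwa [Finsupp.degree_eq_weight_one]
      exact congrFun h ⟨d, (hGmem d).mpr ⟨hdeg, hP⟩⟩
  have hsurj : Function.Surjective Φ := by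
    intro c
    refine ⟨⟨∑ d : ↥G, MvPolynomial.monomial d.1 (c d), Submodule.sum_mem _ fun d _ => ?_⟩, ?_⟩
    · exact MvPolynomial.isHomogeneous_monomial _ ((hGmem d.1).mp d.2).1
    · funext e
      show MvPolynomial.coeff e.1 (∑ d : ↥G, MvPolynomial.monomial d.1 (c d)) = c e
      rw [MvPolynomial.coeff_sum, Finset.sum_eq_single e (fun d _ hd => ?_) (by simp)]
      · simp
      · rw [MvPolynomial.coeff_monomial, if_neg fun h => hd (Subtype.ext h)]
  have hrange : LinearMap.range q = (MvPolynomial.homogeneousSubmodule L K m).map
      (Ideal.Quotient.mkₐ K I).toLinearMap := by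
    rw [LinearMap.range_comp, Submodule.range_subtype]
  show Module.finrank K ((MvPolynomial.homogeneousSubmodule L K m).map
      (Ideal.Quotient.mkₐ K I).toLinearMap) = _
  rw [← hrange, ← (q.quotKerEquivRange).finrank_eq, hker,
    (Φ.quotKerEquivOfSurjective hsurj).finrank_eq, Module.finrank_pi, Fintype.card_coe]
  -- counting
  let S : Finset (Finset L) := Finset.univ.filter fun C => C.Nonempty ∧ P C
  haveI : Fintype {C : Finset L // C.Nonempty ∧ IsChain (fun a b : L => a ≤ b) (↑C : Set L)} :=
    Fintype.ofFinite _
  rw [finsum_eq_sum_of_fintype, ← Finset.sum_subtype S (by simp [S, P])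
    (fun C => Nat.choose (m - 1) (C.card - 1))]
  rw [Finset.card_eq_sum_card_fiberwise (f := fun d : L →₀ ℕ => d.support) (t := S) (fun d hd => by
    have h := (hGmem d).mp hd
    refine Finset.mem_filter.mpr ⟨Finset.mem_univ _, ?_, h.2⟩
    rw [Finsupp.support_nonempty_iff]
    rintro rfl
    simp at h
    omega)]
  refine Finset.sum_congr rfl fun C hC => ?_
  obtain ⟨-, hCne, hCP⟩ := Finset.mem_filter.mp hC
  have hCpos : 0 < C.card := Finset.card_pos.mpr hCne
  have hone : ∀ i, (∑ j ∈ C, Finsupp.single j 1) i = if i ∈ C then 1 else 0 := fun i => by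
    simp [Finsupp.finsetSum_apply, Finsupp.single_apply]
  set u : L →₀ ℕ := ∑ j ∈ C, Finsupp.single j 1
  have hudeg : u.degree = C.card := by
    rw [Finsupp.degree_eq_sum]
    simp [hone]
  by_cases hCm : C.card ≤ m
  · have hbij : (G.filter fun d => d.support = C).card = (C.finsuppAntidiag (m - C.card)).card := by
      refine Finset.card_bij' (fun d _ => d - u) (fun e _ => e + u) ?_ ?_ ?_ ?_
      · intro d hd
        simp only [Finset.mem_filter, hGmem] at hd
        have hle : u ≤ d := fun i => by
          rw [hone]
          split_ifs with hi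
          · exact Nat.one_le_iff_ne_zero.mpr (Finsupp.mem_support_iff.mp (hd.2 ▸ hi))
          · exact Nat.zero_le _
        have hsupp : (d - u).support ⊆ C := fun i hi => hd.2 ▸ Finsupp.support_tsub hi
        refine Finset.mem_finsuppAntidiag.mpr ⟨?_, hsupp⟩
        have h1 : Finsupp.degree (d - u) + Finsupp.degree u = Finsupp.degree d := by
          rw [← map_add, tsub_add_cancel_of_le hle]
        rw [hd.1.1, hudeg, Finsupp.degree_apply] at h1
        rw [← Finset.sum_subset hsupp (fun i _ hi => Finsupp.notMem_support_iff.mp hi)]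
        omega
      · intro e he
        obtain ⟨hsum, hsupp⟩ := Finset.mem_finsuppAntidiag.mp he
        have hs : (e + u).support = C := by
          ext i
          simp only [Finsupp.mem_support_iff, Finsupp.coe_add, Pi.add_apply, hone]
          constructor
          · intro h
            by_contra hi
            exact h (by simp [if_neg hi, Finsupp.notMem_support_iff.mp fun h' => hi (hsupp h')])
          · intro hi
            rw [if_pos hi]
            omega
        simp only [Finset.mem_filter, hGmem, hs]
        refine ⟨⟨?_, hCP⟩, trivial⟩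
        rw [map_add, hudeg, Finsupp.degree_apply,
          Finset.sum_subset hsupp (fun i _ hi => Finsupp.notMem_support_iff.mp hi), hsum]
        omega
      · intro d hd
        simp only [Finset.mem_filter, hGmem] at hd
        refine tsub_add_cancel_of_le fun i => ?_
        rw [hone]
        split_ifs with hi
        · exact Nat.one_le_iff_ne_zero.mpr (Finsupp.mem_support_iff.mp (hd.2 ▸ hi))
        · exact Nat.zero_le _
      · intro e _
        exact add_tsub_cancel_right e u
    rw [hbij, Finset.card_finsuppAntidiag_nat_eq_choose, show C.card + (m - C.card) - 1 = m - 1 by omega]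
    exact Nat.choose_symm_of_eq_add (by omega)
  · rw [Nat.choose_eq_zero_of_lt (by omega), Finset.card_eq_zero, Finset.filter_eq_empty_iff]
    intro d hd hs
    have h := ((hGmem d).mp hd).1
    rw [Finsupp.degree_apply, hs] at h
    have : C.card ≤ ∑ i ∈ C, d i := by
      rw [Finset.card_eq_sum_ones]
      exact Finset.sum_le_sum fun i hi => Nat.one_le_iff_ne_zero.mpr (Finsupp.mem_support_iff.mp (hs ▸ hi))
    omega

end Groth.Agent.S11262
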