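import Groth.Statements.S11270
import Groth.Agent.Lead.Grass.Varieties
-- import your own Groth.Agent.* helpers here

set_option autoImplicit false
universe u
open W4bk4grassmannian

namespace Groth.Agent.S11270

open W4bk4grassmannian in
/-- The least Plücker coordinate is a prime element on every Schubert variety: let K be an algebraically
closed field, 0 < d < n, and I(d,n) the strictly increasing maps Fin d → Fin n ordered entrywise; S
= K[X_θ : θ ∈ I(d,n)] is the Plücker polynomial ring and, for τ ∈ I(d,n), J(τ) ⊆ S is the ideal of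
polynomials vanishing at the d × d row-minors of every n × d matrix over K whose minors on rows φ ≰
τ are zero (the homogeneous ideal of the Schubert variety X(τ) ⊆ G(d,n)). Let w ∈ I(d,n) and let ι =
(0, 1, …, d - 1) be the least element of I(d,n), written (1, …, d) in 1-based indexing. Then the
class of X_ι in S/J(w) is a prime element; it generates the kernel of the restriction to the section
of X(w) by the opposite Schubert divisor. -/
theorem result (K : Type u) [Field K] [IsAlgClosed K] (d n : ℕ)
    (hd : 0 < d) (hdn : d < n) (w : Idx d n) :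
    Prime (Ideal.Quotient.mk (schubertVanishing K d n w)
      (MvPolynomial.X (⟨fun t => ⟨t.val, lt_trans t.isLt hdn⟩, fun a b h => h⟩ : Idx d n))) := by
  have hb : (⟨fun t => ⟨t.val, lt_trans t.isLt hdn⟩, fun a b h => h⟩ : Idx d n) = LeadGrass.bot hdn.le := rfl
  rw [hb, ← LeadGrass.plIdeal_eq_vanishing K hd]
  have hne : Ideal.Quotient.mk (plIdeal K w) (MvPolynomial.X (LeadGrass.bot hdn.le)) ≠ 0 := by
    rw [Ne, Ideal.Quotient.eq_zero_iff_mem]
    intro hc
    exact LeadGrass.rho_ne K (LeadGrass.bot hdn.le)
      (LeadGrass.rho_mono K (LeadGrass.bot_le hdn.le w) _ (LeadGrass.plIdeal_le_ker K le_rfl hc))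
  rw [← Ideal.span_singleton_prime hne, ← Set.image_singleton, ← Ideal.map_span]
  have hpr := LeadGrass.bot_section_prime (K := K) hd hdn.le w
  have e : (Ideal.span {MvPolynomial.X (LeadGrass.bot hdn.le)}).map (Ideal.Quotient.mk (plIdeal K w)) =
      (plIdeal K w ⊔ Ideal.span {MvPolynomial.X (LeadGrass.bot hdn.le)}).map (Ideal.Quotient.mk (plIdeal K w)) := by
    rw [Ideal.map_sup, Ideal.map_quotient_self, bot_sup_eq]
  rw [e]
  exact Ideal.map_isPrime_of_surjective Ideal.Quotient.mk_surjective (by rw [Ideal.mk_ker]; exact le_sup_left)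

end Groth.Agent.S11270
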