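import Groth.Statements.S11277
import Mathlib
-- import your own Groth.Agent.* helpers here

set_option autoImplicit false
universe u v
open W4bk4grassmannian

namespace Groth.Agent.S11277

/-- Let K be a field, R = ⊕_{i ≥ 0} R_i an ℕ-graded commutative K-algebra which is an integral domain,
and s ∈ R_e a homogeneous element of degree e > 0. Let R_(s) ⊆ R[1/s] be the homogeneous
localization (fractions f / s^k with f homogeneous of degree k e). Then the image of s in R[1/s] is
transcendental over R_(s). -/
theorem result (K : Type u) [Field K] (R : Type v) [CommRing R]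
    [IsDomain R] [Algebra K R] (𝒜 : ℕ → Submodule K R) [GradedAlgebra 𝒜] (e : ℕ) (he : 0 < e) (s : R)
    (hs : s ∈ 𝒜 e) :
    Transcendental (HomogeneousLocalization.Away 𝒜 s) (algebraMap R (Localization.Away s) s) := by
  classical
  rintro ⟨P, hP0, hP⟩
  by_cases hs0 : s = 0
  · apply hP0
    have h1 : Subsingleton (Localization.Away s) := IsLocalization.subsingleton (M := Submonoid.powers s) (by exact ⟨1, by simp [hs0]⟩)
    haveI : Subsingleton (HomogeneousLocalization.Away 𝒜 s) := (HomogeneousLocalization.val_injective _).subsingleton
    exact Polynomial.ext fun n => Subsingleton.elim _ _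
  choose k a ha hmk using fun i => HomogeneousLocalization.Away.mk_surjective 𝒜 hs (P.coeff i)
  let S := P.support
  let K := S.sup k
  let t : ℕ → R := fun i => a i * s ^ (K - k i + i)
  have ht : ∀ i ∈ S, t i ∈ 𝒜 ((K + i) * e) := fun i hi => by
    have hk : k i ≤ K := Finset.le_sup hi
    have h := SetLike.mul_mem_graded (ha i) (SetLike.pow_mem_graded (K - k i + i) hs)
    have hd : k i • e + (K - k i + i) • e = (K + i) * e := by
      rw [smul_eq_mul, smul_eq_mul, ← add_mul]
      congr 1
      omega
    rw [hd] at h
    exact h
  have hinj : Function.Injective (algebraMap R (Localization.Away s)) :=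
    IsLocalization.injective _ (powers_le_nonZeroDivisors_of_noZeroDivisors hs0)
  have hsum : ∑ i ∈ S, t i = 0 := by
    apply hinj
    rw [map_sum, map_zero]
    rw [Polynomial.aeval_def, Polynomial.eval₂_eq_sum, Polynomial.sum_def] at hP
    have := congrArg (fun z => algebraMap R (Localization.Away s) (s ^ K) * z) hP
    simp only [mul_zero, Finset.mul_sum] at this
    rw [← this]
    refine Finset.sum_congr rfl fun i hi => ?_
    have hk : k i ≤ K := Finset.le_sup hi
    rw [HomogeneousLocalization.algebraMap_apply, ← hmk i, HomogeneousLocalization.Away.val_mk, Localization.mk_eq_mk',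
      show s ^ K = s ^ (K - k i) * s ^ k i by rw [← pow_add, Nat.sub_add_cancel hk]]
    have hspec : algebraMap R (Localization.Away s) (s ^ k i) *
        IsLocalization.mk' (Localization.Away s) (a i) (⟨s ^ k i, ⟨k i, rfl⟩⟩ : Submonoid.powers s) =
        algebraMap R (Localization.Away s) (a i) := IsLocalization.mk'_spec' (M := Submonoid.powers s) (Localization.Away s) (a i) ⟨s ^ k i, ⟨k i, rfl⟩⟩
    simp only [t, map_mul, map_pow, pow_add] at hspec ⊢
    linear_combination (-(algebraMap R (Localization.Away s) s) ^ (K - k i) * (algebraMap R (Localization.Away s) s) ^ i) * hspec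
  apply hP0
  refine Polynomial.support_eq_empty.1 (Finset.eq_empty_of_forall_notMem fun i hi => ?_)
  have h0 : t i = 0 := by
    have := congrArg (fun z => (DirectSum.decompose 𝒜 z ((K + i) * e) : R)) hsum
    simp only [DirectSum.decompose_sum, DirectSum.decompose_zero] at this
    rw [DFinsupp.finset_sum_apply, AddSubmonoidClass.coe_finset_sum, Finset.sum_eq_single i] at this
    · rw [DirectSum.decompose_of_mem_same 𝒜 (ht i hi)] at this
      simpa using this
    · intro j hj hne
      exact DirectSum.decompose_of_mem_ne 𝒜 (ht j hj) (fun h => hne (by have := Nat.eq_of_mul_eq_mul_right he h; omega))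
    · exact fun h => absurd hi h
  have ha0 : a i = 0 := (mul_eq_zero.1 h0).resolve_right (pow_ne_zero _ hs0)
  refine Polynomial.mem_support_iff.1 hi ?_
  rw [← hmk i]
  apply HomogeneousLocalization.val_injective
  rw [HomogeneousLocalization.Away.val_mk, HomogeneousLocalization.val_zero, ha0, Localization.mk_zero]

end Groth.Agent.S11277
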