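import Groth.Statements.S11278
import Mathlib.RingTheory.Ideal.UFD
import Mathlib.Algebra.Polynomial.Laurent
-- import your own Groth.Agent.* helpers here

set_option autoImplicit false
universe u v
open W4bk4grassmannian

namespace Groth.Agent.S11278

/-- Unique factorization lifts from the homogeneous localization at a prime element of degree one, in
the generality of the published argument: let K be a field, R = ⊕_{i ≥ 0} R_i a Noetherian ℕ-graded
commutative K-algebra which is an integral domain, and s ∈ R_1 a homogeneous element of degree one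
which is a prime element of R. If the homogeneous localization R_(s) (degree-zero part of R[1/s])
has unique factorization, then R is a unique factorization domain. (The published statement is the
case where R is the homogeneous coordinate ring of a Schubert variety, s the Plücker coordinate of
the least index, which is a prime element there, and R_(s) the coordinate ring of the opposite
cell.) -/
theorem result (K : Type u) [Field K] (R : Type v)
    [CommRing R] [IsDomain R] [IsNoetherianRing R] [Algebra K R] (𝒜 : ℕ → Submodule K R) [GradedAlgebra 𝒜]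
    (s : R) (hs : s ∈ 𝒜 1) (hp : Prime s)
    (h : UniqueFactorizationMonoid (HomogeneousLocalization.Away 𝒜 s)) :
    UniqueFactorizationMonoid R := by
  classical
  haveI : IsDomain (Localization.Away s) := IsLocalization.Away.isDomain (Localization.Away s) hp.ne_zero
  let ι₀ : HomogeneousLocalization.Away 𝒜 s →+* Localization.Away s :=
    algebraMap (HomogeneousLocalization.Away 𝒜 s) (Localization.Away s)
  have hι : Function.Injective ι₀ := HomogeneousLocalization.val_injective _
  haveI : IsDomain (HomogeneousLocalization.Away 𝒜 s) := hι.isDomain ι₀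
  let σs : (Localization.Away s)ˣ := (IsLocalization.Away.algebraMap_isUnit (S := Localization.Away s) s).unit
  have hσ : (σs : Localization.Away s) = algebraMap R (Localization.Away s) s := rfl
  have hmk : ∀ (m : ℕ) (r : R) (hr : r ∈ 𝒜 (m • 1)),
      ι₀ (HomogeneousLocalization.Away.mk 𝒜 hs m r hr) * (σs : Localization.Away s) ^ m =
        algebraMap R (Localization.Away s) r := by
    intro m r hr
    show (HomogeneousLocalization.Away.mk 𝒜 hs m r hr).val * _ = _
    rw [HomogeneousLocalization.Away.val_mk, hσ, ← map_pow, Localization.mk_eq_mk',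
      IsLocalization.mk'_spec' _ r (⟨s ^ m, by use m⟩ : Submonoid.powers s) |>.symm]
    ring
  let Φ := LaurentPolynomial.eval₂ ι₀ σs
  have hpoly : ∀ g : Polynomial (HomogeneousLocalization.Away 𝒜 s),
      Polynomial.eval₂ ι₀ (σs : Localization.Away s) g = 0 → g = 0 := by
    intro g hg
    choose nf rf hrf hrfe using fun i => HomogeneousLocalization.Away.mk_surjective 𝒜 hs (g.coeff i)
    set N := g.support.sup nf with hN
    let r' : ℕ → R := fun i => rf i * s ^ (N - nf i)
    have hr' : ∀ i ∈ g.support, r' i ∈ 𝒜 N := by
      intro i hi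
      have hle : nf i ≤ N := Finset.le_sup hi
      have h1 := SetLike.mul_mem_graded (hrf i) (SetLike.pow_mem_graded (N - nf i) hs)
      rwa [smul_eq_mul, smul_eq_mul, mul_one, mul_one, Nat.add_sub_cancel' hle] at h1
    have hterm : ∀ i ∈ g.support, ι₀ (g.coeff i) * (σs : Localization.Away s) ^ i *
        (σs : Localization.Away s) ^ N = algebraMap R (Localization.Away s) (r' i * s ^ i) := by
      intro i hi
      have hle : nf i ≤ N := Finset.le_sup hi
      show _ = algebraMap R (Localization.Away s) (rf i * s ^ (N - nf i) * s ^ i)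
      rw [map_mul, map_mul, ← hmk (nf i) (rf i) (hrf i), hrfe i, map_pow, map_pow, ← hσ]
      conv_lhs => rw [show N = nf i + (N - nf i) by omega, pow_add]
      ring
    have h0 : algebraMap R (Localization.Away s) (∑ i ∈ g.support, r' i * s ^ i) = 0 := by
      rw [map_sum, ← Finset.sum_congr rfl hterm, ← Finset.sum_mul]
      rw [Polynomial.eval₂_eq_sum, Polynomial.sum_def] at hg
      rw [hg, zero_mul]
    have h1 : ∑ i ∈ g.support, r' i * s ^ i = 0 :=
      IsLocalization.injective (Localization.Away s) (powers_le_nonZeroDivisors_of_noZeroDivisors hp.ne_zero)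
        (h0.trans (map_zero _).symm)
    refine Polynomial.ext fun j => ?_
    rw [Polynomial.coeff_zero]
    by_contra hj
    have hjs : j ∈ g.support := Polynomial.mem_support_iff.mpr hj
    have hdeg : ∀ i ∈ g.support, r' i * s ^ i ∈ 𝒜 (N + i) := fun i hi => by
      have h1 := SetLike.mul_mem_graded (hr' i hi) (SetLike.pow_mem_graded i hs)
      rwa [smul_eq_mul, mul_one] at h1
    have h2 := congrArg (GradedAlgebra.proj 𝒜 (N + j)) h1
    simp only [map_sum, map_zero, GradedAlgebra.proj_apply] at h2
    rw [Finset.sum_eq_single j (fun i hi hij => DirectSum.decompose_of_mem_ne 𝒜 (hdeg i hi) (by omega))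
      (fun h => absurd hjs h), DirectSum.decompose_of_mem_same 𝒜 (hdeg j hjs), mul_eq_zero] at h2
    rcases h2 with h2 | h2
    · have h3 := hterm j hjs
      rw [h2, zero_mul, map_zero, mul_eq_zero, mul_eq_zero] at h3
      rcases h3 with (h3 | h3) | h3
      · exact hj (hι (h3.trans (map_zero ι₀).symm))
      · exact (pow_ne_zero _ σs.ne_zero) h3
      · exact (pow_ne_zero _ σs.ne_zero) h3
    · exact (pow_ne_zero _ hp.ne_zero) h2
  have hΦi : Function.Injective Φ := by
    rw [injective_iff_map_eq_zero]
    intro f
    induction f using LaurentPolynomial.induction_on_mul_T with | _ g m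
    intro hf
    rw [map_mul, LaurentPolynomial.eval₂_toLaurent, LaurentPolynomial.eval₂_T, mul_eq_zero] at hf
    rw [hpoly g (hf.resolve_right (Units.ne_zero _)), map_zero, zero_mul]
  have hΦs : Function.Surjective Φ := by
    have hgen : ∀ r : R, ∃ f, Φ f = algebraMap R (Localization.Away s) r := by
      intro r
      refine DirectSum.Decomposition.inductionOn 𝒜 ⟨0, by simp⟩ ?_ ?_ r
      · intro i x
        refine ⟨LaurentPolynomial.C (HomogeneousLocalization.Away.mk 𝒜 hs i x.1 (by simpa using x.2)) *
          LaurentPolynomial.T (i : ℤ), ?_⟩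
        rw [LaurentPolynomial.eval₂_C_mul_T_n]
        exact hmk i x.1 _
      · rintro a b ⟨f, hf⟩ ⟨f', hf'⟩
        exact ⟨f + f', by rw [map_add, map_add, hf, hf']⟩
    intro y
    obtain ⟨⟨r, ⟨_, m, rfl⟩⟩, hy⟩ := IsLocalization.surj (Submonoid.powers s) y
    obtain ⟨f, hf⟩ := hgen r
    refine ⟨f * LaurentPolynomial.T (-(m : ℤ)), ?_⟩
    rw [map_mul, hf, ← hy]
    show y * algebraMap R (Localization.Away s) (s ^ m) * Φ (LaurentPolynomial.T (-(m : ℤ))) = y
    rw [LaurentPolynomial.eval₂_T_neg_n, mul_assoc, map_pow, ← hσ, ← mul_pow]
    simp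
  haveI := h
  haveI : IsLocalization.Away (Polynomial.X : Polynomial (HomogeneousLocalization.Away 𝒜 s))
      (LaurentPolynomial (HomogeneousLocalization.Away 𝒜 s)) := LaurentPolynomial.isLocalization
  haveI hL : UniqueFactorizationMonoid (LaurentPolynomial (HomogeneousLocalization.Away 𝒜 s)) :=
    UniqueFactorizationMonoid.of_isLocalization
      (Submonoid.powers (Polynomial.X : Polynomial (HomogeneousLocalization.Away 𝒜 s))) _
  rw [UniqueFactorizationMonoid.iff_localizationAway_of_prime hp]
  exact (RingEquiv.ofBijective Φ ⟨hΦi, hΦs⟩).toMulEquiv.uniqueFactorizationMonoid hL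

end Groth.Agent.S11278
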