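import Groth.Statements.S11288
import Mathlib.Tactic.Ring
import Mathlib.Tactic.LinearCombination
import Mathlib.LinearAlgebra.Dual.Lemmas
-- import your own Groth.Agent.* helpers here

set_option autoImplicit false
universe u
open Deform

namespace Groth.Agent.S11288

/-- Let K be a field, R' a local Artinian K-algebra with residue field K, and t a nonzero element of the
maximal ideal m' of R' with m' t = 0, so that R' → R = R'/(t) is a small extension of R. Then the
extension is trivial, i.e. the projection admits a section which is a K-algebra map, if and only if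
t is not in m'^2; equivalently, iff the surjection m'/m'^2 → m_R/m_R^2 induced on cotangent spaces,
whose kernel is spanned by the class of t, is not bijective. For instance K[t]/(t^(n+1)) →
K[t]/(t^n) is a non-trivial small extension for n ≥ 2. (The published example allows any local
K-algebra with residue field K; the row takes R' Artinian, the case in which the subalgebra
generated by lifts of a basis of the cotangent space maps onto R.) -/
theorem result
    {K : Type u} [Field K]
    {R' : Type u} [CommRing R'] [Algebra K R'] [IsLocalRing R'] [IsArtinianRing R']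
    (hres : ∀ a : R', ∃ c : K, a - algebraMap K R' c ∈ IsLocalRing.maximalIdeal R')
    (t : R') (ht : t ∈ IsLocalRing.maximalIdeal R') (ht0 : t ≠ 0)
    (htm : ∀ a ∈ IsLocalRing.maximalIdeal R', a * t = 0) :
    (∃ s : (R' ⧸ Ideal.span {t}) →ₐ[K] R', ∀ x, Ideal.Quotient.mk (Ideal.span {t}) (s x) = x) ↔
      t ∉ IsLocalRing.maximalIdeal R' ^ 2 := by
  set m := IsLocalRing.maximalIdeal R'
  choose π hπ using hres
  have hKm : ∀ c : K, algebraMap K R' c ∈ m → c = 0 := by
    intro c hc
    by_contra h0
    exact hc ((isUnit_iff_ne_zero.2 h0).map _)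
  constructor
  · rintro ⟨s, hs⟩ ht2
    let ψ : R' →ₐ[K] R' := s.comp (Ideal.Quotient.mkₐ K _)
    have hψ : ∀ x, ∃ a, ψ x = x + a * t := fun x => by
      obtain ⟨a, ha⟩ := Ideal.mem_span_singleton'.1 (Ideal.Quotient.eq.1 (hs (Ideal.Quotient.mk _ x)))
      exact ⟨a, by rw [ha]; show s (Ideal.Quotient.mk _ x) = _; ring⟩
    have key : ∀ x ∈ m ^ 2, ψ x = x := by
      intro x hx
      rw [pow_two] at hx
      refine Submodule.mul_induction_on hx (fun u hu v hv => ?_) (fun u v hu hv => by rw [map_add, hu, hv])
      obtain ⟨a, ha⟩ := hψ u
      obtain ⟨b, hb⟩ := hψ v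
      rw [map_mul, ha, hb]
      linear_combination b * htm u hu + a * htm v hv + a * b * htm t ht
    have h1 := key t ht2
    rw [show ψ t = s (Ideal.Quotient.mk _ t) from rfl,
      Ideal.Quotient.eq_zero_iff_mem.2 (Ideal.mem_span_singleton_self t), map_zero] at h1
    exact ht0 h1.symm
  · intro ht2
    let W : Submodule K R' := LinearMap.range (Algebra.linearMap K R') ⊔ (m ^ 2).restrictScalars K
    have htW : t ∉ W := by
      rw [Submodule.mem_sup]
      rintro ⟨_, ⟨c, rfl⟩, w, hw, e⟩
      have hc : c = 0 := hKm c (by
        have : Algebra.linearMap K R' c = t - w := by rw [← e]; ring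
        show Algebra.linearMap K R' c ∈ m
        rw [this]
        exact m.sub_mem ht (Ideal.pow_le_self two_ne_zero hw))
      rw [hc, map_zero, zero_add] at e
      exact ht2 (e ▸ hw)
    obtain ⟨g, hgt, hgW⟩ := Submodule.exists_dual_map_eq_bot_of_notMem htW inferInstance
    let f : R' →ₗ[K] K := (g t)⁻¹ • g
    have hft : f t = 1 := inv_mul_cancel₀ hgt
    have hfW : ∀ w ∈ W, f w = 0 := fun w hw => by
      have : g w = 0 := by
        rw [← Submodule.mem_bot K, ← hgW]
        exact Submodule.mem_map_of_mem hw
      simp [f, this]
    have hπ' : ∀ x, x * t = algebraMap K R' (π x) * t := fun x => by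
      linear_combination htm _ (hπ x)
    have hfm : ∀ x y, f (x * y) = π x * f y + π y * f x := by
      intro x y
      have e : x * y = π x • y + π y • x - (π x * π y) • (1 : R') +
          (x - algebraMap K R' (π x)) * (y - algebraMap K R' (π y)) := by
        simp only [Algebra.smul_def, map_mul]; ring
      have h1 : f 1 = 0 := hfW 1 (Submodule.mem_sup_left ⟨1, (algebraMap K R').map_one⟩)
      have h2 : f ((x - algebraMap K R' (π x)) * (y - algebraMap K R' (π y))) = 0 :=
        hfW _ (Submodule.mem_sup_right (by
          show _ ∈ m ^ 2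
          rw [pow_two]; exact Ideal.mul_mem_mul (hπ x) (hπ y)))
      conv_lhs => rw [e]
      simp [h1, h2]
    let ψ : R' →ₐ[K] R' :=
      { toFun := fun x => x - f x • t
        map_one' := by simp [hfW 1 (Submodule.mem_sup_left ⟨1, (algebraMap K R').map_one⟩)]
        map_mul' := fun x y => by
          simp only [hfm, Algebra.smul_def, map_add, map_mul]
          linear_combination (algebraMap K R' (f y)) * hπ' x + (algebraMap K R' (f x)) * hπ' y -
            algebraMap K R' (f x) * algebraMap K R' (f y) * htm t ht
        map_zero' := by simp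
        map_add' := fun x y => by simp [add_smul]; ring
        commutes' := fun c => by
          have : f (algebraMap K R' c) = 0 := hfW _ (Submodule.mem_sup_left ⟨c, rfl⟩)
          simp [this] }
    refine ⟨Ideal.Quotient.liftₐ _ ψ (fun a ha => ?_), fun x => ?_⟩
    · obtain ⟨b, rfl⟩ := Ideal.mem_span_singleton'.1 ha
      have : ψ t = 0 := by simp [ψ, hft]
      rw [map_mul, this, mul_zero]
    · obtain ⟨a, rfl⟩ := Ideal.Quotient.mk_surjective x
      show Ideal.Quotient.mk _ (a - f a • t) = _
      rw [Ideal.Quotient.eq, sub_sub_cancel_left, Ideal.mem_span_singleton]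
      rw [Algebra.smul_def]
      exact dvd_neg.2 (dvd_mul_left _ _)

end Groth.Agent.S11288
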