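import Groth.Statements.S11294
-- import your own Groth.Agent.* helpers here

set_option autoImplicit false
universe u
open Deform

namespace Groth.Agent.S11294

open TrivSqZeroExt in
/-- Let P be a commutative ring, J an ideal, and P[ε] the ring of dual numbers over P. First-order
embedded deformations of Spec(P/J) in Spec P, namely ideals J' of P[ε] lifting J (the image of J'
under ε ↦ 0 is J) with P[ε]/J' flat over the dual numbers — flatness being replaced by the condition
that every element of P[ε]/J' annihilated by ε is a multiple of ε (equivalent to flatness over k[ε]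
when P is an algebra over a field k) — are in canonical bijection with Hom_P(J, P/J) =
Hom_{P/J}(J/J^2, P/J), the normal module: to φ corresponds the ideal of all a + εb with a in J and b
reducing to φ(a) modulo J. The first clause says this rule defines exactly one ideal for each φ; the
second says an ideal J' is a flat lift of J precisely when its membership is given by this rule for
some φ. (The published statement is the global one, identifying first-order deformations of a closed
subscheme X of an algebraic scheme Y with H^0(X, N_{X/Y}); this row is the affine computation in its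
proof, valid for every commutative ring P.) -/
theorem result (P : Type u) [CommRing P] (J : Ideal P) :
    (∀ φ : J →ₗ[P] (P ⧸ J), ∃! J' : Ideal (DualNumber P),
        ∀ a b : P, (inl a + inr b : DualNumber P) ∈ J' ↔ ∃ h : a ∈ J, Ideal.Quotient.mk J b = φ ⟨a, h⟩) ∧
    (∀ J' : Ideal (DualNumber P),
      (J'.map (TrivSqZeroExt.fstHom P P P) = J ∧
        ∀ m : DualNumber P ⧸ J', Ideal.Quotient.mk J' DualNumber.eps * m = 0 →
          ∃ m' : DualNumber P ⧸ J', m = Ideal.Quotient.mk J' DualNumber.eps * m') ↔
      ∃ φ : J →ₗ[P] (P ⧸ J), ∀ a b : P,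
        (inl a + inr b : DualNumber P) ∈ J' ↔ ∃ h : a ∈ J, Ideal.Quotient.mk J b = φ ⟨a, h⟩) := by
  constructor
  · intro φ
    let J' : Ideal (DualNumber P) :=
      { carrier := {x | ∃ h : x.fst ∈ J, Ideal.Quotient.mk J x.snd = φ ⟨x.fst, h⟩}
        add_mem' := by
          rintro x y ⟨h, e⟩ ⟨h', e'⟩
          refine ⟨J.add_mem h h', ?_⟩
          show Ideal.Quotient.mk J (x.snd + y.snd) = φ (⟨x.fst, h⟩ + ⟨y.fst, h'⟩)
          rw [map_add, map_add, e, e']
        zero_mem' := ⟨J.zero_mem, by
          show Ideal.Quotient.mk J 0 = φ 0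
          rw [map_zero, map_zero]⟩
        smul_mem' := by
          rintro c x ⟨h, e⟩
          refine ⟨J.mul_mem_left _ h, ?_⟩
          show Ideal.Quotient.mk J (c.fst * x.snd + c.snd * x.fst) = φ (c.fst • ⟨x.fst, h⟩)
          rw [map_smul, map_add, map_mul, map_mul, Ideal.Quotient.eq_zero_iff_mem.2 h, mul_zero,
            add_zero, e]
          obtain ⟨t, ht⟩ := Ideal.Quotient.mk_surjective (φ ⟨x.fst, h⟩)
          rw [← ht]
          rfl }
    refine ⟨J', fun a b => ?_, fun K hK => ?_⟩
    · show (∃ h, _) ↔ _
      simp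
    · ext x
      rw [← inl_fst_add_inr_snd_eq x, hK]
      show _ ↔ ∃ h, _
      simp
  · intro J'
    constructor
    · rintro ⟨hmap, hflat⟩
      have hlift : ∀ a ∈ J, ∃ b, (inl a + inr b : DualNumber P) ∈ J' := by
        intro a ha
        rw [← hmap, Ideal.mem_map_iff_of_surjective _ fun r => ⟨inl r, rfl⟩] at ha
        obtain ⟨x, hx, rfl⟩ := ha
        exact ⟨x.snd, by rwa [show (TrivSqZeroExt.fstHom P P P) x = x.fst from rfl, inl_fst_add_inr_snd_eq]⟩
      have hfst : ∀ x ∈ J', TrivSqZeroExt.fst x ∈ J := fun x hx =>
        hmap ▸ Ideal.mem_map_of_mem (TrivSqZeroExt.fstHom P P P) hx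
      have hker : ∀ b, (inr b : DualNumber P) ∈ J' → b ∈ J := by
        intro b hb
        obtain ⟨m', hm'⟩ := hflat (Ideal.Quotient.mk J' (inl b)) (by
          rw [← map_mul, Ideal.Quotient.eq_zero_iff_mem]
          convert hb using 1
          ext <;> simp)
        obtain ⟨y, rfl⟩ := Ideal.Quotient.mk_surjective m'
        rw [← map_mul, Ideal.Quotient.eq] at hm'
        simpa using hfst _ hm'
      choose g hg using fun a : J => hlift a a.2
      have hwd : ∀ (a : P) b b', (inl a + inr b : DualNumber P) ∈ J' → (inl a + inr b' : DualNumber P) ∈ J' →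
          Ideal.Quotient.mk J b = Ideal.Quotient.mk J b' := by
        intro a b b' hb hb'
        rw [Ideal.Quotient.eq]
        apply hker
        convert J'.sub_mem hb hb' using 1
        ext <;> simp
      refine ⟨{ toFun := fun a => Ideal.Quotient.mk J (g a), map_add' := ?_, map_smul' := ?_ }, ?_⟩
      · intro a a'
        rw [← map_add]
        refine hwd _ _ _ (hg _) ?_
        convert J'.add_mem (hg a) (hg a') using 1
        ext <;> simp
      · intro c a
        show Ideal.Quotient.mk J (g (c • a)) = Ideal.Quotient.mk J (c * g a)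
        refine hwd _ _ _ (hg _) ?_
        convert J'.mul_mem_left (inl c) (hg a) using 1
        ext <;> simp
      · intro a b
        refine ⟨fun h => ?_, fun ⟨ha, e⟩ => ?_⟩
        · have ha : a ∈ J := by simpa using hfst _ h
          exact ⟨ha, hwd a _ _ h (hg ⟨a, ha⟩)⟩
        · have e' : b - g ⟨a, ha⟩ ∈ J := Ideal.Quotient.eq.1 e
          obtain ⟨w, hw⟩ := hlift _ e'
          convert J'.add_mem (hg ⟨a, ha⟩) (J'.mul_mem_left DualNumber.eps hw) using 1
          ext <;> simp
    · rintro ⟨φ, hφ⟩
      have hlift : ∀ a (ha : a ∈ J), ∃ b, (inl a + inr b : DualNumber P) ∈ J' := fun a ha => by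
        obtain ⟨b, hb⟩ := Ideal.Quotient.mk_surjective (φ ⟨a, ha⟩)
        exact ⟨b, (hφ a b).2 ⟨ha, hb⟩⟩
      refine ⟨le_antisymm ?_ ?_, fun m hm => ?_⟩
      · rw [Ideal.map_le_iff_le_comap]
        intro x hx
        rw [← inl_fst_add_inr_snd_eq x] at hx
        exact ((hφ _ _).1 hx).1
      · intro a ha
        obtain ⟨b, hb⟩ := hlift a ha
        simpa using Ideal.mem_map_of_mem (TrivSqZeroExt.fstHom P P P) hb
      · obtain ⟨y, rfl⟩ := Ideal.Quotient.mk_surjective m
        rw [← map_mul, Ideal.Quotient.eq_zero_iff_mem] at hm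
        have h1 : (inl 0 + inr y.fst : DualNumber P) ∈ J' := by
          convert hm using 1
          ext <;> simp
        obtain ⟨h0, e⟩ := (hφ _ _).1 h1
        rw [show (⟨0, h0⟩ : J) = 0 from rfl, map_zero, Ideal.Quotient.eq_zero_iff_mem] at e
        obtain ⟨b, hb⟩ := hlift _ e
        refine ⟨Ideal.Quotient.mk J' (inl (y.snd - b)), ?_⟩
        rw [← map_mul, Ideal.Quotient.eq]
        convert hb using 1
        ext <;> simp

end Groth.Agent.S11294
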