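import Groth.Statements.S11450
import Groth.Agent.Flat.TorDevissage
import Mathlib.RingTheory.Ideal.AssociatedPrime.Finiteness

set_option autoImplicit false
universe u
open CategoryTheory
open DefT

namespace Groth.Agent.S11450

/-- A module M over a Noetherian commutative ring A is flat if and only if Tor_1^A(M, A/p) vanishes for
every prime ideal p of A. -/
theorem result (A : Type u) [CommRing A]
    [IsNoetherianRing A] (M : Type u) [AddCommGroup M] [Module A M] :
    Module.Flat A M ↔ ∀ p : Ideal A, p.IsPrime →
      Limits.IsZero (((CategoryTheory.Tor (ModuleCat.{u} A) 1).obj (ModuleCat.of A M)).obj (ModuleCat.of A (A ⧸ p))) := by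
  have hiff : ∀ (p : Ideal A), Limits.IsZero (((CategoryTheory.Tor (ModuleCat.{u} A) 1).obj (ModuleCat.of A M)).obj
      (ModuleCat.of A (A ⧸ p))) ↔ Groth.Agent.Flat.LocalCriterion.TorZero A M (A ⧸ p) := fun p =>
    (Groth.Agent.Flat.TorOne.isZero_Tor_one_iff (A ⧸ p) M).trans
      ⟨Groth.Agent.Flat.TorDim.torZero_symm, Groth.Agent.Flat.TorDim.torZero_symm⟩
  refine ⟨fun h p _ => (hiff p).2 ((Groth.Agent.Flat.TorDim.flat_iff_torZero.1 h) _), fun h => ?_⟩
  have key : ∀ (N : Type u) [AddCommGroup N] [Module A N] [Module.Finite A N],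
      Groth.Agent.Flat.LocalCriterion.TorZero A M N := by
    intro N _ _ hN
    induction hN using IsNoetherianRing.induction_on_isQuotientEquivQuotientPrime A with
    | subsingleton N => exact fun x y _ => Subsingleton.elim x y
    | quotient N p e => exact Groth.Agent.Flat.TorDevissage.torZero_congr e.symm ((hiff p.1).1 (h p.1 p.2))
    | exact N₁ N₂ N₃ f g hf hg hfg h₁ h₃ =>
      refine Groth.Agent.Flat.LocalCriterion.TorZero.ext (LinearMap.range f)
        (Groth.Agent.Flat.TorDevissage.torZero_congr (LinearEquiv.ofInjective f hf) h₁)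
        (Groth.Agent.Flat.TorDevissage.torZero_congr ?_ h₃)
      exact ((Submodule.quotEquivOfEq _ _ (LinearMap.exact_iff.1 hfg).symm).trans (g.quotKerEquivOfSurjective hg)).symm
  refine Module.Flat.iff_lTensor_injective'.mpr fun I => ?_
  exact (key (A ⧸ I)).lTensor_injective (Submodule.injective_subtype _)
    (LinearMap.exact_subtype_mkQ I) (Submodule.mkQ_surjective I)

end Groth.Agent.S11450
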