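import Groth.Statements.S11451
import Groth.Agent.Misc9.SF.RegSmooth
import Groth.Agent.Misc9.SF.Essential
-- import your own Groth.Agent.* helpers here

set_option autoImplicit false
universe u
open DefT

namespace Groth.Agent.S11451

/-- Let k be an algebraically closed field and A a local k-algebra essentially of finite type over k
with residue field k. Then regularity of A as a local ring is equivalent to the following: for every
local k-algebra B' of finite dimension over k, every ideal J of B' of square zero and every
k-algebra homomorphism f : A → B'/J, there is a k-algebra homomorphism g : A → B' lifting f. (Local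
k-algebras of finite k-dimension are exactly the local Artin rings finite over k; lifting against
square-zero kernels is equivalent to lifting against nilpotent ones by induction.) -/
theorem result (k : Type u) [Field k] [IsAlgClosed k]
    (A : Type u) [CommRing A] [IsLocalRing A] [Algebra k A] [Algebra.EssFiniteType k A]
    (hres : Function.Surjective (algebraMap k (IsLocalRing.ResidueField A))) :
    IsRegularLocalRing A ↔
      ∀ (B' : Type u) [CommRing B'] [IsLocalRing B'] [Algebra k B'] [Module.Finite k B']
        (J : Ideal B'), J ^ 2 = ⊥ → ∀ f : A →ₐ[k] B' ⧸ J,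
          ∃ g : A →ₐ[k] B', (Ideal.Quotient.mkₐ k J).comp g = f := by
  haveI : IsNoetherianRing A := Algebra.EssFiniteType.isNoetherianRing k A
  let e : k ≃ₐ[k] IsLocalRing.ResidueField A := AlgEquiv.ofBijective (Algebra.ofId k _) ⟨RingHom.injective _, hres⟩
  let res : A →ₐ[k] k := (e.symm : IsLocalRing.ResidueField A →ₐ[k] k).comp
    { IsLocalRing.residue A with commutes' := fun _ => rfl }
  rw [Misc9.SF.isRegularLocalRing_iff_lifts A res]
  constructor
  · intro h B' _ _ _ _ J hJ f
    have hne : J ≠ ⊤ := fun e => by
      rw [e, Ideal.top_pow] at hJ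
      exact top_ne_bot hJ
    haveI : IsArtinianRing B' := IsArtinianRing.of_finite k B'
    haveI : Algebra.IsIntegral k (IsLocalRing.ResidueField B') := Algebra.IsIntegral.of_finite k _
    let eB : k ≃ₐ[k] IsLocalRing.ResidueField B' :=
      AlgEquiv.ofBijective (Algebra.ofId k _) (IsAlgClosed.algebraMap_bijective_of_isIntegral (k := k))
    let B : ArtFun.Art k k := ArtFun.Art.of B' ((eB.symm : IsLocalRing.ResidueField B' →ₐ[k] k).comp
      { IsLocalRing.residue B' with commutes' := fun _ => rfl }) fun c => ⟨algebraMap k B' c, (AlgHom.commutes _ c).trans rfl⟩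
    let C := ArtFun.Art.quot B J (IsLocalRing.le_maximalIdeal hne)
    obtain ⟨g, hg⟩ := h (ArtFun.Art.quotMk B J (IsLocalRing.le_maximalIdeal hne)) (ArtFun.Art.quotMk_surjective _ _ _)
      ⟨f, Misc9.SF.res_any (C.res.comp f) res⟩
    exact ⟨g.1, congrArg Subtype.val hg⟩
  · intro h
    refine Misc9.SF.isSmoothFunctor_of_small fun B C μ hμ φ => ?_
    haveI : Module.Finite k B := Misc9.SF.finite_art B
    let J : Ideal B := RingHom.ker μ.toAlgHom
    have hJ : J ^ 2 = ⊥ := by
      rw [pow_two, eq_bot_iff, ← hμ.2.2.2]
      refine Ideal.mul_mono (fun x hx => ?_) le_rfl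
      rw [B.mem_maximalIdeal_iff, ← ArtFun.Art.res_app μ x, RingHom.mem_ker.1 hx, map_zero]
    let q := Ideal.quotientKerAlgEquivOfSurjective (f := μ.toAlgHom) hμ.1
    obtain ⟨g, hg⟩ := h B.carrier J hJ (q.symm.toAlgHom.comp φ.1)
    refine ⟨⟨g, Misc9.SF.res_any _ _⟩, Misc9.SF.homSet_ext fun a => ?_⟩
    have h1 := congrArg q (AlgHom.congr_fun hg a)
    exact h1.trans (q.apply_symm_apply (φ.1 a))

end Groth.Agent.S11451
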