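import Groth.Statements.S11461
import Mathlib.RingTheory.Ideal.AssociatedPrime.Finiteness
import Mathlib.RingTheory.Nakayama
import Mathlib.Algebra.Homology.ShortComplex.ModuleCat
-- import your own Groth.Agent.* helpers here

set_option autoImplicit false
universe u
open CategoryTheory
open DefT

namespace Groth.Agent.S11461

/-- Let B be a Noetherian ring and F an additive, B-linear endofunctor of B-modules which preserves
finite generation and is semi-exact on short exact sequences of finitely generated modules (the
image sequence is exact in the middle). If F kills B/m for every maximal ideal m, then F kills every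
finitely generated B-module. (The published statement assumes F only additive; this row assumes F
B-linear, and takes the functor on all B-modules with the hypotheses and the conclusion on the
finitely generated ones.) -/
theorem result (B : Type u) [CommRing B]
    [IsNoetherianRing B] (F : ModuleCat.{u} B ⥤ ModuleCat.{u} B) [F.Additive] [F.Linear B]
    (hfg : ∀ M : ModuleCat.{u} B, Module.Finite B M → Module.Finite B (F.obj M))
    (hex : ∀ S : ShortComplex (ModuleCat.{u} B), S.ShortExact → Module.Finite B S.X₂ → (S.map F).Exact)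
    (h0 : ∀ m : Ideal B, m.IsMaximal → Limits.IsZero (F.obj (ModuleCat.of B (B ⧸ m))))
    (M : ModuleCat.{u} B) (hM : Module.Finite B M) : Limits.IsZero (F.obj M) := by
  classical
  have hF : ∀ (N : ModuleCat.{u} B) (b : B), (∀ x : N, b • x = 0) → ∀ y : F.obj N, b • y = 0 := by
    intro N b hb y
    have h : b • 𝟙 N = 0 := ModuleCat.hom_ext (LinearMap.ext fun x => hb x)
    have h' := congrArg F.map h
    rw [F.map_smul, F.map_id, F.map_zero] at h'
    exact congrArg (fun f : F.obj N ⟶ F.obj N => f.hom y) h'
  suffices key : ∀ I : Ideal B, ∀ (N : Type u) [AddCommGroup N] [Module B N], Module.Finite B N →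
      (∀ b ∈ I, ∀ x : N, b • x = 0) → Subsingleton (F.obj (ModuleCat.of B N)) by
    haveI : Subsingleton (F.obj M) := key ⊥ M hM (fun b hb x => by rw [Ideal.mem_bot.mp hb, zero_smul])
    exact ModuleCat.isZero_of_subsingleton _
  intro I
  induction I using WellFoundedGT.induction with
  | _ I ih =>
  intro N _ _ hN
  induction hN using IsNoetherianRing.induction_on_isQuotientEquivQuotientPrime B with
  | subsingleton N =>
    intro _
    exact ModuleCat.subsingleton_of_isZero (F.map_isZero (ModuleCat.isZero_of_subsingleton _))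
  | exact N₁ N₂ N₃ f g hf hg hfg h₁ h₃ =>
    intro hI
    haveI := h₁ fun b hb x => hf (by rw [map_smul, map_zero, hI b hb])
    haveI := h₃ fun b hb x => by
      obtain ⟨y, rfl⟩ := hg x
      rw [← map_smul, hI b hb, map_zero]
    let S : ShortComplex (ModuleCat.{u} B) := ShortComplex.mk (ModuleCat.ofHom f) (ModuleCat.ofHom g)
      (ModuleCat.hom_ext (LinearMap.ext fun x => hfg.apply_apply_eq_zero x))
    haveI : Mono S.f := (ModuleCat.mono_iff_injective _).mpr hf
    haveI : Epi S.g := (ModuleCat.epi_iff_surjective _).mpr hg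
    have hS : S.ShortExact := ShortComplex.ShortExact.mk
      ((ShortComplex.ShortExact.moduleCat_exact_iff_function_exact S).mpr hfg)
    have hex' := (ShortComplex.ShortExact.moduleCat_exact_iff_function_exact _).mp
      (hex S hS inferInstance)
    refine ⟨fun a b => ?_⟩
    have h0 : ∀ c : F.obj (ModuleCat.of B N₂), c = 0 := fun c => by
      obtain ⟨d, hd⟩ := (hex' c).mp (Subsingleton.elim (α := F.obj (ModuleCat.of B N₃)) _ _)
      rw [← hd, Subsingleton.elim (α := F.obj (ModuleCat.of B N₁)) d 0]
      exact map_zero _
    rw [h0 a, h0 b]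
  | quotient N p e =>
    intro hI
    let P := p.asIdeal
    suffices hP : Subsingleton (F.obj (ModuleCat.of B (B ⧸ P))) from
      (F.mapIso e.toModuleIso).toLinearEquiv.toEquiv.subsingleton
    have hkill : ∀ b ∈ P, ∀ x : B ⧸ P, b • x = 0 := fun b hb x => by
      obtain ⟨y, rfl⟩ := Ideal.Quotient.mk_surjective x
      exact Ideal.Quotient.eq_zero_iff_mem.mpr (P.mul_mem_right y hb)
    have hIP : I ≤ P := fun b hb => by
      have := hI b hb (e.symm (Ideal.Quotient.mk P 1))
      rw [← map_smul, LinearEquiv.map_eq_zero_iff] at this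
      exact Ideal.Quotient.eq_zero_iff_mem.mp (by
        simpa [Algebra.smul_def] using this)
    rcases hIP.lt_or_eq with hlt | heq
    · exact ih P hlt (B ⧸ P) (inferInstanceAs (Module.Finite B (B ⧸ P))) hkill
    · haveI := hfg (ModuleCat.of B (B ⧸ P)) (inferInstanceAs (Module.Finite B (B ⧸ P)))
      rw [← not_nontrivial_iff_subsingleton]
      intro hnt
      have hann : Module.annihilator B (F.obj (ModuleCat.of B (B ⧸ P))) ≠ ⊤ := by
        rw [Ne, Module.annihilator_eq_top_iff]
        exact not_subsingleton_iff_nontrivial.mpr hnt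
      obtain ⟨m, hm, hle⟩ := Ideal.exists_le_maximal _ hann
      have hPm : P ≤ m := fun b hb => hle (Module.mem_annihilator.mpr (hF _ b (hkill b hb)))
      by_cases hmP : m = P
      · subst hmP
        haveI := ModuleCat.subsingleton_of_isZero (h0 P hm)
        exact false_of_nontrivial_of_subsingleton (F.obj (ModuleCat.of B (B ⧸ p.asIdeal)))
      obtain ⟨x, hxm, hxP⟩ := Set.exists_of_ssubset
        (SetLike.coe_ssubset_coe.mpr (lt_of_le_of_ne hPm (Ne.symm hmP)))
      let J := P ⊔ Ideal.span {x}
      have hJ : I < J := heq ▸ lt_of_le_of_ne le_sup_left fun h =>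
        hxP (h ▸ Ideal.mem_sup_right (Ideal.mem_span_singleton_self x) : x ∈ P)
      have hPJ : P ≤ J := le_sup_left
      let g : B ⧸ P →ₗ[B] B ⧸ J := P.mapQ J LinearMap.id hPJ
      let f : B ⧸ P →ₗ[B] B ⧸ P := x • LinearMap.id
      have hf : Function.Injective f := by
        rw [injective_iff_map_eq_zero]
        intro y hy
        obtain ⟨y, rfl⟩ := Ideal.Quotient.mk_surjective y
        refine Ideal.Quotient.eq_zero_iff_mem.mpr ((p.isPrime.mem_or_mem ?_).resolve_left hxP)
        exact Ideal.Quotient.eq_zero_iff_mem.mp hy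
      have hg : Function.Surjective g := fun y => by
        obtain ⟨y, rfl⟩ := Ideal.Quotient.mk_surjective y
        exact ⟨Ideal.Quotient.mk P y, rfl⟩
      have hfgx : Function.Exact f g := fun y => by
        obtain ⟨y, rfl⟩ := Ideal.Quotient.mk_surjective y
        constructor
        · intro h
          obtain ⟨a, ha, b, hb, hab⟩ := Submodule.mem_sup.mp (Ideal.Quotient.eq_zero_iff_mem.mp h : y ∈ J)
          obtain ⟨c, rfl⟩ := Ideal.mem_span_singleton.mp hb
          refine ⟨Ideal.Quotient.mk P c, (Ideal.Quotient.eq (I := P)).mpr ?_⟩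
          have : x * c - y = -a := by rw [← hab]; ring
          show x * c - y ∈ P
          rw [this]
          exact neg_mem ha
        · rintro ⟨z, hz⟩
          obtain ⟨z, rfl⟩ := Ideal.Quotient.mk_surjective z
          rw [← hz]
          exact Ideal.Quotient.eq_zero_iff_mem.mpr
            (Ideal.mem_sup_right (Ideal.mem_span_singleton.mpr ⟨z, rfl⟩) : x * z ∈ J)
      haveI := ih J hJ (B ⧸ J) (inferInstanceAs (Module.Finite B (B ⧸ J))) fun b hb z => by
        obtain ⟨y, rfl⟩ := Ideal.Quotient.mk_surjective z
        exact Ideal.Quotient.eq_zero_iff_mem.mpr (J.mul_mem_right y hb)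
      let S : ShortComplex (ModuleCat.{u} B) := ShortComplex.mk (ModuleCat.ofHom f) (ModuleCat.ofHom g)
        (ModuleCat.hom_ext (LinearMap.ext fun y => hfgx.apply_apply_eq_zero y))
      haveI : Mono S.f := (ModuleCat.mono_iff_injective _).mpr hf
      haveI : Epi S.g := (ModuleCat.epi_iff_surjective _).mpr hg
      have hS : S.ShortExact := ShortComplex.ShortExact.mk
        ((ShortComplex.ShortExact.moduleCat_exact_iff_function_exact S).mpr hfgx)
      have hex' := (ShortComplex.ShortExact.moduleCat_exact_iff_function_exact _).mp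
        (hex S hS (inferInstanceAs (Module.Finite B (B ⧸ P))))
      have hfx : S.f = x • 𝟙 (ModuleCat.of B (B ⧸ P)) := rfl
      have hle' : (⊤ : Submodule B (F.obj (ModuleCat.of B (B ⧸ P)))) ≤ Ideal.span {x} • ⊤ := by
        intro y _
        obtain ⟨z, hz⟩ := (hex' y).mp (Subsingleton.elim (α := F.obj (ModuleCat.of B (B ⧸ J))) _ _)
        rw [← hz]
        show (F.map S.f).hom z ∈ _
        rw [hfx, F.map_smul, F.map_id]
        exact Submodule.smul_mem_smul (Ideal.mem_span_singleton_self x) Submodule.mem_top
      obtain ⟨r, hr, hr0⟩ := Submodule.exists_sub_one_mem_and_smul_eq_zero_of_fg_of_le_smul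
        (Ideal.span {x}) ⊤ Module.Finite.fg_top hle'
      have h1 : r ∈ m := hle (Module.mem_annihilator.mpr fun y => hr0 y Submodule.mem_top)
      have h2 : r - 1 ∈ m := (Ideal.span_singleton_le_iff_mem _).mpr hxm hr
      exact hm.ne_top (m.eq_top_iff_one.mpr (by simpa using sub_mem h1 h2))

end Groth.Agent.S11461
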