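import Groth.Statements.S11467
import Groth.Agent.Misc9.SF.RegSmooth
-- import your own Groth.Agent.* helpers here

set_option autoImplicit false
universe u
open DefT

namespace Groth.Agent.S11467

/-- Let P be a regular local k-algebra with residue field k, I ⊆ m_P² an ideal (so that dim P is the
embedding dimension of A = P/I), and suppose A has an obstruction theory whose obstruction space is
a finite-dimensional k-vector space V (obstructions in V ⊗ J attached to k-algebra maps A → C'/J for
small extensions of local Artinian k-algebras with residue field k, vanishing exactly when the map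
lifts, functorial in quotients of C'). Then dim A ≥ dim P − dim_k V; and if equality holds, I is
generated by dim P − dim A elements, so A is a local complete intersection in P. -/
theorem result (k : Type u) [Field k]
    (P : Type u) [CommRing P] [IsRegularLocalRing P] [Algebra k P]
    (hres : Function.Surjective (algebraMap k (IsLocalRing.ResidueField P)))
    (I : Ideal P) (hI : I ≤ IsLocalRing.maximalIdeal P ^ 2)
    (V : Type u) [AddCommGroup V] [Module k V] [Module.Finite k V]
    (T : W4bk4hartshdef114.ObsTheory k (P ⧸ I) V) :
    ringKrullDim P ≤ ringKrullDim (P ⧸ I) + (Module.finrank k V : WithBot ℕ∞) ∧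
      (ringKrullDim (P ⧸ I) + (Module.finrank k V : WithBot ℕ∞) = ringKrullDim P →
        ∃ s : Finset P, Ideal.span (s : Set P) = I ∧
          ringKrullDim (P ⧸ I) + (s.card : WithBot ℕ∞) = ringKrullDim P) := by
  obtain ⟨s, hs, hspan⟩ := Misc9.SF.exists_gens_of_obsTheory hres I hI V T
  have hIm : I ≤ IsLocalRing.maximalIdeal P := hI.trans (Ideal.pow_le_self two_ne_zero)
  haveI : IsLocalRing (P ⧸ I) :=
    RegularLocal.Basic.isLocalRing_quotient (RegularLocal.Basic.ne_top_of_le_maximalIdeal hIm)
  obtain ⟨n, hn⟩ := RegularLocal.Basic.exists_natCast_eq_ringKrullDim (R := P ⧸ I)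
  obtain ⟨m, hm⟩ := RegularLocal.Basic.exists_natCast_eq_ringKrullDim (R := P)
  have hK := ringKrullDim_le_ringKrullDim_quotient_add_spanFinrank I
    (hIm.trans (IsLocalRing.ringJacobson_eq_maximalIdeal P).ge)
  have hc : I.spanFinrank ≤ s.card := by
    rw [← hspan, ← Set.ncard_coe_finset]
    exact Submodule.spanFinrank_span_le_ncard_of_finite s.finite_toSet
  rw [hn, hm] at hK ⊢
  have hK' : m ≤ n + I.spanFinrank := by exact_mod_cast hK
  refine ⟨by exact_mod_cast (show m ≤ n + Module.finrank k V by omega), fun heq => ⟨s, hspan, ?_⟩⟩
  have heq' : n + Module.finrank k V = m := by exact_mod_cast heq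
  exact_mod_cast (show n + s.card = m by omega)

end Groth.Agent.S11467
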