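import Groth.Statements.S7547
import Mathlib

set_option autoImplicit false
universe u
open PtTop

namespace Groth.Agent.S7547

open Set TopologicalSpace

/-- Let X be a Kolmogorov topological space whose quasi-compact opens form a basis for the topology. If
X is not Jacobson, there is a point x ∈ X which is not closed but such that {x} is locally closed. -/
theorem result {X : Type u} [TopologicalSpace X]
    [T0Space X] [PrespectralSpace X] (hX : ¬ JacobsonSpace X) :
    ∃ x : X, ¬ IsClosed ({x} : Set X) ∧ IsLocallyClosed ({x} : Set X) := by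
  rw [jacobsonSpace_iff_locallyClosed] at hX
  push Not at hX
  obtain ⟨L, hne, hL, hcl⟩ := hX
  obtain ⟨z, hz⟩ := hne
  obtain ⟨U, Z, hU, hZ, rfl⟩ := hL
  obtain ⟨V, ⟨hVo, hVc⟩, hzV, hVU⟩ :=
    PrespectralSpace.isTopologicalBasis.exists_subset_of_mem_open hz.1 hU
  haveI : CompactSpace V := isCompact_iff_compactSpace.mp hVc
  obtain ⟨x, hx, hxc⟩ := (hZ.preimage (continuous_subtype_val (p := (· ∈ V)))).exists_closed_singleton
    ⟨⟨z, hzV⟩, hz.2⟩
  refine ⟨x.1, fun h => ?_, ?_⟩
  · exact eq_empty_iff_forall_notMem.mp hcl x.1 ⟨⟨hVU x.2, hx⟩, mem_closedPoints_iff.mpr h⟩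
  · obtain ⟨C, hC, hCx⟩ := isClosed_induced_iff.mp hxc
    refine ⟨V, C, hVo, hC, Subset.antisymm ?_ ?_⟩
    · rintro _ rfl
      exact ⟨x.2, (Set.ext_iff.mp hCx x).mpr rfl⟩
    · rintro w ⟨hwV, hwC⟩
      exact congrArg Subtype.val (mem_singleton_iff.mp ((Set.ext_iff.mp hCx ⟨w, hwV⟩).mp hwC))

end Groth.Agent.S7547
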