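import Groth.Statements.S1147
import Groth.Agent.Flat.QuasiFiniteDominate
import Groth.Agent.S7547
import Mathlib.RingTheory.QuasiFinite.Basic
import Mathlib.RingTheory.Spectrum.Prime.Jacobson

set_option autoImplicit false
universe u
open Desc

namespace Groth.Agent.S1147

/-- Let A → B be a faithfully flat ring map of finite presentation. If B is a Jacobson ring then so is
A. (This is the affine descent direction of the statement that the Jacobson property is fppf local.) -/
theorem result (A B : Type u) [CommRing A] [CommRing B] [Algebra A B]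
    [Module.FaithfullyFlat A B] [Algebra.FinitePresentation A B] [IsJacobsonRing B] : IsJacobsonRing A := by
  obtain ⟨T, _, _, hqf, hff, hfp, ⟨φ⟩⟩ := Groth.Agent.Flat.QuasiFiniteDominate.exists_dominating A B
  letI : Algebra B T := φ.toRingHom.toAlgebra
  haveI : IsScalarTower A B T := IsScalarTower.of_algebraMap_eq fun x => (φ.commutes x).symm
  haveI := hfp
  haveI : Algebra.FiniteType B T := Algebra.FiniteType.of_restrictScalars_finiteType A B T
  haveI : IsJacobsonRing T := isJacobsonRing_of_finiteType (A := B)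
  haveI := PrimeSpectrum.isJacobsonRing_iff_jacobsonSpace.mp ‹IsJacobsonRing T›
  rw [PrimeSpectrum.isJacobsonRing_iff_jacobsonSpace]
  by_contra hA
  obtain ⟨p, hpc, hpl⟩ := Groth.Agent.S7547.result hA
  refine hpc ((PrimeSpectrum.isClosed_singleton_iff_isMaximal p).2 ?_)
  obtain ⟨m, hm, hpm⟩ := p.asIdeal.exists_le_maximal p.2.ne_top
  obtain ⟨z, hz⟩ := PrimeSpectrum.comap_surjective_of_faithfullyFlat (A := A) (B := T) ⟨m, hm.isPrime⟩
  have hzm : z.asIdeal.comap (algebraMap A T) = m := congrArg PrimeSpectrum.asIdeal hz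
  haveI : z.asIdeal.LiesOver m := ⟨hzm.symm⟩
  obtain ⟨q, hqz, hqp, hq⟩ := Ideal.exists_ideal_le_liesOver_of_le (p := p.asIdeal) (q := m) z.asIdeal hpm
  let x : PrimeSpectrum T := ⟨q, hqp⟩
  let F := PrimeSpectrum.comap (algebraMap A T) ⁻¹' {p}
  have hxF : x ∈ F := PrimeSpectrum.ext hq.over.symm
  have hFd : IsDiscrete F := Algebra.QuasiFinite.isDiscrete_comap_preimage_singleton p
  obtain ⟨U, hU, hUF⟩ := isDiscrete_iff_forall_exists_isOpen.1 hFd x hxF
  have hxl : IsLocallyClosed ({x} : Set (PrimeSpectrum T)) := by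
    rw [← hUF]
    exact hU.isLocallyClosed.inter (hpl.preimage (PrimeSpectrum.continuous_comap _))
  have hqmax : q.IsMaximal :=
    (PrimeSpectrum.isClosed_singleton_iff_isMaximal x).1 (isClosed_singleton_of_isLocallyClosed_singleton hxl)
  have hqe : q = z.asIdeal := hqmax.eq_of_le z.2.ne_top hqz
  rw [show p.asIdeal = m from hq.over.trans ((congrArg (Ideal.comap (algebraMap A T)) hqe).trans hzm)]
  exact hm

end Groth.Agent.S1147
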