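import Groth.Statements.S11470
import Mathlib.FieldTheory.RatFunc.AsPolynomial
import Mathlib.Algebra.Polynomial.Reverse
import Mathlib.Algebra.Polynomial.FieldDivision
import Mathlib.Tactic.LinearCombination
import Mathlib.Tactic.FieldSimp
import Mathlib.Tactic.Ring
import Mathlib.RingTheory.Adjoin.Basic

set_option autoImplicit false
universe u
open Curves

namespace Groth.Agent.S11470
open Polynomial


/-- The algebraic step of its proof: Fix an algebraically closed field k whose characteristic is neither
2 nor 3, let B ⊆ k(λ) be the k-subalgebra generated by λ, λ⁻¹ and (λ - 1)⁻¹ (the coordinate ring of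
the λ-line with 0 and 1 removed), and let σ and τ be the k-algebra automorphisms of k(λ) determined
by σ(λ) = λ⁻¹ and τ(λ) = 1 - λ (they generate the group of order six permuting λ, 1/λ, 1-λ, 1/(1-λ),
λ/(λ-1), (λ-1)/λ). Then the elements of B fixed by σ and τ are exactly the elements of the
k-subalgebra generated by j = 256 (λ² - λ + 1)³ / (λ² (λ - 1)²); in other words the ring of
invariants of B is the polynomial ring k[j]. -/
theorem result (k : Type u) [Field k] [IsAlgClosed k]
    (h2 : (2 : k) ≠ 0) (h3 : (3 : k) ≠ 0)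
    (σ τ : RatFunc k ≃ₐ[k] RatFunc k) (hσ : σ RatFunc.X = (RatFunc.X : RatFunc k)⁻¹)
    (hτ : τ RatFunc.X = 1 - (RatFunc.X : RatFunc k)) (b : RatFunc k) :
    (b ∈ Algebra.adjoin k ({RatFunc.X, (RatFunc.X : RatFunc k)⁻¹, ((RatFunc.X : RatFunc k) - 1)⁻¹} : Set (RatFunc k)) ∧
        σ b = b ∧ τ b = b) ↔
      b ∈ Algebra.adjoin k ({(256 : RatFunc k) * ((RatFunc.X : RatFunc k) ^ 2 - RatFunc.X + 1) ^ 3 /
        ((RatFunc.X : RatFunc k) ^ 2 * ((RatFunc.X : RatFunc k) - 1) ^ 2)} : Set (RatFunc k)) := by
  classical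
  set x : RatFunc k := RatFunc.X with hx
  have hinj : Function.Injective (aeval x : k[X] → RatFunc k) := fun p q h => by
    rw [hx, RatFunc.aeval_X_left_eq_algebraMap, RatFunc.aeval_X_left_eq_algebraMap] at h
    exact RatFunc.algebraMap_injective k h
  have hx0 : x ≠ 0 := fun e => by
    have : aeval x (X : k[X]) = aeval x (0 : k[X]) := by simp [e]
    exact Polynomial.X_ne_zero (hinj this)
  have hx1 : x - 1 ≠ 0 := fun e => by
    have : aeval x (X - 1 : k[X]) = aeval x (0 : k[X]) := by simpa using e
    exact (Polynomial.monic_X_sub_C (1 : k)).ne_zero (by simpa using hinj this)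
  have h256 : (256 : k) ≠ 0 := by
    rw [show (256 : k) = 2 ^ 8 by norm_num]; exact pow_ne_zero _ h2
  set j := (256 : RatFunc k) * (x ^ 2 - x + 1) ^ 3 / (x ^ 2 * (x - 1) ^ 2) with hj
  set B := Algebra.adjoin k ({x, x⁻¹, (x - 1)⁻¹} : Set (RatFunc k)) with hB
  have hjB : j ∈ B := by
    have e : j = 256 * (x ^ 2 - x + 1) ^ 3 * (x⁻¹ ^ 2 * (x - 1)⁻¹ ^ 2) := by rw [hj]; field_simp
    rw [e]
    have mx : x ∈ B := Algebra.subset_adjoin (by simp)
    refine B.mul_mem (B.mul_mem (B.natCast_mem 256) (B.pow_mem (B.add_mem (B.sub_mem (B.pow_mem mx _) mx) B.one_mem) _))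
      (B.mul_mem (B.pow_mem (Algebra.subset_adjoin (by simp)) _) (B.pow_mem (Algebra.subset_adjoin (by simp)) _))
  have hσj : σ j = j := by
    rw [hj, map_div₀, map_mul, map_mul, map_pow, map_add, map_sub, map_pow, map_pow, map_one, map_sub, map_one, hσ,
      map_ofNat]
    have : (1 : RatFunc k) - x ≠ 0 := fun e => hx1 (by linear_combination -e)
    field_simp
    ring
  have hτj : τ j = j := by
    rw [hj, map_div₀, map_mul, map_mul, map_pow, map_add, map_sub, map_pow, map_pow, map_one, map_sub, map_one, hτ,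
      map_ofNat]
    congr 1 <;> ring
  constructor
  · rintro ⟨hb, hbσ, hbτ⟩
    obtain ⟨N, f, hf⟩ : ∃ (N : ℕ) (f : k[X]), b * (x * (x - 1)) ^ N = aeval x f := by
      clear hbσ hbτ
      induction hb using Algebra.adjoin_induction with
      | mem y hy =>
        simp only [Set.mem_insert_iff, Set.mem_singleton_iff] at hy
        rcases hy with rfl | rfl | rfl
        · exact ⟨0, X, by simp⟩
        · exact ⟨1, X - 1, by simp [inv_mul_cancel_left₀ hx0]⟩
        · exact ⟨1, X, by simp; field_simp⟩
      | algebraMap r => exact ⟨0, C r, by simp⟩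
      | add y z _ _ hy hz =>
        obtain ⟨a, p, hp⟩ := hy
        obtain ⟨c, q, hq⟩ := hz
        exact ⟨a + c, p * (X * (X - 1)) ^ c + q * (X * (X - 1)) ^ a, by
          simp only [map_add, map_mul, map_pow, map_sub, aeval_X, map_one, ← hp, ← hq]; ring⟩
      | mul y z _ _ hy hz =>
        obtain ⟨a, p, hp⟩ := hy
        obtain ⟨c, q, hq⟩ := hz
        exact ⟨a + c, p * q, by rw [map_mul, ← hp, ← hq]; ring⟩
    clear hb
    induction N using Nat.strong_induction_on generalizing b f with
    | _ N ih =>
    -- the two symmetries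
    set d := 3 * N + f.natDegree with hd
    have hev : f.eval 1 = f.eval 0 := by
      have h := congrArg τ hf
      rw [map_mul, map_pow, map_mul, map_sub, map_one, hτ, hbτ, ← aeval_algHom_apply, hτ,
        show (1 - x) * (1 - x - 1) = x * (x - 1) by ring, hf] at h
      have h' : f = f.comp (1 - X) := hinj (by rw [aeval_comp]; simpa using h)
      conv_lhs => rw [h']
      simp [eval_comp]
    have hσ' : X ^ (3 * N) * C ((-1) ^ N) * f.reflect d = X ^ d * f := by
      apply hinj
      have h := congrArg σ hf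
      rw [map_mul, map_pow, map_mul, map_sub, map_one, hσ, hbσ, ← aeval_algHom_apply, hσ] at h
      let _ : Invertible (x⁻¹) := invertibleOfNonzero (inv_ne_zero hx0)
      have hr := Polynomial.eval₂_reflect_mul_pow (algebraMap k (RatFunc k)) x⁻¹ d f (by omega)
      rw [invOf_eq_inv, inv_inv, ← aeval_def, ← aeval_def, ← h] at hr
      simp only [map_mul, map_pow, map_neg, map_one, aeval_X, ← hf]
      have key : (x : RatFunc k)⁻¹ * (x⁻¹ - 1) = (-1) * (x * (x - 1)) * x⁻¹ ^ 3 := by field_simp; ring
      rw [key, mul_pow, mul_pow, ← pow_mul, inv_pow, inv_pow] at hr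
      field_simp at hr
      have hsq : ((-1 : RatFunc k) ^ N) ^ 2 - 1 = 0 := by
        rw [← pow_mul, mul_comm N 2, pow_mul, neg_one_sq, one_pow, sub_self]
      linear_combination (-1 : RatFunc k) ^ N * hr + (b * (x * (x - 1)) ^ N * x ^ d) * hsq
    rcases Nat.eq_zero_or_pos N with rfl | hN
    · have hdeg : f.natDegree = 0 := by
        by_contra hne
        have hf0 : f ≠ 0 := fun e => hne (by simp [e])
        simp only [Nat.mul_zero, pow_zero, C_1, one_mul] at hσ'
        have h := congrArg natDegree hσ'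
        rw [natDegree_mul (pow_ne_zero _ X_ne_zero) hf0, natDegree_X_pow] at h
        have h1 : (f.reflect d).natDegree ≤ d := natDegree_le_iff_coeff_eq_zero.2 fun m hm => by
          rw [coeff_reflect, revAt_eq_self_of_lt hm, coeff_eq_zero_of_natDegree_lt (by omega)]
        omega
      obtain ⟨c, rfl⟩ := natDegree_eq_zero.1 hdeg
      rw [pow_zero, mul_one, aeval_C] at hf
      rw [hf]
      exact Subalgebra.algebraMap_mem _ c
    by_cases h0 : f.eval 0 = 0
    · obtain ⟨g, hg⟩ := dvd_iff_isRoot.2 (show f.IsRoot 0 from h0)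
      rw [C_0, sub_zero] at hg
      have hg1 : g.IsRoot 1 := by
        have := hev; rw [h0, hg, eval_mul, eval_X, one_mul] at this; exact this
      obtain ⟨g', hg'⟩ := dvd_iff_isRoot.2 hg1
      rw [C_1] at hg'
      refine ih (N - 1) (by omega) b hbσ hbτ g' ?_
      have hne : x * (x - 1) ≠ 0 := mul_ne_zero hx0 hx1
      apply mul_right_cancel₀ hne
      rw [mul_assoc, ← pow_succ, Nat.sub_add_cancel hN, hf, hg, hg']
      simp only [map_mul, map_sub, aeval_X, map_one]; ring
    · have heven : Even N := by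
        have h := congrArg (eval 1) hσ'
        have h1 : (f.reflect d).eval 1 = f.eval 1 := by
          let _ : Invertible (1 : k) := invertibleOne
          have := Polynomial.eval₂_reflect_mul_pow (RingHom.id k) (1 : k) d f (by omega)
          simpa using this
        simp only [eval_mul, eval_pow, eval_X, one_pow, one_mul, eval_C, h1] at h
        rw [hev, mul_eq_right₀ h0] at h
        rcases Nat.even_or_odd N with he | ho
        · exact he
        · exfalso; rw [ho.neg_one_pow] at h; exact h2 (by linear_combination -h)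
      obtain ⟨n, rfl⟩ := heven
      set c := f.eval 0 / (256 : k) ^ n
      have hjn : j ^ n * (x * (x - 1)) ^ (n + n) = algebraMap k (RatFunc k) ((256 : k) ^ n) * (x ^ 2 - x + 1) ^ (3 * n) := by
        rw [hj, div_pow, map_pow, map_ofNat, ← two_mul, pow_mul, pow_mul, mul_pow x, mul_pow (256 : RatFunc k)]
        field_simp
      have hf' : (b - algebraMap k (RatFunc k) c * j ^ n) * (x * (x - 1)) ^ (n + n) =
          aeval x (f - C (f.eval 0) * (X ^ 2 - X + 1) ^ (3 * n)) := by
        rw [sub_mul, hf, mul_assoc, hjn, ← mul_assoc, ← map_mul, div_mul_cancel₀ _ (pow_ne_zero _ h256)]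
        simp
      obtain ⟨g, hg⟩ := dvd_iff_isRoot.2 (show (f - C (f.eval 0) * (X ^ 2 - X + 1) ^ (3 * n)).IsRoot 0 by simp [IsRoot])
      rw [C_0, sub_zero] at hg
      have hg1 : g.IsRoot 1 := by
        have := congrArg (eval 1) hg
        simpa [hev, IsRoot] using this.symm
      obtain ⟨g', hg'⟩ := dvd_iff_isRoot.2 hg1
      rw [C_1] at hg'
      have hrest : b - algebraMap k (RatFunc k) c * j ^ n ∈ Algebra.adjoin k ({j} : Set (RatFunc k)) := by
        refine ih (n + n - 1) (by omega) _ ?_ ?_ g' ?_
        · rw [map_sub, map_mul, map_pow, hσj, AlgEquiv.commutes, hbσ]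
        · rw [map_sub, map_mul, map_pow, hτj, AlgEquiv.commutes, hbτ]
        · have hne : x * (x - 1) ≠ 0 := mul_ne_zero hx0 hx1
          apply mul_right_cancel₀ hne
          rw [mul_assoc, ← pow_succ, Nat.sub_add_cancel hN, hf', hg, hg']
          simp only [map_mul, map_sub, aeval_X, map_one]; ring
      have := Subalgebra.add_mem _ hrest (Subalgebra.mul_mem _ (Subalgebra.algebraMap_mem _ c) (Subalgebra.pow_mem _ (Algebra.self_mem_adjoin_singleton k j) n))
      rwa [sub_add_cancel] at this
  · intro h
    induction h using Algebra.adjoin_induction with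
    | mem y hy => rw [Set.mem_singleton_iff] at hy; subst hy; exact ⟨hjB, hσj, hτj⟩
    | algebraMap r => exact ⟨B.algebraMap_mem r, σ.commutes r, τ.commutes r⟩
    | add y z _ _ hy hz => exact ⟨B.add_mem hy.1 hz.1, by rw [map_add, hy.2.1, hz.2.1], by rw [map_add, hy.2.2, hz.2.2]⟩
    | mul y z _ _ hy hz => exact ⟨B.mul_mem hy.1 hz.1, by rw [map_mul, hy.2.1, hz.2.1], by rw [map_mul, hy.2.2, hz.2.2]⟩

end Groth.Agent.S11470
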