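import Groth.Statements.S1148
import Groth.Agent.Misc9.CompLift
import Mathlib
-- import your own Groth.Agent.* helpers here

set_option autoImplicit false
set_option backward.isDefEq.respectTransparency false
universe u
open Desc

open CategoryTheory CategoryTheory.Limits AlgebraicGeometry
namespace Groth.Agent.S1148

/-- Affine form (finiteness of irreducible components of quasi-compact opens is fppf local; this is the
ascent direction for a morphism of affine schemes). Let A → B be a flat ring map of finite
presentation. If Spec A has finitely many irreducible components, then so does Spec B. -/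
theorem result (A B : Type u) [CommRing A] [CommRing B] [Algebra A B]
    [Module.Flat A B] [Algebra.FinitePresentation A B] (h : (irreducibleComponents (PrimeSpectrum A)).Finite) :
    (irreducibleComponents (PrimeSpectrum B)).Finite := by
  let c := PrimeSpectrum.comap (algebraMap A B)
  haveI : Module.Flat A B := inferInstance
  have hg : GeneralizingMap c := (RingHom.Flat.generalizingMap_comap (by rwa [RingHom.flat_algebraMap_iff]))
  have := Misc9.CompLift.finite_meeting (PrimeSpectrum.continuous_comap _) hg Set.univ Set.univ isOpen_univ
    (fun _ _ => trivial) (h.subset fun W hW => hW.1) fun W _ _ η _ S hS hmax => by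
      let p := η.asIdeal
      let e := PrimeSpectrum.preimageHomeomorphFiber A B η
      haveI : IsNoetherianRing (p.Fiber B) := Algebra.FiniteType.isNoetherianRing p.ResidueField _
      have hfin := TopologicalSpace.NoetherianSpace.finite_irreducibleComponents (α := PrimeSpectrum (p.Fiber B))
      let s : ↥S → ↥(c ⁻¹' {η}) := fun z => ⟨z.1, (hS z.2).2⟩
      have hinj : Function.Injective (fun z => closure ({e (s z)} : Set (PrimeSpectrum (p.Fiber B)))) := by
        intro a b hab
        have h1 : e (s a) = e (s b) := (inseparable_iff_closure_eq.2 hab).eq
        exact Subtype.ext (congrArg (fun t : ↥(c ⁻¹' {η}) => t.1) (e.injective h1))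
      haveI : Finite ↥(irreducibleComponents (PrimeSpectrum (p.Fiber B))) := hfin.to_subtype
      refine Set.finite_coe_iff.1 (Finite.of_injective (β := ↥(irreducibleComponents (PrimeSpectrum (p.Fiber B))))
        (fun z => ⟨_, isIrreducible_singleton.closure, fun Z hZ hle => ?_⟩)
        fun a b hab => hinj (congrArg Subtype.val hab))
      obtain ⟨w, hw⟩ := QuasiSober.sober hZ.closure isClosed_closure
      have h1 : w ⤳ e (s z) := hw.specializes (subset_closure (hle (subset_closure rfl)))
      have h2 : (e.symm w).1 ⤳ z.1 := by
        have := h1.map (continuous_subtype_val.comp e.symm.continuous)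
        simpa [s] using this
      have h3 := (hmax z.1 z.2 _ h2 (e.symm w).2).2
      have h4 : e.symm w = s z := Subtype.ext (h2.antisymm h3).eq
      have h5 : w = e (s z) := by rw [← h4, Homeomorph.apply_symm_apply]
      rw [← h5, hw.def]
      exact subset_closure
  refine (this.subset fun T hT => ⟨hT, ?_⟩)
  simpa using hT.1.1

end Groth.Agent.S1148
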