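import Groth.Statements.S11497
import Mathlib.Algebra.Homology.DerivedCategory.Ext.ExactSequences
-- import your own Groth.Agent.* helpers here

set_option autoImplicit false
open CategoryTheory.Limits
universe w v u
open CategoryTheory
open VBPn

namespace Groth.Agent.S11497

/-- In an abelian category, let M : A → B → C and M' : A' → B' → C' be monads, i.e. short complexes
whose first map is a monomorphism and whose second map is an epimorphism, with cohomology (homology)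
objects E and E'. Suppose Hom(B, A') = 0, Hom(C, B') = 0 and Ext^1(C, A') = Ext^1(B, A') = Ext^1(C,
B') = Ext^2(C, A') = 0. Then the map sending a morphism of monads M → M' to the induced morphism E →
E' is bijective. The published statement is for monads of vector bundles on a complex manifold X,
with Ext^i(C, A') written H^i(X, C^* ⊗ A'); this row is stated in any abelian category. -/
theorem result {C : Type u} [Category.{v} C] [Abelian C] [HasExt.{w} C]
    (M M' : ShortComplex C) [Mono M.f] [Epi M.g] [Mono M'.f] [Epi M'.g]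
    (hBA : ∀ f : M.X₂ ⟶ M'.X₁, f = 0) (hCB : ∀ f : M.X₃ ⟶ M'.X₂, f = 0)
    (hCA₁ : Subsingleton (Abelian.Ext M.X₃ M'.X₁ 1)) (hBA₁ : Subsingleton (Abelian.Ext M.X₂ M'.X₁ 1))
    (hCB₁ : Subsingleton (Abelian.Ext M.X₃ M'.X₂ 1)) (hCA₂ : Subsingleton (Abelian.Ext M.X₃ M'.X₁ 2)) :
    Function.Bijective (fun φ : M ⟶ M' => ShortComplex.homologyMap φ) := by
  let S1 : ShortComplex C := ShortComplex.mk M.iCycles M.g M.iCycles_g
  have hS1 : S1.ShortExact :=
    { exact := S1.exact_of_f_is_kernel M.cyclesIsKernel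
      mono_f := inferInstanceAs (Mono M.iCycles)
      epi_g := inferInstanceAs (Epi M.g) }
  let S2 : ShortComplex C := ShortComplex.mk M'.toCycles M'.homologyπ M'.toCycles_comp_homologyπ
  haveI : Mono M'.toCycles := mono_of_mono_fac M'.toCycles_i
  have hS2 : S2.ShortExact :=
    { exact := S2.exact_of_g_is_cokernel M'.homologyIsCokernel
      mono_f := inferInstanceAs (Mono M'.toCycles)
      epi_g := inferInstanceAs (Epi M'.homologyπ) }
  have hom0 : ∀ {X Y : C} (x : Abelian.Ext X Y 0), ∃ f : X ⟶ Y, Abelian.Ext.mk₀ f = x :=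
    fun x => ⟨Abelian.Ext.homEquiv₀ x, Abelian.Ext.mk₀_homEquiv₀_apply x⟩
  have hinj0 : ∀ {X Y : C} {f g : X ⟶ Y}, Abelian.Ext.mk₀ f = Abelian.Ext.mk₀ g → f = g :=
    fun h => Abelian.Ext.homEquiv₀.symm.injective h
  have hZA : ∀ h : M.cycles ⟶ M'.X₁, h = 0 := by
    intro h
    obtain ⟨x₂, hx₂⟩ := Abelian.Ext.contravariant_sequence_exact₁ hS1 M'.X₁ (Abelian.Ext.mk₀ h)
      (n₁ := 1) rfl (hCA₁.elim _ _)
    obtain ⟨f, rfl⟩ := hom0 x₂
    rw [hBA f, Abelian.Ext.mk₀_zero, Abelian.Ext.comp_zero, ← Abelian.Ext.mk₀_zero] at hx₂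
    exact (hinj0 hx₂).symm
  have hZA1 : ∀ x : Abelian.Ext M.cycles M'.X₁ 1, x = 0 := by
    intro x
    obtain ⟨x₂, hx₂⟩ := Abelian.Ext.contravariant_sequence_exact₁ hS1 M'.X₁ x
      (n₁ := 2) rfl (hCA₂.elim _ _)
    rw [show x₂ = 0 from hBA₁.elim _ _, Abelian.Ext.comp_zero] at hx₂
    exact hx₂.symm
  constructor
  · have key : ∀ φ : M ⟶ M', ShortComplex.homologyMap φ = 0 → φ = 0 := by
      intro φ hφ
      have h1 : ShortComplex.cyclesMap φ ≫ S2.g = 0 := by
        show ShortComplex.cyclesMap φ ≫ M'.homologyπ = 0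
        rw [← ShortComplex.homologyπ_naturality, hφ, comp_zero]
      haveI : Mono S2.f := hS2.mono_f
      let l := hS2.exact.lift (ShortComplex.cyclesMap φ) h1
      have hl : l ≫ S2.f = ShortComplex.cyclesMap φ := hS2.exact.lift_f _ h1
      have hcyc : ShortComplex.cyclesMap φ = 0 := by rw [← hl, hZA l, zero_comp]
      have h2 : S1.f ≫ φ.τ₂ = 0 := by
        show M.iCycles ≫ φ.τ₂ = 0
        rw [← ShortComplex.cyclesMap_i, hcyc, zero_comp]
      haveI : Epi S1.g := hS1.epi_g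
      have h3 : φ.τ₂ = 0 := by
        rw [← hS1.exact.g_desc φ.τ₂ h2, hCB (hS1.exact.desc φ.τ₂ h2), comp_zero]
      ext
      · rw [← cancel_mono M'.f, φ.comm₁₂, h3]
        simp
      · exact h3
      · rw [← cancel_epi M.g, ← φ.comm₂₃, h3]
        simp
    intro φ ψ h
    refine sub_eq_zero.mp (key (φ - ψ) ?_)
    change ShortComplex.homologyMap φ = ShortComplex.homologyMap ψ at h
    rw [ShortComplex.homologyMap_sub, h, sub_self]
  · intro ψ
    obtain ⟨x₂, hx₂⟩ := Abelian.Ext.covariant_sequence_exact₃ hS2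
      (X := M.cycles) (Abelian.Ext.mk₀ (M.homologyπ ≫ ψ)) (n₁ := 1) rfl (hZA1 _)
    obtain ⟨χ, rfl⟩ := hom0 x₂
    rw [Abelian.Ext.mk₀_comp_mk₀] at hx₂
    have hχ : χ ≫ M'.homologyπ = M.homologyπ ≫ ψ := hinj0 hx₂
    obtain ⟨y₂, hy₂⟩ := Abelian.Ext.contravariant_sequence_exact₁ hS1 M'.X₂
      (Abelian.Ext.mk₀ (χ ≫ M'.iCycles)) (n₁ := 1) rfl (hCB₁.elim _ _)
    obtain ⟨τ, rfl⟩ := hom0 y₂
    rw [Abelian.Ext.mk₀_comp_mk₀] at hy₂
    have hτ : M.iCycles ≫ τ = χ ≫ M'.iCycles := hinj0 hy₂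
    have hA : (M.toCycles ≫ χ) ≫ S2.g = 0 := by
      show (M.toCycles ≫ χ) ≫ M'.homologyπ = 0
      rw [Category.assoc, hχ, ShortComplex.toCycles_comp_homologyπ_assoc, zero_comp]
    haveI : Mono S2.f := hS2.mono_f
    haveI : Epi S1.g := hS1.epi_g
    let τ₁ := hS2.exact.lift (M.toCycles ≫ χ) hA
    have hτ₁ : τ₁ ≫ M'.toCycles = M.toCycles ≫ χ := hS2.exact.lift_f _ hA
    have hC : S1.f ≫ (τ ≫ M'.g) = 0 := by
      show M.iCycles ≫ τ ≫ M'.g = 0
      rw [← Category.assoc, hτ, Category.assoc, ShortComplex.iCycles_g, comp_zero]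
    let τ₃ := hS1.exact.desc (τ ≫ M'.g) hC
    have hτ₃ : M.g ≫ τ₃ = τ ≫ M'.g := hS1.exact.g_desc _ hC
    let Φ : M ⟶ M' :=
      { τ₁ := τ₁
        τ₂ := τ
        τ₃ := τ₃
        comm₁₂ := by
          rw [← M'.toCycles_i, ← Category.assoc, hτ₁, Category.assoc, ← hτ, M.toCycles_i_assoc]
        comm₂₃ := hτ₃.symm }
    refine ⟨Φ, ?_⟩
    have hcyc : ShortComplex.cyclesMap Φ = χ := by
      rw [← cancel_mono M'.iCycles, ShortComplex.cyclesMap_i]
      exact hτ
    show ShortComplex.homologyMap Φ = ψ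
    rw [← cancel_epi M.homologyπ, ShortComplex.homologyπ_naturality, hcyc, hχ]

end Groth.Agent.S11497
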