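import Groth.Statements.S11528
import Groth.Agent.Adic.Base.Finite

set_option autoImplicit false
universe u
open AdicRing

namespace Groth.Agent.S11528

/-- Let R be a base ring of class (N) or (V) for the ideal I, A an R-algebra topologically of finite
type, M a finite A-module and N a submodule of M. Then for some n₀ and all m, the intersection of
I^(m+n₀) M with N lies in I^m N. (The published statement asserts only that the I-adic topology of M
induces that of N; this row states the uniform form: for some n₀ and all m, I^(m+n₀) M ∩ N lies in
I^m N.) -/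
theorem result
    (R : Type u) [CommRing R] (I : Ideal R) (hR : AdicRing.IsBase R I)
    (A : Type u) [CommRing A] [Algebra R A] (hA : AdicRing.TopFiniteType R I A)
    (M : Type u) [AddCommGroup M] [Module A M] [Module R M] [IsScalarTower R A M]
    [Module.Finite A M] (N : Submodule A M) :
    ∃ n₀ : ℕ, ∀ m : ℕ,
      (I ^ (m + n₀) • (⊤ : Submodule R M)) ⊓ N.restrictScalars R ≤ I ^ m • N.restrictScalars R := by
  obtain ⟨n₀, h⟩ := Groth.Agent.Adic.Base.Tame.artinRees (Groth.Agent.Adic.Base.Classes.isTame_self hR hA) N
  have key : ∀ (k : ℕ) (L : Submodule A M),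
      ((I.map (algebraMap R A)) ^ k • L).restrictScalars R = I ^ k • L.restrictScalars R := fun k L => by
    rw [← Ideal.map_pow, Groth.Agent.Adic.Base.Tame.restrictScalars_map_smul]
  refine ⟨n₀, fun m x hx => ?_⟩
  rw [← key]
  refine h m ⟨?_, hx.2⟩
  change x ∈ ((I.map (algebraMap R A)) ^ (m + n₀) • (⊤ : Submodule A M)).restrictScalars R
  rw [key, Submodule.restrictScalars_top]
  exact hx.1

end Groth.Agent.S11528
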