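import Groth.Statements.S1153
import Groth.Agent.ProperOver.Basic
import Groth.Agent.Fpqc.Descent

set_option autoImplicit false
open CategoryTheory CategoryTheory.Limits AlgebraicGeometry Opposite
universe u
open Desc

namespace Groth.Agent.S1153

/-- Let f : X ⟶ Y be locally of finite type, Z a closed subset of X and g : Y' ⟶ Y quasi-compact, flat
and surjective. If the preimage of Z in X ×_Y Y' is proper over Y', then Z is proper over Y. -/
theorem result {X Y Y' : Scheme.{u}} (f : X ⟶ Y) [LocallyOfFiniteType f] (Z : Set X) (hZ : IsClosed Z)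
    (g : Y' ⟶ Y) [QuasiCompact g] [Flat g] [Surjective g]
    (h : ClSub.IsProperOver (pullback.snd f g) ((pullback.fst f g).base ⁻¹' Z)) :
    ClSub.IsProperOver f Z := by
  let I := Scheme.IdealSheafData.vanishingIdeal ⟨Z, hZ⟩
  have hr : Set.range I.subschemeι = Z := by
    rw [Scheme.IdealSheafData.range_subschemeι, Scheme.IdealSheafData.coe_support_vanishingIdeal]; rfl
  have hp := (Groth.Agent.ProperOver.iff_of_range (pullback.snd f g)
    (pullback.snd I.subschemeι (pullback.fst f g)) (Groth.Agent.ProperOver.range_pullback_snd _ _ hr)).mp h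
  haveI := Groth.Agent.Fpqc.Descent.isProper
  exact ⟨hZ, MorphismProperty.of_isPullback_of_descendsAlong (P := @IsProper)
    (Q := (@Surjective ⊓ @Flat ⊓ @QuasiCompact : MorphismProperty Scheme.{u}))
    ((IsPullback.of_hasPullback I.subschemeι (pullback.fst f g)).flip.paste_horiz
      (IsPullback.of_hasPullback f g).flip) ⟨⟨inferInstance, inferInstance⟩, inferInstance⟩ hp⟩

end Groth.Agent.S1153
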