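import Groth.Statements.S11538
import Groth.Agent.Flat.SqZero
import Mathlib.RingTheory.Flat.Stability
import Mathlib.RingTheory.Localization.Away.Basic
import Mathlib.RingTheory.Localization.BaseChange
import Mathlib.RingTheory.Flat.Localization
import Mathlib.LinearAlgebra.DirectSum.Finsupp

set_option autoImplicit false
universe u v
open scoped TensorProduct
open AdicRing

namespace Groth.Agent.S11538

/-- `K ⊗ M` has no `π`-torsion. -/
private theorem key (A : Type u) [CommRing A] (π : A) (hπ : π ∈ nonZeroDivisors A)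
    (M : Type v) [AddCommGroup M] [Module A M] (htf1 : ∀ x : M, π • x = 0 → x = 0)
    [Module.Flat (A ⧸ Ideal.span {π}) ((A ⧸ Ideal.span {π}) ⊗[A] M)]
    (K : Ideal A) (x : K ⊗[A] M) (hx : π • x = 0) : x = 0 := by
  classical
  let c : (K →₀ A) →ₗ[A] K := Finsupp.linearCombination A id
  have hc : Function.Surjective c := fun k => ⟨Finsupp.single k 1, by simp [c]⟩
  let S := LinearMap.ker c
  have hF : ∀ z : (K →₀ A) ⊗[A] M, π • z = 0 → z = 0 := by
    intro z hz
    apply (TensorProduct.finsuppScalarLeft A M K).injective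
    rw [map_zero]
    ext i
    refine htf1 _ ?_
    rw [← Finsupp.smul_apply, ← map_smul, hz, map_zero, Finsupp.zero_apply]
  let P : Submodule A (K →₀ A) := LinearMap.range (LinearMap.lsmul A (K →₀ A) π)
  let q : S →ₗ[A] (K →₀ A) ⧸ P := P.mkQ ∘ₗ S.subtype
  have hP : ∀ a ∈ Ideal.span ({π} : Set A), ∀ z : (K →₀ A) ⧸ P, a • z = 0 := by
    intro a ha z
    obtain ⟨t, rfl⟩ := Ideal.mem_span_singleton'.1 ha
    obtain ⟨w, rfl⟩ := P.mkQ_surjective z
    rw [mul_smul, ← map_smul _ π w]
    have : P.mkQ (π • w) = 0 := (Submodule.Quotient.mk_eq_zero P).2 ⟨w, rfl⟩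
    rw [this, smul_zero]
  have hexc : Function.Exact S.subtype c := LinearMap.exact_subtype_ker_map c
  obtain ⟨y, rfl⟩ := LinearMap.rTensor_surjective M hc x
  rw [← map_smul] at hx
  obtain ⟨r, hr⟩ := ((rTensor_exact (M := S) (N := K →₀ A) (P := K) M hexc hc) _).1 hx
  have h1 : q.rangeRestrict.rTensor M r = 0 := by
    refine Groth.Agent.Flat.SqZero.rTensor_injective_of_annihilated (Ideal.span {π}) M
      (fun a ha z => Subtype.ext (hP a ha z)) hP q.range.subtype Subtype.val_injective ?_
    rw [map_zero, ← LinearMap.comp_apply, ← LinearMap.rTensor_comp]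
    show (P.mkQ ∘ₗ S.subtype).rTensor M r = 0
    rw [LinearMap.rTensor_comp, LinearMap.comp_apply]
    have e : S.subtype.rTensor M r = π • y := hr
    rw [e]
    have hz : P.mkQ.rTensor M ((LinearMap.lsmul A (K →₀ A) π).rTensor M y) = 0 := by
      rw [← LinearMap.comp_apply, ← LinearMap.rTensor_comp,
        show P.mkQ ∘ₗ LinearMap.lsmul A (K →₀ A) π = 0 from
          LinearMap.ext fun w => (Submodule.Quotient.mk_eq_zero P).2 ⟨w, rfl⟩]
      simp
    have e2 : (LinearMap.lsmul A (K →₀ A) π).rTensor M y = π • y := by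
      clear hr e hz hx
      induction y using TensorProduct.induction_on with
      | zero => simp
      | tmul a m => rfl
      | add u v hu hv => rw [map_add, hu, hv, smul_add]
    rw [← e2]; exact hz
  have hex : Function.Exact (LinearMap.lsmul A S π) q.rangeRestrict := by
    intro s
    constructor
    · intro hs
      obtain ⟨w, hw⟩ := (Submodule.Quotient.mk_eq_zero P).1 (congrArg Subtype.val hs)
      have hw' : w ∈ S := by
        rw [LinearMap.mem_ker]
        have h0 : π • c w = 0 := by
          have h9 : c (s : K →₀ A) = 0 := s.2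
          rw [show (s : K →₀ A) = π • w from hw.symm, map_smul] at h9
          exact h9
        refine Subtype.ext ?_
        exact (mem_nonZeroDivisors_iff.1 hπ).1 _ (congrArg Subtype.val h0)
      exact ⟨⟨w, hw'⟩, Subtype.ext hw⟩
    · rintro ⟨w, rfl⟩
      exact Subtype.ext ((Submodule.Quotient.mk_eq_zero P).2 ⟨(w : K →₀ A), rfl⟩)
  have hh := rTensor_exact (M := S) (N := S) (P := LinearMap.range q) M hex q.surjective_rangeRestrict
  obtain ⟨r', rfl⟩ := (hh r).1 h1
  have e3 : (LinearMap.lsmul A S π).rTensor M r' = π • r' := by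
    clear hr h1
    induction r' using TensorProduct.induction_on with
    | zero => simp
    | tmul a m => rfl
    | add u v hu hv => rw [map_add, hu, hv, smul_add]
  have hr' : π • S.subtype.rTensor M r' = π • y := by
    rw [← map_smul, ← e3]; exact hr
  have hy : y = S.subtype.rTensor M r' :=
    sub_eq_zero.1 (hF _ (by rw [smul_sub, hr', sub_self]))
  rw [hy, ← LinearMap.comp_apply, ← LinearMap.rTensor_comp, LinearMap.comp_ker_subtype]
  simp

/-- Let A be a commutative ring, π an element of A which is not a zero divisor and M an A-module. Then M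
is flat over A if and only if the π-power torsion of M vanishes, (A/πA) ⊗_A M is flat over A/πA, and
A[π⁻¹] ⊗_A M is flat over A[π⁻¹]. -/
theorem result
    (A : Type u) [CommRing A] (π : A) (hπ : π ∈ nonZeroDivisors A)
    (M : Type v) [AddCommGroup M] [Module A M] :
    Module.Flat A M ↔
      (∀ (x : M) (n : ℕ), π ^ n • x = 0 → x = 0) ∧
        Module.Flat (A ⧸ Ideal.span {π}) ((A ⧸ Ideal.span {π}) ⊗[A] M) ∧
        Module.Flat (Localization.Away π) ((Localization.Away π) ⊗[A] M) := by
  classical
  constructor
  · intro hM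
    refine ⟨fun x n hx => ?_, Module.Flat.baseChange A (A ⧸ Ideal.span {π}) M,
      Module.Flat.baseChange A (Localization.Away π) M⟩
    have hinj : Function.Injective (LinearMap.lsmul A A (π ^ n)) := fun a b h => by
      simp only [LinearMap.lsmul_apply, smul_eq_mul] at h
      exact (mul_cancel_left_mem_nonZeroDivisors (pow_mem hπ n)).1 h
    have h2 := Module.Flat.rTensor_preserves_injective_linearMap (M := M) _ hinj
      (a₁ := (1 : A) ⊗ₜ x) (a₂ := 0)
    have h3 : (1 : A) ⊗ₜ[A] x = 0 := h2 (by
      rw [map_zero, LinearMap.rTensor_tmul, LinearMap.lsmul_apply, TensorProduct.smul_tmul, hx,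
        TensorProduct.tmul_zero])
    simpa using congrArg (TensorProduct.lid A M) h3
  rintro ⟨htf, hmod, haway⟩
  have htf1 : ∀ x : M, π • x = 0 → x = 0 := fun x hx => htf x 1 (by rwa [pow_one])
  have : Module.Flat A ((Localization.Away π) ⊗[A] M) :=
    have : Module.Flat A (Localization.Away π) :=
      IsLocalization.flat (Localization.Away π) (Submonoid.powers π)
    Module.Flat.trans A (Localization.Away π) _
  rw [Module.Flat.iff_rTensor_injective']
  intro K
  rw [injective_iff_map_eq_zero]
  intro x hx
  let L := Localization.Away π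
  let j : M →ₗ[A] L ⊗[A] M := TensorProduct.mk A L M 1
  have h1 : j.lTensor K x = 0 := by
    refine Module.Flat.rTensor_preserves_injective_linearMap (M := L ⊗[A] M) K.subtype
      K.injective_subtype ?_
    rw [map_zero, ← LinearMap.comp_apply, LinearMap.rTensor_comp_lTensor,
      ← LinearMap.lTensor_comp_rTensor, LinearMap.comp_apply, hx, map_zero]
  have h2 : TensorProduct.mk A L (K ⊗[A] M) 1 x = 0 := by
    have e : TensorProduct.mk A L (K ⊗[A] M) 1 =
        (TensorProduct.leftComm A K L M).toLinearMap ∘ₗ j.lTensor K :=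
      TensorProduct.ext' fun k m => by simp [j]
    rw [e, LinearMap.comp_apply, h1, map_zero]
  obtain ⟨⟨_, n, rfl⟩, hn⟩ := (IsLocalizedModule.eq_zero_iff (Submonoid.powers π)
    (TensorProduct.mk A L (K ⊗[A] M) 1)).1 h2
  change π ^ n • x = 0 at hn
  clear hx h1 h2
  induction n with
  | zero => simpa using hn
  | succ n ih => exact ih (key A π hπ M htf1 K _ (by rwa [smul_smul, ← pow_succ']))

end Groth.Agent.S11538
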