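import Groth.Statements.S1156
import Mathlib.RingTheory.Flat.FaithfullyFlat.Algebra

set_option autoImplicit false
universe u
open scoped TensorProduct
open Desc

namespace Groth.Agent.S1156

/-- Exactness of the extended Amitsur complex in degree 0 (injectivity in degree −1 being standard). Let
R → A be faithfully flat and M an R-module. An element x of A ⊗_R M with 1 ⊗ x = (a ⊗ m ↦ a ⊗ 1 ⊗
m)(x) in A ⊗_R A ⊗_R M lies in the image of m ↦ 1 ⊗ m. -/
theorem result (R A : Type u) [CommRing R] [CommRing A] [Algebra R A] [Module.FaithfullyFlat R A]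
    (M : Type u) [AddCommGroup M] [Module R M] (x : A ⊗[R] M)
    (hx : TensorProduct.mk R A (A ⊗[R] M) 1 x = LinearMap.lTensor A (TensorProduct.mk R A M 1) x) :
    x ∈ LinearMap.range (TensorProduct.mk R A M 1) := by
  let Q := (A ⊗[R] M) ⧸ LinearMap.range (TensorProduct.mk R A M 1)
  let p : A ⊗[R] M →ₗ[R] Q := (LinearMap.range (TensorProduct.mk R A M 1)).mkQ
  have h1 : (1 : A) ⊗ₜ[R] p x = (0 : A ⊗[R] Q) := by
    have h := congrArg (p.lTensor A) hx
    rw [TensorProduct.mk_apply, LinearMap.lTensor_tmul, ← LinearMap.lTensor_comp_apply,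
      LinearMap.range_mkQ_comp, LinearMap.lTensor_zero, LinearMap.zero_apply] at h
    exact h
  have hinj : Function.Injective (TensorProduct.mk R A Q 1) :=
    Module.FaithfullyFlat.tensorProduct_mk_injective Q
  exact (Submodule.Quotient.mk_eq_zero _).mp (hinj (h1.trans (map_zero _).symm))

end Groth.Agent.S1156
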