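import Groth.Statements.S1162
import Mathlib.AlgebraicGeometry.Morphisms.UniversallyInjective
import Mathlib.AlgebraicGeometry.Morphisms.UniversallyOpen
import Mathlib.AlgebraicGeometry.Morphisms.Separated
-- import your own Groth.Agent.* helpers here

set_option autoImplicit false
set_option backward.defeqAttrib.useBackward true
set_option backward.isDefEq.respectTransparency.types false
open CategoryTheory CategoryTheory.Limits AlgebraicGeometry Opposite
universe u
open Desc

namespace Groth.Agent.S1162

/-- Let f : X ⟶ Y be flat and separated. Write X⁰ for the generic points of the irreducible components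
of X. If for every ξ in X⁰ the residue field extension κ(f ξ) ⊆ κ(ξ) is trivial and f is injective
on X⁰, then f is universally injective. -/
theorem result {X Y : Scheme.{u}} (f : X ⟶ Y) [Flat f] [IsSeparated f]
    (h2 : ∀ ξ : X, closure ({ξ} : Set X) ∈ irreducibleComponents (X : Type u) →
      Function.Surjective (f.residueFieldMap ξ).hom)
    (h3 : Set.InjOn f.base {ξ : X | closure ({ξ} : Set X) ∈ irreducibleComponents (X : Type u)}) :
    UniversallyInjective f := by
  have gen : ∀ x : X, ∃ ξ : X, ξ ⤳ x ∧ closure ({ξ} : Set X) ∈ irreducibleComponents (X : Type u) := by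
    intro x
    obtain ⟨Z, hZ, hxZ⟩ := exists_mem_irreducibleComponents_subset_of_isIrreducible ({x} : Set X) isIrreducible_singleton
    have hcl := hZ.1.closure_genericPoint (isClosed_of_mem_irreducibleComponents _ hZ)
    refine ⟨hZ.1.genericPoint, ?_, by rw [hcl]; exact hZ⟩
    rw [specializes_iff_mem_closure, hcl]
    exact hxZ rfl
  have minimal : ∀ ξ η : X, closure ({ξ} : Set X) ∈ irreducibleComponents (X : Type u) → η ⤳ ξ → η = ξ := by
    intro ξ η hξ hη
    have h1 : closure ({ξ} : Set X) ⊆ closure {η} := specializes_iff_closure_subset.1 hη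
    have h2 := hξ.2 isIrreducible_singleton.closure h1
    exact (Specializes.antisymm hη (specializes_iff_closure_subset.2 h2)).eq
  rw [UniversallyInjective.iff_diagonal, surjective_iff]
  have hcl : IsClosed (Set.range (pullback.diagonal f).base) :=
    (IsClosedImmersion.base_closed (f := pullback.diagonal f)).isClosed_range
  intro z
  have g1 : GeneralizingMap (pullback.fst f f).base := Flat.generalizingMap _
  have g2 : GeneralizingMap (pullback.snd f f).base := Flat.generalizingMap _
  obtain ⟨ξ, hξs, hξ⟩ := gen ((pullback.fst f f).base z)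
  obtain ⟨z₁, hz₁, hz₁e⟩ := g1 hξs
  obtain ⟨η, hηs, hη⟩ := gen ((pullback.snd f f).base z₁)
  obtain ⟨z₂, hz₂, hz₂e⟩ := g2 hηs
  have hfst : (pullback.fst f f).base z₂ = ξ :=
    minimal ξ _ hξ (hz₁e ▸ hz₂.map (pullback.fst f f).continuous)
  suffices h : z₂ ∈ Set.range (pullback.diagonal f).base from
    (hz₂.trans hz₁).mem_closed hcl h
  let φ := (pullback f f).fromSpecResidueField z₂
  have hpt : ∀ (g : pullback f f ⟶ X), (φ ≫ g).base (IsLocalRing.closedPoint _) = g.base z₂ := fun g => by
    show g.base (φ.base _) = _
    rw [Scheme.fromSpecResidueField_apply]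
  have aux : ∀ (K : Type u) [Field K] (g₁ g₂ : Spec (.of K) ⟶ X), g₁ ≫ f = g₂ ≫ f →
      g₁ (IsLocalRing.closedPoint K) = g₂ (IsLocalRing.closedPoint K) →
      Function.Surjective (f.residueFieldMap (g₁ (IsLocalRing.closedPoint K))).hom → g₁ = g₂ := by
    intro K _ g₁ g₂ hg hpt' hsurj
    obtain ⟨e, h⟩ := Scheme.SpecToEquivOfField_eq_iff.mp congr((Y.SpecToEquivOfField K) $(hg))
    apply (X.SpecToEquivOfField K).injective
    dsimp at e h
    simp only [Scheme.descResidueField_stalkClosedPointTo_comp] at e h
    rw [← f.residueFieldMap_congr'_assoc hpt', CommRingCat.hom_ext_iff] at h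
    rw [Scheme.SpecToEquivOfField_eq_iff]
    refine ⟨hpt', CommRingCat.hom_ext (RingHom.ext fun a => ?_)⟩
    obtain ⟨b, rfl⟩ := hsurj a
    exact RingHom.congr_fun h b
  have key : φ ≫ pullback.fst f f = φ ≫ pullback.snd f f := by
    have hp : (pullback.fst f f).base z₂ = (pullback.snd f f).base z₂ := by
      rw [hfst, hz₂e]
      refine h3 hξ hη ?_
      rw [← hfst, ← hz₂e]
      exact congr_fun (congrArg (fun g : pullback f f ⟶ Y => (g.base : _ → _)) pullback.condition) z₂
    refine aux ((pullback f f).residueField z₂) _ _ (by simp [pullback.condition]) ?_ ?_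
    · exact (hpt _).trans (hp.trans (hpt _).symm)
    · refine h2 _ ?_
      rw [show (φ ≫ pullback.fst f f) (IsLocalRing.closedPoint _) = ξ from (hpt _).trans hfst]
      exact hξ
  have hφ₂ : φ = (φ ≫ pullback.fst f f) ≫ pullback.diagonal f := by
    ext1 <;> simp [key]
  refine ⟨(φ ≫ pullback.fst f f).base (IsLocalRing.closedPoint _), ?_⟩
  have := congr_fun (congrArg (fun g : _ ⟶ pullback f f => (g.base : _ → _)) hφ₂) (IsLocalRing.closedPoint _)
  exact this.symm.trans (Scheme.fromSpecResidueField_apply _ _)

end Groth.Agent.S1162
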