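import Groth.Statements.S1163
import Mathlib
-- import your own Groth.Agent.* helpers here

set_option autoImplicit false
open CategoryTheory CategoryTheory.Limits AlgebraicGeometry Opposite
universe u
open Desc

namespace Groth.Agent.S1163

open TensorProduct in
theorem flat_descend {A B C D : Type u} [CommRing A] [CommRing B] [CommRing C] [CommRing D]
    [IsLocalRing B] [IsLocalRing D] (α : A →+* B) (β : B →+* C) (γ : C →+* D)
    (hC : (β.comp α).Flat) (hD : (γ.comp β).Flat) (hloc : IsLocalHom (γ.comp β)) : α.Flat := by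
  algebraize [α, β.comp α, γ.comp β, (γ.comp β).comp α]
  haveI : IsLocalHom (algebraMap B D) := hloc
  haveI : Module.FaithfullyFlat B D := Module.FaithfullyFlat.of_flat_of_isLocalHom
  show Module.Flat A B
  rw [Module.Flat.iff_lTensor_injective']
  intro I
  rw [injective_iff_map_eq_zero]
  intro x hx
  let β' : B →ₗ[A] C := (AlgHom.mk β (fun a => rfl) : B →ₐ[A] C).toLinearMap
  let γ' : C →ₗ[A] D := (AlgHom.mk γ (fun a => rfl) : C →ₐ[A] D).toLinearMap
  have h1 : β'.rTensor I x = 0 := by
    apply Module.Flat.lTensor_preserves_injective_linearMap (M := C) I.subtype Subtype.val_injective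
    rw [map_zero, ← LinearMap.comp_apply, LinearMap.lTensor_comp_rTensor, ← LinearMap.rTensor_comp_lTensor,
      LinearMap.comp_apply, hx, map_zero]
  have h2 : (γ' ∘ₗ β').rTensor I x = 0 := by
    rw [LinearMap.rTensor_comp, LinearMap.comp_apply, h1, map_zero]
  have h3 : ∀ z : B ⊗[A] I, (AlgebraTensorModule.cancelBaseChange A B B D I)
      (((1 : D) ⊗ₜ[B] z)) = (γ' ∘ₗ β').rTensor I z := by
    intro z
    induction z using TensorProduct.induction_on with
    | zero => simp
    | tmul b i =>
      rw [AlgebraTensorModule.cancelBaseChange_tmul, LinearMap.rTensor_tmul]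
      congr 1
      rw [Algebra.smul_def, mul_one]; rfl
    | add a b ha hb => rw [tmul_add, map_add, map_add, ha, hb]
  have h4 : (1 : D) ⊗ₜ[B] x = 0 := by
    apply (AlgebraTensorModule.cancelBaseChange A B B D I).injective
    rw [h3, h2, map_zero]
  exact Module.FaithfullyFlat.tensorProduct_mk_injective (A := B) (B := D) (B ⊗[A] I) (by simpa using h4)

/-- The case P = flat, single fppf cover: Let f : X ⟶ Y and q : Y ⟶ Z be morphisms of schemes, and
suppose there is a flat, surjective morphism g : Y' ⟶ Y locally of finite presentation which factors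
through f. If f ≫ q is flat, then q is flat. -/
theorem result {X Y Z Y' : Scheme.{u}} (f : X ⟶ Y) (q : Y ⟶ Z) (g : Y' ⟶ Y) [Flat g] [Surjective g]
    [LocallyOfFinitePresentation g] (l : Y' ⟶ X) (hl : l ≫ f = g) [Flat (f ≫ q)] : Flat q := by
  refine Flat.iff_flat_stalkMap q |>.mpr fun y => ?_
  obtain ⟨y', rfl⟩ := g.surjective y
  subst hl
  have hfq : ((f ≫ q).stalkMap (l y')).hom.Flat := Flat.stalkMap (f ≫ q) (l y')
  have hg : ((l ≫ f).stalkMap y').hom.Flat := Flat.stalkMap (l ≫ f) y'
  have hloc : IsLocalHom ((l ≫ f).stalkMap y').hom := inferInstance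
  rw [Scheme.Hom.stalkMap_comp] at hfq hg hloc
  exact flat_descend _ (f.stalkMap (l y')).hom (l.stalkMap y').hom hfq hg hloc

end Groth.Agent.S1163
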