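import Groth.Statements.S1180
import Groth.Agent.AlgSpTopo.SourceScheme

set_option autoImplicit false
open CategoryTheory CategoryTheory.Limits AlgebraicGeometry Opposite
universe u
open Desc

namespace Groth.Agent.S1180

/-- Let f : X' ⟶ X be étale and surjective and g : X ⟶ Y a morphism such that the composite f ≫ g : X' ⟶
Y is unramified, i.e. formally unramified and locally of finite type. Then g is formally unramified
and locally of finite type. (Being unramified can be checked after precomposing with an étale
surjection; single-cover form.) -/
theorem result {X' X Y : Scheme.{u}} (f : X' ⟶ X) (g : X ⟶ Y) [Etale f] [Surjective f]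
    [FormallyUnramified (f ≫ g)] [LocallyOfFiniteType (f ≫ g)] : FormallyUnramified g ∧ LocallyOfFiniteType g := by
  exact ⟨AlgSpTopo.etaleLocal_formallyUnramified.descend f g ‹_› ‹_› ‹_›,
    AlgSpTopo.etaleLocal_locallyOfFiniteType.descend f g ‹_› ‹_› ‹_›⟩

end Groth.Agent.S1180
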