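import Groth.Statements.S2124
import Groth.Agent.Alg.CompletionExact
import Mathlib.RingTheory.AdicCompletion.AsTensorProduct
import Mathlib.LinearAlgebra.TensorProduct.Finiteness

set_option autoImplicit false
universe u
open CAlg

namespace Groth.Agent.S2124


open Groth.Agent.Alg.CompletionExact TensorProduct

variable {R : Type u} [CommRing R]

lemma smul_of_eq_map (I : Ideal R) {Q : Type u} [AddCommGroup Q] [Module R Q] (r : AdicCompletion I R) (e : Q) :
    r • AdicCompletion.of I Q e = AdicCompletion.map I (LinearMap.toSpanSingleton R Q e) r := by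
  apply AdicCompletion.induction_on I R r (fun a => ?_)
  refine AdicCompletion.ext fun n => ?_
  simp
  rfl

lemma key [IsNoetherianRing R] (I : Ideal R) (α : Type u) {Q : Type u} [AddCommGroup Q] [Module R Q]
    [Module.Finite R Q] (x : AdicCompletion I (α →₀ R) ⊗[R] Q)
    (hx : ∀ t : α, LinearMap.rTensor Q ((AdicCompletion.map I (Finsupp.lapply t : (α →₀ R) →ₗ[R] R)).restrictScalars R) x = 0) :
    x = 0 := by
  classical
  obtain ⟨q, π, hπ⟩ := Module.Finite.exists_fin' R Q
  obtain ⟨p, ψ, hψ⟩ := Module.Finite.exists_fin' R (LinearMap.ker π)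
  let ψ' : (Fin p → R) →ₗ[R] (Fin q → R) := (LinearMap.ker π).subtype ∘ₗ ψ
  have hex : Function.Exact ψ' π := by
    rw [LinearMap.exact_iff]; simp [ψ', LinearMap.range_comp, LinearMap.range_eq_top.mpr hψ]
  have hexα : Function.Exact (Finsupp.mapRange.linearMap (α := α) ψ')
      (Finsupp.mapRange.linearMap (α := α) π) := by
    refine LinearMap.exact_of_comp_eq_zero_of_ker_le_range ?_ fun y hy => ?_
    · exact LinearMap.ext fun z => Finsupp.ext fun t => by simp [hex.apply_apply_eq_zero]
    · have ht : ∀ t, ∃ w, ψ' w = y t := fun t => (hex _).mp (by simpa using DFunLike.congr_fun hy t)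
      choose w hw using ht
      refine ⟨∑ t ∈ y.support, Finsupp.single t (w t), ?_⟩
      conv_rhs => rw [← Finsupp.sum_single y]
      simp [Finsupp.sum, hw, _root_.map_sum]
  have hexC := map_exact_of_hasAR I hexα (hasAR_mapRange I α (hasAR_of_finite I ψ'))
    (hasAR_mapRange I α (hasAR_of_finite I π))
  -- write `x` on the standard generators
  obtain ⟨X, rfl⟩ := LinearMap.lTensor_surjective (AdicCompletion I (α →₀ R)) hπ x
  obtain ⟨xs, rfl⟩ : ∃ xs : Fin q → AdicCompletion I (α →₀ R),
      X = ∑ i, xs i ⊗ₜ[R] (Pi.single i 1 : Fin q → R) := by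
    refine ⟨TensorProduct.piScalarRight R R _ (Fin q) X, ?_⟩
    apply (TensorProduct.piScalarRight R R _ (Fin q)).injective
    ext j
    simp [_root_.map_sum, Finset.sum_apply, Pi.single_apply]
  choose a ha using fun i => AdicCompletion.mk_surjective I (α →₀ R) (xs i)
  let ι (i : Fin q) := Finsupp.mapRange.linearMap (α := α) (LinearMap.single R (fun _ => R) i)
  have hX : AdicCompletion.map I (Finsupp.mapRange.linearMap (α := α) π)
      (∑ i, AdicCompletion.map I (ι i) (xs i)) = 0 := by
    refine AdicCompletion.ext fun n => ?_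
    suffices h : ∀ t, ∑ i, (a i n) t • π (Pi.single i 1) ∈ (I ^ n • ⊤ : Submodule R Q) by
      have hmem : Finsupp.mapRange.linearMap (α := α) π (∑ i, ι i (a i n)) ∈
          (I ^ n • ⊤ : Submodule R (α →₀ Q)) := by
        rw [← Finsupp.sum_single (Finsupp.mapRange.linearMap (α := α) π (∑ i, ι i (a i n)))]
        refine Submodule.sum_mem _ fun t _ => ?_
        have h2 := Submodule.mem_map_of_mem (f := Finsupp.lsingle (R := R) (M := Q) t) (h t)
        rw [Submodule.map_smul''] at h2
        have h3 := Submodule.smul_mono le_rfl le_top h2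
        convert h3 using 1
        simp only [Finsupp.mapRange.linearMap_apply, Finsupp.mapRange_apply, Finsupp.finsetSum_apply,
          _root_.map_sum, Finsupp.lsingle_apply, ← _root_.map_smul]
        simp [ι, ← Pi.single_smul', Finsupp.single_finsetSum]
      simpa [← ha, _root_.map_sum, AdicCompletion.val_sum_apply, ← Submodule.mkQ_apply] using
        (Submodule.Quotient.mk_eq_zero _).mpr hmem
    intro t
    have h := congrArg (AdicCompletion.ofTensorProduct I Q) (hx t)
    simp only [_root_.map_sum, LinearMap.lTensor_tmul, LinearMap.rTensor_tmul, map_zero,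
      LinearMap.restrictScalars_apply, AdicCompletion.ofTensorProduct_tmul, smul_of_eq_map] at h
    have h2 := congrArg (fun y : AdicCompletion I Q => y.val n) h
    simp only [← ha, AdicCompletion.val_sum_apply, AdicCompletion.map_mk] at h2
    rw [← Submodule.Quotient.mk_eq_zero]
    simpa [← Submodule.mkQ_apply, _root_.map_sum] using h2
  obtain ⟨Z, hZ⟩ := (hexC _).mp hX
  let πc (j : Fin p) := Finsupp.mapRange.linearMap (α := α) (LinearMap.proj (R := R) (φ := fun _ : Fin p => R) j)
  have hxs : ∀ i, xs i = ∑ j, ψ' (Pi.single j 1) i • AdicCompletion.map I (πc j) Z := by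
    intro i
    let π' := Finsupp.mapRange.linearMap (α := α) (LinearMap.proj (R := R) (φ := fun _ : Fin q => R) i)
    have h1 : AdicCompletion.map I π' (∑ i, AdicCompletion.map I (ι i) (xs i)) = xs i := by
      simp only [_root_.map_sum, AdicCompletion.map_comp_apply]
      rw [Finset.sum_eq_single i]
      · have : π' ∘ₗ ι i = LinearMap.id := LinearMap.ext fun z => Finsupp.ext fun t => by
          simp [π', ι]
        rw [this, AdicCompletion.map_id]; rfl
      · intro j _ hj
        have : π' ∘ₗ ι j = 0 := LinearMap.ext fun z => Finsupp.ext fun t => by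
          simp [π', ι, Pi.single_eq_of_ne (Ne.symm hj)]
        rw [this, AdicCompletion.map_zero]; rfl
      · simp
    rw [← h1, ← hZ, AdicCompletion.map_comp_apply]
    have h2 : π' ∘ₗ Finsupp.mapRange.linearMap (α := α) ψ' = ∑ j, (ψ' (Pi.single j 1) i) • πc j := by
      refine LinearMap.ext fun z => Finsupp.ext fun t => ?_
      have hz : z t = ∑ j, z t j • (Pi.single j 1 : Fin p → R) := pi_eq_sum_univ' (z t)
      simp only [LinearMap.comp_apply, LinearMap.sum_apply, Finsupp.finsetSum_apply]
      simp only [π', πc, LinearMap.smul_apply, Finsupp.smul_apply, Finsupp.mapRange.linearMap_apply,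
        Finsupp.mapRange_apply, LinearMap.proj_apply]
      conv_lhs => rw [hz]
      simp [_root_.map_sum, mul_comm]
    rw [h2, Alg.CompletionExact.map_sum]
    simp only [Alg.CompletionExact.map_smul]
  rw [_root_.map_sum]
  simp only [hxs, TensorProduct.sum_tmul, TensorProduct.smul_tmul, _root_.map_sum, LinearMap.lTensor_tmul]
  rw [Finset.sum_comm]
  refine Finset.sum_eq_zero fun j _ => ?_
  rw [← TensorProduct.tmul_sum]
  have h0 : ∑ a, π (ψ' (Pi.single j 1) a • Pi.single a 1) = 0 := by
    rw [← _root_.map_sum, ← pi_eq_sum_univ' (ψ' (Pi.single j 1))]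
    exact hex.apply_apply_eq_zero _
  rw [h0, TensorProduct.tmul_zero]

/-- Let `R` be Noetherian and `I`-adically complete and `α` any index set. The map from the `I`-adic
completion of the direct sum `⊕_α R` to the product `∏_α R^∧ = ∏_α R`, induced by the coordinate
projections, is universally injective. -/
theorem result {R : Type u} [CommRing R] [IsNoetherianRing R] (I : Ideal R)
    [IsAdicComplete I R] (α : Type u) :
    CAlgX.UniversallyInjective R
      (LinearMap.pi fun a : α => AdicCompletion.map I (Finsupp.lapply a : (α →₀ R) →ₗ[R] R) :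
        AdicCompletion I (α →₀ R) →ₗ[R] (α → AdicCompletion I R)) := by
  intro Q _ _
  rw [injective_iff_map_eq_zero]
  intro x hx
  obtain ⟨Q₀, hfin, h⟩ := TensorProduct.exists_finite_submodule_right_of_setFinite {x} (Set.finite_singleton x)
  obtain ⟨x₀, rfl⟩ := h rfl
  suffices x₀ = 0 by rw [this, map_zero]
  refine key I α x₀ fun t => ?_
  apply Module.Flat.lTensor_preserves_injective_linearMap (M := AdicCompletion I R) Q₀.subtype
    Q₀.injective_subtype
  rw [map_zero]
  have h1 := congrArg (LinearMap.rTensor Q (LinearMap.proj (R := R) (φ := fun _ : α => AdicCompletion I R) t)) hx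
  rw [map_zero] at h1
  refine Eq.trans ?_ h1
  simp only [← LinearMap.comp_apply, LinearMap.lTensor_comp_rTensor, LinearMap.rTensor_comp_lTensor,
    ← LinearMap.rTensor_comp, LinearMap.rTensor_comp_map]
  rfl

end Groth.Agent.S2124
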