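import Groth.Statements.S6347
import Mathlib.LinearAlgebra.TensorProduct.Pi
import Mathlib.LinearAlgebra.TensorProduct.RightExactness
import Mathlib.LinearAlgebra.TensorProduct.Finiteness
import Mathlib.RingTheory.Flat.Basic
import Mathlib.RingTheory.Noetherian.Basic
import Mathlib.RingTheory.Finiteness.Cardinality

set_option autoImplicit false
universe u
open CAlg

namespace Groth.Agent.S6347

open TensorProduct

variable (R : Type u) [CommRing R] (A : Type u)

/-- `N ⊗ R^A → N^A`. -/
noncomputable abbrev phi (N : Type u) [AddCommGroup N] [Module R N] : N ⊗[R] (A → R) →ₗ[R] A → N :=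
  piScalarRightHom R R N A

theorem phi_natural {N P : Type u} [AddCommGroup N] [Module R N] [AddCommGroup P] [Module R P] (g : N →ₗ[R] P)
    (z : N ⊗[R] (A → R)) : phi R A P (g.rTensor _ z) = fun a => g (phi R A N z a) := by
  induction z using TensorProduct.induction_on with
  | zero => funext a; simp
  | add x y hx hy => funext a; simp [hx, hy]
  | tmul x f => funext a; simp [phi]

theorem phi_free_injective (n : ℕ) : Function.Injective (phi R A (Fin n → R)) := by
  have h : ∀ z : (Fin n → R) ⊗[R] (A → R),
      z = ∑ i, (Pi.single i (1 : R) : Fin n → R) ⊗ₜ[R] (fun a => phi R A _ z a i) := by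
    intro z
    induction z using TensorProduct.induction_on with
    | zero =>
      simp only [map_zero, Pi.zero_apply]
      exact (Finset.sum_eq_zero fun i _ => TensorProduct.tmul_zero _ _).symm
    | add x y hx hy =>
      conv_lhs => rw [hx, hy, ← Finset.sum_add_distrib]
      refine Finset.sum_congr rfl fun i _ => ?_
      rw [← TensorProduct.tmul_add, map_add]
      rfl
    | tmul x f =>
      conv_lhs => rw [show x = ∑ i, x i • (Pi.single i (1 : R) : Fin n → R) from (pi_eq_sum_univ' x), TensorProduct.sum_tmul]
      refine Finset.sum_congr rfl fun i _ => ?_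
      rw [TensorProduct.smul_tmul]
      congr 1
      funext a
      simp [phi, mul_comm]
  intro x y hxy
  rw [h x, h y, hxy]

theorem phi_surjective (N : Type u) [AddCommGroup N] [Module R N] [Module.Finite R N] :
    Function.Surjective (phi R A N) := by
  intro f
  obtain ⟨n, g, hg⟩ := Module.Finite.exists_fin' R N
  choose c hc using fun a => hg (f a)
  refine ⟨∑ i, g (Pi.single i 1) ⊗ₜ[R] (fun a => c a i), funext fun a => ?_⟩
  rw [map_sum, Finset.sum_apply, ← hc a]
  conv_rhs => rw [pi_eq_sum_univ' (c a), map_sum]
  refine Finset.sum_congr rfl fun i _ => ?_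
  simp [phi]

theorem phi_injective [IsNoetherianRing R] (N : Type u) [AddCommGroup N] [Module R N] :
    Function.Injective (phi R A N) := by
  have hfin : ∀ (N : Type u) [AddCommGroup N] [Module R N] [Module.Finite R N],
      Function.Injective (phi R A N) := by
    intro N _ _ _
    obtain ⟨n, g, hg⟩ := Module.Finite.exists_fin' R N
    refine (injective_iff_map_eq_zero _).mpr fun z hz => ?_
    obtain ⟨w, rfl⟩ := LinearMap.rTensor_surjective (A → R) hg z
    rw [phi_natural] at hz
    obtain ⟨k, hk⟩ := phi_surjective R A (LinearMap.ker g) fun a => ⟨phi R A _ w a, congr_fun hz a⟩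
    have hw : (LinearMap.ker g).subtype.rTensor _ k = w := phi_free_injective R A n <| by
      rw [phi_natural, hk]
      rfl
    rw [← hw, ← LinearMap.rTensor_comp_apply, LinearMap.comp_ker_subtype]
    simp
  refine (injective_iff_map_eq_zero _).mpr fun z hz => ?_
  obtain ⟨N', hN', hzN⟩ := TensorProduct.exists_finite_submodule_left_of_setFinite {z} (Set.finite_singleton z)
  obtain ⟨w, rfl⟩ := hzN rfl
  haveI : Module.Finite R N' := hN'
  rw [phi_natural] at hz
  rw [hfin N' (a₁ := w) (a₂ := 0) (by rw [map_zero]; exact funext fun a => Subtype.ext (congr_fun hz a)), map_zero]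

theorem flat_pi [IsNoetherianRing R] : Module.Flat R (A → R) := by
  refine Module.Flat.iff_rTensor_preserves_injective_linearMap.mpr fun N P _ _ _ _ g hg => ?_
  intro x y hxy
  apply phi_injective R A N
  funext a
  apply hg
  rw [← congr_fun (phi_natural R A g x) a, ← congr_fun (phi_natural R A g y) a, hxy]

theorem mittagLeffler_pi [IsNoetherianRing R] : CAlg.IsMittagLeffler R (A → R) := by
  intro ι Q _ _ x y hxy
  have h : ∀ (z : (A → R) ⊗[R] (∀ i, Q i)) a i,
      phi R A _ (TensorProduct.comm R _ _ z) a i =
        phi R A _ (TensorProduct.comm R _ _ (piRightHom R R (A → R) Q z i)) a := by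
    intro z a i
    induction z using TensorProduct.induction_on with
    | zero => simp
    | add p q hp hq => simp [hp, hq]
    | tmul f q => simp [phi]
  apply (TensorProduct.comm R _ _).injective
  apply phi_injective R A
  funext a i
  rw [h, h, hxy]

/-- Over a Noetherian ring R, the product module R^A (functions from any set A to R) is flat and
Mittag-Leffler. -/
theorem result (R : Type u) [CommRing R] [IsNoetherianRing R]
    (A : Type u) : Module.Flat R (A → R) ∧ CAlg.IsMittagLeffler R (A → R) := by
  exact ⟨flat_pi R A, mittagLeffler_pi R A⟩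

end Groth.Agent.S6347
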