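import Groth.Statements.S1198
import Groth.Agent.Alg.CompletionSplit
import Groth.Agent.S1197
import Groth.Agent.ML.Module

set_option autoImplicit false
universe u
open FlatMor

namespace Groth.Agent.S1198

/-- Let R be a Noetherian ring complete with respect to an ideal I and M a flat R-module whose reduction
M/IM is projective over R/I. Then M's I-adic completion is a flat and Mittag-Leffler R-module. -/
theorem result (R : Type u) [CommRing R] [IsNoetherianRing R] (I : Ideal R) [IsAdicComplete I R]
    (M : Type u) [AddCommGroup M] [Module R M] [Module.Flat R M]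
    [Module.Projective (R ⧸ I) (M ⧸ (I • ⊤ : Submodule R M))] :
    Module.Flat R (AdicCompletion I M) ∧ CAlg.IsMittagLeffler R (AdicCompletion I M) := by
  let π : (M →₀ R) →ₗ[R] M := Finsupp.linearCombination R id
  have hπ : Function.Surjective π := Finsupp.linearCombination_id_surjective R M
  have hex : Function.Exact (LinearMap.ker π).subtype π := LinearMap.exact_subtype_ker_map π
  obtain ⟨s, hs⟩ := Alg.CompletionSplit.exists_section (K := LinearMap.ker π) (P := M →₀ R) (M := M) I
    (LinearMap.ker π).subtype π hex hπ
  let s' : AdicCompletion I M →ₗ[R] AdicCompletion I (M →₀ R) := s.restrictScalars R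
  let p : AdicCompletion I (M →₀ R) →ₗ[R] AdicCompletion I M := (AdicCompletion.map I π).restrictScalars R
  have hps : p ∘ₗ s' = LinearMap.id := LinearMap.ext fun x => LinearMap.congr_fun hs x
  obtain ⟨hF, hML⟩ := Groth.Agent.S1197.result R I M
  refine ⟨Module.Flat.of_retract s' p hps, ML.Module.of_universallyInjective s' ?_ hML⟩
  intro Q _ _
  exact Function.LeftInverse.injective (g := p.rTensor Q) fun x => by
    rw [← LinearMap.comp_apply, ← LinearMap.rTensor_comp, hps, LinearMap.rTensor_id, LinearMap.id_apply]

end Groth.Agent.S1198
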