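import Groth.Statements.S12058
import Mathlib.Algebra.Homology.DerivedCategory.Ext.ExtClass
import Mathlib.Algebra.Homology.DerivedCategory.Ext.ExactSequences
import Mathlib.CategoryTheory.Abelian.Basic

set_option autoImplicit false
universe w v u
open CategoryTheory CategoryTheory.Limits CategoryTheory.Abelian
open SGA3

namespace Groth.Agent.S12058

/-- In an abelian category, let 0 → A' → A → A'' → 0 be a short exact sequence, φ : A' ⟶ Q a morphism
and π : A'' ⟶ P an epimorphism with kernel C. Consider the quadruples (B, f, g, h) with 0 → Q → B →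
P → 0 short exact (maps f, g) and h : A ⟶ B such that the squares commute: (A' → A → B) = (A' → Q →
B) and (A → B → P) = (A → A'' → P). Such a quadruple exists if and only if the image in Ext¹(C, Q)
of the class of the given extension in Ext¹(A'', A') (push forward along φ, pull back along the
inclusion C → A'') is zero. -/
theorem result {C : Type u} [Category.{v} C] [Abelian C]
    [HasExt.{w} C] {S : ShortComplex C} (hS : S.ShortExact) {Q P : C} (φ : S.X₁ ⟶ Q) (π : S.X₃ ⟶ P) [Epi π] :
    (∃ (B : C) (f : Q ⟶ B) (g : B ⟶ P) (h : S.X₂ ⟶ B) (w : f ≫ g = 0),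
        (ShortComplex.mk f g w).ShortExact ∧ S.f ≫ h = φ ≫ f ∧ h ≫ g = S.g ≫ π) ↔
      (Ext.mk₀ (kernel.ι π)).comp (hS.extClass.comp (Ext.mk₀ φ) (add_zero 1)) (zero_add 1) = 0 := by
  constructor
  · rintro ⟨B, f, g, h, w, hT, h1, h2⟩
    have hnat := ShortComplex.ShortExact.extClass_naturality (f :=
      ({ τ₁ := φ, τ₂ := h, τ₃ := π, comm₁₂ := h1.symm, comm₂₃ := h2 } : S ⟶ ShortComplex.mk f g w)) hS hT
    rw [hnat, ← Ext.comp_assoc (Ext.mk₀ (kernel.ι π)) _ _ (zero_add 0) (zero_add 1) (by omega),
      Ext.mk₀_comp_mk₀, kernel.condition, Ext.mk₀_zero, Ext.zero_comp]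
  · intro h0
    have := hS.mono_f
    have := hS.epi_g
    let E := Limits.pushout S.f φ
    let f' : Q ⟶ E := pushout.inr S.f φ
    let g' : E ⟶ S.X₃ := pushout.desc S.g 0 (by simp)
    have w' : f' ≫ g' = 0 := pushout.inr_desc _ _ _
    have hinl : pushout.inl S.f φ ≫ g' = S.g := pushout.inl_desc _ _ _
    have : Epi g' := epi_of_epi_fac hinl
    have hT : (ShortComplex.mk f' g' w').ShortExact :=
      { exact := ShortComplex.exact_of_g_is_cokernel _ (CokernelCofork.IsColimit.ofπ _ _
          (fun t ht => hS.gIsCokernel.desc (CokernelCofork.ofπ (pushout.inl S.f φ ≫ t)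
            (by rw [pushout.condition_assoc]; exact (congrArg (φ ≫ ·) ht).trans comp_zero)))
          (fun t ht => by
            refine pushout.hom_ext ?_ ?_
            · rw [reassoc_of% hinl]
              exact hS.gIsCokernel.fac _ WalkingParallelPair.one
            · rw [reassoc_of% w', zero_comp]
              exact ht.symm)
          (fun t ht b hb => by
            rw [← cancel_epi S.g]
            have hfac := hS.gIsCokernel.fac (CokernelCofork.ofπ (pushout.inl S.f φ ≫ t)
              (by rw [pushout.condition_assoc]; exact (congrArg (φ ≫ ·) ht).trans comp_zero)) WalkingParallelPair.one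
            refine Eq.trans ?_ hfac.symm
            show S.g ≫ b = pushout.inl S.f φ ≫ t
            rw [← hb, reassoc_of% hinl]))
        mono_f := inferInstanceAs (Mono (pushout.inr S.f φ))
        epi_g := this }
    have hnat := ShortComplex.ShortExact.extClass_naturality (f :=
      ({ τ₁ := φ, τ₂ := pushout.inl S.f φ, τ₃ := 𝟙 _, comm₁₂ := (pushout.condition).symm, comm₂₃ := by simpa using hinl } :
        S ⟶ ShortComplex.mk f' g' w')) hS hT
    rw [hnat, Ext.mk₀_id_comp] at h0
    obtain ⟨s₀, hs⟩ := Ext.covariant_sequence_exact₃ (kernel π) hT (Ext.mk₀ (kernel.ι π)) (zero_add 1) h0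
    obtain ⟨s, rfl⟩ := Ext.homEquiv₀.symm.surjective s₀
    have hs' : s ≫ g' = kernel.ι π := Ext.homEquiv₀.symm.injective (by simpa [Ext.homEquiv₀] using hs)
    have : Mono s := mono_of_mono_fac hs'
    let g : cokernel s ⟶ P := cokernel.desc s (g' ≫ π) (by rw [reassoc_of% hs', kernel.condition])
    have hg : cokernel.π s ≫ g = g' ≫ π := cokernel.π_desc _ _ _
    have : Epi g := by
      have : Epi (cokernel.π s ≫ g) := by rw [hg]; infer_instance
      exact epi_of_epi (cokernel.π s) g
    have w : (f' ≫ cokernel.π s) ≫ g = 0 := by rw [Category.assoc, hg, reassoc_of% w', zero_comp]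
    refine ⟨cokernel s, f' ≫ cokernel.π s, g, pushout.inl S.f φ ≫ cokernel.π s, w, ?_, ?_, ?_⟩
    · exact
      { mono_f := by
          refine Preadditive.mono_of_cancel_zero _ fun {Z} x hx => ?_
          have hy := Abelian.monoLift_comp s (x ≫ f') (by rw [Category.assoc]; exact hx)
          have hy0 : Abelian.monoLift s (x ≫ f') (by rw [Category.assoc]; exact hx) = 0 := by
            rw [← cancel_mono (kernel.ι π), zero_comp, ← hs', reassoc_of% hy, w', comp_zero]
          rw [hy0, zero_comp] at hy
          have : Mono f' := hT.mono_f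
          exact zero_of_comp_mono f' hy.symm
        epi_g := this
        exact := by
          refine ShortComplex.exact_of_g_is_cokernel _ (CokernelCofork.IsColimit.ofπ' _ _ fun {Z} t ht => ?_)
          have : Epi g' := hT.epi_g
          let u := hT.gIsCokernel.desc (CokernelCofork.ofπ (cokernel.π s ≫ t) (by simpa using ht))
          have hu : g' ≫ u = cokernel.π s ≫ t := hT.gIsCokernel.fac _ WalkingParallelPair.one
          have hu0 : kernel.ι π ≫ u = 0 := by
            simp only [← hs', Category.assoc, hu, cokernel.condition_assoc, zero_comp]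
          refine ⟨Abelian.epiDesc π u hu0, ?_⟩
          rw [← cancel_epi (cokernel.π s), reassoc_of% hg, Abelian.comp_epiDesc, hu] }
    · rw [← pushout.condition_assoc]
    · rw [Category.assoc, hg, reassoc_of% hinl]

end Groth.Agent.S12058
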