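import Groth.Statements.S12059
import Groth.Agent.SGA1Q.Glue

set_option autoImplicit false
universe u
open CategoryTheory CategoryTheory.Limits AlgebraicGeometry
open SGA1

namespace Groth.Agent.S12059

/-- Let a finite group G act on a commutative ring A by ring automorphisms σ_g, and let B → A be
injective, G-equivariant for the trivial action on B, with image containing all G-invariants (so B
is the ring of invariants A^G). Let ρ be an action of G on Spec A by scheme automorphisms whose
automorphisms are exactly the maps Spec(σ_g). Then Spec A ⟶ Spec B is a quotient of Spec A by G, and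
the structure sheaf of Spec B is the sheaf of G-invariants of the direct image of the structure
sheaf of Spec A: the map is affine and G-invariant, and for every open U of Spec B the sections of
the structure sheaf of Spec B over U map injectively onto the G-invariant sections of the structure
sheaf of Spec A over the inverse image of U. -/
theorem result (G : Type u) [Group G] [Finite G] (A B : Type u) [CommRing A] [CommRing B]
    [Algebra B A] [MulSemiringAction G A] [SMulCommClass G B A] [Algebra.IsInvariant B A G] [FaithfulSMul B A]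
    (ρ : G →* Aut (Spec (CommRingCat.of A)))
    (hρ : Set.range (fun g : G => (ρ g).hom) =
      Set.range (fun g : G => Spec.map (CommRingCat.ofHom (MulSemiringAction.toRingHom G A g)))) :
    SGA1.IsQuot ρ (Spec.map (CommRingCat.ofHom (algebraMap B A))) := by
  have hnat : ∀ (R R' : CommRingCat.{u}) (f : R ⟶ R'), (Spec.map f).appTop = (Scheme.ΓSpecIso R).hom ≫ f ≫ (Scheme.ΓSpecIso R').inv :=
    fun R R' f => by rw [← Category.assoc, Iso.eq_comp_inv, Scheme.ΓSpecIso_naturality f]
  have hσ : ∀ g : G, ∃ k : G, (ρ g).hom = Spec.map (CommRingCat.ofHom (MulSemiringAction.toRingHom G A k)) :=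
    fun g => (hρ.le ⟨g, rfl⟩).imp fun k h => h.symm
  refine (SGA1Q.AffineQ.main (fun g => ?_) ?_ fun a ha => ?_).2
  · obtain ⟨k, hk⟩ := hσ g
    rw [hk, ← Spec.map_comp]
    congr 1
    apply CommRingCat.hom_ext
    ext b
    exact smul_algebraMap k b
  · rw [hnat]
    simp only [CommRingCat.hom_comp, RingHom.coe_comp]
    exact ((Scheme.ΓSpecIso (CommRingCat.of A)).commRingCatIsoToRingEquiv.symm.injective.comp
      (FaithfulSMul.algebraMap_injective B A)).comp (Scheme.ΓSpecIso (CommRingCat.of B)).commRingCatIsoToRingEquiv.injective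
  · let a' : A := (Scheme.ΓSpecIso (CommRingCat.of A)).hom.hom a
    have hfix : ∀ k : G, k • a' = a' := by
      intro k
      obtain ⟨g, hg⟩ := hρ.ge ⟨k, rfl⟩
      have h1 := ha g
      rw [show (ρ g).hom = _ from hg, hnat] at h1
      have h2 := congrArg (Scheme.ΓSpecIso (CommRingCat.of A)).hom.hom h1
      exact ((Scheme.ΓSpecIso (CommRingCat.of A)).commRingCatIsoToRingEquiv.apply_symm_apply _).symm.trans h2
    obtain ⟨b, hb⟩ := Algebra.IsInvariant.isInvariant (A := B) a' hfix
    refine ⟨(Scheme.ΓSpecIso (CommRingCat.of B)).inv.hom b, ?_⟩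
    rw [hnat]
    show (Scheme.ΓSpecIso (CommRingCat.of A)).inv.hom (algebraMap B A ((Scheme.ΓSpecIso (CommRingCat.of B)).hom.hom
      ((Scheme.ΓSpecIso (CommRingCat.of B)).inv.hom b))) = a
    rw [show (Scheme.ΓSpecIso (CommRingCat.of B)).hom.hom ((Scheme.ΓSpecIso (CommRingCat.of B)).inv.hom b) = b from
      (Scheme.ΓSpecIso (CommRingCat.of B)).commRingCatIsoToRingEquiv.apply_symm_apply b, hb]
    exact (Scheme.ΓSpecIso (CommRingCat.of A)).commRingCatIsoToRingEquiv.symm_apply_apply a

end Groth.Agent.S12059
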