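import Groth.Statements.S1206
import Mathlib

set_option autoImplicit false
universe u
open FlatMor

namespace Groth.Agent.S1206

/-- Let A be a local domain which is not a field and 𝒮 a set of finitely generated ideals of A, closed
under products, such that the union of the closed sets V(I), I ∈ 𝒮, is exactly the set of nonzero
primes (every nonzero prime contains a member of 𝒮 and no member is zero). Then the intersection of
all members of 𝒮 is zero. -/
theorem result (A : Type u) [CommRing A] [IsDomain A] [IsLocalRing A] (hA : ¬ IsField A)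
    (𝒮 : Set (Ideal A)) (hfg : ∀ I ∈ 𝒮, I.FG) (hmul : ∀ I ∈ 𝒮, ∀ J ∈ 𝒮, I * J ∈ 𝒮)
    (hne : ∀ I ∈ 𝒮, I ≠ ⊥) (hcov : ∀ (p : Ideal A), p.IsPrime → p ≠ ⊥ → ∃ I ∈ 𝒮, I ≤ p) :
    sInf 𝒮 = ⊥ := by
  classical
  rw [eq_bot_iff]
  intro a ha
  rw [Ideal.mem_bot]
  by_contra ha0
  have ha' : ∀ I ∈ 𝒮, a ∈ I := fun I hI => Ideal.mem_sInf.mp ha hI
  have hpow : ∀ I ∈ 𝒮, ∀ n, I ^ (n + 1) ∈ 𝒮 := by
    intro I hI n
    induction n with
    | zero => rwa [zero_add, pow_one]
    | succ n ih => rw [pow_succ]; exact hmul _ ih _ hI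
  have hne' : IsLocalRing.maximalIdeal A ≠ ⊥ := fun h =>
    hA (IsLocalRing.isField_iff_maximalIdeal_eq.mpr h)
  obtain ⟨I₀, hI₀, hI₀m⟩ := hcov _ (IsLocalRing.maximalIdeal.isMaximal A).isPrime hne'
  obtain ⟨I, hI, hrad⟩ : ∃ I ∈ 𝒮, I ≤ (Ideal.span {a}).radical := by
    by_contra hcon
    push Not at hcon
    let T : Set (Ideal A) := {J | a ∈ J ∧ ∀ K ∈ 𝒮, ¬ K ≤ J.radical}
    have hT : Ideal.span {a} ∈ T := ⟨Ideal.mem_span_singleton_self a, hcon⟩
    obtain ⟨P, -, hP⟩ := zorn_le_nonempty₀ T (fun c hc hchain y hy => by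
      refine ⟨sSup c, ⟨le_sSup hy (hc hy).1, fun K hK hle => ?_⟩, fun z hz => le_sSup hz⟩
      obtain ⟨n, hn⟩ := Ideal.exists_pow_le_of_le_radical_of_fg hle (hfg K hK)
      obtain ⟨t, ht⟩ := (hfg K hK).pow (n := n)
      have ht' : (t : Set A) ⊆ ((sSup c : Ideal A) : Set A) := fun x hx =>
        hn (ht ▸ Submodule.subset_span hx)
      obtain ⟨J, hJ, htJ⟩ : ∃ J ∈ c, (t : Set A) ⊆ (J : Set A) := by
        have h2 : (t : Set A) ⊆ ⋃ J ∈ c, (J : Set A) := fun x hx => by
          obtain ⟨J, hJ, hxJ⟩ := (Submodule.mem_sSup_of_directed ⟨y, hy⟩ hchain.directedOn).mp (ht' hx)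
          exact Set.mem_biUnion hJ hxJ
        exact hchain.directedOn.exists_mem_subset_of_finset_subset_biUnion ⟨y, hy⟩ h2
      refine (hc hJ).2 _ hK ?_
      have : K ^ n ≤ J := ht ▸ Submodule.span_le.mpr htJ
      intro x hx
      exact ⟨n, this (Ideal.pow_mem_pow hx n)⟩) (Ideal.span {a}) hT
    have hPT : P ∈ T := hP.prop
    have hPtop : P ≠ ⊤ := fun h => hPT.2 I₀ hI₀ (by rw [h, Ideal.radical_top]; exact le_top)
    have hPprime : P.IsPrime := by
      refine ⟨hPtop, fun {x y} hxy => ?_⟩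
      by_contra hne2
      push Not at hne2
      have key : ∀ z, z ∉ P → ∃ K ∈ 𝒮, K ≤ (P ⊔ Ideal.span {z}).radical := fun z hz => by
        by_contra hn
        push Not at hn
        have := hP.le_of_ge (y := P ⊔ Ideal.span {z})
          ⟨le_sup_left (a := P) hPT.1, hn⟩ le_sup_left
        exact hz (this (Ideal.mem_sup_right (Ideal.mem_span_singleton_self z)))
      obtain ⟨K₁, hK₁, h₁⟩ := key x hne2.1
      obtain ⟨K₂, hK₂, h₂⟩ := key y hne2.2
      refine hPT.2 _ (hmul _ hK₁ _ hK₂) ((Ideal.mul_mono h₁ h₂).trans ?_)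
      refine le_trans Ideal.mul_le_inf ?_
      rw [← Ideal.radical_mul]
      refine Ideal.radical_mono ?_
      rw [Ideal.mul_sup, Ideal.sup_mul, Ideal.sup_mul, Ideal.span_singleton_mul_span_singleton]
      refine sup_le (sup_le ?_ ?_) (sup_le ?_ ?_) <;>
        first
          | exact Ideal.mul_le_left
          | exact Ideal.mul_le_right
          | exact (Ideal.span_singleton_le_iff_mem _).mpr hxy
    obtain ⟨K, hK, hKP⟩ := hcov P hPprime fun h => ha0 (by
      have := hPT.1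
      rwa [h, Ideal.mem_bot] at this)
    exact hPT.2 K hK (hKP.trans Ideal.le_radical)
  obtain ⟨n, hn⟩ := Ideal.exists_pow_le_of_le_radical_of_fg hrad (hfg I hI)
  have haI : a ∈ (I * I₀) ^ (n + n + 1) := ha' _ (hpow _ (hmul _ hI _ hI₀) _)
  have hle : (I * I₀) ^ (n + n + 1) ≤ Ideal.span {a} * Ideal.span {a} * IsLocalRing.maximalIdeal A := by
    rw [pow_succ, pow_add]
    exact Ideal.mul_mono (Ideal.mul_mono ((Ideal.pow_right_mono Ideal.mul_le_left n).trans hn)
      ((Ideal.pow_right_mono Ideal.mul_le_left n).trans hn)) (Ideal.mul_le_right.trans hI₀m)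
  obtain ⟨b, hb, hba⟩ := Ideal.mem_span_singleton_mul.mp
    (by have := hle haI; rwa [Ideal.span_singleton_mul_span_singleton] at this)
  have : a * b = 1 := mul_left_cancel₀ ha0 (by rw [mul_one, ← mul_assoc]; exact hba)
  exact (IsLocalRing.maximalIdeal.isMaximal A).ne_top
    ((Ideal.eq_top_iff_one _).mpr (this ▸ Ideal.mul_mem_left _ a hb))

end Groth.Agent.S1206
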