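import Groth.Statements.S1207
import Mathlib

set_option autoImplicit false
universe u
open FlatMor

namespace Groth.Agent.S1207

/-- Let A be a local ring and I, J ideals of A with J finitely generated, J ≠ A, and I ⊆ J^n for all n ≥
1. Then every prime p not containing J which is maximal among the primes not containing J (a closed
point of Spec A ∖ V(J)) contains I. (The published statement leaves the hypothesis J ≠ A implicit;
for J = A the assertion fails.) -/
theorem result (A : Type u) [CommRing A] [IsLocalRing A] (I J : Ideal A) (hJ : J.FG) (hJ1 : J ≠ ⊤)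
    (hI : ∀ n : ℕ, 1 ≤ n → I ≤ J ^ n) (p : Ideal A) [p.IsPrime] (hp : ¬ J ≤ p)
    (hmax : ∀ (p' : Ideal A), p'.IsPrime → p ≤ p' → ¬ J ≤ p' → p' = p) : I ≤ p := by
  classical
  intro a ha
  by_contra hap
  have hJm : J ≤ IsLocalRing.maximalIdeal A := IsLocalRing.le_maximalIdeal hJ1
  have hrad : J ≤ (p ⊔ Ideal.span {a}).radical := by
    rw [Ideal.radical_eq_sInf]
    refine le_sInf fun P ⟨hPle, hP⟩ => ?_
    by_contra hJP
    have := hmax P hP (le_sup_left.trans hPle) hJP
    exact hap (this ▸ hPle (Ideal.mem_sup_right (Ideal.mem_span_singleton_self a)))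
  obtain ⟨n, hn⟩ := Ideal.exists_pow_le_of_le_radical_of_fg hrad hJ
  have haJ : a ∈ (p ⊔ Ideal.span {a}) * J * (p ⊔ Ideal.span {a}) := by
    have h1 : a ∈ J ^ (n + 1 + n) := hI _ (by omega) ha
    rw [pow_add, pow_succ] at h1
    exact Ideal.mul_mono (Ideal.mul_mono hn le_rfl) hn h1
  have hle : (p ⊔ Ideal.span {a}) * J * (p ⊔ Ideal.span {a}) ≤
      p ⊔ Ideal.span {a * a} * IsLocalRing.maximalIdeal A := by
    have hsq : (p ⊔ Ideal.span {a}) * (p ⊔ Ideal.span {a}) ≤ p ⊔ Ideal.span {a * a} := by
      rw [Ideal.mul_sup, Ideal.sup_mul, Ideal.sup_mul, Ideal.span_singleton_mul_span_singleton]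
      refine sup_le (sup_le ?_ ?_) (sup_le ?_ ?_)
      · exact le_sup_of_le_left Ideal.mul_le_left
      · first | exact le_sup_of_le_left Ideal.mul_le_left | exact le_sup_of_le_left Ideal.mul_le_right
      · first | exact le_sup_of_le_left Ideal.mul_le_left | exact le_sup_of_le_left Ideal.mul_le_right
      · exact le_sup_right
    rw [mul_right_comm]
    refine (Ideal.mul_mono hsq le_rfl).trans ?_
    rw [Ideal.sup_mul]
    first
      | exact sup_le_sup Ideal.mul_le_left (Ideal.mul_mono le_rfl hJm)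
      | exact sup_le_sup Ideal.mul_le_right (Ideal.mul_mono le_rfl hJm)
  obtain ⟨u, hu, v, hv, huv⟩ := Submodule.mem_sup.mp (hle haJ)
  obtain ⟨c, hc, hcv⟩ := Ideal.mem_span_singleton_mul.mp hv
  have hunit : IsUnit (1 - a * c) :=
    IsLocalRing.isUnit_one_sub_self_of_mem_nonunits _ (Ideal.mul_mem_left _ a hc)
  have : a * (1 - a * c) ∈ p := by
    rw [show a * (1 - a * c) = u from by linear_combination (-1 : A) * huv - hcv]
    exact hu
  exact hap ((Ideal.mul_unit_mem_iff_mem p hunit).mp this)

end Groth.Agent.S1207
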