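import Groth.Statements.S12076
import Groth.Agent.RootDat.BaseB

set_option autoImplicit false
open RootD

open RootPairing Groth.Agent.RootDat.Form Groth.Agent.RootDat.Pos Groth.Agent.RootDat.Weyl Groth.Agent.RootDat.Exist
namespace Groth.Agent.S12076

/-- Let Δ be a system of simple roots (a base b of a root pairing P over ℤ) and Γ₀ the subgroup
generated by the roots. Then Γ₀ has a structure of totally ordered group for which the roots > 0 are
exactly the positive roots defined by Δ and for which the height (the additive function with value 1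
on each simple root) is monotone. The order is given here by its positive cone C ⊆ Γ₀: 0 ∉ C, C + C
⊆ C, and for every x ≠ 0 exactly one of x, −x lies in C (x < y meaning y − x ∈ C). -/
theorem result {ι M N : Type*} [AddCommGroup M] [AddCommGroup N]
    (P : RootPairing ι ℤ M N) [Finite ι] (b : P.Base) :
    ∃ C : Set ↥(Submodule.span ℤ (Set.range P.root)),
      0 ∉ C ∧ (∀ x ∈ C, ∀ y ∈ C, x + y ∈ C) ∧ (∀ x, x ≠ 0 → (x ∈ C ∨ -x ∈ C)) ∧ (∀ x ∈ C, -x ∉ C) ∧
      (∀ i : ι, (⟨P.root i, Submodule.subset_span (Set.mem_range_self i)⟩ : ↥(Submodule.span ℤ (Set.range P.root))) ∈ C ↔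
        b.IsPos i) ∧
      ∀ φ : ↥(Submodule.span ℤ (Set.range P.root)) →+ ℤ,
        (∀ j ∈ b.support, φ ⟨P.root j, Submodule.subset_span (Set.mem_range_self j)⟩ = 1) →
        ∀ x y : ↥(Submodule.span ℤ (Set.range P.root)), y - x ∈ C → φ x ≤ φ y := by
  classical
  have hΔ := Groth.Agent.RootDat.BaseB.isSimpleSys_base b
  have hspan : Submodule.span ℤ (Set.range P.root) ≤
      Submodule.span ℤ (Set.range fun x : (b.support : Set ι) => P.root x) := by
    rw [Groth.Agent.RootDat.Ind.span_simple P hΔ, Set.image_eq_range]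
  let coord := hΔ.linInd.repr.comp (Submodule.inclusion hspan)
  have hinj : ∀ x, coord x = 0 → x = 0 := fun x h => by
    have h' : Submodule.inclusion hspan x = 0 := by
      have := hΔ.linInd.linearCombination_repr (Submodule.inclusion hspan x)
      rw [show hΔ.linInd.repr (Submodule.inclusion hspan x) = 0 from h, map_zero] at this
      exact Subtype.ext this.symm
    exact Submodule.inclusion_injective hspan (h'.trans (map_zero _).symm)
  let E := (Fintype.equivFin ↥(b.support : Set ι))
  let pos : (↥(b.support : Set ι) →₀ ℤ) → Prop := fun c =>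
    0 < c.sum (fun _ a => a) ∨ (c.sum (fun _ a => a) = 0 ∧ (0 : Lex (Fin _ → ℤ)) < toLex (fun t => c (E.symm t)))
  have hlex : ∀ c : ↥(b.support : Set ι) →₀ ℤ, toLex (fun t => c (E.symm t)) = 0 → c = 0 := fun c h => by
    ext a
    have := congrFun (congrArg ofLex h) (E a)
    change c (E.symm (E a)) = 0 at this
    rwa [E.symm_apply_apply] at this
  have hadd : ∀ c d : ↥(b.support : Set ι) →₀ ℤ,
      toLex (fun t => (c + d) (E.symm t)) = toLex (fun t => c (E.symm t)) + toLex (fun t => d (E.symm t)) :=
    fun c d => rfl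
  have hneg : ∀ c : ↥(b.support : Set ι) →₀ ℤ,
      toLex (fun t => (-c) (E.symm t)) = -toLex (fun t => c (E.symm t)) := fun c => rfl
  have hsum : ∀ c d : ↥(b.support : Set ι) →₀ ℤ,
      (c + d).sum (fun _ a => a) = c.sum (fun _ a => a) + d.sum (fun _ a => a) := fun c d =>
    Finsupp.sum_add_index' (fun _ => rfl) fun _ _ _ => rfl
  have hsneg : ∀ c : ↥(b.support : Set ι) →₀ ℤ, (-c).sum (fun _ a => a) = -c.sum (fun _ a => a) := fun c => by
    rw [Finsupp.sum_neg_index fun _ => rfl, Finsupp.sum, Finsupp.sum, Finset.sum_neg_distrib]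
  refine ⟨{x | pos (coord x)}, ?_, ?_, ?_, ?_, ?_, ?_⟩
  · intro h
    change pos (coord 0) at h
    rw [map_zero] at h
    rcases h with h | ⟨-, h⟩
    · simp at h
    · exact lt_irrefl _ h
  · intro x hx y hy
    show pos (coord (x + y))
    rw [map_add]
    change pos _ at hx
    change pos _ at hy
    rcases hx with hx | ⟨hx, hx'⟩ <;> rcases hy with hy | ⟨hy, hy'⟩
    · exact .inl (by rw [hsum]; omega)
    · exact .inl (by rw [hsum]; omega)
    · exact .inl (by rw [hsum]; omega)
    · exact .inr ⟨by rw [hsum]; omega, by rw [hadd]; exact add_pos hx' hy'⟩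
  · intro x hx
    show pos (coord x) ∨ pos (coord (-x))
    rw [map_neg]
    rcases lt_trichotomy ((coord x).sum fun _ a => a) 0 with h | h | h
    · exact .inr (.inl (by rw [hsneg]; omega))
    · rcases lt_trichotomy (toLex fun t => coord x (E.symm t)) (0 : Lex (Fin _ → ℤ)) with h' | h' | h'
      · exact .inr (.inr ⟨by rw [hsneg]; omega, by rw [hneg]; exact neg_pos.mpr h'⟩)
      · exact absurd (hinj x (hlex _ h')) hx
      · exact .inl (.inr ⟨h, h'⟩)
    · exact .inl (.inl h)
  · intro x hx h
    change pos _ at hx h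
    rw [map_neg] at h
    simp only [pos, hsneg, hneg] at h
    rcases hx with hx | ⟨hx, hx'⟩ <;> rcases h with h | ⟨h, h'⟩
    · omega
    · omega
    · omega
    · exact lt_irrefl _ (hx'.trans (neg_pos.mp h'))
  · intro i
    obtain ⟨c, hc, hsg, hce⟩ := exists_coeff P hΔ i
    have hcoord : coord ⟨P.root i, Submodule.subset_span (Set.mem_range_self i)⟩ =
        c.subtypeDomain (fun x => x ∈ (b.support : Set ι)) := by
      refine hΔ.linInd.repr_eq ?_
      show Finsupp.linearCombination ℤ (fun x : (b.support : Set ι) => P.root x) _ = P.root i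
      rw [← hce, Finsupp.linearCombination_apply, Finsupp.linearCombination_apply]
      exact Finsupp.sum_subtypeDomain_index (h := fun a z => z • P.root a) fun x hx => hc hx
    have hht : ((coord ⟨P.root i, Submodule.subset_span (Set.mem_range_self i)⟩).sum fun _ a => a) = b.height i := by
      rw [hcoord, Groth.Agent.RootDat.BaseB.height_eq b hc hce]
      exact Finsupp.sum_subtypeDomain_index (h := fun _ z => z) fun x hx => hc hx
    show pos _ ↔ _
    simp only [pos, hht, RootPairing.Base.isPos_iff]
    exact ⟨fun h => h.resolve_right fun h => b.height_ne_zero i h.1, Or.inl⟩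
  · intro φ hφ x y hxy
    have hφc : ∀ z, φ z = (coord z).sum fun _ a => a := by
      intro ⟨z, hz⟩
      have hz' : z ∈ Submodule.span ℤ (P.root '' (b.support : Set ι)) :=
        Groth.Agent.RootDat.Ind.span_simple P hΔ ▸ hz
      clear hxy
      induction hz' using Submodule.span_induction with
      | mem w hw =>
        obtain ⟨a, ha, rfl⟩ := hw
        rw [show coord ⟨P.root a, hz⟩ = Finsupp.single ⟨a, ha⟩ 1 from
          hΔ.linInd.repr_eq_single ⟨a, ha⟩ _ rfl, Finsupp.sum_single_index rfl]
        exact hφ a ha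
      | zero =>
        rw [show (⟨0, hz⟩ : Submodule.span ℤ (Set.range P.root)) = 0 from rfl, map_zero, map_zero,
          Finsupp.sum_zero_index]
      | add u v hu hv ihu ihv =>
        have hu' : u ∈ Submodule.span ℤ (Set.range P.root) := (Groth.Agent.RootDat.Ind.span_simple P hΔ).symm ▸ hu
        have hv' : v ∈ Submodule.span ℤ (Set.range P.root) := (Groth.Agent.RootDat.Ind.span_simple P hΔ).symm ▸ hv
        rw [show (⟨u + v, hz⟩ : Submodule.span ℤ (Set.range P.root)) = ⟨u, hu'⟩ + ⟨v, hv'⟩ from rfl,
          map_add, map_add, ihu hu', ihv hv', hsum]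
      | smul n u hu ihu =>
        have hu' : u ∈ Submodule.span ℤ (Set.range P.root) := (Groth.Agent.RootDat.Ind.span_simple P hΔ).symm ▸ hu
        rw [show (⟨n • u, hz⟩ : Submodule.span ℤ (Set.range P.root)) = n • ⟨u, hu'⟩ from rfl,
          map_zsmul, map_zsmul, ihu hu', Finsupp.sum_smul_index (fun _ => rfl), Finsupp.sum, Finsupp.sum,
          Finset.smul_sum]
        rfl
    change pos (coord (y - x)) at hxy
    rw [map_sub] at hxy
    have e : (coord y - coord x).sum (fun _ a => a) =
        (coord y).sum (fun _ a => a) - (coord x).sum fun _ a => a := by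
      rw [sub_eq_add_neg, hsum, hsneg]; ring
    rcases hxy with h | ⟨h, -⟩ <;> rw [e] at h <;> rw [hφc, hφc] <;> omega

end Groth.Agent.S12076
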