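import Groth.Statements.S12080
import Mathlib
import Groth.Agent.DivAlgT.MatAut

set_option autoImplicit false
set_option linter.style.haveILetI false
universe u
open TensorProduct
open CAlg

namespace Groth.Agent.S12080

/-- (1) ⇒ (2): let `M` be a finite locally free `R`-module of rank `1`, i.e. there is a set `s ⊆ R`
generating the unit ideal with `M_f ≅ R_f` as `R_f`-modules for every `f ∈ s`. Then the evaluation
map `Hom_R(M, R) ⊗_R M → R` is bijective, so `M` is invertible with inverse its dual. -/
theorem result (R : Type u) [CommRing R] (M : Type u) [AddCommGroup M]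
    [Module R M] (s : Set R) (hs : Ideal.span s = ⊤)
    (hfree : ∀ f ∈ s, Nonempty (LocalizedModule.Away f M ≃ₗ[Localization.Away f] Localization.Away f)) :
    Module.Invertible R M := by
  classical
  have e : ∀ f : s, LocalizedModule.Away f.1 M ≃ₗ[Localization.Away f.1] Localization.Away f.1 := fun f => (hfree f.1 f.2).some
  haveI : Module.FinitePresentation R M := Module.FinitePresentation.of_localizationSpan s hs
    (fun f => Module.FinitePresentation.of_equiv (e f).symm)
  haveI : Module.Flat R M := Module.flat_of_localized_span (S := R) (M := M) s hs (fun f => by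
    haveI : Module.Flat (Localization.Away f.1) (LocalizedModule.Away f.1 M) := Module.Flat.of_linearEquiv (e f)
    haveI : Module.Flat R (Localization.Away f.1) := IsLocalization.flat (Localization.Away f.1) (Submonoid.powers f.1)
    exact Module.Flat.trans R (Localization.Away f.1) (LocalizedModule.Away f.1 M))
  haveI : Module.Projective R M := Module.Flat.projective_of_finitePresentation
  have hzero : ∀ z : M, (∀ f : s, LocalizedModule.mkLinearMap (Submonoid.powers f.1) M z = 0) → z = 0 := fun z hz =>
    Module.eq_of_isLocalized_span s hs _ (fun f => LocalizedModule.mkLinearMap (Submonoid.powers f.1) M) z 0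
      (fun f => by rw [hz f, map_zero])
  have hcomm : ∀ (φ : Module.Dual R M) (a b : M), φ a • b = φ b • a := by
    intro φ a b
    rw [← sub_eq_zero]
    refine hzero _ fun f => ?_
    set l := LocalizedModule.mkLinearMap (Submonoid.powers f.1) M
    let φ' : LocalizedModule.Away f.1 M →ₗ[Localization.Away f.1] Localization.Away f.1 :=
      (IsLocalizedModule.map (Submonoid.powers f.1) l (Algebra.linearMap R (Localization.Away f.1)) φ).extendScalarsOfIsLocalization (Submonoid.powers f.1) _
    have hφ : ∀ m, φ' (l m) = algebraMap R (Localization.Away f.1) (φ m) := fun m =>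
      IsLocalizedModule.map_apply (Submonoid.powers f.1) l (Algebra.linearMap R (Localization.Away f.1)) φ m
    rw [map_sub, sub_eq_zero, map_smul, map_smul, ← algebraMap_smul (Localization.Away f.1) (φ a) (l b),
      ← algebraMap_smul (Localization.Away f.1) (φ b) (l a), ← hφ, ← hφ]
    apply (e f).injective
    rw [map_smul, map_smul, smul_eq_mul, smul_eq_mul]
    have h1 : ∀ z, φ' z = (e f) z * φ' ((e f).symm 1) := by
      intro z
      conv_lhs => rw [← (e f).symm_apply_apply z, ← mul_one ((e f) z), ← smul_eq_mul, map_smul, map_smul, smul_eq_mul]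
    rw [h1 (l a), h1 (l b)]
    ring
  obtain ⟨n, F, G, -, -, hFG⟩ := Module.Finite.exists_comp_eq_id_of_projective R M
  let g : Fin n → Module.Dual R M := fun i => (LinearMap.proj i).comp G
  let x : Fin n → M := fun i => F (Pi.single i 1)
  have hx : ∀ m, ∑ i, g i m • x i = m := by
    intro m
    have h := LinearMap.congr_fun hFG m
    rw [LinearMap.comp_apply, LinearMap.id_apply] at h
    conv_rhs => rw [← h, pi_eq_sum_univ' (G m), map_sum]
    exact Finset.sum_congr rfl fun i _ => by rw [map_smul]; rfl
  refine Groth.Agent.DivAlgT.MatAut.invertible_of_comm M g x ?_ hcomm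
  have hc : ∀ m : M, (∑ i, g i (x i)) • m = m := by
    intro m
    rw [Finset.sum_smul]
    conv_rhs => rw [← hx m]
    exact Finset.sum_congr rfl fun i _ => by rw [hcomm]
  refine Module.eq_of_isLocalized_span s hs _ (fun f => Algebra.linearMap R (Localization.Away f.1)) _ _ fun f => ?_
  obtain ⟨⟨m, t⟩, ht⟩ := IsLocalizedModule.surj (Submonoid.powers f.1) (LocalizedModule.mkLinearMap (Submonoid.powers f.1) M) ((e f).symm 1)
  have h := congrArg (fun z => (e f) (LocalizedModule.mkLinearMap (Submonoid.powers f.1) M z)) (hc m)
  simp only [map_smul] at h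
  rw [← ht, Submonoid.smul_def, ← algebraMap_smul (Localization.Away f.1) (t : R),
    ← algebraMap_smul (Localization.Away f.1) (∑ i, g i (x i)), map_smul, map_smul, LinearEquiv.apply_symm_apply,
    smul_eq_mul, smul_eq_mul, mul_one] at h
  have hu : IsUnit (algebraMap R (Localization.Away f.1) (t : R)) := IsLocalization.map_units _ t
  rw [Algebra.linearMap_apply, Algebra.linearMap_apply, map_one]
  exact hu.mul_right_cancel (by rw [one_mul]; exact h)

end Groth.Agent.S12080
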