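import Groth.Statements.S12081
import Groth.Agent.EtAlg.Milnor.Basic
import Mathlib.RingTheory.IsTensorProduct
import Mathlib.RingTheory.Ideal.Maps

set_option autoImplicit false
universe u
open TensorProduct
open EtAlg

namespace Groth.Agent.S12081

/-- Let `B' = B ×_A A'` be a fibre square of rings with `A' → A` surjective with kernel `I`, let `J =
Ker(B' → B)`, let `D'` be a `B'`-algebra and `C' = D' ⊗_{B'} A'`. Then the ideal `I C'` is, as a
subset of `C'`, the image of the ideal `J D'` under `D' → C'`; that is, the map `J D' → I C'` is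
surjective. -/
theorem result (B' B A' A : Type u) [CommRing B'] [CommRing B] [CommRing A'] [CommRing A]
    [Algebra B' B] [Algebra B' A'] [Algebra B A] [Algebra A' A] [Algebra B' A] [IsScalarTower B' B A] [IsScalarTower B' A' A]
    (hsq : EtMil.IsFibreSquare B' B A' A)
    (D' C' : Type u) [CommRing D'] [CommRing C'] [Algebra B' D'] [Algebra A' C']
    [Algebra D' C'] [Algebra B' C'] [IsScalarTower B' A' C'] [IsScalarTower B' D' C'] [Algebra.IsPushout B' A' D' C'] :
    (algebraMap D' C') '' ((RingHom.ker (algebraMap B' B)).map (algebraMap B' D') : Set D') =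
      ((RingHom.ker (algebraMap A' A)).map (algebraMap A' C') : Set C') := by
  have hJ : ∀ j : B', algebraMap B' B j = 0 → algebraMap A' A (algebraMap B' A' j) = 0 :=
    fun j hj => EtAlg.Milnor.Basic.map_ker_eq_zero (B := B) hj
  apply Set.Subset.antisymm
  · rintro _ ⟨x, hx, rfl⟩
    refine (?_ : (RingHom.ker (algebraMap B' B)).map (algebraMap B' D') ≤
      ((RingHom.ker (algebraMap A' A)).map (algebraMap A' C')).comap (algebraMap D' C')) hx
    rw [Ideal.map_le_iff_le_comap]
    intro j hj
    rw [Ideal.mem_comap, Ideal.mem_comap]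
    rw [← IsScalarTower.algebraMap_apply, IsScalarTower.algebraMap_apply B' A' C']
    exact Ideal.mem_map_of_mem _ (hJ j hj)
  · intro y hy
    let S := (RingHom.ker (algebraMap B' B)).map (algebraMap B' D')
    refine Submodule.span_induction (p := fun y _ => y ∈ algebraMap D' C' '' (S : Set D')) ?_ ⟨0, zero_mem S, map_zero _⟩ ?_ ?_ hy
    · rintro _ ⟨i, hi, rfl⟩
      obtain ⟨j, hj, rfl⟩ := EtAlg.Milnor.Basic.exists_ker hsq hi
      exact ⟨algebraMap B' D' j, Ideal.mem_map_of_mem _ hj,
        (IsScalarTower.algebraMap_apply B' D' C' j).symm.trans (IsScalarTower.algebraMap_apply B' A' C' j)⟩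
    · rintro a b - - ⟨x, hx, rfl⟩ ⟨x', hx', rfl⟩
      exact ⟨x + x', add_mem hx hx', map_add _ _ _⟩
    · rintro c a - ⟨x, hx, rfl⟩
      have key : ∀ a' : A', ∀ z ∈ S, ∃ z' ∈ S, algebraMap D' C' z' = algebraMap A' C' a' * algebraMap D' C' z := by
        intro a' z hz
        refine Submodule.span_induction (p := fun z _ => ∃ z' ∈ S, algebraMap D' C' z' = algebraMap A' C' a' * algebraMap D' C' z)
          ?_ ⟨0, zero_mem _, by simp⟩ ?_ ?_ hz
        · rintro _ ⟨j, hj, rfl⟩
          obtain ⟨k, hk, hk'⟩ := EtAlg.Milnor.Basic.exists_mul hsq hj a'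
          refine ⟨algebraMap B' D' k, Ideal.mem_map_of_mem _ hk, ?_⟩
          rw [← IsScalarTower.algebraMap_apply, ← IsScalarTower.algebraMap_apply, IsScalarTower.algebraMap_apply B' A' C',
            IsScalarTower.algebraMap_apply B' A' C' j, hk', map_mul]
        · rintro a b - - ⟨x, hx, e⟩ ⟨x', hx', e'⟩
          exact ⟨x + x', add_mem hx hx', by rw [map_add, e, e', map_add, mul_add]⟩
        · rintro r a - ⟨x, hx, e⟩
          exact ⟨r * x, Ideal.mul_mem_left _ _ hx, by rw [map_mul, e, smul_eq_mul, map_mul]; ring⟩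
      have hbc : IsBaseChange D' (IsScalarTower.toAlgHom B' A' C').toLinearMap :=
        (Algebra.IsPushout.symm (R := B') (S := A') (R' := D') (S' := C') inferInstance).out
      induction c using hbc.inductionOn with
      | zero => exact ⟨0, zero_mem _, by simp⟩
      | tmul a' =>
        obtain ⟨z', hz', e⟩ := key a' x hx
        exact ⟨z', hz', by rw [e]; rfl⟩
      | smul r c ih =>
        obtain ⟨z', hz', e⟩ := ih
        exact ⟨r * z', Ideal.mul_mem_left _ _ hz', by rw [map_mul, e, smul_eq_mul, smul_eq_mul, Algebra.smul_def]; ring⟩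
      | add c c' ih ih' =>
        obtain ⟨⟨z, hz, e⟩, z', hz', e'⟩ := ih, ih'
        exact ⟨z + z', add_mem hz hz', by rw [map_add, e, e', smul_eq_mul, smul_eq_mul, smul_eq_mul, add_mul]⟩

end Groth.Agent.S12081
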