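import Groth.Statements.S12093
import Groth.Agent.PseudoCoh.TensorKProj
import Groth.Agent.KFlatLib.AcyclicFlat
import Groth.Agent.Flat.TorDim

set_option autoImplicit false
universe u
open CategoryTheory CategoryTheory.Limits MonoidalCategory
attribute [local instance] HasDerivedCategory.standard
open DRing

namespace Groth.Agent.S12093

open CategoryTheory CategoryTheory.Limits DerivedCategory MonoidalCategory Groth.Agent.PseudoCoh Groth.Agent.KFlatLib
open Groth.Agent.Flat.TorDim
open scoped TensorProduct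

attribute [local instance] HasDerivedCategory.standard

variable {R : Type u} [CommRing R]

lemma exists_res' (K : DRing.Cx R) : ∃ (P : DRing.Cx R) (q : P ⟶ K),
    CochainComplex.IsKProjective P ∧ (∀ i, Projective (P.X i)) ∧ QuasiIso q :=
  Groth.Agent.KProjRes.exists_kProjective K

lemma nonempty_singleObjIso (M : ModuleCat.{u} R) (P : DRing.Cx R) :
    Nonempty ((((TM R).obj M).mapHomologicalComplex (ComplexShape.up ℤ)).obj P ≅
      (Φ (TM R) ((HomologicalComplex.single (ModuleCat.{u} R) (ComplexShape.up ℤ) 0).obj M)).obj P) := by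
  obtain ⟨e⟩ := nonempty_singleLeftIso (TM R) ((HomologicalComplex.single (ModuleCat.{u} R) (ComplexShape.up ℤ) 0).obj M)
    (fun i hi => HomologicalComplex.isZero_single_obj_X _ 0 M i hi) P
  exact ⟨((NatIso.mapHomologicalComplex
    ((TM R).mapIso (HomologicalComplex.singleObjXSelf (ComplexShape.up ℤ) 0 M)) (ComplexShape.up ℤ)).app P).symm ≪≫ e⟩

lemma nonempty_lTensorCx_single {K P : DRing.Cx R} [DRing.HasLTensorCx R K] (q : P ⟶ K) [QuasiIso q]
    (hP : IsKFlat (TM R) P) (M : ModuleCat.{u} R) :
    Nonempty ((DRing.LTensorCx R K).obj (DRing.toD ((CochainComplex.singleFunctor (ModuleCat.{u} R) 0).obj M)) ≅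
      DRing.toD ((((TM R).obj M).mapHomologicalComplex (ComplexShape.up ℤ)).obj P)) := by
  let L := (HomologicalComplex.single (ModuleCat.{u} R) (ComplexShape.up ℤ) 0).obj M
  obtain ⟨L', r, hL', hr⟩ := exists_flip_resolution_module R L
  haveI := hr
  obtain ⟨e₁⟩ := nonempty_tensorCxIso_ring K L' hL'
  obtain ⟨e₂⟩ := nonempty_singleObjIso M P
  haveI := quasiIso_left (TM R) hP r
  haveI : QuasiIso ((Φ (TM R) L').map q) := by
    haveI : ∀ X, PreservesColimitsOfSize.{u, u} ((TM R).flip.flip.obj X) := fun X => inferInstance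
    haveI := quasiIso_left (TM R).flip hL' q
    let i₁ := HomologicalComplex.mapBifunctorFlipIso L' P (TM R) (ComplexShape.up ℤ)
    let i₂ := HomologicalComplex.mapBifunctorFlipIso L' K (TM R) (ComplexShape.up ℤ)
    have e : HomologicalComplex.mapBifunctorMap q (𝟙 L') (TM R).flip (ComplexShape.up ℤ) ≫ i₂.hom =
        i₁.hom ≫ (Φ (TM R) L').map q :=
      HomologicalComplex.mapBifunctorFlipIso_hom_naturality (𝟙 L') q (TM R) (ComplexShape.up ℤ)
    have : QuasiIso (HomologicalComplex.mapBifunctorMap q (𝟙 L') (TM R).flip (ComplexShape.up ℤ) ≫ i₂.hom) := inferInstance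
    rw [e] at this
    exact (quasiIso_iff_comp_left i₁.hom _).1 this
  exact ⟨(DRing.LTensorCx R K).mapIso (asIso (DerivedCategory.Q.map r)).symm ≪≫ e₁ ≪≫
    (asIso (DerivedCategory.Q.map ((Φ (TM R) L').map q))).symm ≪≫
    @asIso _ _ _ _ (DerivedCategory.Q.map (HomologicalComplex.mapBifunctorMap r (𝟙 P) (TM R) (ComplexShape.up ℤ)))
      ((DerivedCategory.isIso_Q_map_iff_quasiIso (ModuleCat.{u} R) _).2 (quasiIso_left (TM R) hP r)) ≪≫
    DerivedCategory.Q.mapIso e₂.symm⟩

lemma flat_coker {P : DRing.Cx R} (hflat : ∀ i, Module.Flat R (P.X i)) {h i j : ℤ}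
    (hx : ∀ M : ModuleCat.{u} R, Function.Exact ((P.d h i).hom.lTensor M) ((P.d i j).hom.lTensor M)) :
    Module.Flat R (P.X j ⧸ LinearMap.range (P.d i j).hom) := by
  rw [flat_iff_torZero]
  intro N _ _
  haveI := hflat j
  refine torZero_symm ((torZero_iff_of_cover (LinearMap.range (P.d i j).hom).subtype (LinearMap.range (P.d i j).hom).mkQ
    (Submodule.injective_subtype _) (LinearMap.exact_subtype_mkQ _) (Submodule.mkQ_surjective _)).2 ?_)
  refine (injective_iff_map_eq_zero _).2 fun z hz => ?_
  obtain ⟨w, rfl⟩ := LinearMap.lTensor_surjective N (P.d i j).hom.surjective_rangeRestrict z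
  obtain ⟨v, rfl⟩ := (hx (ModuleCat.of R N) w).1 (by
    rw [← LinearMap.lTensor_comp_apply] at hz
    exact hz)
  rw [← LinearMap.lTensor_comp_apply, show (P.d i j).hom.rangeRestrict ∘ₗ (P.d h i).hom = 0 from
    LinearMap.ext fun x => Subtype.ext (ConcreteCategory.congr_hom (P.d_comp_d h i j) x), LinearMap.lTensor_zero,
    LinearMap.zero_apply]

lemma isKFlat_truncGE {P : DRing.Cx R} {a : ℤ} (hPK : IsKFlat (TM R) P) (hflat : ∀ i, Module.Flat R (P.X i))
    (hflat' : ∀ i, Module.Flat R ((P.truncGE a).X i)) : IsKFlat (TM R) (P.truncGE a) := by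
  let π := P.πTruncGE a
  haveI : Epi π := by dsimp [π, CochainComplex.πTruncGE]; infer_instance
  let S := ShortComplex.mk (kernel.ι π) π (kernel.condition π)
  have hS : S.ShortExact := { exact := ShortComplex.exact_kernel π }
  have hSi := fun i => hS.map_of_exact (HomologicalComplex.eval (ModuleCat.{u} R) (ComplexShape.up ℤ) i)
  have hb : ∀ i, a < i → IsZero ((kernel π).X i) := fun i hi => by
    haveI : IsIso (π.f i) := by
      have hk : (ComplexShape.embeddingUpIntGE a).f (i - a).natAbs = i := by simp [abs_of_nonneg (show (0 : ℤ) ≤ i - a by omega)]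
      dsimp [π, CochainComplex.πTruncGE, HomologicalComplex.πTruncGE, CochainComplex.truncGE, HomologicalComplex.truncGE]
      rw [(ComplexShape.embeddingUpIntGE a).isIso_liftExtend_f_iff _ _ hk]
      exact P.isIso_restrictionToTruncGE' _ _ (fun h => by
        rw [ComplexShape.boundaryGE_embeddingUpIntGE_iff, Int.natAbs_eq_zero] at h
        omega)
    exact (hSi i).isIso_g_iff.1 (inferInstanceAs (IsIso (π.f i)))
  refine (IsKFlat.two_of_three_flat (TM R) hS (enough_tflat_module R) fun n => ?_).1
    (isKFlat_of_bounded_above (TM R) (kernel π) a hb fun i => ?_) hPK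
  · exact (tflat_of_flat (hflat' n)).2
  · let T := S.map (HomologicalComplex.eval (ModuleCat.{u} R) (ComplexShape.up ℤ) i)
    haveI : Module.Flat R T.X₂ := hflat i
    haveI : Module.Flat R T.X₃ := hflat' i
    have hi := (hSi i)
    haveI := flat_ker T.g.hom hi.moduleCat_surjective_g
    refine (tflat_of_flat ?_).2
    exact Module.Flat.of_linearEquiv ((LinearEquiv.ofInjective T.f.hom hi.moduleCat_injective_f).trans
      (LinearEquiv.ofEq _ _ hi.exact.moduleCat_range_eq_ker))

/-- Let `K•` be a complex of `R`-modules (for which `− ⊗^L_R K•` is assumed to exist) and `a` an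
integer. Then `K•` has tor amplitude in `[a, ∞)`, i.e. `H^i(M ⊗^L_R K•) = 0` for every `R`-module
`M` and every `i < a`, if and only if `K•` is quasi-isomorphic to a K-flat complex `E•` (tensoring
with `E•` preserves acyclic complexes) with flat terms and `E^i = 0` for `i < a`. -/
theorem result (R : Type u) [CommRing R] (a : ℤ) (K : DRing.Cx R)
    [DRing.HasLTensorCx R K] :
    (∀ (M : ModuleCat.{u} R) (i : ℤ), i < a →
        Subsingleton (Dual.HD R ((DRing.LTensorCx R K).obj
          (DRing.toD ((CochainComplex.singleFunctor (ModuleCat.{u} R) 0).obj M))) i)) ↔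
      ∃ E : DRing.Cx R, (∀ L : DRing.Cx R, (∀ i : ℤ, IsZero (L.homology i)) → ∀ i : ℤ, IsZero ((L ⊗ E).homology i)) ∧
        DRing.TermwiseFlat E ∧ (∀ i : ℤ, i < a → IsZero (E.X i)) ∧ Nonempty (DRing.toD E ≅ DRing.toD K) := by
  obtain ⟨P, q, hP, hproj, hq⟩ := exists_res' K
  haveI := hq
  haveI := hP
  have hflat : ∀ i, Module.Flat R (P.X i) := fun i => by
    haveI := hproj i
    haveI : Module.Projective R (P.X i) := (IsProjective.iff_projective (P.X i)).2 inferInstance
    exact Module.Flat.of_projective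
  obtain ⟨F, qF, hF, hqF⟩ := exists_res_module R P
  haveI := hqF
  have hPK : IsKFlat (TM R) P := isKFlat_of_isKProjective _ qF hF
  have hcond : ∀ (M : ModuleCat.{u} R) (i : ℤ), Subsingleton (Dual.HD R ((DRing.LTensorCx R K).obj
      (DRing.toD ((CochainComplex.singleFunctor (ModuleCat.{u} R) 0).obj M))) i) ↔
      (((((TM R).obj M)).mapHomologicalComplex (ComplexShape.up ℤ)).obj P).ExactAt i := fun M i => by
    obtain ⟨e⟩ := nonempty_lTensorCx_single q hPK M
    rw [HomologicalComplex.exactAt_iff_isZero_homology, ← ModuleCat.isZero_iff_subsingleton]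
    exact ((DerivedCategory.homologyFunctor (ModuleCat.{u} R) i).mapIso e ≪≫
      (DerivedCategory.homologyFunctorFactors (ModuleCat.{u} R) i).app _).isZero_iff
  constructor
  · intro h
    have hx : ∀ (M : ModuleCat.{u} R) (i : ℤ), i < a → Function.Exact ((P.d (i - 1) i).hom.lTensor M)
        ((P.d i (i + 1)).hom.lTensor M) := fun M i hi => by
      have := (hcond M i).1 (h M i hi)
      rw [HomologicalComplex.exactAt_iff' _ (i - 1) i (i + 1) (by simp) (by simp),
        ShortComplex.ShortExact.moduleCat_exact_iff_function_exact] at this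
      exact this
    have hP0 : ∀ i, i < a → P.ExactAt i := fun i hi => by
      have := (hcond (𝟙_ (ModuleCat.{u} R)) i).1 (h _ i hi)
      exact this.of_iso (((NatIso.mapHomologicalComplex (leftUnitorNatIso (ModuleCat.{u} R)) (ComplexShape.up ℤ)).app P) ≪≫
        (Functor.mapHomologicalComplexIdIso (ModuleCat.{u} R) (ComplexShape.up ℤ)).app P)
    have hQ : Module.Flat R (P.X a ⧸ LinearMap.range (P.d (a - 1) a).hom) := flat_coker hflat fun M => by
      have := hx M (a - 1) (by omega)
      rwa [sub_add_cancel] at this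
    have hflat' : ∀ i, Module.Flat R ((P.truncGE a).X i) := fun i => by
      rcases lt_trichotomy i a with hi | rfl | hi
      · haveI := ModuleCat.subsingleton_of_isZero (truncGE_isZero P a hi)
        infer_instance
      · haveI := hQ
        exact Module.Flat.of_linearEquiv ((P.truncGEXIsoOpcycles i) ≪≫ opcyclesEquiv P (i - 1) i (sub_add_cancel i 1)).toLinearEquiv
      · haveI := hflat i
        exact Module.Flat.of_linearEquiv (P.truncGEXIso a i hi).toLinearEquiv
    haveI : P.IsGE a := (P.isGE_iff a).2 hP0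
    haveI := (P.quasiIso_πTruncGE_iff a).2 inferInstance
    exact ⟨P.truncGE a, isKFlat_truncGE hPK hflat hflat', hflat', fun i hi => truncGE_isZero P a hi,
      ⟨(asIso (DerivedCategory.Q.map (P.πTruncGE a))).symm ≪≫ asIso (DerivedCategory.Q.map q)⟩⟩
  · rintro ⟨E, hE, -, hEz, ⟨e⟩⟩ M i hi
    refine (hcond M i).2 ?_
    obtain ⟨f, hf⟩ := exists_Q_map (P := P) (asIso (DerivedCategory.Q.map q) ≪≫ e.symm).hom
    haveI : QuasiIso f := by
      rw [← DerivedCategory.isIso_Q_map_iff_quasiIso, hf]; infer_instance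
    let L := (HomologicalComplex.single (ModuleCat.{u} R) (ComplexShape.up ℤ) 0).obj M
    haveI := quasiIso_right (TM R) f hPK ((isKFlat_module_iff E).1 hE) L (exists_flip_resolution_module R L)
    obtain ⟨e₁⟩ := nonempty_singleObjIso M P
    obtain ⟨e₂⟩ := nonempty_singleObjIso M E
    refine HomologicalComplex.ExactAt.of_iso ?_ e₁.symm
    refine (quasiIsoAt_iff_exactAt' ((Φ (TM R) L).map f) i ?_).1 inferInstance
    exact (HomologicalComplex.ExactAt.of_isZero (((TM R).obj M).map_isZero (hEz i hi))).of_iso e₂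

end Groth.Agent.S12093
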