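import Groth.Statements.S7082
import Groth.Agent.PseudoCoh.TwoTermExt

set_option autoImplicit false
universe u
attribute [local instance] HasDerivedCategory.standard
open CategoryTheory
open DRing

namespace Groth.Agent.S7082

open CategoryTheory CategoryTheory.Limits DerivedCategory Groth.Agent.PseudoCoh

attribute [local instance] HasDerivedCategory.standard

/-- (1)⇔(3): let R be a commutative ring, I an ideal and K an object of D(R) whose cohomology vanishes
outside degrees -1 and 0. Then I annihilates Ext^1_R(K, N) = Hom_{D(R)}(K, N[1]) for every R-module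
N if and only if, for every two-term complex E in degrees -1 and 0 with E^0 projective that
represents K, and every a in I, multiplication by a on E^{-1} factors through the differential
E^{-1} → E^0. -/
theorem result {R : Type u} [CommRing R] (I : Ideal R) (K : Dual.D R)
    (hK : ∀ i : ℤ, i ≠ -1 → i ≠ 0 → Subsingleton (Dual.HD R K i)) :
    (∀ (N : Type u) [AddCommGroup N] [Module R N] (a : R), a ∈ I →
        ∀ ξ : K ⟶ (Dual.inD R N)⟦(1 : ℤ)⟧, a • ξ = 0) ↔
      ∀ (E : DRing.Cx R), DRing.VanishesOutside E (-1) 0 → Module.Projective R (E.X 0) →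
        Nonempty (DRing.toD E ≅ K) → ∀ a : R, a ∈ I →
          ∃ h : E.X 0 ⟶ E.X (-1), E.d (-1) 0 ≫ h = a • 𝟙 (E.X (-1)) := by
  refine ⟨fun H E hE hE0 ⟨e⟩ a ha => ?_, fun H N _ _ a ha ξ => ?_⟩
  · let z : cocycles E (-1) (E.X (-1)) := ⟨LinearMap.id, LinearMap.ext fun x => by
      haveI := ModuleCat.subsingleton_of_isZero (hE (-1 - 1) (by omega))
      rw [Subsingleton.elim x 0]
      simp⟩
    have h0 : extClass e 1 (-1) (by omega) (E.X (-1)) (a • z) = 0 :=
      (map_smul _ a z).trans (H (E.X (-1)) a ha _)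
    have hz : cocycleClass E (-1) (E.X (-1)) (a • z) = 0 := by
      change (e.inv ≫ cocycleClass E (-1) _ (a • z)) ≫ _ = 0 at h0
      rwa [← cancel_mono ((shiftSingleIso (A := R) 1 (-1) (by omega)).inv.app (E.X (-1))), ← cancel_epi e.inv,
        zero_comp, comp_zero, ← Category.assoc]
    obtain ⟨s, hs⟩ := boundary_of_class_eq_zero (fun i hi => hE i (Or.inr hi)) hE0 _ hz
    exact ⟨ModuleCat.ofHom s, ModuleCat.hom_ext (LinearMap.ext fun x => hs x)⟩
  · obtain ⟨L, hL, ⟨eL⟩⟩ := exists_twoTerm_rep K hK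
    obtain ⟨E, hE, ⟨e0⟩, -, ⟨eE⟩⟩ := exists_twoTerm L hL (L.X 0 →₀ R) (Finsupp.linearCombination R id) fun w =>
      ⟨Finsupp.single w 1, 0, by simp⟩
    have hE0 : Module.Projective R (E.X 0) := Module.Projective.of_equiv e0.toLinearEquiv.symm
    let e := eE ≪≫ eL
    obtain ⟨h, hh⟩ := H E hE hE0 ⟨e⟩ a ha
    have hkey := comp_eq_zero_of_factor (fun i h1 h2 => hE i (by omega)) hE0 (a • 𝟙 E) h
      (by rw [HomologicalComplex.smul_f_apply, HomologicalComplex.id_f, hh]) (ModuleCat.of R N) (e.hom ≫ ξ)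
    rw [DerivedCategory.Q.map_smul, DerivedCategory.Q.map_id, Linear.smul_comp] at hkey
    have h2 : e.hom ≫ (a • ξ) = 0 := by
      rw [Linear.comp_smul]
      exact (congrArg (a • ·) (Category.id_comp _).symm).trans hkey
    rwa [← cancel_epi e.hom, comp_zero]

end Groth.Agent.S7082
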