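import Groth.Statements.S12094
import Groth.Agent.PseudoCoh.TwoTermExt
import Groth.Agent.S7082

set_option autoImplicit false
universe u
open CategoryTheory
attribute [local instance] HasDerivedCategory.standard
open DRing

namespace Groth.Agent.S12094

open CategoryTheory CategoryTheory.Limits CategoryTheory.Pretriangulated DerivedCategory DerivedCategory.TStructure Groth.Agent.PseudoCoh

attribute [local instance] HasDerivedCategory.standard

/-- the homology in degree `-1` is killed by `a` -/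
lemma kills_homology {R : Type u} [CommRing R] (I : Ideal R) (K : Dual.D R)
    (hK : ∀ i : ℤ, i ≠ -1 → i ≠ 0 → Subsingleton (Dual.HD R K i))
    (h1 : ∀ (N : Type u) [AddCommGroup N] [Module R N] (a : R), a ∈ I →
        ∀ ξ : K ⟶ (Dual.inD R N)⟦(1 : ℤ)⟧, a • ξ = 0) (a : R) (ha : a ∈ I) (x : Dual.HD R K (-1)) : a • x = 0 := by
  obtain ⟨L, hL, ⟨eL⟩⟩ := exists_twoTerm_rep K hK
  obtain ⟨E, hE, ⟨e0⟩, -, ⟨eE⟩⟩ := exists_twoTerm L hL (L.X 0 →₀ R) (Finsupp.linearCombination R id) fun w =>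
    ⟨Finsupp.single w 1, 0, by simp⟩
  have hE0 : Module.Projective R (E.X 0) := Module.Projective.of_equiv e0.toLinearEquiv.symm
  obtain ⟨h, hh⟩ := (Groth.Agent.S7082.result I K hK).1 h1 E hE hE0 ⟨eE ≪≫ eL⟩ a ha
  let ε : (DerivedCategory.homologyFunctor (ModuleCat.{u} R) (-1)).obj K ≅ E.homology (-1) :=
    (DerivedCategory.homologyFunctor (ModuleCat.{u} R) (-1)).mapIso (eE ≪≫ eL).symm ≪≫
      (DerivedCategory.homologyFunctorFactors (ModuleCat.{u} R) (-1)).app E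
  apply ε.toLinearEquiv.injective
  rw [map_smul, map_zero]
  obtain ⟨c, hc⟩ := (ModuleCat.epi_iff_surjective (E.homologyπ (-1))).1 inferInstance (ε.toLinearEquiv x)
  have hc0 : a • c = 0 := by
    refine (ModuleCat.mono_iff_injective (E.iCycles (-1))).1 inferInstance ?_
    rw [map_smul, map_zero]
    have h2 : a • (E.iCycles (-1)).hom c = h.hom ((E.d (-1) 0).hom ((E.iCycles (-1)).hom c)) :=
      (ConcreteCategory.congr_hom hh _).symm
    refine h2.trans ?_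
    have h3 : (E.d (-1) 0).hom ((E.iCycles (-1)).hom c) = 0 := ConcreteCategory.congr_hom (E.iCycles_d (-1) 0) c
    rw [h3, map_zero]
  rw [← hc]
  exact (map_smul _ a c).symm.trans ((congrArg _ hc0).trans (map_zero _))

/-- (1) ⇔ (2): let `I ⊆ R` be an ideal and `K ∈ D(R)` with `H^i(K) = 0` for `i ∉ {-1, 0}`. Then some
power `I^c` annihilates `Ext¹_R(K, N) = Hom_{D(R)}(K, N[1])` for every `R`-module `N` if and only
if, for some `c`, (a) `I^c` annihilates `H^{-1}(K)` and (b) `H^0(K)` is `I^c`-projective, i.e. `I^c`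
annihilates `Ext¹_R(H^0(K), N)` for every `R`-module `N`. -/
theorem result {R : Type u} [CommRing R] (I : Ideal R) (K : Dual.D R)
    (hK : ∀ i : ℤ, i ≠ -1 → i ≠ 0 → Subsingleton (Dual.HD R K i)) :
    (∃ c : ℕ, ∀ (N : Type u) [AddCommGroup N] [Module R N] (a : R), a ∈ I ^ c →
        ∀ ξ : K ⟶ (Dual.inD R N)⟦(1 : ℤ)⟧, a • ξ = 0) ↔
      ∃ c : ℕ, (∀ a : R, a ∈ I ^ c → ∀ x : Dual.HD R K (-1), a • x = 0) ∧
        ∀ (N : Type u) [AddCommGroup N] [Module R N] (a : R), a ∈ I ^ c →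
          ∀ ξ : Dual.inD R (Dual.HD R K 0) ⟶ (Dual.inD R N)⟦(1 : ℤ)⟧, a • ξ = 0 := by
  let T := (t.triangleLTGE 0).obj K
  have hT : T ∈ distTriang (Dual.D R) := t.triangleLTGE_distinguished 0 K
  have hz : ∀ i : ℤ, i ≠ -1 → i ≠ 0 → IsZero ((DerivedCategory.homologyFunctor (ModuleCat.{u} R) i).obj K) :=
    fun i h1 h2 => @ModuleCat.isZero_of_subsingleton _ _ _ (hK i h1 h2)
  have hKge : t.IsGE K (-1) := (DerivedCategory.isGE_iff K _).2 fun i hi => hz i (by omega) (by omega)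
  have hKle : t.IsLE K 0 := (DerivedCategory.isLE_iff K _).2 fun i hi => hz i (by omega) (by omega)
  haveI hT1 : t.IsLE T.obj₁ (-1) := inferInstanceAs (t.IsLE ((t.triangleLTGE 0).obj K).obj₁ (0 - 1))
  haveI hT3 : t.IsGE T.obj₃ 0 := inferInstanceAs (t.IsGE ((t.triangleLTGE 0).obj K).obj₃ 0)
  have hT1' : t.IsGE T.obj₁ (-1) := by
    haveI : t.IsGE (T.obj₃⟦(-1 : ℤ)⟧) 1 := t.isGE_shift T.obj₃ 0 (-1) 1 (by omega)
    exact t.isGE₂ _ (inv_rot_of_distTriang _ hT) (-1) (t.isGE_of_ge (T.obj₃⟦(-1 : ℤ)⟧) (-1) 1 (by omega)) hKge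
  have hT3' : t.IsLE T.obj₃ 0 := by
    haveI : t.IsLE (T.obj₁⟦(1 : ℤ)⟧) (-2) := t.isLE_shift T.obj₁ (-1) 1 (-2) (by omega)
    exact t.isLE₂ _ (rot_of_distTriang _ hT) 0 hKle (t.isLE_of_le (T.obj₁⟦(1 : ℤ)⟧) (-2) 0 (by omega))
  let Hm := fun i => DerivedCategory.homologyFunctor (ModuleCat.{u} R) i
  have z1 : ∀ i, -1 < i → IsZero ((Hm i).obj T.obj₁) := (DerivedCategory.isLE_iff _ _).1 hT1
  have z3 : ∀ i, i < 0 → IsZero ((Hm i).obj T.obj₃) := (DerivedCategory.isGE_iff _ _).1 hT3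
  haveI : Mono ((Hm (-1)).map T.mor₁) :=
    (HomologySequence.mono_homologyMap_mor₁_iff T hT (-2) (-1) (by omega)).2 ((z3 _ (by omega)).eq_of_src _ _)
  haveI : Epi ((Hm (-1)).map T.mor₁) :=
    (HomologySequence.epi_homologyMap_mor₁_iff T hT (-1)).2 ((z3 _ (by omega)).eq_of_tgt _ _)
  haveI : Mono ((Hm 0).map T.mor₂) :=
    (HomologySequence.mono_homologyMap_mor₂_iff T hT 0).2 ((z1 _ (by omega)).eq_of_src _ _)
  haveI : Epi ((Hm 0).map T.mor₂) :=
    (HomologySequence.epi_homologyMap_mor₂_iff T hT 0 1 rfl).2 ((z1 _ (by omega)).eq_of_tgt _ _)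
  haveI : T.obj₁.IsGE (-1) := hT1'
  haveI : T.obj₁.IsLE (-1) := hT1
  haveI : T.obj₃.IsGE 0 := hT3
  haveI : T.obj₃.IsLE 0 := hT3'
  obtain ⟨M, ⟨e₁⟩⟩ := DerivedCategory.exists_iso_singleFunctor_obj_of_isGE_of_isLE T.obj₁ (-1)
  obtain ⟨M₃, ⟨e₃⟩⟩ := DerivedCategory.exists_iso_singleFunctor_obj_of_isGE_of_isLE T.obj₃ 0
  haveI := isIso_of_mono_of_epi ((Hm (-1)).map T.mor₁)
  have hi2 := isIso_of_mono_of_epi ((Hm 0).map T.mor₂)
  have eM : (Hm (-1)).obj K ≅ M := (asIso ((Hm (-1)).map T.mor₁)).symm ≪≫ (Hm (-1)).mapIso e₁ ≪≫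
    (DerivedCategory.singleFunctorCompHomologyFunctorIso (ModuleCat.{u} R) (-1)).app M
  have eM₃ : (Hm 0).obj K ≅ M₃ := @asIso _ _ _ _ ((Hm 0).map T.mor₂) hi2 ≪≫ (Hm 0).mapIso e₃ ≪≫
    (DerivedCategory.singleFunctorCompHomologyFunctorIso (ModuleCat.{u} R) 0).app M₃
  let e₃' : T.obj₃ ≅ Dual.inD R (Dual.HD R K 0) :=
    e₃ ≪≫ (DerivedCategory.singleFunctor (ModuleCat.{u} R) 0).mapIso eM₃.symm
  refine ⟨fun ⟨c, hc⟩ => ⟨c, fun a ha x => kills_homology (I ^ c) K hK hc a ha x, fun N _ _ a ha η => ?_⟩,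
    fun ⟨c, hca, hcb⟩ => ⟨c + c, fun N _ _ a ha ξ => ?_⟩⟩
  · have h1 : T.mor₂ ≫ (e₃'.hom ≫ (a • η)) = 0 := by
      rw [← Category.assoc, Linear.comp_smul]
      exact hc N a ha _
    obtain ⟨g, hg⟩ := Triangle.yoneda_exact₂ _ (rot_of_distTriang _ hT) (e₃'.hom ≫ (a • η)) h1
    haveI : t.IsLE (T.obj₁⟦(1 : ℤ)⟧) (-2) := t.isLE_shift T.obj₁ (-1) 1 (-2) (by omega)
    have hge : t.IsGE ((Dual.inD R N)⟦(1 : ℤ)⟧) (-1) := by
      haveI : t.IsGE (Dual.inD R N) 0 :=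
        (inferInstance : t.IsGE ((DerivedCategory.singleFunctor (ModuleCat.{u} R) 0).obj (ModuleCat.of R N)) 0)
      exact t.isGE_shift (Dual.inD R N) 0 1 (-1) (by omega)
    have hg0 : g = 0 := t.zero_of_isLE_of_isGE g (-2) (-1) (by omega) ‹_› hge
    have h2 : e₃'.hom ≫ (a • η) = 0 := hg.trans ((congrArg (_ ≫ ·) hg0).trans comp_zero)
    rwa [← cancel_epi e₃'.hom, comp_zero]
  · rw [pow_add] at ha
    refine Submodule.mul_induction_on ha (fun x hx y hy => ?_) (fun x y hx hy => by rw [add_smul, hx, hy, add_zero])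
    have hy0 : y • (𝟙 T.obj₁) = 0 := by
      have h1 : y • (𝟙 M) = 0 := ModuleCat.hom_ext (LinearMap.ext fun m => by
        change y • m = 0
        apply eM.symm.toLinearEquiv.injective
        rw [map_smul, map_zero]
        exact hca y hy _)
      have h2 : y • (𝟙 ((DerivedCategory.singleFunctor (ModuleCat.{u} R) (-1)).obj M)) = 0 := by
        rw [← CategoryTheory.Functor.map_id, ← Functor.map_smul, h1, Functor.map_zero]
      rw [← cancel_mono e₁.hom, zero_comp, Linear.smul_comp, Category.id_comp, ← Category.comp_id e₁.hom,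
        ← Linear.comp_smul, h2, comp_zero]
    have h1 : T.mor₁ ≫ (y • ξ) = 0 := by
      refine (Linear.comp_smul _ _ _ _ _ _).trans ((congrArg (y • ·) (Category.id_comp _).symm).trans ?_)
      exact (Linear.smul_comp _ _ _ _ _ _).symm.trans ((congrArg (· ≫ _) hy0).trans zero_comp)
    obtain ⟨η, hη⟩ := Triangle.yoneda_exact₂ _ hT (y • ξ) h1
    have h2 : x • η = 0 := by
      rw [← cancel_epi e₃'.inv, comp_zero, Linear.comp_smul]
      exact hcb N x hx _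
    rw [mul_smul, hη]
    exact (Linear.comp_smul _ _ _ _ _ _).symm.trans ((congrArg _ h2).trans comp_zero)

end Groth.Agent.S12094
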