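import Groth.Statements.S12109
import Groth.Agent.LanInd.Basic

set_option autoImplicit false
open CategoryTheory CategoryTheory.Limits
universe u
open SGA4

namespace Groth.Agent.S12109

/-- Let `u : C ⥤ C'` be a functor between small categories and `u_!` the left Kan extension functor on
presheaves of sets, whose restriction to ind-representable presheaves is the induced functor `Ind C
⥤ Ind C'`. Then `Ind(u)` is an equivalence — `u_!` is bijective on morphisms between
ind-representable presheaves on `C` and every ind-representable presheaf on `C'` is isomorphic to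
`u_! F` for some ind-representable `F` — if and only if `u` is full and faithful and every object of
`C'` is a retract (direct factor) of an object `u X`. -/
theorem result
    {C : Type u} [SmallCategory C] {C' : Type u} [SmallCategory C'] (u : C ⥤ C') :
    ((∀ (F G : Cᵒᵖ ⥤ Type u), IsIndObject F → IsIndObject G →
        Function.Bijective (fun φ : F ⟶ G => (u.op.lan : (Cᵒᵖ ⥤ Type u) ⥤ (C'ᵒᵖ ⥤ Type u)).map φ)) ∧
      (∀ G' : C'ᵒᵖ ⥤ Type u, IsIndObject G' →
        ∃ F : Cᵒᵖ ⥤ Type u, IsIndObject F ∧
          Nonempty ((u.op.lan : (Cᵒᵖ ⥤ Type u) ⥤ (C'ᵒᵖ ⥤ Type u)).obj F ≅ G'))) ↔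
    ((u.Full ∧ u.Faithful) ∧
      ∀ X' : C', ∃ (X : C) (i : X' ⟶ u.obj X) (r : u.obj X ⟶ X'), i ≫ r = 𝟙 X') := by
  exact ⟨fun ⟨h, he⟩ => ⟨⟨Groth.Agent.LanInd.Basic.full_of u fun A B hA hB => (h A B hA hB).2,
        Groth.Agent.LanInd.Basic.faithful_of u fun A B hA hB => (h A B hA hB).1⟩,
      Groth.Agent.LanInd.Basic.retract_of u he⟩,
    fun ⟨⟨h1, h2⟩, hr⟩ => haveI := h1; haveI := h2;
      ⟨fun F G _ hG => Groth.Agent.LanInd.Basic.map_bijective u hG F,
        Groth.Agent.LanInd.Basic.exists_of_retract u hr⟩⟩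

end Groth.Agent.S12109
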