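import Groth.Statements.S12123
import Groth.Agent.Cons.Basic
import Mathlib.AlgebraicGeometry.Morphisms.FinitePresentation
import Mathlib.AlgebraicGeometry.Morphisms.Flat
import Mathlib.AlgebraicGeometry.Morphisms.UniversallyOpen
import Mathlib.AlgebraicGeometry.Noetherian
import Mathlib.RingTheory.Spectrum.Prime.Chevalley
import Mathlib.Topology.Maps.Proper.CompactlyGenerated
import Mathlib.Topology.Compactness.LocallyCompact
import Mathlib.Topology.Connected.TotallyDisconnected

set_option autoImplicit false
universe u
open EGA41

namespace Groth.Agent.S12123
open CategoryTheory CategoryTheory.Limits AlgebraicGeometry TopologicalSpace Topology Groth.Agent.Cons.Basic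

open AlgebraicGeometry Topology in
/-- Let X be a quasi-separated scheme and X^cons its underlying set with the constructible topology,
generated by the quasi-compact open subsets and their complements (for X quasi-separated this is the
topology whose open sets are the ind-constructible subsets). Then X^cons is a Hausdorff, locally
compact, totally disconnected space. (The published statement also asserts that X^cons is Hausdorff
only if X is quasi-separated; for the topology used here that converse fails when X is not
quasi-separated, where the two constructible topologies differ, so it is not part of this row.) -/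
theorem result (X : Scheme.{u}) [QuasiSeparatedSpace X] :
    T2Space (WithConstructibleTopology X) ∧ LocallyCompactSpace (WithConstructibleTopology X) ∧
      TotallyDisconnectedSpace (WithConstructibleTopology X) := by
  have hT2 : T2Space (WithConstructibleTopology X) :=
    @T2Space.of_injective_continuous _ X _ (constructibleTopology X) (t2_constructible X) _
      (WithTopology.ofTopology_injective _) (WithTopology.continuous_ofTopology _)
  have hQ : ∀ x : WithConstructibleTopology X, ∀ Q : X.Opens, IsAffineOpen Q →
      IsClopen (WithTopology.ofTopology ⁻¹' (Q : Set X) : Set (WithConstructibleTopology X)) := fun x Q hQ => by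
    constructor
    · rw [← isOpen_compl_iff, ← Set.preimage_compl]
      exact @IsOpen.preimage (WithConstructibleTopology X) X _ (constructibleTopology X) _ (WithTopology.continuous_ofTopology _) _ (IsCompact.isOpen_constructibleTopology_of_isClosed (s := (Q : Set X)ᶜ) (by rw [compl_compl]; exact hQ.isCompact) Q.2.isClosed_compl)
    · exact @IsOpen.preimage (WithConstructibleTopology X) X _ (constructibleTopology X) _ (WithTopology.continuous_ofTopology _) _ (hQ.isCompact.isOpen_constructibleTopology_of_isOpen Q.2)
  refine ⟨hT2, ?_, ?_⟩
  · have : WeaklyLocallyCompactSpace (WithConstructibleTopology X) := by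
      refine ⟨fun x => ?_⟩
      obtain ⟨Q, hQ', hxQ⟩ : ∃ Q : X.Opens, IsAffineOpen Q ∧ x.ofTopology ∈ Q := by
        obtain ⟨_, ⟨Q, hQ', rfl⟩, hxQ, -⟩ :=
          X.isBasis_affineOpens.exists_subset_of_mem_open (Set.mem_univ x.ofTopology) isOpen_univ
        exact ⟨Q, hQ', hxQ⟩
      refine ⟨WithTopology.ofTopology ⁻¹' (Q : Set X), ?_, (hQ x Q hQ').2.mem_nhds hxQ⟩
      have := IsAffineOpen.isOpenImmersion_fromSpec hQ'
      have hc := @IsCompact.image _ X (constructibleTopology _) (constructibleTopology X) _ _
        (@CompactSpace.isCompact_univ _ (constructibleTopology _) (compactSpace_constructible _))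
        (continuous_constructible (IsAffineOpen.fromSpec hQ'))
      rw [Set.image_univ, IsAffineOpen.range_fromSpec] at hc
      have h2 := @IsCompact.image X (WithConstructibleTopology X) (constructibleTopology X) _ _ _ hc (WithTopology.continuous_toTopology _)
      convert h2 using 1
      ext z
      exact ⟨fun hz => ⟨_, hz, rfl⟩, fun ⟨w, hw, hwz⟩ => hwz ▸ hw⟩
    infer_instance
  · have : TotallySeparatedSpace (WithConstructibleTopology X) := by
      rw [totallySeparatedSpace_iff_exists_isClopen]
      intro x y hxy
      obtain ⟨W, hW, hWm⟩ := exists_isOpen_xor_mem (X := X) (x := x.ofTopology) (y := y.ofTopology) (fun h => hxy (WithTopology.ofTopology_injective _ h))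
      rcases hWm with ⟨hx, hy⟩ | ⟨hy, hx⟩
      · obtain ⟨_, ⟨U, hU, rfl⟩, hxU, hUW⟩ := X.isBasis_affineOpens.exists_subset_of_mem_open hx hW
        exact ⟨_, hQ x U hU, hxU, fun h => hy (hUW h)⟩
      · obtain ⟨_, ⟨U, hU, rfl⟩, hyU, hUW⟩ := X.isBasis_affineOpens.exists_subset_of_mem_open hy hW
        exact ⟨_, (hQ x U hU).compl, fun h => hx (hUW h), not_not.mpr hyU⟩
    infer_instance

end Groth.Agent.S12123
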