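import Groth.Statements.S12135
import Groth.Agent.Cons.Basic
import Mathlib.AlgebraicGeometry.Morphisms.FinitePresentation
import Mathlib.AlgebraicGeometry.Morphisms.Flat
import Mathlib.AlgebraicGeometry.Morphisms.UniversallyOpen
import Mathlib.AlgebraicGeometry.Noetherian
import Mathlib.RingTheory.Spectrum.Prime.Chevalley
import Mathlib.Topology.Maps.Proper.CompactlyGenerated
import Mathlib.Topology.Compactness.LocallyCompact
import Mathlib.Topology.Connected.TotallyDisconnected

set_option autoImplicit false
universe u
open EGA41

namespace Groth.Agent.S12135
open CategoryTheory CategoryTheory.Limits AlgebraicGeometry TopologicalSpace Topology Groth.Agent.Cons.Basic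

open AlgebraicGeometry Topology in
/-- Let f : X → Y be a morphism of schemes with X and Y quasi-separated, and let X^cons, Y^cons denote
the underlying sets with the constructible topology (generated by the quasi-compact open subsets and
their complements; for quasi-separated schemes the open sets are exactly the ind-constructible
subsets). Then f is quasi-compact if and only if the map X^cons → Y^cons underlying f is proper
(continuous and universally closed). (The published statement is for arbitrary schemes with the
ind-constructible topology; this row covers the quasi-separated case, where that topology is the one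
used here.) -/
theorem result {X Y : Scheme.{u}} [QuasiSeparatedSpace X]
    [QuasiSeparatedSpace Y] (f : X ⟶ Y) :
    QuasiCompact f ↔ @IsProperMap X Y (constructibleTopology X) (constructibleTopology Y) f := by
  constructor
  · intro _
    refine (@isProperMap_iff_isClosedMap_and_compact_fibers X Y (constructibleTopology X) (constructibleTopology Y) f).mpr
      ⟨continuous_constructible f, fun s hs => ?_, fun y => ?_⟩
    · exact isProConstructible_iff_isClosed.mp (isProConstructible_image f (isProConstructible_iff_isClosed.mpr hs))
    · obtain ⟨Q, hQ, hyQ⟩ : ∃ Q : Y.Opens, IsAffineOpen Q ∧ y ∈ Q := by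
        obtain ⟨_, ⟨Q, hQ, rfl⟩, hxQ, -⟩ :=
          Y.isBasis_affineOpens.exists_subset_of_mem_open (Set.mem_univ y) isOpen_univ
        exact ⟨Q, hQ, hxQ⟩
      have : CompactSpace (f ⁻¹ᵁ Q).toScheme := isCompact_iff_compactSpace.mp (f.isCompact_preimage hQ.isCompact)
      have : QuasiSeparatedSpace (f ⁻¹ᵁ Q).toScheme := quasiSeparatedSpace_of_quasiSeparated (f ⁻¹ᵁ Q).ι
      have hc := @IsCompact.image _ X (constructibleTopology _) (constructibleTopology X) _ _
        (@CompactSpace.isCompact_univ _ (constructibleTopology _) (compactSpace_constructible _))
        (continuous_constructible (f ⁻¹ᵁ Q).ι)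
      rw [Set.image_univ, Scheme.Opens.range_ι] at hc
      exact @IsCompact.of_isClosed_subset X (constructibleTopology X) _ _ hc
        (@IsClosed.preimage X Y (constructibleTopology X) (constructibleTopology Y) _ (continuous_constructible f) _ (@isClosed_singleton Y (constructibleTopology Y) (@T2Space.t1Space Y (constructibleTopology Y) (t2_constructible Y)) y))
        (fun x hx => by rw [Set.mem_preimage, Set.mem_singleton_iff] at hx; exact (show f x ∈ Q from hx ▸ hyQ))
  · intro h
    refine quasiCompact_iff_forall_isAffineOpen.mpr fun Q hQ => ?_
    have := hQ.isOpenImmersion_fromSpec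
    have hc := @IsCompact.image _ Y (constructibleTopology _) (constructibleTopology Y) _ _
      (@CompactSpace.isCompact_univ _ (constructibleTopology _) (compactSpace_constructible _))
      (continuous_constructible hQ.fromSpec)
    rw [Set.image_univ, hQ.range_fromSpec] at hc
    have h2 := @IsProperMap.isCompact_preimage X Y (constructibleTopology X) (constructibleTopology Y) _ h _ hc
    have hcont : @Continuous X X (constructibleTopology X) _ id := by
      refine continuous_def.mpr fun s hs => ?_
      refine @isOpen_iff_forall_mem_open _ (constructibleTopology X) _ |>.mpr fun x hx => ?_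
      obtain ⟨_, ⟨U, hU, rfl⟩, hxU, hUs⟩ := X.isBasis_affineOpens.exists_subset_of_mem_open hx hs
      exact ⟨_, hUs, (IsAffineOpen.isCompact hU).isOpen_constructibleTopology_of_isOpen U.2, hxU⟩
    simpa using @IsCompact.image X X (constructibleTopology X) _ _ _ h2 hcont

end Groth.Agent.S12135
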