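import Groth.Statements.S12142

set_option autoImplicit false
universe u
open CategoryTheory CategoryTheory.Limits AlgebraicGeometry TopologicalSpace Opposite
open scoped HomogeneousIdeal
noncomputable section
open EGA2

namespace Groth.Agent.S12142

open Opposite AlgebraicGeometry CategoryTheory CategoryTheory.Limits TopologicalSpace

theorem isPullback_chart {S : Scheme.{u}} (A : RelSpec.QCAlg S) (U : S.Opens) (hU : IsAffineOpen U) :
    IsPullback (A.ι U hU) (Spec.map (A.str.app (op U))) A.π hU.fromSpec :=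
  (A.glueData.isPullback_natTrans_ι_toBase ⟨U, hU⟩).flip.of_iso (Iso.refl _) (Iso.refl _) hU.isoSpec (Iso.refl _)
    ((Category.comp_id _).trans (Category.id_comp _).symm) (by
      show (Spec.map (A.str.app (op U)) ≫ hU.isoSpec.inv) ≫ hU.isoSpec.hom = 𝟙 (Spec (A.presheaf.obj (op U))) ≫ _
      simp) ((Category.comp_id _).trans (Category.id_comp _).symm) (by
      show U.ι ≫ 𝟙 _ = hU.isoSpec.hom ≫ hU.fromSpec
      rw [Category.comp_id]
      exact (hU.toSpecΓ_fromSpec).symm)

theorem exists_affine_le {S S' : Scheme.{u}} (g : S' ⟶ S) (x : S') :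
    ∃ (U : S.Opens) (_ : IsAffineOpen U) (U' : S'.Opens), IsAffineOpen U' ∧ x ∈ U' ∧ U' ≤ g ⁻¹ᵁ U := by
  obtain ⟨_, ⟨U, hU, rfl⟩, hxU, -⟩ := S.isBasis_affineOpens.exists_subset_of_mem_open (Set.mem_univ (g x)) isOpen_univ
  obtain ⟨_, ⟨U', hU', rfl⟩, hx, hle⟩ :=
    S'.isBasis_affineOpens.exists_subset_of_mem_open (show x ∈ g ⁻¹ᵁ U from hxU) (g ⁻¹ᵁ U).2
  exact ⟨U, hU, U', hU', hx, hle⟩

/-- Let g : S' → S be a morphism of schemes, A a quasi-coherent O_S-algebra and B = g^*A, presented as a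
quasi-coherent O_{S'}-algebra with a g-morphism u : A → g_*B whose squares of rings over affine
opens U' ⊆ g⁻¹(U) are pushouts; let h = Spec(u) : Spec(B) → Spec(A) be the induced morphism of
relative spectra (chartwise Spec of A(U) → B(U')). Then h and the structure morphisms form a
cartesian square: Spec(g^*A) is the fibre product Spec(A) ×_S S'. -/
theorem result {S S' : Scheme.{u}} (g : S' ⟶ S)
    (A : RelSpec.QCAlg S) (B : RelSpec.QCAlg S') (u : RelSpec.QHom g A B) (hu : RelSpec.IsQBaseChange u)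
    (h : B.spec ⟶ A.spec) (hh : RelSpec.IsSpecQMap u h) :
    IsPullback h B.π A.π g := by
  have hw : h ≫ A.π = B.π ≫ g := by
    have hcov : IsOpenCover (fun P : {P : S.Opens × S'.Opens // IsAffineOpen P.1 ∧ IsAffineOpen P.2 ∧ P.2 ≤ g ⁻¹ᵁ P.1} =>
        B.π ⁻¹ᵁ P.1.2) := IsOpenCover.mk (eq_top_iff.mpr fun x _ => by
      obtain ⟨U, hU, U', hU', hx, hle⟩ := exists_affine_le g (B.π x)
      exact Opens.mem_iSup.mpr ⟨⟨(U, U'), hU, hU', hle⟩, hx⟩)
    refine (B.spec.openCoverOfIsOpenCover _ hcov).hom_ext _ _ fun P => ?_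
    obtain ⟨⟨U, U'⟩, hU, hU', hle⟩ := P
    show (B.π ⁻¹ᵁ U').ι ≫ h ≫ A.π = (B.π ⁻¹ᵁ U').ι ≫ B.π ≫ g
    have hr : (B.ι U' hU').opensRange = B.π ⁻¹ᵁ U' := (B.π_preimage U' hU').symm
    let k : (B.π ⁻¹ᵁ U' : B.spec.Opens).toScheme ⟶ Spec (B.presheaf.obj (op U')) :=
      IsOpenImmersion.lift (B.ι U' hU') (B.π ⁻¹ᵁ U').ι (by
        rw [Scheme.Opens.range_ι, ← hr]
        rfl)
    have hk : k ≫ B.ι U' hU' = (B.π ⁻¹ᵁ U').ι := IsOpenImmersion.lift_fac _ _ _
    rw [← hk, Category.assoc, Category.assoc, reassoc_of% (hh U hU U' hU' hle), A.ι_π, reassoc_of% (B.ι_π U' hU'),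
      ← Spec.map_comp_assoc, ← (hu U hU U' hU' hle).w, Spec.map_comp_assoc,
      hU.SpecMap_appLE_fromSpec g hU' hle]
  let c : B.spec ⟶ pullback A.π g := pullback.lift h B.π hw
  suffices hc : IsIso c from IsPullback.of_iso_pullback ⟨hw⟩ (asIso c) (pullback.lift_fst _ _ _) (pullback.lift_snd _ _ _)
  choose U hU U' hU' hx hle using exists_affine_le g
  have hcov : IsOpenCover (fun x : S' => (hU' x).fromSpec.opensRange) := IsOpenCover.mk (eq_top_iff.mpr fun x _ =>
    Opens.mem_iSup.mpr ⟨x, by rw [(hU' x).opensRange_fromSpec]; exact hx x⟩)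
  let 𝒰 : S'.OpenCover :=
    { I₀ := S'
      X := fun x => Spec Γ(S', U' x)
      f := fun x => (hU' x).fromSpec
      mem₀ := by
        rw [Scheme.presieve₀_mem_precoverage_iff]
        exact ⟨fun x => ⟨x, by
          have := hx x
          rw [← (hU' x).opensRange_fromSpec] at this
          exact this⟩, fun x => inferInstance⟩ }
  apply IsZariskiLocalAtTarget.of_openCover (P := MorphismProperty.isomorphisms Scheme)
    (𝒰.pullback₁ (pullback.snd A.π g))
  intro x
  show IsIso (pullback.snd c (pullback.fst (pullback.snd A.π g) (hU' x).fromSpec))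
  let p := pullback.snd A.π g
  let j := (hU' x).fromSpec
  have sB : IsPullback (B.ι (U' x) (hU' x)) (Spec.map (B.str.app (op (U' x)))) (c ≫ p) j := by
    rw [pullback.lift_snd]
    exact isPullback_chart B _ _
  let a : Spec (B.presheaf.obj (op (U' x))) ⟶ pullback p j :=
    pullback.lift (B.ι (U' x) (hU' x) ≫ c) (Spec.map (B.str.app (op (U' x)))) (by rw [Category.assoc]; exact sB.w)
  have s1 : IsPullback (B.ι (U' x) (hU' x)) a c (pullback.fst p j) :=
    IsPullback.of_bot (by rw [pullback.lift_snd]; exact sB) (pullback.lift_fst _ _ _).symm (IsPullback.of_hasPullback p j)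
  have sA : IsPullback (B.ι (U' x) (hU' x) ≫ h) (Spec.map (B.str.app (op (U' x)))) A.π (j ≫ g) := by
    rw [hh (U x) (hU x) _ _ (hle x), ← (hU x).SpecMap_appLE_fromSpec g (hU' x) (hle x)]
    exact (isPullback_SpecMap_of_isPushout _ _ _ _ (hu (U x) (hU x) _ (hU' x) (hle x))).flip.paste_horiz
      (isPullback_chart A (U x) (hU x))
  have sQ : IsPullback (pullback.fst p j ≫ pullback.fst A.π g) (pullback.snd p j) A.π (j ≫ g) :=
    (IsPullback.of_hasPullback p j).paste_horiz (IsPullback.of_hasPullback A.π g)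
  have : IsIso a := by
    have : a = (sA.isoIsPullback _ _ sQ).hom := by
      apply sQ.hom_ext
      · rw [IsPullback.isoIsPullback_hom_fst, ← Category.assoc, pullback.lift_fst, Category.assoc, pullback.lift_fst]
      · rw [IsPullback.isoIsPullback_hom_snd, pullback.lift_snd]
    rw [this]; infer_instance
  rw [← s1.isoPullback_inv_snd]
  infer_instance

end Groth.Agent.S12142
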