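import Groth.Statements.S12205
import Groth.Agent.Flat.TorOne

set_option autoImplicit false
universe u
open CategoryTheory
open scoped TensorProduct
open CAlg

namespace Groth.Agent.S12205

/-- Let I be an ideal of a commutative ring R and M an R-module such that M/IM is flat over R/I and
Tor_1^R(R/I, M) = 0. Then Tor_1^R(N, M) = 0 for every R-module N annihilated by I^m for some m ≥ 0.
Here Tor_1^R(N, M) is the first left derived functor of N ⊗_R − evaluated at M. -/
theorem result (R : Type u) [CommRing R] (I : Ideal R) (M : Type u)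
    [AddCommGroup M] [Module R M] [Module.Flat (R ⧸ I) ((R ⧸ I) ⊗[R] M)]
    (h : Limits.IsZero (((CategoryTheory.Tor (ModuleCat.{u} R) 1).obj (ModuleCat.of R (R ⧸ I))).obj (ModuleCat.of R M)))
    (N : Type u) [AddCommGroup N] [Module R N] (m : ℕ) (hN : ∀ a : R, a ∈ I ^ m → ∀ x : N, a • x = 0) :
    Limits.IsZero (((CategoryTheory.Tor (ModuleCat.{u} R) 1).obj (ModuleCat.of R N)).obj (ModuleCat.of R M)) := by
  rw [Groth.Agent.Flat.TorOne.isZero_Tor_one_iff] at h ⊢
  refine Groth.Agent.Flat.LocalCriterion.torZero_of_killed_pow I ?_ inferInstance m N hN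
  rw [← LinearMap.lTensor_inj_iff_rTensor_inj]
  exact h.lTensor_injective (Submodule.injective_subtype I) (LinearMap.exact_subtype_mkQ I)
    (Submodule.mkQ_surjective I)

end Groth.Agent.S12205
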