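import Groth.Statements.S12206
-- import your own Groth.Agent.* helpers here

set_option autoImplicit false
universe u
open CAlg

namespace Groth.Agent.S12206

/-- Let φ : N → M be a linear map from a finite R-module N to a coherent R-module M, where coherent
means finitely generated with every finitely generated submodule finitely presented. Then the kernel
of φ is finitely generated, and the image of φ and the cokernel M/φ(N) are coherent. -/
theorem result (R : Type u) [CommRing R] {N M : Type u}
    [AddCommGroup N] [Module R N] [AddCommGroup M] [Module R M] [Module.Finite R N]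
    (hM : Module.Finite R M ∧ ∀ P : Submodule R M, P.FG → Module.FinitePresentation R P)
    (φ : N →ₗ[R] M) :
    (LinearMap.ker φ).FG ∧
    (Module.Finite R (LinearMap.range φ) ∧
      ∀ P : Submodule R (LinearMap.range φ), P.FG → Module.FinitePresentation R P) ∧
    (Module.Finite R (M ⧸ LinearMap.range φ) ∧
      ∀ P : Submodule R (M ⧸ LinearMap.range φ), P.FG → Module.FinitePresentation R P) := by
  classical
  haveI := hM.1
  have hrfg : (LinearMap.range φ).FG := by
    rw [LinearMap.range_eq_map]; exact Module.Finite.fg_top.map φ
  haveI := hM.2 _ hrfg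
  refine ⟨?_, ⟨Module.Finite.iff_fg.mpr hrfg, fun P hP => ?_⟩, ⟨inferInstance, fun P hP => ?_⟩⟩
  · rw [← LinearMap.ker_rangeRestrict φ]
    exact Module.FinitePresentation.fg_ker φ.rangeRestrict φ.surjective_rangeRestrict
  · haveI := hM.2 _ (hP.map (LinearMap.range φ).subtype)
    exact Module.FinitePresentation.of_equiv (Submodule.equivMapOfInjective _ (Submodule.injective_subtype _) P).symm
  · obtain ⟨t, ht⟩ := hP
    set q := (LinearMap.range φ).mkQ with hq
    set Q : Submodule R M := Submodule.span R (Function.surjInv (Submodule.mkQ_surjective (LinearMap.range φ)) '' t) ⊔ LinearMap.range φ with hQ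
    have hQfg : Q.FG := (Submodule.fg_span (t.finite_toSet.image _)).sup hrfg
    have hmap : Q.map q = P := by
      rw [hQ, Submodule.map_sup, Submodule.map_span, ← Set.image_comp]
      have e : q ∘ Function.surjInv (Submodule.mkQ_surjective (LinearMap.range φ)) = id :=
        funext (Function.surjInv_eq _)
      rw [e, Set.image_id, ht, show Submodule.map q (LinearMap.range φ) = ⊥ by rw [← LinearMap.le_ker_iff_map, hq, Submodule.ker_mkQ]]
      exact sup_bot_eq _
    haveI := hM.2 Q hQfg
    let l : Q →ₗ[R] P := LinearMap.codRestrict P (q ∘ₗ Q.subtype) (fun x => hmap ▸ Submodule.mem_map_of_mem x.2)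
    refine Module.finitePresentation_of_surjective l ?_ ?_
    · intro y
      obtain ⟨x, hx, e⟩ := (Submodule.mem_map.mp (hmap.ge y.2))
      exact ⟨⟨x, hx⟩, Subtype.ext e⟩
    · have hk : LinearMap.ker l = (LinearMap.range φ).comap Q.subtype := by
        rw [LinearMap.ker_codRestrict, LinearMap.ker_comp, hq, Submodule.ker_mkQ]
      rw [hk]
      refine Submodule.fg_of_fg_map_injective Q.subtype (Submodule.injective_subtype _) ?_
      rw [Submodule.map_comap_eq, Submodule.range_subtype, inf_eq_right.mpr le_sup_right]
      exact hrfg

end Groth.Agent.S12206
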