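import Groth.Statements.S5763
import Groth.Agent.Topo.IntegralDim

set_option autoImplicit false
universe u
open EGA41

namespace Groth.Agent.S5763

/-- Let ρ : A → B be a ring homomorphism making B an integral A-algebra. Then dim(B) ≤ dim(A), and if ρ
is injective then dim(B) = dim(A) (Krull dimensions). -/
theorem result (A B : Type u) [CommRing A] [CommRing B] [Algebra A B]
    [Algebra.IsIntegral A B] :
    ringKrullDim B ≤ ringKrullDim A ∧
      (Function.Injective (algebraMap A B) → ringKrullDim B = ringKrullDim A) := by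
  have hint : (algebraMap A B).IsIntegral := algebraMap_isIntegral_iff.mpr inferInstance
  have h1 : ringKrullDim B ≤ ringKrullDim A := by
    rw [← PrimeSpectrum.topologicalKrullDim_eq_ringKrullDim, ← PrimeSpectrum.topologicalKrullDim_eq_ringKrullDim]
    refine Groth.Agent.Topo.IntegralDim.dim_le (PrimeSpectrum.comap (algebraMap A B)) (PrimeSpectrum.continuous_comap _) (PrimeSpectrum.isClosedMap_comap_of_isIntegral _ hint) ?_
    intro x y hxy he
    rw [← PrimeSpectrum.le_iff_specializes] at hxy ⊢
    rcases lt_or_eq_of_le hxy with hlt | rfl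
    · exact absurd (congr_arg PrimeSpectrum.asIdeal he) (ne_of_lt (Ideal.IsIntegral.comap_lt_comap (R := A) hlt))
    · rfl
  refine ⟨h1, fun hinj => le_antisymm h1 ?_⟩
  rw [← PrimeSpectrum.topologicalKrullDim_eq_ringKrullDim, ← PrimeSpectrum.topologicalKrullDim_eq_ringKrullDim]
  exact Groth.Agent.Topo.IntegralDim.dim_ge _ (PrimeSpectrum.isClosedMap_comap_of_isIntegral _ hint) (PrimeSpectrum.continuous_comap _) (fun P => by
    obtain ⟨Q, -, hQ, hQP⟩ := Ideal.exists_ideal_over_prime_of_isIntegral (S := B) P.asIdeal ⊥ (by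
      rw [← RingHom.ker_eq_comap_bot, (RingHom.injective_iff_ker_eq_bot _).mp hinj]; exact bot_le)
    exact ⟨⟨Q, hQ⟩, PrimeSpectrum.ext hQP⟩)

end Groth.Agent.S5763
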