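import Groth.Statements.S12208
import Groth.Agent.NoetherInt.Basic
import Groth.Agent.S5763
import Mathlib.RingTheory.KrullDimension.Field
import Mathlib.RingTheory.KrullDimension.Polynomial
import Mathlib.RingTheory.FiniteType

set_option autoImplicit false
universe u
open CAlg

namespace Groth.Agent.S12208

/-- Let k be a field and S = k[x_1, …, x_n]/I with I a proper ideal. Then there exist r ≥ 0 and elements
y_1, …, y_r of k[x_1, …, x_n] lying in the subring generated by x_1, …, x_n (polynomials with
integer coefficients) such that the k-algebra map from the polynomial ring k[t_1, …, t_r] to S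
sending t_i to the class of y_i is injective and finite; and for any r ≥ 0 and any y_1, …, y_r in
k[x_1, …, x_n] (with or without the integer-coefficient condition) for which that map is injective
and finite, r is the Krull dimension of S. -/
theorem result (k : Type u) [Field k] (n : ℕ) (I : Ideal (MvPolynomial (Fin n) k))
    (hI : I ≠ ⊤) :
    (∃ (r : ℕ) (y : Fin r → MvPolynomial (Fin n) k),
      (∀ i, y i ∈ Set.range (MvPolynomial.map (Int.castRingHom k) : MvPolynomial (Fin n) ℤ → MvPolynomial (Fin n) k)) ∧
      Function.Injective ((Ideal.Quotient.mkₐ k I).comp (MvPolynomial.aeval y)) ∧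
      ((Ideal.Quotient.mkₐ k I).comp (MvPolynomial.aeval y)).toRingHom.Finite) ∧
    ∀ (r : ℕ) (y : Fin r → MvPolynomial (Fin n) k),
      Function.Injective ((Ideal.Quotient.mkₐ k I).comp (MvPolynomial.aeval y)) →
      ((Ideal.Quotient.mkₐ k I).comp (MvPolynomial.aeval y)).toRingHom.Finite →
      ringKrullDim (MvPolynomial (Fin n) k ⧸ I) = r := by
  refine ⟨?_, fun r y hinj hfin => ?_⟩
  · obtain ⟨r, y, hy, hinj, hint⟩ := Groth.Agent.NoetherInt.exists_int n I hI
    refine ⟨r, y, hy, hinj, ?_⟩
    have hft : ((Ideal.Quotient.mkₐ k I).comp (MvPolynomial.aeval y)).toRingHom.FiniteType := by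
      refine RingHom.FiniteType.of_comp_finiteType (f := algebraMap k (MvPolynomial (Fin r) k)) ?_
      rw [show (((Ideal.Quotient.mkₐ k I).comp (MvPolynomial.aeval y)).toRingHom.comp
        (algebraMap k (MvPolynomial (Fin r) k))) = algebraMap k (MvPolynomial (Fin n) k ⧸ I) from
          ((Ideal.Quotient.mkₐ k I).comp (MvPolynomial.aeval y)).comp_algebraMap]
      exact RingHom.finiteType_algebraMap.2 inferInstance
    exact RingHom.IsIntegral.to_finite hint hft
  · let φ := ((Ideal.Quotient.mkₐ k I).comp (MvPolynomial.aeval y)).toRingHom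
    letI := φ.toAlgebra
    haveI : Module.Finite (MvPolynomial (Fin r) k) (MvPolynomial (Fin n) k ⧸ I) := hfin
    haveI : Algebra.IsIntegral (MvPolynomial (Fin r) k) (MvPolynomial (Fin n) k ⧸ I) := Algebra.IsIntegral.of_finite _ _
    rw [(Groth.Agent.S5763.result (MvPolynomial (Fin r) k) (MvPolynomial (Fin n) k ⧸ I)).2 hinj,
      MvPolynomial.ringKrullDim_of_isNoetherianRing, ringKrullDim_eq_zero_of_field, zero_add]
    simp

end Groth.Agent.S12208
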