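import Groth.Statements.S12209
import Mathlib

set_option autoImplicit false
set_option linter.style.haveILetI false
universe u
open CAlg

namespace Groth.Agent.S12209

/-- Let (R_i) be a system of commutative rings over a nonempty directed preorder, with colimit R, and
let M be an R-module which is flat as an R_i-module for every i (the R_i-module structure being
restriction of scalars along R_i → R). Then M is flat as an R-module. -/
theorem result {ι : Type u} [Preorder ι] [Nonempty ι] [IsDirectedOrder ι]
    (G : ι → Type u) [∀ i, CommRing (G i)] (f : ∀ i j, i ≤ j → G i →+* G j)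
    [DirectedSystem G fun i j h => f i j h]
    (M : Type u) [AddCommGroup M] [Module (Ring.DirectLimit G fun i j h => f i j h) M]
    (hflat : ∀ i, letI : Module (G i) M := Module.compHom M (Ring.DirectLimit.of G (fun i j h => f i j h) i);
      Module.Flat (G i) M) :
    Module.Flat (Ring.DirectLimit G fun i j h => f i j h) M := by
  classical
  rw [Module.Flat.iff_forall_isTrivialRelation]
  intro l c x hrel
  choose ix cx hcx using fun a : Fin l => Ring.DirectLimit.exists_of (c a)
  obtain ⟨m, hm⟩ := Finset.exists_le (Finset.univ.image ix)
  let d : Fin l → G m := fun a => f (ix a) m (hm _ (Finset.mem_image_of_mem _ (Finset.mem_univ a))) (cx a)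
  have hd : ∀ a, Ring.DirectLimit.of G (fun i j h => f i j h) m (d a) = c a := fun a => by
    rw [← hcx a]; exact Ring.DirectLimit.of_f _ _
  letI : Module (G m) M := Module.compHom M (Ring.DirectLimit.of G (fun i j h => f i j h) m)
  have hfl : Module.Flat (G m) M := hflat m
  have hrel' : ∑ a, d a • x a = 0 := by
    refine Eq.trans (Finset.sum_congr rfl fun a _ => ?_) hrel
    show Ring.DirectLimit.of G (fun i j h => f i j h) m (d a) • x a = c a • x a
    rw [hd]
  obtain ⟨k, A, y, h1, h2⟩ := Module.Flat.iff_forall_isTrivialRelation.mp hfl hrel'
  refine ⟨k, fun a j => Ring.DirectLimit.of G (fun i j h => f i j h) m (A a j), y, fun a => h1 a, fun j => ?_⟩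
  simp only [← hd, ← map_mul, ← map_sum]
  rw [h2 j, map_zero]

end Groth.Agent.S12209
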