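import Groth.Statements.S12215
import Groth.Agent.ModStalk.Localization
import Groth.Agent.HensPoint.WeakAssEt
import Mathlib.AlgebraicGeometry.Modules.Tilde

set_option autoImplicit false
universe u
open CategoryTheory CategoryTheory.Limits AlgebraicGeometry
open Divisors

namespace Groth.Agent.S12215

/-- Let M be a module over a ring A, M~ the associated quasi-coherent module on Spec A and p a prime of
A. Then p is weakly associated to M — p is minimal among the prime ideals containing the annihilator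
of some element of M — if and only if the point p of Spec A is weakly associated to M~, i.e. some
element of the stalk of M~ at p has annihilator whose radical is the maximal ideal of the local
ring. -/
theorem result (A : CommRingCat.{u}) (M : ModuleCat.{u} A) (p : Spec A) :
    p.asIdeal ∈ FlatCA.weakAss A M ↔ Curv2.IsWeakAssPoint (tilde M) p := by
  let N : (AlgebraicGeometry.Spec A).Modules := AlgebraicGeometry.tilde M
  let U : (AlgebraicGeometry.Spec A).Opens := ⊤
  have hU : AlgebraicGeometry.IsAffineOpen U := AlgebraicGeometry.isAffineOpen_top _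
  let x : U := ⟨p, trivial⟩
  let q := (hU.primeIdealOf x).asIdeal
  letI := _root_.Groth.Agent.ModStalk.sectionModule N x
  letI := TopCat.Presheaf.algebra_section_stalk (AlgebraicGeometry.Spec A).presheaf x
  haveI := hU.isLocalization_stalk x
  haveI := _root_.Groth.Agent.ModStalk.sectionTower N x
  haveI := _root_.Groth.Agent.ModStalk.isLocalizedModule_germ hU N x
  have h1 := Groth.Agent.HensPoint.WeakAssEt.weakAss_localization q ((AlgebraicGeometry.Spec A).presheaf.stalk x.1)
    (_root_.Groth.Agent.ModStalk.germₗ N x)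
  have h2 : Curv2.IsWeakAssPoint N p ↔
      IsLocalRing.maximalIdeal ((AlgebraicGeometry.Spec A).presheaf.stalk x.1) ∈
        FlatCA.weakAss ((AlgebraicGeometry.Spec A).presheaf.stalk x.1) (N.presheaf.stalk x.1) := by
    rw [Groth.Agent.HensPoint.WeakAssEt.maximalIdeal_mem_weakAss_iff]
    refine exists_congr fun m => ⟨fun h => ⟨fun h0 => ?_, fun a ha => ?_⟩, fun ⟨h0, h⟩ => ?_⟩
    · refine (IsLocalRing.maximalIdeal.isMaximal ((AlgebraicGeometry.Spec A).presheaf.stalk p)).ne_top ?_
      rw [← h, h0, Ideal.radical_eq_top, eq_top_iff]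
      intro a _
      rw [LinearMap.mem_ker, LinearMap.toSpanSingleton_apply, smul_zero]
    · rw [← h] at ha
      obtain ⟨n, hn⟩ := ha
      exact ⟨n, hn⟩
    · refine le_antisymm (Ideal.IsPrime.radical_le_iff inferInstance |>.mpr fun a ha => ?_) fun a ha => ?_
      · by_contra hc
        exact h0 ((IsLocalRing.notMem_maximalIdeal.mp hc).smul_eq_zero.mp ha)
      · obtain ⟨n, hn⟩ := h a ha
        exact ⟨n, hn⟩
  rw [h2, h1, Groth.Agent.HensPoint.WeakAssEt.mem_weakAss_iff, Groth.Agent.HensPoint.WeakAssEt.mem_weakAss_iff]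
  let e : A →+* Γ(AlgebraicGeometry.Spec A, U) := algebraMap A Γ(AlgebraicGeometry.Spec A, U)
  have he : Function.Surjective e :=
    (CategoryTheory.ConcreteCategory.bijective_of_isIso (AlgebraicGeometry.Scheme.ΓSpecIso A).inv).2
  have hq : ∀ a : A, e a ∉ q ↔ a ∉ p.asIdeal := fun a => by
    refine (_root_.Groth.Agent.ModStalk.germ_mem_primeIdeal_iff hU x _).trans ?_
    show p ∈ (AlgebraicGeometry.Spec A).basicOpen ((AlgebraicGeometry.Scheme.ΓSpecIso A).inv a) ↔ _
    rw [AlgebraicGeometry.basicOpen_eq_of_affine]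
    rfl
  let φ : M →ₗ[A] Γ(N, U) := (AlgebraicGeometry.tilde.toOpen M ⊤).hom
  have hφ : Function.Bijective φ :=
    CategoryTheory.ConcreteCategory.bijective_of_isIso (AlgebraicGeometry.tilde.toOpen M ⊤)
  have hs : ∀ (a : A) (m : M), e a • φ m = φ (a • m) := fun a m => by rw [map_smul, algebraMap_smul]
  have hz : ∀ (a : A) (m : M), e a • φ m = 0 ↔ a • m = 0 := fun a m => by
    rw [hs, map_eq_zero_iff φ hφ.1]
  constructor
  · rintro ⟨m, hm, hma⟩
    refine ⟨φ m, fun t ht h0 => ?_, fun c hc => ?_⟩
    · obtain ⟨a, rfl⟩ := he t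
      exact hm a ((hq a).mp ht) ((hz a m).mp h0)
    · obtain ⟨a, rfl⟩ := he c
      obtain ⟨n, t, ht, h⟩ := hma a (by_contra fun h => (hq a).mpr h hc)
      exact ⟨n, e t, (hq t).mpr ht, by rw [← map_pow, ← map_mul]; exact (hz _ m).mpr h⟩
  · rintro ⟨z, hm, hma⟩
    obtain ⟨m, rfl⟩ := hφ.2 z
    refine ⟨m, fun t ht h0 => hm (e t) ((hq t).mpr ht) ((hz t m).mpr h0), fun a ha => ?_⟩
    obtain ⟨n, c, hc, h⟩ := hma (e a) (by_contra fun h => (hq a).mp h ha)
    obtain ⟨t, rfl⟩ := he c
    exact ⟨n, t, (hq t).mp hc, (hz _ m).mp (by rw [map_mul, map_pow]; exact h)⟩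

end Groth.Agent.S12215
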