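import Groth.Statements.S12216
import Groth.Agent.CSA8.Split
import Mathlib.FieldTheory.IsAlgClosed.AlgebraicClosure
import Mathlib.LinearAlgebra.Dual.Lemmas
import Mathlib.RingTheory.Flat.FaithfullyFlat.Descent
import Mathlib.Algebra.Central.Matrix
import Mathlib.RingTheory.Finiteness.Descent

set_option autoImplicit false
universe u v w
open scoped TensorProduct
open Curves

namespace Groth.Agent.S12216

/-- (1) ⇔ (3): a K-algebra A is finite central simple over the field K (finite-dimensional, with centre
K and no non-trivial two-sided ideals) if and only if, for an algebraic closure K̄ of K, the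
K̄-algebra K̄ ⊗_K A is isomorphic to a matrix algebra Mat(d × d, K̄) for some d ≥ 1. -/
theorem result (K : Type u) [Field K] (A : Type v) [Ring A] [Algebra K A] :
    (Algebra.IsCentral K A ∧ IsSimpleRing A ∧ FiniteDimensional K A) ↔
      Curves.Splits K A (AlgebraicClosure K) := by
  constructor
  · rintro ⟨_, _, _⟩
    obtain ⟨k', i1, i2, hfd, hsep, hs⟩ := Groth.Agent.CSA8.exists_splitting (k := K) A
    exact Groth.Agent.CSA8.splits_mono (AlgebraicClosure K) (IsAlgClosed.lift : k' →ₐ[K] AlgebraicClosure K) hs
  rintro ⟨n, hn, ⟨e⟩⟩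
  set S := AlgebraicClosure K
  have hfin : FiniteDimensional K A := by
    have : FiniteDimensional S (S ⊗[K] A) := e.symm.toLinearEquiv.finiteDimensional
    exact Module.Finite.of_finite_tensorProduct_of_faithfullyFlat S
  have : Nonempty (Fin n) := Fin.pos_iff_nonempty.1 (Nat.pos_of_ne_zero hn)
  have hsimple : IsSimpleRing (S ⊗[K] A) := IsSimpleRing.of_ringEquiv e.symm.toRingEquiv inferInstance
  have hcent : Algebra.IsCentral S (S ⊗[K] A) := ⟨fun x hx => by
    have h : e x ∈ Subalgebra.center S (Matrix (Fin n) (Fin n) S) := Subalgebra.mem_center_iff.2 fun M => by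
      rw [← e.apply_symm_apply M, ← map_mul, ← map_mul, Subalgebra.mem_center_iff.1 hx]
    rw [Algebra.IsCentral.center_eq_bot, Algebra.mem_bot] at h
    obtain ⟨c, hc⟩ := h
    exact Algebra.mem_bot.2 ⟨c, e.injective ((e.commutes c).trans hc)⟩⟩
  have hnt : Nontrivial A := by
    by_contra h
    rw [not_nontrivial_iff_subsingleton] at h
    have : Subsingleton (S ⊗[K] A) := subsingleton_of_forall_eq 0 fun x => by
      induction x using TensorProduct.induction_on with
      | zero => rfl
      | tmul s a => rw [Subsingleton.elim a 0, TensorProduct.tmul_zero]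
      | add _ _ h₁ h₂ => rw [h₁, h₂, add_zero]
    exact false_of_nontrivial_of_subsingleton (S ⊗[K] A)
  refine ⟨⟨fun z hz => ?_⟩, ?_, hfin⟩
  · have hz' : (1 : S) ⊗ₜ[K] z ∈ Subalgebra.center S (S ⊗[K] A) := Subalgebra.mem_center_iff.2 fun x => by
      induction x using TensorProduct.induction_on with
      | zero => simp
      | tmul s a => simp [Subalgebra.mem_center_iff.1 hz a]
      | add _ _ h₁ h₂ => rw [add_mul, mul_add, h₁, h₂]
    rw [Algebra.IsCentral.center_eq_bot, Algebra.mem_bot] at hz'
    obtain ⟨s, hs⟩ := hz'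
    rw [Algebra.TensorProduct.algebraMap_apply] at hs
    by_contra hzk
    have h1 : (1 : A) ≠ 0 := one_ne_zero
    have hspan : z ∉ Submodule.span K {(1 : A)} := fun h => by
      obtain ⟨c, hc⟩ := Submodule.mem_span_singleton.1 h
      exact hzk (Algebra.mem_bot.2 ⟨c, by rw [← hc, Algebra.algebraMap_eq_smul_one]⟩)
    obtain ⟨φ, hφz, hφ⟩ := Submodule.exists_dual_map_eq_bot_of_notMem hspan inferInstance
    have h0 : φ 1 = 0 := by
      have : φ 1 ∈ (Submodule.span K {(1 : A)}).map φ := ⟨1, Submodule.mem_span_singleton_self _, rfl⟩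
      rw [hφ] at this; exact this
    have h2 := congrArg (LinearMap.lTensor S φ) hs
    rw [LinearMap.lTensor_tmul, LinearMap.lTensor_tmul, Algebra.algebraMap_self_apply, h0, TensorProduct.tmul_zero] at h2
    have h3 := congrArg (TensorProduct.rid K S) h2
    rw [map_zero, TensorProduct.rid_tmul, eq_comm, smul_eq_zero] at h3
    exact h3.elim hφz one_ne_zero
  · refine IsSimpleRing.of_eq_bot_or_eq_top fun I => or_iff_not_imp_left.2 fun hI => ?_
    obtain ⟨a, ha, ha0⟩ : ∃ a ∈ I, a ≠ 0 := by
      by_contra! h; exact hI (eq_bot_iff.2 fun x hx => (TwoSidedIdeal.mem_bot _).2 (h x hx))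
    let J : Submodule K (S ⊗[K] A) := LinearMap.range (LinearMap.lTensor S
      ({ carrier := I, add_mem' := I.add_mem, zero_mem' := I.zero_mem, smul_mem' := fun c x hx => by rw [Algebra.smul_def]; exact I.mul_mem_left _ _ hx } : Submodule K A).subtype)
    let T : TwoSidedIdeal (S ⊗[K] A) := TwoSidedIdeal.mk' J J.zero_mem J.add_mem J.neg_mem
      (fun {x y} hy => by
        obtain ⟨w, rfl⟩ := hy
        induction w using TensorProduct.induction_on with
        | zero => simp
        | tmul s b =>
          induction x using TensorProduct.induction_on with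
          | zero => simp
          | tmul t c => exact ⟨(t * s) ⊗ₜ ⟨c * b, I.mul_mem_left _ _ b.2⟩, by simp⟩
          | add _ _ h₁ h₂ => rw [add_mul]; exact J.add_mem h₁ h₂
        | add _ _ h₁ h₂ => rw [map_add, mul_add]; exact J.add_mem h₁ h₂)
      (fun {x y} hx => by
        obtain ⟨w, rfl⟩ := hx
        induction w using TensorProduct.induction_on with
        | zero => simp
        | tmul s b =>
          induction y using TensorProduct.induction_on with
          | zero => simp
          | tmul t c => exact ⟨(s * t) ⊗ₜ ⟨b * c, I.mul_mem_right _ _ b.2⟩, by simp⟩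
          | add _ _ h₁ h₂ => rw [mul_add]; exact J.add_mem h₁ h₂
        | add _ _ h₁ h₂ => rw [map_add, add_mul]; exact J.add_mem h₁ h₂)
    have hT : ∀ x, x ∈ T ↔ x ∈ J := fun x => TwoSidedIdeal.mem_mk' ..
    have htop : T = ⊤ := (eq_bot_or_eq_top T).resolve_left fun h => by
      have h1 : (1 : S) ⊗ₜ[K] a ∈ T := (hT _).2 ⟨1 ⊗ₜ ⟨a, ha⟩, rfl⟩
      rw [h] at h1
      have h2 := (TwoSidedIdeal.mem_bot _).1 h1
      exact ha0 (Algebra.TensorProduct.includeRight_injective (algebraMap K S).injective
        (show (Algebra.TensorProduct.includeRight : A →ₐ[K] S ⊗[K] A) a = _ by rw [map_zero]; exact h2))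
    by_contra hne
    have h1 : (1 : A) ∉ I := fun h => hne (eq_top_iff.2 fun x _ => by simpa using I.mul_mem_left x _ h)
    let W : Submodule K A := { carrier := I, add_mem' := I.add_mem, zero_mem' := I.zero_mem, smul_mem' := fun c x hx => by rw [Algebra.smul_def]; exact I.mul_mem_left _ _ hx }
    obtain ⟨φ, hφ1, hφ⟩ := Submodule.exists_dual_map_eq_bot_of_notMem (p := W) h1 inferInstance
    obtain ⟨w, hw⟩ := (hT _).1 (show (1 : S ⊗[K] A) ∈ T from htop ▸ trivial)
    have hc : φ.comp W.subtype = 0 := LinearMap.ext fun x => by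
      have : φ x ∈ W.map φ := ⟨x, x.2, rfl⟩
      rw [hφ] at this; exact this
    have h2 := congrArg (LinearMap.lTensor S φ) hw
    rw [← LinearMap.comp_apply, ← LinearMap.lTensor_comp, hc, LinearMap.lTensor_zero, LinearMap.zero_apply,
      Algebra.TensorProduct.one_def, LinearMap.lTensor_tmul] at h2
    have h3 := congrArg (TensorProduct.rid K S) h2
    rw [map_zero, TensorProduct.rid_tmul, eq_comm, smul_eq_zero] at h3
    exact h3.elim hφ1 one_ne_zero

end Groth.Agent.S12216
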