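import Groth.Statements.S12227
import Groth.Agent.Roofs.Basic

set_option autoImplicit false
universe w v u
open CategoryTheory CategoryTheory.Limits
open CohDer

namespace Groth.Agent.S12227

/-- Full faithfulness of K⁻(A)[Qis⁻¹] → D⁻(A), written in terms of roofs. Let A be an abelian category
and K, L complexes which are zero above some degree, viewed in the homotopy category. Then every
morphism Qh(K) → Qh(L) in the derived category is Qh(s)⁻¹ ≫ Qh(f) for some quasi-isomorphism s : K'
→ K and map f : K' → L of K(A) with K' again zero above some degree; and two maps f₁, f₂ : K → L of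
K(A) become equal in D(A) only if s ≫ f₁ = s ≫ f₂ for some quasi-isomorphism s : K' → K with K' zero
above some degree. (That the kernel of K⁻(A) → D(A) consists of the acyclic complexes and that the
essential image is D⁻(A) are separate statements.) -/
theorem result {A : Type u} [Category.{v} A] [Abelian A] [HasDerivedCategory.{w} A]
    (K L : HomotopyCategory A (ComplexShape.up ℤ)) (a b : ℤ) [CochainComplex.IsStrictlyLE K.as a] [CochainComplex.IsStrictlyLE L.as b] :
    (∀ φ : DerivedCategory.Qh.obj K ⟶ DerivedCategory.Qh.obj L,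
      ∃ (K' : HomotopyCategory A (ComplexShape.up ℤ)) (n : ℤ) (_ : CochainComplex.IsStrictlyLE K'.as n) (s : K' ⟶ K) (f : K' ⟶ L),
        HomotopyCategory.quasiIso A (ComplexShape.up ℤ) s ∧ DerivedCategory.Qh.map s ≫ φ = DerivedCategory.Qh.map f) ∧
    (∀ f₁ f₂ : K ⟶ L, DerivedCategory.Qh.map f₁ = DerivedCategory.Qh.map f₂ →
      ∃ (K' : HomotopyCategory A (ComplexShape.up ℤ)) (n : ℤ) (_ : CochainComplex.IsStrictlyLE K'.as n) (s : K' ⟶ K),
        HomotopyCategory.quasiIso A (ComplexShape.up ℤ) s ∧ s ≫ f₁ = s ≫ f₂) := by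
  obtain ⟨K, rfl⟩ := HomotopyCategory.quotient_obj_surjective K
  obtain ⟨L, rfl⟩ := HomotopyCategory.quotient_obj_surjective L
  haveI : CochainComplex.IsStrictlyLE K a := ‹CochainComplex.IsStrictlyLE ((HomotopyCategory.quotient A (ComplexShape.up ℤ)).obj K).as a›
  let q := HomotopyCategory.quotient A (ComplexShape.up ℤ)
  let e := DerivedCategory.quotientCompQhIso A
  have hQ : ∀ {X Y : CochainComplex A ℤ} (g : X ⟶ Y),
      DerivedCategory.Qh.map (q.map g) = e.hom.app X ≫ DerivedCategory.Q.map g ≫ e.inv.app Y := fun {X Y} g => by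
    rw [← e.hom.naturality_assoc g, Iso.hom_inv_id_app]
    exact (Category.comp_id _).symm
  refine ⟨fun φ => ?_, fun f₁ f₂ h => ?_⟩
  · obtain ⟨K', hK', s, hs, g, hφ⟩ := DerivedCategory.right_fac_of_isStrictlyLE (e.inv.app K ≫ φ ≫ e.hom.app L) a
    refine ⟨q.obj K', a, hK', q.map s, q.map g, (HomotopyCategory.quotient_map_mem_quasiIso_iff s).2
      ((DerivedCategory.isIso_Q_map_iff_quasiIso A s).1 hs), ?_⟩
    haveI := hs
    have h1 : φ = e.hom.app K ≫ inv (DerivedCategory.Q.map s) ≫ DerivedCategory.Q.map g ≫ e.inv.app L := by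
      rw [← Category.assoc (inv _), ← hφ]
      simp only [Category.assoc, Iso.hom_inv_id_app_assoc, Iso.hom_inv_id_app]
      exact (Category.comp_id _).symm
    rw [h1, hQ, hQ]
    simp only [Category.assoc, Iso.inv_hom_id_app_assoc, IsIso.hom_inv_id_assoc]
  · obtain ⟨g₁, rfl⟩ := q.map_surjective f₁
    obtain ⟨g₂, rfl⟩ := q.map_surjective f₂
    obtain ⟨K', hK', s, hs, ⟨H⟩⟩ := Groth.Agent.Roofs.exists_right K L a g₁ g₂ (by
      rw [hQ, hQ] at h
      exact (cancel_epi (e.hom.app K)).1 ((cancel_mono (e.inv.app L)).1 (by simpa only [Category.assoc] using h)))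
    exact ⟨q.obj K', a, hK', q.map s, (HomotopyCategory.quotient_map_mem_quasiIso_iff s).2 hs, by
      rw [← Functor.map_comp, ← Functor.map_comp]; exact HomotopyCategory.eq_of_homotopy _ _ H⟩

end Groth.Agent.S12227
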