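import Groth.Statements.S12228
import Groth.Agent.Roofs.Basic

set_option autoImplicit false
universe w v u
open CategoryTheory CategoryTheory.Limits
open CohDer

namespace Groth.Agent.S12228

/-- Full faithfulness of Kᵇ(A)[Qis⁻¹] → Dᵇ(A), written in terms of roofs. Let A be an abelian category
and K, L bounded complexes (zero outside a finite range of degrees), viewed in the homotopy
category. Then every morphism Qh(K) → Qh(L) in the derived category is Qh(f) ≫ Qh(t)⁻¹ for some map
f : K → L' and quasi-isomorphism t : L → L' of K(A) with L' again bounded; and two maps f₁, f₂ : K →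
L of K(A) become equal in D(A) only if f₁ ≫ t = f₂ ≫ t for some quasi-isomorphism t : L → L' with L'
bounded. -/
theorem result {A : Type u} [Category.{v} A] [Abelian A] [HasDerivedCategory.{w} A]
    (K L : HomotopyCategory A (ComplexShape.up ℤ)) (a b a' b' : ℤ) [CochainComplex.IsStrictlyGE K.as a] [CochainComplex.IsStrictlyLE K.as b]
    [CochainComplex.IsStrictlyGE L.as a'] [CochainComplex.IsStrictlyLE L.as b'] :
    (∀ φ : DerivedCategory.Qh.obj K ⟶ DerivedCategory.Qh.obj L,
      ∃ (L' : HomotopyCategory A (ComplexShape.up ℤ)) (m n : ℤ) (_ : CochainComplex.IsStrictlyGE L'.as m) (_ : CochainComplex.IsStrictlyLE L'.as n) (f : K ⟶ L') (t : L ⟶ L'),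
        HomotopyCategory.quasiIso A (ComplexShape.up ℤ) t ∧ φ ≫ DerivedCategory.Qh.map t = DerivedCategory.Qh.map f) ∧
    (∀ f₁ f₂ : K ⟶ L, DerivedCategory.Qh.map f₁ = DerivedCategory.Qh.map f₂ →
      ∃ (L' : HomotopyCategory A (ComplexShape.up ℤ)) (m n : ℤ) (_ : CochainComplex.IsStrictlyGE L'.as m) (_ : CochainComplex.IsStrictlyLE L'.as n) (t : L ⟶ L'),
        HomotopyCategory.quasiIso A (ComplexShape.up ℤ) t ∧ f₁ ≫ t = f₂ ≫ t) := by
  obtain ⟨K, rfl⟩ := HomotopyCategory.quotient_obj_surjective K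
  obtain ⟨L, rfl⟩ := HomotopyCategory.quotient_obj_surjective L
  haveI : CochainComplex.IsStrictlyLE K b := ‹CochainComplex.IsStrictlyLE ((HomotopyCategory.quotient A (ComplexShape.up ℤ)).obj K).as b›
  haveI : CochainComplex.IsStrictlyLE L b' := ‹CochainComplex.IsStrictlyLE ((HomotopyCategory.quotient A (ComplexShape.up ℤ)).obj L).as b'›
  haveI : CochainComplex.IsStrictlyGE L a' := ‹CochainComplex.IsStrictlyGE ((HomotopyCategory.quotient A (ComplexShape.up ℤ)).obj L).as a'›
  haveI : CochainComplex.IsStrictlyLE K (max b b') := CochainComplex.isStrictlyLE_of_le K b _ (le_max_left _ _)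
  haveI : CochainComplex.IsStrictlyLE L (max b b') := CochainComplex.isStrictlyLE_of_le L b' _ (le_max_right _ _)
  let q := HomotopyCategory.quotient A (ComplexShape.up ℤ)
  let e := DerivedCategory.quotientCompQhIso A
  have hQ : ∀ {X Y : CochainComplex A ℤ} (g : X ⟶ Y),
      DerivedCategory.Qh.map (q.map g) = e.hom.app X ≫ DerivedCategory.Q.map g ≫ e.inv.app Y := fun {X Y} g => by
    rw [← e.hom.naturality_assoc g, Iso.hom_inv_id_app]
    exact (Category.comp_id _).symm
  refine ⟨fun φ => ?_, fun f₁ f₂ h => ?_⟩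
  · obtain ⟨L', h₁, h₂, g, t, ht, hφ⟩ :=
      DerivedCategory.left_fac_of_isStrictlyLE_of_isStrictlyGE a' (max b b') (e.inv.app K ≫ φ ≫ e.hom.app L)
    refine ⟨q.obj L', a', max b b', h₁, h₂, q.map g, q.map t, (HomotopyCategory.quotient_map_mem_quasiIso_iff t).2
      ((DerivedCategory.isIso_Q_map_iff_quasiIso A t).1 ht), ?_⟩
    haveI := ht
    have h1 : φ = e.hom.app K ≫ DerivedCategory.Q.map g ≫ inv (DerivedCategory.Q.map t) ≫ e.inv.app L := by
      rw [← Category.assoc (DerivedCategory.Q.map g), ← hφ]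
      simp only [Category.assoc, Iso.hom_inv_id_app_assoc, Iso.hom_inv_id_app]
      exact (Category.comp_id _).symm
    rw [h1, hQ, hQ]
    simp only [Category.assoc, Iso.inv_hom_id_app_assoc, IsIso.inv_hom_id_assoc]
  · obtain ⟨g₁, rfl⟩ := q.map_surjective f₁
    obtain ⟨g₂, rfl⟩ := q.map_surjective f₂
    obtain ⟨L', h₁, h₂, t, ht, ⟨H⟩⟩ := Groth.Agent.Roofs.exists_left K L a' (max b b') g₁ g₂ (by
      rw [hQ, hQ] at h
      exact (cancel_epi (e.hom.app K)).1 ((cancel_mono (e.inv.app L)).1 (by simpa only [Category.assoc] using h)))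
    exact ⟨q.obj L', a', max b b', h₁, h₂, q.map t, (HomotopyCategory.quotient_map_mem_quasiIso_iff t).2 ht, by
      rw [← Functor.map_comp, ← Functor.map_comp]; exact HomotopyCategory.eq_of_homotopy _ _ H⟩

end Groth.Agent.S12228
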