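import Groth.Statements.S12248
import Groth.Agent.Misc9.SF.Prorep
-- import your own Groth.Agent.* helpers here

set_option autoImplicit false
universe u v
open CategoryTheory
open Deform

namespace Groth.Agent.S12248

/-- Let k be an algebraically closed field, Λ a complete local Noetherian k-algebra with residue field
k, and F a set-valued functor on local Artinian Λ-algebras with residue field k such that F(k) is a
single point, with its k-vector-space structure on F(k[ε]) given as data compatible with ε ↦ cε and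
(ε₁, ε₂) ↦ (ε, ε). Then F is prorepresentable (by a complete local Noetherian Λ-algebra with residue
field k) if and only if: the comparison map F(A' ×_A A'') → F(A') ×_{F(A)} F(A'') is surjective
whenever A'' → A is a small extension; it is bijective whenever A = k and A'' = k[ε]; F(k[ε]) is
finite-dimensional; and the comparison map F(A' ×_A A') → F(A') ×_{F(A)} F(A') is bijective for
every small extension A' → A. -/
theorem result
    {k Λ : Type u} [Field k] [IsAlgClosed k] [CommRing Λ] [IsLocalRing Λ] [IsNoetherianRing Λ]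
    [IsAdicComplete (IsLocalRing.maximalIdeal Λ) Λ] [Algebra k Λ] [Algebra Λ k] [IsScalarTower k Λ k]
    (F : ArtFun.Art Λ k ⥤ Type v) [ArtFun.TangentStr F] (h0 : ArtFun.H0 F) :
    ArtFun.IsProrepresentable F ↔
      (ArtFun.Hbar F ∧ ArtFun.Heps F ∧ ArtFun.Hfin F ∧ ArtFun.HSq F) := by
  have hsurj : Function.Surjective (algebraMap Λ k) := fun c => ⟨algebraMap k Λ c, (IsScalarTower.algebraMap_apply k Λ k c).symm⟩
  haveI : Module.Finite Λ k := Module.Finite.of_surjective (Algebra.linearMap Λ k) hsurj
  haveI := Misc9.SF.base_dual_subsingleton_of_surjective (Λ := Λ) hsurj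
  constructor
  · rintro ⟨⟨R, ξ, hξ⟩⟩
    have hl := Misc9.SF.isLeftExact_of_isUniversal hξ
    exact ⟨fun B A A' A'' p' p'' f' f'' h _ => (hl p' p'' f' f'' h).2, fun B A' p' p'' h => hl p' p'' _ _ h,
      Misc9.SF.hfin_of_miniversal R (Misc9.SF.isMiniversal_of_isUniversal hξ), fun B A A' p₁ p₂ f h _ => hl p₁ p₂ f f h⟩
  · rintro ⟨h1, h2, h3, h4⟩
    obtain ⟨R, ξ, hv, hs, hi⟩ := Misc9.SF.exists_versal F h0 ((Misc9.SF.s1_iff_hbar F).2 h1) h2 h3
    exact ⟨⟨R, ξ, Misc9.SF.isUniversal_of_isMiniversal h0 h4 ξ ⟨hv, hi fun _ σ τ _ => Subsingleton.elim σ τ, hs⟩⟩⟩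

end Groth.Agent.S12248
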