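import Groth.Statements.S12249
import Mathlib
-- import your own Groth.Agent.* helpers here

set_option autoImplicit false
universe u v
open CategoryTheory
open Deform

namespace Groth.Agent.S12249

/-- Let k be an algebraically closed field and F a set-valued functor on local Artinian k-algebras with
residue field k such that F(k) is a single point. If F has a semiuniversal formal element and its
tangent space F(k[ε]) is reduced to one element, then F(A) consists of exactly one element for every
A: F is the constant one-point functor h_k. -/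
theorem result
    {k : Type u} [Field k] [IsAlgClosed k]
    (F : ArtFun.Art k k ⥤ Type v) (h0 : ArtFun.H0 F) (hF : ArtFun.HasHull F)
    (ht : Subsingleton (ArtFun.TangentSpace F)) (A : ArtFun.Art k k) :
    Nonempty (F.obj A) ∧ Subsingleton (F.obj A) := by
  obtain ⟨H⟩ := hF
  let R := H.ring.carrier
  let res : R →ₐ[k] k := H.ring.res
  let m := IsLocalRing.maximalIdeal R
  have hker : RingHom.ker res = m :=
    IsLocalRing.eq_maximalIdeal (RingHom.ker_isMaximal_of_surjective (res : R →+* k) H.ring.res_surjective)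
  have hres : ∀ r : R, r - algebraMap k R (res r) ∈ m := fun r => by
    rw [← hker, RingHom.mem_ker, map_sub, AlgHom.commutes]
    simp
  have hsub : Subsingleton (ArtFun.HomSet R res (ArtFun.Art.dual k k)) :=
    ⟨fun x y => H.miniversal.2.1 (ht.elim _ _)⟩
  have hle : Submodule.span k {(1 : R)} ⊔ (m ^ 2).restrictScalars k = ⊤ := by
    by_contra hne
    obtain ⟨ℓ, hℓ0, hℓ⟩ := Submodule.exists_le_ker_of_lt_top _ (lt_top_iff_ne_top.2 hne)
    have h1 : ℓ 1 = 0 := hℓ (Submodule.mem_sup_left (Submodule.mem_span_singleton_self 1))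
    have h2 : ∀ x ∈ m ^ 2, ℓ x = 0 := fun x hx => hℓ (Submodule.mem_sup_right hx)
    have hmul : ∀ r s : R, ℓ (r * s) = res r * ℓ s + res s * ℓ r := fun r s => by
      have h3 := h2 _ (by rw [pow_two]; exact Ideal.mul_mem_mul (hres r) (hres s))
      have h4 : (r - algebraMap k R (res r)) * (s - algebraMap k R (res s)) =
          r * s - res r • s - res s • r + (res r * res s) • (1 : R) := by
        rw [Algebra.smul_def, Algebra.smul_def, Algebra.smul_def, map_mul]; ring
      rw [h4, map_add, map_sub, map_sub, map_smul, map_smul, map_smul, h1, smul_zero, add_zero] at h3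
      simp only [smul_eq_mul] at h3
      linear_combination h3
    let φ : R →ₐ[k] DualNumber k := AlgHom.ofLinearMap
      { toFun := fun r => (res r, ℓ r)
        map_add' := fun r s => TrivSqZeroExt.ext (map_add res r s) (map_add ℓ r s)
        map_smul' := fun c r => TrivSqZeroExt.ext (map_smul res c r) (map_smul ℓ c r) }
      (TrivSqZeroExt.ext (map_one res) h1)
      (fun r s => TrivSqZeroExt.ext (map_mul res r s) (by
        change ℓ (r * s) = res r • ℓ s + MulOpposite.op (res s) • ℓ r
        rw [hmul, op_smul_eq_smul, smul_eq_mul, smul_eq_mul]))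
    let φ₀ : R →ₐ[k] DualNumber k := (Algebra.ofId k (DualNumber k)).comp res
    have heq : φ = φ₀ := congrArg Subtype.val (hsub.elim ⟨φ, AlgHom.ext fun r => rfl⟩ ⟨φ₀, AlgHom.ext fun r => rfl⟩)
    apply hℓ0
    refine LinearMap.ext fun r => ?_
    have := congrArg TrivSqZeroExt.snd (DFunLike.congr_fun heq r)
    exact this
  have hm : m = ⊥ := by
    refine Submodule.eq_bot_of_le_smul_of_le_jacobson_bot m m (IsNoetherian.noetherian m) (fun x hx => ?_)
      (IsLocalRing.maximalIdeal_le_jacobson ⊥)
    have hx' : x ∈ Submodule.span k {(1 : R)} ⊔ (m ^ 2).restrictScalars k := hle ▸ Submodule.mem_top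
    obtain ⟨c, hc, y, hy, rfl⟩ := Submodule.mem_sup.1 hx'
    obtain ⟨c, rfl⟩ := Submodule.mem_span_singleton.1 hc
    have hy' : y ∈ m ^ 2 := hy
    rw [smul_eq_mul, ← pow_two]
    have h0 : res (c • (1 : R) + y) = 0 := by rwa [← RingHom.mem_ker, hker]
    have h1 : res y = 0 := by
      rw [← RingHom.mem_ker, hker]
      exact Ideal.pow_le_self two_ne_zero hy'
    rw [map_add, h1, add_zero, map_smul, map_one, smul_eq_mul, mul_one] at h0
    rwa [h0, zero_smul, zero_add]
  have huniq : ∀ ψ ψ' : ArtFun.HomSet R res A, ψ = ψ' := fun ψ ψ' => Subtype.ext (AlgHom.ext fun r => by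
    have h0 := hres r
    rw [hm, Ideal.mem_bot, sub_eq_zero] at h0
    rw [h0, AlgHom.commutes, AlgHom.commutes])
  have hsurj : ∀ y : F.obj A, ∃ ψ : ArtFun.HomSet R res A, H.family.app A ψ = y := fun y => by
    obtain ⟨ψ, -, hψ⟩ := H.miniversal.1 (ArtFun.Art.toBase A) A.res_surjective
      ⟨res, AlgHom.id_comp res⟩ y (h0.2.elim _ _)
    exact ⟨ψ, hψ⟩
  refine ⟨⟨H.family.app A ⟨(Algebra.ofId k A).comp res, AlgHom.ext fun r => by simp [res]⟩⟩, ⟨fun y y' => ?_⟩⟩
  obtain ⟨ψ, rfl⟩ := hsurj y
  obtain ⟨ψ', rfl⟩ := hsurj y'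
  rw [huniq ψ ψ']

end Groth.Agent.S12249
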