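import Groth.Statements.S12252
import Groth.Agent.Misc9.ArtQuot
-- import your own Groth.Agent.* helpers here

set_option autoImplicit false
universe u v
open CategoryTheory
open Deform

namespace Groth.Agent.S12252

/-- Let k be an algebraically closed field, Λ a complete local Noetherian k-algebra with residue field k
and F a set-valued functor on local Artinian Λ-algebras with residue field k. If (R, u) and (S, v)
both prorepresent F (complete local Noetherian Λ-algebras with residue field k carrying universal
families), then there is a unique isomorphism of Λ-algebras R ≅ S, compatible with the augmentations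
to k, along which the universal family of R is transported to that of S. -/
theorem result
    {k Λ : Type u} [Field k] [IsAlgClosed k] [CommRing Λ] [IsLocalRing Λ] [IsNoetherianRing Λ]
    [IsAdicComplete (IsLocalRing.maximalIdeal Λ) Λ] [Algebra k Λ] [Algebra Λ k] [IsScalarTower k Λ k]
    {F : ArtFun.Art Λ k ⥤ Type v} (P Q : ArtFun.ProRep F) :
    ∃! e : P.ring.carrier ≃ₐ[Λ] Q.ring.carrier,
      ∃ he : Q.ring.res.comp e.toAlgHom = P.ring.res, P.family.along e.toAlgHom he = Q.family := by
  obtain ⟨g, hg, hgf⟩ := Misc9.ArtQuot.exists_hom P Q.ring Q.family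
  obtain ⟨h, hh, hhf⟩ := Misc9.ArtQuot.exists_hom Q P.ring P.family
  have hgh : g.comp h = AlgHom.id _ _ := by
    refine Misc9.ArtQuot.hom_unique Q Q.ring (hg := by rw [← AlgHom.comp_assoc, hg, hh]) (hg' := AlgHom.comp_id _) ?_
    change (Q.family.along h hh).along g hg = Q.family
    rw [hhf, hgf]
  have hhg : h.comp g = AlgHom.id _ _ := by
    refine Misc9.ArtQuot.hom_unique P P.ring (hg := by rw [← AlgHom.comp_assoc, hh, hg]) (hg' := AlgHom.comp_id _) ?_
    change (P.family.along g hg).along h hh = P.family
    rw [hgf, hhf]
  refine ⟨AlgEquiv.ofAlgHom g h hgh hhg, ⟨hg, hgf⟩, ?_⟩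
  rintro e ⟨he, hef⟩
  exact AlgEquiv.ext (AlgHom.congr_fun (Misc9.ArtQuot.hom_unique P Q.ring (hef.trans hgf.symm)))

end Groth.Agent.S12252
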