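import Groth.Statements.S12258
import Groth.Agent.Misc9.SF.Limits
-- import your own Groth.Agent.* helpers here

set_option autoImplicit false
universe u v
open CategoryTheory CategoryTheory.Limits
open Deform

namespace Groth.Agent.S12258

/-- Let k be an algebraically closed field, Λ a complete local Noetherian k-algebra with residue field
k, and F, G set-valued functors on local Artinian Λ-algebras with residue field k, each with
one-point value at k. If F and G are smooth functors, i.e. F(B) → F(A) and G(B) → G(A) are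
surjective for every surjection B → A, then the product functor F × G is smooth. -/
theorem result
    {k Λ : Type u} [Field k] [IsAlgClosed k] [CommRing Λ] [IsLocalRing Λ] [IsNoetherianRing Λ]
    [IsAdicComplete (IsLocalRing.maximalIdeal Λ) Λ] [Algebra k Λ] [Algebra Λ k] [IsScalarTower k Λ k]
    {F G : ArtFun.Art Λ k ⥤ Type v}
    (hF : ArtFun.H0 F) (hG : ArtFun.H0 G) (sF : ArtFun.IsSmoothFunctor F) (sG : ArtFun.IsSmoothFunctor G) :
    ArtFun.IsSmoothFunctor (F ⨯ G) := by
  intro B A μ hμ z
  obtain ⟨a, ha⟩ := sF μ hμ ((Limits.prod.fst : F ⨯ G ⟶ F).app A z)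
  obtain ⟨b, hb⟩ := sG μ hμ ((Limits.prod.snd : F ⨯ G ⟶ G).app A z)
  have hsq : ∀ C, IsPullback ((Limits.prod.fst : F ⨯ G ⟶ F).app C) ((Limits.prod.snd : F ⨯ G ⟶ G).app C)
      ((Limits.terminal.from F).app C) ((Limits.terminal.from G).app C) := fun C =>
    (IsPullback.of_is_product (Limits.prodIsProd F G) Limits.terminalIsTerminal).map ((evaluation _ _).obj C)
  have hterm : ∀ C, Subsingleton ((⊤_ (ArtFun.Art Λ k ⥤ Type v)).obj C) := fun C => by
    have h := Limits.IsTerminal.isTerminalObj ((evaluation _ _).obj C) (⊤_ (ArtFun.Art Λ k ⥤ Type v)) Limits.terminalIsTerminal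
    exact ⟨fun p q => congrArg (fun f : PUnit.{v+1} ⟶ _ => f PUnit.unit) (h.hom_ext (↾fun _ => p) (↾fun _ => q))⟩
  obtain ⟨w, hw, hw'⟩ := Limits.Types.exists_of_isPullback (hsq B) a b ((hterm B).elim _ _)
  refine ⟨w, Limits.Types.ext_of_isPullback (hsq A) ?_ ?_⟩
  · rw [NatTrans.naturality_apply, hw, ha]
  · rw [NatTrans.naturality_apply, hw', hb]

end Groth.Agent.S12258
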