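import Groth.Statements.S1227
import Mathlib

set_option autoImplicit false
universe u
open FlatMor

namespace Groth.Agent.S1227

open TensorProduct in
/-- Let u be a surjective linear map from a projective A-module M to an A-module N. Then there is an
ideal I of A such that for every A-algebra B, the base change u ⊗ 1 from B ⊗ M to B ⊗ N is bijective
if and only if the image of I in B is zero. -/
theorem result {A : Type u} [CommRing A] {M N : Type u} [AddCommGroup M] [Module A M] [Module.Projective A M]
    [AddCommGroup N] [Module A N] (u : M →ₗ[A] N) (hu : Function.Surjective u) :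
    ∃ I : Ideal A, ∀ (B : Type u) [CommRing B] [Algebra A B],
      Function.Bijective (u.baseChange B) ↔ I.map (algebraMap A B) = ⊥ := by
  classical
  obtain ⟨s, hs⟩ := Module.projective_def.mp (inferInstance : Module.Projective A M)
  refine ⟨Ideal.span {a | ∃ x, u x = 0 ∧ ∃ i, s x i = a}, fun B _ _ => ?_⟩
  have hker := lTensor_exact B (LinearMap.exact_subtype_ker_map u) hu
  have hinj : Function.Injective (s.baseChange B) := by
    intro a b hab
    have := congrArg ((Finsupp.linearCombination A (id : M → M)).baseChange B) hab
    rwa [← LinearMap.comp_apply, ← LinearMap.comp_apply, ← LinearMap.baseChange_comp,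
      show Finsupp.linearCombination A (id : M → M) ∘ₗ s = LinearMap.id from LinearMap.ext hs,
      LinearMap.baseChange_id] at this
  have hzero : ∀ x : M, (1 : B) ⊗ₜ[A] x = 0 ↔ ∀ i, algebraMap A B (s x i) = 0 := by
    intro x
    constructor
    · intro h i
      have := congrArg (fun z => TensorProduct.finsuppScalarRight A A B M (s.baseChange B z) i) h
      simpa [Algebra.algebraMap_eq_smul_one] using this
    · intro h
      refine hinj ?_
      rw [map_zero, LinearMap.baseChange_tmul]
      refine (TensorProduct.finsuppScalarRight A A B M).injective (Finsupp.ext fun i => ?_)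
      simpa [Algebra.algebraMap_eq_smul_one] using h i
  constructor
  · intro hbij
    rw [Ideal.map_span, Ideal.span_eq_bot]
    rintro _ ⟨_, ⟨x, hx, i, rfl⟩, rfl⟩
    refine (hzero x).mp (hbij.1 ?_) i
    rw [map_zero, LinearMap.baseChange_tmul, hx, TensorProduct.tmul_zero]
  · intro hI
    refine ⟨?_, LinearMap.lTensor_surjective B hu⟩
    rw [injective_iff_map_eq_zero]
    intro y hy
    obtain ⟨z, rfl⟩ := (hker y).mp hy
    induction z using TensorProduct.induction_on with
    | zero => rw [map_zero]
    | add a b ha hb =>
      have h0 : ∀ w, u.baseChange B (LinearMap.lTensor B (LinearMap.ker u).subtype w) = 0 :=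
        fun w => (hker _).mpr ⟨w, rfl⟩
      rw [map_add, ha (h0 a), hb (h0 b), add_zero]
    | tmul b x =>
      rw [LinearMap.lTensor_tmul, show b = b • (1 : B) from (mul_one b).symm,
        ← TensorProduct.smul_tmul', (hzero _).mpr fun i => ?_, smul_zero]
      have hmem : s ((LinearMap.ker u).subtype x) i ∈
          Ideal.span {a | ∃ x, u x = 0 ∧ ∃ i, s x i = a} :=
        Ideal.subset_span ⟨_, x.2, i, rfl⟩
      have := Ideal.mem_map_of_mem (algebraMap A B) hmem
      rwa [hI, Ideal.mem_bot] at this

end Groth.Agent.S1227
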