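import Groth.Statements.S12299
import Groth.Agent.Misc9.SF.Formal
-- import your own Groth.Agent.* helpers here

set_option autoImplicit false
universe u v
open CategoryTheory
open ArtFun

namespace Groth.Agent.S12299

/-- Let k be an algebraically closed field, F a set-valued functor on local Artinian k-algebras with
residue field k, and (R, ξ) a miniversal family for F, with R a complete local Noetherian k-algebra
with residue field k: the morphism h_R → F has the lifting property along surjections and is
bijective on the dual numbers. Let S be a complete local Noetherian k-algebra with residue field k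
and g₁, g₂ : R → S two k-algebra maps compatible with the augmentations along which ξ induces the
same formal family over S (the same compatible sequence in the F(S/m^(n+1))). Then g₁ and g₂ induce
the same map R → S/m_S², so the map R/m_R² → S/m_S² attached to a formal family over S is well
defined. (Coefficient rings are taken Noetherian here.) -/
theorem result
    {k : Type u} [Field k] [IsAlgClosed k] {F : ArtFun.Art k k ⥤ Type v}
    (R : ArtFun.CRing k k) (ξ : ArtFun.Family R.carrier R.res F) (hξ : ArtFun.IsMiniversal ξ)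
    (S : ArtFun.CRing k k) (g₁ g₂ : R.carrier →ₐ[k] S.carrier)
    (hg₁ : S.res.comp g₁ = R.res) (hg₂ : S.res.comp g₂ = R.res)
    (h : (ξ.along g₁ hg₁).toFormalElt = (ξ.along g₂ hg₂).toFormalElt) :
    (S.truncHom 1).1.comp g₁ = (S.truncHom 1).1.comp g₂ := by
  refine AlgHom.ext fun r => Ideal.Quotient.eq.2 ?_
  change g₁ r - g₂ r ∈ S.mpow 1
  by_contra hne
  let σ : k →+* S.carrier ⧸ S.mpow 1 := algebraMap k _
  have hxr : S.res (g₁ r - g₂ r) = 0 := by
    rw [map_sub, ArtFun.CRing.res_comp_apply g₁ hg₁, ArtFun.CRing.res_comp_apply g₂ hg₂, sub_self]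
  have hW : ∀ s ∈ S.mpow 1, S.res s = 0 := fun s hs =>
    (ArtFun.CRing.mem_maximalIdeal_iff S s).1 (ArtFun.CRing.mpow_le S 1 hs)
  obtain ⟨a, hax, -, -⟩ := Misc9.SF.exists_homSet_dual S.res (S.mpow 1) hW
    (fun s t hs ht => by
      change s * t ∈ IsLocalRing.maximalIdeal S.carrier ^ (1 + 1)
      rw [pow_succ, pow_one]
      exact Ideal.mul_mem_mul ((ArtFun.CRing.mem_maximalIdeal_iff S s).2 hs) ((ArtFun.CRing.mem_maximalIdeal_iff S t).2 ht))
    σ (fun c s hs => by
      have h1 : s - algebraMap k S.carrier c ∈ S.mpow 1 := Ideal.Quotient.eq.1 hs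
      have h2 := hW _ h1
      rw [map_sub, AlgHom.commutes, sub_eq_zero] at h2
      exact h2)
    (fun l => rfl) hxr hne
  obtain ⟨b, hb⟩ := Misc9.SF.exists_factor_one S Misc9.SF.dual_sq_zero a
  have key : Misc9.SF.alongHom g₁ hg₁ a = Misc9.SF.alongHom g₂ hg₂ a := by
    refine hξ.2.1 ?_
    rw [← hb, ← Misc9.SF.map_alongHom, ← Misc9.SF.map_alongHom, ξ.natural, ξ.natural]
    exact congrArg (fun e : ArtFun.FormalElt F S => F.map b (e.elt 1)) h
  refine hax ?_
  have h3 : a.1 (g₁ r) = a.1 (g₂ r) := AlgHom.congr_fun (congrArg Subtype.val key) r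
  rw [map_sub, h3, sub_self]
  rfl

end Groth.Agent.S12299
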