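import Groth.Statements.S12303
import Groth.Agent.Misc9.SF.Limits
-- import your own Groth.Agent.* helpers here

set_option autoImplicit false
universe u v
open CategoryTheory
open ArtFun

namespace Groth.Agent.S12303

/-- Let k be an algebraically closed field, F a set-valued functor on local Artinian k-algebras with
residue field k, and ξ : h_R → F a miniversal family in the strong sense, over an augmented
k-algebra R: ξ is surjective on every object, has the lifting property along surjections, and is
bijective on the dual numbers k[ε]. Then for every object A and every fibre-product square B = A ×_k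
k[ε] over k, the comparison map F(B) → F(A) ×_{F(k)} F(k[ε]) is bijective. (The published statement
takes R complete local, which the argument does not use.) -/
theorem result
    {k : Type u} [Field k] [IsAlgClosed k] {F : ArtFun.Art k k ⥤ Type v}
    {R : Type u} [CommRing R] [Algebra k R] {resR : R →ₐ[k] k}
    (ξ : ArtFun.Family R resR F) (hξ : ArtFun.IsMiniversal ξ)
    (hsurj : ∀ A : ArtFun.Art k k, Function.Surjective (ξ.app A)) :
    ArtFun.Heps F := by
  intro B A p' p'' h
  refine ⟨Misc9.SF.cmp_injective_of fun z z' e e' => ?_, Misc9.SF.cmp_surjective_of fun x y e => ?_⟩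
  · obtain ⟨ψ, rfl⟩ := hsurj B z
    obtain ⟨ψ', hψ', rfl⟩ := hξ.1 p' (Misc9.SF.fp_surjective h (Misc9.SF.toBase_surjective _))
      (ArtFun.HomSet.map p' ψ) z' (by rw [ξ.natural, e])
    refine congrArg (ξ.app B) (Misc9.SF.homSet_inj h hψ'.symm (hξ.2.1 ?_))
    rw [ξ.natural, ξ.natural, e']
  · obtain ⟨φ, rfl⟩ := hsurj A x
    obtain ⟨θ, rfl⟩ := hsurj _ y
    obtain ⟨l, hl, hl'⟩ := Misc9.SF.homSet_lift h φ θ (Misc9.SF.hR_h0.2.elim _ _)
    exact ⟨ξ.app B l, by rw [← ξ.natural, hl], by rw [← ξ.natural, hl']⟩

end Groth.Agent.S12303
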