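import Groth.Statements.S12304
import Groth.Agent.Misc9.SF.Free
-- import your own Groth.Agent.* helpers here

set_option autoImplicit false
universe u
open CategoryTheory CategoryTheory.Limits AlgebraicGeometry
open ArtFun

namespace Groth.Agent.S12304

/-- Let k be an algebraically closed field, M a locally Noetherian k-scheme and x₀ : Spec k → M a
k-rational point. For a local Artinian k-algebra A with residue field k consider the k-morphisms
Spec A → M whose restriction along the closed point Spec k → Spec A is x₀ (the local functor of M at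
x₀, a morphism A → B acting by composition with Spec B → Spec A). This functor is pro-representable:
there are a complete local Noetherian k-algebra R with residue field k and bijections, natural in A,
between the augmentation-compatible k-algebra maps R → A and these morphisms. (The published
statement is phrased for the fine moduli scheme M of a moduli problem, whose local functor at the
point of a given object is this one; M is taken locally Noetherian here so that the coefficient ring
is Noetherian.) -/
theorem result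
    {k : Type u} [Field k] [IsAlgClosed k] (M : Scheme.{u}) (m : M ⟶ Spec (CommRingCat.of k))
    [IsLocallyNoetherian M] (x₀ : Spec (CommRingCat.of k) ⟶ M) (hx₀ : x₀ ≫ m = 𝟙 _) :
    ∃ (R : ArtFun.CRing k k)
      (e : ∀ A : ArtFun.Art k k, ArtFun.HomSet R.carrier R.res A ≃
        {g : ArtFun.Art.spec A ⟶ M // g ≫ m = ArtFun.Art.specMap (ArtFun.Art.ofBase A) ∧ ArtFun.Art.specRes A ≫ g = x₀}),
      ∀ (A B : ArtFun.Art k k) (h : A ⟶ B) (φ : ArtFun.HomSet R.carrier R.res A),
        ((e B) (ArtFun.HomSet.map h φ)).1 = ArtFun.Art.specMap h ≫ ((e A) φ).1 := by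
  haveI : IsLocalRing (CommRingCat.of k) := inferInstanceAs (IsLocalRing k)
  obtain ⟨x, hx⟩ : ∃ x, x = x₀ (IsLocalRing.closedPoint k) := ⟨_, rfl⟩
  subst hx
  let ι := M.fromSpecStalk (x₀ (IsLocalRing.closedPoint k))
  let ρ := Scheme.stalkClosedPointTo x₀
  have hρ : Spec.map ρ ≫ ι = x₀ := Scheme.Spec_stalkClosedPointTo_fromSpecStalk x₀
  let α : CommRingCat.of k ⟶ M.presheaf.stalk (x₀ (IsLocalRing.closedPoint k)) := Spec.preimage (ι ≫ m)
  have hα : Spec.map α = ι ≫ m := Spec.map_preimage _
  letI : Algebra k (M.presheaf.stalk (x₀ (IsLocalRing.closedPoint k))) := α.hom.toAlgebra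
  have hαρ : α ≫ ρ = 𝟙 _ := Spec.map_injective (by rw [Spec.map_comp, hα, ← Category.assoc, hρ, Spec.map_id, hx₀])
  let ρ' : M.presheaf.stalk (x₀ (IsLocalRing.closedPoint k)) →ₐ[k] k :=
    { ρ.hom with commutes' := fun c => congrArg (fun f : CommRingCat.of k ⟶ CommRingCat.of k => f.hom c) hαρ }
  have hρ' : Function.Surjective ρ' := fun c => ⟨algebraMap k _ c, ρ'.commutes c⟩
  obtain ⟨R, j, hj, huniv⟩ := Misc9.SF.exists_completion _ ρ' hρ'
  have hbase : ∀ A : ArtFun.Art k k, ArtFun.Art.specMap (ArtFun.Art.ofBase A) =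
      Spec.map (CommRingCat.ofHom (algebraMap k A)) := fun A => rfl
  let toG : ∀ A : ArtFun.Art k k, ArtFun.HomSet _ ρ' A →
      {g : ArtFun.Art.spec A ⟶ M // g ≫ m = ArtFun.Art.specMap (ArtFun.Art.ofBase A) ∧ ArtFun.Art.specRes A ≫ g = x₀} :=
    fun A φ => ⟨Spec.map (CommRingCat.ofHom φ.1.toRingHom) ≫ ι, by
      refine ⟨?_, ?_⟩
      · rw [Category.assoc, ← hα, ← Spec.map_comp, hbase]
        congr 1
        ext c
        exact φ.1.commutes c
      · rw [← Category.assoc, ← Spec.map_comp]
        refine Eq.trans ?_ hρ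
        congr 2
        ext q
        exact AlgHom.congr_fun φ.2 q⟩
  have hbij : ∀ A, Function.Bijective (toG A) := fun A => by
    refine ⟨fun φ ψ e => Subtype.ext (AlgHom.ext fun q => ?_), fun ⟨g, hg, hg'⟩ => ?_⟩
    · have h1 := congrArg Subtype.val e
      have h2 : CommRingCat.ofHom φ.1.toRingHom = CommRingCat.ofHom ψ.1.toRingHom :=
        Spec.map_injective ((cancel_mono ι).1 h1)
      exact congrArg (fun f => f.hom q) h2
    · haveI : IsLocalRing (CommRingCat.of A.carrier) := A.isLocalRing
      have hpt : g (IsLocalRing.closedPoint A) = x₀ (IsLocalRing.closedPoint k) := by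
        rw [← hg']
        change g (IsLocalRing.closedPoint A) = g ((ArtFun.Art.specRes A) (IsLocalRing.closedPoint k))
        congr 1
        haveI : IsLocalHom A.res.toRingHom := ⟨fun a h => IsLocalRing.notMem_maximalIdeal.1 fun hm =>
          h.ne_zero ((A.mem_maximalIdeal_iff a).1 hm)⟩
        exact (IsLocalRing.comap_closedPoint (f := A.res.toRingHom)).symm
      obtain ⟨φ, hφ⟩ : ∃ φ : M.presheaf.stalk (x₀ (IsLocalRing.closedPoint k)) ⟶ CommRingCat.of A.carrier,
          Spec.map φ ≫ ι = g := by
        refine ⟨(M.presheaf.stalkCongr (.of_eq hpt.symm)).hom ≫ Scheme.stalkClosedPointTo g, ?_⟩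
        rw [Spec.map_comp, Category.assoc, TopCat.Presheaf.stalkCongr_hom, Scheme.SpecMap_stalkSpecializes_fromSpecStalk]
        exact Scheme.Spec_stalkClosedPointTo_fromSpecStalk g
      have e1 : α ≫ φ = CommRingCat.ofHom (algebraMap k A) :=
        Spec.map_injective (by rw [Spec.map_comp, hα, ← Category.assoc, hφ, hg, hbase])
      have e2 : φ ≫ CommRingCat.ofHom A.res.toRingHom = ρ :=
        Spec.map_injective ((cancel_mono ι).1 (by rw [Spec.map_comp, Category.assoc, hφ, hρ]; exact hg'))
      refine ⟨⟨{ φ.hom with commutes' := fun c => congrArg (fun f : CommRingCat.of k ⟶ CommRingCat.of A.carrier => f.hom c) e1 },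
        AlgHom.ext fun q => congrArg (fun f : _ ⟶ CommRingCat.of k => f.hom q) e2⟩, Subtype.ext ?_⟩
      exact hφ
  refine ⟨R, fun A => (Equiv.ofBijective _ (huniv A)).trans (Equiv.ofBijective _ (hbij A)), fun A B h φ => ?_⟩
  change Spec.map _ ≫ ι = Spec.map _ ≫ Spec.map _ ≫ ι
  rw [← Category.assoc, ← Spec.map_comp]
  rfl

end Groth.Agent.S12304
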