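import Groth.Statements.S12316
import Groth.Agent.Misc9.SF.Torsor
import Groth.Agent.Misc9.SF.Limits
-- import your own Groth.Agent.* helpers here

set_option autoImplicit false
universe u v
open CategoryTheory
open SGA7

namespace Groth.Agent.S12316

/-- Suppose Λ is a Noetherian local ring, complete for its maximal ideal, whose residue field is k (so Λ
→ k is surjective), and work with functors defined on the category of local Artinian Λ-algebras
having residue field k. Take morphisms φ : F → G and ψ : G → H of such functors. Assume that each of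
F(k), G(k), H(k) consists of a single point; that for G the comparison map on fibre products A₁ ×_A
A₂ is surjective as soon as A₂ → A is surjective, and is bijective for products of the form A' ×_k
k[ε]; that for H the comparison map is bijective on every fibre product A₁ ×_A A₂ with A₂ → A
surjective; and that the induced map on tangent spaces G(k[ε]) → H(k[ε]) coming from ψ is injective.
Under these assumptions, φ ≫ ψ is smooth if and only if both φ and ψ are smooth. (The published
statement is for functors of cofibred groupoids with G semi-homogeneous and H homogeneous; this row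
is the case of set-valued functors.) -/
theorem result (Λ k : Type u) [CommRing Λ] [IsLocalRing Λ] [IsNoetherianRing Λ]
    [IsAdicComplete (IsLocalRing.maximalIdeal Λ) Λ] [Field k] [Algebra Λ k]
    (hk : Function.Surjective (algebraMap Λ k))
    {F G H : ArtFun.Art Λ k ⥤ Type v} (φ : F ⟶ G) (ψ : G ⟶ H)
    (hF : ArtFun.H0 F) (hG : ArtFun.H0 G ∧ ArtFun.S1 G ∧ ArtFun.Heps G) (hH0 : ArtFun.H0 H)
    (hH : ∀ ⦃B A A' A'' : ArtFun.Art Λ k⦄ (p' : B ⟶ A') (p'' : B ⟶ A'') (f' : A' ⟶ A) (f'' : A'' ⟶ A)
      (h : ArtFun.Art.IsFibreProd p' p'' f' f''), Function.Surjective f'' → Function.Bijective (ArtFun.cmp H h))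
    (hψ : Function.Injective (ArtFun.TangentSpace.map ψ)) :
    ArtFun.IsSmooth (φ ≫ ψ) ↔ (ArtFun.IsSmooth φ ∧ ArtFun.IsSmooth ψ) := by
  have hH' : Misc9.SF.RS H := hH
  constructor
  · intro h
    have hs := (Misc9.SF.isSmooth_iff _).1 h
    have hφ : Misc9.SF.IsSmoothMap (F := F) (G := G) fun A => φ.app A := by
      refine Misc9.SF.smoothMap_of_small (Misc9.SF.isNatural_natTrans φ) fun B A μ hμ x y e => ?_
      obtain ⟨x', hx', hx''⟩ := hs μ hμ.1 x (ψ.app B y) (by
        change H.map μ (ψ.app B y) = ψ.app A (φ.app A x)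
        rw [← NatTrans.naturality_apply, e])
      obtain ⟨T⟩ := Misc9.SF.nonempty_tor μ hμ
      obtain ⟨θ, hθ⟩ := T.transitive ((Misc9.SF.s1_iff_hbar G).1 hG.2.1) hμ (y := φ.app B x') (y' := y)
        (by rw [← NatTrans.naturality_apply, hx', e])
      obtain ⟨x₀⟩ := hG.1.1
      have hψθ : ψ.app _ θ = ψ.app _ (G.map ArtFun.Art.baseToDual x₀) := by
        refine T.free hH'.hsq hμ (T.rel_map (Misc9.SF.isNatural_natTrans ψ) hθ) ?_
        rw [show ψ.app B (φ.app B x') = ψ.app B y from hx'', NatTrans.naturality_apply]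
        exact T.rel_zero hH0.2 _ _
      rw [hψ hψθ] at hθ
      exact ⟨x', hx', T.rel_unique hG.2.2 (T.rel_zero hG.1.2 x₀ _) hθ⟩
    refine ⟨(Misc9.SF.isSmooth_iff φ).2 hφ, (Misc9.SF.isSmooth_iff ψ).2 fun B A μ hμ g y e => ?_⟩
    obtain ⟨x₀⟩ := hF.1
    obtain ⟨x, -, rfl⟩ := hφ (ArtFun.Art.toBase A) A.res_surjective x₀ g (hG.1.2.elim _ _)
    obtain ⟨x', hx', hx''⟩ := hs μ hμ x y e
    refine ⟨φ.app B x', ?_, hx''⟩
    rw [← NatTrans.naturality_apply, hx']
  · rintro ⟨h1, h2⟩
    rw [Misc9.SF.isSmooth_iff] at h1 h2 ⊢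
    intro B A μ hμ x y hy
    obtain ⟨g, hg, hg'⟩ := h2 μ hμ (φ.app A x) y hy
    obtain ⟨x', hx, hx'⟩ := h1 μ hμ x g hg
    exact ⟨x', hx, (congrArg (ψ.app B) hx').trans hg'⟩

end Groth.Agent.S12316
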