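import Groth.Statements.S1234
import Groth.Agent.HensPoint.WeakAssEt
import Groth.Agent.HensPoint.StrictProps

set_option autoImplicit false
universe u
open FlatMor

namespace Groth.Agent.S1234

open TensorProduct IsLocalRing in
/-- Ring form, S = Spec A: let M be an A-module and p a prime of A; let Ah be a henselization and Ash a
strict henselization of the local ring A_p. The following are equivalent: p is a weakly associated
prime of M; the maximal ideal of A_p is a weakly associated prime of M_p; the maximal ideal of Ah is
a weakly associated prime of Ah ⊗ M_p; the maximal ideal of Ash is a weakly associated prime of Ash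
⊗ M_p. -/
theorem result {A : Type u} [CommRing A] (M : Type u) [AddCommGroup M] [Module A M] (p : Ideal A) [p.IsPrime]
    (Ah Ash : Type u) [CommRing Ah] [IsLocalRing Ah] [CommRing Ash] [IsLocalRing Ash]
    [Algebra (Localization.AtPrime p) Ah] [IsLocalHom (algebraMap (Localization.AtPrime p) Ah)] [Hensel.IsHenselization (Localization.AtPrime p) Ah]
    [Algebra (Localization.AtPrime p) Ash] [IsLocalHom (algebraMap (Localization.AtPrime p) Ash)] [Hensel.IsStrictHenselization (Localization.AtPrime p) Ash] :
    [p ∈ FlatCA.weakAss A M,
     maximalIdeal (Localization.AtPrime p) ∈ FlatCA.weakAss (Localization.AtPrime p) (LocalizedModule p.primeCompl M),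
     maximalIdeal Ah ∈ FlatCA.weakAss Ah (Ah ⊗[Localization.AtPrime p] LocalizedModule p.primeCompl M),
     maximalIdeal Ash ∈ FlatCA.weakAss Ash (Ash ⊗[Localization.AtPrime p] LocalizedModule p.primeCompl M)].TFAE := by
  have h12 := Groth.Agent.HensPoint.WeakAssEt.weakAss_localization p (Localization.AtPrime p)
    (LocalizedModule.mkLinearMap p.primeCompl M)
  have hsh : IsLocalHom (algebraMap (Localization.AtPrime p) Ash) := inferInstance
  tfae_have 1 ↔ 2 := h12.symm
  tfae_have 2 → 3 := fun h =>
    haveI := Groth.Agent.HensPair.LocalFacts.faithfullyFlat (R := Localization.AtPrime p) (S := Ah)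
    Groth.Agent.HensPoint.WeakAssEt.weakAss_baseChange
      Groth.Agent.HensPair.LocalFacts.map_maximalIdeal _ h
  tfae_have 3 → 2 := Groth.Agent.HensPoint.WeakAssEt.weakAss_of_isEtColim
      Groth.Agent.HensPoint.StrictProps.hens _
  tfae_have 2 → 4 := fun h =>
    haveI : Module.Flat (Localization.AtPrime p) Ash := Groth.Agent.HensPoint.StrictProps.strict.flat
    haveI : Module.FaithfullyFlat (Localization.AtPrime p) Ash := Module.FaithfullyFlat.of_flat_of_isLocalHom
    Groth.Agent.HensPoint.WeakAssEt.weakAss_baseChange
      (Groth.Agent.HensPoint.Strict.map_maximalIdeal) _ h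
  tfae_have 4 → 2 := Groth.Agent.HensPoint.WeakAssEt.weakAss_of_isEtColim
      Groth.Agent.HensPoint.StrictProps.strict _
  tfae_finish

end Groth.Agent.S1234
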