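import Groth.Statements.S12417
import Mathlib
-- import your own Groth.Agent.* helpers here

set_option autoImplicit false
universe u
open CategoryTheory AlgebraicGeometry
open Props

namespace Groth.Agent.S12417

/-- Let X be a quasi-compact quasi-separated scheme and P a property of opens of X such that (a) P holds
for every affine open, and (b) whenever a quasi-compact open U has a finite affine open covering U =
V_1 ∪ … ∪ V_n with P holding for every intersection V_i ∩ V_j, P holds for U. Then P holds for every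
quasi-compact open of X. -/
theorem result (X : Scheme.{u}) [CompactSpace X] [QuasiSeparatedSpace X]
    (P : X.Opens → Prop) (ha : ∀ U : X.Opens, IsAffineOpen U → P U)
    (hb : ∀ (U : X.Opens) (n : ℕ) (V : Fin n → X.Opens), IsCompact (U : Set X) →
      (∀ i, IsAffineOpen (V i)) → ⨆ i, V i = U → (∀ i j, P (V i ⊓ V j)) → P U)
    (U : X.Opens) (hU : IsCompact (U : Set X)) : P U := by
  classical
  have hb' : ∀ (W : X.Opens) (ι : Type u) [Finite ι] (V : ι → X.Opens), IsCompact (W : Set X) →
      (∀ i, IsAffineOpen (V i)) → ⨆ i, V i = W → (∀ i j, P (V i ⊓ V j)) → P W := by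
    intro W ι _ V hW hV hsup hP
    obtain ⟨n, ⟨e⟩⟩ := Finite.exists_equiv_fin ι
    exact hb W n (fun k => V (e.symm k)) hW (fun k => hV _) (by rw [e.symm.iSup_comp (g := V)]; exact hsup) (fun k l => hP _ _)
  have hsub : ∀ (A : X.Opens), IsAffineOpen A → ∀ W : X.Opens, IsCompact (W : Set X) → W ≤ A → P W := by
    intro A hA W hW hle
    have hex : ∀ x : W, ∃ f : Γ(X, A), X.basicOpen f ≤ W ∧ (x : X) ∈ X.basicOpen f :=
      fun x => hA.exists_basicOpen_le x (hle x.2)
    choose f hf1 hf2 using hex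
    obtain ⟨t, ht⟩ := hW.elim_finite_subcover (fun x : W => (X.basicOpen (f x) : Set X)) (fun x => (X.basicOpen (f x)).2)
      (fun x hx => Set.mem_iUnion.mpr ⟨⟨x, hx⟩, hf2 ⟨x, hx⟩⟩)
    refine hb' W t (fun x => X.basicOpen (f x.1)) hW (fun x => hA.basicOpen _) ?_ (fun x y => ?_)
    · refine le_antisymm (iSup_le fun x => hf1 _) fun x hx => ?_
      obtain ⟨i, hi, hxi⟩ := Set.mem_iUnion₂.mp (ht hx)
      exact TopologicalSpace.Opens.mem_iSup.mpr ⟨⟨i, hi⟩, hxi⟩
    · rw [← Scheme.basicOpen_mul]
      exact ha _ (hA.basicOpen _)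
  obtain ⟨s, hsfin, hs⟩ := isCompact_iff_finite_and_eq_biUnion_affineOpens.mp hU
  haveI := hsfin.to_subtype
  refine hb' U s (fun V => V.1.1) hU (fun V => V.1.2) (by rw [hs, iSup_subtype]) (fun V W => ?_)
  exact hsub V.1.1 V.1.2 _ (QuasiSeparatedSpace.inter_isCompact _ _ V.1.1.2 V.1.2.isCompact W.1.1.2 W.1.2.isCompact) inf_le_left

end Groth.Agent.S12417
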