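import Groth.Statements.S12447
import Groth.Agent.TopCat.DimFun

set_option autoImplicit false
universe u
open CategoryTheory AlgebraicGeometry
open Props

namespace Groth.Agent.S12447

/-- Let S be a locally Noetherian scheme. Then the underlying topological space of S is catenary if and
only if locally in the Zariski topology there is a dimension function, i.e. every point has an open
neighbourhood U carrying a function δ : U → ℤ which strictly decreases along nontrivial
specializations and drops by exactly one along immediate specializations. -/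
theorem result (S : Scheme.{u}) [IsLocallyNoetherian S] :
    PtTop.IsCatenarySpace S ↔
      ∀ s : S, ∃ U : S.Opens, s ∈ U ∧ ∃ δ : U → ℤ, PtTop.IsDimensionFunction δ := by
  open Groth.Agent.TopCat in
  refine ⟨fun h s => ?_, fun h => ?_⟩
  · obtain ⟨U₀, hU₀, hsU, -⟩ := AlgebraicGeometry.exists_isAffineOpen_mem_and_subset (x := s) (U := ⊤) trivial
    haveI : IsNoetherianRing Γ(S, U₀) := IsLocallyNoetherian.component_noetherian ⟨U₀, hU₀⟩
    haveI : TopologicalSpace.NoetherianSpace ↥(U₀ : Set S) := noetherianSpace_of_isAffineOpen U₀ hU₀
    exact DimFun.exists_dimFun h U₀.isOpen s hsU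
  · refine Basic.isCatenarySpace_of_cover fun x => ?_
    obtain ⟨U, hxU, δ, hδ⟩ := h x
    haveI : QuasiSober ↥U := U.isOpen.isOpenEmbedding_subtypeVal.quasiSober
    exact ⟨_, inferInstance, Subtype.val, U.isOpen.isOpenEmbedding_subtypeVal, ⟨⟨x, hxU⟩, rfl⟩,
      DimFun.isCatenarySpace_of_dimFun δ hδ⟩

end Groth.Agent.S12447
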