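import Groth.Statements.S12452
import Mathlib.Topology.Sheaves.SheafCondition.UniqueGluing

set_option autoImplicit false
universe u
open CategoryTheory TopologicalSpace Opposite
open ShSp

namespace Groth.Agent.S12452

theorem mm {X : TopCat.{u}} (F : X.Sheaf (Type u)) {A B C : (Opens X)ᵒᵖ} (a : A ⟶ B) (b : B ⟶ C) (c : A ⟶ C)
    (x : F.presheaf.obj A) : F.presheaf.map b (F.presheaf.map a x) = F.presheaf.map c x := by
  rw [← FunctorToTypes.map_comp_apply]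
  exact congrArg (fun h => F.presheaf.map h x) (Quiver.Hom.unop_inj (Subsingleton.elim _ _))



/-- For sheaves of sets, let f : X → Y be a continuous map, F a sheaf of sets on X, G a sheaf of sets on
Y, and B_X, B_Y bases for the topologies of X and Y. Suppose given, for every V in B_Y and U in B_X
with U ⊆ f⁻¹V, a map φ_V^U : G(V) → F(U), compatibly with restrictions. Then there is exactly one
morphism of sheaves ψ : G → f_*F (an f-map G → F) such that G(V) → F(f⁻¹V) → F(U) equals φ_V^U for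
every such pair. -/
theorem result {X Y : TopCat.{u}} (f : X ⟶ Y) (F : X.Sheaf (Type u)) (G : Y.Sheaf (Type u))
    {BX : Set (Opens X)} (hBX : Opens.IsBasis BX) {BY : Set (Opens Y)} (hBY : Opens.IsBasis BY)
    (φ : ∀ (V : BY) (U : BX), (U : Opens X) ≤ (Opens.map f).obj V →
      (G.presheaf.obj (op (V : Opens Y)) → F.presheaf.obj (op (U : Opens X))))
    (hφ : ∀ (V V' : BY) (U U' : BX) (hUV : (U : Opens X) ≤ (Opens.map f).obj V)
      (hU'V' : (U' : Opens X) ≤ (Opens.map f).obj V') (hV : (V' : Opens Y) ≤ V) (hU : (U' : Opens X) ≤ U)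
      (s : G.presheaf.obj (op (V : Opens Y))),
      F.presheaf.map (homOfLE hU).op (φ V U hUV s) = φ V' U' hU'V' (G.presheaf.map (homOfLE hV).op s)) :
    ∃! ψ : G ⟶ (TopCat.Sheaf.pushforward (Type u) f).obj F,
      ∀ (V : BY) (U : BX) (hUV : (U : Opens X) ≤ (Opens.map f).obj V) (s : G.presheaf.obj (op (V : Opens Y))),
        F.presheaf.map (homOfLE hUV).op (ψ.1.app (op (V : Opens Y)) s) = φ V U hUV s := by
  classical
  let K : Opens Y → Type u := fun V => {p : BY × BX // (p.1 : Opens Y) ≤ V ∧ (p.2 : Opens X) ≤ (Opens.map f).obj p.1}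
  have hle : ∀ V (k : K V), (k.1.2 : Opens X) ≤ (Opens.map f).obj V := fun V k x hx => k.2.1 (k.2.2 hx)
  have hcov : ∀ V, (Opens.map f).obj V ≤ ⨆ k : K V, (k.1.2 : Opens X) := fun V x hx => by
    obtain ⟨T, hT, hxT, hTV⟩ := Opens.isBasis_iff_nbhd.1 hBY hx
    obtain ⟨W, hW, hxW, hWT⟩ := Opens.isBasis_iff_nbhd.1 hBX (show x ∈ (Opens.map f).obj T from hxT)
    exact Opens.mem_iSup.2 ⟨⟨(⟨T, hT⟩, ⟨W, hW⟩), hTV, hWT⟩, hxW⟩
  let sf : ∀ (V : Opens Y) (_ : G.presheaf.obj (op V)) (k : K V), F.presheaf.obj (op (k.1.2 : Opens X)) :=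
    fun V s k => φ k.1.1 k.1.2 k.2.2 (G.presheaf.map (homOfLE k.2.1).op s)
  have compat : ∀ V s, TopCat.Presheaf.IsCompatible F.presheaf (fun k : K V => (k.1.2 : Opens X)) (sf V s) := by
    intro V s k l
    have hx' : ∀ x ∈ (k.1.2 : Opens X) ⊓ (l.1.2 : Opens X), ∃ m : K V, x ∈ (m.1.2 : Opens X) ∧
        (m.1.1 : Opens Y) ≤ k.1.1 ∧ (m.1.1 : Opens Y) ≤ l.1.1 ∧ (m.1.2 : Opens X) ≤ (k.1.2 : Opens X) ⊓ (l.1.2 : Opens X) := fun x hx => by
      obtain ⟨T, hT, hxT, hTV⟩ := Opens.isBasis_iff_nbhd.1 hBY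
        (show f x ∈ (k.1.1 : Opens Y) ⊓ (l.1.1 : Opens Y) from ⟨k.2.2 hx.1, l.2.2 hx.2⟩)
      obtain ⟨W, hW, hxW, hWT⟩ := Opens.isBasis_iff_nbhd.1 hBX
        (show x ∈ ((k.1.2 : Opens X) ⊓ (l.1.2 : Opens X)) ⊓ (Opens.map f).obj T from ⟨hx, hxT⟩)
      exact ⟨⟨(⟨T, hT⟩, ⟨W, hW⟩), (hTV.trans inf_le_left).trans k.2.1, hWT.trans inf_le_right⟩, hxW,
        hTV.trans inf_le_left, hTV.trans inf_le_right, hWT.trans inf_le_left⟩
    refine TopCat.Sheaf.eq_of_locally_eq' F (fun m : {m : K V // (m.1.1 : Opens Y) ≤ k.1.1 ∧ (m.1.1 : Opens Y) ≤ l.1.1 ∧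
        (m.1.2 : Opens X) ≤ (k.1.2 : Opens X) ⊓ (l.1.2 : Opens X)} => (m.1.1.2 : Opens X)) _ (fun m => homOfLE m.2.2.2)
      (fun x hx => by
        obtain ⟨m, h1, h2, h3, h4⟩ := hx' x hx
        exact Opens.mem_iSup.2 ⟨⟨m, h2, h3, h4⟩, h1⟩) _ _ fun m => ?_
    refine (mm F _ _ (homOfLE (m.2.2.2.trans inf_le_left)).op _).trans (Eq.trans ?_ (mm F _ _ (homOfLE (m.2.2.2.trans inf_le_right)).op _).symm)
    refine (hφ _ _ _ _ k.2.2 m.1.2.2 m.2.1 _ _).trans (Eq.trans ?_ (hφ _ _ _ _ l.2.2 m.1.2.2 m.2.2.1 _ _).symm)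
    exact congrArg (φ _ _ _) ((mm G _ _ (homOfLE m.1.2.1).op s).trans (mm G _ _ (homOfLE m.1.2.1).op s).symm)
  choose g hg hu using fun V s => TopCat.Sheaf.existsUnique_gluing' F (fun k : K V => (k.1.2 : Opens X))
    ((Opens.map f).obj V) (fun k => homOfLE (hle V k)) (hcov V) (sf V s) (compat V s)
  let ψ : G ⟶ (TopCat.Sheaf.pushforward (Type u) f).obj F := ⟨{
    app := fun V => ↾(fun s => g V.unop s)
    naturality := fun V V' i => by
      ext s
      refine (hu V'.unop (G.presheaf.map i s) _ fun k => ?_).symm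
      refine (mm F _ _ (homOfLE ((hle V'.unop k).trans ((Opens.map f).monotone (leOfHom i.unop)))).op _).trans ?_
      refine (hg V.unop s ⟨k.1, k.2.1.trans (leOfHom i.unop), k.2.2⟩).trans ?_
      exact congrArg (φ _ _ k.2.2) (mm G _ _ _ s).symm }⟩
  refine ⟨ψ, fun V U hUV s => ?_, fun ψ' hψ' => ?_⟩
  · refine (hg V s ⟨(V, U), le_rfl, hUV⟩).trans (congrArg (φ V U hUV) ?_)
    simp
  · refine Sheaf.hom_ext ?_
    ext V s
    refine hu V.unop s _ fun k => ?_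
    refine Eq.trans ?_ (hψ' k.1.1 k.1.2 k.2.2 _)
    refine Eq.trans ?_ (congrArg (fun t => F.presheaf.map (homOfLE k.2.2).op t)
      (ConcreteCategory.congr_hom (ψ'.1.naturality (homOfLE k.2.1).op) s)).symm
    exact (mm F _ _ (homOfLE (hle V.unop k)).op _).symm

end Groth.Agent.S12452
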