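import Groth.Statements.S12459
import Groth.Agent.TopCat.Basic
import Groth.Agent.HensPair.CatenaryBasic
import Mathlib.AlgebraicGeometry.Noetherian
import Mathlib.AlgebraicGeometry.Morphisms.FiniteType

set_option autoImplicit false
universe u
open CategoryTheory AlgebraicGeometry
open Props

namespace Groth.Agent.S12459

/-- For a locally Noetherian scheme S, the scheme S is universally catenary — every scheme X locally of
finite type over S has catenary underlying topological space — if and only if all local rings
O_{S,s} are universally catenary rings. (Schemes X over S are taken in the universe of S.) -/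
theorem result (S : Scheme.{u}) [IsLocallyNoetherian S] :
    (∀ (X : Scheme.{u}) (f : X ⟶ S), LocallyOfFiniteType f → PtTop.IsCatenarySpace X) ↔
      ∀ s : S, CAlg.IsUniversallyCatenary (S.presheaf.stalk s) := by
  open Groth.Agent in
  refine ⟨fun h s => ?_, fun h X f hf => ?_⟩
  · obtain ⟨U, hU, hsU, -⟩ := AlgebraicGeometry.exists_isAffineOpen_mem_and_subset (x := s) (U := ⊤) trivial
    haveI : IsNoetherianRing Γ(S, U) := IsLocallyNoetherian.component_noetherian ⟨U, hU⟩
    have hA : CAlg.IsUniversallyCatenary Γ(S, U) := by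
      refine ⟨inferInstance, fun B _ _ hB => ?_⟩
      let g : Spec (CommRingCat.of B) ⟶ S := Spec.map (CommRingCat.ofHom (algebraMap Γ(S, U) B)) ≫ hU.fromSpec
      haveI : LocallyOfFiniteType (Spec.map (CommRingCat.ofHom (algebraMap Γ(S, U) B))) :=
        (HasRingHomProperty.Spec_iff (P := @LocallyOfFiniteType)).mpr (RingHom.finiteType_algebraMap.mpr hB)
      exact (TopCat.Basic.isCatenarySpace_spec_iff B).mp (h _ g inferInstance)
    letI := TopCat.Presheaf.algebra_section_stalk S.presheaf (⟨s, hsU⟩ : U)
    haveI : IsLocalization.AtPrime (S.presheaf.stalk s) (hU.primeIdealOf ⟨s, hsU⟩).asIdeal := hU.isLocalization_stalk ⟨s, hsU⟩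
    haveI : Algebra.EssFiniteType Γ(S, U) (S.presheaf.stalk s) :=
      Algebra.EssFiniteType.of_isLocalization _ (hU.primeIdealOf ⟨s, hsU⟩).asIdeal.primeCompl
    exact HensPair.CatenaryBasic.isUnivCatenary_of_essFiniteType hA
  · refine TopCat.Basic.isCatenarySpace_of_affine X fun x => ?_
    obtain ⟨V, hV, hxV, -⟩ := AlgebraicGeometry.exists_isAffineOpen_mem_and_subset (x := f x) (U := ⊤) trivial
    obtain ⟨U, hU, hxU, hUV⟩ := AlgebraicGeometry.exists_isAffineOpen_mem_and_subset (x := x) (U := f ⁻¹ᵁ V) hxV
    haveI : IsNoetherianRing Γ(S, V) := IsLocallyNoetherian.component_noetherian ⟨V, hV⟩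
    have hA : CAlg.IsUniversallyCatenary Γ(S, V) := by
      refine HensPair.CatenaryBasic.isUnivCatenary_iff_localization_maximal.mpr fun m hm => ?_
      let y : PrimeSpectrum Γ(S, V) := ⟨m, hm.isPrime⟩
      have hy : hV.fromSpec y ∈ V := hV.range_fromSpec.subset ⟨y, rfl⟩
      letI := TopCat.Presheaf.algebra_section_stalk S.presheaf (⟨hV.fromSpec y, hy⟩ : V)
      haveI : IsLocalization.AtPrime (S.presheaf.stalk (hV.fromSpec y)) y.asIdeal := hV.isLocalization_stalk' y hy
      let e : S.presheaf.stalk (hV.fromSpec y) →ₐ[Γ(S, V)] Localization.AtPrime m :=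
        (IsLocalization.algEquiv m.primeCompl (S.presheaf.stalk (hV.fromSpec y)) (Localization.AtPrime m)).toAlgHom
      letI := e.toRingHom.toAlgebra
      haveI : Algebra.FiniteType (S.presheaf.stalk (hV.fromSpec y)) (Localization.AtPrime m) :=
        RingHom.FiniteType.of_surjective e.toRingHom
          (IsLocalization.algEquiv m.primeCompl (S.presheaf.stalk (hV.fromSpec y)) (Localization.AtPrime m)).surjective
      exact HensPair.CatenaryBasic.isUnivCatenary_of_essFiniteType (h (hV.fromSpec y))
    letI := (f.appLE V U hUV).hom.toAlgebra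
    exact ⟨⟨U, hU⟩, hxU, hA.2 _ (f.finiteType_appLE hV hU hUV)⟩

end Groth.Agent.S12459
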