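import Groth.Statements.S12462
import Groth.Agent.SpecTop.Gen

set_option autoImplicit false
universe u
open CategoryTheory CategoryTheory.Limits
open SpecSp

namespace Groth.Agent.S12462

open Set Topology CategoryTheory CategoryTheory.Limits Groth.Agent.SpecTop.Cons

/-- A spectral space is a directed inverse limit of finite sober topological spaces. Precisely: for X
spectral there exist a nonempty directed preordered index set J, a functor from the opposite of J to
topological spaces whose values are finite sober (T0, every irreducible closed subset has a generic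
point) spaces, and a limit cone of it whose vertex is isomorphic to X. -/
theorem result (X : Type u) [TopologicalSpace X] [SpectralSpace X] :
    ∃ (J : Type u) (_ : Preorder J) (_ : Nonempty J) (_ : IsDirected J (· ≤ ·)) (F : Jᵒᵖ ⥤ TopCat.{u})
      (c : Cone F), Nonempty (IsLimit c) ∧
        (∀ j : Jᵒᵖ, Finite (F.obj j) ∧ T0Space (F.obj j) ∧ QuasiSober (F.obj j)) ∧
        Nonempty (c.pt ≅ TopCat.of X) := by
  classical
  let P : Type u := {U : Set X // IsOpen U ∧ IsCompact U}
  let J : Type u := Finset P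
  let φ : ∀ j : J, X → (↥j → Prop) := fun j x U => x ∈ U.1.1
  let Xj : J → TopCat.{u} := fun j => TopCat.of (Set.range (φ j))
  have hT0 : T0Space Prop := (t0Space_iff_exists_isOpen_xor_mem Prop).mpr fun a b hab =>
    ⟨{True}, isOpen_singleton_true, by by_cases a <;> by_cases b <;> simp_all⟩
  let r : ∀ {i j : J}, (i ⟶ j) → (Xj j ⟶ Xj i) := fun {i j} a => TopCat.ofHom
    ⟨fun v => ⟨fun U => v.1 ⟨U.1, leOfHom a U.2⟩, by obtain ⟨_, x, rfl⟩ := v; exact ⟨x, rfl⟩⟩,
      Continuous.subtype_mk (p := fun f => f ∈ Set.range (φ i)) (continuous_pi fun U => (continuous_apply (⟨U.1, leOfHom a U.2⟩ : ↥j)).comp continuous_subtype_val) (fun v => by obtain ⟨_, x, rfl⟩ := v; exact ⟨x, rfl⟩)⟩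
  let F : Jᵒᵖ ⥤ TopCat.{u} :=
    { obj := fun j => Xj j.unop
      map := fun a => r a.unop
      map_id := fun j => rfl
      map_comp := fun a b => rfl }
  let π : ∀ j : J, TopCat.of X ⟶ Xj j := fun j => TopCat.ofHom
    ⟨fun x => ⟨φ j x, x, rfl⟩, (continuous_pi fun U => continuous_Prop.mpr U.1.2.1).subtype_mk _⟩
  let c : Cone F := { pt := TopCat.of X, π := { app := fun j => π j.unop, naturality := fun i j a => rfl } }
  refine ⟨J, inferInstance, ⟨∅⟩, inferInstance, F, c, ⟨?_⟩, fun j => ?_, ⟨Iso.refl _⟩⟩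
  swap
  · haveI : Finite (Set.range (φ j.unop)) := Subtype.finite
    haveI : T0Space (Set.range (φ j.unop)) := inferInstance
    exact ⟨‹_›, ‹_›, (spectralSpace_of_finite (Set.range (φ j.unop))).toQuasiSober⟩
  have hex : ∀ (s : Cone F) (t : s.pt), ∃ x : X, ∀ j : J,
      φ j x = (s.π.app (Opposite.op j) t : Set.range (φ j)).1 := by
    intro s t
    let v := fun j : J => (s.π.app (Opposite.op j) t : Set.range (φ j))
    have hmap : ∀ {i j : J} (h : i ≤ j) (U : ↥i), (v i).1 U = (v j).1 ⟨U.1, h U.2⟩ := fun {i j} h U =>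
      (congrFun (congrArg Subtype.val (congr($(s.w (homOfLE h).op) t))) U).symm
    refine Exists.elim (exists_mem_forall _ cons_compact (fun j : J => φ j ⁻¹' {(v j).1}) (fun i j => ?_)
      (fun j => ?_) (fun j => ?_)) fun x hx => ⟨x, fun j => hx j⟩
    · refine ⟨i ∪ j, fun x hx => ⟨funext fun U => ?_, funext fun U => ?_⟩⟩
      · exact (congrFun hx ⟨U.1, Finset.mem_union_left _ U.2⟩).trans (hmap Finset.subset_union_left U).symm
      · exact (congrFun hx ⟨U.1, Finset.mem_union_right _ U.2⟩).trans (hmap Finset.subset_union_right U).symm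
    · obtain ⟨x, hx⟩ := (v j).2
      exact ⟨x, hx⟩
    · have : φ j ⁻¹' {(v j).1} = ⋂ U : ↥j, {x | (x ∈ U.1.1) = (v j).1 U} := by
        ext x; simp [φ, funext_iff]
      rw [this]
      refine @isClosed_iInter X _ (constructibleTopology X) _ fun U => ?_
      by_cases hU : (v j).1 U
      · convert isClosed_cons U.1.2.1 U.1.2.2 using 1
        ext x; simp [hU]
      · convert @IsOpen.isClosed_compl X (constructibleTopology X) _ (isOpen_cons U.1.2.1 U.1.2.2) using 1
        ext x; simp [hU]
  choose g hg using hex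
  refine
    { lift := fun s => TopCat.ofHom ⟨g s, ?_⟩
      fac := fun s j => ?_
      uniq := fun s m hm => ?_ }
  · refine (Groth.Agent.SpecTop.Cons.isBasis (X := X)).continuous_iff.mpr fun U hU => ?_
    let jU : J := {⟨U, hU⟩}
    let W : Set (Xj jU) := (fun v => v.1 ⟨⟨U, hU⟩, Finset.mem_singleton_self _⟩) ⁻¹' {True}
    have hW : IsOpen W := isOpen_singleton_true.preimage ((continuous_apply _).comp continuous_subtype_val)
    have hWo := hW.preimage (s.π.app (Opposite.op jU)).hom.continuous
    have heq : g s ⁻¹' U = (fun t => (s.π.app (Opposite.op jU) t : Set.range (φ jU))) ⁻¹' W :=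
      Set.ext fun t => by
        simp only [Set.mem_preimage, W, Set.mem_singleton_iff, eq_iff_iff, iff_true]
        exact (congrFun (hg s t jU) ⟨⟨U, hU⟩, Finset.mem_singleton_self _⟩).to_iff
    exact heq ▸ hWo
  · refine ConcreteCategory.hom_ext _ _ fun t => Subtype.ext ?_
    exact hg s t j.unop
  · ext t
    apply (inseparable_iff_forall_isOpen.mpr ?_).eq
    intro W hW
    have key : ∀ U : P, (m t ∈ U.1 ↔ g s t ∈ U.1) := fun U => by
      have h1 := congrFun (congrArg Subtype.val (congr($(hm (Opposite.op {U})) t))) ⟨U, Finset.mem_singleton_self _⟩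
      have h2 := congrFun (hg s t {U}) ⟨U, Finset.mem_singleton_self _⟩
      exact h1.to_iff.trans h2.to_iff.symm
    constructor <;> intro h <;> obtain ⟨U, h1, h2, h3, h4⟩ := exists_qcOpen hW h
    · exact h4 ((key ⟨U, h1, h2⟩).mp h3)
    · exact h4 ((key ⟨U, h1, h2⟩).mpr h3)

end Groth.Agent.S12462
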