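import Groth.Statements.S7651
import Groth.Agent.Misc9.DimOneReduced
import Groth.Agent.Segre.CM
-- import your own Groth.Agent.* helpers here

set_option autoImplicit false
universe u
open CategoryTheory CategoryTheory.Limits AlgebraicGeometry
open Variety

namespace Groth.Agent.S7651

/-- Let (A, m) be a Noetherian local ring of dimension one and f ∈ m. Then (1) m = √(f), (2) f lies in
no minimal prime of A, and (3) A_f ≅ ∏_{p minimal} A_p as A-algebras, are equivalent; such an f
exists; if A has depth one, for instance if A is reduced, they are also equivalent to (4) f is a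
nonzerodivisor and to (5) A → A_f is the localization of A at all its nonzerodivisors; and if A is
reduced they are also equivalent to (6) A_f ≅ ∏_{p minimal} κ(p) as A-algebras. -/
theorem result (A : Type u) [CommRing A] [IsLocalRing A]
    [IsNoetherianRing A] (hdim : ringKrullDim A = 1) :
    (∃ f ∈ IsLocalRing.maximalIdeal A, ∀ p ∈ minimalPrimes A, f ∉ p) ∧
    ∀ f ∈ IsLocalRing.maximalIdeal A,
      ((IsLocalRing.maximalIdeal A = (Ideal.span {f}).radical) ↔ (∀ p ∈ minimalPrimes A, f ∉ p)) ∧
      ((∀ p ∈ minimalPrimes A, f ∉ p) ↔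
        Nonempty (Localization.Away f ≃ₐ[A] (∀ p : {p : PrimeSpectrum A // p.asIdeal ∈ minimalPrimes A}, Localization.AtPrime p.1.asIdeal))) ∧
      ((LocCoh.depth A A = 1 ∨ IsReduced A) →
        ((∀ p ∈ minimalPrimes A, f ∉ p) ↔ f ∈ nonZeroDivisors A) ∧
        ((∀ p ∈ minimalPrimes A, f ∉ p) ↔ IsLocalization (nonZeroDivisors A) (Localization.Away f))) ∧
      (IsReduced A →
        ((∀ p ∈ minimalPrimes A, f ∉ p) ↔
          Nonempty (Localization.Away f ≃ₐ[A] (∀ p : {p : PrimeSpectrum A // p.asIdeal ∈ minimalPrimes A}, p.1.asIdeal.ResidueField)))) := by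
  have hK : Ring.KrullDimLE 1 A := Ring.krullDimLE_iff.2 hdim.le
  have hmaxnot : ∀ p ∈ minimalPrimes A, IsLocalRing.maximalIdeal A ≠ p := fun p hp h => by
    have : ringKrullDim A ≤ 0 := by
      rw [← Nat.cast_zero, ← Ring.krullDimLE_iff, Ring.krullDimLE_zero_iff]
      intro q hq
      have hle := IsLocalRing.le_maximalIdeal hq.ne_top
      have : q = p := le_antisymm (h ▸ hle) (hp.2 ⟨hq, bot_le⟩ (h ▸ hle))
      exact this ▸ h ▸ IsLocalRing.maximalIdeal.isMaximal A
    rw [hdim] at this
    exact absurd this (by simp)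
  refine ⟨?_, fun f hf => ⟨⟨fun h p hp hfp => ?_, fun h => ?_⟩, ?_, fun hdep => ?_, fun hred => ?_⟩⟩
  · by_contra! h
    have hfin := minimalPrimes.finite_of_isNoetherianRing A
    obtain ⟨p, hp, hle⟩ := (Ideal.subset_union_prime (s := hfin.toFinset) (f := id) ⊥ ⊥
      (fun p hp _ _ => (hfin.mem_toFinset.1 hp).1.1)).1
      (show (IsLocalRing.maximalIdeal A : Set A) ⊆ ⋃ p ∈ (↑hfin.toFinset : Set (Ideal A)), (id p : Set A) from fun x hx => by
        obtain ⟨p, hp, hxp⟩ := h x hx
        exact Set.mem_biUnion (hfin.mem_toFinset.2 hp) hxp)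
    have hpmin := hfin.mem_toFinset.1 hp
    exact hmaxnot p hpmin (le_antisymm hle (IsLocalRing.le_maximalIdeal hpmin.1.1.ne_top))
  · have hle : IsLocalRing.maximalIdeal A ≤ p :=
      h.le.trans ((hp.1.1.radical_le_iff).2 ((Ideal.span_singleton_le_iff_mem p).2 hfp))
    exact hmaxnot p hp (le_antisymm hle (IsLocalRing.le_maximalIdeal hp.1.1.ne_top))
  · refine le_antisymm (fun x hx => ?_) ?_
    · obtain ⟨N, hN⟩ := Misc9.DimOneReduced.exists_pow_mem_span hx (Ideal.span {f})
        fun p hp hle => h p hp (hle (Ideal.mem_span_singleton_self f))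
      exact ⟨N, hN⟩
    · exact (IsLocalRing.maximalIdeal.isMaximal A).isPrime.radical_le_iff.2
        ((Ideal.span_singleton_le_iff_mem _).2 hf)
  · refine ⟨fun h => ?_, fun ⟨e⟩ p hp hfp => ?_⟩
    · have := Misc9.DimOneReduced.isLocalizationAway_pi hf h
      exact ⟨IsLocalization.algEquiv (Submonoid.powers f) _ _⟩
    · have := hp.1.1
      have hu := Pi.isUnit_iff.1 ((IsLocalization.Away.algebraMap_isUnit (S := Localization.Away f) f).map e) ⟨⟨p, hp.1.1⟩, hp⟩
      rw [AlgEquiv.commutes, Pi.algebraMap_apply] at hu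
      exact (IsLocalization.AtPrime.isUnit_to_map_iff (Localization.AtPrime p) p f).1 hu hfp
  · have hnzd : (∀ p ∈ minimalPrimes A, f ∉ p) → ∀ s : A, (∀ p ∈ minimalPrimes A, s ∉ p) → s ∈ nonZeroDivisors A := by
      intro _ s hs
      rcases hdep with hdep | hred
      · obtain ⟨rs, hlen, hreg, hmem⟩ := Groth.Agent.Segre.CM.one_le_depth (L := A) (n := 0) (by rw [hdep]; norm_num)
        match rs, hlen, hreg, hmem with
        | g :: _, _, hreg, hmem =>
          rw [RingTheory.Sequence.isWeaklyRegular_cons_iff] at hreg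
          refine mem_nonZeroDivisors_iff_right.2 fun z hz => ?_
          by_contra hz0
          obtain ⟨P, hP, hle⟩ := exists_le_isAssociatedPrime_of_isNoetherianRing A z hz0
          obtain ⟨hPp, y, hy⟩ := (isAssociatedPrime_iff).1 hP
          have hsP : s ∈ P := hle (Submodule.mem_colon_singleton.2 (by rw [Submodule.mem_bot, smul_eq_mul, mul_comm]; exact hz))
          rcases Ring.krullDimLE_one_iff.1 hK P hPp with h1 | h1
          · exact hs P h1 hsP
          · have hgP : g ∈ P := (IsLocalRing.eq_maximalIdeal h1).symm ▸ hmem g (by simp)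
            rw [hy] at hgP
            have hgy : g • y = 0 := by simpa using Submodule.mem_colon_singleton.1 hgP
            have hy0 : y = 0 := hreg.1 (by simpa using hgy)
            refine hPp.ne_top ?_
            rw [hy, hy0, eq_top_iff]
            exact fun x _ => Submodule.mem_colon_singleton.2 (by simp)
      · exact (Misc9.DimOneReduced.mem_nonZeroDivisors_iff A).2 hs
    have hmin : f ∈ nonZeroDivisors A → ∀ p ∈ minimalPrimes A, f ∉ p := fun h p hp hfp =>
      Set.disjoint_left.1 (Ideal.disjoint_nonZeroDivisors_of_mem_minimalPrimes hp) hfp h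
    refine ⟨⟨fun h => hnzd h f h, hmin⟩, fun h => ?_, fun h p hp hfp => ?_⟩
    · have hf0 := hnzd h f h
      refine IsLocalization.of_le (Submonoid.powers f) (nonZeroDivisors A)
        (by rintro _ ⟨n, rfl⟩; exact pow_mem hf0 n) fun s hs => ?_
      obtain ⟨N, hN⟩ := Misc9.DimOneReduced.exists_pow_mem_span hf (Ideal.span {s}) fun p hp hle =>
        Set.disjoint_left.1 (Ideal.disjoint_nonZeroDivisors_of_mem_minimalPrimes hp) (hle (Ideal.mem_span_singleton_self s)) hs
      exact isUnit_of_dvd_unit (map_dvd _ (Ideal.mem_span_singleton.1 hN))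
        (by rw [map_pow]; exact (IsLocalization.Away.algebraMap_isUnit f).pow N)
    · have := hp.1.1
      have hprime : (p.map (algebraMap A (Localization.Away f))).IsPrime :=
        IsLocalization.isPrime_of_isPrime_disjoint (nonZeroDivisors A) (Localization.Away f) p inferInstance
          (Ideal.disjoint_nonZeroDivisors_of_mem_minimalPrimes hp).symm
      exact hprime.ne_top (Ideal.eq_top_of_isUnit_mem _ (Ideal.mem_map_of_mem _ hfp) (IsLocalization.Away.algebraMap_isUnit f))
  · have hbij : ∀ p : {p : PrimeSpectrum A // p.asIdeal ∈ minimalPrimes A}, Function.Bijective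
        (IsScalarTower.toAlgHom A (Localization.AtPrime p.1.asIdeal) p.1.asIdeal.ResidueField) := fun p => by
      have : IsReduced (Localization.AtPrime p.1.asIdeal) := isReduced_localizationPreserves p.1.asIdeal.primeCompl _ hred
      have : IsField (Localization.AtPrime p.1.asIdeal) := by
        rw [IsLocalRing.isField_iff_maximalIdeal_eq, eq_bot_iff]
        intro x hx
        refine Ideal.mem_bot.2 (IsReduced.eq_zero x (nilpotent_iff_mem_prime.2 fun J hJ => ?_))
        have hdis := ((IsLocalization.isPrime_iff_isPrime_disjoint p.1.asIdeal.primeCompl _ J).1 hJ)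
        have hle : J.comap (algebraMap A (Localization.AtPrime p.1.asIdeal)) ≤ p.1.asIdeal :=
          fun a ha => by_contra fun h => Set.disjoint_left.1 hdis.2 h ha
        have heq := le_antisymm hle (p.2.2 ⟨hdis.1, bot_le⟩ hle)
        have hm := Localization.AtPrime.comap_maximalIdeal (I := p.1.asIdeal)
        have hJm : J = IsLocalRing.maximalIdeal _ := by
          rw [← IsLocalization.map_under p.1.asIdeal.primeCompl _ J, ← IsLocalization.map_under p.1.asIdeal.primeCompl _ (IsLocalRing.maximalIdeal (Localization.AtPrime p.1.asIdeal))]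
          exact congrArg _ (heq.trans hm.symm)
        exact hJm ▸ hx
      let _ := this.toField
      exact ⟨RingHom.injective (algebraMap (Localization.AtPrime p.1.asIdeal) p.1.asIdeal.ResidueField), Ideal.Quotient.mk_surjective⟩
    let E : (∀ p : {p : PrimeSpectrum A // p.asIdeal ∈ minimalPrimes A}, Localization.AtPrime p.1.asIdeal) ≃ₐ[A]
        (∀ p : {p : PrimeSpectrum A // p.asIdeal ∈ minimalPrimes A}, p.1.asIdeal.ResidueField) :=
      AlgEquiv.piCongrRight fun p => AlgEquiv.ofBijective _ (hbij p)
    refine ⟨fun h => ?_, fun ⟨e⟩ p hp hfp => ?_⟩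
    · have := Misc9.DimOneReduced.isLocalizationAway_pi hf h
      exact ⟨(IsLocalization.algEquiv (Submonoid.powers f) _ _).trans E⟩
    · have := hp.1.1
      have hu := Pi.isUnit_iff.1 ((IsLocalization.Away.algebraMap_isUnit (S := Localization.Away f) f).map e) ⟨⟨p, hp.1.1⟩, hp⟩
      rw [AlgEquiv.commutes, Pi.algebraMap_apply] at hu
      exact hu.ne_zero (Ideal.algebraMap_residueField_eq_zero.2 hfp)

end Groth.Agent.S7651
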