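import Groth.Statements.S7652
import Groth.Agent.Misc9.DimOneReduced
-- import your own Groth.Agent.* helpers here

set_option autoImplicit false
universe u
open CategoryTheory CategoryTheory.Limits AlgebraicGeometry
open Variety

namespace Groth.Agent.S7652

/-- For a reduced local Nagata ring (A, m) of Krull dimension one, write A' for the integral closure of
A in its total fraction ring. Then A' is a finite A-module, every localization of A' at a prime is
an integrally closed domain, and the quotient A'/A is an A-module of finite length. (The published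
statement also says that A' is Nagata, which follows from the finiteness of A' over A; this row does
not restate it.) -/
theorem result (A : Type u) [CommRing A] [IsLocalRing A]
    [IsReduced A] (hN : CAlg.IsNagata A) (hdim : ringKrullDim A = 1) :
    Module.Finite A (integralClosure A (FractionRing A)) ∧
      (∀ p : PrimeSpectrum (integralClosure A (FractionRing A)),
        IsDomain (Localization.AtPrime p.asIdeal) ∧ IsIntegrallyClosed (Localization.AtPrime p.asIdeal)) ∧
      Curv2.deltaInv A < ⊤ := by
  have := hN.1
  have : Ring.KrullDimLE 1 A := Ring.krullDimLE_iff.2 hdim.le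
  let Q := FractionRing A
  let C := integralClosure A Q
  let ι := {p : Ideal A // p ∈ minimalPrimes A}
  have : Finite ι := (minimalPrimes.finite_of_isNoetherianRing A).to_subtype
  have hp : ∀ p : ι, p.1.IsPrime := fun p => p.2.1.1
  have hfinp : ∀ p : ι, Module.Finite A (integralClosure (A ⧸ p.1) (FractionRing (A ⧸ p.1))) := fun p =>
    have := hp p
    have : Module.Finite (A ⧸ p.1) (integralClosure (A ⧸ p.1) (FractionRing (A ⧸ p.1))) :=
      hN.2 p.1 (FractionRing (A ⧸ p.1)) inferInstance
    Module.Finite.trans (A ⧸ p.1) _
  let f (p : ι) : C →ₗ[A] integralClosure (A ⧸ p.1) (FractionRing (A ⧸ p.1)) :=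
    have := hp p
    { toFun := fun x => ⟨Misc9.DimOneReduced.proj A Q p.1 p.2 x.1,
        IsIntegral.tower_top (R := A) (x.2.map (Misc9.DimOneReduced.proj A Q p.1 p.2))⟩
      map_add' := fun x y => Subtype.ext (map_add _ x.1 y.1)
      map_smul' := fun a x => Subtype.ext (map_smul (Misc9.DimOneReduced.proj A Q p.1 p.2) a x.1) }
  have hinj : Function.Injective (LinearMap.pi f) := by
    rw [injective_iff_map_eq_zero]
    intro x hx
    exact Subtype.ext (Misc9.DimOneReduced.proj_injective A Q fun p _ hp' =>
      congrArg Subtype.val (congrFun hx ⟨p, hp'⟩))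
  have hfin : Module.Finite A C := Module.Finite.of_injective _ hinj
  refine ⟨hfin, fun P => Misc9.DimOneReduced.isDomain_isIntegrallyClosed_localization A Q P.asIdeal, ?_⟩
  refine lt_top_iff_ne_top.2 (Module.length_ne_top_iff.2 ?_)
  obtain ⟨n, s, hs⟩ := Module.Finite.exists_fin (R := A) (M := C)
  obtain ⟨⟨g, hg⟩, hgs⟩ := IsLocalization.exist_integer_multiples_of_finite (nonZeroDivisors A) (fun i => (s i : Q))
  let T := LinearMap.range (Algebra.linearMap A C)
  have hkill : ∀ x : C, g • x ∈ T := fun x => by
    have hx : x ∈ T.comap (LinearMap.lsmul A C g) := by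
      refine (eq_top_iff.1 hs).trans ?_ (Submodule.mem_top (x := x))
      rw [Submodule.span_le]
      rintro _ ⟨i, rfl⟩
      obtain ⟨a, ha⟩ := hgs i
      exact ⟨a, Subtype.ext (ha.trans (by rfl))⟩
    exact hx
  have hJ : IsFiniteLength A (A ⧸ Ideal.span {g}) := isFiniteLength_quotient_span_singleton A hg
  obtain ⟨_, _⟩ := isFiniteLength_iff_isNoetherian_isArtinian.1 hJ
  let ψ (i : Fin n) : (A ⧸ Ideal.span {g}) →ₗ[A] C ⧸ T :=
    (Ideal.span {g}).liftQ (LinearMap.toSpanSingleton A _ (T.mkQ (s i))) (by
      rw [Submodule.span_singleton_le_iff_mem, LinearMap.mem_ker, LinearMap.toSpanSingleton_apply,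
        ← map_smul, Submodule.mkQ_apply, Submodule.Quotient.mk_eq_zero]
      exact hkill _)
  have hsurj : Function.Surjective (LinearMap.lsum A _ A ψ) := by
    rw [← LinearMap.range_eq_top, eq_top_iff, ← Submodule.range_mkQ T, ← Submodule.map_top, ← hs,
      Submodule.map_span_le]
    rintro _ ⟨i, rfl⟩
    refine ⟨Pi.single i (Submodule.Quotient.mk 1), ?_⟩
    rw [LinearMap.lsum_piSingle]
    exact one_smul A (T.mkQ (s i))
  exact IsFiniteLength.of_surjective
    (isFiniteLength_iff_isNoetherian_isArtinian.2 ⟨inferInstance, inferInstance⟩) hsurj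

end Groth.Agent.S7652
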