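import Groth.Statements.S12463
import Groth.Agent.Misc9.Branches
import Groth.Agent.S7652
import Groth.Agent.S7651
-- import your own Groth.Agent.* helpers here

set_option autoImplicit false
universe u
open Variety

namespace Groth.Agent.S12463

/-- Let (A, m) be a strictly henselian reduced Nagata local ring of dimension one with δ-invariant equal
to the number of geometric branches minus one, and A' the integral closure of A in its total ring of
fractions. Then A is a wedge of discrete valuation rings: for every maximal ideal m' of A' the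
localization A'_{m'} is a discrete valuation ring whose residue field is the image of A, and A
consists exactly of the elements of A' congruent to an element of A modulo every maximal ideal of A'
(the displayed inclusion; the reverse inclusion is trivial). (The inequality δ ≥ branches − 1 of the
published statement holds for every reduced Nagata local ring of dimension one and is not restated.) -/
theorem result (A : Type u) [CommRing A] [HenselianLocalRing A]
    [IsSepClosed (IsLocalRing.ResidueField A)] [IsReduced A] (hN : CAlg.IsNagata A) (hdim : ringKrullDim A = 1)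
    (heq : Curv2.deltaInv A + 1 = Brnch.numGeomBranches A) :
    (∀ m' : MaximalSpectrum ↥(integralClosure A (FractionRing A)),
        (∃ _ : IsDomain (Localization.AtPrime m'.asIdeal), IsDiscreteValuationRing (Localization.AtPrime m'.asIdeal)) ∧
        Function.Surjective (⇑(IsLocalRing.residue (Localization.AtPrime m'.asIdeal)) ∘
          ⇑(algebraMap ↥(integralClosure A (FractionRing A)) (Localization.AtPrime m'.asIdeal)) ∘
          ⇑(algebraMap A ↥(integralClosure A (FractionRing A))))) ∧
    ∀ a' : ↥(integralClosure A (FractionRing A)),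
      (∃ a : A, ∀ m' : MaximalSpectrum ↥(integralClosure A (FractionRing A)),
          a' - algebraMap A _ a ∈ m'.asIdeal) →
      a' ∈ (algebraMap A ↥(integralClosure A (FractionRing A))).range := by
  have := hN.1
  have hK : Ring.KrullDimLE 1 A := Ring.krullDimLE_iff.2 hdim.le
  obtain ⟨hC, hloc, hlt⟩ := Groth.Agent.S7652.result A hN hdim
  let C := ↥(integralClosure A (FractionRing A))
  obtain ⟨e⟩ := Misc9.Branches.exists_algEquiv_normRed A
  have hD : Module.Finite A (CAlg2.normRed A) := Module.Finite.equiv e.toLinearEquiv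
  have hfm := Misc9.Branches.finite_maximalSpectrum (A := A) (C := C)
  have hfmD := Misc9.Branches.finite_maximalSpectrum (A := A) (C := CAlg2.normRed A)
  have hfinmin : (minimalPrimes A).Finite := minimalPrimes.finite_of_isNoetherianRing A
  have hsub : ∀ m : MaximalSpectrum (CAlg2.normRed A), Subsingleton (Brnch.Emb A m) := fun m =>
    Misc9.Branches.subsingleton_embeddings m _
      (algebraMap (IsLocalRing.ResidueField A) (AlgebraicClosure (IsLocalRing.ResidueField A)))
  have hcard : Brnch.numGeomBranches A ≤ (Nat.card (MaximalSpectrum C) : ℕ∞) := by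
    rw [Brnch.numGeomBranches, if_pos hfinmin]
    have hm : ∀ m : MaximalSpectrum (CAlg2.normRed A), (m.asIdeal.comap e.toAlgHom.toRingHom).IsMaximal := fun m =>
      have := m.isMaximal
      Ideal.comap_isMaximal_of_surjective _ e.surjective
    refine (ENat.card_le_card_of_injective (f := fun p : Σ m, Brnch.Emb A m =>
      (⟨p.1.asIdeal.comap e.toAlgHom.toRingHom, hm p.1⟩ : MaximalSpectrum C)) ?_).trans (ENat.card_eq_coe_natCard _).le
    rintro ⟨m, σ⟩ ⟨m', σ'⟩ h
    obtain rfl : m = m' :=
      MaximalSpectrum.ext (Ideal.comap_injective_of_surjective _ e.surjective (congrArg MaximalSpectrum.asIdeal h))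
    exact congrArg _ ((hsub m).elim σ σ')
  have hδ : Module.length A (C ⧸ LinearMap.range (Algebra.linearMap A C)) + 1 ≤ (Nat.card (MaximalSpectrum C) : ℕ∞) :=
    (le_of_eq heq).trans hcard
  have := Fintype.ofFinite (MaximalSpectrum C)
  have hsum : Module.length A (∀ m : MaximalSpectrum C, C ⧸ m.asIdeal) = ∑ m : MaximalSpectrum C, Module.length A (C ⧸ m.asIdeal) :=
    Module.length_pi_of_fintype _ _
  classical
  have hlen : ∀ m : MaximalSpectrum C, Module.length A (C ⧸ m.asIdeal) = 1 := fun m => by
    refine le_antisymm ?_ (Misc9.Branches.one_le_length m)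
    have h1 := (Misc9.Branches.length_residues_le (A := A) (C := C)).trans hδ
    rw [hsum, ← Finset.add_sum_erase _ _ (Finset.mem_univ m)] at h1
    have h2 : (((Finset.univ.erase m).card : ℕ) : ℕ∞) ≤ ∑ x ∈ Finset.univ.erase m, Module.length A (C ⧸ x.asIdeal) := by
      refine le_trans ?_ (Finset.sum_le_sum fun x _ => Misc9.Branches.one_le_length x)
      simp
    have h3 := (add_le_add (le_refl (Module.length A (C ⧸ m.asIdeal))) h2).trans h1
    have h4 : Nat.card (MaximalSpectrum C) = (Finset.univ.erase m).card + 1 := by
      rw [Nat.card_eq_fintype_card, Finset.card_erase_add_one (Finset.mem_univ m), Finset.card_univ]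
    rw [h4, Nat.cast_add, Nat.cast_one, add_comm (((Finset.univ.erase m).card : ℕ) : ℕ∞) 1] at h3
    exact (ENat.add_le_add_iff_right (ENat.natCast_ne_top _)).1 h3
  refine ⟨fun m' => ⟨?_, ?_⟩, fun a' ⟨a, ha⟩ => ?_⟩
  · obtain ⟨hdom, hic⟩ := hloc ⟨m'.asIdeal, m'.isMaximal.isPrime⟩
    refine ⟨hdom, ?_⟩
    have : IsNoetherianRing C := isNoetherianRing_iff.2 (isNoetherian_of_tower A inferInstance)
    let L := Localization.AtPrime m'.asIdeal
    refine Misc9.Branches.isDiscreteValuationRing_atPrime ((Order.krullDim_le_of_strictMono (PrimeSpectrum.comap (algebraMap A C)) fun p q h => Ideal.IsIntegral.comap_lt_comap h).trans hdim.le) m'.asIdeal ?_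
    intro hf
    have hmax : IsLocalRing.maximalIdeal L = ⊥ := IsLocalRing.isField_iff_maximalIdeal_eq.1 hf
    obtain ⟨f, hfm, hfp⟩ := (Groth.Agent.S7651.result A hdim).1
    have hfN : f ∈ nonZeroDivisors A := (Misc9.DimOneReduced.mem_nonZeroDivisors_iff A).2 hfp
    have h0 : algebraMap C L (algebraMap A C f) ∈ IsLocalRing.maximalIdeal L :=
      (IsLocalization.AtPrime.to_map_mem_maximal_iff L m'.asIdeal _).2 (Misc9.Branches.algebraMap_mem hfm m')
    rw [hmax, Ideal.mem_bot, IsLocalization.map_eq_zero_iff m'.asIdeal.primeCompl] at h0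
    obtain ⟨⟨c, hc⟩, hc0⟩ := h0
    have hu := IsLocalization.map_units (FractionRing A) (⟨f, hfN⟩ : nonZeroDivisors A)
    exact hc ((Subtype.ext ((hu.mul_left_eq_zero).1 (congrArg Subtype.val hc0)) : c = 0) ▸ zero_mem _)
  · intro z
    obtain ⟨z, rfl⟩ := IsLocalRing.residue_surjective z
    obtain ⟨c, s, rfl⟩ := IsLocalization.exists_mk'_eq m'.asIdeal.primeCompl z
    have hs' : Ideal.Quotient.mk m'.asIdeal (s : C) ≠ 0 := fun h => s.2 (Ideal.Quotient.eq_zero_iff_mem.1 h)
    have := m'.isMaximal
    let _ : Field (C ⧸ m'.asIdeal) := Ideal.Quotient.field m'.asIdeal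
    obtain ⟨a, ha⟩ := Misc9.Branches.surjective_of_length_eq_one m' (hlen m')
      (Ideal.Quotient.mk m'.asIdeal c / Ideal.Quotient.mk m'.asIdeal (s : C))
    refine ⟨a, (Ideal.Quotient.mk_eq_mk_iff_sub_mem _ _).2 ?_⟩
    have hmem : algebraMap A C a * s - c ∈ m'.asIdeal := by
      rw [← Ideal.Quotient.mk_eq_mk_iff_sub_mem, map_mul]
      change algebraMap A (C ⧸ m'.asIdeal) a * _ = _
      rw [ha, div_mul_cancel₀ _ hs']
    have h1 := (IsLocalization.AtPrime.to_map_mem_maximal_iff (Localization.AtPrime m'.asIdeal) m'.asIdeal _).2 hmem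
    rw [map_sub, map_mul, ← IsLocalization.mk'_spec (Localization.AtPrime m'.asIdeal) c s] at h1
    replace h1 : (algebraMap C (Localization.AtPrime m'.asIdeal) (algebraMap A C a) - IsLocalization.mk' (Localization.AtPrime m'.asIdeal) c s) *
        algebraMap C (Localization.AtPrime m'.asIdeal) (s : C) ∈ IsLocalRing.maximalIdeal (Localization.AtPrime m'.asIdeal) := by
      exact (sub_mul (algebraMap C (Localization.AtPrime m'.asIdeal) (algebraMap A C a)) (IsLocalization.mk' (Localization.AtPrime m'.asIdeal) c s) (algebraMap C (Localization.AtPrime m'.asIdeal) (s : C))).symm ▸ h1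
    exact ((IsLocalRing.maximalIdeal.isMaximal _).isPrime.mem_or_mem h1).resolve_right
      fun h => IsLocalRing.notMem_maximalIdeal.2 (IsLocalization.map_units _ s) h
  · have hrange := Misc9.Branches.mem_range_of_length_eq hlt.ne
      (hδ.trans (le_of_eq (by rw [hsum, Finset.sum_congr rfl (fun m _ => hlen m), Finset.sum_const, nsmul_one, Finset.card_univ, Nat.card_eq_fintype_card]))) ha
    obtain ⟨b, hb⟩ := hrange
    exact ⟨b + a, by rw [map_add, hb, sub_add_cancel]⟩

end Groth.Agent.S12463
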