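import Groth.Statements.S12464
import Mathlib
-- import your own Groth.Agent.* helpers here

set_option autoImplicit false
universe v' u' u
open CategoryTheory AlgebraicGeometry
open BigSite

namespace Groth.Agent.S12464

/-- Let g' : T' → T, f' : T' → S', f : T → S, g : S' → S be a cartesian square of schemes. Then g_big⁻¹
∘ f_big,* ≅ f'_big,* ∘ g'_big⁻¹ as functors from sheaves on Sch/T to sheaves on Sch/S', both for the
big Zariski sites and for the big étale sites. (Existence of natural isomorphisms; the published one
sends both sides to U' ↦ F(U' ×_{S'} T').) -/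
theorem result {S T S' T' : Scheme.{u}} (f : T ⟶ S) (g : S' ⟶ S) (g' : T' ⟶ T) (f' : T' ⟶ S') (hsq : IsPullback g' f' f g)
    (A : Type u') [Category.{v'} A] :
    Nonempty (BigSite.pushBig Scheme.zariskiPrecoverage f A ⋙ BigSite.pullBig Scheme.zariskiPrecoverage g A ≅
        BigSite.pullBig Scheme.zariskiPrecoverage g' A ⋙ BigSite.pushBig Scheme.zariskiPrecoverage f' A) ∧
      Nonempty (BigSite.pushBig Scheme.etalePrecoverage f A ⋙ BigSite.pullBig Scheme.etalePrecoverage g A ≅
        BigSite.pullBig Scheme.etalePrecoverage g' A ⋙ BigSite.pushBig Scheme.etalePrecoverage f' A) := by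
  let α : Over.pullback f' ⋙ Over.map g' ≅ Over.map g ⋙ Over.pullback f :=
    NatIso.ofComponents (fun W =>
      have hp := (IsPullback.of_hasPullback W.hom f').paste_vert hsq.flip
      Over.isoMk hp.isoPullback hp.isoPullback_hom_snd)
      (fun {W W'} k => by
        have hp := (IsPullback.of_hasPullback W.hom f').paste_vert hsq.flip
        have hp' := (IsPullback.of_hasPullback W'.hom f').paste_vert hsq.flip
        apply Over.OverMorphism.ext
        show ((Over.pullback f').map k).left ≫ hp'.isoPullback.hom =
          hp.isoPullback.hom ≫ ((Over.pullback f).map ((Over.map g).map k)).left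
        apply Limits.pullback.hom_ext
        · refine (Category.assoc _ _ _).trans ?_
          refine (congrArg (_ ≫ ·) hp'.isoPullback_hom_fst).trans ?_
          refine (Limits.pullback.lift_fst _ _ _).trans ?_
          refine Eq.trans ?_ (Category.assoc _ _ _).symm
          refine Eq.trans ?_ (congrArg (_ ≫ ·) (Limits.pullback.lift_fst _ _ _).symm)
          exact (hp.isoPullback_hom_fst_assoc _).symm
        · refine (Category.assoc _ _ _).trans ?_
          refine (congrArg (_ ≫ ·) hp'.isoPullback_hom_snd).trans ?_
          refine (Category.assoc _ _ _).symm.trans ?_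
          refine (congrArg (· ≫ g') (Limits.pullback.lift_snd _ _ _)).trans ?_
          refine Eq.trans ?_ (Category.assoc _ _ _).symm
          refine Eq.trans ?_ (congrArg (_ ≫ ·) (Limits.pullback.lift_snd _ _ _).symm)
          exact hp.isoPullback_hom_snd.symm)
  refine ⟨⟨?_⟩, ⟨?_⟩⟩ <;>
  · exact NatIso.ofComponents (fun G => (fullyFaithfulSheafToPresheaf _ _).preimageIso
        (Functor.isoWhiskerRight (NatIso.op α) G.obj))
      (fun {G G'} φ => by
        apply (sheafToPresheaf _ _).map_injective
        ext1; ext1 W
        simp only [Functor.map_comp, NatTrans.comp_app, Functor.FullyFaithful.preimageIso_hom, Functor.FullyFaithful.map_preimage]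
        exact (φ.hom.naturality (α.hom.app W.unop).op).symm)

end Groth.Agent.S12464
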