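import Groth.Statements.S12465
import Mathlib
-- import your own Groth.Agent.* helpers here

set_option autoImplicit false
universe u
open CategoryTheory AlgebraicGeometry
open BigSite

namespace Groth.Agent.S12465

/-- On the big étale sites, for a cartesian square g' : T' → T, f' : T' → S', f : T → S, g : S' → S of
schemes, i_g⁻¹ ∘ f_big,* ≅ f'_small,* ∘ i_{g'}⁻¹ as functors from abelian sheaves on (Sch/T)_ét to
abelian sheaves on the small étale site of S'. (Existence of a natural isomorphism; both sides send
F to U' ↦ F(U' ×_{S'} T'). The binder BCCont f' holds for every morphism.) -/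
theorem result {S T S' T' : Scheme.{u}} (f : T ⟶ S) (g : S' ⟶ S) (g' : T' ⟶ T)
    (f' : T' ⟶ S') (hsq : IsPullback g' f' f g) [EtCoh.BCCont f'] :
    Nonempty (BigSite.pushBig Scheme.etalePrecoverage f AddCommGrpCat.{u + 1} ⋙
        BigSite.resEtAlong Scheme.etalePrecoverage g ≅
      BigSite.resEtAlong Scheme.etalePrecoverage g' ⋙ EtCoh.push f') := by
  let α : Over.pullback f' ⋙ Over.map g' ≅ Over.map g ⋙ Over.pullback f :=
    NatIso.ofComponents (fun W =>
      have hp := (IsPullback.of_hasPullback W.hom f').paste_vert hsq.flip
      Over.isoMk hp.isoPullback hp.isoPullback_hom_snd)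
      (fun {W W'} k => by
        have hp := (IsPullback.of_hasPullback W.hom f').paste_vert hsq.flip
        have hp' := (IsPullback.of_hasPullback W'.hom f').paste_vert hsq.flip
        apply Over.OverMorphism.ext
        show ((Over.pullback f').map k).left ≫ hp'.isoPullback.hom =
          hp.isoPullback.hom ≫ ((Over.pullback f).map ((Over.map g).map k)).left
        apply Limits.pullback.hom_ext
        · refine (Category.assoc _ _ _).trans ?_
          refine (congrArg (_ ≫ ·) hp'.isoPullback_hom_fst).trans ?_
          refine (Limits.pullback.lift_fst _ _ _).trans ?_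
          refine Eq.trans ?_ (Category.assoc _ _ _).symm
          refine Eq.trans ?_ (congrArg (_ ≫ ·) (Limits.pullback.lift_fst _ _ _).symm)
          exact (hp.isoPullback_hom_fst_assoc _).symm
        · refine (Category.assoc _ _ _).trans ?_
          refine (congrArg (_ ≫ ·) hp'.isoPullback_hom_snd).trans ?_
          refine (Category.assoc _ _ _).symm.trans ?_
          refine (congrArg (· ≫ g') (Limits.pullback.lift_snd _ _ _)).trans ?_
          refine Eq.trans ?_ (Category.assoc _ _ _).symm
          refine Eq.trans ?_ (congrArg (_ ≫ ·) (Limits.pullback.lift_snd _ _ _).symm)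
          exact hp.isoPullback_hom_snd.symm)
  let β : EtCoh.bc f' ⋙ EtFppf.a T' ⋙ Over.map g' ≅ EtFppf.a S' ⋙ Over.map g ⋙ Over.pullback f :=
    Functor.isoWhiskerRight (MorphismProperty.Over.pullbackCompForgetIso (P := EtCoh.etaleMP) (Q := ⊤) f') (Over.map g') ≪≫
      Functor.isoWhiskerLeft (EtFppf.a S') α
  exact ⟨NatIso.ofComponents (fun G => (fullyFaithfulSheafToPresheaf _ _).preimageIso
        (Functor.isoWhiskerRight (NatIso.op β) G.obj))
      (fun {G G'} φ => by
        apply (sheafToPresheaf _ _).map_injective
        ext1; ext1 W
        simp only [Functor.map_comp, NatTrans.comp_app, Functor.FullyFaithful.preimageIso_hom, Functor.FullyFaithful.map_preimage]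
        exact (φ.hom.naturality (β.hom.app W.unop).op).symm)⟩

end Groth.Agent.S12465
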