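import Groth.Statements.S12515
import Groth.Agent.FunFldLib.Quad.Normal

set_option autoImplicit false
open FunFld

namespace Groth.Agent.S12515

/-- If `char k ≠ 2` and `K` has degree `2` over the rational function field `k(x)`, then `K = k(x)(y)`
for some `y` with `y² = f(x)`, `f` a squarefree polynomial over `k`. -/
theorem result (k K : Type*) [Field k] [Field K] (h2 : ringChar k ≠ 2)
    [Algebra (RatFunc k) K] (hdeg : Module.finrank (RatFunc k) K = 2) :
    ∃ (y : K) (f : Polynomial k), Squarefree f ∧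
      y ^ 2 = algebraMap (RatFunc k) K (algebraMap (Polynomial k) (RatFunc k) f) ∧
      IntermediateField.adjoin (RatFunc k) ({y} : Set K) = ⊤ := by
  classical
  open Groth.Agent.FunFldLib.Quad in
  obtain ⟨α, b, c, hα, heq, -⟩ := exists_equation hdeg
  have h20 : (2 : RatFunc k) ≠ 0 := fun h => h2 (by
    have h' : ((2 : ℕ) : k) = 0 := (map_eq_zero_iff (algebraMap k (RatFunc k)) (algebraMap k (RatFunc k)).injective).1 (by rw [map_natCast]; exact_mod_cast h)
    exact ((Nat.dvd_prime Nat.prime_two).1 ((ringChar.spec k 2).1 h')).resolve_left CharP.ringChar_ne_one)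
  have h2K : (2 : K) ≠ 0 := by rw [← map_ofNat (algebraMap (RatFunc k) K)]; exact (map_ne_zero _).2 h20
  set d := b ^ 2 - 4 * c with hd
  set y₁ := 2 * α + algebraMap (RatFunc k) K b
  have hy₁ : y₁ ^ 2 = algebraMap (RatFunc k) K d := by
    simp only [y₁, hd, map_sub, map_pow, map_mul, map_ofNat]; linear_combination 4 * heq
  have hy₁r : y₁ ∉ Set.range (algebraMap (RatFunc k) K) := by
    rintro ⟨r, hr⟩
    exact hα ⟨(r - b) / 2, by rw [map_div₀, map_sub, hr, map_ofNat, div_eq_iff h2K]; ring⟩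
  have hd0 : d ≠ 0 := fun h => hy₁r ⟨0, by rw [h, map_zero, sq_eq_zero_iff] at hy₁; rw [map_zero, hy₁]⟩
  open Groth.Agent.FunFldLib.Quad in
  obtain ⟨u, g, hg, hu⟩ := exists_squarefree_mul_sq (d.num * d.denom) (mul_ne_zero (RatFunc.num_ne_zero hd0) (RatFunc.denom_ne_zero d))
  have hu0 : algebraMap (Polynomial k) (RatFunc k) u ≠ 0 := RatFunc.algebraMap_ne_zero fun h =>
    mul_ne_zero (RatFunc.num_ne_zero hd0) (RatFunc.denom_ne_zero d) (by rw [hu, h]; ring)
  set s := algebraMap (Polynomial k) (RatFunc k) d.denom / algebraMap (Polynomial k) (RatFunc k) u with hs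
  have hs0 : s ≠ 0 := div_ne_zero (RatFunc.algebraMap_ne_zero (RatFunc.denom_ne_zero d)) hu0
  have hden : algebraMap (Polynomial k) (RatFunc k) d.denom ≠ 0 := RatFunc.algebraMap_ne_zero (RatFunc.denom_ne_zero d)
  have key : s ^ 2 * d = algebraMap (Polynomial k) (RatFunc k) g := by
    have h := congrArg (algebraMap (Polynomial k) (RatFunc k)) hu
    simp only [map_mul, map_pow] at h
    have hn : algebraMap (Polynomial k) (RatFunc k) d.num = d * algebraMap (Polynomial k) (RatFunc k) d.denom := by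
      conv_rhs => arg 1; rw [← RatFunc.num_div_denom d]
      rw [div_mul_cancel₀ _ hden]
    rw [hn] at h
    rw [hs, div_pow, div_mul_eq_mul_div, div_eq_iff (pow_ne_zero 2 hu0), ← h]
    ring
  refine ⟨algebraMap (RatFunc k) K s * y₁, g, hg, by rw [mul_pow, hy₁, ← map_pow, ← map_mul, key], ?_⟩
  refine Groth.Agent.FunFldLib.Quad.adjoin_eq_top hdeg ?_
  rintro ⟨r, hr⟩
  exact hy₁r ⟨r / s, by rw [map_div₀, hr, mul_div_cancel_left₀ _ ((map_ne_zero _).2 hs0)]⟩

end Groth.Agent.S12515
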