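import Groth.Statements.S12516
import Groth.Agent.FunFldLib.Quad.Normal

set_option autoImplicit false
open FunFld

namespace Groth.Agent.S12516

/-- Let `char k ≠ 2`, `K` of degree `2` over `k(x)`, `y ∈ K` with `y² = f(x)` for a squarefree
polynomial `f` of degree `≥ 1`, and `P∞` the place of `k(x)` at which `x` has a pole. If `deg f` is
odd there is a unique place of `K` above `P∞`; it has ramification index `2` and degree `1`. If `deg
f` is even, every place of `K` above `P∞` is unramified and the conorm of `P∞` has degree `2` (so it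
is one place of degree `2` or the sum of two places of degree `1`). -/
theorem result (k K : Type*) [Field k] [Field K] (h2 : ringChar k ≠ 2) [Algebra k K]
    [Algebra (RatFunc k) K] [IsScalarTower k (RatFunc k) K]
    (hdeg : Module.finrank (RatFunc k) K = 2) (y : K) (f : Polynomial k) (hf : Squarefree f)
    (hd : 1 ≤ f.natDegree)
    (heq : y ^ 2 = algebraMap (RatFunc k) K (algebraMap (Polynomial k) (RatFunc k) f))
    (Pinf : FunFld.Place k (RatFunc k)) (hinf : Pinf.ord (RatFunc.X : RatFunc k) < 0) :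
    (Odd f.natDegree → (∃! P : FunFld.Place k K, FunFld.IsOver P Pinf) ∧
      ∀ P : FunFld.Place k K, FunFld.IsOver P Pinf → FunFld.IsOverWith P Pinf 2 ∧ P.deg = 1) ∧
    (Even f.natDegree → (FunFld.conorm K (Finsupp.single Pinf 1)).deg = 2 ∧
      ∀ P : FunFld.Place k K, FunFld.IsOver P Pinf → FunFld.IsOverWith P Pinf 1) := by
  classical
  have hK := Groth.Agent.FunFldLib.Quad.ff0_rat (k := k)
  have : FiniteDimensional (RatFunc k) K := Module.finite_of_finrank_pos (by omega)
  have hinf' : 1 < Pinf.1 (RatFunc.X : RatFunc k) := by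
    rw [Groth.Agent.FunFldLib.v_eq_exp Pinf RatFunc.X_ne_zero, ← WithZero.exp_zero, WithZero.exp_lt_exp]; omega
  open Groth.Agent.FunFldLib.Quad in
  obtain ⟨hX, hdeg1, -⟩ := infinite_place Pinf hinf'
  set F := algebraMap (Polynomial k) (RatFunc k) f with hF
  have hf0 : f ≠ 0 := fun h => by simp [h] at hd
  have hfv : Pinf.1 F = WithZero.exp (f.natDegree : ℤ) := by
    rw [hF, ← Groth.Agent.FunFldLib.Quad.aeval_X_eq, Groth.Agent.FunFldLib.Quad.aeval_eq_pow Pinf hinf' hf0, hX, ← WithZero.exp_nsmul]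
    simp
  have hy0 : y ≠ 0 := fun h => Groth.Agent.FunFldLib.Quad.not_mem_range hf hd heq ⟨0, by rw [h, map_zero]⟩
  constructor
  · intro hodd
    have key : ∀ (P : FunFld.Place k K) (e : ℕ), FunFld.IsOverWith P Pinf e →
        e = 2 ∧ P.deg = Pinf.deg ∧ ∀ R : FunFld.Place k K, FunFld.IsOver R Pinf → R = P := fun P e he => by
      refine Groth.Agent.FunFldLib.Quad.ram_of_odd hK hdeg he (a := F) ?_ (w := y) ?_
      · rw [FunFld.Place.ord, hfv, WithZero.log_exp]; exact ((Int.odd_coe_nat _).2 hodd).neg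
      · rw [← Groth.Agent.FunFldLib.ord_map he, hF, ← heq, Groth.Agent.FunFldLib.ord_pow P hy0]; norm_num
    obtain ⟨P, e, he⟩ := Groth.Agent.FunFldLib.Quad.exists_above (K' := K) hK Pinf
    exact ⟨⟨P, ⟨e, he⟩, fun R hR => (key P e he).2.2 R hR⟩, fun R ⟨e', he'⟩ => by
      obtain ⟨rfl, h, -⟩ := key R e' he'
      exact ⟨he', h.trans hdeg1⟩⟩
  · intro heven
    refine ⟨by rw [Groth.Agent.FunFldLib.deg_conorm Groth.Agent.FunFldLib.Quad.ff_rat, Groth.Agent.FunFldLib.deg_single, hdeg1, hdeg]; norm_num, fun P hP => ?_⟩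
    obtain ⟨e, he⟩ := hP
    obtain ⟨m, hm⟩ := heven
    set r : RatFunc k := RatFunc.X ^ m
    have hr0 : r ≠ 0 := pow_ne_zero m RatFunc.X_ne_zero
    set β : RatFunc k := -F / r ^ 2
    set z := y / algebraMap (RatFunc k) K r
    have hz : z ^ 2 + algebraMap (RatFunc k) K 0 * z + algebraMap (RatFunc k) K β = 0 := by
      rw [map_zero, zero_mul, add_zero, div_pow, ← map_pow, map_div₀, map_neg, hF, ← heq]
      ring
    have hβ : Pinf.1 β = 1 := by
      rw [map_div₀, Valuation.map_neg, hfv, map_pow, map_pow, hX, ← WithZero.exp_nsmul, ← WithZero.exp_nsmul,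
        show (f.natDegree : ℤ) = 2 • (m • (1 : ℤ)) by simp [hm]; ring, div_self WithZero.exp_ne_zero]
    have hzv : P.1 z = 1 := by
      have h : P.1 (z ^ 2) = 1 := by
        rw [show z ^ 2 = -algebraMap (RatFunc k) K β from eq_neg_of_add_eq_zero_left (by rw [map_zero, zero_mul, add_zero] at hz; exact hz),
          Valuation.map_neg, he, hβ, one_pow]
      rwa [map_pow, pow_eq_one_iff_of_nonneg zero_le two_ne_zero] at h
    have h20 : (2 : k) ≠ 0 := fun h => h2 (((Nat.dvd_prime Nat.prime_two).1 ((ringChar.spec k 2).1 (by exact_mod_cast h))).resolve_left CharP.ringChar_ne_one)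
    have hP2 : P.1 (2 : K) = 1 := by
      rw [← map_ofNat (algebraMap k K)]; exact Groth.Agent.FunFldLib.v_algebraMap P h20
    have : Algebra.IsSeparable (RatFunc k) K := Groth.Agent.FunFldLib.Quad.separable_of_two hdeg (fun h => h20 (by
      have : ((2 : ℕ) : k) = 0 := (map_eq_zero_iff (algebraMap k (RatFunc k)) (algebraMap k (RatFunc k)).injective).1 (by rw [map_natCast]; exact_mod_cast h)
      exact_mod_cast this))
    let _ : Algebra Pinf.O K := ((algebraMap (RatFunc k) K).comp (algebraMap Pinf.O (RatFunc k))).toAlgebra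
    have : IsScalarTower Pinf.O (RatFunc k) K := IsScalarTower.of_algebraMap_eq fun _ => rfl
    have h1 : e = 1 := Groth.Agent.FunFldLib.Quad.unram_of_unit hK hdeg he (y := z) (fun ⟨r', hr'⟩ =>
      Groth.Agent.FunFldLib.Quad.not_mem_range hf hd heq ⟨r' * r, by rw [map_mul, hr', div_mul_cancel₀ _ ((map_ne_zero _).2 hr0)]⟩)
      hz (by rw [map_zero]; exact zero_le) hβ.le (by rw [map_zero, add_zero, map_mul, hP2, hzv, one_mul])
    exact h1 ▸ he

end Groth.Agent.S12516
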