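import Groth.Statements.S12517
import Groth.Agent.FunFldLib.Quad.Normal

set_option autoImplicit false
open FunFld

namespace Groth.Agent.S12517

/-- If `k` is perfect of characteristic `2` and `K` is a separable extension of degree `2` of the
rational function field `k(x)`, then `K = k(x)(y)` for some `y` with `y² + y = f(x)`, `f ∈ k(x)`.
The correspondence between such extensions and cosets of `{a² + a}` in `k(x)` is not stated. -/
theorem result (k K : Type*) [Field k] [Field K] [PerfectField k]
    (h2 : ringChar k = 2) [Algebra (RatFunc k) K] (hdeg : Module.finrank (RatFunc k) K = 2)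
    [Algebra.IsSeparable (RatFunc k) K] :
    ∃ (y : K) (f : RatFunc k), y ^ 2 + y = algebraMap (RatFunc k) K f ∧
      IntermediateField.adjoin (RatFunc k) ({y} : Set K) = ⊤ := by
  classical
  open Groth.Agent.FunFldLib.Quad in
  obtain ⟨α, b, c, hα, heq, hm⟩ := exists_equation hdeg
  have : CharP (RatFunc k) 2 := by
    have : CharP k 2 := h2 ▸ ringChar.charP k
    exact charP_of_injective_algebraMap (algebraMap k (RatFunc k)).injective 2
  have : CharP K 2 := charP_of_injective_algebraMap (algebraMap (RatFunc k) K).injective 2
  have hb : b ≠ 0 := fun hb => by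
    have h := (Algebra.IsSeparable.isSeparable (RatFunc k) α).aeval_derivative_ne_zero
      (show Polynomial.aeval α (minpoly (RatFunc k) α) = 0 from minpoly.aeval _ α)
    rw [hm, hb] at h
    simp [CharTwo.two_eq_zero] at h
    exact h.1 (CharTwo.add_self_eq_zero 1)
  set β := algebraMap (RatFunc k) K b
  have hβ : β ≠ 0 := (map_ne_zero _).2 hb
  refine ⟨α / β, -c / b ^ 2, ?_, Groth.Agent.FunFldLib.Quad.adjoin_eq_top hdeg fun ⟨r, hr⟩ => hα ⟨r * b, by
    rw [map_mul, hr, div_mul_cancel₀ _ hβ]⟩⟩
  rw [map_div₀, map_neg, map_pow, div_pow, show α / β = β * α / β ^ 2 by field_simp]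
  linear_combination heq / β ^ 2

end Groth.Agent.S12517
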