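import Groth.Statements.S12518
import Groth.Agent.FunFldLib.Quad.Normal

set_option autoImplicit false
open FunFld

namespace Groth.Agent.S12518

/-- If `k` is perfect of characteristic `2` and `K` is a separable extension of degree `2` of `k(x)`,
then `K = k(x)(y)` for some `y` with `y² + y = f(x)` such that every pole of `f`, at any place of
`k(x)/k` including the infinite one, has odd order. -/
theorem result (k K : Type*) [Field k] [Field K] [PerfectField k] (h2 : ringChar k = 2)
    [Algebra k K] [Algebra (RatFunc k) K] [IsScalarTower k (RatFunc k) K]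
    (hdeg : Module.finrank (RatFunc k) K = 2) [Algebra.IsSeparable (RatFunc k) K] :
    ∃ (y : K) (f : RatFunc k), y ^ 2 + y = algebraMap (RatFunc k) K f ∧
      IntermediateField.adjoin (RatFunc k) ({y} : Set K) = ⊤ ∧
      ∀ P : FunFld.Place k (RatFunc k), P.ord f < 0 → Odd (P.ord f) := by
  classical
  open Groth.Agent.FunFldLib.Quad in
  obtain ⟨α, b, c, hα, heq, hm⟩ := exists_equation hdeg
  have : CharP (RatFunc k) 2 := by
    have : CharP k 2 := h2 ▸ ringChar.charP k
    exact charP_of_injective_algebraMap (algebraMap k (RatFunc k)).injective 2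
  have : CharP K 2 := charP_of_injective_algebraMap (algebraMap (RatFunc k) K).injective 2
  have hb : b ≠ 0 := fun hb => by
    have h := (Algebra.IsSeparable.isSeparable (RatFunc k) α).aeval_derivative_ne_zero
      (show Polynomial.aeval α (minpoly (RatFunc k) α) = 0 from minpoly.aeval _ α)
    rw [hm, hb] at h
    simp [CharTwo.two_eq_zero] at h
    exact h.1 (CharTwo.add_self_eq_zero 1)
  set β := algebraMap (RatFunc k) K b
  have hβ : β ≠ 0 := (map_ne_zero _).2 hb
  obtain ⟨g, hg⟩ := Groth.Agent.FunFldLib.Quad.exists_odd h2 (-c / b ^ 2)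
  have h0 : (α / β) ^ 2 + α / β = algebraMap (RatFunc k) K (-c / b ^ 2) := by
    rw [map_div₀, map_neg, map_pow, div_pow, show α / β = β * α / β ^ 2 by field_simp]
    linear_combination heq / β ^ 2
  refine ⟨α / β + algebraMap (RatFunc k) K g, -c / b ^ 2 + g ^ 2 + g, ?_,
    Groth.Agent.FunFldLib.Quad.adjoin_eq_top hdeg fun ⟨r, hr⟩ => hα ⟨(r - g) * b, by
      rw [map_mul, map_sub, hr, add_sub_cancel_right, div_mul_cancel₀ _ hβ]⟩, hg⟩
  rw [map_add, map_add, map_pow, ← h0, CharTwo.add_sq]
  ring

end Groth.Agent.S12518
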