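import Groth.Statements.S12519
import Groth.Agent.FunFldLib.Quad.Normal

set_option autoImplicit false
open FunFld

namespace Groth.Agent.S12519

/-- Let `k` be perfect of characteristic `2`, `K` separable of degree `2` over `k(x)`, and `y ∈ K \
k(x)` with `y² + y = f(x)`. At a place `p` of `k(x)/k` where `f` has a pole of odd order there is a
unique place `P` of `K` above `p`, with `e(P|p) = 2` and `deg P = deg p` (residue degree `1`); at a
place where `f` has no pole, every place of `K` above it is unramified. The different is not stated. -/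
theorem result (k K : Type*) [Field k] [Field K] [PerfectField k] (h2 : ringChar k = 2)
    [Algebra k K] [Algebra (RatFunc k) K] [IsScalarTower k (RatFunc k) K]
    (hdeg : Module.finrank (RatFunc k) K = 2) [Algebra.IsSeparable (RatFunc k) K]
    (y : K) (hy : y ∉ Set.range (algebraMap (RatFunc k) K))
    (f : RatFunc k) (heq : y ^ 2 + y = algebraMap (RatFunc k) K f)
    (P₀ : FunFld.Place k (RatFunc k)) :
    ((P₀.ord f < 0 ∧ Odd (P₀.ord f)) → (∃! P : FunFld.Place k K, FunFld.IsOver P P₀) ∧
      ∀ P : FunFld.Place k K, FunFld.IsOver P P₀ → FunFld.IsOverWith P P₀ 2 ∧ P.deg = P₀.deg) ∧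
    (0 ≤ P₀.ord f → ∀ P : FunFld.Place k K, FunFld.IsOver P P₀ → FunFld.IsOverWith P P₀ 1) := by
  classical
  have hK := Groth.Agent.FunFldLib.Quad.ff0_rat (k := k)
  have : FiniteDimensional (RatFunc k) K := Module.finite_of_finrank_pos (by omega)
  have : CharP K 2 := by
    have : CharP k 2 := h2 ▸ ringChar.charP k
    exact charP_of_injective_algebraMap (algebraMap k K).injective 2
  refine ⟨fun ⟨hneg, hodd⟩ => ?_, fun hnn P hP => ?_⟩
  · have key : ∀ (P : FunFld.Place k K) (e : ℕ), FunFld.IsOverWith P P₀ e →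
        e = 2 ∧ P.deg = P₀.deg ∧ ∀ R : FunFld.Place k K, FunFld.IsOver R P₀ → R = P := fun P e he => by
      refine Groth.Agent.FunFldLib.Quad.ram_of_odd hK hdeg he hodd (w := y) ?_
      have hy0 : y ≠ 0 := fun h => hy ⟨0, by rw [h, map_zero]⟩
      have hgt : 1 < P.1 y := by
        by_contra hle
        push Not at hle
        have h1 : P.1 (y ^ 2 + y) ≤ 1 := (Valuation.map_add _ _ _).trans (max_le (by rw [map_pow]; exact pow_le_one₀ zero_le hle) hle)
        rw [heq, Groth.Agent.FunFldLib.over_le_iff he] at h1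
        have hf0 : f ≠ 0 := fun h => by simp [h, FunFld.Place.ord] at hneg
        have := (Groth.Agent.FunFldLib.v_le_one_iff P₀ hf0).1 h1
        omega
      have hlt : P.1 y < P.1 (y ^ 2) := by
        rw [map_pow, pow_two]; exact lt_mul_of_one_lt_left (zero_lt_one.trans hgt) hgt
      have hv := Valuation.map_add_eq_of_lt_left P.1 hlt
      rw [← Groth.Agent.FunFldLib.ord_map he, ← heq, FunFld.Place.ord, FunFld.Place.ord, hv, map_pow, WithZero.log_pow, nsmul_eq_mul]
      push_cast; ring
    obtain ⟨P, e, he⟩ := Groth.Agent.FunFldLib.Quad.exists_above (K' := K) hK P₀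
    exact ⟨⟨P, ⟨e, he⟩, fun R hR => (key P e he).2.2 R hR⟩, fun R ⟨e', he'⟩ => by
      obtain ⟨rfl, h, -⟩ := key R e' he'
      exact ⟨he', h⟩⟩
  · obtain ⟨e, he⟩ := hP
    have hf1 : P₀.1 f ≤ 1 := by
      rcases eq_or_ne f 0 with rfl | h0
      · rw [map_zero]; exact zero_le
      · exact (Groth.Agent.FunFldLib.v_le_one_iff P₀ h0).2 hnn
    let _ : Algebra P₀.O K := ((algebraMap (RatFunc k) K).comp (algebraMap P₀.O (RatFunc k))).toAlgebra
    have : IsScalarTower P₀.O (RatFunc k) K := IsScalarTower.of_algebraMap_eq fun _ => rfl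
    have h1 : e = 1 := Groth.Agent.FunFldLib.Quad.unram_of_unit hK hdeg he (y := y) (α := 1) (β := -f) hy
      (by rw [map_one, one_mul, map_neg, heq, add_neg_cancel]) (by rw [map_one]) (by rwa [Valuation.map_neg])
      (by rw [CharTwo.two_eq_zero, zero_mul, zero_add, map_one, map_one])
    exact h1 ▸ he

end Groth.Agent.S12519
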