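import Groth.Statements.S12535
import Groth.Agent.FunFldLib.Quad.Normal

set_option autoImplicit false
open FunFld

namespace Groth.Agent.S12535

/-- Let `char k ≠ 2`, `K` of degree `2` over `k(x)`, and `y ∈ K` with `y² = f(x)`, `f` a squarefree
polynomial of degree `≥ 1`. Then a place `P` of `K` is a zero of `y` exactly when it lies over a
finite place of `k(x)` where `f` has a zero, and in that case `ord_P(y) = 1`: the divisor of zeros
of `y` is `Σ P_i`, one place over each irreducible factor of `f`, with multiplicity one. -/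
theorem result (k K : Type*) [Field k] [Field K] (h2 : ringChar k ≠ 2) [Algebra k K]
    [Algebra (RatFunc k) K] [IsScalarTower k (RatFunc k) K]
    (hdeg : Module.finrank (RatFunc k) K = 2) (y : K) (f : Polynomial k) (hf : Squarefree f)
    (hd : 1 ≤ f.natDegree)
    (heq : y ^ 2 = algebraMap (RatFunc k) K (algebraMap (Polynomial k) (RatFunc k) f)) (P : FunFld.Place k K) :
    (0 < P.ord y → P.ord y = 1) ∧
    (0 < P.ord y ↔ ∃ P₀ : FunFld.Place k (RatFunc k), FunFld.IsOver P P₀ ∧ 0 ≤ P₀.ord (RatFunc.X : RatFunc k) ∧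
      0 < P₀.ord (algebraMap (Polynomial k) (RatFunc k) f)) := by
  classical
  have hK := Groth.Agent.FunFldLib.Quad.ff0_rat (k := k)
  have : FiniteDimensional (RatFunc k) K := Module.finite_of_finrank_pos (by omega)
  open Groth.Agent.FunFldLib in
  obtain ⟨P₀, e, hepos, he⟩ := exists_over (K := RatFunc k) hK P
  set F := algebraMap (Polynomial k) (RatFunc k) f with hF
  have hy0 : y ≠ 0 := fun h => Groth.Agent.FunFldLib.Quad.not_mem_range hf hd heq ⟨0, by rw [h, map_zero]⟩
  have key : 2 * P.ord y = e * P₀.ord F := by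
    rw [← Groth.Agent.FunFldLib.ord_map he, hF, ← heq, Groth.Agent.FunFldLib.ord_pow P hy0]; norm_num
  have hX : ∀ R : FunFld.Place k (RatFunc k), 0 ≤ R.ord RatFunc.X ↔ R.1 (RatFunc.X : RatFunc k) ≤ 1 := fun R =>
    (Groth.Agent.FunFldLib.v_le_one_iff R RatFunc.X_ne_zero).symm
  have hf0 : f ≠ 0 := fun h => by simp [h] at hd
  have hfin : 0 ≤ P₀.ord F → P₀.1 (RatFunc.X : RatFunc k) ≤ 1 := fun h => by
    by_contra hgt
    push Not at hgt
    have hv := Groth.Agent.FunFldLib.Quad.aeval_eq_pow P₀ hgt hf0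
    rw [Groth.Agent.FunFldLib.Quad.aeval_X_eq, (Groth.Agent.FunFldLib.Quad.infinite_place P₀ hgt).1, ← WithZero.exp_nsmul] at hv
    rw [FunFld.Place.ord, hF, hv, WithZero.log_exp] at h
    simp at h
    omega
  refine ⟨fun hpos => ?_, ⟨fun hpos => ?_, fun ⟨P₁, ⟨e₁, he₁⟩, _, hF₁⟩ => ?_⟩⟩
  · have hFpos : 0 < P₀.ord F := pos_of_mul_pos_right (key ▸ (by positivity : (0 : ℤ) < 2 * P.ord y)) (Int.natCast_nonneg e)
    have hv := Groth.Agent.FunFldLib.Quad.v_squarefree P₀ (hfin hFpos.le) hf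
    rw [Groth.Agent.FunFldLib.Quad.aeval_X_eq, ← hF] at hv
    have h1 : P₀.ord F = 1 := by
      rcases hv with h | h <;> rw [FunFld.Place.ord, h] at hFpos ⊢ <;> simp at hFpos ⊢
    obtain ⟨rfl, -, -⟩ := Groth.Agent.FunFldLib.Quad.ram_of_odd hK hdeg he (a := F) (by rw [h1]; exact odd_one) key
    rw [h1] at key; omega
  · have hFpos : 0 < P₀.ord F := pos_of_mul_pos_right (key ▸ (by positivity : (0 : ℤ) < 2 * P.ord y)) (Int.natCast_nonneg e)
    exact ⟨P₀, ⟨e, he⟩, (hX P₀).2 (hfin hFpos.le), hFpos⟩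
  · obtain ⟨rfl, rfl⟩ := Groth.Agent.FunFldLib.over_unique he₁ he
    have : (0 : ℤ) < (e₁ : ℤ) * P₁.ord F := mul_pos (by exact_mod_cast hepos) hF₁
    omega

end Groth.Agent.S12535
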