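import Groth.Statements.S12550
import Mathlib

set_option autoImplicit false
set_option backward.isDefEq.respectTransparency false
universe u
open GIT

namespace Groth.Agent.S12550

/-- Let V be a finite-dimensional vector space over a field K and x_0, …, x_m non-zero vectors, a
configuration of m + 1 points of the projective space P(V). If for every subspace L with 0 ≠ L ≠ V
the number of indices i with x_i ∈ L, multiplied by dim V, is less than dim L · (m + 1) (the
configuration is stable), then no two proper subspaces L', L'' with L' ∩ L'' = 0 contain between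
them all the x_i. -/
theorem result (K : Type u) [Field K]
    (V : Type u) [AddCommGroup V] [Module K V] [FiniteDimensional K V]
    (m : ℕ) (x : Fin (m + 1) → V) (hx : ∀ i, x i ≠ 0)
    (hst : ∀ L : Submodule K V, L ≠ ⊥ → L ≠ ⊤ →
      Set.ncard {i : Fin (m + 1) | x i ∈ L} * Module.finrank K V < Module.finrank K L * (m + 1)) :
    ¬ ∃ L' L'' : Submodule K V, L' ≠ ⊤ ∧ L'' ≠ ⊤ ∧ Disjoint L' L'' ∧ ∀ i, x i ∈ L' ∨ x i ∈ L'' := by
  classical
  rintro ⟨L', L'', h', h'', hd, hall⟩
  have hb : L' ≠ ⊥ ∨ L'' ≠ ⊥ := by
    by_contra h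
    push Not at h
    rcases hall 0 with h0 | h0
    · rw [h.1] at h0; exact hx 0 (by simpa using h0)
    · rw [h.2] at h0; exact hx 0 (by simpa using h0)
  have hcnt : m + 1 ≤ Set.ncard {i : Fin (m + 1) | x i ∈ L'} + Set.ncard {i : Fin (m + 1) | x i ∈ L''} := by
    refine le_trans ?_ (Set.ncard_union_le _ _)
    rw [show {i : Fin (m + 1) | x i ∈ L'} ∪ {i : Fin (m + 1) | x i ∈ L''} = Set.univ from
      Set.eq_univ_of_forall hall]
    simp
  have hdim := Submodule.finrank_add_finrank_le_of_disjoint hd
  have key : ∀ L : Submodule K V, L ≠ ⊤ →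
      Set.ncard {i : Fin (m + 1) | x i ∈ L} * Module.finrank K V ≤ Module.finrank K L * (m + 1) ∧
      (L ≠ ⊥ → Set.ncard {i : Fin (m + 1) | x i ∈ L} * Module.finrank K V < Module.finrank K L * (m + 1)) := by
    intro L hL
    refine ⟨?_, fun h => hst L h hL⟩
    by_cases h : L = ⊥
    · subst h
      simp [hx]
    · exact (hst L h hL).le
  obtain ⟨a1, a2⟩ := key L' h'
  obtain ⟨b1, b2⟩ := key L'' h''
  have := Nat.mul_le_mul_right (Module.finrank K V) hcnt
  have := Nat.mul_le_mul_right (m + 1) hdim
  rcases hb with hb | hb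
  · have := a2 hb; nlinarith
  · have := b2 hb; nlinarith

end Groth.Agent.S12550
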