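import Groth.Statements.S12555
import Groth.Agent.HopfRep.Points

set_option autoImplicit false
universe u
open TensorProduct
open GIT

namespace Groth.Agent.S12555

/-- Let k be a field, G = Spec A a linearly reductive affine group (A a commutative Hopf algebra whose
finite-dimensional comodules are all semisimple) and V a representation of G of any dimension (an
A-comodule). Then there is exactly one linear map E : V → V commuting with the coaction, with E ∘ E
= E, and with E x = x exactly for the invariant vectors x. -/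
theorem result (k : Type u) [Field k] (A : Type u) [CommRing A] [HopfAlgebra k A]
    (hG : HopfRep.IsLinearlyReductive k A) (V : Type u) [AddCommGroup V] [Module k V] [HopfRep.Comod k A V] :
    ∃! E : V →ₗ[k] V, Hoch.IsComodHom A E ∧ E ∘ₗ E = E ∧ ∀ x : V, E x = x ↔ x ∈ HopfRep.fixedPts k A V := by
  obtain ⟨β, hβ⟩ := Groth.Agent.HopfRep.Integral.exists_integral hG
  have hfix : ∀ x : V, Groth.Agent.HopfRep.Slice.slice k V β x = x ↔ x ∈ HopfRep.fixedPts k A V :=
    fun x => ⟨fun h => h ▸ Groth.Agent.HopfRep.Integral.slice_mem hβ x,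
      Groth.Agent.HopfRep.Integral.slice_of_fixed hβ⟩
  refine ⟨Groth.Agent.HopfRep.Slice.slice k V β, ⟨Groth.Agent.HopfRep.Slice.isComodHom_of_slice fun f v => ?_,
    LinearMap.ext fun v => (hfix _).2 (Groth.Agent.HopfRep.Integral.slice_mem hβ v), hfix⟩,
    fun E hE => Groth.Agent.HopfRep.Points.eq_slice hβ E hE.1 hE.2.1 hE.2.2⟩
  have hu : (HopfRep.Comod.coact (k := k) (A := A) (Groth.Agent.HopfRep.Slice.slice k V β v)) = _ :=
    Groth.Agent.HopfRep.Integral.slice_mem hβ v
  have hr : Groth.Agent.HopfRep.Slice.slice k V f (Groth.Agent.HopfRep.Slice.slice k V β v) =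
      f 1 • Groth.Agent.HopfRep.Slice.slice k V β v := by
    rw [Groth.Agent.HopfRep.Slice.slice_apply f, hu, Groth.Agent.HopfRep.Slice.contr_tmul]
  obtain ⟨K, hK⟩ : ∃ K : Submodule k V, K = LinearMap.ker (Groth.Agent.HopfRep.Slice.slice k V β) := ⟨_, rfl⟩
  rw [hr]
  have hss : HopfRep.IsSemisimpleComod k A V := Groth.Agent.HopfRep.Integral.isSemisimpleComod_of_integral hβ
  have hfixsub : HopfRep.IsSubcomod (k := k) (A := A) (HopfRep.fixedPts k A V) := by
    refine Groth.Agent.HopfRep.Slice.isSubcomod_iff.2 fun f x hx => ?_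
    rw [Groth.Agent.HopfRep.Slice.slice_apply, show HopfRep.Comod.coact (k := k) (A := A) x = x ⊗ₜ[k] (1 : A) from hx,
      Groth.Agent.HopfRep.Slice.contr_tmul]
    exact Submodule.smul_mem _ _ hx
  obtain ⟨N, hN, hc⟩ := hss _ hfixsub
  have hπ := Groth.Agent.HopfRep.Slice.isComodHom_projection hfixsub hN hc
  have hπeq : (HopfRep.fixedPts k A V).subtype ∘ₗ (HopfRep.fixedPts k A V).projectionOnto N hc =
      Groth.Agent.HopfRep.Slice.slice k V β := by
    refine Groth.Agent.HopfRep.Points.eq_slice hβ _ hπ (LinearMap.ext fun x => ?_) fun x => ⟨fun h => ?_, fun h => ?_⟩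
    · simp
    · rw [← h]; exact SetLike.coe_mem _
    · exact congrArg Subtype.val (Submodule.projectionOnto_apply_left hc ⟨x, h⟩)
  have := Groth.Agent.HopfRep.Slice.map_slice hπ f v
  rw [hπeq] at this
  rw [this, hr]

end Groth.Agent.S12555
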