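import Groth.Statements.S12573
import Groth.Agent.FunFldLib.Diff.Dual

set_option autoImplicit false
universe u v w
open FunFld

namespace Groth.Agent.S12573

/-- For a place `Q` of a finite separable extension `K'` of a geometric function field of one variable
`K/k`, lying over `P` with ramification index `e = [K' : K]`, both places with Laurent expansions
over `k` in local parameters, and any local parameter `s` at `Q` with minimal polynomial `f` over
`K`: `v_Q(f'(s)) = d(Q|P)` (computed on `dx`). -/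
theorem result (k : Type u) (K K' : Type v) [Field k] [Field K] [Field K'] [Algebra k K] [Algebra K K'] [Algebra k K']
    [IsScalarTower k K K'] [FiniteDimensional K K'] [Algebra.IsSeparable K K']
    (hK : FunFld.IsFunctionField k K) (hg : FunFld.IsGeometric k K)
    (F F' : Type w) [Field F] [Algebra k F] [Field F'] [Algebra k F']
    (P : FunFld.Place k K) (Q : FunFld.Place k K') (e : ℕ) (he : FunFld.IsOverWith Q P e)
    (φ : K →ₐ[k] LaurentSeries F) (hφ : LocRes.IsExpansionAt P.1 φ)
    (ψ : K' →ₐ[k] LaurentSeries F') (hψ : LocRes.IsExpansionAt Q.1 ψ)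
    (x : K) (hx : LocRes.vDiff φ 1 x ≠ 0) (hx' : LocRes.vDiff ψ 1 (algebraMap K K' x) ≠ 0)
    (hn : e = Module.finrank K K') (s : K') (hs : Q.1 s = WithZero.exp (-1)) :
    Q.ord (Polynomial.aeval s (Polynomial.derivative (minpoly K s))) = LocRes.diffExp φ ψ e x := by
  classical
  open Groth.Agent.FunFldLib in
  have hfin := finite_over_place (K' := K') hK.1 P
  let Qs := hfin.toFinset
  have hQs : ∀ R, R ∈ Qs ↔ FunFld.IsOver R P := fun R => Set.Finite.mem_toFinset _
  open Groth.Agent.FunFldLib in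
  have hsum := sum_ramIdx_deg hK P Qs hQs
  rw [← Finset.add_sum_erase Qs _ ((hQs Q).2 ⟨e, he⟩), Groth.Agent.FunFldLib.ramIdx_eq he, ← hn] at hsum
  have hle : Q.deg ≤ P.deg := Nat.le_of_mul_le_mul_left (show e * Q.deg ≤ e * P.deg by omega) (Groth.Agent.FunFldLib.over_pos he)
  have hQ0 := Groth.Agent.FunFldLib.deg_pos (Groth.Agent.FunFldLib.ff0_ext (K' := K') hK.1) Q
  obtain ⟨c, hc⟩ : P.deg ∣ Q.deg := by
    let s' := Classical.choose (Groth.Agent.FunFldLib.Diff.exists_parameter (P := P) hK.1 ⟨e, he⟩)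
    obtain ⟨h1, h2⟩ := Classical.choose_spec (Groth.Agent.FunFldLib.Diff.exists_parameter (P := P) hK.1 ⟨e, he⟩)
    have h := Groth.Agent.FunFldLib.ord_norm hK.1 P s' Qs hQs
    rw [Finset.sum_eq_single_of_mem Q ((hQs Q).2 ⟨e, he⟩) fun R hR hne => by
      rw [FunFld.Place.ord, h2 R ((hQs R).1 hR) hne]; simp, show Q.ord s' = 1 from (congrArg (fun v => -WithZero.log v) h1).trans (by simp), mul_one] at h
    exact Int.natCast_dvd_natCast.1 ⟨_, h.symm⟩
  have hc1 : c = 1 := by
    have hP0 := Groth.Agent.FunFldLib.deg_pos hK.1 P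
    rcases c with _ | _ | n
    · simp at hc; omega
    · rfl
    · nlinarith
  rw [hc1, mul_one] at hc
  have honly : ∀ R : FunFld.Place k K', FunFld.IsOver R P → R = Q := fun R hR => by
    by_contra hne
    have h0 : ∑ R ∈ Qs.erase Q, FunFld.ramIdx R P * R.deg = 0 := by rw [hc] at hsum; omega
    have h1 := Finset.sum_eq_zero_iff.1 h0 R (Finset.mem_erase.2 ⟨hne, (hQs R).2 hR⟩)
    obtain ⟨e', he'⟩ := hR
    rw [Groth.Agent.FunFldLib.ramIdx_eq he'] at h1
    have := Groth.Agent.FunFldLib.over_pos he'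
    have := Groth.Agent.FunFldLib.deg_pos (Groth.Agent.FunFldLib.ff0_ext (K' := K') hK.1) R
    rcases Nat.mul_eq_zero.1 h1 with h2 | h2 <;> omega
  let _ : Algebra P.O K' := ((algebraMap K K').comp (algebraMap P.O K)).toAlgebra
  have : IsScalarTower P.O K K' := IsScalarTower.of_algebraMap_eq fun _ => rfl
  open Groth.Agent.FunFldLib Groth.Agent.FunFldLib.Diff in
  obtain ⟨-, h0⟩ := norm_parameter hK.1 ⟨e, he⟩ hs (fun R hR hne => absurd (honly R hR) hne) hc.le
  open Groth.Agent.FunFldLib Groth.Agent.FunFldLib.Diff in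
  have hint : IsIntegral P.O s := isIntegral_of_le_one hK.1 fun R hR => by
    rw [honly R hR, hs, ← WithZero.exp_zero, WithZero.exp_le_exp]; omega
  open Groth.Agent.FunFldLib Groth.Agent.FunFldLib.Diff in
  have h := ord_derivative (Tate.sep_of_geometric hK hg) hφ hψ he hx hx' hs (minpoly_coeff_le hint) h0
  rw [FunFld.Place.ord, h, WithZero.log_exp, neg_neg]

end Groth.Agent.S12573
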