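import Groth.Statements.S12583
import Groth.Agent.FunFldLib.Hasse.Laurent

set_option autoImplicit false
universe u v w
open FunFld

namespace Groth.Agent.S12583

/-- At a separable place `P` of a geometric function field of one variable `K/k` with local parameter
`t`, if `x ∈ O_P` has expansion `∑ a_m t^m` then the Hasse derivative `D_t^{(n)}(x)` expands as the
series with coefficients `C(m,n) a_m` in degree `m - n`; in particular `D_t^{(n)}(O_P) ⊆ O_P`. Here
`φ` is a Laurent expansion over `k` at `P` with `φ t = X` and `H` is the total Hasse derivative with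
respect to `t`. -/
theorem result (k : Type u) (K : Type v) [Field k] [Field K] [Algebra k K] (hK : FunFld.IsFunctionField k K) (hg : FunFld.IsGeometric k K)
    (P : FunFld.Place k K) (F : Type w) [Field F] [Algebra k F]
    (φ : K →ₐ[k] LaurentSeries F) (hφ : LocRes.IsExpansionAt P.1 φ)
    (t : K) (ht : φ t = HahnSeries.single 1 1)
    (H : K →ₐ[k] PowerSeries K) (hH : LocRes.IsHasseFamily t H)
    (x : K) (hx : P.1 x ≤ 1) (n : ℕ) :
    φ (LocRes.hasseD H n x) = LaurentSeries.hasseDeriv F n (φ x) := by
  classical
  open Groth.Agent.FunFldLib in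
  obtain ⟨s, -, -, hsep⟩ := exists_separating_of_geometric hK.1 hg
  let A : K →ₐ[k] PowerSeries (LaurentSeries F) := (PowerSeries.mapAlgHom φ).comp H
  let B : K →ₐ[k] PowerSeries (LaurentSeries F) := (Laurent.taylor k).comp φ
  have hDt : KaehlerDifferential.D k K t ≠ 0 := fun h0 => by
    let _ := φ.toRingHom.toAlgebra
    have := LocRes.isScalarTower_exp φ
    have h := congrArg (LocRes.dExp φ).liftKaehlerDifferential h0
    rw [map_zero, Derivation.liftKaehlerDifferential_comp_D] at h
    have h1 := congrArg (fun f : LaurentSeries F => f.coeff 0) (show LocRes.D F (φ t) = 0 from h)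
    simp [LocRes.D_coeff, ht, -LocRes.D_apply] at h1
  have key := taylor_unique (φ := φ) s (A := A) (B := B) hDt
    (fun z => by
      show PowerSeries.constantCoeff (PowerSeries.map φ.toRingHom (H z)) = φ z
      rw [← PowerSeries.coeff_zero_eq_constantCoeff_apply, PowerSeries.coeff_map,
        PowerSeries.coeff_zero_eq_constantCoeff_apply, hH.2]
      rfl)
    (fun z => by
      show PowerSeries.constantCoeff (Laurent.taylor k (φ z)) = φ z
      rw [← PowerSeries.coeff_zero_eq_constantCoeff_apply, Laurent.taylor_coeff, LaurentSeries.hasseDeriv_zero]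
      rfl)
    (PowerSeries.ext fun m => by
      show PowerSeries.coeff m (PowerSeries.map φ.toRingHom (H t)) = PowerSeries.coeff m (Laurent.taylor k (φ t))
      rw [PowerSeries.coeff_map, Laurent.taylor_coeff, hH.1, map_add, PowerSeries.coeff_C, PowerSeries.coeff_X, ht,
        LaurentSeries.hasseDeriv_single]
      rcases m with - | - | m
      · simp [ht]
      · simp
      · simp [show Ring.choose (1 : ℤ) (m + 1 + 1) = 0 from by
          rw [show (1 : ℤ) = ((1 : ℕ) : ℤ) from rfl, Ring.choose_natCast, Nat.choose_eq_zero_of_lt (by omega)]; rfl])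
    n x
  calc φ (LocRes.hasseD H n x) = PowerSeries.coeff n (A x) := by
        show _ = PowerSeries.coeff n (PowerSeries.map φ.toRingHom (H x))
        rw [PowerSeries.coeff_map]; rfl
    _ = PowerSeries.coeff n (B x) := key
    _ = LaurentSeries.hasseDeriv F n (φ x) := Laurent.taylor_coeff (k := k) (φ x) n

end Groth.Agent.S12583
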