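import Groth.Statements.S12584
import Groth.Agent.FunFldLib.Quad.Local

set_option autoImplicit false
universe u v w
open FunFld

namespace Groth.Agent.S12584

/-- For `char k ≠ 2` and `K` of degree `2` over `k(x)` with `y² = f(x)`, `f` squarefree of degree `≥ 1`,
the forms `x^i dx/y`, `0 ≤ i < g`, are a `k`-basis of the regular differential forms: each is
regular, and every regular `z dx` has `z = a(x)/y` with `deg a < g`; regularity read through Laurent
expansions over `k` at every place (all places separable). -/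
theorem result (k : Type u) (K : Type v) [Field k] [Field K] [Algebra k K] [Algebra (RatFunc k) K] [IsScalarTower k (RatFunc k) K]
    (hK : FunFld.IsFunctionField k K) (hdeg : Module.finrank (RatFunc k) K = 2) (h2 : ringChar k ≠ 2)
    (y : K) (f : Polynomial k) (hf : Squarefree f) (hd : 1 ≤ f.natDegree)
    (heq : y ^ 2 = algebraMap (RatFunc k) K (algebraMap (Polynomial k) (RatFunc k) f))
    (F : FunFld.Place k K → Type w) [∀ P, Field (F P)] [∀ P, Algebra k (F P)] [∀ P, FiniteDimensional k (F P)]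
    (φ : ∀ P, K →ₐ[k] LaurentSeries (F P)) (hφ : ∀ P, LocRes.IsExpansionAt P.1 (φ P)) :
    (∀ i : ℕ, i < FunFld.genus k K → ∀ P,
      LocRes.vDiff (φ P) (algebraMap (RatFunc k) K RatFunc.X ^ i / y) (algebraMap (RatFunc k) K RatFunc.X) ≤ 1) ∧
    ∀ z : K, (∀ P, LocRes.vDiff (φ P) z (algebraMap (RatFunc k) K RatFunc.X) ≤ 1) →
      ∃ a : Polynomial k, a.degree < (FunFld.genus k K : WithBot ℕ) ∧
        z = algebraMap (RatFunc k) K (algebraMap (Polynomial k) (RatFunc k) a) / y := by
  classical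
  open Groth.Agent.FunFldLib Groth.Agent.FunFldLib.Quad in
  have : FiniteDimensional (RatFunc k) K := finite_K hdeg
  have : Algebra.IsSeparable (RatFunc k) K := Groth.Agent.FunFldLib.Quad.separable_of_two hdeg (fun h => h2 (by
    have h' : ((2 : ℕ) : k) = 0 := (map_eq_zero_iff (algebraMap k (RatFunc k)) (algebraMap k (RatFunc k)).injective).1 (by rw [map_natCast]; exact_mod_cast h)
    exact ((Nat.dvd_prime Nat.prime_two).1 ((ringChar.spec k 2).1 h')).resolve_left CharP.ringChar_ne_one))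
  obtain ⟨Pinf, hinf⟩ := Groth.Agent.FunFldLib.Quad.exists_inf (k := k)
  have hy0 : y ≠ 0 := fun h => Groth.Agent.FunFldLib.Quad.not_mem_range hf hd heq ⟨0, by rw [h, map_zero]⟩
  obtain ⟨-, h₁, h₃⟩ := Groth.Agent.FunFldLib.Quad.regular_basis hK Groth.Agent.FunFldLib.Quad.sep_K hdeg φ hφ Pinf hinf hy0
    ((((f.natDegree - 1) / 2 : ℕ) : ℤ) - 1) (fun P => Groth.Agent.FunFldLib.Quad.hyper_local h2 hdeg hf hd heq Pinf hinf (hφ P))
  refine ⟨h₁, fun z hz => ?_⟩
  obtain ⟨a, ha, hza⟩ := h₃ z hz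
  exact ⟨a, ha, by rw [hza, Groth.Agent.FunFldLib.Quad.aeval_x]⟩

end Groth.Agent.S12584
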