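import Groth.Statements.S12588
import Groth.Agent.FunFldLib.Quad.Local

set_option autoImplicit false
universe u v w
open FunFld

namespace Groth.Agent.S12588

/-- For `k` perfect of characteristic `2`, `K` separable of degree `2` over `k(x)` with `y² + y = f(x)`,
and a place `p` of `k(x)` where `f` has a pole whose order `2d - 1` is odd: a place `P` of `K` above
`p` with ramification index `e` (necessarily `e = 2`, `P` unique) has different exponent `d(P|p) =
2d = 1 - ord_p(f)`; the exponent is computed on `dz` through Laurent expansions over `k` at `p` and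
`P`. -/
theorem result (k : Type u) (K : Type v) [Field k] [Field K] [Algebra k K] [Algebra (RatFunc k) K] [IsScalarTower k (RatFunc k) K]
    (hK : FunFld.IsFunctionField k K) (hdeg : Module.finrank (RatFunc k) K = 2) [PerfectField k] (h2 : ringChar k = 2)
    [Algebra.IsSeparable (RatFunc k) K]
    (y : K) (hy : y ∉ Set.range (algebraMap (RatFunc k) K)) (f : RatFunc k)
    (heq : y ^ 2 + y = algebraMap (RatFunc k) K f)
    (p : FunFld.Place k (RatFunc k)) (hp : 1 < p.1 f) (hodd : Odd (p.ord f))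
    (P : FunFld.Place k K) (e : ℕ) (he : FunFld.IsOverWith P p e)
    (F F' : Type w) [Field F] [Algebra k F] [Field F'] [Algebra k F']
    (φ : RatFunc k →ₐ[k] LaurentSeries F) (hφ : LocRes.IsExpansionAt p.1 φ)
    (ψ : K →ₐ[k] LaurentSeries F') (hψ : LocRes.IsExpansionAt P.1 ψ)
    (z : RatFunc k) (hz : LocRes.vDiff φ 1 z ≠ 0) (hz' : LocRes.vDiff ψ 1 (algebraMap (RatFunc k) K z) ≠ 0) :
    LocRes.diffExp φ ψ e z = 1 - p.ord f := by
  classical
  open Groth.Agent.FunFldLib Groth.Agent.FunFldLib.Quad in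
  have : FiniteDimensional (RatFunc k) K := finite_K hdeg
  have : CharP k 2 := h2 ▸ ringChar.charP k
  have : CharP K 2 := charP_of_injective_algebraMap (algebraMap k K).injective 2
  have : CharP F 2 := charP_of_injective_algebraMap (algebraMap k F).injective 2
  have : CharP F' 2 := charP_of_injective_algebraMap (algebraMap k F').injective 2
  have : CharP (LaurentSeries F') 2 := charP_of_injective_ringHom (HahnSeries.C (Γ := ℤ) (R := F')).injective 2
  have hK0 := Groth.Agent.FunFldLib.Quad.ff0_rat (k := k)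
  have hs : Groth.Agent.FunFldLib.Tate.Sep k (RatFunc k) := ⟨RatFunc.X, by
    rw [Groth.Agent.FunFldLib.Quad.adjoin_X_top]
    exact Algebra.IsSeparable.of_algHom (⊤ : IntermediateField k (RatFunc k)) (⊤ : IntermediateField k (RatFunc k))
      { toFun := fun x => ⟨x, trivial⟩, map_one' := rfl, map_mul' := fun _ _ => rfl, map_zero' := rfl,
        map_add' := fun _ _ => rfl, commutes' := fun _ => rfl }⟩
  have hf0 : f ≠ 0 := fun h => by rw [h, map_zero] at hp; exact not_lt_zero' hp
  have hneg : p.ord f < 0 := by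
    rw [Groth.Agent.FunFldLib.v_eq_exp p hf0, ← WithZero.exp_zero, WithZero.exp_lt_exp] at hp; omega
  have hy0 : y ≠ 0 := fun h => hy ⟨0, by rw [h, map_zero]⟩
  have hgt : 1 < P.1 y := by
    by_contra hle
    push Not at hle
    have h1 : P.1 (y ^ 2 + y) ≤ 1 := (Valuation.map_add _ _ _).trans (max_le (by rw [map_pow]; exact pow_le_one₀ zero_le hle) hle)
    rw [heq, Groth.Agent.FunFldLib.over_le_iff he] at h1
    exact hp.not_ge h1
  have key : 2 * P.ord y = e * p.ord f := by
    have hlt : P.1 y < P.1 (y ^ 2) := by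
      rw [map_pow, pow_two]; exact lt_mul_of_one_lt_left (zero_lt_one.trans hgt) hgt
    have hv := Valuation.map_add_eq_of_lt_left P.1 hlt
    rw [← Groth.Agent.FunFldLib.ord_map he, ← heq, FunFld.Place.ord, FunFld.Place.ord, hv, map_pow, WithZero.log_pow, nsmul_eq_mul]
    push_cast; ring
  obtain ⟨rfl, -, -⟩ := Groth.Agent.FunFldLib.Quad.ram_of_odd hK0 hdeg he hodd key
  obtain ⟨r, hr⟩ := hodd
  have hyo : P.ord y = p.ord f := by push_cast at key; omega
  have hnz : ∀ (E : Type w) [Field E] [CharP E 2], ((p.ord f : ℤ) : E) ≠ 0 := fun E _ _ => by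
    rw [hr]; push_cast; rw [CharTwo.two_eq_zero]; simp
  obtain ⟨t, ht⟩ := hφ.2.2
  obtain ⟨c, hc, hc'⟩ := Groth.Agent.FunFldLib.Diff.exists_coeff hs φ ψ (Groth.Agent.FunFldLib.Diff.D_uniformizer hφ ht).2 f
  have hd := Groth.Agent.FunFldLib.Diff.diffExp_eq hs hφ hψ he hz hz' ht
  have h1 := congrArg Valued.v hc
  rw [Groth.Agent.FunFldLib.Quad.vD hφ, (Groth.Agent.FunFldLib.Diff.D_uniformizer hφ ht).1, mul_one,
    Groth.Agent.FunFldLib.Quad.D_exact hφ (hnz F) (Groth.Agent.FunFldLib.v_eq_exp p hf0)] at h1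
  have hDg : LocRes.D F' (ψ (algebraMap (RatFunc k) K f)) = LocRes.D F' (ψ y) := by
    rw [← heq, map_add, map_add, pow_two, Groth.Agent.FunFldLib.Quad.D_mul, CharTwo.add_self_eq_zero, zero_add]
  have h3 := congrArg Valued.v hc'
  rw [hDg, Groth.Agent.FunFldLib.Quad.vD hψ, he, ← h1, hd,
    Groth.Agent.FunFldLib.Quad.D_exact hψ (hnz F') (by rw [Groth.Agent.FunFldLib.v_eq_exp P hy0, hyo]),
    ← WithZero.exp_nsmul, ← WithZero.exp_add, WithZero.exp_inj, nsmul_eq_mul] at h3
  push_cast at h3
  omega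

end Groth.Agent.S12588
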