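import Groth.Statements.S12590
import Groth.Agent.FunFldLib.Hasse.Laurent

set_option autoImplicit false
universe u v w
open FunFld

namespace Groth.Agent.S12590

/-- At a place `P` of a geometric function field of one variable `K/k` and for a separating variable
`x`, the local residue `Res_P(y dx)` is nonzero for some `y`; stated at a separable place through a
Laurent expansion over `k`, with `y` found in `K` itself. (The companion assertion on the largest
finite extension of `k` inside the completion is not stated.) -/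
theorem result (k : Type u) (K : Type v) [Field k] [Field K] [Algebra k K] (hK : FunFld.IsFunctionField k K) (hg : FunFld.IsGeometric k K)
    (P : FunFld.Place k K) (F : Type w) [Field F] [Algebra k F] [FiniteDimensional k F]
    (φ : K →ₐ[k] LaurentSeries F) (hφ : LocRes.IsExpansionAt P.1 φ)
    (x : K) (hx : KaehlerDifferential.D k K x ≠ 0) :
    ∃ y : K, LocRes.locRes φ y x ≠ 0 := by
  classical
  open Groth.Agent.FunFldLib in
  obtain ⟨s, -, -, hsep⟩ := exists_separating_of_geometric hK.1 hg
  have hF : Algebra.IsSeparable k F := isSeparable_coeff s hφ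
  obtain ⟨b, c, hbc⟩ : ∃ b c : F, Algebra.trace k F (b * c) ≠ 0 := by
    by_contra hcon
    push Not at hcon
    exact one_ne_zero ((traceForm_nondegenerate k F).1 (1 : F) fun c => hcon 1 c)
  obtain ⟨t, ht⟩ := hφ.2.2
  have hD := dExp_ne_zero s hφ hx
  obtain ⟨j, hj⟩ : ∃ j : ℤ, Valued.v (LocRes.D F (φ x)) = WithZero.exp j :=
    ⟨_, (WithZero.exp_log ((Valuation.ne_zero_iff _).2 hD)).symm⟩
  set g := φ (t ^ (j - 1)) * LocRes.D F (φ x) with hgdef
  have hgv : Valued.v g = WithZero.exp (1 : ℤ) := by
    rw [hgdef, map_mul, hφ.1, map_zpow₀, ht, hj, ← WithZero.exp_zsmul, ← WithZero.exp_add]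
    congr 1; simp
  have hlow : ∀ m < (-1 : ℤ), g.coeff m = 0 :=
    (LaurentSeries.valuation_le_iff_coeff_lt_eq_zero (K := F) (D := -1)).1 (by rw [hgv, neg_neg])
  have hρ : g.coeff (-1) ≠ 0 := fun h0 => by
    have h := (LaurentSeries.valuation_le_iff_coeff_lt_eq_zero (K := F) (D := 0) (f := g)).2 fun m hm => by
      rcases eq_or_ne m (-1) with rfl | hne
      · exact h0
      · exact hlow m (by omega)
    rw [hgv, WithZero.exp_le_exp] at h
    omega
  obtain ⟨f, hf, hf0⟩ := hφ.2.1 (b * c / g.coeff (-1))
  refine ⟨f * t ^ (j - 1), ?_⟩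
  have hfl : ∀ m < (0 : ℤ), (φ f).coeff m = 0 :=
    (LaurentSeries.valuation_le_iff_coeff_lt_eq_zero (K := F) (D := 0)).1 (by rw [hφ.1, neg_zero, WithZero.exp_zero]; exact hf)
  have hres : LocRes.resExp φ (f * t ^ (j - 1)) x = b * c := by
    show (φ (f * t ^ (j - 1)) * LocRes.D F (φ x)).coeff (-1) = b * c
    rw [map_mul, mul_assoc, ← hgdef]
    rw [show φ f = HahnSeries.single 0 ((φ f).coeff 0) + (φ f - HahnSeries.single 0 ((φ f).coeff 0)) by ring,
      add_mul, HahnSeries.coeff_add, HahnSeries.coeff_single_mul, sub_zero, hf0, div_mul_cancel₀ _ hρ,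
      Laurent.coeff_mul_low (A := 1) (fun m hm => by
        rw [HahnSeries.coeff_sub, HahnSeries.coeff_single]
        rcases eq_or_ne m 0 with rfl | hne
        · rw [if_pos rfl, hf0, sub_self]
        · rw [if_neg hne, hfl m (by omega), sub_zero]) hlow (show (-1 : ℤ) < 1 + -1 by norm_num), add_zero]
  show Algebra.trace k F (LocRes.resExp φ (f * t ^ (j - 1)) x) ≠ 0
  rw [hres]
  exact hbc

end Groth.Agent.S12590
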