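import Groth.Statements.S12595
import Groth.Agent.FunFldLib.Hasse.Flag

set_option autoImplicit false
open FunFld

namespace Groth.Agent.S12595

/-- Over an algebraically closed constant field, let `φ` be a birational projective map of the function
field `K` (the ratios `φ i / φ 0` generate `K`), `τ` a `k`-endomorphism of `K` and `H` a total Hasse
derivative. Then the first `τ`-order of `φ` is positive — the column `φ` of `0`-th Hasse derivatives
lies in the `K`-span of the leading column `τ(φ)` — exactly when `τ` is the identity. -/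
theorem result
    (k K : Type*) [Field k] [IsAlgClosed k] [Field K] [Algebra k K]
    (hK : FunFld.IsFunctionField k K) {n : ℕ} (φ : Fin (n + 1) → K) (h0 : φ 0 ≠ 0)
    (hbir : IntermediateField.adjoin k (Set.range fun i => φ i / φ 0) = ⊤)
    (τ : K →ₐ[k] K) (s : K) (H : K →ₐ[k] PowerSeries K) (hH : LocRes.IsHasseFamily s H) :
    ¬ FunFld.IsJump K (FunFld.hcol τ H φ) 1 ↔ τ = AlgHom.id k K := by
  have h1 : FunFld.hcol τ H φ 1 = φ := funext fun i => FunFldLib.Hasse.hD_zero hH (φ i)
  rw [FunFld.IsJump, not_not, h1, show Set.Iio 1 = ({0} : Set ℕ) from Set.ext fun x => by simp,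
    Set.image_singleton, Submodule.mem_span_singleton]
  constructor
  · rintro ⟨a, ha⟩
    have hi : ∀ i, a * τ (φ i) = φ i := fun i => congrFun ha i
    have ha0 : a ≠ 0 := by
      rintro rfl
      exact h0 (by rw [← hi, zero_mul])
    refine AlgHom.ext fun z => ?_
    have hz : z ∈ IntermediateField.adjoin k (Set.range fun i => φ i / φ 0) := hbir.symm ▸ trivial
    induction hz using IntermediateField.adjoin_induction with
    | mem x hx =>
      obtain ⟨i, rfl⟩ := hx
      show τ (φ i / φ 0) = φ i / φ 0
      rw [map_div₀, ← mul_div_mul_left (τ (φ i)) (τ (φ 0)) ha0, hi i, hi 0]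
    | algebraMap c => exact τ.commutes c
    | add x y _ _ hx hy => simp only [map_add, AlgHom.id_apply] at *; rw [hx, hy]
    | inv x _ hx => simp only [map_inv₀, AlgHom.id_apply] at *; rw [hx]
    | mul x y _ _ hx hy => simp only [map_mul, AlgHom.id_apply] at *; rw [hx, hy]
  · intro h
    exact ⟨1, funext fun i => by simp [FunFld.hcol, h]⟩

end Groth.Agent.S12595
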