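import Groth.Statements.S12596
import Groth.Agent.FunFldLib.Hasse.Flag

set_option autoImplicit false
open FunFld

namespace Groth.Agent.S12596

/-- Over an algebraically closed constant field, replacing a projective map `φ` by `Aφ` for an
invertible matrix `A` over `k` does not change the `τ`-order sequence, and multiplies every
generalized Wronskian determinant `det [τ(φ) | D^(I₁) φ | ⋯ | D^(Iₙ) φ]` (Hasse derivatives taken
with `H`) by `det A`. -/
theorem result
    (k K : Type*) [Field k] [IsAlgClosed k] [Field K] [Algebra k K]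
    (hK : FunFld.IsFunctionField k K) {n : ℕ} (φ : Fin (n + 1) → K) (hφ : LinearIndependent k φ)
    (τ : K →ₐ[k] K) (s : K) (H : K →ₐ[k] PowerSeries K) (hH : LocRes.IsHasseFamily s H)
    (A : Matrix (Fin (n + 1)) (Fin (n + 1)) k) (hA : A.det ≠ 0)
    (φ' : Fin (n + 1) → K) (hφ' : ∀ i, φ' i = ∑ j, A i j • φ j) :
    (∀ J : Fin n → ℕ, FunFld.IsOrders K (FunFld.hcol τ H φ') J ↔ FunFld.IsOrders K (FunFld.hcol τ H φ) J) ∧
    ∀ I : Fin n → ℕ, (FunFld.wrMat τ H φ' I).det = algebraMap k K A.det * (FunFld.wrMat τ H φ I).det := by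
  obtain rfl : φ' = fun i => ∑ j, A i j • φ j := funext hφ'
  refine ⟨fun J => ?_, fun I => FunFldLib.wrMat_change τ H φ A I⟩
  set L := (A.map (algebraMap k K)).mulVecLin with hL
  have hinj : Function.Injective L := by
    have hd : (A.map (algebraMap k K)).det ≠ 0 := by
      rw [show (A.map (algebraMap k K)).det = algebraMap k K A.det from (RingHom.map_det _ A).symm]
      exact (map_ne_zero _).2 hA
    exact Matrix.mulVec_injective_iff_isUnit.2 ((Matrix.isUnit_iff_isUnit_det _).2 (Ne.isUnit hd))
  have hj : ∀ j, FunFld.IsJump K (FunFld.hcol τ H (fun i => ∑ l, A i l • φ l)) j ↔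
      FunFld.IsJump K (FunFld.hcol τ H φ) j := fun j => by
    have e : FunFld.hcol τ H (fun i => ∑ l, A i l • φ l) = fun m => L (FunFld.hcol τ H φ m) :=
      funext fun m => FunFldLib.hcol_map τ H φ A m
    rw [FunFld.IsJump, FunFld.IsJump, e, ← Set.image_image L, Submodule.span_image]
    exact not_congr (Function.Injective.mem_set_image hinj)
  simp only [FunFld.IsOrders, hj]

end Groth.Agent.S12596
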