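import Groth.Statements.S12599
import Groth.Agent.FunFldLib.Hasse.Flag

set_option autoImplicit false
open FunFld

namespace Groth.Agent.S12599

/-- Over an algebraically closed constant field, for a place `P` with local parameter `t`, and a
linearly independent tuple `φ = (φ₀, …, φₙ)` of functions integral at `P`, the matrix of values at
`P` of the Hasse derivatives `D_t^(j)(φᵢ)`, `j = 0, 1, …`, has rank `n + 1`: its rows are linearly
independent over the residue field. -/
theorem result
    (k K : Type*) [Field k] [IsAlgClosed k] [Field K] [Algebra k K]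
    (hK : FunFld.IsFunctionField k K) {n : ℕ} (φ : Fin (n + 1) → K) (hφ : LinearIndependent k φ)
    (P : FunFld.Place k K) (hint : ∀ i, P.1 (φ i) ≤ 1) (t : K) (ht : P.1 t = WithZero.exp (-1))
    (Ht : K →ₐ[k] PowerSeries K) (hHt : LocRes.IsHasseFamily t Ht) :
    LinearIndependent (IsLocalRing.ResidueField P.O)
      (fun i : Fin (n + 1) => fun j : ℕ => FunFld.evalP P (LocRes.hasseD Ht j (φ i))) := by
  rw [Fintype.linearIndependent_iff]
  intro a ha
  choose b hb using fun i => (FunFldLib.residue_bij hK P).2 (a i)
  set f := ∑ i, b i • φ i with hf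
  suffices h : f = 0 by
    intro i
    rw [← hb i, Fintype.linearIndependent_iff.1 hφ b h i, map_zero]
  by_contra hf0
  obtain ⟨m, c, hc, hm, hlead⟩ := FunFldLib.exists_order hK P ht hf0
    (Valuation.map_sum_le _ fun i _ => (FunFldLib.smul_le P _ _).trans (hint i))
  have h1 := FunFldLib.evalP_hD hK P ht hHt hlead le_rfl
  rw [if_pos rfl, hf, FunFldLib.Hasse.hD_sum,
    Finset.sum_congr rfl (fun l _ => FunFldLib.Hasse.hD_smul Ht m (b l) (φ l)),
    FunFldLib.evalP_sum_smul P b _ fun l => FunFldLib.hD_int hK P hHt ht (hint l) m] at h1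
  have h2 := congrFun ha m
  simp only [Finset.sum_apply, Pi.smul_apply, smul_eq_mul, Pi.zero_apply, ← hb] at h2
  rw [h2] at h1
  exact hc ((map_eq_zero _).1 h1.symm)

end Groth.Agent.S12599
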