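import Groth.Statements.S12602
import Groth.Agent.FunFldLib.Hasse.Global

set_option autoImplicit false
open FunFld

namespace Groth.Agent.S12602

/-- Over an algebraically closed constant field, for a birational projective map `φ = (φ₀, …, φₙ)`, `n ≥
1`, with orders `j₁ < ⋯ < jₙ`, and `τ ≠ 1`, the `τ`-orders of `φ` are `(0, j₁, …, j_{m-1}, j_{m+1},
…, jₙ)` for some `m`: the jump indices of `[τ(φ) | D^(0) φ | D^(1) φ | ⋯]` after the leading column
are `0` and the `jₗ` with `l ≠ m`. -/
theorem result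
    (k K : Type*) [Field k] [IsAlgClosed k] [Field K] [Algebra k K]
    (hK : FunFld.IsFunctionField k K) {n : ℕ} (hn : 0 < n) (φ : Fin (n + 1) → K) (hφ : LinearIndependent k φ)
    (h0 : φ 0 ≠ 0) (hbir : IntermediateField.adjoin k (Set.range fun i => φ i / φ 0) = ⊤)
    (τ : K →ₐ[k] K) (hτ : τ ≠ AlgHom.id k K) (s : K) (H : K →ₐ[k] PowerSeries K) (hH : LocRes.IsHasseFamily s H)
    (J : Fin n → ℕ) (hJ : FunFld.IsOrders K (FunFld.hcol (AlgHom.id k K) H φ) J) :
    ∃ m : Fin n, ∀ j : ℕ,
      FunFld.IsJump K (FunFld.hcol τ H φ) (j + 1) ↔ (j = 0 ∨ ∃ l, l ≠ m ∧ J l = j) := by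
  classical
  open Submodule in
  let d : ℕ → Fin (n + 1) → K := fun j i => LocRes.hasseD H j (φ i)
  set w : Fin (n + 1) → K := fun i => τ (φ i) with hw
  have hd0 : d 0 = φ := funext fun i => FunFldLib.Hasse.hD_zero hH (φ i)
  set S : ℕ → Submodule K (Fin (n + 1) → K) := fun j => Submodule.span K (d '' Set.Iio j) with hS
  have hmono : ∀ {a b : ℕ}, a ≤ b → S a ≤ S b := fun h =>
    Submodule.span_mono (Set.image_mono (Set.Iio_subset_Iio h))
  have hmem : ∀ {a b : ℕ}, a < b → d a ∈ S b := fun h => Submodule.subset_span ⟨_, h, rfl⟩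
  have himg : ∀ (σ : K →ₐ[k] K) (j : ℕ), FunFld.hcol σ H φ '' Set.Iio (j + 1) =
      insert (fun i => σ (φ i)) (d '' Set.Iio j) := by
    intro σ j
    ext z
    constructor
    · rintro ⟨(_ | i), hi, rfl⟩
      · exact Or.inl rfl
      · exact Or.inr ⟨i, Nat.lt_of_succ_lt_succ hi, rfl⟩
    · rintro (rfl | ⟨i, hi, rfl⟩)
      · exact ⟨0, Nat.succ_pos j, rfl⟩
      · exact ⟨i + 1, Nat.succ_lt_succ hi, rfl⟩
  have hcs : ∀ (σ : K →ₐ[k] K) (j : ℕ), FunFld.hcol σ H φ (j + 1) = d j := fun σ j => rfl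
  have hJd : ∀ j, 0 < j → (d j ∉ S j ↔ j ∈ Set.range J) := by
    intro j hj
    rw [hJ.2, FunFld.IsJump, hcs, himg, Submodule.span_insert,
      sup_eq_right.2 ((Submodule.span_singleton_le_iff_mem _ _).2
        (show (fun i => AlgHom.id k K (φ i)) ∈ S j by
          rw [show (fun i => AlgHom.id k K (φ i)) = d 0 from hd0.symm]
          exact hmem hj))]
  have hJ0 : ∀ l, J l ≠ 0 := by
    intro l h
    have := (hJ.2 0).1 ⟨l, h⟩
    rw [FunFld.IsJump, hcs, himg] at this
    exact this (Submodule.subset_span (Or.inl (by rw [hd0]; rfl)))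
  have hnot : w ∉ S 1 := by
    intro h
    rw [hS] at h
    simp only [show Set.Iio 1 = ({0} : Set ℕ) from Set.ext fun x => by simp,
      Set.image_singleton, hd0] at h
    obtain ⟨a, ha⟩ := Submodule.mem_span_singleton.1 h
    have hi : ∀ i, τ (φ i) = a * φ i := fun i => (congrFun ha i).symm
    apply hτ
    have hgen : ∀ x ∈ Set.range (fun i => φ i / φ 0), τ x = x := by
      rintro _ ⟨i, rfl⟩
      have ha0 : a ≠ 0 := by
        rintro rfl
        exact h0 ((map_eq_zero τ).1 (by rw [hi, zero_mul]))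
      rw [map_div₀, hi, hi, mul_div_mul_left _ _ ha0]
    refine AlgHom.ext fun z => ?_
    have hz : z ∈ IntermediateField.adjoin k (Set.range fun i => φ i / φ 0) := hbir.symm ▸ trivial
    induction hz using IntermediateField.adjoin_induction with
    | mem x hx => exact hgen x hx
    | algebraMap c => exact τ.commutes c
    | add x y _ _ hx hy => simp only [map_add, AlgHom.id_apply] at *; rw [hx, hy]
    | inv x _ hx => simp only [map_inv₀, AlgHom.id_apply] at *; rw [hx]
    | mul x y _ _ hx hy => simp only [map_mul, AlgHom.id_apply] at *; rw [hx, hy]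
  have hex : ∃ N, w ∈ S (N + 1) := by
    have h := FunFldLib.span_hcol hK hH hφ (AlgHom.id k K)
    obtain ⟨c, hc⟩ := Finsupp.mem_span_range_iff_exists_finsupp.1
      (show w ∈ Submodule.span K (Set.range (FunFld.hcol (AlgHom.id k K) H φ)) by rw [h]; trivial)
    refine ⟨c.support.sup id, ?_⟩
    rw [← hc]
    refine Submodule.sum_mem _ fun i hi => Submodule.smul_mem _ _ ?_
    rcases i with - | i
    · rw [show FunFld.hcol (AlgHom.id k K) H φ 0 = d 0 from hd0.symm]
      exact hmem (Nat.succ_pos _)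
    · rw [hcs]
      exact hmem (Nat.lt_succ_of_le ((Nat.le_succ i).trans (Finset.le_sup (f := id) hi)))
  set N := Nat.find hex with hNdef
  have hNmem : w ∈ S (N + 1) := Nat.find_spec hex
  have hN : ∀ j, j < N → w ∉ S (j + 1) := fun j hj => Nat.find_min hex hj
  have hNpos : 0 < N := Nat.pos_of_ne_zero fun h => hnot (by rw [h] at hNmem; exact hNmem)
  have hwN : w ∉ S N := by
    have := hN (N - 1) (by omega)
    rwa [Nat.sub_add_cancel hNpos] at this
  have hins : ∀ j, S (j + 1) = Submodule.span K (insert (d j) (d '' Set.Iio j)) := fun j => by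
    show Submodule.span K (d '' Set.Iio (j + 1)) = _
    rw [← Set.image_insert_eq, show Set.Iio (j + 1) = insert j (Set.Iio j) from
      Set.ext fun x => by simp only [Set.mem_Iio, Set.mem_insert_iff]; omega]
  have hdN : d N ∉ S N := by
    intro h
    apply hwN
    rw [hins, Submodule.span_insert_eq_span h] at hNmem
    exact hNmem
  obtain ⟨m, hm⟩ := (hJd N hNpos).1 hdN
  refine ⟨m, fun j => ?_⟩
  rw [FunFld.IsJump, hcs, himg]
  rcases Nat.eq_zero_or_pos j with rfl | hj
  · simp only [true_or, iff_true, Set.Iio_eq_empty_iff.2 isMin_bot, Set.image_empty, insert_empty_eq]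
    rw [show Set.Iio 0 = (∅ : Set ℕ) from Set.ext fun x => by simp, Set.image_empty, insert_empty_eq,
      Submodule.mem_span_singleton]
    rintro ⟨a, ha⟩
    apply hnot
    have ha0 : a ≠ 0 := by
      rintro rfl
      rw [zero_smul, hd0] at ha
      exact h0 (congrFun ha 0).symm
    have h1 : w = a⁻¹ • d 0 := by rw [← ha, inv_smul_smul₀ ha0]
    rw [h1]
    exact Submodule.smul_mem _ _ (hmem Nat.one_pos)
  simp only [hj.ne', false_or]
  have hrhs : (∃ l, l ≠ m ∧ J l = j) ↔ (d j ∉ S j ∧ j ≠ N) := by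
    rw [hJd j hj]
    constructor
    · rintro ⟨l, hl, rfl⟩
      exact ⟨⟨l, rfl⟩, fun h => hl (hJ.1.injective (h.trans hm.symm))⟩
    · rintro ⟨⟨l, rfl⟩, hne⟩
      exact ⟨l, fun h => hne (h ▸ hm), rfl⟩
  rw [hrhs]
  rcases lt_trichotomy j N with hlt | rfl | hgt
  · simp only [hlt.ne, ne_eq, not_false_eq_true, and_true]
    refine not_congr ⟨fun h => ?_, fun h => Submodule.span_mono (Set.subset_insert _ _) h⟩
    by_contra hni
    exact hN j hlt (by rw [hins]; exact mem_span_insert_exchange h hni)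
  · simp only [ne_eq, not_true, and_false, iff_false, not_not]
    rw [hins] at hNmem
    exact mem_span_insert_exchange hNmem hwN
  · simp only [hgt.ne', ne_eq, not_false_eq_true, and_true]
    rw [Submodule.span_insert_eq_span]
    exact hmono (show N + 1 ≤ j by omega) hNmem

end Groth.Agent.S12602
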