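import Groth.Statements.S12606
import Groth.Agent.FunFldLib.Hasse.Global

set_option autoImplicit false
open FunFld

namespace Groth.Agent.S12606

/-- Over an algebraically closed constant field, let `P` be a strong fixed point of the `k`-endomorphism
`τ`, `φ = (φ₀, …, φₙ)` (`n ≥ 1`) an effective projective map normalized at `P` with `τ(φ)` not a
`K`-multiple of `φ`, `t` a local parameter at `P`, `j₁, …, jₙ` the `τ`-orders of `φ` and `j'₁, …,
j'ₙ` the orders of `φ` at `P`. Then `jₗ ≤ j'ₗ - j'₁` for `1 ≤ l ≤ n`. -/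
theorem result
    (k K : Type*) [Field k] [IsAlgClosed k] [Field K] [Algebra k K]
    (hK : FunFld.IsFunctionField k K) (τ : K →ₐ[k] K) (P : FunFld.Place k K) (hP : FunFld.IsStrongFixedPt τ P)
    {n : ℕ} (hn : 0 < n) (φ : Fin (n + 1) → K) (hφ : LinearIndependent k φ)
    (heff : (1 : K) ∈ Submodule.span k (Set.range φ)) (hnorm : ∀ i, P.1 (φ i) ≤ 1)
    (hτφ : ¬ ∃ y : K, ∀ i, τ (φ i) = y * φ i)
    (t : K) (ht : P.1 t = WithZero.exp (-1))
    (Ht : K →ₐ[k] PowerSeries K) (hHt : LocRes.IsHasseFamily t Ht)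
    (J : Fin n → ℕ) (hJ : FunFld.IsOrders K (FunFld.hcol τ Ht φ) J)
    (J' : Fin n → ℕ) (hJ' : FunFld.IsOrders (IsLocalRing.ResidueField P.O) (FunFld.hcolAt P Ht φ) J') :
    ∀ l, J l + J' ⟨0, hn⟩ ≤ J' l := by
  intro l
  have hfix : FunFld.IsFixedPt τ P := fun z hz => (hP z hz).trans_lt (by
    rw [← WithZero.exp_zero]; exact WithZero.exp_lt_exp.2 (by omega))
  obtain ⟨φ', hs, hli, h0, hl⟩ := FunFldLib.exists_adapted hK P ht hHt hφ heff hnorm hJ'
  obtain ⟨M, hM, he⟩ := FunFldLib.exists_change (φ := φ) hli hs.le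
  have hq : (l : ℕ) + 1 ≤ n := l.2
  have hmono : J' ⟨0, hn⟩ ≤ J' l := hJ'.1.monotone (Fin.mk_le_mk.2 (Nat.zero_le _))
  let ι : Fin ((l : ℕ) + 1) → Fin n := Fin.castLE hq
  obtain ⟨I, hI, hdet⟩ := FunFldLib.exists_minor k (N := J' l - J' ⟨0, hn⟩) (fun r => J' (ι r))
    (hJ'.1.injective.comp (Fin.castLE_injective hq)) (J' ⟨0, hn⟩)
    (fun r => hJ'.1.monotone (Fin.mk_le_mk.2 (Nat.zero_le _)))
    (fun r => by
      have : J' (ι r) ≤ J' l := hJ'.1.monotone (show (ι r : ℕ) ≤ (l : ℕ) from Nat.lt_succ_iff.1 r.2)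
      omega)
  let c : Fin ((l : ℕ) + 2) → Fin (n + 1) := Fin.castLE (by omega)
  have hest := (FunFldLib.det_est hK P hfix ht hHt (fun i => φ' (c i)) (by simpa [c] using h0)
    (fun r => J' (ι r)) (fun r => FunFldLib.order_pos hK P ht hHt hnorm hJ' _)
    (fun r => by simpa [c, ι, Fin.castLE_succ] using (hl (ι r)).2) I).2 (Or.inr hP)
  have hne : (FunFld.wrMat τ Ht (fun i => φ' (c i)) I).det ≠ 0 := by
    intro h
    have h2 := hest.2 hdet
    rw [h, map_zero] at h2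
    exact WithZero.exp_ne_zero h2.symm
  rw [he] at hne
  have := FunFldLib.orders_le_of_minor φ hJ (fun i => M (c i)) I _ hI hne l (Nat.lt_succ_self _)
  omega

end Groth.Agent.S12606
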