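import Groth.Statements.S12604
import Groth.Agent.FunFldLib.Fibre.Weier
import Groth.Agent.S12606
import Groth.Agent.FunFldLib.Hasse.Expansion

set_option autoImplicit false
open FunFld

namespace Groth.Agent.S12604

/-- Over an algebraically closed constant field, let `τ` be a `k`-endomorphism of the function field `K`
of genus `g`, of degree `deg τ = [K : τ(K)]`, and `φ = (φ₀, …, φₙ)` a projective map such that
`τ(φ)` is not a `K`-multiple of `φ`, with `τ`-orders `j₁, …, jₙ`. Then the number `N` of strong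
fixed points of `τ` (places whose maximal ideal `τ` maps into its square) is finite and `n N ≤ (n +
deg τ) deg φ + (2g - 2)(j₁ + ⋯ + jₙ)`, i.e. `N ≤ (1/n) deg W(φ, τ)`. -/
theorem result
    (k K : Type*) [Field k] [IsAlgClosed k] [Field K] [Algebra k K]
    (hK : FunFld.IsFunctionField k K) (τ : K →ₐ[k] K) {n : ℕ} (φ : Fin (n + 1) → K) (hφ : LinearIndependent k φ)
    (hτφ : ¬ ∃ y : K, ∀ i, τ (φ i) = y * φ i) (s : K) (H : K →ₐ[k] PowerSeries K) (hH : LocRes.IsHasseFamily s H)
    (J : Fin n → ℕ) (hJ : FunFld.IsOrders K (FunFld.hcol τ H φ) J) :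
    {P : FunFld.Place k K | FunFld.IsStrongFixedPt τ P}.Finite ∧
    (n : ℤ) * (Set.ncard {P : FunFld.Place k K | FunFld.IsStrongFixedPt τ P} : ℤ) ≤
      ((n : ℤ) + Module.finrank τ.fieldRange K) * (FunFld.mapDiv k φ).deg +
        (2 * (FunFld.genus k K : ℤ) - 2) * ∑ l, (J l : ℤ) := by
  classical
  rcases Nat.eq_zero_or_pos n with rfl | hn
  · refine absurd ⟨τ (φ 0) / φ 0, fun i => ?_⟩ hτφ
    rw [show i = 0 from Fin.ext (by omega), div_mul_cancel₀ _ (hφ.ne_zero 0)]
  have hex : ∀ P : FunFld.Place k K, ∃ Φ : K →ₐ[k] LaurentSeries k, LocRes.IsExpansionAt P.1 Φ := fun P =>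
    FunFldLib.exists_expansion hK hH P
  choose Φ hΦ using hex
  set W := FunFld.wDiv τ H Φ s φ J
  have hW : ∀ P, FunFld.IsStrongFixedPt τ P → (n : ℤ) ≤ W P := by
    intro P hP
    have hfix : FunFld.IsFixedPt τ P := fun z hz => (hP z hz).trans_lt (by
      rw [← WithZero.exp_zero]; exact WithZero.exp_lt_exp.2 (by omega))
    obtain ⟨t, -, ht⟩ := FunFldLib.exists_exp (P := P) (-1)
    obtain ⟨ρ, -, -, Ht, hHt, -⟩ := FunFldLib.exists_family hK P ht hH
    obtain ⟨y, hy, hnorm, heff, -, hli⟩ := FunFldLib.exists_normalized hK hφ P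
    obtain ⟨J', hJ'⟩ := FunFldLib.exists_ordersAt hK P ht hHt hli heff hnorm
    have hτψ : ¬ ∃ a : K, ∀ i, τ ((y • φ) i) = a * (y • φ) i := by
      rintro ⟨a, ha⟩
      refine hτφ ⟨a * y / τ y, fun i => ?_⟩
      have h := ha i
      simp only [Pi.smul_apply, smul_eq_mul, map_mul] at h
      rw [div_mul_eq_mul_div, eq_div_iff ((map_ne_zero τ).2 hy)]
      linear_combination h
    have hJt := (FunFldLib.orders_scale τ hHt φ hy J).2 ((FunFldLib.orders_var τ φ hK hH hHt J).2 hJ)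
    have hle := S12606.result k K hK τ P hP hn (y • φ) hli heff hnorm hτψ t ht Ht hHt J hJt J' hJ'
    obtain ⟨φ', hs, hli', e0, hl⟩ := FunFldLib.exists_adapted hK P ht hHt hli heff hnorm hJ'
    obtain ⟨M, hM, he⟩ := FunFldLib.exists_change (φ := y • φ) hli' hs.le
    have hpos := FunFldLib.order_pos hK P ht hHt hnorm hJ'
    have hest := (FunFldLib.det_est hK P hfix ht hHt φ' e0 J' hpos (fun l => (hl l).2) J).1
    rw [he, FunFldLib.wrMat_change, map_mul, FunFldLib.v_algebraMap P hM, one_mul] at hest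
    obtain ⟨hd, hw⟩ := FunFldLib.wDiv_fixed hK hφ τ hH hΦ hfix hJ ht hHt hy heff hnorm
    rw [FunFldLib.v_le_exp_iff P hd, neg_neg] at hest
    have h1 : (n : ℤ) ≤ ∑ l, ((J' l : ℤ) - J l) := by
      have := Finset.sum_le_sum (s := (Finset.univ : Finset (Fin n))) (f := fun _ => (1 : ℤ))
        (g := fun l => (J' l : ℤ) - J l) fun l _ => by
          have := hle l; have := hpos ⟨0, hn⟩; omega
      simpa using this
    show (n : ℤ) ≤ FunFld.wDiv τ H Φ s φ J P
    rw [hw]
    omega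
  have hsub : {P : FunFld.Place k K | FunFld.IsStrongFixedPt τ P} ⊆ W.support := fun P hP =>
    Finsupp.mem_support_iff.2 (by have := hW P hP; omega)
  have hfin := W.support.finite_toSet.subset hsub
  refine ⟨hfin, ?_⟩
  have hdeg := FunFldLib.deg_wDiv hK hφ τ hH Φ hΦ J
  rw [Set.ncard_eq_toFinset_card _ hfin]
  have hnn := FunFldLib.wDiv_nonneg hK hφ τ hH hΦ hJ
  have h2 : (n : ℤ) * (hfin.toFinset.card : ℤ) ≤ W.deg := by
    rw [FunFld.Divisor.deg, Finsupp.sum]
    calc (n : ℤ) * (hfin.toFinset.card : ℤ) = ∑ P ∈ hfin.toFinset, (n : ℤ) := by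
          rw [Finset.sum_const, nsmul_eq_mul, mul_comm]
      _ ≤ ∑ P ∈ hfin.toFinset, W P * (P.deg : ℤ) := Finset.sum_le_sum fun P hP => by
          rw [FunFldLib.deg_eq_one hK P, Nat.cast_one, mul_one]; exact hW P (hfin.mem_toFinset.1 hP)
      _ ≤ _ := Finset.sum_le_sum_of_subset_of_nonneg (fun P hP => hsub (hfin.mem_toFinset.1 hP))
          fun P _ _ => mul_nonneg (hnn P) (Int.natCast_nonneg _)
  rw [hdeg] at h2
  linarith

end Groth.Agent.S12604
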