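import Groth.Statements.S12608
import Groth.Agent.FunFldLib.Hasse.Div

set_option autoImplicit false
open FunFld

namespace Groth.Agent.S12608

/-- Over an algebraically closed constant field, let `φ = (φ₀, …, φₙ)` be an effective projective map
normalized at the place `P`, `t` a local parameter at `P`, `j₁, …, jₙ` the orders of `φ` and `j'₁,
…, j'ₙ` the orders of `φ` at `P`. Then `jₗ ≤ j'ₗ` for all `l`, and the following are equivalent: all
`j'ₗ = jₗ`; the Wronskian `w_t(φ)` does not vanish at `P`; the Weierstrass divisor `W(φ)` has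
coefficient `0` at `P` (the divisor of `dt` in it read through a family of Laurent expansions). -/
theorem result
    (k K : Type*) [Field k] [IsAlgClosed k] [Field K] [Algebra k K]
    (hK : FunFld.IsFunctionField k K) (P : FunFld.Place k K) {n : ℕ} (φ : Fin (n + 1) → K) (hφ : LinearIndependent k φ)
    (heff : (1 : K) ∈ Submodule.span k (Set.range φ)) (hnorm : ∀ i, P.1 (φ i) ≤ 1)
    (t : K) (ht : P.1 t = WithZero.exp (-1))
    (Ht : K →ₐ[k] PowerSeries K) (hHt : LocRes.IsHasseFamily t Ht)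
    (J : Fin n → ℕ) (hJ : FunFld.IsOrders K (FunFld.hcol (AlgHom.id k K) Ht φ) J)
    (J' : Fin n → ℕ) (hJ' : FunFld.IsOrders (IsLocalRing.ResidueField P.O) (FunFld.hcolAt P Ht φ) J')
    (Φ : FunFld.Place k K → (K →ₐ[k] LaurentSeries k))
    (hΦ : ∀ P : FunFld.Place k K, LocRes.IsExpansionAt P.1 (Φ P)) :
    (∀ l, J l ≤ J' l) ∧
    ((∀ l, J' l = J l) ↔ FunFld.evalP P (FunFld.wrMat (AlgHom.id k K) Ht φ J).det ≠ 0) ∧
    ((∀ l, J' l = J l) ↔ FunFld.wDiv (AlgHom.id k K) Ht Φ t φ J P = 0) := by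
  classical
  have hid : FunFld.IsFixedPt (AlgHom.id k K) P := fun z hz => hz
  obtain ⟨φ', hs, hli, h0, hl⟩ := FunFldLib.exists_adapted hK P ht hHt hφ heff hnorm hJ'
  obtain ⟨M, hM, he⟩ := FunFldLib.exists_change (φ := φ) hli hs.le
  have hJpos : ∀ l, 0 < J l := fun l => by
    rcases Nat.eq_zero_or_pos (J l) with h | h
    · refine (((hJ.2 (J l)).1 ⟨l, rfl⟩) (Submodule.subset_span ⟨0, Nat.succ_pos _, ?_⟩)).elim
      funext i
      rw [h]
      simp [FunFld.hcol, LocRes.hasseD_apply, PowerSeries.coeff_zero_eq_constantCoeff_apply, hHt.2]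
    · exact h
  have hJ'pos := FunFldLib.order_pos hK P ht hHt hnorm hJ'
  have hest := fun I => FunFldLib.det_est hK P hid ht hHt φ' h0 J' hJ'pos (fun l => (hl l).2) I
  have hw : ∀ I, P.1 (FunFld.wrMat (AlgHom.id k K) Ht φ' I).det =
      P.1 (FunFld.wrMat (AlgHom.id k K) Ht φ I).det := fun I => by
    rw [he, FunFldLib.wrMat_change, map_mul, FunFldLib.v_algebraMap P hM, one_mul]
  simp only [hw] at hest
  have hbin : ∀ I : Fin n → ℕ, StrictMono I → (FunFld.binomMat k I I).det ≠ 0 := fun I hI => by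
    rw [FunFldLib.binom_self_det k I hI]; exact one_ne_zero
  have hle : ∀ l, J l ≤ J' l := FunFldLib.orders_le_of_det φ hJ J' hJ'.1 (fun h => by
    have h1 := ((hest J').2 (Or.inl hJ'pos)).2 (hbin J' hJ'.1)
    rw [h, map_zero] at h1
    exact WithZero.exp_ne_zero h1.symm)
  set w := (FunFld.wrMat (AlgHom.id k K) Ht φ J).det with hwdef
  have hsum : 0 ≤ ∑ l, ((J' l : ℤ) - J l) := Finset.sum_nonneg fun l _ => by
    have := hle l; omega
  have hint : P.1 w ≤ 1 := (hest J).1.trans (by
    rw [← WithZero.exp_zero]; exact WithZero.exp_le_exp.2 (by omega))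
  have h2 : (∀ l, J' l = J l) ↔ P.1 w = 1 := by
    constructor
    · intro heq
      have : J' = J := funext heq
      rw [((hest J).2 (Or.inl hJpos)).2 (this ▸ hbin J' hJ'.1), this]
      simp
    · intro h
      have h1 := (hest J).1
      rw [← hwdef, h, ← WithZero.exp_zero, WithZero.exp_le_exp] at h1
      intro l
      have h3 := (Finset.sum_eq_zero_iff_of_nonneg (s := Finset.univ)
        (f := fun l => (J' l : ℤ) - J l) fun l _ => by have := hle l; omega).1 (by omega) l (Finset.mem_univ l)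
      have := hle l
      omega
  refine ⟨hle, by rw [h2, FunFldLib.evalP_ne_zero_iff P hint], ?_⟩
  have hw0 : w ≠ 0 := by
    obtain ⟨J2, hJ2, hd2⟩ := FunFldLib.exists_orders_hcol hK hHt hφ (AlgHom.id k K)
    have : J = J2 := hJ.1.range_inj hJ2.1 |>.1 (Set.ext fun j => (hJ.2 j).trans (hJ2.2 j).symm)
    rw [hwdef, this]
    exact hd2
  have hv1 := FunFldLib.exists_v_one P φ heff hnorm
  have hm : FunFld.mapDiv k ((AlgHom.id k K) ∘ φ) P = 0 := FunFldLib.mapDiv_zero P _ hnorm hv1
  rw [FunFld.wDiv]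
  simp only [Finsupp.add_apply, Finsupp.smul_apply, FunFldLib.div_apply hK.1,
    FunFldLib.mapDiv_zero P φ hnorm hv1, FunFldLib.divDiff_apply_zero P Φ (hΦ P) ht, hm, smul_zero, add_zero]
  rw [h2, ← hwdef]
  constructor
  · intro h; simp [FunFld.Place.ord, h]
  · intro h
    rw [FunFldLib.v_eq_exp P hw0, h]
    simp

end Groth.Agent.S12608
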