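import Groth.Statements.S12609
import Groth.Agent.FunFldLib.Hasse.Div

set_option autoImplicit false
open FunFld

namespace Groth.Agent.S12609

/-- Over an algebraically closed constant field, let `φ` be the canonical map (a basis of `L(C)`, `C`
canonical), normalized at the place `P` after multiplication by `y ≠ 0`, and `t` a local parameter
at `P`. For `j ≥ 1`: the canonical orders at `P` include `j` exactly when `j + 1` is a gap number at
`P`, i.e. `L((j+1)P) = L(jP)`. -/
theorem result
    (k K : Type*) [Field k] [IsAlgClosed k] [Field K] [Algebra k K]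
    (hK : FunFld.IsFunctionField k K) (C : FunFld.Divisor k K) (hC : FunFld.IsCanonical k K C)
    {n : ℕ} (φ : Fin (n + 1) → K) (hφ : LinearIndependent k φ)
    (hspan : Submodule.span k (Set.range φ) = FunFld.L C)
    (P : FunFld.Place k K) (y : K) (hy : y ≠ 0)
    (heff : (1 : K) ∈ Submodule.span k (Set.range (y • φ))) (hnorm : ∀ i, P.1 (y * φ i) ≤ 1)
    (t : K) (ht : P.1 t = WithZero.exp (-1))
    (Ht : K →ₐ[k] PowerSeries K) (hHt : LocRes.IsHasseFamily t Ht) (j : ℕ) (hj : 1 ≤ j) :
    FunFld.IsJump (IsLocalRing.ResidueField P.O) (FunFld.hcolAt P Ht (y • φ)) (j + 1) ↔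
      FunFld.L (Finsupp.single P ((j : ℤ) + 1)) = FunFld.L (Finsupp.single P (j : ℤ)) := by
  classical
  rw [FunFldLib.jump_iff hK P ht hHt (y • φ) (fun i => by simpa using hnorm i)]
  set D := C + FunFld.div k y⁻¹ with hD
  have hV : ∀ f, f ∈ Submodule.span k (Set.range (y • φ)) ↔ f ∈ FunFld.L D := by
    intro f
    rw [← FunFldLib.L_shift hK.1 C (inv_ne_zero hy) f, ← hspan]
    have e : Submodule.span k (Set.range (y • φ)) =
        (Submodule.span k (Set.range φ)).map (LinearMap.mulLeft k y) := by
      rw [Submodule.map_span, ← Set.range_comp]; rfl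
    rw [e, Submodule.mem_map]
    constructor
    · rintro ⟨g, hg, rfl⟩
      rwa [LinearMap.mulLeft_apply, inv_mul_cancel_left₀ hy]
    · intro hg
      exact ⟨_, hg, by rw [LinearMap.mulLeft_apply, mul_inv_cancel_left₀ hy]⟩
  have hell : ∀ A : FunFld.Divisor k K, FunFld.ell (D - A) = FunFld.ell (C - A) := fun A => by
    rw [hD, show C + FunFld.div k y⁻¹ - A = (C - A) + FunFld.div k y⁻¹ by abel,
      FunFldLib.ell_add_div hK.1 _ (inv_ne_zero hy)]
  have hle : ∀ f ∈ FunFld.L D, P.1 f ≤ 1 := by
    intro f hf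
    obtain ⟨a, rfl⟩ := (Submodule.mem_span_range_iff_exists_fun k).1 ((hV f).2 hf)
    exact Valuation.map_sum_le _ fun i _ => (FunFldLib.smul_le P _ _).trans (by simpa using hnorm i)
  have hD0 : D P = 0 := by
    have hg : 0 < FunFld.genus k K := by
      rw [← (FunFldLib.deg_canonical hK hC).1, FunFld.ell, ← hspan, finrank_span_eq_card hφ]
      simp
    have h1 := FunFldLib.riemann_roch hK hC (Finsupp.single P 1)
    have h2 := FunFldLib.ell_le_one_of_deg_one hK hg (fun Q => FunFldLib.deg_eq_one hK Q)
      (D := Finsupp.single P 1) (by rw [FunFldLib.deg_single, FunFldLib.deg_eq_one hK P]; simp)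
    rw [FunFldLib.deg_single, FunFldLib.deg_eq_one hK P] at h1
    push_cast at h1
    obtain ⟨f, hf, hf'⟩ : ∃ f ∈ FunFld.L D, f ∉ FunFld.L (D - Finsupp.single P 1) := by
      by_contra h
      push Not at h
      have := FunFldLib.finite_L hK.1 (D - Finsupp.single P 1)
      have h3 : FunFld.ell D ≤ FunFld.ell (D - Finsupp.single P 1) := Submodule.finrank_mono h
      rw [hell] at h3
      have h4 := hell 0
      rw [sub_zero, sub_zero, (FunFldLib.deg_canonical hK hC).1] at h4
      omega
    obtain ⟨hf0, hford⟩ := FunFldLib.ord_eq_of_exact hK hf hf'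
    have h5 := hle f hf
    rw [FunFldLib.v_le_one_iff P hf0, hford] at h5
    have h6 := ((hV 1).1 heff) P
    rw [map_one, ← WithZero.exp_zero, WithZero.exp_le_exp] at h6
    omega
  set A : FunFld.Divisor k K := Finsupp.single P (j : ℤ) with hA
  set A1 : FunFld.Divisor k K := Finsupp.single P ((j : ℤ) + 1) with hA1
  have hA' : A1 = A + Finsupp.single P 1 := by rw [hA, hA1, ← Finsupp.single_add]
  have hiff : (∃ f ∈ Submodule.span k (Set.range (y • φ)), P.1 f = WithZero.exp (-(j : ℤ))) ↔
      FunFld.ell (D - A) ≠ FunFld.ell (D - A1) := by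
    have hsub : D - A1 = D - A - Finsupp.single P 1 := by rw [hA']; abel
    have hmono : FunFld.L (D - A1) ≤ FunFld.L (D - A) := by
      rw [hsub]; exact FunFldLib.L_mono (sub_le_self _ (Finsupp.single_nonneg.2 zero_le_one))
    constructor
    · rintro ⟨f, hf, hfv⟩ he
      have := FunFldLib.finite_L hK.1 (D - A)
      have h1 : f ∈ FunFld.L (D - A) := fun Q => by
        rcases eq_or_ne Q P with rfl | hne
        · rw [hfv]; simp [hD0, hA]
        · simpa [hA, Finsupp.single_eq_of_ne hne] using (hV f).1 hf Q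
      rw [← Submodule.eq_of_le_of_finrank_eq hmono he.symm] at h1
      have h2 := h1 P
      rw [hfv, WithZero.exp_le_exp] at h2
      simp [hD0, hA1] at h2
    · intro hne
      obtain ⟨f, hf, hf'⟩ : ∃ f ∈ FunFld.L (D - A), f ∉ FunFld.L (D - A - Finsupp.single P 1) := by
        by_contra h
        push Not at h
        rw [← hsub] at h
        have := FunFldLib.finite_L hK.1 (D - A)
        exact hne (le_antisymm (Submodule.finrank_mono (hmono)) (by
          have := FunFldLib.finite_L hK.1 (D - A1)
          exact Submodule.finrank_mono h) |>.symm)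
      obtain ⟨hf0, hford⟩ := FunFldLib.ord_eq_of_exact hK hf hf'
      refine ⟨f, (hV f).2 (FunFldLib.L_mono (sub_le_self _ (Finsupp.single_nonneg.2 (Int.natCast_nonneg j))) hf), ?_⟩
      rw [FunFldLib.v_eq_exp P hf0, hford]
      simp [hD0, hA]
  have := FunFldLib.finite_L hK.1 A
  have := FunFldLib.finite_L hK.1 A1
  have := FunFldLib.finite_L hK.1 (D - A)
  have hm : FunFld.L A ≤ FunFld.L A1 := by
    rw [hA']; exact FunFldLib.L_mono (le_add_of_nonneg_right (Finsupp.single_nonneg.2 zero_le_one))
  have h7 : FunFld.L A1 = FunFld.L A ↔ FunFld.ell A1 = FunFld.ell A :=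
    ⟨fun h => by rw [FunFld.ell, h]; rfl, fun h => (Submodule.eq_of_le_of_finrank_eq hm h.symm).symm⟩
  rw [hiff, hell, hell, h7]
  have r1 := FunFldLib.riemann_roch hK hC A
  have r2 := FunFldLib.riemann_roch hK hC A1
  simp only [hA, hA1, FunFldLib.deg_single, FunFldLib.deg_eq_one hK P] at r1 r2 ⊢
  push_cast at r1 r2
  have hdrop := FunFldLib.ell_le_drop hK (C - A) P
  have hdrop2 := FunFldLib.ell_le_drop hK A1 P
  rw [show A1 - Finsupp.single P 1 = A by rw [hA']; abel] at hdrop2
  rw [show C - A - Finsupp.single P 1 = C - A1 by rw [hA']; abel] at hdrop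
  simp only [hA, hA1] at hdrop hdrop2
  constructor
  · intro h; omega
  · intro h; exact ⟨hj, by omega⟩

end Groth.Agent.S12609
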