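import Groth.Statements.S12610
import Groth.Agent.FunFldLib.Hasse.Weier
import Groth.Agent.S12602

set_option autoImplicit false
open FunFld

namespace Groth.Agent.S12610

/-- Over an algebraically closed constant field, for a birational projective map `φ`, a `k`-endomorphism
`τ ≠ 1` and a place `P` fixed by `τ`, the place `P` is a Weierstrass point of `φ` with respect to
`τ`: the Weierstrass divisor `W(φ, τ) = [w_s(φ, τ)] + [τ(φ)] + n[φ] + j(φ, τ)[ds]` has positive
coefficient at `P` (the divisor of `ds` read through a family of Laurent expansions). -/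
theorem result
    (k K : Type*) [Field k] [IsAlgClosed k] [Field K] [Algebra k K]
    (hK : FunFld.IsFunctionField k K) {n : ℕ} (φ : Fin (n + 1) → K) (hφ : LinearIndependent k φ)
    (h0 : φ 0 ≠ 0) (hbir : IntermediateField.adjoin k (Set.range fun i => φ i / φ 0) = ⊤)
    (τ : K →ₐ[k] K) (hτ : τ ≠ AlgHom.id k K) (P : FunFld.Place k K) (hP : FunFld.IsFixedPt τ P)
    (s : K) (H : K →ₐ[k] PowerSeries K) (hH : LocRes.IsHasseFamily s H)
    (J : Fin n → ℕ) (hJ : FunFld.IsOrders K (FunFld.hcol τ H φ) J)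
    (Φ : FunFld.Place k K → (K →ₐ[k] LaurentSeries k))
    (hΦ : ∀ P : FunFld.Place k K, LocRes.IsExpansionAt P.1 (Φ P)) :
    0 < FunFld.wDiv τ H Φ s φ J P := by
  classical
  obtain ⟨t, -, ht⟩ := FunFldLib.exists_exp (P := P) (-1)
  obtain ⟨ρ, -, -, Ht, hHt, -⟩ := FunFldLib.exists_family hK P ht hH
  obtain ⟨y, hy, hnorm, heff, -, hli⟩ := FunFldLib.exists_normalized hK hφ P
  have hn : 0 < n := by
    rcases Nat.eq_zero_or_pos n with rfl | h
    · exfalso
      apply hτ
      refine AlgHom.ext fun z => ?_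
      have hz : z ∈ IntermediateField.adjoin k (Set.range fun i => φ i / φ 0) := hbir.symm ▸ trivial
      induction hz using IntermediateField.adjoin_induction with
      | mem x hx =>
        obtain ⟨i, rfl⟩ := hx
        rw [show i = 0 from Fin.ext (by omega)]
        simp [div_self h0]
      | algebraMap c => exact τ.commutes c
      | add x y _ _ hx hy => simp only [map_add, AlgHom.id_apply] at *; rw [hx, hy]
      | inv x _ hx => simp only [map_inv₀, AlgHom.id_apply] at *; rw [hx]
      | mul x y _ _ hx hy => simp only [map_mul, AlgHom.id_apply] at *; rw [hx, hy]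
    · exact h
  set ψ := y • φ with hψdef
  have h0' : ψ 0 ≠ 0 := hli.ne_zero 0
  have hbir' : IntermediateField.adjoin k (Set.range fun i => ψ i / ψ 0) = ⊤ := by
    rw [← hbir]
    congr 2
    funext i
    exact mul_div_mul_left _ _ hy
  obtain ⟨J', hJ'⟩ := FunFldLib.exists_ordersAt hK P ht hHt hli heff hnorm
  obtain ⟨J0, hJ0, hd0⟩ := FunFldLib.exists_orders_hcol hK hHt hli (AlgHom.id k K)
  obtain ⟨φ', hs, hli', e0, hl⟩ := FunFldLib.exists_adapted hK P ht hHt hli heff hnorm hJ'
  obtain ⟨M, hM, he⟩ := FunFldLib.exists_change (φ := ψ) hli' hs.le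
  have hpos := FunFldLib.order_pos hK P ht hHt hnorm hJ'
  have hle : ∀ l, J0 l ≤ J' l := FunFldLib.orders_le_of_det ψ hJ0 J' hJ'.1 (fun h => by
    have h1 := ((FunFldLib.det_est hK P (τ := AlgHom.id k K) (fun z hz => hz) ht hHt φ' e0 J' hpos
      (fun l => (hl l).2) J').2 (Or.inl hpos)).2
        (by rw [FunFldLib.binom_self_det k J' hJ'.1]; exact one_ne_zero)
    rw [he, FunFldLib.wrMat_change, h, mul_zero, map_zero] at h1
    exact WithZero.exp_ne_zero h1.symm)
  have hJt : FunFld.IsOrders K (FunFld.hcol τ Ht ψ) J :=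
    (FunFldLib.orders_scale τ hHt φ hy J).2 ((FunFldLib.orders_var τ φ hK hH hHt J).2 hJ)
  obtain ⟨m, hm⟩ := S12602.result k K hK hn ψ hli h0' hbir' τ hτ t Ht hHt J0 hJ0
  have hJ0pos : ∀ l, J0 l ≠ 0 := by
    intro l h
    refine ((hJ0.2 0).1 ⟨l, h⟩) (Submodule.subset_span ⟨0, Nat.succ_pos _, ?_⟩)
    funext i
    simp [FunFld.hcol, LocRes.hasseD_apply, PowerSeries.coeff_zero_eq_constantCoeff_apply, hHt.2]
  have hrange : Finset.univ.image J = insert 0 ((Finset.univ.erase m).image J0) := by
    ext j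
    have := (hJt.2 j).trans (hm j)
    simp only [Set.mem_range] at this
    simp only [Finset.mem_image, Finset.mem_univ, true_and, Finset.mem_insert, Finset.mem_erase, and_true]
    exact this
  have hsum : ∑ l, J l = ∑ l ∈ Finset.univ.erase m, J0 l := by
    rw [← Finset.sum_image (f := fun x => x) (s := Finset.univ) (g := J) fun a _ b _ h => hJ.1.injective h, hrange,
      Finset.sum_insert fun h => ?_, Finset.sum_image fun a _ b _ h => hJ0.1.injective h, zero_add]
    obtain ⟨l, -, hl⟩ := Finset.mem_image.1 h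
    exact hJ0pos l hl
  have hlt : ∑ l, J l < ∑ l, J' l := by
    rw [hsum]
    have h1 := Finset.add_sum_erase Finset.univ J0 (Finset.mem_univ m)
    have h2 : ∑ l, J0 l ≤ ∑ l, J' l := Finset.sum_le_sum fun l _ => hle l
    have := Nat.pos_of_ne_zero (hJ0pos m)
    omega
  have hest := (FunFldLib.det_est hK P hP ht hHt φ' e0 J' hpos (fun l => (hl l).2) J).1
  rw [he, FunFldLib.wrMat_change, map_mul, FunFldLib.v_algebraMap P hM, one_mul] at hest
  obtain ⟨hd, hw⟩ := FunFldLib.wDiv_fixed hK hφ τ hH hΦ hP hJ ht hHt hy heff hnorm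
  rw [hw]
  rw [FunFldLib.v_le_exp_iff P hd] at hest
  rw [Finset.sum_sub_distrib, ← Nat.cast_sum, ← Nat.cast_sum] at hest
  omega

end Groth.Agent.S12610
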