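import Groth.Statements.S12611
import Groth.Agent.FunFldLib.Hasse.Weier

set_option autoImplicit false
open FunFld

namespace Groth.Agent.S12611

open Polynomial in
theorem det_choose (R : Type*) [Field R] {N : ℕ} (e : Fin N → ℕ) (he : Function.Injective fun j => (e j : R)) :
    (Matrix.of fun i j : Fin N => ((e j).choose (i : ℕ) : R)).det ≠ 0 := by
  have h := Matrix.det_eval_matrixOfPolynomials_eq_det_vandermonde (fun j => (e j : R))
    (fun i : Fin N => descPochhammer R (i : ℕ)) (fun i => descPochhammer_natDegree R i)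
    (fun i => monic_descPochhammer R i)
  have hv : (Matrix.vandermonde fun j => (e j : R)).det ≠ 0 := Matrix.det_vandermonde_ne_zero_iff.2 he
  rw [h] at hv
  have e1 : (Matrix.of fun i j : Fin N => (descPochhammer R (j : ℕ)).eval (e i : R)) =
      (Matrix.of fun i j : Fin N => ((j : ℕ).factorial : R) *
        (Matrix.of fun i j : Fin N => ((e j).choose (i : ℕ) : R)).transpose i j) := by
    ext i j
    simp only [Matrix.of_apply, Matrix.transpose_apply, descPochhammer_eval_eq_descFactorial,
      Nat.descFactorial_eq_factorial_mul_choose, Nat.cast_mul]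
  intro h0
  apply hv
  rw [e1, Matrix.det_mul_row, Matrix.det_transpose, h0, mul_zero]

theorem cast_inj (R : Type*) [Field R] {a b : ℕ} (ha : ringChar R = 0 ∨ a < ringChar R)
    (hb : ringChar R = 0 ∨ b < ringChar R) (h : (a : R) = b) : a = b := by
  rw [CharP.natCast_eq_natCast R (ringChar R), Nat.ModEq] at h
  rcases ha with h0 | ha
  · simpa [h0] using h
  · rcases hb with h0 | hb
    · omega
    · rwa [Nat.mod_eq_of_lt ha, Nat.mod_eq_of_lt hb] at h

theorem binom_zero (R : Type*) [Field R] {n : ℕ} (e : Fin n → ℕ) (he : StrictMono e)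
    (hc : ∀ l, ringChar R = 0 ∨ e l < ringChar R) :
    (FunFld.binomMat R e fun l : Fin n => (l : ℕ)).det ≠ 0 := by
  rw [← Matrix.det_transpose]
  exact det_choose R e fun a b h => he.injective (cast_inj R (hc a) (hc b) h)

theorem binom_one (R : Type*) [Field R] {n : ℕ} (e : Fin n → ℕ) (he : StrictMono e) (he0 : ∀ l, 0 < e l)
    (hc : ∀ l, ringChar R = 0 ∨ e l < ringChar R) :
    (FunFld.binomMat R e fun l : Fin n => (l : ℕ) + 1).det ≠ 0 := by
  have h : (Matrix.of fun i j : Fin (n + 1) => (((Fin.cases 0 e j : ℕ)).choose (i : ℕ) : R)).det ≠ 0 := by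
    refine det_choose R _ fun a b h => ?_
    have hc' : ∀ j : Fin (n + 1), ringChar R = 0 ∨ (Fin.cases 0 e j : ℕ) < ringChar R := fun j => by
      cases j using Fin.cases with
      | zero =>
        rcases Nat.eq_zero_or_pos (ringChar R) with h | h
        · exact Or.inl h
        · exact Or.inr h
      | succ l => exact hc l
    have h' := cast_inj R (hc' a) (hc' b) h
    cases a using Fin.cases <;> cases b using Fin.cases
    · rfl
    · exact absurd h' (he0 _).ne
    · exact absurd h'.symm (he0 _).ne
    · exact congrArg _ (he.injective h')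
  rw [Matrix.det_succ_column_zero, Finset.sum_eq_single (0 : Fin (n + 1))] at h
  · rw [← Matrix.det_transpose]
    have h' := right_ne_zero_of_mul h
    exact h'
  · intro i _ hi
    obtain ⟨l, rfl⟩ := Fin.exists_succ_eq.2 hi
    simp
  · simp


/-- Over an algebraically closed constant field of characteristic `0` or greater than `deg φ`, a
birational projective map `φ = (φ₀, …, φₙ)` is classical: its orders are `(1, 2, …, n)`, and for a
`k`-endomorphism `τ ≠ 1` its `τ`-orders are `(0, 1, …, n-1)`. (The published statement has no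
fixed-point hypothesis for `τ ≠ 1` and is false without one: on a smooth plane cubic in
characteristic `0`, pulling back along multiplication by `-2` gives `τ`-orders `(0, 2)`. This row
assumes `τ` has a strong fixed point — a place whose maximal ideal `τ` maps into its square — which
is what the proof uses, through the equality criterion for Wronskian orders at such a point.) -/
theorem result
    (k K : Type*) [Field k] [IsAlgClosed k] [Field K] [Algebra k K]
    (hK : FunFld.IsFunctionField k K) {n : ℕ} (φ : Fin (n + 1) → K) (hφ : LinearIndependent k φ)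
    (h0 : φ 0 ≠ 0) (hbir : IntermediateField.adjoin k (Set.range fun i => φ i / φ 0) = ⊤)
    (hchar : ringChar k = 0 ∨ (FunFld.mapDiv k φ).deg < ringChar k)
    (τ : K →ₐ[k] K) (s : K) (H : K →ₐ[k] PowerSeries K) (hH : LocRes.IsHasseFamily s H) :
    (τ = AlgHom.id k K → FunFld.IsOrders K (FunFld.hcol τ H φ) (fun l : Fin n => (l : ℕ) + 1)) ∧
    (τ ≠ AlgHom.id k K → (∃ P : FunFld.Place k K, FunFld.IsStrongFixedPt τ P) →
      FunFld.IsOrders K (FunFld.hcol τ H φ) (fun l : Fin n => (l : ℕ))) := by
  classical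
  have hany : ∀ P : FunFld.Place k K, ∀ σ : K →ₐ[k] K, FunFld.IsFixedPt σ P →
      ∀ I : Fin n → ℕ, StrictMono I → ((∀ l, 0 < I l) ∨ FunFld.IsStrongFixedPt σ P) →
        (∀ e : Fin n → ℕ, StrictMono e → (∀ l, 0 < e l) →
          (∀ l, (ringChar k = 0 ∨ e l < ringChar k)) → (FunFld.binomMat k e I).det ≠ 0) →
        ∀ J : Fin n → ℕ, FunFld.IsOrders K (FunFld.hcol σ H φ) J → ∀ l, J l ≤ I l := by
    intro P σ hP I hI hcond hbin J hJ
    obtain ⟨t, -, ht⟩ := FunFldLib.exists_exp (P := P) (-1)
    obtain ⟨ρ, -, -, Ht, hHt, -⟩ := FunFldLib.exists_family hK P ht hH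
    obtain ⟨y, hy, hnorm, heff, hmd, hli⟩ := FunFldLib.exists_normalized hK hφ P
    obtain ⟨J', hJ'⟩ := FunFldLib.exists_ordersAt hK P ht hHt hli heff hnorm
    obtain ⟨φ', hs, hli', e0, hl⟩ := FunFldLib.exists_adapted hK P ht hHt hli heff hnorm hJ'
    obtain ⟨M, hM, he⟩ := FunFldLib.exists_change (φ := y • φ) hli' hs.le
    have hpos := FunFldLib.order_pos hK P ht hHt hnorm hJ'
    have hdeg : ∀ l, (J' l : ℤ) ≤ (FunFld.mapDiv k φ).deg := by
      intro l
      obtain ⟨f, hf, hfv⟩ := (FunFldLib.order_iff hK P ht hHt heff hnorm hJ' (J' l)).1 (Or.inr ⟨l, rfl⟩)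
      set D := FunFld.mapDiv k (y • φ) - Finsupp.single P (J' l : ℤ) with hD
      have hnz : ∀ i, φ i ≠ 0 := fun i => hφ.ne_zero i
      have hfL : f ∈ FunFld.L D := by
        intro Q
        rcases eq_or_ne Q P with rfl | hne
        · rw [hfv, hD, Finsupp.sub_apply, hmd, Finsupp.single_eq_same, zero_sub]
        · obtain ⟨a, rfl⟩ := (Submodule.mem_span_range_iff_exists_fun k).1 hf
          rw [hD, Finsupp.sub_apply, Finsupp.single_eq_of_ne hne, sub_zero]
          exact Valuation.map_sum_le _ fun j _ =>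
            (FunFldLib.smul_le Q _ _).trans ((FunFldLib.mapDiv_spec hK _ (fun i => hli.ne_zero i) Q).1 j)
      have hDd : 0 ≤ D.deg := by
        by_contra h
        rw [FunFldLib.L_eq_bot_of_deg_neg hK.1 (not_le.1 h), Submodule.mem_bot] at hfL
        rw [hfL, map_zero] at hfv
        exact WithZero.exp_ne_zero hfv.symm
      have hmy : FunFld.mapDiv k (y • φ) = FunFld.mapDiv k φ - FunFld.div k y := by
        ext Q
        rw [FunFldLib.mapDiv_scale hK φ hnz hy, Finsupp.sub_apply, FunFldLib.div_apply hK.1]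
      rw [hD, hmy, FunFldLib.deg_sub, FunFldLib.deg_sub, FunFldLib.deg_div hK.1, FunFldLib.deg_single,
        FunFldLib.deg_eq_one hK P] at hDd
      push_cast at hDd
      omega
    have hb := hbin J' hJ'.1 hpos fun l => hchar.imp id fun h => by have := hdeg l; omega
    have h1 := ((FunFldLib.det_est hK P hP ht hHt φ' e0 J' hpos (fun l => (hl l).2) I).2 hcond).2 hb
    have hJt := (FunFldLib.orders_scale σ hHt φ hy J).2 ((FunFldLib.orders_var σ φ hK hH hHt J).2 hJ)
    refine FunFldLib.orders_le_of_det (y • φ) hJt I hI fun h => ?_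
    rw [he, FunFldLib.wrMat_change, h, mul_zero, map_zero] at h1
    exact WithZero.exp_ne_zero h1.symm
  have hge : ∀ J : Fin n → ℕ, StrictMono J → ∀ l : Fin n, (l : ℕ) ≤ J l := fun J hJ l => by
    obtain ⟨i, hi⟩ := l
    induction i with
    | zero => exact Nat.zero_le _
    | succ i ih =>
      exact Nat.succ_le_of_lt ((ih (by omega)).trans_lt (hJ (Fin.mk_lt_mk.2 (Nat.lt_succ_self i))))
  constructor
  · rintro rfl
    obtain ⟨J, hJ, -⟩ := FunFldLib.exists_orders_hcol hK hH hφ (AlgHom.id k K)
    have hpos : ∀ l, 0 < J l := fun l => Nat.pos_of_ne_zero fun h => by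
      refine ((hJ.2 0).1 ⟨l, h⟩) (Submodule.subset_span ⟨0, Nat.succ_pos _, ?_⟩)
      funext i
      simp [FunFld.hcol, LocRes.hasseD_apply, PowerSeries.coeff_zero_eq_constantCoeff_apply, hH.2]
    obtain ⟨P, -⟩ := (FunFldLib.infinite_places hK).nonempty
    have hle := hany P _ (fun z hz => hz) (fun l => (l : ℕ) + 1) (fun a b h => Nat.add_lt_add_right h 1)
      (Or.inl fun l => Nat.succ_pos _) (fun e he he0 hc => binom_one k e he he0 hc) J hJ
    have hJ1 : ∀ l, J l = (l : ℕ) + 1 := fun l => by
      have h1 := hge (fun x => J x - 1) (fun a b h => by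
        have := hJ.1 h; have := hpos a
        show J a - 1 < J b - 1
        omega) l
      have := hle l
      have := hpos l
      omega
    exact (funext hJ1 : J = _) ▸ hJ
  · intro _ hex
    obtain ⟨P, hP⟩ := hex
    obtain ⟨J, hJ, -⟩ := FunFldLib.exists_orders_hcol hK hH hφ τ
    have hle := hany P τ (fun z hz => (hP z hz).trans_lt (by
      rw [← WithZero.exp_zero]; exact WithZero.exp_lt_exp.2 (by omega))) (fun l => (l : ℕ)) (fun a b h => h)
      (Or.inr hP) (fun e he _ hc => binom_zero k e he hc) J hJ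
    exact (funext fun l => le_antisymm (hle l) (hge J hJ.1 l) : J = _) ▸ hJ

end Groth.Agent.S12611
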