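import Groth.Statements.S12612
import Mathlib.RingTheory.MvPolynomial.EulerIdentity
import Mathlib.LinearAlgebra.Matrix.Determinant.Basic
import Mathlib.Tactic.Module
import Mathlib.Tactic.LinearCombination
import Mathlib.Tactic.FieldSimp

set_option autoImplicit false
open FunFld

namespace Groth.Agent.S12612

open MvPolynomial in
theorem chain {k K : Type*} [Field k] [Field K] [Algebra k K] (A : Matrix (Fin 3) (Fin 3) k)
    (v : Fin 3 → K) (f : MvPolynomial (Fin 3) k) (j : Fin 3) :
    aeval v (pderiv j (aeval (fun i : Fin 3 => ∑ l, C (A i l) * X l) f)) =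
      ∑ i, algebraMap k K (A i j) *
        aeval (fun i => ∑ l, algebraMap k K (A i l) * v l) (pderiv i f) := by
  induction f using MvPolynomial.induction_on with
  | C a => simp
  | add p q hp hq => simp only [map_add, hp, hq, mul_add, Finset.sum_add_distrib]
  | mul_X p i hp =>
    have e : aeval v (aeval (fun i : Fin 3 => ∑ l, C (A i l) * X l) p) =
        aeval (fun i => ∑ l, algebraMap k K (A i l) * v l) p := by
      rw [← AlgHom.comp_apply, comp_aeval]
      simp
    have e2 : aeval v (∑ l, C (A i l) * X l) = ∑ l, algebraMap k K (A i l) * v l := by simp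
    have e3 : aeval v (pderiv j (∑ l, C (A i l) * X l)) = algebraMap k K (A i j) := by
      rw [map_sum, map_sum, Finset.sum_eq_single j]
      · simp [pderiv_C_mul]
      · intro l _ hl; simp [pderiv_C_mul, pderiv_X_of_ne hl]
      · simp
    simp only [map_mul, aeval_X, Derivation.leibniz, smul_eq_mul, map_add]
    rw [e, e2, e3, hp]
    simp only [mul_add, Finset.sum_add_distrib]
    congr 1
    · rw [Finset.sum_eq_single i]
      · simp [mul_comm]
      · intro l _ hl; simp [pderiv_X_of_ne hl.symm]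
      · simp
    · rw [Finset.mul_sum]
      exact Finset.sum_congr rfl fun l _ => by ring

open MvPolynomial in
theorem scale {k K : Type*} [Field k] [Field K] [Algebra k K] {q : MvPolynomial (Fin 3) k} {m : ℕ}
    (hq : q.IsHomogeneous m) (c : K) (p : Fin 3 → K) :
    aeval (fun i => c * p i) q = c ^ m * aeval p q := by
  rw [aeval_def, aeval_def, eval₂_eq', eval₂_eq', Finset.mul_sum]
  refine Finset.sum_congr rfl fun d hd => ?_
  have h := hq (mem_support_iff.1 hd)
  simp only [Finsupp.weight_apply, Pi.one_apply, smul_eq_mul, mul_one, Finsupp.sum_fintype, implies_true] at h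
  simp only [mul_pow, Finset.prod_mul_distrib, Finset.prod_pow_eq_pow_sum, h]
  ring

open MvPolynomial in
theorem dAeval {k K M : Type*} [Field k] [Field K] [Algebra k K] [AddCommGroup M] [Module K M] [Module k M]
    [IsScalarTower k K M] (D : Derivation k K M) (p : Fin 3 → K) (f : MvPolynomial (Fin 3) k) :
    D (aeval p f) = ∑ i, aeval p (pderiv i f) • D (p i) := by
  induction f using MvPolynomial.induction_on with
  | C a => simp
  | add q r hq hr => simp only [map_add, hq, hr, add_smul, Finset.sum_add_distrib]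
  | mul_X q i hq =>
    simp only [map_mul, aeval_X, Derivation.leibniz, hq, map_add, add_smul, smul_eq_mul,
      Finset.sum_add_distrib, Finset.smul_sum, smul_smul]
    congr 1
    rw [Finset.sum_eq_single i]
    · simp
    · intro l _ hl; simp [pderiv_X_of_ne hl.symm]
    · simp

theorem algebra_step {K M : Type*} [Field K] [AddCommGroup M] [Module K M]
    (a : Fin 3 → Fin 3 → K) (x y : K) (u : Fin 3 → K) (G : Fin 3 → K) (g : Fin 3 → K) (dA : K)
    (hdA : dA = a 0 0 * a 1 1 * a 2 2 - a 0 0 * a 1 2 * a 2 1 - a 0 1 * a 1 0 * a 2 2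
      + a 0 1 * a 1 2 * a 2 0 + a 0 2 * a 1 0 * a 2 1 - a 0 2 * a 1 1 * a 2 0)
    (h0 : a 0 0 * u 0 + a 0 1 * u 1 + a 0 2 * u 2 = 1)
    (h1 : a 1 0 * u 0 + a 1 1 * u 1 + a 1 2 * u 2 = x)
    (h2 : a 2 0 * u 0 + a 2 1 * u 1 + a 2 2 * u 2 = y)
    (hE : G 0 + x * G 1 + y * G 2 = 0)
    (hg : ∀ j, g j = a 0 j * G 0 + a 1 j * G 1 + a 2 j * G 2)
    (hu0 : u 0 ≠ 0) (w1 w2 du0 dx : M)
    (hd0 : u 0 • (a 0 1 • w1 + a 0 2 • w2) + (u 0)⁻¹ • du0 = 0)
    (hdx : dx = u 0 • (a 1 1 • w1 + a 1 2 • w2) + (x * (u 0)⁻¹) • du0)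
    (hw : g 1 • w1 + g 2 • w2 = 0) :
    g 2 • dx = (G 2 * dA * u 0 ^ 2) • w1 := by
  have e2 : g 2 • w2 = -(g 1 • w1) := eq_neg_of_add_eq_zero_right hw
  have hdx' : dx = (u 0 * (a 1 1 - x * a 0 1)) • w1 + (u 0 * (a 1 2 - x * a 0 2)) • w2 := by
    have : (x * (u 0)⁻¹) • du0 = x • -(u 0 • (a 0 1 • w1 + a 0 2 • w2)) := by
      rw [← eq_neg_of_add_eq_zero_right hd0, smul_smul]
    rw [hdx, this]
    module
  rw [hdx', smul_add, smul_comm (g 2) (u 0 * (a 1 2 - x * a 0 2)), e2]
  have key : g 2 * (u 0 * (a 1 1 - x * a 0 1)) - (u 0 * (a 1 2 - x * a 0 2)) * g 1 = G 2 * dA * u 0 ^ 2 := by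
    have hG0 : G 0 = -(x * G 1) - y * G 2 := by linear_combination hE
    rw [hg, hg, hG0, hdA, ← h1, ← h2]
    linear_combination (-(G 2 * u 0) * (a 1 1 * a 2 2 - a 1 2 * a 2 1)) * h0
  rw [← key]
  module


/-- For a plane curve given by a homogeneous `f` of degree `e` with `f(1, x, y) = 0` and a change of
projective coordinates `X = AX'` (`A` invertible over `k`), with new affine coordinates `x' =
u₁/u₀`, `y' = u₂/u₀`, `z = 1/u₀ = X₀/X₀'` where `u = A⁻¹(1, x, y)ᵗ`, and `f'(X') = f(AX')`, the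
differentials satisfy `dx/f̂_y = det(A) z^(e-3) dx'/f̂'_{y'}`, where `f̂_y = (∂f/∂X₂)(1, x, y)` and
`f̂'_{y'} = (∂f'/∂X₂')(1, x', y')` are assumed nonzero. (Stated for any field `K` over `k`
containing such `x`, `y`; the published setting is a plane model of a function field over an
algebraically closed field, and the computation uses only the relation `f(1, x, y) = 0`.) -/
theorem result
    (k K : Type*) [Field k] [Field K] [Algebra k K]
    (f : MvPolynomial (Fin 3) k) (e : ℕ) (hf : f.IsHomogeneous e)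
    (x y : K) (hfxy : MvPolynomial.aeval ![(1 : K), x, y] f = 0)
    (A : Matrix (Fin 3) (Fin 3) k) (hA : A.det ≠ 0)
    (u : Fin 3 → K) (hu : ∀ i, ∑ j, algebraMap k K (A i j) * u j = ![(1 : K), x, y] i)
    (hu0 : u 0 ≠ 0)
    (hfy : MvPolynomial.aeval ![(1 : K), x, y] (MvPolynomial.pderiv 2 f) ≠ 0)
    (hfy' : MvPolynomial.aeval ![(1 : K), u 1 / u 0, u 2 / u 0]
      (MvPolynomial.pderiv 2
        (MvPolynomial.aeval (fun i : Fin 3 => ∑ j, MvPolynomial.C (A i j) * MvPolynomial.X j) f)) ≠ 0) :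
    (MvPolynomial.aeval ![(1 : K), x, y] (MvPolynomial.pderiv 2 f))⁻¹ • KaehlerDifferential.D k K x =
      (algebraMap k K A.det * (u 0)⁻¹ ^ ((e : ℤ) - 3) *
        (MvPolynomial.aeval ![(1 : K), u 1 / u 0, u 2 / u 0]
          (MvPolynomial.pderiv 2
            (MvPolynomial.aeval (fun i : Fin 3 => ∑ j, MvPolynomial.C (A i j) * MvPolynomial.X j) f)))⁻¹) •
        KaehlerDifferential.D k K (u 1 / u 0) := by
  classical
  set p : Fin 3 → K := ![(1 : K), x, y] with hp
  set v : Fin 3 → K := ![(1 : K), u 1 / u 0, u 2 / u 0] with hv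
  have hv' : v = fun i => (u 0)⁻¹ * u i := by
    funext i; fin_cases i <;> simp [hv, hu0, div_eq_inv_mul]
  obtain ⟨m, rfl⟩ : ∃ m, e = m + 1 := by
    refine Nat.exists_eq_add_one.2 (Nat.pos_of_ne_zero fun h0 => hfy ?_)
    subst h0
    have hz : f.totalDegree = 0 := Nat.le_zero.1 hf.totalDegree_le
    rw [MvPolynomial.totalDegree_eq_zero_iff_eq_C.1 hz]
    simp
  set G : Fin 3 → K := fun i => MvPolynomial.aeval p (MvPolynomial.pderiv i f) with hG
  set g : Fin 3 → K := fun j => ∑ i, algebraMap k K (A i j) * G i with hg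
  have hAv : (fun i => ∑ l, algebraMap k K (A i l) * v l) = fun i => (u 0)⁻¹ * p i := by
    funext i
    rw [← hu i, hv', Finset.mul_sum]
    exact Finset.sum_congr rfl fun l _ => by ring
  have hgv : ∀ j, MvPolynomial.aeval v (MvPolynomial.pderiv j
      (MvPolynomial.aeval (fun i : Fin 3 => ∑ j, MvPolynomial.C (A i j) * MvPolynomial.X j) f)) =
      (u 0)⁻¹ ^ m * g j := by
    intro j
    rw [chain, hAv, hg, Finset.mul_sum]
    refine Finset.sum_congr rfl fun i _ => ?_
    rw [scale (m := m) hf.pderiv, hG]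
    ring
  rw [hgv] at hfy' ⊢
  have hg2 : g 2 ≠ 0 := right_ne_zero_of_mul hfy'
  have hE : G 0 + x * G 1 + y * G 2 = 0 := by
    have h := congrArg (MvPolynomial.aeval p) hf.sum_X_mul_pderiv
    rw [map_nsmul, hfxy, smul_zero, map_sum] at h
    simpa [Fin.sum_univ_three, hp, hG] using h
  set D := KaehlerDifferential.D k K
  have hDp : ∀ i, D (p i) = ∑ j, algebraMap k K (A i j) • D (u j) := by
    intro i
    rw [← hu i, map_sum]
    exact Finset.sum_congr rfl fun j _ => by
      rw [D.leibniz, D.map_algebraMap, smul_zero, add_zero]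
  have hu1 : ∀ i, D (u i) = u 0 • D (v i) + v i • D (u 0) := by
    intro i
    rw [← D.leibniz, hv']
    congr 1
    field_simp
  have hsum : ∀ j, g j = algebraMap k K (A 0 j) * G 0 + algebraMap k K (A 1 j) * G 1 + algebraMap k K (A 2 j) * G 2 :=
    fun j => Fin.sum_univ_three _
  have hAu : ∀ i, algebraMap k K (A i 0) * u 0 + algebraMap k K (A i 1) * u 1 + algebraMap k K (A i 2) * u 2 = p i := by
    intro i; rw [← Fin.sum_univ_three (fun j => algebraMap k K (A i j) * u j)]; exact hu i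
  have hv1 : v 0 = 1 := rfl
  have hd : ∀ i, D (p i) = u 0 • (algebraMap k K (A i 1) • D (v 1) + algebraMap k K (A i 2) • D (v 2)) +
      (p i * (u 0)⁻¹) • D (u 0) := by
    intro i
    rw [hDp, Fin.sum_univ_three, hu1 1, hu1 2]
    have e : p i * (u 0)⁻¹ = algebraMap k K (A i 0) + algebraMap k K (A i 1) * v 1 + algebraMap k K (A i 2) * v 2 := by
      rw [← hAu i, hv']
      field_simp
    rw [e]
    module
  have hEg : g 0 + g 1 * v 1 + g 2 * v 2 = 0 := by
    have h : ∑ j, g j * u j = 0 := by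
      simp only [hsum, Fin.sum_univ_three]
      have e0 := hAu 0; have e1 := hAu 1; have e2 := hAu 2
      simp [hp] at e0 e1 e2
      linear_combination hE + G 0 * e0 + G 1 * e1 + G 2 * e2
    rw [Fin.sum_univ_three] at h
    rw [hv']
    field_simp
    linear_combination h
  have hw : g 1 • D (v 1) + g 2 • D (v 2) = 0 := by
    have h := dAeval D p f
    rw [hfxy, map_zero, Fin.sum_univ_three, hd 0, hd 1, hd 2] at h
    have e : g 0 + g 1 * v 1 + g 2 * v 2 = 0 := hEg
    have h2 : u 0 • (g 1 • D (v 1) + g 2 • D (v 2)) = 0 := by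
      refine Eq.trans ?_ h.symm
      have e2 : G 0 * p 0 + G 1 * p 1 + G 2 * p 2 = 0 := by simp [hp]; linear_combination hE
      rw [hsum 1, hsum 2]
      have : (G 0 * p 0 + G 1 * p 1 + G 2 * p 2) • ((u 0)⁻¹ • D (u 0)) = 0 := by rw [e2, zero_smul]
      rw [← sub_eq_zero, ← neg_eq_zero, ← this]
      simp only [hG]
      module
    exact (smul_eq_zero.1 h2).resolve_left hu0
  have key := algebra_step (fun i j => algebraMap k K (A i j)) x y u G g (algebraMap k K A.det)
    (by rw [Matrix.det_fin_three]; simp only [map_add, map_sub, map_mul])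
    (by simpa [hp] using hAu 0) (by simpa [hp] using hAu 1) (by simpa [hp] using hAu 2) hE hsum hu0
    (D (v 1)) (D (v 2)) (D (u 0)) (D x)
    (by
      have := hd 0
      rw [show p 0 = 1 from rfl, D.map_one_eq_zero, one_mul] at this
      exact this.symm)
    (by simpa [hp] using hd 1) hw
  show (G 2)⁻¹ • D x = _ • D (v 1)
  rw [← smul_left_cancel_iff (Units.mk0 (g 2) hg2)]
  simp only [Units.smul_mk0, Units.smul_def, Units.val_mk0]
  rw [smul_comm, key, smul_smul, smul_smul]
  congr 1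
  have hz : (u 0)⁻¹ ^ (((m + 1 : ℕ) : ℤ) - 3) = (u 0) ^ 2 * (u 0)⁻¹ ^ m := by
    rw [show ((m + 1 : ℕ) : ℤ) - 3 = (m : ℤ) - 2 by push_cast; ring, zpow_sub₀ (inv_ne_zero hu0)]
    simp [div_eq_mul_inv]
    ring
  rw [hz]
  have hG2 : G 2 ≠ 0 := hfy
  field_simp

end Groth.Agent.S12612
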