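import Groth.Statements.S12614
import Groth.Agent.FunFldLib.Hasse.Weier

set_option autoImplicit false
open FunFld

namespace Groth.Agent.S12614

/-- Over an algebraically closed constant field, the Weierstrass divisor `W_s(φ, τ) = [w_s(φ, τ)] +
[τ(φ)] + n[φ] + j(φ, τ)[ds]` does not depend on the separating variable `s` and does not change when
`φ` is replaced by an equivalent map `y · Aφ` (`A` invertible over `k`, `y ≠ 0`). Divisors of
differentials are read through a fixed family of Laurent expansions. -/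
theorem result
    (k K : Type*) [Field k] [IsAlgClosed k] [Field K] [Algebra k K]
    (hK : FunFld.IsFunctionField k K) {n : ℕ} (φ : Fin (n + 1) → K) (hφ : LinearIndependent k φ)
    (τ : K →ₐ[k] K) (s : K) (Hs : K →ₐ[k] PowerSeries K) (hHs : LocRes.IsHasseFamily s Hs)
    (t : K) (Ht : K →ₐ[k] PowerSeries K) (hHt : LocRes.IsHasseFamily t Ht)
    (J : Fin n → ℕ) (hJ : FunFld.IsOrders K (FunFld.hcol τ Hs φ) J)
    (A : Matrix (Fin (n + 1)) (Fin (n + 1)) k) (hA : A.det ≠ 0) (y : K) (hy : y ≠ 0)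
    (φ' : Fin (n + 1) → K) (hφ' : ∀ i, φ' i = y * ∑ j, A i j • φ j)
    (Φ : FunFld.Place k K → (K →ₐ[k] LaurentSeries k))
    (hΦ : ∀ P : FunFld.Place k K, LocRes.IsExpansionAt P.1 (Φ P)) :
    FunFld.wDiv τ Ht Φ t φ' J = FunFld.wDiv τ Hs Φ s φ J := by
  classical
  set ψ : Fin (n + 1) → K := fun i => ∑ j, A i j • φ j with hψ
  obtain rfl : φ' = y • ψ := funext hφ'
  have hli : LinearIndependent k ψ := by
    rw [Fintype.linearIndependent_iff]
    intro a ha
    have h1 : ∑ j, (Matrix.vecMul a A) j • φ j = 0 := by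
      rw [← ha]
      simp only [ψ, Finset.smul_sum, smul_smul, Matrix.vecMul, dotProduct, Finset.sum_smul]
      rw [Finset.sum_comm]
    have h2 : Matrix.vecMul a A = 0 := funext (Fintype.linearIndependent_iff.1 hφ _ h1)
    by_contra h3
    push Not at h3
    exact hA (Matrix.exists_vecMul_eq_zero_iff.1 ⟨a, fun h => h3.elim fun i hi => hi (congrFun h i), h2⟩)
  have hliy : LinearIndependent k (y • ψ) :=
    hli.map' (LinearMap.mulLeft k y) (LinearMap.ker_eq_bot.2 fun a b h => mul_left_cancel₀ hy h)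
  have hspan : Submodule.span k (Set.range ψ) = Submodule.span k (Set.range φ) := by
    have hle : Submodule.span k (Set.range ψ) ≤ Submodule.span k (Set.range φ) := Submodule.span_le.2 (by
      rintro _ ⟨i, rfl⟩
      exact Submodule.sum_mem _ fun j _ => Submodule.smul_mem _ _ (Submodule.subset_span ⟨j, rfl⟩))
    have : FiniteDimensional k ↥(Submodule.span k (Set.range φ)) :=
      FiniteDimensional.span_of_finite k (Set.finite_range φ)
    exact Submodule.eq_of_le_of_finrank_eq hle (by rw [finrank_span_eq_card hli, finrank_span_eq_card hφ])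
  have hJA : FunFld.IsOrders K (FunFld.hcol τ Hs ψ) J := by
    obtain ⟨J2, hJ2, hd⟩ := FunFldLib.exists_orders_hcol hK hHs hli τ
    have h1 : ∀ l, J l ≤ J2 l := FunFldLib.orders_le_of_det φ hJ J2 hJ2.1 (fun h => hd (by
      rw [hψ, FunFldLib.wrMat_change, h, mul_zero]))
    obtain ⟨J3, hJ3, hd3⟩ := FunFldLib.exists_orders_hcol hK hHs hφ τ
    have e3 : J = J3 := hJ.1.range_inj hJ3.1 |>.1 (Set.ext fun j => (hJ.2 j).trans (hJ3.2 j).symm)
    have h2 : ∀ l, J2 l ≤ J l := FunFldLib.orders_le_of_det ψ hJ2 J hJ.1 (by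
      rw [hψ, FunFldLib.wrMat_change, e3]
      exact mul_ne_zero ((map_ne_zero _).2 hA) hd3)
    exact (funext fun l => le_antisymm (h1 l) (h2 l) : J = J2) ▸ hJ2
  have hJy := (FunFldLib.orders_scale τ hHt ψ hy J).2 ((FunFldLib.orders_var τ ψ hK hHs hHt J).2 hJA)
  ext P
  obtain ⟨u, -, hu⟩ := FunFldLib.exists_exp (P := P) (-1)
  obtain ⟨ρ, -, -, Hu, hHu, -⟩ := FunFldLib.exists_family hK P hu hHs
  rw [(FunFldLib.wDiv_apply hK hliy τ hHt hΦ hJy P hu hHu (inv_ne_zero hy)).2,
    (FunFldLib.wDiv_apply hK hφ τ hHs hΦ hJ P hu hHu one_ne_zero).2]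
  rw [smul_smul, inv_mul_cancel₀ hy, one_smul, one_smul]
  have hnz : ∀ i, φ i ≠ 0 := fun i => hφ.ne_zero i
  have hnz' : ∀ i, ψ i ≠ 0 := fun i => hli.ne_zero i
  have e : FunFld.mapDiv k ψ = FunFld.mapDiv k φ := FunFldLib.mapDiv_span hK φ ψ hnz hnz' hspan
  have e' : FunFld.mapDiv k (τ ∘ ψ) = FunFld.mapDiv k (τ ∘ φ) := by
    refine FunFldLib.mapDiv_span hK _ _ (fun i => (map_ne_zero τ).2 (hnz i)) (fun i => (map_ne_zero τ).2 (hnz' i)) ?_
    rw [Set.range_comp, Set.range_comp, show (⇑τ : K → K) = ⇑τ.toLinearMap from rfl,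
      ← Submodule.map_span, ← Submodule.map_span, hspan]
  rw [e, e', hψ, FunFldLib.wrMat_change]
  have hd : (FunFld.wrMat τ Hu φ J).det ≠ 0 := by
    have := (FunFldLib.wDiv_apply hK hφ τ hHs hΦ hJ P hu hHu one_ne_zero).1
    rwa [one_smul] at this
  rw [FunFldLib.ord_mul P ((map_ne_zero _).2 hA) hd, FunFldLib.ord_algebraMap, zero_add]

end Groth.Agent.S12614
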