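import Groth.Statements.S12616
import Groth.Agent.S12612
import Groth.Agent.FunFldLib.Hasse.Diff
import Mathlib.LinearAlgebra.Matrix.NonsingularInverse

set_option autoImplicit false
open FunFld

namespace Groth.Agent.S12616

open Groth.Agent.FunFldLib in
theorem spec {k K : Type*} [Field k] [Field K] [Algebra k K] (hK : FunFld.IsFunctionField k K)
    (φ : Fin 3 → K) (h0 : φ 0 = 1) (P : FunFld.Place k K) :
    (∀ i, P.1 (φ i) ≤ WithZero.exp (FunFld.mapDiv k φ P)) ∧ ∃ i, P.1 (φ i) = WithZero.exp (FunFld.mapDiv k φ P) := by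
  classical
  set ψ : Fin 3 → K := fun i => if φ i = 0 then 1 else φ i with hψ
  have hne : ∀ i, ψ i ≠ 0 := fun i => by by_cases h : φ i = 0 <;> simp [hψ, h]
  have hord : (fun P : FunFld.Place k K => -Finset.univ.inf' Finset.univ_nonempty (fun i => P.ord (φ i))) =
      fun P : FunFld.Place k K => -Finset.univ.inf' Finset.univ_nonempty (fun i => P.ord (ψ i)) := by
    funext Q
    congr 2
    funext i
    by_cases h : φ i = 0 <;> simp [hψ, h, FunFld.Place.ord]
  have heq : FunFld.mapDiv k φ = FunFld.mapDiv k ψ := by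
    unfold FunFld.mapDiv
    simp only [hord]
  obtain ⟨h1, i, hi⟩ := mapDiv_spec hK ψ hne P
  rw [heq]
  refine ⟨fun j => ?_, ?_⟩
  · by_cases h : φ j = 0
    · simp [h]
    · simpa [hψ, h] using h1 j
  · by_cases h : φ i = 0
    · exact ⟨0, by simpa [hψ, h, h0] using hi⟩
    · exact ⟨i, by simpa [hψ, h] using hi⟩

theorem inv_apply {k K : Type*} [Field k] [Field K] [Algebra k K] (A : Matrix (Fin 3) (Fin 3) k) (hA : A.det ≠ 0)
    (p u : Fin 3 → K) (hu : ∀ i, ∑ j, algebraMap k K (A i j) * u j = p i) (j : Fin 3) :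
    u j = ∑ i, (A⁻¹ j i) • p i := by
  have h : A⁻¹ * A = 1 := Matrix.nonsing_inv_mul A (isUnit_iff_ne_zero.2 hA)
  simp only [← hu, Algebra.smul_def, Finset.mul_sum, ← mul_assoc, ← map_mul]
  rw [Finset.sum_comm]
  simp only [← Finset.sum_mul, ← map_sum, ← Matrix.mul_apply, h]
  rw [Finset.sum_eq_single j]
  · simp
  · intro l _ hl; simp [Matrix.one_apply_ne hl.symm]
  · simp


/-- Over an algebraically closed constant field, the adjoint divisor `Δ(φ) = (e - 3)[φ] - [dx/f̂_y]` of
an effective plane map `φ = (1 : x : y)` of degree `e`, with a homogeneous relation `f` of the same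
degree `e` satisfying `f(1, x, y) = 0`, depends only on the equivalence class of `φ`: it is
unchanged under a change of projective coordinates `X = AX'`, with `x' = u₁/u₀`, `y' = u₂/u₀`, `u =
A⁻¹(1, x, y)ᵗ`, `f'(X') = f(AX')`. Here `dx ≠ 0`, both `f̂_y` and `f̂'_{y'}` are nonzero, and
divisors of differentials are read through a family of Laurent expansions. (The published statement
takes `f` to be the minimal relation of `x` and `y` for a plane model `K = k(x, y)`, where the
degree of the map equals the degree of `f`; this row assumes only that `f` is homogeneous of degree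
equal to the degree of the map, which is all the change-of-coordinates computation uses — when the
two degrees differ the two sides differ by a multiple of the divisor of `u₀`.) -/
theorem result
    (k K : Type*) [Field k] [IsAlgClosed k] [Field K] [Algebra k K]
    (hK : FunFld.IsFunctionField k K) (f : MvPolynomial (Fin 3) k) (e : ℕ) (hf : f.IsHomogeneous e)
    (x y : K) (hfxy : MvPolynomial.aeval ![(1 : K), x, y] f = 0)
    (hdx : KaehlerDifferential.D k K x ≠ 0)
    (he : (FunFld.mapDiv k ![(1 : K), x, y]).deg = e)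
    (A : Matrix (Fin 3) (Fin 3) k) (hA : A.det ≠ 0)
    (u : Fin 3 → K) (hu : ∀ i, ∑ j, algebraMap k K (A i j) * u j = ![(1 : K), x, y] i)
    (hu0 : u 0 ≠ 0)
    (hfy : (MvPolynomial.aeval ![(1 : K), x, y] (MvPolynomial.pderiv 2 f)) ≠ 0)
    (hfy' : (MvPolynomial.aeval ![(1 : K), u 1 / u 0, u 2 / u 0] (MvPolynomial.pderiv 2 (MvPolynomial.aeval (fun i : Fin 3 => ∑ j, MvPolynomial.C (A i j) * MvPolynomial.X j) f))) ≠ 0)
    (Φ : FunFld.Place k K → (K →ₐ[k] LaurentSeries k))
    (hΦ : ∀ P : FunFld.Place k K, LocRes.IsExpansionAt P.1 (Φ P)) :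
    ((FunFld.mapDiv k ![(1 : K), x, y]).deg - 3) • FunFld.mapDiv k ![(1 : K), x, y] -
        FunFld.divDiff Φ (MvPolynomial.aeval ![(1 : K), x, y] (MvPolynomial.pderiv 2 f))⁻¹ x =
      ((FunFld.mapDiv k ![(1 : K), u 1 / u 0, u 2 / u 0]).deg - 3) •
          FunFld.mapDiv k ![(1 : K), u 1 / u 0, u 2 / u 0] -
        FunFld.divDiff Φ (MvPolynomial.aeval ![(1 : K), u 1 / u 0, u 2 / u 0] (MvPolynomial.pderiv 2 (MvPolynomial.aeval (fun i : Fin 3 => ∑ j, MvPolynomial.C (A i j) * MvPolynomial.X j) f)))⁻¹ (u 1 / u 0) := by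
  obtain ⟨s, H, hH, -, hsep⟩ := Groth.Agent.FunFldLib.exists_hasse_separating hK.1
  obtain ⟨c, hc⟩ := Groth.Agent.FunFldLib.kaehler_span (k := k) (s := s) x
  obtain ⟨c', hc'⟩ := Groth.Agent.FunFldLib.kaehler_span (k := k) (s := s) (u 1 / u 0)
  have hid := Groth.Agent.S12612.result k K f e hf x y hfxy A hA u hu hu0 hfy hfy'
  set a := (MvPolynomial.aeval ![(1 : K), x, y] (MvPolynomial.pderiv 2 f))⁻¹ with hadef
  set b := (MvPolynomial.aeval ![(1 : K), u 1 / u 0, u 2 / u 0] (MvPolynomial.pderiv 2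
    (MvPolynomial.aeval (fun i : Fin 3 => ∑ j, MvPolynomial.C (A i j) * MvPolynomial.X j) f)))⁻¹ with hbdef
  have ha : a ≠ 0 := inv_ne_zero hfy
  have hb : b ≠ 0 := inv_ne_zero hfy'
  set l := algebraMap k K A.det * (u 0)⁻¹ ^ ((e : ℤ) - 3) * b with hldef
  have hl : l ≠ 0 := mul_ne_zero (mul_ne_zero ((map_ne_zero _).2 hA) (zpow_ne_zero _ (inv_ne_zero hu0))) hb
  have hcne : c ≠ 0 := fun h => hdx (by rw [hc, h, zero_smul])
  have hac : a * c = l * c' := by
    have h1 := congrArg (Groth.Agent.FunFldLib.Hasse.deriv hH).liftKaehlerDifferential hid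
    simp only [map_smul, Derivation.liftKaehlerDifferential_comp_D, Groth.Agent.FunFldLib.Hasse.deriv_apply,
      Groth.Agent.FunFldLib.coeff_eq hH hc, Groth.Agent.FunFldLib.coeff_eq hH hc', smul_eq_mul] at h1
    exact h1
  have hc'ne : c' ≠ 0 := fun h => mul_ne_zero ha hcne (by rw [hac, h, mul_zero])
  set p : Fin 3 → K := ![(1 : K), x, y] with hp
  set v : Fin 3 → K := ![(1 : K), u 1 / u 0, u 2 / u 0] with hv
  have hv' : ∀ i, v i = (u 0)⁻¹ * u i := by
    intro i; fin_cases i <;> simp [hv, hu0, div_eq_inv_mul]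
  have hm : FunFld.mapDiv k v = FunFld.mapDiv k p + FunFld.div k (u 0) := by
    ext P
    obtain ⟨hp1, ip, hip⟩ := spec hK p rfl P
    obtain ⟨hv1, iv, hiv⟩ := spec hK v rfl P
    have hu0v : P.1 (u 0) = WithZero.exp (-P.ord (u 0)) := Groth.Agent.FunFldLib.v_eq_exp P hu0
    have huinv : P.1 (u 0)⁻¹ = WithZero.exp (P.ord (u 0)) := by rw [map_inv₀, hu0v, WithZero.exp_neg, inv_inv]
    have hle1 : ∀ j, P.1 (v j) ≤ WithZero.exp (FunFld.mapDiv k p P + P.ord (u 0)) := by
      intro j
      rw [hv', map_mul, huinv, WithZero.exp_add, mul_comm (WithZero.exp (FunFld.mapDiv k p P))]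
      refine mul_le_mul' le_rfl ?_
      rw [inv_apply A hA p u hu j]
      exact Valuation.map_sum_le _ fun i _ => (Groth.Agent.FunFldLib.smul_le P _ _).trans (hp1 i)
    have hle2 : ∀ i, P.1 (p i) ≤ WithZero.exp (FunFld.mapDiv k v P - P.ord (u 0)) := by
      intro i
      rw [← hu i]
      refine Valuation.map_sum_le _ fun j _ => ?_
      rw [← Algebra.smul_def]
      refine (Groth.Agent.FunFldLib.smul_le P _ _).trans ?_
      have := hv1 j
      rw [hv', map_mul, huinv] at this
      rw [sub_eq_add_neg, WithZero.exp_add, WithZero.exp_neg, ← div_eq_mul_inv, le_div_iff₀ (by simp [WithZero.exp_pos]), mul_comm]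
      exact this
    have h1 := hle2 ip
    have h2 := hle1 iv
    rw [hip, WithZero.exp_le_exp] at h1
    rw [hiv, WithZero.exp_le_exp] at h2
    rw [Finsupp.add_apply, Groth.Agent.FunFldLib.div_apply hK.1]
    omega
  have hdeg : (FunFld.mapDiv k v).deg = e := by
    rw [hm, Groth.Agent.FunFldLib.deg_add, Groth.Agent.FunFldLib.deg_div hK.1, add_zero]
    exact he
  ext P
  rw [Finsupp.sub_apply, Finsupp.sub_apply, Finsupp.smul_apply, Finsupp.smul_apply,
    Groth.Agent.FunFldLib.divDiff_apply hK hH hΦ ha hcne hc,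
    Groth.Agent.FunFldLib.divDiff_apply hK hH hΦ hb hc'ne hc',
    hdeg, he, hm, Finsupp.add_apply, Groth.Agent.FunFldLib.div_apply hK.1, hac, hldef]
  have hz : ∀ n : ℤ, P.ord ((u 0)⁻¹ ^ n) = -(n * P.ord (u 0)) := fun n => by
    rw [FunFld.Place.ord, map_zpow₀, WithZero.log_zpow, smul_eq_mul, map_inv₀, WithZero.log_inv, FunFld.Place.ord]
  have hA' : (algebraMap k K) A.det ≠ 0 := (map_ne_zero _).2 hA
  have hu' := zpow_ne_zero ((e : ℤ) - 3) (inv_ne_zero hu0)
  rw [Groth.Agent.FunFldLib.ord_mul P (mul_ne_zero (mul_ne_zero hA' hu') hb) hc'ne,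
    Groth.Agent.FunFldLib.ord_mul P (mul_ne_zero hA' hu') hb, Groth.Agent.FunFldLib.ord_mul P hA' hu',
    Groth.Agent.FunFldLib.ord_algebraMap, hz, Groth.Agent.FunFldLib.ord_mul P hb hc'ne, smul_eq_mul, smul_eq_mul]
  ring

end Groth.Agent.S12616
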