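import Groth.Statements.S12617
import Groth.Agent.FunFldLib.Hasse.Flag

set_option autoImplicit false
open FunFld

namespace Groth.Agent.S12617

/-- Over an algebraically closed constant field, if the effective projective map `φ = (φ₀, …, φₙ)`, `n ≥
1`, normalized at `P`, is nonsingular at `P`, then its first order at `P` is `1`. -/
theorem result
    (k K : Type*) [Field k] [IsAlgClosed k] [Field K] [Algebra k K]
    (hK : FunFld.IsFunctionField k K) (P : FunFld.Place k K) {n : ℕ} (hn : 0 < n) (φ : Fin (n + 1) → K)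
    (hφ : LinearIndependent k φ)
    (heff : (1 : K) ∈ Submodule.span k (Set.range φ)) (hnorm : ∀ i, P.1 (φ i) ≤ 1) (hns : FunFld.IsNonsingularAt φ P)
    (t : K) (ht : P.1 t = WithZero.exp (-1))
    (Ht : K →ₐ[k] PowerSeries K) (hHt : LocRes.IsHasseFamily t Ht)
    (J' : Fin n → ℕ) (hJ' : FunFld.IsOrders (IsLocalRing.ResidueField P.O) (FunFld.hcolAt P Ht φ) J') :
    J' ⟨0, hn⟩ = 1 := by
  classical
  have hiff := FunFldLib.order_iff hK P ht hHt heff hnorm hJ'
  by_contra h1
  have hno : ∀ f ∈ Submodule.span k (Set.range φ), P.1 f < 1 → P.1 f ≤ WithZero.exp (-2) := by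
    intro f hf hlt
    by_contra h2
    rw [not_le] at h2
    have h3 : P.1 f = WithZero.exp (-((1 : ℕ) : ℤ)) := by
      have hf0 : f ≠ 0 := fun h => by simp [h] at h2
      have hm := FunFldLib.v_eq_exp P hf0
      rw [hm, WithZero.exp_lt_exp] at h2
      rw [hm, ← WithZero.exp_zero, WithZero.exp_lt_exp] at hlt
      rw [hm]; congr 1; omega
    rcases (hiff 1).2 ⟨f, hf, h3⟩ with h | ⟨l, hl⟩
    · omega
    · have h4 : J' ⟨0, hn⟩ ≤ J' l := hJ'.1.monotone (Fin.mk_le_mk.2 (Nat.zero_le _))
      have h5 := FunFldLib.order_pos hK P ht hHt hnorm hJ' ⟨0, hn⟩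
      omega
  obtain ⟨j, hj0, hjmax, u, hu, w, hw, hw1, he⟩ := hns t (by rw [ht, ← WithZero.exp_zero]; exact WithZero.exp_le_exp.2 (by omega))
  obtain ⟨i1, hi1⟩ := FunFldLib.exists_v_one P φ heff hnorm
  have hvj : P.1 (φ j) = 1 := le_antisymm (hnorm j) (hi1.symm.le.trans (hjmax i1))
  have hA : ∀ a ∈ Algebra.adjoin k (Set.range fun i => φ i / φ j),
      ∃ c : k, P.1 (a - algebraMap k K c) ≤ WithZero.exp (-2) := by
    intro a ha
    induction ha using Algebra.adjoin_induction with
    | mem x hx =>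
      obtain ⟨i, rfl⟩ := hx
      obtain ⟨c, hc⟩ := FunFldLib.exists_res hK P (z := φ i / φ j) (by rw [map_div₀, hvj, div_one]; exact hnorm i)
      refine ⟨c, ?_⟩
      have e : φ i / φ j - algebraMap k K c = (φ i - c • φ j) / φ j := by
        rw [sub_div, Algebra.smul_def, mul_div_assoc, div_self hj0, mul_one]
      rw [e, map_div₀, hvj, div_one] at hc ⊢
      exact hno _ (sub_mem (Submodule.subset_span ⟨i, rfl⟩) (Submodule.smul_mem _ _ (Submodule.subset_span ⟨j, rfl⟩))) hc
    | algebraMap c => exact ⟨c, by rw [sub_self, map_zero]; exact zero_le⟩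
    | add x y _ _ hx hy =>
      obtain ⟨c, hc⟩ := hx; obtain ⟨d, hd⟩ := hy
      refine ⟨c + d, ?_⟩
      rw [map_add, add_sub_add_comm]
      exact (P.1.map_add _ _).trans (max_le hc hd)
    | mul x y _ _ hx hy =>
      obtain ⟨c, hc⟩ := hx; obtain ⟨d, hd⟩ := hy
      refine ⟨c * d, ?_⟩
      rw [map_mul, show x * y - algebraMap k K c * algebraMap k K d =
        (x - algebraMap k K c) * y + algebraMap k K c * (y - algebraMap k K d) by ring]
      have hy1 : P.1 y ≤ 1 := by
        rw [show y = (y - algebraMap k K d) + algebraMap k K d by ring]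
        exact (P.1.map_add _ _).trans (max_le (hd.trans (by rw [← WithZero.exp_zero]; exact WithZero.exp_le_exp.2 (by omega))) (P.2.1 d))
      refine (P.1.map_add _ _).trans (max_le ?_ ?_) <;> rw [map_mul]
      · exact (mul_le_mul' hc hy1).trans_eq (mul_one _)
      · exact (mul_le_mul' (P.2.1 c) hd).trans_eq (one_mul _)
  obtain ⟨c, hc⟩ := hA u hu
  have hvu : P.1 u = WithZero.exp (-1) := by rw [← he, map_mul, hw1, ht, mul_one]
  have hc0 : c = 0 := by
    by_contra h
    have h6 : P.1 (algebraMap k K c) ≤ WithZero.exp (-1) := by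
      rw [show algebraMap k K c = u - (u - algebraMap k K c) by ring]
      exact (P.1.map_sub _ _).trans (max_le hvu.le (hc.trans (WithZero.exp_le_exp.2 (by omega))))
    rw [FunFldLib.v_algebraMap P h, ← WithZero.exp_zero, WithZero.exp_le_exp] at h6
    omega
  rw [hc0, map_zero, sub_zero, hvu, WithZero.exp_le_exp] at hc
  omega

end Groth.Agent.S12617
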