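import Groth.Statements.S12618
import Groth.Agent.FunFldLib.Fibre.Degree
import Groth.Agent.S11045
import Groth.Agent.S12609
import Groth.Agent.S12603
import Groth.Agent.S12611
import Groth.Agent.S12614
import Groth.Agent.S12615

set_option autoImplicit false
open FunFld

namespace Groth.Agent.S12618

open Groth.Agent.FunFldLib
open WithZero (exp exp_le_exp exp_lt_exp exp_zero exp_inj)
open Polynomial (aeval degreeLT)

section
variable {k K : Type*} [Field k] [Field K] [Algebra k K]

theorem sum_single (S : Finset (Place k K)) (R : Place k K) [Decidable (R ∈ S)] :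
    (∑ P ∈ S, Finsupp.single P (1 : ℤ)) R = if R ∈ S then 1 else 0 := by
  classical
  rw [Finsupp.finsetSum_apply]
  simp [Finsupp.single_apply]

theorem deg_sum_single [IsAlgClosed k] (hK : IsFunctionField k K) (S : Finset (Place k K)) :
    (∑ P ∈ S, Finsupp.single P (1 : ℤ) : Divisor k K).deg = S.card := by
  classical
  induction S using Finset.induction_on with
  | empty => simp [FunFldLib.deg_zero]
  | insert P S hP ih => rw [Finset.sum_insert hP, FunFldLib.deg_add, ih, FunFldLib.deg_single,
      FunFldLib.deg_eq_one hK, Finset.card_insert_of_notMem hP]; push_cast; ring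

/-- pull a place back along an automorphism -/
def pullA (σ : K ≃ₐ[k] K) (R : Place k K) : Place k K :=
  ⟨R.1.comap σ.toAlgHom.toRingHom, fun c => by
    show R.1 (σ (algebraMap k K c)) ≤ 1
    rw [σ.commutes]; exact R.2.1 c,
   fun b => by
    obtain ⟨z, hz⟩ := R.2.2 b
    exact ⟨σ.symm z, show R.1 (σ (σ.symm z)) = b by rw [σ.apply_symm_apply, hz]⟩⟩

theorem pullA_inj (σ : K ≃ₐ[k] K) {R R' : Place k K} (h : pullA σ R = pullA σ R') : R = R' := by
  refine Subtype.ext (Valuation.ext fun z => ?_)
  have := congrArg (fun p : Place k K => p.1 (σ.symm z)) h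
  have e : ∀ p : Place k K, (pullA σ p).1 (σ.symm z) = p.1 z := fun p =>
    show p.1 (σ (σ.symm z)) = p.1 z by rw [σ.apply_symm_apply]
  simpa [e] using this

theorem pullA_eq [IsAlgClosed k] (hK : IsFunctionField k K) (σ : K ≃ₐ[k] K) (R : Place k K)
    (h : IsFixedPt (σ : K →ₐ[k] K) R) : pullA σ R = R := by
  refine (FunFldLib.ext_of_le (P := R) (Q := pullA σ R) fun z hz => ?_).symm
  exact tau_int hK R h hz

/-- elements fixed by an automorphism -/
def fixedA (σ : K ≃ₐ[k] K) : IntermediateField k K where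
  carrier := {z | σ z = z}
  mul_mem' := fun {a b} (ha : σ a = a) (hb : σ b = b) => show σ (a * b) = a * b by rw [map_mul, ha, hb]
  one_mem' := map_one σ
  add_mem' := fun {a b} (ha : σ a = a) (hb : σ b = b) => show σ (a + b) = a + b by rw [map_add, ha, hb]
  zero_mem' := map_zero σ
  algebraMap_mem' := σ.commutes
  inv_mem' := fun a (ha : σ a = a) => show σ a⁻¹ = a⁻¹ by rw [map_inv₀, ha]

variable [IsAlgClosed k] (hK : IsFunctionField k K)
include hK

theorem not_const {P : Place k K} {x : K} {m : ℕ} (hm : 0 < m) (hx : P.1 x = exp (m : ℤ)) :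
    x ∉ Set.range (algebraMap k K) := by
  rintro ⟨c, rfl⟩
  have := P.2.1 c
  rw [hx, ← exp_zero, exp_le_exp] at this
  omega

theorem finrank_two {P : Place k K} {x : K} (hx : P.1 x = exp 2) (ho : ∀ Q, Q ≠ P → Q.1 x ≤ 1) :
    Module.finrank (IntermediateField.adjoin k ({x} : Set K)) K = 2 := by
  classical
  have hxk : x ∉ Set.range (algebraMap k K) := not_const hK (m := 2) (by omega) hx
  have hx0 : x ≠ 0 := fun h => hxk ⟨0, by rw [h, map_zero]⟩
  have h := deg_poles_eq hK.1 (transcendental_of_not_mem hK hxk)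
  have e : (-FunFld.div k x ⊔ 0 : Divisor k K) = Finsupp.single P 2 := by
    ext Q
    rw [Finsupp.sup_apply, Finsupp.neg_apply, div_apply hK.1, Finsupp.zero_apply]
    rcases eq_or_ne Q P with rfl | hQ
    · rw [Finsupp.single_eq_same, show Q.ord x = -2 by rw [Place.ord, hx, WithZero.log_exp]]; rfl
    · rw [Finsupp.single_eq_of_ne hQ]
      exact max_eq_right (neg_nonpos.2 ((v_le_one_iff Q hx0).1 (ho Q hQ)))
  rw [e, FunFldLib.deg_single, deg_eq_one hK] at h
  have : degX k x = 2 := by omega
  exact this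

theorem mem_adjoin (hg : 1 < genus k K) {P0 P : Place k K} {x y : K}
    (hx : P0.1 x = exp 2) (hxo : ∀ Q, Q ≠ P0 → Q.1 x ≤ 1)
    (hy : P.1 y = exp 2) (hyo : ∀ Q, Q ≠ P → Q.1 y ≤ 1) :
    y ∈ IntermediateField.adjoin k ({x} : Set K) := by
  classical
  by_contra hny
  have hxk : x ∉ Set.range (algebraMap k K) := not_const hK (m := 2) (by omega) hx
  have htr := transcendental_of_not_mem hK hxk
  set g := genus k K
  set D : Divisor k K := Finsupp.single P0 (2 * (g : ℤ)) + Finsupp.single P 2 with hD
  let f : (degreeLT k (g + 1) × degreeLT k (g + 1)) →ₗ[k] K :=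
    { toFun := fun p => aeval x (p.1 : Polynomial k) + y * aeval x (p.2 : Polynomial k)
      map_add' := fun p q => by simp [mul_add]; ring
      map_smul' := fun c p => by simp [smul_add] }
  have hinj : Function.Injective f := by
    rw [← LinearMap.ker_eq_bot, Submodule.eq_bot_iff]
    intro p hp
    have h : aeval x (p.1 : Polynomial k) + y * aeval x (p.2 : Polynomial k) = 0 := hp
    have hb : aeval x (p.2 : Polynomial k) = 0 := by
      by_contra hb
      apply hny
      have e : y = -aeval x (p.1 : Polynomial k) / aeval x (p.2 : Polynomial k) := by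
        field_simp; linear_combination h
      rw [e]
      exact div_mem (neg_mem (Fibre.poly_mem x _)) (Fibre.poly_mem x _)
    rw [hb, mul_zero, add_zero] at h
    exact Prod.ext (Subtype.ext (transcendental_iff.1 htr _ h)) (Subtype.ext (transcendental_iff.1 htr _ hb))
  have hp : ∀ p : Polynomial k, p ∈ degreeLT k (g + 1) → ∀ Q : Place k K,
      Q.1 (aeval x p) ≤ exp (Finsupp.single P0 (2 * (g : ℤ)) Q) := by
    intro p hp Q
    rcases eq_or_ne Q P0 with rfl | hQ
    · rw [Finsupp.single_eq_same, Polynomial.aeval_eq_sum_range]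
      refine Valuation.map_sum_le _ fun i hi => (smul_le Q _ _).trans ?_
      have hi' : i ≤ g := by
        have := Fibre.mem_degreeLT_succ.1 hp
        simp only [Finset.mem_range] at hi
        omega
      rw [map_pow, hx, ← WithZero.exp_nsmul, exp_le_exp, nsmul_eq_mul]
      omega
    · rw [Finsupp.single_eq_of_ne hQ, exp_zero]
      exact v_aeval_le Q (hxo Q hQ) p
  have hrange : LinearMap.range f ≤ L D := by
    rintro _ ⟨p, rfl⟩
    intro Q
    refine (Q.1.map_add _ _).trans (max_le ((hp _ p.1.2 Q).trans ?_) ?_)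
    · rw [exp_le_exp, hD, Finsupp.add_apply]
      refine le_add_of_nonneg_right ?_
      exact (Finsupp.single_nonneg.2 (by norm_num) : (0 : Divisor k K) ≤ Finsupp.single P 2) Q
    · rw [map_mul, hD, Finsupp.add_apply, add_comm (Finsupp.single P0 (2 * (g : ℤ)) Q) _, WithZero.exp_add]
      refine mul_le_mul' ?_ (hp _ p.2.2 Q)
      rcases eq_or_ne Q P with rfl | hQ
      · rw [Finsupp.single_eq_same]; exact hy.le
      · rw [Finsupp.single_eq_of_ne hQ, exp_zero]; exact hyo Q hQ
  have := finite_L hK.1 D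
  have h1 := Submodule.finrank_mono hrange
  have : Module.Finite k (degreeLT k (g + 1)) := Module.Finite.equiv (Polynomial.degreeLTEquiv k (g + 1)).symm
  rw [LinearMap.finrank_range_of_inj hinj, Module.finrank_prod, (Polynomial.degreeLTEquiv k (g + 1)).finrank_eq,
    Module.finrank_fin_fun] at h1
  have hdeg : D.deg = 2 * (g : ℤ) + 2 := by
    rw [hD, FunFldLib.deg_add, FunFldLib.deg_single, FunFldLib.deg_single, deg_eq_one hK, deg_eq_one hK]; ring
  have h2 := ell_eq_of_large hK (D := D) (by rw [hdeg]; omega)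
  rw [hdeg] at h2
  change g + 1 + (g + 1) ≤ ell D at h1
  omega

/-- a nontrivial automorphism fixes at most `2g + 2` places -/
theorem fix_bound (σ : K ≃ₐ[k] K) (S : Finset (Place k K))
    (hS : ∀ P ∈ S, IsFixedPt (σ : K →ₐ[k] K) P) (hcard : 2 * genus k K + 2 < S.card) : σ = AlgEquiv.refl := by
  classical
  by_contra hne
  obtain ⟨Q, hQ⟩ : ∃ Q : Place k K, ¬ IsFixedPt (σ : K →ₐ[k] K) Q := by
    by_contra hall
    push Not at hall
    obtain ⟨z, hz⟩ : ∃ z, σ z ≠ z := by
      by_contra h
      push Not at h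
      exact hne (AlgEquiv.ext h)
    refine infinite_places hK (((finite_ord_support hK.1 z).union (finite_ord_support hK.1 (σ z - z))).subset
      fun P _ => ?_)
    by_cases hzi : P.1 z ≤ 1
    · obtain ⟨c, hc⟩ := exists_res hK P hzi
      right
      have h1 : P.1 (σ z - z) < 1 := by
        rw [show σ z - z = σ (z - algebraMap k K c) - (z - algebraMap k K c) by rw [map_sub, σ.commutes]; ring]
        exact (Valuation.map_sub _ _ _).trans_lt (max_lt (hall P _ hc) hc)
      have := (v_lt_one_iff P (sub_ne_zero.2 hz)).1 h1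
      simp only [Function.mem_support]; omega
    · left
      intro h
      apply hzi
      rcases eq_or_ne z 0 with rfl | hz0
      · simp
      · exact (v_le_one_iff P hz0).2 (le_of_eq (show (0 : ℤ) = P.ord z from h.symm))
  set g := genus k K
  have hell : 2 ≤ ell (Finsupp.single Q ((g : ℤ) + 1) : Divisor k K) := by
    have h := delta_le_genus hK.1 (Finsupp.single Q ((g : ℤ) + 1) : Divisor k K)
    rw [delta, FunFldLib.deg_single, deg_eq_one hK] at h
    push_cast at h
    omega
  obtain ⟨f, hf, hfc⟩ : ∃ f ∈ L (Finsupp.single Q ((g : ℤ) + 1) : Divisor k K),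
      f ∉ Set.range (algebraMap k K) := by
    by_contra h
    push Not at h
    have : L (Finsupp.single Q ((g : ℤ) + 1) : Divisor k K) ≤ Submodule.span k {(1 : K)} := fun f hf => by
      obtain ⟨c, rfl⟩ := h f hf
      exact Submodule.mem_span_singleton.2 ⟨c, (Algebra.algebraMap_eq_smul_one c).symm⟩
    have h1 := Submodule.finrank_mono this
    rw [finrank_span_singleton one_ne_zero] at h1
    change 2 ≤ Module.finrank k (L (Finsupp.single Q ((g : ℤ) + 1) : Divisor k K)) at hell
    omega
  have hfo : ∀ R, R ≠ Q → R.1 f ≤ 1 := fun R hR => by simpa [Finsupp.single_eq_of_ne hR] using hf R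
  have hfQ : 1 < Q.1 f := by
    obtain ⟨R, hR⟩ := exists_pole hK hfc
    rcases eq_or_ne R Q with rfl | hne'
    · rw [← not_le]
      intro h
      have := (v_le_one_iff R (fun e => hfc ⟨0, by rw [e, map_zero]⟩)).1 h
      omega
    · have := (v_le_one_iff R (fun e => hfc ⟨0, by rw [e, map_zero]⟩)).1 (hfo R hne')
      omega
  set Q1 := pullA σ.symm Q
  have hQ1 : pullA σ Q1 = Q := Subtype.ext (Valuation.ext fun z =>
    show Q.1 (σ.symm (σ z)) = Q.1 z by rw [σ.symm_apply_apply])
  have hmemD : σ f - f ∈ L (Finsupp.single Q ((g : ℤ) + 1) + Finsupp.single Q1 ((g : ℤ) + 1) -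
      ∑ P ∈ S, Finsupp.single P 1) := by
    intro R
    rw [Finsupp.sub_apply, Finsupp.add_apply, sum_single]
    have hQS : Q ∉ S := fun h => hQ (hS Q h)
    split_ifs with h
    · have hne1 : R ≠ Q := fun e => hQS (e ▸ h)
      have hne2 : R ≠ Q1 := fun e => by
        have := pullA_eq hK σ R (hS R h)
        rw [e, hQ1] at this
        exact hne1 (e.trans this.symm)
      rw [Finsupp.single_eq_of_ne hne1, Finsupp.single_eq_of_ne hne2, zero_add, zero_sub, ← lt_one_iff_le]
      obtain ⟨c, hc⟩ := exists_res hK R (hfo R hne1)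
      rw [show σ f - f = σ (f - algebraMap k K c) - (f - algebraMap k K c) by rw [map_sub, σ.commutes]; ring]
      exact (Valuation.map_sub _ _ _).trans_lt (max_lt (hS R h _ hc) hc)
    · rw [sub_zero]
      refine (Valuation.map_sub _ _ _).trans (max_le ?_ ((hf R).trans (exp_le_exp.2 (le_add_of_nonneg_right ?_))))
      · refine ((hf (pullA σ R)).trans (exp_le_exp.2 ?_))
        rcases eq_or_ne R Q1 with rfl | hR
        · rw [hQ1, Finsupp.single_eq_same, Finsupp.single_eq_same]
          exact le_add_of_nonneg_left ((Finsupp.single_nonneg.2 (by omega) : (0 : Divisor k K) ≤ Finsupp.single Q _) Q1)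
        · have : pullA σ R ≠ Q := fun e => hR (pullA_inj σ (e.trans hQ1.symm))
          rw [Finsupp.single_eq_of_ne this]
          exact add_nonneg ((Finsupp.single_nonneg.2 (by omega) : (0 : Divisor k K) ≤ Finsupp.single Q _) R)
            ((Finsupp.single_nonneg.2 (by omega) : (0 : Divisor k K) ≤ Finsupp.single Q1 _) R)
      · exact (Finsupp.single_nonneg.2 (by omega) : (0 : Divisor k K) ≤ Finsupp.single Q1 _) R
  rw [L_eq_bot_of_deg_neg hK.1, Submodule.mem_bot, sub_eq_zero] at hmemD
  · apply hQ
    have h1 : pullA σ Q = Q := by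
      by_contra h
      have := hfo _ h
      rw [show (pullA σ Q).1 f = Q.1 (σ f) from rfl, hmemD] at this
      exact absurd hfQ (not_lt.2 this)
    intro z hz
    have : (pullA σ Q).1 z < 1 := by rw [h1]; exact hz
    exact this
  · rw [FunFldLib.deg_sub, FunFldLib.deg_add, deg_sum_single hK, FunFldLib.deg_single, FunFldLib.deg_single,
      deg_eq_one hK, deg_eq_one hK]
    push_cast
    omega

theorem weights (hg : 1 < genus k K) (hchar : ringChar k = 0 ∨ 2 * genus k K - 2 < ringChar k)
    {C : Divisor k K} (hC : IsCanonical k K C) {n : ℕ} {φ : Fin (n + 1) → K} (hφ : LinearIndependent k φ)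
    (hspan : Submodule.span k (Set.range φ) = L C) {s : K} {H : K →ₐ[k] PowerSeries K}
    (hH : LocRes.IsHasseFamily s H) {J : Fin n → ℕ} (hJ : IsOrders K (hcol (AlgHom.id k K) H φ) J)
    {Φ : Place k K → (K →ₐ[k] LaurentSeries k)} (hΦ : ∀ P : Place k K, LocRes.IsExpansionAt P.1 (Φ P)) :
    genus k K = n + 1 ∧
    (∀ P, 2 * wDiv (AlgHom.id k K) H Φ s φ J P ≤ (n : ℤ) * (n + 1) ∧
      (2 * wDiv (AlgHom.id k K) H Φ s φ J P = (n : ℤ) * (n + 1) →
        ∃ y : K, P.1 y = exp 2 ∧ ∀ Q, Q ≠ P → Q.1 y ≤ 1)) ∧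
    (wDiv (AlgHom.id k K) H Φ s φ J).deg = (n : ℤ) * (n + 1) * (n + 2) := by
  classical
  obtain ⟨hellC, hdegC⟩ := deg_canonical hK hC
  have hgn : genus k K = n + 1 := by
    rw [← hellC, ell, ← hspan, finrank_span_eq_card hφ, Fintype.card_fin]
  have hJpos : ∀ l, 0 < J l := fun l => Nat.pos_of_ne_zero fun h => by
    refine ((hJ.2 0).1 ⟨l, h⟩) (Submodule.subset_span ⟨0, Nat.succ_pos _, ?_⟩)
    funext i
    simp [hcol, LocRes.hasseD_apply, PowerSeries.coeff_zero_eq_constantCoeff_apply, hH.2]
  have hJge : ∀ l : Fin n, (l : ℕ) + 1 ≤ J l := by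
    rintro ⟨i, hi⟩
    induction i with
    | zero => exact hJpos _
    | succ i ih =>
      exact Nat.succ_le_of_lt ((ih (by omega)).trans_lt (hJ.1 (Fin.mk_lt_mk.2 (Nat.lt_succ_self i))))
  -- orders at a place
  have hloc : ∀ P : Place k K, ∃ J' : Fin n → ℕ, (∀ l : Fin n, J' l ≤ 2 * ((l : ℕ) + 1)) ∧
      (∀ l, J l ≤ (l : ℕ) + 1) ∧ (wDiv (AlgHom.id k K) H Φ s φ J P = ∑ l, ((J' l : ℤ) - J l)) ∧
      ((∀ l : Fin n, J' l = 2 * ((l : ℕ) + 1)) → ∃ y : K, P.1 y = exp 2 ∧ ∀ Q, Q ≠ P → Q.1 y ≤ 1) := by
    intro P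
    obtain ⟨t, -, ht⟩ := exists_exp (P := P) (-1)
    obtain ⟨ρ, -, -, Ht, hHt, -⟩ := exists_family hK P ht hH
    obtain ⟨y, hy, hnorm, heff, -, hli⟩ := exists_normalized hK hφ P
    obtain ⟨J', hJ'⟩ := exists_ordersAt hK P ht hHt hli heff hnorm
    have hpos := order_pos hK P ht hHt hnorm hJ'
    have hgap : ∀ j, 1 ≤ j → (j ∈ Set.range J' ↔
        L (Finsupp.single P ((j : ℤ) + 1)) = L (Finsupp.single P (j : ℤ))) := fun j hj =>
      (hJ'.2 j).trans (S12609.result k K hK C hC φ hφ hspan P y hy heff hnorm t ht Ht hHt j hj)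
    have hbound : ∀ l : Fin n, J' l ≤ 2 * ((l : ℕ) + 1) := by
      intro l
      have h1 := (hgap (J' l) (hpos l)).1 ⟨l, rfl⟩
      have h := S11045.result k K hK P (J' l + 1) (by omega) (by
        push_cast
        rw [add_sub_cancel_right]
        exact h1)
      refine le_trans ?_ (h.trans (Nat.mul_le_mul_left 2 ?_))
      · omega
      refine le_trans (Set.ncard_le_ncard
        (t := ↑(insert 1 ((Finset.Iio l).image fun i => J' i + 1))) ?_ (Finset.finite_toSet _)) ?_
      · rintro m ⟨hm1, hm2, hm3⟩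
        simp only [Finset.coe_insert, Finset.coe_image, Set.mem_insert_iff, Set.mem_image]
        rcases hm1.eq_or_lt with h | h
        · exact Or.inl h.symm
        · obtain ⟨i, hi⟩ := (hgap (m - 1) (by omega)).2 (by
            rw [Nat.cast_sub hm1]; push_cast; rw [sub_add_cancel]; exact hm3)
          exact Or.inr ⟨i, Finset.mem_coe.2 (Finset.mem_Iio.2 (hJ'.1.lt_iff_lt.1 (by omega))), by omega⟩
      · rw [Set.ncard_coe_finset]
        refine (Finset.card_insert_le _ _).trans (Nat.succ_le_succ ?_)
        exact Finset.card_image_le.trans_eq (Fin.card_Iio l)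
    have hJt : IsOrders K (hcol (AlgHom.id k K) Ht (y • φ)) J :=
      (orders_scale (AlgHom.id k K) hHt φ hy J).2 ((orders_var (AlgHom.id k K) φ hK hH hHt J).2 hJ)
    have hc : ∀ l, ringChar k = 0 ∨ J' l < ringChar k := fun l => hchar.imp id fun h => by
      have := hbound l; have := l.2; omega
    obtain ⟨φ', hs, hli', e0, hl⟩ := exists_adapted hK P ht hHt hli heff hnorm hJ'
    obtain ⟨M, hM, he⟩ := exists_change (φ := y • φ) hli' hs.le
    have hfix : IsFixedPt (AlgHom.id k K) P := fun z hz => hz
    have h1 := ((det_est hK P hfix ht hHt φ' e0 J' hpos (fun l => (hl l).2) fun l => (l : ℕ) + 1).2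
      (Or.inl fun l => Nat.succ_pos _)).2 (S12611.binom_one k J' hJ'.1 hpos hc)
    have hle : ∀ l, J l ≤ (l : ℕ) + 1 := orders_le_of_det (y • φ) hJt _ (fun a b h => Nat.add_lt_add_right h 1)
      fun h => by
        rw [he, wrMat_change, h, mul_zero, map_zero] at h1
        exact WithZero.exp_ne_zero h1.symm
    refine ⟨J', hbound, hle, ?_, fun heq => ?_⟩
    · have hw := ((S12615.result k K hK (AlgHom.id k K) P hfix (y • φ) hli heff hnorm t ht Ht hHt J hJt J' hJ' Φ hΦ).2
        (Or.inl rfl)).2 (by
          rw [show J = fun l : Fin n => (l : ℕ) + 1 from funext fun l => le_antisymm (hle l) (hJge l)]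
          exact S12611.binom_one k J' hJ'.1 hpos hc)
      rw [← hw]
      congr 1
      exact (S12614.result k K hK φ hφ (AlgHom.id k K) s H hH t Ht hHt J hJ 1 (by simp) y hy (y • φ)
        (fun i => by simp [Matrix.one_apply, ite_smul]) Φ hΦ).symm
    · have h2 : (1 : ℕ) ∉ Set.range J' := by
        rintro ⟨l, hl⟩
        have := heq l; omega
      rw [hgap 1 le_rfl] at h2
      norm_num at h2
      have hle2 : ¬ L (Finsupp.single P (2 : ℤ)) ≤ L (Finsupp.single P (1 : ℤ)) :=
        fun h => h2 (le_antisymm h (fun f hf Q => (hf Q).trans (exp_le_exp.2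
          ((Finsupp.single_le_single.2 (by norm_num) : (Finsupp.single P (1 : ℤ) : Divisor k K) ≤ Finsupp.single P 2) Q))))
      obtain ⟨f, hf, hf'⟩ := SetLike.not_le_iff_exists.1 hle2
      have ho : ∀ Q, Q ≠ P → Q.1 f ≤ 1 := fun Q hQ => by simpa [Finsupp.single_eq_of_ne hQ] using hf Q
      refine ⟨f, le_antisymm (by simpa using hf P) ?_, ho⟩
      by_contra h
      apply hf'
      intro Q
      rcases eq_or_ne Q P with rfl | hQ
      · rw [Finsupp.single_eq_same]
        rw [not_le, lt_exp_iff] at h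
        exact h
      · rw [Finsupp.single_eq_of_ne hQ, exp_zero]; exact ho Q hQ
  have hJeq : ∀ l : Fin n, J l = (l : ℕ) + 1 := fun l => by
    obtain ⟨P, -⟩ := (infinite_places hK).nonempty
    obtain ⟨J', -, h, -⟩ := hloc P
    exact le_antisymm (h l) (hJge l)
  have hgauss : ∀ m : ℕ, 2 * ∑ l : Fin m, ((l : ℕ) + 1 : ℤ) = (m : ℤ) * (m + 1) := by
    intro m
    induction m with
    | zero => simp
    | succ m ih =>
      rw [Fin.sum_univ_castSucc, mul_add]
      simp only [Fin.val_castSucc, Fin.val_last]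
      rw [ih]; push_cast; ring
  refine ⟨hgn, fun P => ?_, ?_⟩
  · obtain ⟨J', hb, -, hw, hy⟩ := hloc P
    rw [hw, ← hgauss n, Finset.mul_sum, Finset.mul_sum]
    have key : ∀ l : Fin n, 2 * ((J' l : ℤ) - J l) ≤ 2 * ((l : ℕ) + 1 : ℤ) := fun l => by
      have := hb l; have := hJeq l; omega
    refine ⟨Finset.sum_le_sum fun l _ => key l, fun h => hy fun l => ?_⟩
    have := (Finset.sum_eq_sum_iff_of_le fun l _ => key l).1 h l (Finset.mem_univ l)
    have := hJeq l
    omega
  · have hb : ell (C : Divisor k K) = n + 1 := by rw [hellC, hgn]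
    have hmap : mapDiv k φ = C := by
      ext P
      have hmem : ∀ i, φ i ∈ L C := fun i => hspan ▸ Submodule.subset_span ⟨i, rfl⟩
      refine mapDiv_unique hK φ (fun i => hφ.ne_zero i) P (fun i => hmem i P) ?_
      by_contra h
      push Not at h
      have hsub : L C ≤ L (C - Finsupp.single P 1) := by
        rw [← hspan, Submodule.span_le]
        rintro _ ⟨i, rfl⟩ Q
        rcases eq_or_ne Q P with rfl | hQ
        · rw [Finsupp.sub_apply, Finsupp.single_eq_same, ← lt_exp_iff]
          exact lt_of_le_of_ne (hmem i Q) (h i)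
        · rw [Finsupp.sub_apply, Finsupp.single_eq_of_ne hQ, sub_zero]
          exact hmem i Q
      have := finite_L hK.1 (C - Finsupp.single P 1)
      have hm : ell C ≤ ell (C - Finsupp.single P 1) := Submodule.finrank_mono hsub
      have hrr := riemann_roch hK hC (C - Finsupp.single P 1)
      rw [sub_sub_cancel, FunFldLib.deg_sub, FunFldLib.deg_single, deg_eq_one hK, hdegC] at hrr
      have hP1 : ell (Finsupp.single P 1 : Divisor k K) ≤ 1 := by
        by_contra h2
        obtain ⟨f, hf, hfc⟩ : ∃ f ∈ L (Finsupp.single P 1 : Divisor k K), f ∉ Set.range (algebraMap k K) := by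
          by_contra h
          push Not at h
          have hh : L (Finsupp.single P 1 : Divisor k K) ≤ Submodule.span k {(1 : K)} := fun f hf => by
            obtain ⟨c, rfl⟩ := h f hf
            exact Submodule.mem_span_singleton.2 ⟨c, (Algebra.algebraMap_eq_smul_one c).symm⟩
          have h1 := Submodule.finrank_mono hh
          rw [finrank_span_singleton one_ne_zero] at h1
          exact h2 h1
        obtain ⟨R, hR⟩ := exists_pole hK hfc
        have hf0 : f ≠ 0 := fun e => hfc ⟨0, by rw [e, map_zero]⟩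
        have hRP : R = P := by
          by_contra hne
          have := (v_le_one_iff R hf0).1 (by simpa [Finsupp.single_eq_of_ne hne] using hf R)
          omega
        subst hRP
        have h4 := (v_le_exp_iff R hf0 _).1 (hf R)
        rw [Finsupp.single_eq_same] at h4
        have h5 : ∀ Q, Q ≠ R → 0 ≤ Q.ord f := fun Q hQ =>
          (v_le_one_iff Q hf0).1 (by simpa [Finsupp.single_eq_of_ne hQ] using hf Q)
        have := (genus_zero_of_rational hK (rational_of_pole hK (deg_eq_one hK R) (show R.ord f = -1 by omega) h5)).1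
        omega
      omega
    rw [(S12603.result k K hK φ hφ (AlgHom.id k K) s H hH J hJ Φ hΦ).2, hmap, hdegC]
    have hfr : Module.finrank (AlgHom.id k K).fieldRange K = 1 := by
      rw [show (AlgHom.id k K).fieldRange = ⊤ from eq_top_iff.2 fun z _ => ⟨z, rfl⟩, IntermediateField.finrank_top]
    rw [hfr, Finset.sum_congr rfl fun l _ => by rw [hJeq l], hgn]
    push_cast
    linear_combination (n : ℤ) * hgauss n

end


/-- Over an algebraically closed constant field of characteristic `0` or greater than `2g - 2`, let `K`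
have genus `g > 1` and let the Weierstrass points of `K` be the support of the Weierstrass divisor
`W(φ)` of the canonical map `φ` (a basis of `L(C)`, `C` canonical; the divisor of `ds` in `W` read
through a family of Laurent expansions). Then either the number of Weierstrass points exceeds `2g +
2` and the automorphism group of `K/k` acts faithfully on them, or that number is exactly `2g + 2`
and the automorphisms fixing all of them are exactly those fixing some `x` with `[K : k(x)] = 2`. -/
theorem result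
    (k K : Type*) [Field k] [IsAlgClosed k] [Field K] [Algebra k K]
    (hK : FunFld.IsFunctionField k K) (hg : 1 < FunFld.genus k K)
    (hchar : ringChar k = 0 ∨ 2 * FunFld.genus k K - 2 < ringChar k)
    (C : FunFld.Divisor k K) (hC : FunFld.IsCanonical k K C)
    {n : ℕ} (φ : Fin (n + 1) → K) (hφ : LinearIndependent k φ)
    (hspan : Submodule.span k (Set.range φ) = FunFld.L C)
    (s : K) (H : K →ₐ[k] PowerSeries K) (hH : LocRes.IsHasseFamily s H)
    (J : Fin n → ℕ) (hJ : FunFld.IsOrders K (FunFld.hcol (AlgHom.id k K) H φ) J)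
    (Φ : FunFld.Place k K → (K →ₐ[k] LaurentSeries k))
    (hΦ : ∀ P : FunFld.Place k K, LocRes.IsExpansionAt P.1 (Φ P)) :
    (2 * FunFld.genus k K + 2 < Set.ncard {P : FunFld.Place k K | FunFld.wDiv (AlgHom.id k K) H Φ s φ J P ≠ 0} ∧
      ∀ σ : K ≃ₐ[k] K, (∀ P : FunFld.Place k K, FunFld.wDiv (AlgHom.id k K) H Φ s φ J P ≠ 0 →
        FunFld.IsFixedPt (σ : K →ₐ[k] K) P) → σ = AlgEquiv.refl) ∨
    (Set.ncard {P : FunFld.Place k K | FunFld.wDiv (AlgHom.id k K) H Φ s φ J P ≠ 0} = 2 * FunFld.genus k K + 2 ∧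
      ∃ x : K, Module.finrank (IntermediateField.adjoin k ({x} : Set K)) K = 2 ∧
        ∀ σ : K ≃ₐ[k] K, (∀ P : FunFld.Place k K, FunFld.wDiv (AlgHom.id k K) H Φ s φ J P ≠ 0 →
          FunFld.IsFixedPt (σ : K →ₐ[k] K) P) ↔ σ x = x) := by
  classical
  obtain ⟨hgn, hw, hdeg⟩ := weights hK hg hchar hC hφ hspan hH hJ hΦ
  set W := wDiv (AlgHom.id k K) H Φ s φ J with hW
  have hS : {P : Place k K | W P ≠ 0} = ↑W.support := by ext P; simp
  rw [hS, Set.ncard_coe_finset]
  have hmem : ∀ P, W P ≠ 0 ↔ P ∈ W.support := fun P => Finsupp.mem_support_iff.symm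
  simp only [hmem]
  have hd' : W.deg = ∑ P ∈ W.support, W P := Finset.sum_congr rfl fun P _ => by
    simp only [FunFldLib.deg_eq_one hK P]; simp
  have hN : (0 : ℤ) < (n : ℤ) * (n + 1) := by
    have : 0 < n := by omega
    positivity
  have hsum : 2 * W.deg ≤ (W.support.card : ℤ) * ((n : ℤ) * (n + 1)) := by
    rw [hd', Finset.mul_sum]
    exact (Finset.sum_le_card_nsmul _ _ _ fun P _ => (hw P).1).trans_eq (by rw [nsmul_eq_mul])
  have hge : 2 * genus k K + 2 ≤ W.support.card := by
    have h : ((2 * genus k K + 2 : ℕ) : ℤ) * ((n : ℤ) * (n + 1)) ≤ (W.support.card : ℤ) * ((n : ℤ) * (n + 1)) := by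
      refine le_trans (le_of_eq ?_) hsum
      rw [hdeg, hgn]; push_cast; ring
    exact_mod_cast le_of_mul_le_mul_right h hN
  rcases hge.lt_or_eq with hlt | heq
  · exact Or.inl ⟨hlt, fun σ hσ => fix_bound hK σ W.support hσ hlt⟩
  · refine Or.inr ⟨heq.symm, ?_⟩
    have hall : ∀ P ∈ W.support, ∃ y : K, P.1 y = WithZero.exp 2 ∧ ∀ Q, Q ≠ P → Q.1 y ≤ 1 := by
      intro P hP
      refine (hw P).2 (le_antisymm (hw P).1 ?_)
      by_contra hlt
      have h2 : ∑ Q ∈ W.support, 2 * W Q < ∑ _Q ∈ W.support, (n : ℤ) * (n + 1) :=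
        Finset.sum_lt_sum (fun Q _ => (hw Q).1) ⟨P, hP, not_le.1 hlt⟩
      rw [Finset.sum_const, ← Finset.mul_sum, ← hd', hdeg, nsmul_eq_mul, ← heq, hgn] at h2
      push_cast at h2
      linarith
    obtain ⟨P0, hP0⟩ : W.support.Nonempty := Finset.card_pos.1 (by omega)
    obtain ⟨x, hx, hxo⟩ := hall P0 hP0
    refine ⟨x, finrank_two hK hx hxo, fun σ => ⟨fun hfix => ?_, fun hσx P hP => ?_⟩⟩
    · by_contra hne
      have hD : σ x - x ∈ L (Finsupp.single P0 2 - ∑ P ∈ W.support.erase P0, Finsupp.single P 1) := by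
        intro R
        rw [Finsupp.sub_apply, sum_single]
        rcases eq_or_ne R P0 with rfl | hR
        · rw [if_neg (Finset.notMem_erase _ _), sub_zero, Finsupp.single_eq_same]
          refine (Valuation.map_sub _ _ _).trans (max_le ?_ hx.le)
          rw [show R.1 (σ x) = R.1 x from congrArg (fun p : Place k K => p.1 x) (pullA_eq hK σ R (hfix R hP0))]
          exact hx.le
        · rw [Finsupp.single_eq_of_ne hR, zero_sub]
          split_ifs with h
          · obtain ⟨c, hc⟩ := FunFldLib.exists_res hK R (hxo R hR)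
            rw [← FunFldLib.lt_one_iff_le, show σ x - x = σ (x - algebraMap k K c) - (x - algebraMap k K c) by
              rw [map_sub, σ.commutes]; ring]
            exact (Valuation.map_sub _ _ _).trans_lt (max_lt (hfix R (Finset.mem_of_mem_erase h) _ hc) hc)
          · rw [neg_zero, WithZero.exp_zero]
            refine (Valuation.map_sub _ _ _).trans (max_le ?_ (hxo R hR))
            by_contra hgt
            have h1 : pullA σ R = P0 := by
              by_contra h
              exact hgt (hxo (pullA σ R) h)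
            exact hR (pullA_inj σ (h1.trans (pullA_eq hK σ P0 (hfix P0 hP0)).symm))
      rw [FunFldLib.L_eq_bot_of_deg_neg hK.1, Submodule.mem_bot, sub_eq_zero] at hD
      · exact hne hD
      · rw [FunFldLib.deg_sub, deg_sum_single hK, FunFldLib.deg_single, FunFldLib.deg_eq_one hK,
          Finset.card_erase_of_mem hP0]
        push_cast
        omega
    · obtain ⟨y, hy, hyo⟩ := hall P hP
      have hym := mem_adjoin hK hg hx hxo hy hyo
      have hσy : σ y = y := (IntermediateField.adjoin_simple_le_iff.2 (show x ∈ fixedA σ from hσx)) hym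
      have h1 : pullA σ P = P := by
        by_contra h
        have : (pullA σ P).1 y ≤ 1 := hyo _ h
        rw [show (pullA σ P).1 y = P.1 (σ y) from rfl, hσy, hy, ← WithZero.exp_zero, WithZero.exp_le_exp] at this
        omega
      intro z hz
      have : (pullA σ P).1 z < 1 := by rw [h1]; exact hz
      exact this

end Groth.Agent.S12618
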