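import Groth.Statements.S12620
import Groth.Agent.FunFldLib.Tate.Dlog

set_option autoImplicit false
universe u v w
open LocRes

namespace Groth.Agent.S12620

/-- Let `K` be a field with a valuation `w` into `ℤ ∪ {0}` and `φ : K → F((X))` a `k`-algebra expansion
at `w` in a local parameter (valuation-compatible, valuation ring onto the coefficient field `F`,
`w` normalised). Then for every nonzero `f` the residue of the logarithmic differential `f⁻¹ df`
read through `φ` — the `X⁻¹`-coefficient of `φ(f)⁻¹ · (φ f)′` — is the order of `f` at `w` (the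
integer `n` with `w f = exp (-n)`), viewed in `F`. (The published statement is for a complete field
with a perfect coefficient field and its intrinsic residue; read through an expansion neither
completeness nor perfectness plays a role.) -/
theorem result {k : Type u} {K : Type v} {F : Type w} [CommRing k] [Field K] [Field F]
    [Algebra k K] [Algebra k F]
    (w : Valuation K (WithZero (Multiplicative ℤ))) (φ : K →ₐ[k] LaurentSeries F)
    (hφ : LocRes.IsExpansionAt w φ) (f : K) (hf : f ≠ 0) :
    LocRes.resExp φ f⁻¹ f = ((-WithZero.log (w f) : ℤ) : F) := by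
  show (φ f⁻¹ * LocRes.D F (φ f)).coeff (-1) = _
  have h0 : φ f ≠ 0 := (map_ne_zero φ.toRingHom).2 hf
  rw [map_inv₀, Groth.Agent.FunFldLib.Tate.res_dlog h0]
  congr 1
  rw [← hφ.1]
  obtain ⟨j, hj⟩ : ∃ j : ℤ, Valued.v (φ f) = WithZero.exp (-j) :=
    ⟨-WithZero.log (Valued.v (φ f)), by rw [neg_neg, WithZero.exp_log ((Valuation.ne_zero_iff _).2 h0)]⟩
  rw [hj, WithZero.log_exp, neg_neg]
  refine le_antisymm (HahnSeries.order_le_of_coeff_ne_zero fun hz => ?_) (not_lt.1 fun hlt => ?_)
  · have h := (LaurentSeries.valuation_le_iff_coeff_lt_eq_zero (K := F) (D := j + 1) (f := φ f)).2 fun m hm => by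
      rcases eq_or_ne m j with rfl | hne
      · exact hz
      · exact (LaurentSeries.valuation_le_iff_coeff_lt_eq_zero (K := F) (D := j)).1 hj.le m (by omega)
    rw [hj, WithZero.exp_le_exp] at h
    omega
  · exact h0 (HahnSeries.coeff_order_eq_zero.1
      ((LaurentSeries.valuation_le_iff_coeff_lt_eq_zero (K := F) (D := j)).1 hj.le _ hlt))

end Groth.Agent.S12620
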