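import Groth.Statements.S12624
import Mathlib

set_option autoImplicit false
universe u v
open CAlg

namespace Groth.Agent.S12624

open W4bk4bump814p2

lemma term_mem (K : Type u) (A : Type v) [Field K] [CommRing A] [Algebra K A] (p : ℕ) [hp : Fact p.Prime]
    (i k : ℕ) (x y : A) (hk : k < p ^ i - 1) :
    ((p ^ i - 1).choose k : A) • (x ^ k * y ^ (p ^ i - 1 - k)) • KaehlerDifferential.D K A x +
      ((p ^ i - 1).choose (k + 1) : A) • (x ^ (k + 1) * y ^ (p ^ i - 1 - (k + 1))) • KaehlerDifferential.D K A y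
      ∈ Submodule.span K {ω | ∃ j < i, ∃ z : A, ω = delta K A p j z} := by
  obtain ⟨j, k', hk', hK⟩ := Nat.exists_eq_pow_mul_and_not_dvd (Nat.succ_ne_zero k) p hp.out.ne_one
  simp only [Nat.succ_eq_add_one] at hK
  have hk'0 : 0 < k' := Nat.pos_of_ne_zero (fun h => hk' (h ▸ dvd_zero p))
  have hpj : 0 < p ^ j := pow_pos hp.out.pos j
  have hji : j < i := by
    by_contra h
    have h1 : p ^ i ≤ p ^ j := Nat.pow_le_pow_right hp.out.pos (not_lt.mp h)
    have h2 : p ^ j ≤ p ^ j * k' := Nat.le_mul_of_pos_right _ hk'0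
    omega
  have hq : p ^ i = p ^ j * p ^ (i - j) := by rw [← pow_add]; congr 1; omega
  have hlt : k' < p ^ (i - j) := by
    by_contra h
    have h1 := Nat.mul_le_mul_left (p ^ j) (not_lt.mp h)
    omega
  obtain ⟨m, hm⟩ : ∃ m, p ^ (i - j) = k' + (m + 1) := ⟨p ^ (i - j) - k' - 1, by omega⟩
  obtain ⟨l, rfl⟩ : ∃ l, k' = l + 1 := ⟨k' - 1, by omega⟩
  obtain ⟨s, hs⟩ : ∃ s, p ^ j = s + 1 := ⟨p ^ j - 1, by omega⟩
  have hn : p ^ i - 1 - k = p ^ j * (m + 1) := by
    have : p ^ i = p ^ j * (l + 1) + p ^ j * (m + 1) := by rw [hq, hm, Nat.mul_add]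
    omega
  have hrel := Nat.choose_succ_right_eq (p ^ i - 1) k
  rw [hn, hK, ← hK] at hrel
  have hrel' : (p ^ i - 1).choose (k + 1) * (l + 1) = (p ^ i - 1).choose k * (m + 1) := by
    apply Nat.eq_of_mul_eq_mul_left hpj
    calc p ^ j * ((p ^ i - 1).choose (k + 1) * (l + 1))
        = (p ^ i - 1).choose (k + 1) * (p ^ j * (l + 1)) := by ring
      _ = (p ^ i - 1).choose (k + 1) * (k + 1) := by rw [← hK]
      _ = _ := by rw [hrel]; ring
  have hcop : Nat.Coprime (l + 1) (m + 1) := by
    have h1 : Nat.Coprime (l + 1) (p ^ (i - j)) :=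
      (Nat.Coprime.pow_left _ ((Nat.Prime.coprime_iff_not_dvd hp.out).mpr hk')).symm
    rw [hm] at h1
    exact Nat.coprime_self_add_right.mp h1
  have hdvd : (l + 1) ∣ (p ^ i - 1).choose k :=
    hcop.dvd_of_dvd_mul_right (Dvd.intro_left _ hrel')
  obtain ⟨c, hc⟩ := hdvd
  have hc2 : (p ^ i - 1).choose (k + 1) = c * (m + 1) := by
    apply Nat.eq_of_mul_eq_mul_right (Nat.succ_pos l)
    rw [hrel', hc, Nat.succ_eq_add_one]; ring
  have he1 : k = (l + 1) * s + l := by
    have : p ^ j * (l + 1) = (l + 1) * s + l + 1 := by rw [hs]; ring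
    omega
  have he2 : p ^ i - 1 - (k + 1) = (m + 1) * s + m := by
    have : p ^ j * (m + 1) = (m + 1) * s + m + 1 := by rw [hs]; ring
    omega
  have key : ((p ^ i - 1).choose k : A) • (x ^ k * y ^ (p ^ i - 1 - k)) • KaehlerDifferential.D K A x +
      ((p ^ i - 1).choose (k + 1) : A) • (x ^ (k + 1) * y ^ (p ^ i - 1 - (k + 1))) • KaehlerDifferential.D K A y
      = c • delta K A p j (x ^ (l + 1) * y ^ (m + 1)) := by
    rw [hc, hc2, he2, hn, hK, hs, he1]
    simp only [delta, hs, Nat.add_sub_cancel, Derivation.leibniz, Derivation.leibniz_pow]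
    simp only [← Nat.cast_smul_eq_nsmul A, smul_add, smul_smul]
    push_cast
    rw [add_comm]
    congr 1 <;> (congr 1; ring)
  rw [key]
  exact nsmul_mem (Submodule.subset_span (R := K) (s := {ω | ∃ j < i, ∃ z : A, ω = delta K A p j z}) ⟨j, hji, _, rfl⟩) c

lemma add_mem' (K : Type u) (A : Type v) [Field K] [CommRing A] [Algebra K A] (p : ℕ) [hp : Fact p.Prime]
    (i : ℕ) (x y : A) :
    delta K A p i (x + y) - delta K A p i x - delta K A p i y
      ∈ Submodule.span K {ω | ∃ j < i, ∃ z : A, ω = delta K A p j z} := by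
  set n := p ^ i - 1 with hn
  have : delta K A p i (x + y) - delta K A p i x - delta K A p i y = ∑ k ∈ Finset.range n,
      ((n.choose k : A) • (x ^ k * y ^ (n - k)) • KaehlerDifferential.D K A x +
      (n.choose (k + 1) : A) • (x ^ (k + 1) * y ^ (n - (k + 1))) • KaehlerDifferential.D K A y) := by
    simp only [delta, ← hn, map_add, smul_add, add_pow, Finset.sum_smul, smul_smul, Finset.sum_add_distrib]
    conv_lhs => enter [1, 1, 1]; rw [Finset.sum_range_succ]
    conv_lhs => enter [1, 1, 2]; rw [Finset.sum_range_succ']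
    simp [mul_comm]
    abel
  rw [this]
  exact Submodule.sum_mem _ fun k hk => term_mem K A p i k x y (Finset.mem_range.mp hk)



/-- For a perfect field `K` of characteristic `p > 0` and a commutative `K`-algebra `A`, put `δ_i(x) =
x^(p^i - 1) dx` in `Ω_{A/K}` and let the subsets `Σ^i ⊆ Ω_{A/K}` be given by `Σ^0 = {0}` and
`Σ^(i+1) = {δ_i(x) + σ | x ∈ A, σ ∈ Σ^i}`; then each `Σ^i` is the underlying set of a `K`-submodule
of `Ω_{A/K}` (closed under addition and under multiplication by elements of `K`; the latter uses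
that `K` is perfect). -/
theorem result (K : Type u) (A : Type v) [Field K] [PerfectField K] (p : ℕ) [Fact p.Prime] [CharP K p]
    [CommRing A] [Algebra K A] (i : ℕ) :
    ∃ S : Submodule K (Ω[A⁄K]), (S : Set (Ω[A⁄K])) = W4bk4bump814p2.sigma K A p i := by
  haveI : ExpChar K p := ExpChar.prime Fact.out
  haveI : PerfectRing K p := PerfectField.toPerfectRing p
  refine ⟨Submodule.span K {ω | ∃ j < i, ∃ z : A, ω = delta K A p j z}, ?_⟩
  induction i with
  | zero => simp
  | succ i ih =>
    ext ω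
    rw [SetLike.mem_coe, mem_sigma_succ, ← ih]
    simp only [SetLike.mem_coe]
    set S := Submodule.span K {ω | ∃ j < i, ∃ z : A, ω = delta K A p j z} with hS
    constructor
    · intro hω
      induction hω using Submodule.span_induction with
      | mem w hw =>
        obtain ⟨j, hj, z, rfl⟩ := hw
        rcases Nat.lt_succ_iff_lt_or_eq.mp hj with hj | rfl
        · exact ⟨0, by simp only [delta, map_zero, smul_zero, sub_zero]; exact Submodule.subset_span ⟨j, hj, z, rfl⟩⟩
        · exact ⟨z, by simp⟩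
      | zero => exact ⟨0, by simp [delta]⟩
      | add a b _ _ ha hb =>
        obtain ⟨x, hx⟩ := ha
        obtain ⟨y, hy⟩ := hb
        refine ⟨x + y, ?_⟩
        have := S.sub_mem (S.add_mem hx hy) (hS ▸ add_mem' K A p i x y)
        convert this using 1
        abel
      | smul c a _ ha =>
        obtain ⟨x, hx⟩ := ha
        obtain ⟨d, rfl⟩ : ∃ d : K, d ^ p ^ i = c :=
          ⟨(iterateFrobeniusEquiv K p i).symm c, by rw [← iterateFrobeniusEquiv_def]; exact (iterateFrobeniusEquiv K p i).apply_symm_apply c⟩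
        refine ⟨d • x, ?_⟩
        have hd : delta K A p i (d • x) = d ^ p ^ i • delta K A p i x := by
          obtain ⟨s, hs⟩ : ∃ s, p ^ i = s + 1 := ⟨p ^ i - 1, (Nat.succ_pred_eq_of_pos (pow_pos (Fact.out : p.Prime).pos i)).symm⟩
          simp only [delta, hs, Nat.add_sub_cancel, smul_pow, Derivation.map_smul]
          rw [smul_assoc, smul_comm (x ^ s) d, smul_smul, ← pow_succ]
        rw [hd, ← smul_sub]
        exact S.smul_mem _ hx
    · rintro ⟨x, hx⟩
      have h1 : S ≤ Submodule.span K {ω | ∃ j < i + 1, ∃ z : A, ω = delta K A p j z} :=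
        Submodule.span_mono fun w ⟨j, hj, z, hz⟩ => ⟨j, by omega, z, hz⟩
      have h2 := Submodule.add_mem _ (h1 hx) (Submodule.subset_span (R := K) (s := {ω | ∃ j < i + 1, ∃ z : A, ω = delta K A p j z}) ⟨i, by omega, x, rfl⟩)
      simpa using h2

end Groth.Agent.S12624
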