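import Groth.Statements.S12623
import Mathlib
import Groth.Agent.S12624

set_option autoImplicit false
universe u v
open CAlg

namespace Groth.Agent.S12623

open W4bk4bump814p2

lemma sigma_eq (K : Type u) (A : Type v) [Field K] [PerfectField K] (p : ℕ) [Fact p.Prime] [CharP K p] [CommRing A] [Algebra K A] (i : ℕ) :
    sigma K A p i = (Submodule.span K {ω | ∃ j < i, ∃ z : A, ω = delta K A p j z} : Set (Ω[A⁄K])) := by
  have h0 : ∀ n, (0 : Ω[A⁄K]) ∈ sigma K A p n := by
    intro n
    induction n with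
    | zero => simp
    | succ n ih => exact ⟨0, by simpa [delta] using ih⟩
  have hgen : ∀ n j, j < n → ∀ z : A, delta K A p j z ∈ sigma K A p n := by
    intro n
    induction n with
    | zero => omega
    | succ n ih =>
      intro j hj z
      rcases Nat.lt_succ_iff_lt_or_eq.mp hj with hj | rfl
      · exact ⟨0, by simpa [delta] using ih j hj z⟩
      · exact ⟨z, by simpa using h0 j⟩
  apply Set.Subset.antisymm
  · induction i with
    | zero => simp
    | succ i ih =>
      rintro ω ⟨x, hx⟩
      have hsub : {ω : Ω[A⁄K] | ∃ j < i, ∃ z : A, ω = delta K A p j z} ⊆ {ω : Ω[A⁄K] | ∃ j < i + 1, ∃ z : A, ω = delta K A p j z} :=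
        fun w ⟨j, hj, z, hz⟩ => ⟨j, by omega, z, hz⟩
      have h1 := Submodule.span_mono (R := K) hsub (ih hx)
      have h2 := Submodule.add_mem _ h1 (Submodule.subset_span (R := K) ⟨i, by omega, x, rfl⟩)
      simpa using h2
  · obtain ⟨S, hS⟩ := Groth.Agent.S12624.result K A p i
    rw [← hS]
    exact Submodule.span_le.mpr fun w ⟨j, hj, z, hz⟩ => by rw [hz]; rw [hS]; exact hgen i j hj z


/-- For a perfect field `K` of characteristic `p > 0` and a commutative `K`-algebra `A`, put `δ_i(x) =
x^(p^i - 1) dx` in `Ω_{A/K}` and let the subsets `Σ^i ⊆ Ω_{A/K}` be given by `Σ^0 = {0}` and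
`Σ^(i+1) = {δ_i(x) + σ | x ∈ A, σ ∈ Σ^i}`; then the defect of additivity `δ_i(x + y) - δ_i(x) -
δ_i(y)` lies in `Σ^i` for all `i` and all `x, y ∈ A`. -/
theorem result (K : Type u) (A : Type v) [Field K] [PerfectField K] (p : ℕ) [Fact p.Prime] [CharP K p]
    [CommRing A] [Algebra K A] (i : ℕ) (x y : A) :
    W4bk4bump814p2.delta K A p i (x + y) - W4bk4bump814p2.delta K A p i x - W4bk4bump814p2.delta K A p i y ∈
      W4bk4bump814p2.sigma K A p i := by
  rw [sigma_eq]
  exact Groth.Agent.S12624.add_mem' K A p i x y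

end Groth.Agent.S12623
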