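import Groth.Statements.S12625
import Mathlib
import Groth.Agent.S12624

set_option autoImplicit false
universe u v
open CAlg

namespace Groth.Agent.S12625

open W4bk4bump814p2

lemma sigma_eq (K : Type u) (A : Type v) [Field K] [PerfectField K] (p : ℕ) [Fact p.Prime] [CharP K p] [CommRing A] [Algebra K A] (i : ℕ) :
    sigma K A p i = (Submodule.span K {ω | ∃ j < i, ∃ z : A, ω = delta K A p j z} : Set (Ω[A⁄K])) := by
  have h0 : ∀ n, (0 : Ω[A⁄K]) ∈ sigma K A p n := by
    intro n
    induction n with
    | zero => simp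
    | succ n ih => exact ⟨0, by simpa [delta] using ih⟩
  have hgen : ∀ n j, j < n → ∀ z : A, delta K A p j z ∈ sigma K A p n := by
    intro n
    induction n with
    | zero => omega
    | succ n ih =>
      intro j hj z
      rcases Nat.lt_succ_iff_lt_or_eq.mp hj with hj | rfl
      · exact ⟨0, by simpa [delta] using ih j hj z⟩
      · exact ⟨z, by simpa using h0 j⟩
  apply Set.Subset.antisymm
  · induction i with
    | zero => simp
    | succ i ih =>
      rintro ω ⟨x, hx⟩
      have hsub : {ω : Ω[A⁄K] | ∃ j < i, ∃ z : A, ω = delta K A p j z} ⊆ {ω : Ω[A⁄K] | ∃ j < i + 1, ∃ z : A, ω = delta K A p j z} :=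
        fun w ⟨j, hj, z, hz⟩ => ⟨j, by omega, z, hz⟩
      have h1 := Submodule.span_mono (R := K) hsub (ih hx)
      have h2 := Submodule.add_mem _ h1 (Submodule.subset_span (R := K) ⟨i, by omega, x, rfl⟩)
      simpa using h2
  · obtain ⟨S, hS⟩ := Groth.Agent.S12624.result K A p i
    rw [← hS]
    exact Submodule.span_le.mpr fun w ⟨j, hj, z, hz⟩ => by rw [hz]; rw [hS]; exact hgen i j hj z


/-- For a perfect field `K` of characteristic `p > 0` and a commutative `K`-algebra `A`, put `δ_i(x) =
x^(p^i - 1) dx` in `Ω_{A/K}` and let the subsets `Σ^i ⊆ Ω_{A/K}` be given by `Σ^0 = {0}` and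
`Σ^(i+1) = {δ_i(x) + σ | x ∈ A, σ ∈ Σ^i}`; then `Σ^i` equals the additive subgroup of `Ω_{A/K}`
generated by all `δ_j(x)` with `j < i` and `x ∈ A`. -/
theorem result (K : Type u) (A : Type v) [Field K] [PerfectField K] (p : ℕ) [Fact p.Prime] [CharP K p]
    [CommRing A] [Algebra K A] (i : ℕ) :
    W4bk4bump814p2.sigma K A p i =
      (AddSubgroup.closure (⋃ j ∈ Finset.range i, Set.range (W4bk4bump814p2.delta K A p j)) :
        Set (Ω[A⁄K])) := by
  rw [sigma_eq]
  haveI : ExpChar K p := ExpChar.prime Fact.out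
  haveI : PerfectRing K p := PerfectField.toPerfectRing p
  set T := AddSubgroup.closure (⋃ j ∈ Finset.range i, Set.range (W4bk4bump814p2.delta K A p j))
  have hT : ∀ (c : K) (w : Ω[A⁄K]), w ∈ T → c • w ∈ T := by
    intro c w hw
    induction hw using AddSubgroup.closure_induction with
    | mem w hw =>
      simp only [Set.mem_iUnion, Finset.mem_range, Set.mem_range] at hw
      obtain ⟨j, hj, z, rfl⟩ := hw
      obtain ⟨d, rfl⟩ : ∃ d : K, d ^ p ^ j = c :=
        ⟨(iterateFrobeniusEquiv K p j).symm c, by rw [← iterateFrobeniusEquiv_def]; exact (iterateFrobeniusEquiv K p j).apply_symm_apply c⟩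
      have hd : d ^ p ^ j • delta K A p j z = delta K A p j (d • z) := by
        obtain ⟨s, hs⟩ : ∃ s, p ^ j = s + 1 := ⟨p ^ j - 1, (Nat.succ_pred_eq_of_pos (pow_pos (Fact.out : p.Prime).pos j)).symm⟩
        simp only [delta, hs, Nat.add_sub_cancel, smul_pow, Derivation.map_smul]
        rw [smul_assoc, smul_comm (z ^ s) d, smul_smul, ← pow_succ]
      rw [hd]
      exact AddSubgroup.subset_closure (Set.mem_biUnion (Finset.mem_range.mpr hj) ⟨_, rfl⟩)
    | zero => rw [smul_zero]; exact T.zero_mem
    | add a b _ _ ha hb => rw [smul_add]; exact T.add_mem ha hb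
    | neg a _ ha => rw [smul_neg]; exact T.neg_mem ha
  apply Set.Subset.antisymm
  · intro w hw
    induction hw using Submodule.span_induction with
    | mem w hw =>
      obtain ⟨j, hj, z, rfl⟩ := hw
      exact AddSubgroup.subset_closure (Set.mem_biUnion (Finset.mem_range.mpr hj) ⟨_, rfl⟩)
    | zero => exact T.zero_mem
    | add a b _ _ ha hb => exact T.add_mem ha hb
    | smul c a _ ha => exact hT c a ha
  · intro w hw
    refine (AddSubgroup.closure_le (K := (Submodule.span K {ω | ∃ j < i, ∃ z : A, ω = delta K A p j z}).toAddSubgroup)).mpr ?_ hw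
    intro w hw
    simp only [Set.mem_iUnion, Finset.mem_range, Set.mem_range] at hw
    obtain ⟨j, hj, z, rfl⟩ := hw
    exact Submodule.subset_span ⟨j, hj, z, rfl⟩

end Groth.Agent.S12625
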