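import Groth.Statements.S12628
import Groth.Agent.FunFldLib.Tate.Weil

set_option autoImplicit false
universe u v w
open FunFld

namespace Groth.Agent.S12628

/-- Let `K/k` be a geometric function field of one variable all of whose places carry a Laurent
expansion over `k` in a local parameter (valuation-compatible, valuation ring onto a
finite-dimensional coefficient field, normalised — so every place is separable), and let `v ∈ K`
have `dv ≠ 0`. Then every Weil differential — a `k`-linear form on the repartition space vanishing
on some `A(D) + K` — is of the form `a ↦ ∑_P Res_P(a_P · u dv)` for exactly one `u ∈ K`, the local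
residue being the trace to `k` of the `X⁻¹`-coefficient read through the expansion; i.e. the residue
pairing maps the Kähler differentials ONTO the Weil differentials. (The published statement is over
an algebraically closed field, where every place is rational; this row is the form for any constant
field under the stated separability of all places.) -/
theorem result (k : Type u) (K : Type v) [Field k] [Field K] [Algebra k K]
    (hK : FunFld.IsFunctionField k K) (hg : FunFld.IsGeometric k K)
    (F : FunFld.Place k K → Type w) [∀ P, Field (F P)] [∀ P, Algebra k (F P)] [∀ P, FiniteDimensional k (F P)]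
    (φ : ∀ P, K →ₐ[k] LaurentSeries (F P)) (hφ : ∀ P, LocRes.IsExpansionAt P.1 (φ P))
    (v : K) (hv : KaehlerDifferential.D k K v ≠ 0)
    (ω : Module.Dual k (FunFld.adele k K)) (hω : FunFld.IsWeil ω) :
    ∃! u : K, ∀ a : FunFld.adele k K,
      (Function.support fun P => LocRes.locRes (φ P) ((a : FunFld.Place k K → K) P * u) v).Finite ∧
        ω a = ∑ᶠ P, LocRes.locRes (φ P) ((a : FunFld.Place k K → K) P * u) v := by
  open Groth.Agent.FunFldLib Groth.Agent.FunFldLib.Tate in
  obtain ⟨ω₀, C, hω₀, hdiv, hC⟩ := exists_weil hK (sep_of_geometric hK hg) φ hφ (u := 1) one_ne_zero hv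
  have h0 := Groth.Agent.FunFldLib.ne_zero_of_isDivOf hK hdiv
  have key : ∀ (u : K) (a : FunFld.adele k K), Groth.Agent.FunFldLib.mulWLin hK ω₀ u a =
      ∑ᶠ P, LocRes.locRes (φ P) ((a : FunFld.Place k K → K) P * u) v := fun u a => by
    rw [Groth.Agent.FunFldLib.mulWLin_apply, Groth.Agent.FunFldLib.mulW_apply, (hω₀ _).2]
    exact finsum_congr fun P => by simp [mul_comm]
  obtain ⟨u, hu⟩ := Groth.Agent.FunFldLib.exists_mulW_eq hK (Groth.Agent.FunFldLib.isWeil_of_isDivOf hdiv) h0 hω
  refine ⟨u, fun a => ⟨Groth.Agent.FunFldLib.Tate.locRes_support hK.1 φ hφ a.2 u v, by rw [← hu, key]⟩, fun u' hu' => ?_⟩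
  exact Groth.Agent.FunFldLib.mulWLin_injective hK h0 (LinearMap.ext fun a => by rw [key, key, ← (hu' a).2, ← key, hu])

end Groth.Agent.S12628
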