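import Groth.Statements.S12631
import Groth.Agent.FunFldLib.Tate.Weil

set_option autoImplicit false
universe u v w
open FunFld

namespace Groth.Agent.S12631

/-- Let `K/k` be a geometric function field of one variable of genus one all of whose places carry a
Laurent expansion over `k` in a local parameter (so every place is separable), and `v ∈ K` with `dv
≠ 0`. Then there is a nonzero `u ∈ K` whose differential `u dv` has divisor zero — the order of
`φ_P(u) · (φ_P v)′` is `0` at every place `P` — and such a `u` is unique up to a factor from `k`.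
(The published statement concerns elliptic curves over algebraically closed fields; this row is the
form for any constant field under the stated separability of all places.) -/
theorem result (k : Type u) (K : Type v) [Field k] [Field K] [Algebra k K]
    (hK : FunFld.IsFunctionField k K) (hg : FunFld.IsGeometric k K) (h1 : FunFld.genus k K = 1)
    (F : FunFld.Place k K → Type w) [∀ P, Field (F P)] [∀ P, Algebra k (F P)] [∀ P, FiniteDimensional k (F P)]
    (φ : ∀ P, K →ₐ[k] LaurentSeries (F P)) (hφ : ∀ P, LocRes.IsExpansionAt P.1 (φ P))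
    (v : K) (hv : KaehlerDifferential.D k K v ≠ 0) :
    (∃ u : K, u ≠ 0 ∧ ∀ P, LocRes.vDiff (φ P) u v = 1) ∧
      ∀ u u' : K, u ≠ 0 → (∀ P, LocRes.vDiff (φ P) u v = 1) → (∀ P, LocRes.vDiff (φ P) u' v = 1) →
        ∃ c : k, u' = c • u := by
  open Groth.Agent.FunFldLib Groth.Agent.FunFldLib.Tate in
  obtain ⟨ω, C, hω, hdiv, hC⟩ := exists_weil hK (sep_of_geometric hK hg) φ hφ (u := 1) one_ne_zero hv
  have hcan := Groth.Agent.FunFldLib.deg_canonical hK
    (C := C) ⟨ω, Groth.Agent.FunFldLib.ne_zero_of_isDivOf hK hdiv, hdiv⟩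
  have hmem : ∀ u : K, u ∈ FunFld.L C ↔ ∀ P, LocRes.vDiff (φ P) u v ≤ 1 := fun u => by
    have h := Groth.Agent.FunFldLib.Tate.mem_L_iff_vDiff hK (Groth.Agent.FunFldLib.Tate.sep_of_geometric hK hg) φ hφ hv hC 0 u
    simpa using h
  have hfin := Groth.Agent.FunFldLib.finite_L hK.1 C
  refine ⟨?_, fun u u' hu hu1 hu1' => ?_⟩
  · obtain ⟨u, hu, hdivu⟩ := Groth.Agent.FunFldLib.exists_mem_L hK.1 (D := C) (by rw [hcan.1, h1]; norm_num)
    have hdeg : (C + FunFld.div k u).deg = 0 := by
      rw [Groth.Agent.FunFldLib.deg_add, hcan.2, Groth.Agent.FunFldLib.deg_div hK.1, h1]; norm_num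
    have heq := (Groth.Agent.FunFldLib.deg_mono_aux (Groth.Agent.FunFldLib.deg_pos hK) hdivu).2
      (by rw [hdeg, Groth.Agent.FunFldLib.deg_zero])
    refine ⟨u, hu, fun P => ?_⟩
    have hP := DFunLike.congr_fun heq P
    simp only [Finsupp.coe_zero, Pi.zero_apply, Finsupp.add_apply, Groth.Agent.FunFldLib.div_apply hK.1] at hP
    rw [← mul_one u, Groth.Agent.FunFldLib.Tate.vDiff_mul (hφ P), Groth.Agent.FunFldLib.v_eq_exp P hu,
      Groth.Agent.FunFldLib.Tate.vDiff_eq_exp (Groth.Agent.FunFldLib.Tate.vDiff_ne_zero (Groth.Agent.FunFldLib.Tate.sep_of_geometric hK hg) (hφ P) one_ne_zero hv),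
      ← hC P, ← WithZero.exp_add, ← WithZero.exp_zero]
    congr 1; omega
  · have hfr : Module.finrank k (FunFld.L C) = 1 := hcan.1.trans h1
    obtain ⟨c, hc⟩ := exists_smul_eq_of_finrank_eq_one hfr
      (x := (⟨u, (hmem u).2 fun P => (hu1 P).le⟩ : FunFld.L C)) (fun h => hu (congrArg Subtype.val h))
      ⟨u', (hmem u').2 fun P => (hu1' P).le⟩
    exact ⟨c, (congrArg Subtype.val hc).symm⟩

end Groth.Agent.S12631
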