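import Groth.Statements.S12708
-- import your own Groth.Agent.* helpers here

set_option autoImplicit false
universe u v
open CategoryTheory
open ArtFun

namespace Groth.Agent.S12708

/-- For Λ Noetherian with a finite map to a field k, A a local Λ-algebra whose residue field is k
(through a surjective Λ-algebra map A → k) and M an A-module, the length of M over Λ equals the
degree of k over the image of Λ times the length of M over A. The degree is written as the length of
k as a Λ-module, which is the same number; lengths are in ℕ∞. -/
theorem result {Λ : Type u} {k : Type u} [CommRing Λ] [Field k] [Algebra Λ k]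
    [IsNoetherianRing Λ] [Module.Finite Λ k]
    (A : Type u) [CommRing A] [Algebra Λ A] [IsLocalRing A] [Algebra A k] [IsScalarTower Λ A k]
    (hres : Function.Surjective (algebraMap A k))
    (M : Type v) [AddCommGroup M] [Module A M] [Module Λ M] [IsScalarTower Λ A M] :
    Module.length Λ k * Module.length A M = Module.length Λ M := by
  by_cases hfin : Module.length A M = ⊤
  · have h0 : Module.length Λ k ≠ 0 := by
      rw [ne_eq, Module.length_eq_zero_iff]
      exact not_subsingleton k
    have hle : Module.length A M ≤ Module.length Λ M := by
      rw [← WithBot.coe_le_coe, Module.coe_length, Module.coe_length]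
      exact Order.krullDim_le_of_strictMono (Submodule.restrictScalars Λ)
        fun a b h => SetLike.coe_ssubset_coe.1 (SetLike.coe_ssubset_coe.2 h :)
    rw [hfin] at hle ⊢
    rw [ENat.mul_top h0, top_le_iff.1 hle]
  · have hsimple : ∀ (N : Type v) [AddCommGroup N] [Module A N] [Module Λ N] [IsScalarTower Λ A N] [IsSimpleModule A N],
        Module.length Λ N = Module.length Λ k := by
      intro N _ _ _ _ _
      obtain ⟨I, hI, ⟨e⟩⟩ := isSimpleModule_iff_quot_maximal.1 ‹IsSimpleModule A N›
      have hker : I = RingHom.ker (Algebra.ofId A k) :=
        (IsLocalRing.eq_maximalIdeal hI).trans (IsLocalRing.eq_maximalIdeal (RingHom.ker_isMaximal_of_surjective _ hres)).symm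
      rw [(e.restrictScalars Λ).length_eq]
      subst hker
      exact (((Ideal.quotientKerAlgEquivOfSurjective (f := Algebra.ofId A k) hres).toLinearEquiv).restrictScalars Λ).length_eq
    have key : ∀ (N : Type v) [AddCommGroup N] [Module A N], IsFiniteLength A N → ∀ [Module Λ N] [IsScalarTower Λ A N],
        Module.length Λ k * Module.length A N = Module.length Λ N := by
      intro N _ _ h
      induction h with
      | of_subsingleton => intro _ _; simp
      | @of_simple_quotient N _ _ P _ _ ih =>
        intro _ _
        rw [Module.length_eq_add_of_exact P.subtype P.mkQ P.injective_subtype P.mkQ_surjective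
            (LinearMap.exact_subtype_mkQ P),
          Module.length_eq_add_of_exact (P.subtype.restrictScalars Λ) (P.mkQ.restrictScalars Λ) P.injective_subtype
            P.mkQ_surjective (LinearMap.exact_subtype_mkQ P), mul_add, ih, hsimple (N ⧸ P),
          Module.length_eq_one A (N ⧸ P), mul_one]
    exact key M (Module.length_ne_top_iff.1 hfin)

end Groth.Agent.S12708
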