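import Groth.Statements.S12709
import Groth.Agent.Misc9.SF.Square
-- import your own Groth.Agent.* helpers here

set_option autoImplicit false
universe u v
open CategoryTheory
open ArtFun ArtFun.Art

namespace Groth.Agent.S12709

/-- Given a morphism f : A → B in the category of Artinian local Λ-algebras with residue field k, three
conditions coincide: (1) surjectivity of f; (2) f induces an onto map from the cotangent space of A
to the cotangent space of B, which in ideal-theoretic form says f(m_A)B + m_B² = m_B; (3) the
induced map on cotangent spaces relative to Λ is surjective, written as m_Λ B + f(m_A)B + m_B² = m_B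
with m_Λ the kernel of Λ → k. -/
theorem result {Λ : Type u} {k : Type u} [CommRing Λ] [Field k] [Algebra Λ k]
    [IsNoetherianRing Λ] [Module.Finite Λ k]
    {A B : ArtFun.Art Λ k} (f : A ⟶ B) :
    List.TFAE [Function.Surjective f,
      Ideal.map f.toAlgHom (IsLocalRing.maximalIdeal A) ⊔ IsLocalRing.maximalIdeal B ^ 2 = IsLocalRing.maximalIdeal B,
      Ideal.map (algebraMap Λ B) (RingHom.ker (algebraMap Λ k)) ⊔ Ideal.map f.toAlgHom (IsLocalRing.maximalIdeal A) ⊔
        IsLocalRing.maximalIdeal B ^ 2 = IsLocalRing.maximalIdeal B] := by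
  let R := Misc9.SF.cringOf A
  let S := Misc9.SF.cringOf B
  have hf : S.res.comp f.toAlgHom = R.res := f.res_comp
  have hΛ : Ideal.map (algebraMap Λ B) (RingHom.ker (algebraMap Λ k)) ≤
      Ideal.map f.toAlgHom (IsLocalRing.maximalIdeal A) := by
    refine Ideal.map_le_iff_le_comap.2 fun l hl => ?_
    rw [Ideal.mem_comap, ← f.toAlgHom.commutes]
    refine Ideal.mem_map_of_mem f.toAlgHom ?_
    rw [ArtFun.Art.mem_maximalIdeal_iff, AlgHom.commutes]
    exact hl
  tfae_have 1 → 2 := fun h => by
    rw [show Ideal.map f.toAlgHom (IsLocalRing.maximalIdeal A) = IsLocalRing.maximalIdeal B from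
      Misc9.SF.map_maximalIdeal_eq_of_surjective (R := R) (S := S) f.toAlgHom hf h, sup_eq_left]
    exact Ideal.pow_le_self two_ne_zero
  tfae_have 2 → 3 := fun h => by
    rw [sup_assoc, h, sup_eq_right]
    exact hΛ.trans (Misc9.SF.map_maximalIdeal_le (R := R) (S := S) f.toAlgHom hf)
  tfae_have 3 → 1 := fun h => by
    refine Misc9.SF.surjective_of_cotangent (R := R) (S := S) f.toAlgHom hf (le_trans h.ge ?_)
    exact sup_le_sup_right (sup_le hΛ le_rfl) _
  tfae_finish

end Groth.Agent.S12709
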