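import Groth.Statements.S12713
import Groth.Agent.Misc9.SF.Square
-- import your own Groth.Agent.* helpers here

set_option autoImplicit false
universe u v
open CategoryTheory
open ArtFun ArtFun.Art

namespace Groth.Agent.S12713

/-- A small extension f : B → A in the category of Artinian local Λ-algebras with residue field k is not
an essential surjection (some morphism g : C → B is non-surjective although the composite C → A is
surjective) if and only if f has a section A → B in the category. -/
theorem result {Λ : Type u} {k : Type u} [CommRing Λ] [Field k] [Algebra Λ k]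
    [IsNoetherianRing Λ] [Module.Finite Λ k]
    {A B : ArtFun.Art Λ k} (f : B ⟶ A) (hf : ArtFun.Art.IsSmallExt f) :
    (∃ (C : ArtFun.Art Λ k) (g : C ⟶ B), Function.Surjective (g ≫ f) ∧ ¬ Function.Surjective g) ↔
      ∃ s : A ⟶ B, s ≫ f = 𝟙 A := by
  obtain ⟨hfs, t, ht0, htm, ht⟩ := (Misc9.SF.isSmallExt_iff f).1 hf
  have htk : f t = 0 := (ht.ge (Ideal.mem_span_singleton_self t) : t ∈ RingHom.ker f.toAlgHom)
  constructor
  · rintro ⟨C, g, hgf, hg⟩
    have hres : ∀ e : B, ∃ c : C, B.res (e - g c) = 0 := fun e => by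
      obtain ⟨c, hc⟩ := C.res_surjective (B.res e)
      exact ⟨c, by rw [map_sub, ArtFun.Art.res_app, hc, sub_self]⟩
    have key : ∀ c, f (g c) = 0 → g c = 0 := by
      intro c hc
      have hc' : g c ∈ RingHom.ker f.toAlgHom := hc
      rw [ht] at hc'
      obtain ⟨d, hd⟩ := Ideal.mem_span_singleton'.1 hc'
      by_contra hne
      have hu : B.res d ≠ 0 := fun h0 => hne (by rw [← hd]; exact htm d ((B.mem_maximalIdeal_iff d).2 h0))
      refine hg fun b => ?_
      obtain ⟨a, ha⟩ := hgf (f b)
      have hb : b - g a ∈ RingHom.ker f.toAlgHom := by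
        change f (b - g a) = 0
        rw [map_sub, sub_eq_zero]
        exact ha.symm
      rw [ht] at hb
      obtain ⟨x, hx⟩ := Ideal.mem_span_singleton'.1 hb
      obtain ⟨s, hs⟩ := C.res_surjective (B.res x / B.res d)
      refine ⟨a + s * c, ?_⟩
      have h0 : (g s * d - x) * t = 0 := htm _ ((B.mem_maximalIdeal_iff _).2 (by
        rw [map_sub, map_mul, ArtFun.Art.res_app, hs, div_mul_cancel₀ _ hu, sub_self]))
      rw [map_add, map_mul, ← hd]
      linear_combination h0 + hx
    choose σ hσ using hgf
    have hσu : ∀ c a, f (g c) = a → g c = g (σ a) := fun c a h => sub_eq_zero.1 (by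
      rw [← map_sub]
      refine key _ ?_
      rw [map_sub, map_sub, h, sub_eq_zero]
      exact (hσ a).symm)
    have hσ' : ∀ a, f (g (σ a)) = a := hσ
    let s : A →ₐ[Λ] B :=
      { toFun := fun a => g (σ a)
        map_one' := ((hσu 1 1 (by rw [map_one, map_one])).symm.trans (map_one _))
        map_mul' := fun a b => ((hσu (σ a * σ b) (a * b) (by rw [map_mul, map_mul, hσ', hσ'])).symm.trans (map_mul _ _ _))
        map_zero' := ((hσu 0 0 (by rw [map_zero, map_zero])).symm.trans (map_zero _))
        map_add' := fun a b => ((hσu (σ a + σ b) (a + b) (by rw [map_add, map_add, hσ', hσ'])).symm.trans (map_add _ _ _))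
        commutes' := fun l => ((hσu (algebraMap Λ C l) _ (by rw [AlgHom.commutes, AlgHom.commutes])).symm.trans
          (AlgHom.commutes _ _)) }
    refine ⟨ArtFun.Art.homMk s (AlgHom.ext fun a => ?_), Misc9.SF.hom_ext' fun a => hσ' a⟩
    change B.res (g (σ a)) = A.res a
    rw [← ArtFun.Art.res_app f, hσ']
  · rintro ⟨s, hs⟩
    have hs' : ∀ a, f (s a) = a := fun a => by rw [← ArtFun.Art.comp_apply, hs]; rfl
    refine ⟨A, s, fun a => ⟨a, hs' a⟩, fun hsurj => ht0 ?_⟩
    obtain ⟨a, ha⟩ := hsurj t
    rw [← ha] at htk ⊢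
    rw [hs'] at htk
    rw [htk, map_zero]

end Groth.Agent.S12713
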