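import Groth.Statements.S12715
import Groth.Agent.Misc9.SF.Formal
-- import your own Groth.Agent.* helpers here

set_option autoImplicit false
universe u v
open CategoryTheory
open ArtFun

namespace Groth.Agent.S12715

/-- For Λ Noetherian with a finite map to the field k and S a complete local Noetherian Λ-algebra with
residue field k (through a surjective map S → k over Λ), the space of Λ-derivations S → k is
finite-dimensional over k. -/
theorem result {Λ : Type u} {k : Type u} [CommRing Λ] [Field k] [Algebra Λ k]
    [IsNoetherianRing Λ] [Module.Finite Λ k]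
    (S : Type u) [CommRing S] [Algebra Λ S] [IsLocalRing S] [IsNoetherianRing S]
    [IsAdicComplete (IsLocalRing.maximalIdeal S) S] [Algebra S k] [IsScalarTower Λ S k]
    (hres : Function.Surjective (algebraMap S k)) :
    Module.Finite k (Derivation Λ S k) := by
  obtain ⟨g, hg⟩ := (IsNoetherian.noetherian (IsLocalRing.maximalIdeal S) : (IsLocalRing.maximalIdeal S).FG)
  obtain ⟨e, he⟩ := (Module.Finite.fg_top : (⊤ : Submodule Λ k).FG)
  choose s hs using hres
  have hker : ∀ x ∈ IsLocalRing.maximalIdeal S, algebraMap S k x = 0 := by
    intro x hx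
    have : (RingHom.ker (algebraMap S k)).IsMaximal := RingHom.ker_isMaximal_of_surjective _ fun c => ⟨s c, hs c⟩
    rw [← IsLocalRing.eq_maximalIdeal this] at hx
    exact hx
  let φ : Derivation Λ S k →ₗ[k] (g → k) × (e → k) :=
    { toFun := fun D => (fun i => D i, fun i => D (s i))
      map_add' := fun _ _ => rfl
      map_smul' := fun _ _ => rfl }
  refine Module.Finite.of_injective φ fun D D' h => Derivation.ext fun x => ?_
  have h1 : ∀ i ∈ g, D i = D' i := fun i hi => congrFun (congrArg Prod.fst h) ⟨i, hi⟩
  have h2 : ∀ i ∈ e, D (s i) = D' (s i) := fun i hi => congrFun (congrArg Prod.snd h) ⟨i, hi⟩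
  have hm : ∀ y ∈ Submodule.span S (g : Set S), D y = D' y := by
    intro y hy
    induction hy using Submodule.span_induction with
    | mem y hy => exact h1 y hy
    | zero => rw [map_zero, map_zero]
    | add a b _ _ ha hb => rw [map_add, map_add, ha, hb]
    | smul a b hb hb' =>
      rw [smul_eq_mul, Derivation.leibniz, Derivation.leibniz, hb']
      rw [hg] at hb
      congr 1
      rw [Algebra.smul_def, Algebra.smul_def, hker b hb, zero_mul, zero_mul]
  have hk : ∀ c : k, D (s c) = D' (s c) := by
    intro c
    have hc : c ∈ Submodule.span Λ (e : Set k) := he ▸ Submodule.mem_top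
    induction hc using Submodule.span_induction with
    | mem y hy => exact h2 y hy
    | zero =>
      refine hm _ (hg ▸ ?_)
      exact (IsLocalRing.notMem_maximalIdeal.not_right.2 fun hu =>
        not_isUnit_zero (hs 0 ▸ hu.map (algebraMap S k)))
    | add a b _ _ ha hb =>
      have h3 : s (a + b) - (s a + s b) ∈ IsLocalRing.maximalIdeal S := by
        refine IsLocalRing.notMem_maximalIdeal.not_right.2 fun hu => not_isUnit_zero (M₀ := k) ?_
        have := hu.map (algebraMap S k)
        rwa [map_sub, map_add, hs, hs, hs, sub_self] at this
      have := hm _ (hg ▸ h3)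
      rw [map_sub, map_sub, map_add, map_add, ha, hb, sub_left_inj] at this
      exact this
    | smul l b _ hb =>
      have h3 : s (l • b) - l • s b ∈ IsLocalRing.maximalIdeal S := by
        refine IsLocalRing.notMem_maximalIdeal.not_right.2 fun hu => not_isUnit_zero (M₀ := k) ?_
        have := hu.map (IsScalarTower.toAlgHom Λ S k)
        rwa [map_sub, map_smul, IsScalarTower.toAlgHom_apply, IsScalarTower.toAlgHom_apply, hs, hs, sub_self] at this
      have := hm _ (hg ▸ h3)
      rw [map_sub, map_sub, Derivation.map_smul, Derivation.map_smul, hb, sub_left_inj] at this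
      exact this
  have h3 : x - s (algebraMap S k x) ∈ IsLocalRing.maximalIdeal S := by
    refine IsLocalRing.notMem_maximalIdeal.not_right.2 fun hu => not_isUnit_zero (M₀ := k) ?_
    have := hu.map (algebraMap S k)
    rwa [map_sub, hs, sub_self] at this
  have := hm _ (hg ▸ h3)
  rw [map_sub, map_sub, hk, sub_left_inj] at this
  exact this

end Groth.Agent.S12715
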