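import Groth.Statements.S12716
import Groth.Agent.Misc9.SF.Formal
-- import your own Groth.Agent.* helpers here

set_option autoImplicit false
universe u v
open CategoryTheory
open ArtFun

namespace Groth.Agent.S12716

/-- Let f : R → S be a morphism of complete local Noetherian Λ-algebras with residue field k (Λ
Noetherian, Λ → k finite). If the restriction map Der_Λ(S, k) → Der_Λ(R, k) is injective — two
Λ-derivations S → k that agree after composing with f are equal — then f is surjective. -/
theorem result {Λ : Type u} {k : Type u} [CommRing Λ] [Field k] [Algebra Λ k]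
    [IsNoetherianRing Λ] [Module.Finite Λ k]
    (R : ArtFun.CRing Λ k)
    (S : Type u) [CommRing S] [Algebra Λ S] [IsLocalRing S] [IsNoetherianRing S]
    [IsAdicComplete (IsLocalRing.maximalIdeal S) S] [Algebra S k] [IsScalarTower Λ S k]
    (hres : Function.Surjective (algebraMap S k))
    (f : R.carrier →ₐ[Λ] S) (hf : (IsScalarTower.toAlgHom Λ S k).comp f = R.res)
    (hinj : ∀ D₁ D₂ : Derivation Λ S k, (∀ r : R.carrier, D₁ (f r) = D₂ (f r)) → D₁ = D₂) :
    Function.Surjective f := by
  let S' : ArtFun.CRing Λ k := ⟨S, IsScalarTower.toAlgHom Λ S k, hres, inferInstance⟩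
  refine Misc9.SF.surjective_of_dual_injective (R := R) (S := S') f hf fun a b hab => ?_
  let der (a : ArtFun.HomSet S (IsScalarTower.toAlgHom Λ S k) (ArtFun.Art.dual Λ k)) : Derivation Λ S k :=
    have hfst : ∀ s, (a.1 s : DualNumber k).fst = algebraMap S k s := fun s => AlgHom.congr_fun a.2 s
    Derivation.mk' ((TrivSqZeroExt.sndHom k k).restrictScalars Λ |>.comp a.1.toLinearMap) fun s t => by
      change (a.1 (s * t) : DualNumber k).snd = s • (a.1 t : DualNumber k).snd + t • (a.1 s : DualNumber k).snd
      rw [map_mul, Algebra.smul_def, Algebra.smul_def, ← hfst s, ← hfst t]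
      change (a.1 s : DualNumber k).fst • (a.1 t : DualNumber k).snd +
        MulOpposite.op (a.1 t : DualNumber k).fst • (a.1 s : DualNumber k).snd = _
      rw [smul_eq_mul, op_smul_eq_mul, mul_comm (a.1 s : DualNumber k).snd]
  have hd : der a = der b := hinj _ _ fun r =>
    congrArg (fun x : DualNumber k => x.snd) (AlgHom.congr_fun (congrArg Subtype.val hab) r)
  refine Misc9.SF.homSet_ext fun s => TrivSqZeroExt.ext ?_ (congrArg (fun D : Derivation Λ S k => D s) hd)
  exact (AlgHom.congr_fun a.2 s).trans (AlgHom.congr_fun b.2 s).symm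

end Groth.Agent.S12716
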