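import Groth.Statements.S12717
import Groth.Agent.Misc9.SF.Limits
-- import your own Groth.Agent.* helpers here

set_option autoImplicit false
universe u v
open CategoryTheory
open ArtFun

namespace Groth.Agent.S12717

/-- For functors, a morphism η : F → G of functors on the category of Artinian local Λ-algebras with
residue field k is smooth (F(B) → F(A) ×_{G(A)} G(B) surjective for every surjection B → A) as soon
as this lifting condition holds for all small extensions B → A. -/
theorem result {Λ : Type u} {k : Type u} [CommRing Λ] [Field k] [Algebra Λ k]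
    [IsNoetherianRing Λ] [Module.Finite Λ k]
    {F G : ArtFun.Art Λ k ⥤ Type v} (η : F ⟶ G)
    (h : ∀ ⦃B A : ArtFun.Art Λ k⦄ (μ : B ⟶ A), ArtFun.Art.IsSmallExt μ →
      Function.Surjective (ArtFun.relCmp η μ)) :
    ArtFun.IsSmooth η := by
  rw [Misc9.SF.isSmooth_iff]
  refine Misc9.SF.smoothMap_of_small (Misc9.SF.isNatural_natTrans η) fun B A μ hμ x y e => ?_
  obtain ⟨x', hx'⟩ := h μ hμ ⟨(x, y), e.symm⟩
  exact ⟨x', congrArg (fun t => t.1.1) hx', congrArg (fun t => t.1.2) hx'⟩

end Groth.Agent.S12717
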