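import Groth.Statements.S12718
import Groth.Agent.Misc9.SF.PSParam
-- import your own Groth.Agent.* helpers here

set_option autoImplicit false
universe u v
open CategoryTheory
open ArtFun

namespace Groth.Agent.S12718

/-- Let R → S be a morphism of complete local Noetherian Λ-algebras with residue field k. The induced
morphism h_S → h_R of functors on Artinian local Λ-algebras with residue field k (composition with R
→ S) is smooth if and only if S is isomorphic as an R-algebra to a power series ring R[[X₁, …, Xₙ]]
for some n. Smoothness of h_S → h_R is written as versality of the corresponding family of h_R over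
S. -/
theorem result {Λ : Type u} {k : Type u} [CommRing Λ] [Field k] [Algebra Λ k]
    [IsNoetherianRing Λ] [Module.Finite Λ k]
    (R S : ArtFun.CRing Λ k) [Algebra R.carrier S.carrier] [IsScalarTower Λ R.carrier S.carrier]
    (hRS : S.res.comp (IsScalarTower.toAlgHom Λ R.carrier S.carrier) = R.res) :
    ArtFun.IsVersal ((ArtFun.Family.self R.carrier R.res).along
        (IsScalarTower.toAlgHom Λ R.carrier S.carrier) hRS) ↔
      ∃ n : ℕ, Nonempty (S.carrier ≃ₐ[R.carrier] MvPowerSeries (Fin n) R.carrier) := by
  letI : Algebra R.carrier k := R.res.toRingHom.toAlgebra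
  have hk : Function.Surjective (algebraMap R.carrier k) := R.res_surjective
  haveI : Module.Finite R.carrier k := Module.Finite.of_surjective (Algebra.linearMap R.carrier k) hk
  let S' : ArtFun.CRing R.carrier k :=
    { carrier := S.carrier
      res := { (S.res : S.carrier →+* k) with commutes' := fun r => AlgHom.congr_fun hRS r }
      res_surjective := S.res_surjective
      isAdicComplete := S.isAdicComplete }
  constructor
  · intro hv
    refine Misc9.SF.exists_psEquiv_of_smooth hk S' fun B A μ hμ φ => ?_
    let resΛ : ∀ B : ArtFun.Art R.carrier k, ArtFun.Art Λ k := fun B =>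
      letI : Algebra Λ B := ((algebraMap R.carrier B).comp (algebraMap Λ R.carrier)).toAlgebra
      { carrier := B.carrier
        algebra := inferInstance
        res := { (B.res : B.carrier →+* k) with
          commutes' := fun l => (B.res.commutes (algebraMap Λ R.carrier l)).trans (R.res.commutes l) }
        res_surjective := B.res_surjective }
    let μ' : resΛ B ⟶ resΛ A :=
      ⟨{ (μ.toAlgHom : B.carrier →+* A.carrier) with commutes' := fun l => μ.toAlgHom.commutes _ },
        AlgHom.ext fun b => ArtFun.Art.res_app μ b⟩
    let φ' : ArtFun.HomSet S.carrier S.res (resΛ A) :=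
      ⟨{ (φ.1 : S.carrier →+* A.carrier) with
          commutes' := fun l => (congrArg φ.1 (IsScalarTower.algebraMap_apply Λ R.carrier S.carrier l)).trans (φ.1.commutes _) },
        AlgHom.ext fun s => AlgHom.congr_fun φ.2 s⟩
    let y : ArtFun.HomSet R.carrier R.res (resΛ B) :=
      ⟨{ (algebraMap R.carrier B : R.carrier →+* B.carrier) with commutes' := fun _ => rfl },
        AlgHom.ext fun r => B.res.commutes r⟩
    have hy : ArtFun.HomSet.map μ' y =
        Misc9.SF.alongHom (IsScalarTower.toAlgHom Λ R.carrier S.carrier) hRS φ' :=
      Misc9.SF.homSet_ext fun r => (μ.toAlgHom.commutes r).trans (φ.1.commutes r).symm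
    obtain ⟨ψ, hψ, hψ'⟩ := hv μ' hμ φ' y hy
    refine ⟨⟨{ (ψ.1 : S.carrier →+* B.carrier) with
        commutes' := fun r => AlgHom.congr_fun (congrArg Subtype.val hψ') r },
      AlgHom.ext fun s => AlgHom.congr_fun ψ.2 s⟩, Misc9.SF.homSet_ext fun s => ?_⟩
    exact AlgHom.congr_fun (congrArg Subtype.val hψ) s
  · rintro ⟨n, ⟨e⟩⟩ B A μ hμ φ y hy
    let e' : S.carrier ≃ₐ[Λ] (Misc9.SF.psRing R n).carrier :=
      { e.toRingEquiv with
        commutes' := fun l => by
          have := e.commutes (algebraMap Λ R.carrier l)
          rw [← IsScalarTower.algebraMap_apply Λ R.carrier S.carrier] at this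
          refine this.trans ?_
          rw [MvPowerSeries.algebraMap_apply, Algebra.algebraMap_self, RingHom.id_apply]
          exact ((Misc9.SF.psC R n).commutes l) }
    have hCe : ∀ r, e' (algebraMap R.carrier S.carrier r) = Misc9.SF.psC R n r := fun r => by
      refine (e.commutes r).trans ?_
      rw [MvPowerSeries.algebraMap_apply, Algebra.algebraMap_self, RingHom.id_apply]
      rfl
    have hres := Misc9.SF.res_comp_psEquiv e' (AlgHom.ext fun r => by
      change S.res (e'.symm (Misc9.SF.psC R n r)) = R.res r
      rw [← hCe, e'.symm_apply_apply]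
      exact AlgHom.congr_fun hRS r)
    obtain ⟨ψ, hψ, hψ'⟩ := Misc9.SF.ps_lift R n μ hμ
      (Misc9.SF.alongHom (e'.symm : (Misc9.SF.psRing R n).carrier →ₐ[Λ] S.carrier) hres φ) y (hy.trans
        (Misc9.SF.homSet_ext fun r => by
          change φ.1 (algebraMap R.carrier S.carrier r) = φ.1 (e'.symm (Misc9.SF.psC R n r))
          rw [← hCe, e'.symm_apply_apply]))
    have hres' : (Misc9.SF.psRing R n).res.comp (e' : S.carrier →ₐ[Λ] (Misc9.SF.psRing R n).carrier) = S.res :=
      AlgHom.ext fun s => by
        rw [← hres]
        exact congrArg S.res (e'.symm_apply_apply s)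
    refine ⟨Misc9.SF.alongHom _ hres' ψ, Misc9.SF.homSet_ext fun s => ?_, ?_⟩
    · have := AlgHom.congr_fun (congrArg Subtype.val hψ) (e' s)
      exact this.trans (congrArg φ.1 (e'.symm_apply_apply s))
    · rw [← hψ']
      exact Misc9.SF.homSet_ext fun r => congrArg ψ.1 (hCe r)

end Groth.Agent.S12718
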