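import Groth.Statements.S12729
import Groth.Agent.Misc9.SF.Square
-- import your own Groth.Agent.* helpers here

set_option autoImplicit false
universe u v
open CategoryTheory
open ArtFun

namespace Groth.Agent.S12729

/-- For functors, let F satisfy (S1), let p : B → A be a surjection in the category of Artinian local
Λ-algebras with residue field k whose kernel I is annihilated by m_B, and let x ∈ F(A). Then the set
of ideals J ⊆ I for which x lifts to F(B/J) along B/J → A has a least element. -/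
theorem result {Λ : Type u} {k : Type u} [CommRing Λ] [Field k] [Algebra Λ k]
    [IsNoetherianRing Λ] [Module.Finite Λ k]
    {F : ArtFun.Art Λ k ⥤ Type v} (h1 : ArtFun.S1 F)
    {B A : ArtFun.Art Λ k} (p : B ⟶ A) (hp : ArtFun.Art.IsSemismallExt p) (x : F.obj A) :
    ∃ (J₀ : Ideal B) (hJ₀ : J₀ ≤ RingHom.ker p.toAlgHom) (hJ₀' : J₀ ≤ IsLocalRing.maximalIdeal B),
      (∃ y : F.obj (ArtFun.Art.quot B J₀ hJ₀'), F.map (ArtFun.Art.quotFactor hJ₀' p hJ₀) y = x) ∧
      ∀ (J : Ideal B) (hJ : J ≤ RingHom.ker p.toAlgHom) (hJ' : J ≤ IsLocalRing.maximalIdeal B),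
        (∃ y : F.obj (ArtFun.Art.quot B J hJ'), F.map (ArtFun.Art.quotFactor hJ' p hJ) y = x) → J₀ ≤ J := by
  let I := RingHom.ker p.toAlgHom
  have hIm : I ≤ IsLocalRing.maximalIdeal B := Misc9.SF.res_le_ker p
  have hkill : ∀ a ∈ IsLocalRing.maximalIdeal B, ∀ z ∈ I, a * z = 0 := fun a ha z hz => by
    rw [← Submodule.mem_bot (R := B.carrier), ← hp.2]; exact Ideal.mul_mem_mul ha hz
  let P : Ideal B → Prop := fun J => ∃ (hJ : J ≤ I) (y : F.obj (ArtFun.Art.quot B J (hJ.trans hIm))),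
    F.map (ArtFun.Art.quotFactor (hJ.trans hIm) p hJ) y = x
  have hbot : P I := by
    refine ⟨le_rfl, ?_⟩
    have hb : Function.Bijective (ArtFun.Art.quotFactor (le_rfl.trans hIm) p le_rfl) := by
      refine ⟨fun u v e => ?_, fun a => ?_⟩
      · obtain ⟨u, rfl⟩ := Ideal.Quotient.mk_surjective u
        obtain ⟨v, rfl⟩ := Ideal.Quotient.mk_surjective v
        refine Ideal.Quotient.eq.2 ?_
        change p.toAlgHom (u - v) = 0
        rw [map_sub, sub_eq_zero]
        exact e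
      · obtain ⟨b, rfl⟩ := hp.1 a
        exact ⟨Ideal.Quotient.mk I b, rfl⟩
    obtain ⟨g, -, hg⟩ := Misc9.SF.exists_inverse _ hb
    exact ⟨F.map g x, by rw [Misc9.SF.map_map, hg, Misc9.SF.map_id']⟩
  have hinf : ∀ J K, P J → P K → P (J ⊓ K) := by
    rintro J K ⟨hJ, y, hy⟩ ⟨hK, z, hz⟩
    obtain ⟨K', hK', hmax⟩ := set_has_maximal_iff_noetherian.2 (inferInstance : IsNoetherianRing B)
      {L : Ideal B | K ≤ L ∧ L ≤ I ∧ J ⊓ L = J ⊓ K} ⟨K, le_rfl, hK, rfl⟩
    obtain ⟨hKK', hK'I, hJK'⟩ := hK'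
    have hsum : I ≤ J ⊔ K' := by
      intro t ht
      by_contra htn
      have hlt : K' < K' ⊔ Ideal.span {t} := lt_of_le_of_ne le_sup_left fun e => htn (Ideal.mem_sup_right (by
        rw [e]; exact Ideal.mem_sup_right (Ideal.mem_span_singleton_self t)))
      refine hmax (K' ⊔ Ideal.span {t}) ⟨hKK'.trans le_sup_left, sup_le hK'I ((Ideal.span_singleton_le_iff_mem _).2 ht),
        le_antisymm ?_ (inf_le_inf_left _ (hKK'.trans le_sup_left))⟩ hlt
      rintro w ⟨hwJ, hw⟩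
      obtain ⟨k', hk', c', hc', rfl⟩ := Submodule.mem_sup.1 hw
      obtain ⟨c, rfl⟩ := Ideal.mem_span_singleton'.1 hc'
      by_cases hc : c ∈ IsLocalRing.maximalIdeal B
      · rw [hkill c hc t ht, add_zero] at hwJ ⊢
        exact hJK'.le ⟨hwJ, hk'⟩
      · obtain ⟨u, hu⟩ := IsLocalRing.notMem_maximalIdeal.1 hc
        refine (htn ?_).elim
        rw [show t = (↑u⁻¹ : B) * (k' + c * t) - (↑u⁻¹ : B) * k' by rw [← mul_sub, add_sub_cancel_left, ← mul_assoc, ← hu, Units.inv_mul, one_mul]]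
        exact Ideal.sub_mem _ (Ideal.mem_sup_left (Ideal.mul_mem_left _ _ hwJ)) (Ideal.mem_sup_right (Ideal.mul_mem_left _ _ hk'))
    have hM : J ⊓ K ≤ I := inf_le_left.trans hJ
    let p₁ := ArtFun.Art.quotFactor (hM.trans hIm) (ArtFun.Art.quotMk B J (hJ.trans hIm))
      (fun w hw => (Ideal.Quotient.eq_zero_iff_mem.2 hw.1 : Ideal.Quotient.mk J w = 0))
    let p₂ := ArtFun.Art.quotFactor (hM.trans hIm) (ArtFun.Art.quotMk B K' (hK'I.trans hIm))
      (fun w hw => (Ideal.Quotient.eq_zero_iff_mem.2 (hKK' hw.2) : Ideal.Quotient.mk K' w = 0))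
    let r := ArtFun.Art.quotFactor (hK.trans hIm) (ArtFun.Art.quotMk B K' (hK'I.trans hIm))
      (fun w hw => (Ideal.Quotient.eq_zero_iff_mem.2 (hKK' hw) : Ideal.Quotient.mk K' w = 0))
    have h : ArtFun.Art.IsFibreProd p₁ p₂ (ArtFun.Art.quotFactor (hJ.trans hIm) p hJ)
        (ArtFun.Art.quotFactor (hK'I.trans hIm) p hK'I) := by
      refine ⟨Misc9.SF.hom_ext' fun w => ?_, fun u v e e' => ?_, fun a b e => ?_⟩
      · obtain ⟨w, rfl⟩ := Ideal.Quotient.mk_surjective w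
        rfl
      · obtain ⟨u, rfl⟩ := Ideal.Quotient.mk_surjective u
        obtain ⟨v, rfl⟩ := Ideal.Quotient.mk_surjective v
        exact Ideal.Quotient.eq.2 (hJK'.le ⟨Ideal.Quotient.eq.1 e, Ideal.Quotient.eq.1 e'⟩)
      · obtain ⟨a, rfl⟩ := Ideal.Quotient.mk_surjective a
        obtain ⟨b, rfl⟩ := Ideal.Quotient.mk_surjective b
        have hd : b - a ∈ I := by
          change p.toAlgHom (b - a) = 0
          rw [map_sub, sub_eq_zero]
          exact e.symm
        obtain ⟨j, hj, k', hk', hjk⟩ := Submodule.mem_sup.1 (hsum hd)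
        refine ⟨Ideal.Quotient.mk _ (a + j), ?_, ?_⟩
        · change Ideal.Quotient.mk J (a + j) = Ideal.Quotient.mk J a
          rw [map_add, Ideal.Quotient.eq_zero_iff_mem.2 hj, add_zero]
        · change Ideal.Quotient.mk K' (a + j) = Ideal.Quotient.mk K' b
          refine Ideal.Quotient.eq.2 ?_
          rw [show a + j - b = -k' by linear_combination hjk]
          exact K'.neg_mem hk'
    have hsurj : Function.Surjective (ArtFun.Art.quotFactor (hK'I.trans hIm) p hK'I) := fun a => by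
      obtain ⟨b, rfl⟩ := hp.1 a
      exact ⟨Ideal.Quotient.mk K' b, rfl⟩
    obtain ⟨w, hw, -⟩ := Misc9.SF.cmp_surj (h1 p₁ p₂ _ _ h hsurj) (x := y) (y := F.map r z) (by
      rw [hy, Misc9.SF.map_map, ← hz]
      refine congrArg (fun g => F.map g z) (Misc9.SF.hom_ext' fun u => ?_)
      obtain ⟨u, rfl⟩ := Ideal.Quotient.mk_surjective u
      rfl)
    refine ⟨hM, w, ?_⟩
    rw [← hy, ← hw, Misc9.SF.map_map]
    refine congrArg (fun g => F.map g w) (Misc9.SF.hom_ext' fun u => ?_)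
    obtain ⟨u, rfl⟩ := Ideal.Quotient.mk_surjective u
    rfl
  obtain ⟨J₀, hJ₀, hmin⟩ := IsArtinian.set_has_minimal {J : Ideal B | P J} ⟨I, hbot⟩
  obtain ⟨hJ₀I, hlift⟩ := hJ₀
  refine ⟨J₀, hJ₀I, hJ₀I.trans hIm, hlift, fun J hJ hJ' hyJ => ?_⟩
  by_contra hne
  exact hmin (J₀ ⊓ J) (hinf J₀ J ⟨hJ₀I, hlift⟩ ⟨hJ, hyJ⟩) (inf_lt_left.2 hne)

end Groth.Agent.S12729
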