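import Groth.Statements.S12735
import Groth.Agent.Misc9.SF.Square
-- import your own Groth.Agent.* helpers here

set_option autoImplicit false
universe u v
open CategoryTheory
open ArtFun

namespace Groth.Agent.S12735

/-- Let U be a prorepresentable functor on Artinian local Λ-algebras with residue field k and φ : U → U
an endomorphism of functors which is bijective on the tangent space U(k[ε]). Then φ is an
isomorphism: every component is bijective. -/
theorem result {Λ : Type u} {k : Type u} [CommRing Λ] [Field k] [Algebra Λ k]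
    [IsNoetherianRing Λ] [Module.Finite Λ k]
    {U : ArtFun.Art Λ k ⥤ Type v} (hU : ArtFun.IsProrepresentable U)
    (φ : U ⟶ U) (hd : Function.Bijective (ArtFun.TangentSpace.map φ)) (A : ArtFun.Art Λ k) :
    Function.Bijective (φ.app A) := by
  obtain ⟨⟨R, ξ, hξ⟩⟩ := hU
  have hv : ArtFun.IsVersal ξ := fun B A μ _ ψ y hy => by
    obtain ⟨χ, hχ⟩ := (hξ B).2 y
    exact ⟨χ, (hξ A).1 (by rw [ξ.natural, hχ, hy]), hχ⟩
  obtain ⟨α, hα, hα'⟩ := Misc9.SF.exists_along_eq ξ hv (ξ.push φ).toFormalElt ((hξ _).2 _)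
  have e : ∀ B ψ, ξ.app B (Misc9.SF.alongHom α hα ψ) = φ.app B (ξ.app B ψ) := fun B ψ =>
    congrArg (fun F' : ArtFun.Family R.carrier R.res U => F'.app B ψ) (Misc9.SF.family_ext_formal hα')
  have hs : Function.Surjective α := Misc9.SF.surjective_of_dual_injective α hα fun a b hab => by
    refine (hξ _).1 (hd.1 ?_)
    change φ.app _ (ξ.app _ a) = φ.app _ (ξ.app _ b)
    rw [← e, ← e, hab]
  let αe := AlgEquiv.ofBijective α ⟨Misc9.SF.injective_of_surjective_endo α.toRingHom hs, hs⟩
  refine ⟨fun x y hxy => ?_, fun y => ?_⟩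
  · obtain ⟨a, rfl⟩ := (hξ A).2 x
    obtain ⟨b, rfl⟩ := (hξ A).2 y
    rw [← e, ← e] at hxy
    refine congrArg (ξ.app A) (Misc9.SF.homSet_ext fun r => ?_)
    obtain ⟨r, rfl⟩ := hs r
    exact AlgHom.congr_fun (congrArg Subtype.val ((hξ A).1 hxy)) r
  · obtain ⟨b, rfl⟩ := (hξ A).2 y
    have hsymm : R.res.comp αe.symm.toAlgHom = R.res := AlgHom.ext fun r => by
      change R.res (αe.symm r) = R.res r
      rw [← ArtFun.CRing.res_comp_apply α hα]
      exact congrArg R.res (αe.apply_symm_apply r)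
    refine ⟨ξ.app A (Misc9.SF.alongHom αe.symm.toAlgHom hsymm b), ?_⟩
    rw [← e]
    exact congrArg (ξ.app A) (Misc9.SF.homSet_ext fun r => congrArg b.1 (αe.symm_apply_apply r))

end Groth.Agent.S12735
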