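import Groth.Statements.S12736
import Groth.Agent.Misc9.SF.Limits
-- import your own Groth.Agent.* helpers here

set_option autoImplicit false
universe u v
open CategoryTheory
open ArtFun

namespace Groth.Agent.S12736

/-- For functors, let φ : F → G be a morphism of functors on Artinian local Λ-algebras with residue
field k whose values at k are points and which satisfy (S2), with the natural vector space
structures on their tangent spaces. Then the differential dφ : F(k[ε]) → G(k[ε]) is k-linear. -/
theorem result {Λ : Type u} {k : Type u} [CommRing Λ] [Field k] [Algebra Λ k]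
    [IsNoetherianRing Λ] [Module.Finite Λ k]
    {F G : ArtFun.Art Λ k ⥤ Type v} [ArtFun.TangentStr F] [ArtFun.TangentStr G]
    (hF0 : ArtFun.H0 F) (hF2 : ArtFun.Heps F) (hG0 : ArtFun.H0 G) (hG2 : ArtFun.Heps G) (φ : F ⟶ G) :
    ∃ f : ArtFun.TangentSpace F →ₗ[k] ArtFun.TangentSpace G, ⇑f = ArtFun.TangentSpace.map φ := by
  refine ⟨{ toFun := ArtFun.TangentSpace.map φ, map_add' := fun x y => ?_, map_smul' := fun c x => ?_ }, rfl⟩
  · obtain ⟨z, rfl, rfl⟩ := Misc9.SF.exists_pair hF2 hF0.2 x y
    have h1 := ArtFun.TangentStr.add_eq (F := F) z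
    have h2 := ArtFun.TangentStr.add_eq (F := G) (φ.app _ z)
    change φ.app _ (ArtFun.TangentSpace.mk (F.map ArtFun.Art.pr₁ z) + ArtFun.TangentSpace.mk (F.map ArtFun.Art.pr₂ z)) = _
    erw [h1]
    rw [NatTrans.naturality_apply, ← h2]
    simp only [← NatTrans.naturality_apply]
    rfl
  · have h1 := ArtFun.TangentStr.smul_eq (F := F) c x
    have h2 := ArtFun.TangentStr.smul_eq (F := G) c (φ.app _ x)
    change φ.app _ (c • x : ArtFun.TangentSpace F) = _
    erw [h1]
    rw [NatTrans.naturality_apply]
    exact h2.symm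

end Groth.Agent.S12736
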