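import Groth.Statements.S12739
import Groth.Agent.Misc9.SF.Limit
-- import your own Groth.Agent.* helpers here

set_option autoImplicit false
universe u v
open CategoryTheory
open ArtFun

namespace Groth.Agent.S12739

/-- Let … → A₃ → A₂ → A₁ be surjective morphisms of Artinian local Λ-algebras with residue field k (Λ
Noetherian, Λ → k finite) with dim_k m_{A_n}/m_{A_n}² bounded. Then lim A_n is a complete local
Noetherian Λ-algebra with residue field k: some such S carries compatible surjective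
augmentation-preserving maps S → A_n identifying S with the set of compatible sequences, and the
kernels of S → A_n define the m_S-adic topology on S. -/
theorem result {Λ : Type u} {k : Type u} [CommRing Λ] [Field k] [Algebra Λ k]
    [IsNoetherianRing Λ] [Module.Finite Λ k]
    (A : ℕ → ArtFun.Art Λ k) (f : ∀ n, A (n + 1) ⟶ A n) (hf : ∀ n, Function.Surjective (f n))
    (d : ℕ) (hd : ∀ n, Module.finrank (IsLocalRing.ResidueField (A n)) (IsLocalRing.CotangentSpace (A n)) ≤ d) :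
    ∃ (S : ArtFun.CRing Λ k) (π : ∀ n, ArtFun.HomSet S.carrier S.res (A n)),
      (∀ n, ArtFun.HomSet.map (f n) (π (n + 1)) = π n) ∧
      (∀ n, Function.Surjective (π n).1) ∧
      (∀ a : ∀ n, A n, (∀ n, f n (a (n + 1)) = a n) → ∃! s : S.carrier, ∀ n, (π n).1 s = a n) ∧
      (∀ n, ∃ N, RingHom.ker (π N).1 ≤ IsLocalRing.maximalIdeal S.carrier ^ n) ∧
      (∀ n, ∃ N, IsLocalRing.maximalIdeal S.carrier ^ N ≤ RingHom.ker (π n).1) := by
  let D := fun n => Module.finrank (IsLocalRing.ResidueField (A n)) (IsLocalRing.CotangentSpace (A n))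
  have hmono : Monotone D := monotone_nat_of_le_succ fun n => (Misc9.SF.exists_lift_gens (f n) (hf n)).1
  obtain ⟨n₀, hn₀⟩ : ∃ n₀, ∀ n, D n ≤ D n₀ := by
    have hex : ∃ m, ∀ n, D n ≤ m := ⟨d, hd⟩
    classical
    by_contra hne
    have hne : ∀ n₀, ∃ n, D n₀ < D n := fun n₀ => by
      by_contra h
      exact hne ⟨n₀, fun n => not_lt.1 fun hn => h ⟨n, hn⟩⟩
    have hbig : ∀ j, ∃ n, j ≤ D n := fun j => by
      induction j with
      | zero => exact ⟨0, Nat.zero_le _⟩
      | succ j ih =>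
        obtain ⟨n, hn⟩ := ih
        obtain ⟨n', hn'⟩ := hne n
        exact ⟨n', Nat.succ_le_of_lt (hn.trans_lt hn')⟩
    obtain ⟨n, hn⟩ := hbig (d + 1)
    have hdn : D n ≤ d := hd n
    omega
  obtain ⟨P, π, hπ, hπs⟩ := Misc9.SF.exists_system n₀ A f hf fun n hn =>
    le_antisymm ((hn₀ (n + 1)).trans (hmono hn)) (hmono (Nat.le_succ n))
  let J : ℕ → Ideal P.carrier := fun n => RingHom.ker (π n).1
  have hJ : Antitone J := antitone_nat_of_succ_le fun n a ha => by
    rw [RingHom.mem_ker, ← hπ n]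
    change f n ((π (n + 1)).1 a) = 0
    rw [show (π (n + 1)).1 a = 0 from ha]
    exact map_zero (f n).toAlgHom
  have hJm : ∀ n, J n ≤ IsLocalRing.maximalIdeal P.carrier := fun n a ha => by
    rw [ArtFun.CRing.mem_maximalIdeal_iff, ← (π n).2, AlgHom.comp_apply, show (π n).1 a = 0 from ha, map_zero]
  have hpow : ∀ n, ∃ N, ArtFun.CRing.mpow P N ≤ J n := fun n => by
    obtain ⟨N, hN⟩ := Misc9.SF.exists_factor P (π n)
    obtain ⟨g, hg⟩ := hN N le_rfl
    refine ⟨N, fun a ha => ?_⟩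
    rw [RingHom.mem_ker, ← hg]
    change g (Ideal.Quotient.mk _ a) = 0
    rw [Ideal.Quotient.eq_zero_iff_mem.2 ha]
    exact map_zero g.toAlgHom
  let I : Ideal P.carrier := ⨅ n, J n
  have hI : I ≤ IsLocalRing.maximalIdeal P.carrier := (iInf_le _ 0).trans (hJm 0)
  let S := Misc9.SF.quotRing P I hI
  let q := Misc9.SF.quotRingHom P I hI
  let ρ : ∀ n, ArtFun.HomSet S.carrier S.res (A n) := fun n =>
    Misc9.SF.quotRingLift P hI (π n) fun a ha => iInf_le J n ha
  have hρq : ∀ n a, (ρ n).1 (q a) = (π n).1 a := fun n a => rfl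
  have hmS : (IsLocalRing.maximalIdeal P.carrier).map q = IsLocalRing.maximalIdeal S.carrier :=
    Misc9.SF.map_maximalIdeal_eq_of_surjective q (Misc9.SF.quotRingHom_res P I hI) Ideal.Quotient.mk_surjective
  have hcompat : ∀ n, ArtFun.HomSet.map (f n) (ρ (n + 1)) = ρ n := fun n => Misc9.SF.homSet_ext fun s => by
    obtain ⟨a, rfl⟩ := Ideal.Quotient.mk_surjective s
    exact AlgHom.congr_fun (congrArg Subtype.val (hπ n)) a
  have hpowS : ∀ n, ∃ N, IsLocalRing.maximalIdeal S.carrier ^ N ≤ RingHom.ker (ρ n).1 := fun n => by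
    obtain ⟨N, hN⟩ := hpow n
    refine ⟨N + 1, ?_⟩
    rw [← hmS, ← Ideal.map_pow, Ideal.map_le_iff_le_comap]
    exact fun a ha => hN ha
  have hkerS : ∀ n, ∃ N, RingHom.ker (ρ N).1 ≤ IsLocalRing.maximalIdeal S.carrier ^ n := fun n => by
    obtain ⟨Q, hQ⟩ := Misc9.SF.chevalley P J hJ hpow n
    refine ⟨Q, fun s hs => ?_⟩
    obtain ⟨a, rfl⟩ := Ideal.Quotient.mk_surjective s
    obtain ⟨i, hi, b, hb, rfl⟩ := Submodule.mem_sup.1 (hQ (show a ∈ J Q from hs))
    change q (i + b) ∈ _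
    rw [map_add, show q i = 0 from Ideal.Quotient.eq_zero_iff_mem.2 hi, zero_add, ← hmS, ← Ideal.map_pow]
    exact Ideal.mem_map_of_mem q (Ideal.pow_le_pow_right (Nat.le_succ n) hb)
  refine ⟨S, ρ, hcompat, fun n x => ?_, fun a ha => ?_, hkerS, hpowS⟩
  · obtain ⟨p, rfl⟩ := hπs n x
    exact ⟨q p, rfl⟩
  have hinj : ∀ s : S.carrier, (∀ n, (ρ n).1 s = 0) → s = 0 := fun s hs => by
    obtain ⟨p, rfl⟩ := Ideal.Quotient.mk_surjective s
    exact Ideal.Quotient.eq_zero_iff_mem.2 (Submodule.mem_iInf _ |>.2 fun n => hs n)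
  choose p hp using fun n => hπs n (a n)
  have hdown : ∀ n m, n ≤ m → (π n).1 (p m) = a n := by
    intro n m h
    induction h using Nat.decreasingInduction with
    | self => exact hp m
    | of_succ j _ ih =>
      rw [← hπ j]
      change f j ((π (j + 1)).1 (p m)) = a j
      rw [ih, ha]
  choose Q hQ using hkerS
  let Q' : ℕ → ℕ := fun j => j + (Finset.range (j + 1)).sup Q
  have hQle : ∀ i j, i ≤ j → Q i ≤ Q' j := fun i j h =>
    (Finset.le_sup (f := Q) (Finset.mem_range.2 (Nat.lt_succ_of_le h))).trans (Nat.le_add_left _ _)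
  let z : ℕ → S.carrier := fun j => q (p (Q' j))
  have hz : ∀ {i j : ℕ}, i ≤ j → z i ≡ z j [SMOD (IsLocalRing.maximalIdeal S.carrier ^ i • ⊤ : Submodule S.carrier S.carrier)] := by
    intro i j h
    rw [SModEq.sub_mem, smul_eq_mul, Ideal.mul_top]
    refine hQ i ?_
    rw [RingHom.mem_ker, map_sub, hρq, hρq, hdown _ _ (hQle i i le_rfl), hdown _ _ (hQle i j h), sub_self]
  obtain ⟨L, hL⟩ := IsPrecomplete.prec' (I := IsLocalRing.maximalIdeal S.carrier) z hz
  have hLn : ∀ n, (ρ n).1 L = a n := fun n => by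
    obtain ⟨N, hN⟩ := hpowS n
    have h1 := hL (max N n)
    rw [SModEq.sub_mem, smul_eq_mul, Ideal.mul_top] at h1
    have h2 : z (max N n) - L ∈ RingHom.ker (ρ n).1 := hN (Ideal.pow_le_pow_right (le_max_left N n) h1)
    rw [RingHom.mem_ker, map_sub, sub_eq_zero, hρq, hdown n _ ((le_max_right N n).trans (Nat.le_add_right _ _))] at h2
    exact h2.symm
  exact ⟨L, hLn, fun s hs => sub_eq_zero.1 (hinj _ fun n => by rw [map_sub, hs, hLn, sub_self])⟩

end Groth.Agent.S12739
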