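import Groth.Statements.S12746
import Groth.Agent.Misc9.SF.Torsor
import Groth.Agent.Misc9.SF.Limits
-- import your own Groth.Agent.* helpers here

set_option autoImplicit false
universe u v
open CategoryTheory
open ArtFun

namespace Groth.Agent.S12746

/-- For functors, if F, G, H are functors on Artinian local Λ-algebras with residue field k satisfying
(RS) and f : H → F, g : G → F are morphisms, then the fibre product functor H ×_F G satisfies (RS). -/
theorem result {Λ : Type u} {k : Type u} [CommRing Λ] [Field k] [Algebra Λ k]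
    [IsNoetherianRing Λ] [Module.Finite Λ k]
    {F G H : ArtFun.Art Λ k ⥤ Type v} (f : H ⟶ F) (g : G ⟶ F)
    (hF : (∀ ⦃B A A' A'' : ArtFun.Art Λ k⦄ (p' : B ⟶ A') (p'' : B ⟶ A'') (f' : A' ⟶ A) (f'' : A'' ⟶ A)
        (h : ArtFun.Art.IsFibreProd p' p'' f' f''), Function.Surjective f'' → Function.Bijective (ArtFun.cmp F h))) (hG : (∀ ⦃B A A' A'' : ArtFun.Art Λ k⦄ (p' : B ⟶ A') (p'' : B ⟶ A'') (f' : A' ⟶ A) (f'' : A'' ⟶ A)
        (h : ArtFun.Art.IsFibreProd p' p'' f' f''), Function.Surjective f'' → Function.Bijective (ArtFun.cmp G h))) (hH : (∀ ⦃B A A' A'' : ArtFun.Art Λ k⦄ (p' : B ⟶ A') (p'' : B ⟶ A'') (f' : A' ⟶ A) (f'' : A'' ⟶ A)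
        (h : ArtFun.Art.IsFibreProd p' p'' f' f''), Function.Surjective f'' → Function.Bijective (ArtFun.cmp H h))) :
    (∀ ⦃B A A' A'' : ArtFun.Art Λ k⦄ (p' : B ⟶ A') (p'' : B ⟶ A'') (f' : A' ⟶ A) (f'' : A'' ⟶ A)
        (h : ArtFun.Art.IsFibreProd p' p'' f' f''), Function.Surjective f'' → Function.Bijective (ArtFun.cmp (CategoryTheory.Limits.pullback f g) h)) := by
  intro B A A' A'' p' p'' f' f'' h hs
  refine ⟨Misc9.SF.cmp_injective_of fun z z' e e' => Misc9.SF.pullback_ext' f g B ?_ ?_,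
    Misc9.SF.cmp_surjective_of fun x y e => ?_⟩
  · refine Misc9.SF.cmp_inj (hH p' p'' f' f'' h hs).1 ?_ ?_
    · rw [← NatTrans.naturality_apply, ← NatTrans.naturality_apply, e]
    · rw [← NatTrans.naturality_apply, ← NatTrans.naturality_apply, e']
  · refine Misc9.SF.cmp_inj (hG p' p'' f' f'' h hs).1 ?_ ?_
    · rw [← NatTrans.naturality_apply, ← NatTrans.naturality_apply, e]
    · rw [← NatTrans.naturality_apply, ← NatTrans.naturality_apply, e']
  · obtain ⟨a, ha, ha'⟩ := Misc9.SF.cmp_surj (hH p' p'' f' f'' h hs).2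
      (x := (CategoryTheory.Limits.pullback.fst f g).app A' x) (y := (CategoryTheory.Limits.pullback.fst f g).app A'' y)
      (by rw [← NatTrans.naturality_apply, ← NatTrans.naturality_apply, e])
    obtain ⟨b, hb, hb'⟩ := Misc9.SF.cmp_surj (hG p' p'' f' f'' h hs).2
      (x := (CategoryTheory.Limits.pullback.snd f g).app A' x) (y := (CategoryTheory.Limits.pullback.snd f g).app A'' y)
      (by rw [← NatTrans.naturality_apply, ← NatTrans.naturality_apply, e])
    have hab : f.app B a = g.app B b := by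
      refine Misc9.SF.cmp_inj (hF p' p'' f' f'' h hs).1 ?_ ?_
      · rw [← NatTrans.naturality_apply, ← NatTrans.naturality_apply, ha, hb, Misc9.SF.pullback_condition_app]
      · rw [← NatTrans.naturality_apply, ← NatTrans.naturality_apply, ha', hb', Misc9.SF.pullback_condition_app]
    obtain ⟨z, hz, hz'⟩ := Misc9.SF.pullback_exists f g B a b hab
    refine ⟨z, Misc9.SF.pullback_ext' f g A' ?_ ?_, Misc9.SF.pullback_ext' f g A'' ?_ ?_⟩
    · rw [NatTrans.naturality_apply, hz, ha]
    · rw [NatTrans.naturality_apply, hz', hb]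
    · rw [NatTrans.naturality_apply, hz, ha']
    · rw [NatTrans.naturality_apply, hz', hb']

end Groth.Agent.S12746
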