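import Groth.Statements.S12747
import Groth.Agent.Misc9.SF.Torsor
import Groth.Agent.Misc9.SF.Limits
-- import your own Groth.Agent.* helpers here

set_option autoImplicit false
universe u v
open CategoryTheory
open ArtFun

namespace Groth.Agent.S12747

/-- For functors, let H₁ → G, H₂ → G and q : G → F be morphisms of functors on Artinian local Λ-algebras
with residue field k where F and G are deformation functors (value at k a point, condition (RS)) and
q is injective on tangent spaces. Then the induced morphism H₁ ×_G H₂ → H₁ ×_F H₂ is smooth. (The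
published statement also assumes that infinitesimal automorphisms of G map onto those of F; for
functors that condition is empty.) -/
theorem result {Λ : Type u} {k : Type u} [CommRing Λ] [Field k] [Algebra Λ k]
    [IsNoetherianRing Λ] [Module.Finite Λ k]
    {F G H₁ H₂ : ArtFun.Art Λ k ⥤ Type v} (p₁ : H₁ ⟶ G) (p₂ : H₂ ⟶ G) (q : G ⟶ F)
    (hF0 : ArtFun.H0 F) (hF : (∀ ⦃B A A' A'' : ArtFun.Art Λ k⦄ (p' : B ⟶ A') (p'' : B ⟶ A'') (f' : A' ⟶ A) (f'' : A'' ⟶ A)
        (h : ArtFun.Art.IsFibreProd p' p'' f' f''), Function.Surjective f'' → Function.Bijective (ArtFun.cmp F h)))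
    (hG0 : ArtFun.H0 G) (hG : (∀ ⦃B A A' A'' : ArtFun.Art Λ k⦄ (p' : B ⟶ A') (p'' : B ⟶ A'') (f' : A' ⟶ A) (f'' : A'' ⟶ A)
        (h : ArtFun.Art.IsFibreProd p' p'' f' f''), Function.Surjective f'' → Function.Bijective (ArtFun.cmp G h)))
    (hq : Function.Injective (ArtFun.TangentSpace.map q)) :
    ArtFun.IsSmooth (CategoryTheory.Limits.pullback.map p₁ p₂ (p₁ ≫ q) (p₂ ≫ q) (𝟙 H₁) (𝟙 H₂) q
      (CategoryTheory.Category.id_comp _).symm (CategoryTheory.Category.id_comp _).symm) := by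
  let τ := CategoryTheory.Limits.pullback.map p₁ p₂ (p₁ ≫ q) (p₂ ≫ q) (𝟙 H₁) (𝟙 H₂) q
      (CategoryTheory.Category.id_comp _).symm (CategoryTheory.Category.id_comp _).symm
  have hfst : ∀ A z, (CategoryTheory.Limits.pullback.fst (p₁ ≫ q) (p₂ ≫ q)).app A (τ.app A z) =
      (CategoryTheory.Limits.pullback.fst p₁ p₂).app A z := fun A z => by
    have h : τ ≫ CategoryTheory.Limits.pullback.fst (p₁ ≫ q) (p₂ ≫ q) = CategoryTheory.Limits.pullback.fst p₁ p₂ := by
      simp only [τ, CategoryTheory.Limits.pullback.map, CategoryTheory.Limits.pullback.lift_fst, Category.comp_id]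
    exact congrArg (fun t => t.app A z) h
  have hsnd : ∀ A z, (CategoryTheory.Limits.pullback.snd (p₁ ≫ q) (p₂ ≫ q)).app A (τ.app A z) =
      (CategoryTheory.Limits.pullback.snd p₁ p₂).app A z := fun A z => by
    have h : τ ≫ CategoryTheory.Limits.pullback.snd (p₁ ≫ q) (p₂ ≫ q) = CategoryTheory.Limits.pullback.snd p₁ p₂ := by
      simp only [τ, CategoryTheory.Limits.pullback.map, CategoryTheory.Limits.pullback.lift_snd, Category.comp_id]
    exact congrArg (fun t => t.app A z) h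
  change ArtFun.IsSmooth τ
  rw [Misc9.SF.isSmooth_iff]
  refine Misc9.SF.smoothMap_of_small (Misc9.SF.isNatural_natTrans τ) fun B A μ hμ x y e => ?_
  have e1 := congrArg ((CategoryTheory.Limits.pullback.fst (p₁ ≫ q) (p₂ ≫ q)).app A) e
  have e2 := congrArg ((CategoryTheory.Limits.pullback.snd (p₁ ≫ q) (p₂ ≫ q)).app A) e
  rw [NatTrans.naturality_apply, hfst] at e1
  rw [NatTrans.naturality_apply, hsnd] at e2
  obtain ⟨T⟩ := Misc9.SF.nonempty_tor μ hμ
  let a := (CategoryTheory.Limits.pullback.fst (p₁ ≫ q) (p₂ ≫ q)).app B y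
  let b := (CategoryTheory.Limits.pullback.snd (p₁ ≫ q) (p₂ ≫ q)).app B y
  have hq' : q.app B (p₁.app B a) = q.app B (p₂.app B b) := Misc9.SF.pullback_condition_app (p₁ ≫ q) (p₂ ≫ q) B y
  obtain ⟨θ, hθ⟩ := T.transitive (Misc9.SF.RS.hbar hG) hμ (y := p₁.app B a) (y' := p₂.app B b)
    (by rw [← NatTrans.naturality_apply p₁, e1, ← NatTrans.naturality_apply p₂, e2, Misc9.SF.pullback_condition_app])
  obtain ⟨g₀⟩ := hG0.1
  have hθ0 : q.app _ θ = q.app _ (G.map ArtFun.Art.baseToDual g₀) := by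
    refine T.free (Misc9.SF.RS.hsq hF) hμ (T.rel_map (Misc9.SF.isNatural_natTrans q) hθ) ?_
    rw [hq', NatTrans.naturality_apply]
    exact T.rel_zero hF0.2 _ _
  rw [hq hθ0] at hθ
  obtain ⟨z, hz, hz'⟩ := Misc9.SF.pullback_exists p₁ p₂ B a b
    (T.rel_unique (Misc9.SF.RS.heps hG) (T.rel_zero hG0.2 g₀ _) hθ)
  refine ⟨z, Misc9.SF.pullback_ext' p₁ p₂ A ?_ ?_, Misc9.SF.pullback_ext' (p₁ ≫ q) (p₂ ≫ q) B ?_ ?_⟩
  · rw [NatTrans.naturality_apply, hz, e1]
  · rw [NatTrans.naturality_apply, hz', e2]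
  · rw [hfst, hz]
  · rw [hsnd, hz']

end Groth.Agent.S12747
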