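import Groth.Statements.S12748
import Groth.Agent.Misc9.SF.PSParam
-- import your own Groth.Agent.* helpers here

set_option autoImplicit false
universe u v
open CategoryTheory
open ArtFun ArtFun.CRing

namespace Groth.Agent.S12748

/-- Let R' → R be a morphism of complete local Noetherian Λ-algebras with residue field k with an
R'-algebra retraction ρ : R → R', so that R = R' ⊕ I for the ideal I = ker ρ; let x₁, …, x_r ∈ I map
to a basis of I/m_R I and let φ : R'[[X₁, …, X_r]] → R be an R'-algebra map sending X_i to x_i. If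
for all large n the induced map R'[[X]]/m^n → R/m_R^n has a left inverse — a Λ-algebra map g_n : R →
R'[[X]]/m^n with g_n ∘ φ equal to the quotient map — then φ is an isomorphism. -/
theorem result {Λ : Type u} {k : Type u} [CommRing Λ] [Field k] [Algebra Λ k]
    [IsNoetherianRing Λ] [Module.Finite Λ k]
    (R' R : ArtFun.CRing Λ k) [Algebra R'.carrier R.carrier] [IsScalarTower Λ R'.carrier R.carrier]
    (hc : R.res.comp (IsScalarTower.toAlgHom Λ R'.carrier R.carrier) = R'.res)
    (ρ : R.carrier →ₐ[R'.carrier] R'.carrier)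
    (r : ℕ) (x : Fin r → R.carrier) (hxI : ∀ i, ρ (x i) = 0)
    (hspan : Ideal.span (Set.range x) ⊔ IsLocalRing.maximalIdeal R.carrier * RingHom.ker ρ = RingHom.ker ρ)
    (hli : ∀ c : Fin r → R.carrier, (∑ i, c i * x i) ∈ IsLocalRing.maximalIdeal R.carrier * RingHom.ker ρ →
      ∀ i, c i ∈ IsLocalRing.maximalIdeal R.carrier)
    (φ : MvPowerSeries (Fin r) R'.carrier →ₐ[R'.carrier] R.carrier) (hφ : ∀ i, φ (MvPowerSeries.X i) = x i)
    (hinv : ∃ N : ℕ, ∀ n, N ≤ n →
      ∃ g : R.carrier →ₐ[Λ] (MvPowerSeries (Fin r) R'.carrier ⧸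
          IsLocalRing.maximalIdeal (MvPowerSeries (Fin r) R'.carrier) ^ n),
        ∀ s, g (φ s) = Ideal.Quotient.mk _ s) :
    Function.Bijective φ := by
  obtain ⟨N, hN⟩ := hinv
  refine ⟨?_, ?_⟩
  · intro a b hab
    refine IsHausdorff.eq_iff_smodEq (I := IsLocalRing.maximalIdeal (MvPowerSeries (Fin r) R'.carrier)) |>.2 fun n => ?_
    rw [SModEq.sub_mem, smul_eq_mul, Ideal.mul_top]
    obtain ⟨g, hg⟩ := hN (max N n) (le_max_left _ _)
    refine Ideal.pow_le_pow_right (le_max_right N n) (Ideal.Quotient.eq.1 ?_)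
    rw [← hg a, ← hg b, hab]
  · let φ₀ : (Misc9.SF.psRing R' r).carrier →ₐ[Λ] R.carrier :=
      { (φ : MvPowerSeries (Fin r) R'.carrier →+* R.carrier) with
        commutes' := fun l => by
          change φ (algebraMap Λ (MvPowerSeries (Fin r) R'.carrier) l) = _
          rw [MvPowerSeries.algebraMap_apply, IsScalarTower.algebraMap_apply Λ R'.carrier R.carrier, ← φ.commutes,
            MvPowerSeries.algebraMap_apply (R := R'.carrier), Algebra.algebraMap_self, RingHom.id_apply] }
    have hC : ∀ a, φ₀ (Misc9.SF.psC R' r a) = algebraMap R'.carrier R.carrier a := fun a => by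
      rw [← φ.commutes, MvPowerSeries.algebraMap_apply, Algebra.algebraMap_self, RingHom.id_apply]
      rfl
    have hres : R.res.comp φ₀ = (Misc9.SF.psRing R' r).res := by
      have hcomp : (R.res.comp φ₀).comp (Misc9.SF.psC R' r) = R'.res := AlgHom.ext fun a => by
        change R.res (φ₀ (Misc9.SF.psC R' r a)) = _
        rw [hC]
        exact AlgHom.congr_fun hc a
      refine Misc9.SF.res_unique _ ?_ (Misc9.SF.psC R' r) (by rw [Misc9.SF.psC_res]; exact R'.res_surjective) ?_
      · intro c
        obtain ⟨a, rfl⟩ := R'.res_surjective c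
        exact ⟨_, AlgHom.congr_fun hcomp a⟩
      · rw [hcomp, Misc9.SF.psC_res]
    have hkerm : RingHom.ker ρ ≤ IsLocalRing.maximalIdeal R.carrier := by
      intro y hy
      rw [IsLocalRing.mem_maximalIdeal]
      intro hu
      have := hu.map ρ
      rw [show ρ y = 0 from hy] at this
      exact not_isUnit_zero this
    have hspan' : RingHom.ker ρ ≤ Ideal.span (Set.range x) := by
      refine Submodule.le_of_le_smul_of_le_jacobson_bot (I := IsLocalRing.maximalIdeal R.carrier)
        (IsNoetherian.noetherian _) (by rw [IsLocalRing.jacobson_eq_maximalIdeal ⊥ bot_ne_top]) ?_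
      rw [Ideal.smul_eq_mul]
      exact hspan.ge
    refine Misc9.SF.surjective_of_cotangent φ₀ hres fun y hy => Ideal.mem_sup_left ?_
    have h1 : Ideal.span (Set.range x) ≤ (IsLocalRing.maximalIdeal (Misc9.SF.psRing R' r).carrier).map φ₀ := by
      rw [Ideal.span_le]
      rintro _ ⟨i, rfl⟩
      rw [← hφ i]
      exact Ideal.mem_map_of_mem φ₀ ((ArtFun.CRing.mem_maximalIdeal_iff _ _).2 (Misc9.SF.psX_res R' r i))
    let c := algebraMap R'.carrier R.carrier (ρ y)
    have h2 : y - c ∈ RingHom.ker ρ := by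
      rw [RingHom.mem_ker, map_sub, AlgHom.commutes, Algebra.algebraMap_self, RingHom.id_apply, sub_self]
    have h3 : R'.res (ρ y) = 0 := by
      have hy' := (ArtFun.CRing.mem_maximalIdeal_iff R y).1 hy
      have := (ArtFun.CRing.mem_maximalIdeal_iff R (y - c)).1 (hkerm h2)
      rw [map_sub, hy', zero_sub, neg_eq_zero] at this
      rw [← hc]
      exact this
    rw [show y = (y - c) + φ₀ (Misc9.SF.psC R' r (ρ y)) by rw [hC, sub_add_cancel]]
    refine add_mem (h1 (hspan' h2)) (Ideal.mem_map_of_mem φ₀ ((ArtFun.CRing.mem_maximalIdeal_iff _ _).2 ?_))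
    exact (AlgHom.congr_fun (Misc9.SF.psC_res R' r) (ρ y)).trans h3

end Groth.Agent.S12748
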