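import Groth.Statements.S12749
import Groth.Agent.Misc9.SF.Span
-- import your own Groth.Agent.* helpers here

set_option autoImplicit false
universe u v
open CategoryTheory
open ArtFun

namespace Groth.Agent.S12749

/-- For functors, suppose k admits no nonzero Λ-derivation into itself (that is, k is separable over the
image of Λ in k). Let F be a functor on Artinian local Λ-algebras with residue field k with F(k) a
point which satisfies (S2), and let ξ be a minimal versal family of F over a complete local
Noetherian R with residue field k: ξ is versal, and every morphism of such coefficient rings R' → R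
along which some formal element of F over R' pushes forward to the formal element of ξ is
surjective. Then ξ is a hull of F: it is moreover bijective on tangent spaces. (The published
statement, for arbitrary k, concludes that the tangent map of the minimal versal family is bijective
on orbits under the Λ-derivations of k; when k has no nonzero Λ-derivation into itself the orbits
are points and this is plain bijectivity, which is the case stated here.) -/
theorem result {Λ : Type u} {k : Type u} [CommRing Λ] [Field k] [Algebra Λ k]
    [IsNoetherianRing Λ] [Module.Finite Λ k]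
    (hk : Subsingleton (Derivation Λ k k))
    {F : ArtFun.Art Λ k ⥤ Type v} (h0 : ArtFun.H0 F) (h2 : ArtFun.Heps F)
    {R : ArtFun.CRing Λ k} (ξ : ArtFun.Family R.carrier R.res F) (hξ : ξ.IsMinimalVersal) :
    ArtFun.IsMiniversal ξ := by
  obtain ⟨T⟩ := Misc9.SF.nonempty_tangentStr F h0 h2
  letI := T
  haveI := Misc9.SF.base_dual_subsingleton_of_derivation hk
  have h3 := Misc9.SF.hfin_of_tangent_surjective R (Misc9.SF.app_surjective_of_versal h0.2 hξ.1 _)
  obtain ⟨P, η, hv, hs, hi⟩ := Misc9.SF.exists_versal F h0 (Misc9.SF.s1_of_versal h0.2 hξ.1) h2 h3
  have hη : ArtFun.IsMiniversal η := ⟨hv, hi fun _ σ τ _ => Subsingleton.elim σ τ, hs⟩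
  obtain ⟨g, hg, hg'⟩ := Misc9.SF.exists_along_eq η hv ξ.toFormalElt (Misc9.SF.exists_start h0 η _)
  have e := Misc9.SF.family_ext_formal hg'
  have hgs : Function.Surjective g := hξ.2 P η.toFormalElt g hg ((Misc9.SF.toFormalElt_push η g hg).trans hg')
  refine ⟨hξ.1, fun a b hab => ?_, Misc9.SF.app_surjective_of_versal h0.2 hξ.1 _⟩
  rw [← e, Misc9.SF.along_app, Misc9.SF.along_app] at hab
  have h := hη.2.1 hab
  refine Misc9.SF.homSet_ext fun r => ?_
  obtain ⟨r, rfl⟩ := hgs r
  exact AlgHom.congr_fun (congrArg Subtype.val h) r

end Groth.Agent.S12749
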