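import Groth.Statements.S12756
import Groth.Agent.Misc9.SF.Limits
-- import your own Groth.Agent.* helpers here

set_option autoImplicit false
universe u v
open CategoryTheory
open ArtFun

namespace Groth.Agent.S12756

/-- For functors on Artinian local Λ-algebras with residue field k, if φ : F → G is surjective on every
object and ψ ∘ φ : F → H is smooth, then ψ : G → H is smooth. -/
theorem result {Λ : Type u} {k : Type u} [CommRing Λ] [Field k] [Algebra Λ k]
    [IsNoetherianRing Λ] [Module.Finite Λ k]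
    {F G H : ArtFun.Art Λ k ⥤ Type v} (φ : F ⟶ G) (ψ : G ⟶ H)
    (hφ : ∀ A : ArtFun.Art Λ k, Function.Surjective (φ.app A)) (h : ArtFun.IsSmooth (φ ≫ ψ)) :
    ArtFun.IsSmooth ψ := by
  rw [Misc9.SF.isSmooth_iff] at h ⊢
  intro B A μ hμ g y hy
  obtain ⟨x, rfl⟩ := hφ A g
  obtain ⟨x', hx, hx'⟩ := h μ hμ x y hy
  exact ⟨φ.app B x', by rw [← NatTrans.naturality_apply, hx], hx'⟩

end Groth.Agent.S12756
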