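import Groth.Statements.S12757
import Groth.Agent.Misc9.SF.Formal
-- import your own Groth.Agent.* helpers here

set_option autoImplicit false
universe u v
open CategoryTheory
open ArtFun

namespace Groth.Agent.S12757

/-- For functors, let F be a functor on Artinian local Λ-algebras with residue field k with F(k) a
point. A versal family of F over a complete local Noetherian R with residue field k which is
bijective on tangent spaces (a hull; bijectivity implies bijectivity on orbits of the derivations of
k) is minimal: every morphism of coefficient rings R' → R along which some formal element over R'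
pushes forward to the formal element of the family is surjective. -/
theorem result {Λ : Type u} {k : Type u} [CommRing Λ] [Field k] [Algebra Λ k]
    [IsNoetherianRing Λ] [Module.Finite Λ k]
    {F : ArtFun.Art Λ k ⥤ Type v} (h0 : ArtFun.H0 F) (P : ArtFun.Hull F) :
    P.family.IsMinimalVersal := by
  refine ⟨P.miniversal.1, fun R' u f hf h => Misc9.SF.surjective_of_dual_injective f hf fun a b hab => ?_⟩
  obtain ⟨ga, hga⟩ := Misc9.SF.exists_factor_one P.ring Misc9.SF.dual_sq_zero a
  obtain ⟨gb, hgb⟩ := Misc9.SF.exists_factor_one P.ring Misc9.SF.dual_sq_zero b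
  refine P.miniversal.2.1 ?_
  have h1 : F.map (ArtFun.CRing.truncMapOfHom f hf 1) (u.elt 1) = P.family.app _ (P.ring.truncHom 1) :=
    congrArg (fun e : ArtFun.FormalElt F P.ring => e.elt 1) h
  rw [← hga, ← hgb, P.family.natural, P.family.natural, ← h1, Misc9.SF.map_map, Misc9.SF.map_map]
  refine congrArg (fun g => F.map g (u.elt 1)) (Misc9.SF.trunc_hom_ext R' ?_)
  rw [← Misc9.SF.homSet_map_map, ← Misc9.SF.homSet_map_map, Misc9.SF.truncMapOfHom_truncHom, Misc9.SF.map_alongHom,
    Misc9.SF.map_alongHom, hga, hgb, hab]

end Groth.Agent.S12757
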