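import Groth.Statements.S12758
import Groth.Agent.Misc9.SF.Formal
-- import your own Groth.Agent.* helpers here

set_option autoImplicit false
universe u v
open CategoryTheory
open ArtFun

namespace Groth.Agent.S12758

/-- For functors, two minimal versal families of a functor F on Artinian local Λ-algebras with residue
field k with F(k) a point — over complete local Noetherian coefficient rings R₁, R₂ with residue
field k — are isomorphic: there is an isomorphism R₁ ≅ R₂ over Λ, compatible with the augmentations,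
along which the formal element of the first family pushes forward to that of the second. -/
theorem result {Λ : Type u} {k : Type u} [CommRing Λ] [Field k] [Algebra Λ k]
    [IsNoetherianRing Λ] [Module.Finite Λ k]
    {F : ArtFun.Art Λ k ⥤ Type v} (h0 : ArtFun.H0 F) {R₁ R₂ : ArtFun.CRing Λ k}
    (ξ₁ : ArtFun.Family R₁.carrier R₁.res F) (ξ₂ : ArtFun.Family R₂.carrier R₂.res F)
    (h₁ : ξ₁.IsMinimalVersal) (h₂ : ξ₂.IsMinimalVersal) :
    ∃ (e : R₁.carrier ≃ₐ[Λ] R₂.carrier) (he : R₂.res.comp (e : R₁.carrier →ₐ[Λ] R₂.carrier) = R₁.res),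
      (ξ₁.along (e : R₁.carrier →ₐ[Λ] R₂.carrier) he).toFormalElt = ξ₂.toFormalElt := by
  obtain ⟨g, hg, hg'⟩ := Misc9.SF.exists_along_eq ξ₁ h₁.1 ξ₂.toFormalElt (Misc9.SF.exists_start h0 ξ₁ _)
  obtain ⟨h, hh, hh'⟩ := Misc9.SF.exists_along_eq ξ₂ h₂.1 ξ₁.toFormalElt (Misc9.SF.exists_start h0 ξ₂ _)
  have hgs : Function.Surjective g := h₂.2 R₁ ξ₁.toFormalElt g hg ((Misc9.SF.toFormalElt_push ξ₁ g hg).trans hg')
  have e := Misc9.SF.family_ext_formal hg'
  have hc : R₁.res.comp (h.comp g) = R₁.res := by rw [← AlgHom.comp_assoc, hh, hg]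
  have hcs : Function.Surjective (h.comp g) := by
    refine h₁.2 R₁ ξ₁.toFormalElt (h.comp g) hc ?_
    rw [Misc9.SF.toFormalElt_push, ← hh', ← e]
    rfl
  have hinj : Function.Injective g :=
    Function.Injective.of_comp (f := h) (Misc9.SF.injective_of_surjective_endo (h.comp g).toRingHom hcs)
  exact ⟨AlgEquiv.ofBijective g ⟨hinj, hgs⟩, hg, hg'⟩

end Groth.Agent.S12758
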