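import Groth.Statements.S12769
import Groth.Agent.H7.AlgSt.Basic

set_option autoImplicit false
set_option backward.isDefEq.respectTransparency false
open CategoryTheory AlgebraicGeometry
universe u
open AlgSt

namespace Groth.Agent.S12769

/-- Let `f : 𝒳 ⟶ 𝒵` and `g : 𝒴 ⟶ 𝒵` be 1-morphisms of categories fibred in groupoids over `(Sch/S)`.
Suppose `𝒴` is a stack in groupoids (fppf topology) and `f` is representable by algebraic spaces;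
then `𝒳 ×_𝒵 𝒴` is a stack in groupoids. -/
theorem result {S : Scheme.{u}} {𝒳 𝒴 𝒵 : AlgSt.Cat S}
    (h𝒳 : FibCat.IsFibGrpd 𝒳.p) (h𝒵 : FibCat.IsFibGrpd 𝒵.p) (h𝒴 : Stk.IsStack (QuotSh.J Scheme.fppfPrecoverage S) 𝒴)
    (f : 𝒳 ⥤ᵇ 𝒵) (g : 𝒴 ⥤ᵇ 𝒵) (hf : AlgSt.RepByAlgSp1 f) :
    Stk.IsStack (QuotSh.J Scheme.fppfPrecoverage S) (FibCat.fp f g) := by
  refine Groth.Agent.H7.AlgSt.stack_of_rep1 (Groth.Agent.LeadFibCat.isFibGrpd_fp h𝒳 h𝒴.1 h𝒵) h𝒴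
    (FibCat.fpSnd f g) (fun U y => ?_)
  obtain ⟨Φ, hΦ, h1, -⟩ := Groth.Agent.H7.Stk.Congr.swap g f
  obtain ⟨F, e, he⟩ := hf U (BasedFunctor.comp y g)
  obtain ⟨Ψ, hΨ, -⟩ := Groth.Agent.H7.Stk.Congr.paste_fst' y g f

  obtain ⟨Θ, hΘ, -⟩ := Groth.Agent.H7.Stk.Congr.transport_fst y (FibCat.fpFst g f) y (FibCat.fpSnd f g)
    (BasedFunctor.id _) Φ (BasedFunctor.id _) (Groth.Agent.LeadFibCat.equiv_id _) hΦ
    (Groth.Agent.H7.Stk.Congr.id_ff _).1 (Groth.Agent.H7.Stk.Congr.id_ff _).2 (Iso.refl _) (eqToIso h1.symm)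
  obtain ⟨Θ', hΘ', -⟩ := Groth.Agent.LeadFibCat.equiv_inv hΘ
  exact ⟨F, BasedFunctor.comp (BasedFunctor.comp e Ψ) Θ',
    Groth.Agent.LeadFibCat.equiv_comp (Groth.Agent.LeadFibCat.equiv_comp he hΨ) hΘ'⟩


end Groth.Agent.S12769
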