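import Groth.Statements.S12774
import Groth.Agent.H7.AlgSt.More

set_option autoImplicit false
set_option backward.isDefEq.respectTransparency false
open CategoryTheory AlgebraicGeometry
universe u
open AlgSt

namespace Groth.Agent.S12774

/-- Take categories `𝒳` and `𝒴` fibred in groupoids over `(Sch/S)` and a 1-morphism `j : 𝒳 ⟶ 𝒴` between
them which is representable by algebraic spaces and a monomorphism. Then `j` is fully faithful on
fibre categories; for categories fibred in groupoids this is the same as `j` being full and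
faithful, which is how it is stated here. -/
theorem result {S : Scheme.{u}} {𝒳 𝒴 : AlgSt.Cat S}
    (h𝒳 : FibCat.IsFibGrpd 𝒳.p) (h𝒴 : FibCat.IsFibGrpd 𝒴.p) (j : 𝒳 ⥤ᵇ 𝒴) (hj : AlgSt.IsMono j) :
    j.toFunctor.Full ∧ j.toFunctor.Faithful := ⟨⟨fun {_ _} ψ => Groth.Agent.H7.AlgSt.mono_full h𝒳 h𝒴 j hj ψ⟩,
  ⟨fun {_ _ φ φ'} h => Groth.Agent.H7.AlgSt.faithful_of_rep1 h𝒳 h𝒴 j (Groth.Agent.H7.AlgSt.rep1_of_with hj) φ φ' h⟩⟩


end Groth.Agent.S12774
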