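import Groth.Statements.S12796
import Groth.Agent.H7.Stk.Psh

set_option autoImplicit false
set_option backward.isDefEq.respectTransparency false
open CategoryTheory
universe w v u
open Stk

namespace Groth.Agent.S12796

/-- For a presheaf of sets `P` on `C`, the category over `C` attached to `P` (which is fibred in sets)
is a stack in groupoids for the topology `J` if and only if `P` is a sheaf for `J`: under the
correspondence between presheaves and categories fibred in sets, sheaves correspond to stacks. -/
theorem result {C : Type u} [Category.{v} C] (J : GrothendieckTopology C) (P : Cᵒᵖ ⥤ Type w) :
    Stk.IsStack J (Stk.ofPsh P) ↔ Presieve.IsSheaf J P := Groth.Agent.H7.Stk.Glue.psh_stack_iff P J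

end Groth.Agent.S12796
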