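import Groth.Statements.S12816
import Groth.Agent.H7.Stk.Local

set_option autoImplicit false
set_option backward.isDefEq.respectTransparency false
open CategoryTheory
universe v u
open Stk

namespace Groth.Agent.S12816

/-- Let `𝒳`, `𝒴` be fibred in groupoids over `C` and `F : 𝒳 ⟶ 𝒴` a functor over `C`. Then the underlying
functor of `F` is fully faithful if and only if, for every object `U` of `C`, postcomposition with
`F` is a fully faithful functor from the category of functors `C/U ⟶ 𝒳` over `C` to that of functors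
`C/U ⟶ 𝒴` over `C`; under the 2-Yoneda lemma the latter says that `F` induces bijections between
morphisms of pullbacks `x|_V ⟶ y|_V` and `F(x)|_V ⟶ F(y)|_V` for all objects `x, y` over `U` and all
`V ⟶ U`, that is, isomorphisms of the presheaves of morphisms. (The published statement is for
stacks over a site, not necessarily in groupoids; the stack property plays no role and is not
assumed here, and this row treats categories fibred in groupoids.) -/
theorem result {C : Type u} [Category.{v} C] {𝒳 𝒴 : BasedCategory.{v, max u v} C}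
    (h𝒳 : FibCat.IsFibGrpd 𝒳.p) (h𝒴 : FibCat.IsFibGrpd 𝒴.p) (F : 𝒳 ⟶ 𝒴) :
    (F.toFunctor.Full ∧ F.toFunctor.Faithful) ↔
      ∀ U : C, (Bicategory.postcomp (FibCat.overCat U) F).Full ∧ (Bicategory.postcomp (FibCat.overCat U) F).Faithful := by
  have psc : ∀ {W : BasedCategory.{v, max u v} C} (K : W ⥤ᵇ 𝒴), Groth.Agent.LeadFibCat.PSC K :=
    fun K _ _ φ _ => h𝒴.isStronglyCartesian (K.map φ)
  have pscF : Groth.Agent.LeadFibCat.PSC F := psc F
  constructor
  · intro h U
    obtain ⟨hf, hft⟩ := h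
    refine ⟨⟨fun {G H} β => ?_⟩, ⟨fun {G H α α'} e => ?_⟩⟩
    · choose m hm using fun u => F.toFunctor.map_surjective (X := G.obj u) (Y := H.obj u) (β.toNatTrans.app u)
      refine ⟨Groth.Agent.H7.Stk.Glue.natMk m (fun {a b} k => F.toFunctor.map_injective ?_)
        (fun u => Groth.Agent.LeadFibCat.Vert.reflect (F := F) (by
          rw [hm]; exact Groth.Agent.H7.Stk.Glue.app_vert β u)),
        Groth.Agent.H7.Stk.Glue.nat_ext fun u => hm u⟩
      rw [Functor.map_comp, Functor.map_comp, hm, hm]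
      exact β.toNatTrans.naturality k
    · exact Groth.Agent.H7.Stk.Glue.nat_ext fun u => F.toFunctor.map_injective
        (congrArg (fun γ => (BasedNatTrans.toNatTrans γ).app u) e)
  · intro h
    have hv1 : Groth.Agent.LeadFibCat.VFaith F := by
      intro a b φ φ' hφ hφ' e
      obtain ⟨G, i, hi⟩ := Groth.Agent.H7.Stk.Glue.over_ess h𝒳 a rfl
      obtain ⟨H, j, hj⟩ := Groth.Agent.H7.Stk.Glue.over_ess h𝒳 b hφ.1.symm
      obtain ⟨α, hα⟩ := Groth.Agent.H7.Stk.Glue.over_full h𝒳 (G := G) (H := H) (i.hom ≫ φ ≫ j.inv) (hi.comp (hφ.comp hj.symm))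
      obtain ⟨α', hα'⟩ := Groth.Agent.H7.Stk.Glue.over_full h𝒳 (G := G) (H := H) (i.hom ≫ φ' ≫ j.inv) (hi.comp (hφ'.comp hj.symm))
      haveI := (h (𝒳.p.obj a)).2
      have : α = α' := (Bicategory.postcomp (FibCat.overCat (𝒳.p.obj a)) F).map_injective
        (Groth.Agent.H7.Stk.Glue.over_full_ext h𝒴 _ _ (by
          show F.map (α.toNatTrans.app _) = F.map (α'.toNatTrans.app _)
          rw [hα, hα']; simp [e]))
      subst this
      rw [hα] at hα'
      exact (cancel_mono j.inv).1 ((cancel_epi i.hom).1 hα')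
    have hv2 : Groth.Agent.LeadFibCat.VFull F := by
      intro a b ψ hψ
      have hb : 𝒳.p.obj b = 𝒳.p.obj a :=
        (Groth.Agent.LeadFibCat.pobj F b).symm.trans (hψ.1.symm.trans (Groth.Agent.LeadFibCat.pobj F a))
      obtain ⟨G, i, hi⟩ := Groth.Agent.H7.Stk.Glue.over_ess h𝒳 a rfl
      obtain ⟨H, j, hj⟩ := Groth.Agent.H7.Stk.Glue.over_ess h𝒳 b hb
      obtain ⟨β, hβ⟩ := Groth.Agent.H7.Stk.Glue.over_full h𝒴 (G := BasedFunctor.comp G F) (H := BasedFunctor.comp H F)
        (F.map i.hom ≫ ψ ≫ F.map j.inv) (hi.map.comp (hψ.comp hj.symm.map))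
      haveI := (h (𝒳.p.obj a)).1
      obtain ⟨α, rfl⟩ := (Bicategory.postcomp (FibCat.overCat (𝒳.p.obj a)) F).map_surjective (X := G) (Y := H) β
      refine ⟨i.inv ≫ α.toNatTrans.app _ ≫ j.hom, hi.symm.comp ((Groth.Agent.H7.Stk.Glue.app_vert α _).comp hj), ?_⟩
      rw [Functor.map_comp, Functor.map_comp]
      refine (congrArg (fun m => F.map i.inv ≫ m ≫ F.map j.hom) hβ).trans ?_
      simp only [Category.assoc, ← Functor.map_comp, Iso.inv_hom_id]
      rw [← Functor.map_comp_assoc, Iso.inv_hom_id]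
      simp
    have hfib := Groth.Agent.LeadFibCat.isFibered_of_isFibGrpd h𝒳
    exact ⟨⟨fun {a b} => Groth.Agent.LeadFibCat.full_of_vert hfib pscF hv2⟩,
      ⟨fun {a b φ φ'} e => Groth.Agent.LeadFibCat.faithful_of_vert hfib pscF hv1 φ φ' e⟩⟩

end Groth.Agent.S12816
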