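import Groth.Statements.S12899
import Groth.Agent.PseudoCoh.TensorExact

set_option autoImplicit false
universe u
open CategoryTheory CategoryTheory.Limits
attribute [local instance] HasDerivedCategory.standard
open DRing

namespace Groth.Agent.S12899

open CategoryTheory CategoryTheory.Limits CategoryTheory.Pretriangulated DerivedCategory DerivedCategory.TStructure Groth.Agent.PseudoCoh

attribute [local instance] HasDerivedCategory.standard

lemma flat_single (S : Type u) [CommRing S] (N : Type u) [AddCommGroup N] [Module S N] [Module.Flat S N] (i : ℤ) :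
    Module.Flat S (((HomologicalComplex.single (ModuleCat.{u} S) (ComplexShape.up ℤ) 0).obj (ModuleCat.of S N)).X i) := by
  by_cases hi : i = 0
  · subst hi
    exact Module.Flat.of_linearEquiv (HomologicalComplex.singleObjXSelf (ComplexShape.up ℤ) 0 (ModuleCat.of S N)).toLinearEquiv
  · haveI := ModuleCat.subsingleton_of_isZero
      (HomologicalComplex.isZero_single_obj_X (ComplexShape.up ℤ) 0 (ModuleCat.of S N) i hi)
    haveI := Module.Free.of_subsingleton S (((HomologicalComplex.single (ModuleCat.{u} S) (ComplexShape.up ℤ) 0).obj (ModuleCat.of S N)).X i)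
    infer_instance

/-- Let R be a commutative ring, f ∈ R and M an object of D(R) such that (1) H^i(M) = 0 for i &gt; 0,
(2) in D(R_f), M ⊗^L_R R_f is isomorphic to a flat R_f-module concentrated in degree 0, and (3) in
D(R/fR), M ⊗^L_R R/fR is isomorphic to a flat R/fR-module concentrated in degree 0. Then, in D(R), M
itself is isomorphic to a flat R-module concentrated in degree 0. (The derived base change functors
along R → R_f and R → R/fR are the stated instance hypotheses, both true.) -/
theorem result {R : Type u} [CommRing R] (f : R) (M : Dual.D R)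
    [DRing.HasLBaseChange (algebraMap R (Localization.Away f))]
    [DRing.HasLBaseChange (Ideal.Quotient.mk (Ideal.span ({f} : Set R)))]
    (h1 : ∀ i : ℤ, 0 < i → Subsingleton (Dual.HD R M i))
    (h2 : ∃ (N : Type u) (_ : AddCommGroup N) (_ : Module (Localization.Away f) N),
      Module.Flat (Localization.Away f) N ∧
        Nonempty ((DRing.LBaseChange (algebraMap R (Localization.Away f))).obj M ≅ Dual.inD (Localization.Away f) N))
    (h3 : ∃ (N : Type u) (_ : AddCommGroup N) (_ : Module (R ⧸ Ideal.span ({f} : Set R)) N),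
      Module.Flat (R ⧸ Ideal.span ({f} : Set R)) N ∧
        Nonempty ((DRing.LBaseChange (Ideal.Quotient.mk (Ideal.span ({f} : Set R)))).obj M ≅
          Dual.inD (R ⧸ Ideal.span ({f} : Set R)) N)) :
    ∃ (N : Type u) (_ : AddCommGroup N) (_ : Module R N), Module.Flat R N ∧ Nonempty (M ≅ Dual.inD R N) := by
  obtain ⟨N₂, _, _, hN₂, ⟨e₂⟩⟩ := h2
  obtain ⟨N₃, _, _, hN₃, ⟨e₃⟩⟩ := h3
  have hle : t.IsLE M 0 := (DerivedCategory.isLE_iff M 0).2 fun i hi => @ModuleCat.isZero_of_subsingleton _ _ _ (h1 i hi)
  obtain ⟨P, hPb, hPp, -, ⟨e⟩⟩ := exists_projective_le M 0 hle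
  have hflat : ∀ i, Module.Flat R (P.X i) := fun i => by
    haveI := hPp i
    haveI : Module.Projective R (P.X i) := (IsProjective.iff_projective (P.X i)).2 inferInstance
    exact Module.Flat.of_projective
  let fl := fun (S : Type u) [CommRing S] (N : Type u) [AddCommGroup N] [Module S N] [Module.Flat S N] =>
    (⟨(HomologicalComplex.single (ModuleCat.{u} S) (ComplexShape.up ℤ) 0).obj (ModuleCat.of S N),
      fun i hi => HomologicalComplex.isZero_single_obj_X _ _ _ _ (by omega), fun i => flat_single S N i,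
      ⟨((DerivedCategory.singleFunctorIsoCompQ (ModuleCat.{u} S) 0).app _).symm⟩⟩ :
      DRing.HasTorAmplitudeIn S 0 0 (Dual.inD S N))
  have t2 := torAmplitude_of_iso (e₂.symm ≪≫ (DRing.LBaseChange _).mapIso e.symm) (fl (Localization.Away f) N₂)
  have t3 := torAmplitude_of_iso (e₃.symm ≪≫ (DRing.LBaseChange _).mapIso e.symm) (fl (R ⧸ Ideal.span ({f} : Set R)) N₃)
  have hall := tex_of_away (P := P) f hflat 0
    (fun N _ _ hN n hn => tex_of_killed _ Ideal.Quotient.mk_surjective hPb hPp t3 N
      (fun r hr x => hN r (by rwa [Ideal.mk_ker] at hr) x) hn)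
    (fun N n hn => tex_of_lBaseChange _ hPb hPp t2 N hn)
  obtain ⟨F, hF, hFflat, ⟨eF⟩⟩ := torAmplitude_of_iso e (torAmplitude_of_tex hPb hflat (t.isLE_of_iso e.symm 0) hall)
  haveI : F.IsStrictlyGE 0 := (F.isStrictlyGE_iff 0).2 fun i hi => hF i (Or.inl hi)
  haveI : F.IsStrictlyLE 0 := (F.isStrictlyLE_iff 0).2 fun i hi => hF i (Or.inr hi)
  obtain ⟨N, ⟨eN⟩⟩ := CochainComplex.exists_iso_single F 0
  haveI := hFflat 0
  refine ⟨N, inferInstance, inferInstance, Module.Flat.of_linearEquiv
    (HomologicalComplex.Hom.isoApp eN 0 ≪≫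
      HomologicalComplex.singleObjXSelf (ComplexShape.up ℤ) 0 N).toLinearEquiv.symm,
    ⟨eF.symm ≪≫ DerivedCategory.Q.mapIso eN ≪≫ ((DerivedCategory.singleFunctorIsoCompQ (ModuleCat.{u} R) 0).app N).symm⟩⟩

end Groth.Agent.S12899
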