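import Groth.Statements.S12909
import Groth.Agent.RegularLocal.GlobalDim
import Mathlib.LinearAlgebra.Dimension.Constructions
import Mathlib.LinearAlgebra.Matrix.ToLin
import Mathlib.LinearAlgebra.FreeModule.Finite.Basic

set_option autoImplicit false
universe u
open CAlgX

namespace Groth.Agent.S12909

open IsLocalRing Matrix CategoryTheory Groth.Agent.RegularLocal.GlobalDim

def chi (n : ℕ → ℕ) : ℕ → ℕ → ℤ
  | 0, i => n i
  | d + 1, i => n i - chi n d (i + 1)

lemma mulVec_exact_localization {R T : Type u} [CommRing R] [CommRing T] [Algebra R T]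
    (S : Submonoid R) [IsLocalization S T] {a b c : ℕ}
    (A : Matrix (Fin a) (Fin b) R) (B : Matrix (Fin b) (Fin c) R)
    (h : LinearMap.ker A.mulVecLin = LinearMap.range B.mulVecLin) :
    LinearMap.ker (A.map (algebraMap R T)).mulVecLin =
      LinearMap.range (B.map (algebraMap R T)).mulVecLin := by
  have hmap : ∀ {p q : ℕ} (M : Matrix (Fin p) (Fin q) R) (v : Fin q → R),
      (M.map (algebraMap R T)) *ᵥ (algebraMap R T ∘ v) = algebraMap R T ∘ (M *ᵥ v) :=
    fun M v => funext fun i => ((algebraMap R T).map_mulVec M v i).symm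
  refine le_antisymm (fun v hv => ?_) ?_
  · obtain ⟨s, hs⟩ := IsLocalization.exist_integer_multiples_of_finite S v
    choose w hw using hs
    have hw' : algebraMap R T ∘ w = (algebraMap R T s) • v :=
      funext fun i => by simp [hw i, Algebra.smul_def]
    have h1 : algebraMap R T ∘ (A *ᵥ w) = 0 := by
      rw [← hmap, hw', Matrix.mulVec_smul, show A.map (algebraMap R T) *ᵥ v = 0 from hv, smul_zero]
    have h2 : ∀ i, ∃ t : S, (t : R) * (A *ᵥ w) i = 0 := fun i =>
      (IsLocalization.map_eq_zero_iff S T _).1 (congrFun h1 i)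
    choose t ht using h2
    have h3 : A *ᵥ ((∏ i, t i : S) : R) • w = 0 := by
      funext i
      obtain ⟨u, hu⟩ := Finset.dvd_prod_of_mem t (Finset.mem_univ i)
      rw [Matrix.mulVec_smul, Pi.smul_apply, smul_eq_mul, hu, Submonoid.coe_mul,
        mul_comm (t i : R), mul_assoc, ht, mul_zero]
      rfl
    have h4 : ((∏ i, t i : S) : R) • w ∈ LinearMap.ker A.mulVecLin := h3
    rw [h] at h4
    obtain ⟨x, hx⟩ := h4
    obtain ⟨r, hr⟩ := (IsLocalization.map_units T ((∏ i, t i) * s)).exists_left_inv
    refine ⟨r • (algebraMap R T ∘ x), ?_⟩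
    rw [map_smul, Matrix.mulVecLin_apply, hmap, ← Matrix.mulVecLin_apply, hx]
    funext i
    simp only [Pi.smul_apply, Function.comp_apply, smul_eq_mul, map_mul]
    rw [show algebraMap R T (w i) = algebraMap R T s * v i from congrFun hw' i, ← mul_assoc
      (algebraMap R T _), ← map_mul, ← Submonoid.coe_mul, ← mul_assoc, hr, one_mul]
  · rintro _ ⟨x, rfl⟩
    have hz : A * B = 0 := by
      refine Matrix.toLin'.injective (LinearMap.ext fun v => ?_)
      have hm : B.mulVecLin v ∈ LinearMap.ker A.mulVecLin := h ▸ ⟨v, rfl⟩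
      simpa [Matrix.toLin'_apply, ← Matrix.mulVec_mulVec] using hm
    rw [LinearMap.mem_ker, Matrix.mulVecLin_apply, Matrix.mulVecLin_apply, Matrix.mulVec_mulVec,
      ← Matrix.map_mul, hz]
    simp

lemma free_step {T : Type u} [CommRing T] [IsLocalRing T] [IsNoetherianRing T] {z : T} (hz : z ≠ 0)
    (hzm : ∀ a ∈ maximalIdeal T, a * z = 0) {M : Type u} [AddCommGroup M] [Module T M] {k : ℕ}
    (f : (Fin k → T) →ₗ[T] M) (hf : Function.Surjective f) [Module.Free T (LinearMap.ker f)] :
    Module.Free T M ∧ (Module.finrank T M : ℤ) = k - Module.finrank T (LinearMap.ker f) := by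
  haveI : Module.Finite T M := Module.Finite.of_surjective f hf
  haveI hM := free_of_pdLT_of_depth_zero hz hzm 1 M ((pdLT_syzygy f hf 0).2 (pdLT_one.2 inferInstance))
  refine ⟨hM, ?_⟩
  obtain ⟨g, hg⟩ := Module.projective_lifting_property f LinearMap.id hf
  haveI : Module.Finite T (LinearMap.ker f) := Module.Finite.iff_fg.2 (IsNoetherian.noetherian _)
  let e : (Fin k → T) ≃ₗ[T] (LinearMap.ker f) × M :=
    LinearEquiv.ofLinear
      ((LinearMap.codRestrict (LinearMap.ker f) (LinearMap.id - g.comp f) fun v => by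
        have := LinearMap.congr_fun hg (f v)
        simp at this
        simp [this]).prod f)
      ((LinearMap.ker f).subtype.coprod g)
      (LinearMap.ext fun p => by
        have h1 := LinearMap.congr_fun hg p.2
        simp at h1
        have h2 : f (p.1 : Fin k → T) = 0 := p.1.2
        refine Prod.ext (Subtype.ext ?_) ?_ <;> simp [h1, h2])
      (LinearMap.ext fun v => by simp)
  have := e.finrank_eq
  rw [Module.finrank_fin_fun, Module.finrank_prod] at this
  omega

lemma range_free_rank {T : Type u} [CommRing T] [IsLocalRing T] [IsNoetherianRing T] {z : T}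
    (hz : z ≠ 0) (hzm : ∀ a ∈ maximalIdeal T, a * z = 0) (n : ℕ → ℕ)
    (B : (i : ℕ) → Matrix (Fin (n i)) (Fin (n (i + 1))) T) (e : ℕ)
    (hB : ∀ i, i < e → LinearMap.ker (B i).mulVecLin = LinearMap.range (B (i + 1)).mulVecLin)
    (hlast : LinearMap.ker (B e).mulVecLin = ⊥) : ∀ d i, i + d = e →
    Module.Free T (LinearMap.range (B i).mulVecLin) ∧
      (Module.finrank T (LinearMap.range (B i).mulVecLin) : ℤ) = chi n d (i + 1) := by
  intro d
  induction d with
  | zero =>
    intro i hi
    obtain rfl : i = e := by omega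
    let e' := LinearEquiv.ofInjective _ (LinearMap.ker_eq_bot.1 hlast)
    exact ⟨Module.Free.of_equiv e', by rw [← e'.finrank_eq, Module.finrank_fin_fun]; rfl⟩
  | succ d ih =>
    intro i hi
    obtain ⟨h1, h2⟩ := ih (i + 1) (by omega)
    have hk : LinearMap.ker (B i).mulVecLin.rangeRestrict = LinearMap.range (B (i + 1)).mulVecLin := by
      rw [LinearMap.ker_rangeRestrict, hB i (by omega)]
    let e' := LinearEquiv.ofEq _ _ hk
    haveI := h1
    haveI := Module.Free.of_equiv e'.symm
    obtain ⟨h3, h4⟩ := free_step hz hzm _ (LinearMap.surjective_rangeRestrict (B i).mulVecLin)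
    refine ⟨h3, h4.trans ?_⟩
    rw [chi, ← h2, e'.finrank_eq]

lemma eq_bot_or_eq_top {T : Type u} [CommRing T] [IsLocalRing T] [IsNoetherianRing T] {z : T}
    (hz : z ≠ 0) (hzm : ∀ a ∈ maximalIdeal T, a * z = 0) (N : Submodule T (Fin 1 → T))
    [Module.Free T N] :
    (N = ⊥ ∧ Module.finrank T N = 0) ∨ (N = ⊤ ∧ Module.finrank T N = 1) := by
  haveI : Module.Finite T N := Module.Finite.iff_fg.2 (IsNoetherian.noetherian _)
  haveI : Module.Free T (LinearMap.ker N.mkQ) := Module.Free.of_equiv (LinearEquiv.ofEq _ _ N.ker_mkQ).symm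
  obtain ⟨h1, h2⟩ := free_step hz hzm N.mkQ N.mkQ_surjective
  rw [(LinearEquiv.ofEq _ _ N.ker_mkQ).finrank_eq] at h2
  have key : ∀ (M : Type u) [AddCommGroup M] [Module T M] [Module.Free T M] [Module.Finite T M],
      Module.finrank T M = 0 → ∀ x : M, x = 0 := by
    intro M _ _ _ _ h x
    haveI : IsEmpty (Fin (Module.finrank T M)) := by rw [h]; infer_instance
    exact (Module.finBasis T M).repr.injective (Subsingleton.elim _ _)
  rcases Nat.eq_zero_or_pos (Module.finrank T N) with h | h
  · exact Or.inl ⟨(Submodule.eq_bot_iff _).2 fun x hx => congrArg Subtype.val (key N h ⟨x, hx⟩), h⟩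
  · refine Or.inr ⟨Submodule.eq_top_iff'.2 fun x => ?_, by omega⟩
    haveI := h1
    exact (Submodule.Quotient.mk_eq_zero N).1 (key ((Fin 1 → T) ⧸ N) (by omega) _)

/-- Let R be a Noetherian ring and I a nonzero ideal with a finite free resolution 0 → R^{n_e} → … →
R^{n_1} → R^{n_0} → I → 0 with e ≥ 1: the map R^{n_{i+1}} → R^{n_i} is the matrix A_i, the map π :
R^{n_0} → R is linear with image I, the kernel of π is the image of A_0, the kernel of A_i is the
image of A_{i+1} for 0 ≤ i ≤ e - 2, and A_{e-1} is injective. Then I contains a non-zero-divisor of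
R. (The hypothesis that I is nonzero is implicit in the published statement: the zero ideal of a
domain has a finite free resolution and contains no non-zero-divisor.) -/
theorem result {R : Type u} [CommRing R] [IsNoetherianRing R]
    (e : ℕ) (he : 1 ≤ e) (n : ℕ → ℕ) (A : (i : ℕ) → Matrix (Fin (n i)) (Fin (n (i + 1))) R)
    (π : (Fin (n 0) → R) →ₗ[R] R) (hI : LinearMap.range π ≠ ⊥)
    (h0 : LinearMap.ker π = LinearMap.range (A 0).mulVecLin)
    (hA : ∀ i, i + 2 ≤ e → LinearMap.ker (A i).mulVecLin = LinearMap.range (A (i + 1)).mulVecLin)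
    (hlast : LinearMap.ker (A (e - 1)).mulVecLin = ⊥) :
    ∃ x : R, x ∈ LinearMap.range π ∧ x ∈ nonZeroDivisors R := by
  obtain ⟨e, rfl⟩ : ∃ e', e = e' + 1 := ⟨e - 1, by omega⟩
  let m : ℕ → ℕ := fun i => match i with | 0 => 1 | i + 1 => n i
  let B : (i : ℕ) → Matrix (Fin (m i)) (Fin (m (i + 1))) R := fun i => match i with
    | 0 => fun _ j => π (Pi.single j 1)
    | i + 1 => A i
  have hB0 : ∀ v j, (B 0).mulVecLin v j = π v := fun v j => by
    conv_rhs => rw [pi_eq_sum_univ' v, map_sum]
    rw [Matrix.mulVecLin_apply]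
    simp only [Matrix.mulVec, dotProduct, B, map_smul, smul_eq_mul]
    exact Finset.sum_congr rfl fun i _ => mul_comm _ _
  have hBex : ∀ i, i < e + 1 → LinearMap.ker (B i).mulVecLin = LinearMap.range (B (i + 1)).mulVecLin := by
    rintro (_ | i) hi
    · refine Eq.trans ?_ h0
      ext v
      exact ⟨fun h => (hB0 v 0).symm.trans (congrFun h 0), fun h => funext fun j => (hB0 v j).trans h⟩
    · exact hA i (by omega)
  by_contra hcon
  simp only [not_exists, not_and] at hcon
  let c : ℤ := chi m (e + 1) 1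
  have loc : ∀ (P : Ideal R) [P.IsPrime], IsAssociatedPrime P R →
      let f := algebraMap R (Localization.AtPrime P)
      (LinearMap.range ((B 0).map f).mulVecLin = ⊥ ∧ c = 0) ∨
        (LinearMap.range ((B 0).map f).mulVecLin = ⊤ ∧ c = 1) := by
    intro P _ hP f
    obtain ⟨-, z, hz⟩ := isAssociatedPrime_iff.1 hP
    have hmem : ∀ x, x ∈ P ↔ x * z = 0 := fun x => by
      rw [hz, Submodule.mem_colon_singleton, smul_eq_mul, Submodule.mem_bot]
    have hz0 : f z ≠ 0 := by
      intro h
      obtain ⟨s, hs⟩ := (IsLocalization.map_eq_zero_iff P.primeCompl _ _).1 h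
      exact s.2 ((hmem _).2 hs)
    have hzm : ∀ a ∈ maximalIdeal (Localization.AtPrime P), a * f z = 0 := by
      intro a ha
      obtain ⟨p, s, rfl⟩ := IsLocalization.exists_mk'_eq P.primeCompl a
      rw [IsLocalization.AtPrime.mk'_mem_maximal_iff (Localization.AtPrime P) P] at ha
      rw [mul_comm, IsLocalization.mul_mk'_eq_mk'_of_mul, IsLocalization.mk'_eq_zero_iff]
      exact ⟨1, by rw [mul_comm z, (hmem p).1 ha, mul_zero]⟩
    obtain ⟨h1, h2⟩ := range_free_rank hz0 hzm m (fun i => (B i).map f) (e + 1)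
      (fun i hi => mulVec_exact_localization P.primeCompl _ _ (hBex i hi))
      (by
        have : LinearMap.ker (B (e + 1)).mulVecLin =
            LinearMap.range (0 : Matrix (Fin (n (e + 1))) (Fin 0) R).mulVecLin := by
          rw [Matrix.mulVecLin_zero, LinearMap.range_zero]
          exact hlast
        rw [mulVec_exact_localization P.primeCompl _ _ this, Matrix.map_zero _ (map_zero _),
          Matrix.mulVecLin_zero, LinearMap.range_zero])
      (e + 1) 0 (by omega)
    haveI := h1
    rcases eq_bot_or_eq_top hz0 hzm (LinearMap.range ((B 0).map f).mulVecLin) with ⟨h, h'⟩ | ⟨h, h'⟩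
    · exact Or.inl ⟨h, h2.symm.trans (by rw [h']; rfl)⟩
    · exact Or.inr ⟨h, h2.symm.trans (by rw [h']; rfl)⟩
  have hsub : (LinearMap.range π : Set R) ⊆ ⋃ P ∈ associatedPrimes R R, (P : Set R) := by
    rw [biUnion_associatedPrimes_eq_compl_nonZeroDivisors]
    exact fun a ha => hcon a ha
  have hfin := associatedPrimes.finite R R
  obtain ⟨P, hP, hle⟩ := (Ideal.subset_union_prime (I := LinearMap.range π) (f := fun i : Ideal R => i)
    (s := hfin.toFinset) ⊤ ⊤ (fun i hi _ _ => IsAssociatedPrime.isPrime ((Set.Finite.mem_toFinset _).1 hi))).1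
    (by simpa using hsub)
  rw [Set.Finite.mem_toFinset] at hP
  haveI := IsAssociatedPrime.isPrime hP
  have hc : c = 0 := by
    rcases loc P hP with h | ⟨h, -⟩
    · exact h.2
    · exfalso
      obtain ⟨v, hv⟩ := LinearMap.range_eq_top.1 h (fun _ => 1)
      have h1 := congrFun hv 0
      have : (1 : Localization.AtPrime P) ∈ maximalIdeal _ := by
        rw [← h1]
        simp only [Matrix.mulVecLin_apply, Matrix.mulVec, dotProduct, Matrix.map_apply]
        refine Ideal.sum_mem _ fun j _ => Ideal.mul_mem_right _ _ ?_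
        rw [IsLocalization.AtPrime.to_map_mem_maximal_iff (Localization.AtPrime P) P]
        exact hle ⟨_, rfl⟩
      exact (maximalIdeal.isMaximal _).ne_top ((Ideal.eq_top_iff_one _).2 this)
  apply hI
  rw [Submodule.eq_bot_iff]
  rintro _ ⟨v, rfl⟩
  by_contra hx
  obtain ⟨Q, hQ, hle'⟩ := exists_le_isAssociatedPrime_of_isNoetherianRing R (π v) hx
  haveI := IsAssociatedPrime.isPrime hQ
  rcases loc Q hQ with ⟨h, -⟩ | ⟨-, h⟩
  · have hmem : ((B 0).map (algebraMap R (Localization.AtPrime Q))).mulVecLin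
        (algebraMap R _ ∘ v) = 0 := by
      have := LinearMap.mem_range_self ((B 0).map (algebraMap R (Localization.AtPrime Q))).mulVecLin
        (algebraMap R _ ∘ v)
      rwa [h, Submodule.mem_bot] at this
    have h0 := congrFun hmem 0
    rw [Matrix.mulVecLin_apply, ← RingHom.map_mulVec, ← Matrix.mulVecLin_apply, hB0] at h0
    obtain ⟨s, hs⟩ := (IsLocalization.map_eq_zero_iff Q.primeCompl _ _).1 h0
    exact s.2 (hle' (Submodule.mem_colon_singleton.2 (by simpa using hs)))
  · rw [hc] at h
    exact zero_ne_one h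

end Groth.Agent.S12909
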