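import Groth.Statements.S12916
import Groth.Agent.LocalAlg.Homogeneous
import Mathlib.RingTheory.Ideal.AssociatedPrime.Finiteness
import Mathlib.RingTheory.Ideal.AssociatedPrime.Localization
import Mathlib.RingTheory.FiniteLength
import Mathlib.RingTheory.Polynomial.Basic
import Mathlib.RingTheory.Artinian.Module
import Mathlib.RingTheory.KrullDimension.Zero
import Mathlib.RingTheory.HopkinsLevitzki
import Mathlib.Algebra.Module.Submodule.Union

set_option autoImplicit false
universe u
open CAlgX

namespace Groth.Agent.S12916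

/-- Let k be an infinite field, S = k[x_0, …, x_r], M a finitely generated S-module and d a natural
number. Then some nonzero homogeneous polynomial f of degree d is quasi-regular on M: the submodule
(0 :_M f) of elements of M annihilated by f has finite length. (The published statement assumes M
graded; this row assumes only that M is finitely generated.) -/
theorem result (k : Type u) [Field k] [Infinite k] (r d : ℕ)
    (M : Type u) [AddCommGroup M] [Module (MvPolynomial (Fin (r + 1)) k) M] [Module.Finite (MvPolynomial (Fin (r + 1)) k) M] :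
    ∃ f : MvPolynomial (Fin (r + 1)) k, f.IsHomogeneous d ∧ f ≠ 0 ∧
      IsFiniteLength (MvPolynomial (Fin (r + 1)) k) ↥(Submodule.torsionBy (MvPolynomial (Fin (r + 1)) k) M f) := by
  classical
  haveI : IsNoetherian (MvPolynomial (Fin (r + 1)) k) M := isNoetherian_of_isNoetherianRing_of_finite _ _
  let H := MvPolynomial.homogeneousSubmodule (Fin (r + 1)) k d
  let bad : Set (Ideal (MvPolynomial (Fin (r + 1)) k)) :=
    {P | P ∈ associatedPrimes (MvPolynomial (Fin (r + 1)) k) M ∧ ¬ P.IsMaximal}
  have hfin : bad.Finite := (associatedPrimes.finite (MvPolynomial (Fin (r + 1)) k) M).subset fun P h => h.1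
  haveI := hfin.to_subtype
  have hHne : ∀ P ∈ bad, ∃ f ∈ H, f ∉ P := by
    intro P hP
    have hPp : P.IsPrime := hP.1.isPrime
    rcases Nat.eq_zero_or_pos d with rfl | hd
    · exact ⟨1, MvPolynomial.isHomogeneous_one _ _, fun h => hPp.ne_top ((Ideal.eq_top_iff_one _).2 h)⟩
    by_contra hcon
    simp only [not_exists, not_and, not_not] at hcon
    apply hP.2
    have hX : ∀ i, (MvPolynomial.X i : MvPolynomial (Fin (r + 1)) k) ∈ P := fun i =>
      hPp.mem_of_pow_mem d (hcon _ (MvPolynomial.isHomogeneous_X_pow i d))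
    have hle : RingHom.ker (MvPolynomial.constantCoeff (R := k) (σ := Fin (r + 1))) ≤ P := by
      intro q hq
      suffices h : ∀ p : MvPolynomial (Fin (r + 1)) k, p - MvPolynomial.C (MvPolynomial.constantCoeff p) ∈ P by
        have := h q
        rwa [RingHom.mem_ker.1 hq, map_zero, sub_zero] at this
      intro p
      induction p using MvPolynomial.induction_on with
      | C a => simp
      | add a b ha hb => rw [map_add, map_add, add_sub_add_comm]; exact add_mem ha hb
      | mul_X a i _ => simpa using P.mul_mem_left a (hX i)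
    haveI : (RingHom.ker (MvPolynomial.constantCoeff (R := k) (σ := Fin (r + 1)))).IsMaximal :=
      RingHom.ker_isMaximal_of_surjective _ fun a => ⟨MvPolynomial.C a, MvPolynomial.constantCoeff_C _ a⟩
    rw [← Ideal.IsMaximal.eq_of_le inferInstance hPp.ne_top hle]
    infer_instance
  have hH0 : ∃ f ∈ H, f ≠ 0 :=
    ⟨MvPolynomial.X 0 ^ d, MvPolynomial.isHomogeneous_X_pow _ _, pow_ne_zero _ (MvPolynomial.X_ne_zero _)⟩
  let p : Option bad → Submodule k H := fun o =>
    match o with
    | none => ⊥
    | some P => (P.1.restrictScalars k).comap H.subtype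
  obtain ⟨⟨f, hfH⟩, hf⟩ := Submodule.exists_forall_notMem_of_forall_ne_top p (by
    rintro (_ | ⟨P, hP⟩) htop
    · obtain ⟨f, hf, hf0⟩ := hH0
      have : (⟨f, hf⟩ : H) ∈ (⊥ : Submodule k H) := by
        show _ ∈ p none
        rw [htop]; trivial
      exact hf0 (congrArg Subtype.val ((Submodule.mem_bot k).1 this))
    · obtain ⟨f, hf, hfP⟩ := hHne P hP
      have : (⟨f, hf⟩ : H) ∈ p (some ⟨P, hP⟩) := by rw [htop]; trivial
      exact hfP this)
  have hf0 : f ≠ 0 := fun h => hf none (by subst h; exact (Submodule.mem_bot k).2 rfl)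
  refine ⟨f, hfH, hf0, ?_⟩
  let T := Submodule.torsionBy (MvPolynomial (Fin (r + 1)) k) M f
  have hmax : ∀ P : Ideal (MvPolynomial (Fin (r + 1)) k), P.IsPrime →
      Module.annihilator (MvPolynomial (Fin (r + 1)) k) T ≤ P → P.IsMaximal := by
    intro P hP hle
    obtain ⟨Q, hQ, hQP⟩ := Ideal.exists_minimalPrimes_le hle
    have hQass : Q ∈ associatedPrimes (MvPolynomial (Fin (r + 1)) k) T :=
      Module.associatedPrimes.minimalPrimes_annihilator_subset_associatedPrimes _ _ hQ
    have hQM : Q ∈ associatedPrimes (MvPolynomial (Fin (r + 1)) k) M :=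
      associatedPrimes.subset_of_injective T.injective_subtype hQass
    have hfQ : f ∈ Q := hQ.1.2 (Module.mem_annihilator.2 fun t => Subtype.ext
      (by simpa [T] using t.2))
    have hQmax : Q.IsMaximal := by
      by_contra h
      exact hf (some ⟨Q, hQM, h⟩) hfQ
    rw [← hQmax.eq_of_le hP.ne_top hQP]
    exact hQmax
  let A := Module.annihilator (MvPolynomial (Fin (r + 1)) k) T
  haveI : Ring.KrullDimLE 0 (MvPolynomial (Fin (r + 1)) k ⧸ A) := by
    rw [Ring.krullDimLE_zero_iff]
    intro P hP
    have := hmax (P.comap (Ideal.Quotient.mk A)) (Ideal.IsPrime.comap _) (fun a ha => by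
      rw [Ideal.mem_comap, Ideal.Quotient.eq_zero_iff_mem.2 ha]; exact zero_mem _)
    rw [← Ideal.map_comap_of_surjective _ Ideal.Quotient.mk_surjective P]
    exact Ideal.IsMaximal.map_of_surjective_of_ker_le Ideal.Quotient.mk_surjective (Ideal.ker_le_comap _)
  haveI : IsArtinianRing (MvPolynomial (Fin (r + 1)) k ⧸ A) :=
    isArtinianRing_iff_isNoetherianRing_krullDimLE_zero.2
      ⟨isNoetherianRing_of_surjective _ _ (Ideal.Quotient.mk A) Ideal.Quotient.mk_surjective, inferInstance⟩
  letI : Module (MvPolynomial (Fin (r + 1)) k ⧸ A) T := Module.quotientAnnihilator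
  haveI : IsScalarTower (MvPolynomial (Fin (r + 1)) k) (MvPolynomial (Fin (r + 1)) k ⧸ A) T :=
    Module.isTorsionBySet_annihilator _ _ |>.isScalarTower
  haveI : Module.Finite (MvPolynomial (Fin (r + 1)) k ⧸ A) T :=
    Module.Finite.of_restrictScalars_finite (MvPolynomial (Fin (r + 1)) k) _ _
  haveI : IsArtinian (MvPolynomial (Fin (r + 1)) k ⧸ A) T := isArtinian_of_fg_of_artinian'
  haveI : IsArtinian (MvPolynomial (Fin (r + 1)) k) T :=
    isArtinian_of_surjective_algebraMap (R := MvPolynomial (Fin (r + 1)) k ⧸ A) Ideal.Quotient.mk_surjective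
  exact isFiniteLength_iff_isNoetherian_isArtinian.2 ⟨inferInstance, inferInstance⟩

end Groth.Agent.S12916
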