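import Groth.Statements.S12918
import Groth.Agent.HopfRep.Total

set_option autoImplicit false
universe u v w
open HopfRep

namespace Groth.Agent.S12918

open TensorProduct

/-- Let `k` be a commutative ring, `A` a commutative Hopf algebra over `k`, flat as a `k`-module and `B`
a commutative `k`-algebra with a coaction `ρ : B → B ⊗ A` that is an algebra map (an action of the
affine group scheme `Spec A` on `Spec B`). Then the action admits a total integral — a comodule map
`α : A → B`, for the regular coaction on `A`, with `α 1 = 1` — if and only if `ρ` has a left inverse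
`B ⊗ A → B` which is a comodule map for the coaction `id ⊗ Δ` on `B ⊗ A`. -/
theorem result
    (k : Type u) [CommRing k] (A : Type v) [CommRing A] [HopfAlgebra k A] [Module.Flat k A]
    (B : Type w) [CommRing B] [Algebra k B] [HopfRep.Comod k A B] [GLin.IsCoactAlg k A B] :
    (∃ α : A →ₗ[k] B, Hoch.IsComodHom A α ∧ α 1 = 1) ↔
      ∃ lam : Hoch.Ind k A B →ₗ[k] B, Hoch.IsComodHom A lam ∧ lam ∘ₗ Hoch.toInd k A B = LinearMap.id := by
  constructor
  · rintro ⟨α, hα, hα1⟩
    let μ : A ⊗[k] A →ₗ[k] B :=
      α ∘ₗ LinearMap.mul' k A ∘ₗ (HopfAlgebraStruct.antipode (R := k)).rTensor A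
    let lam0 : B ⊗[k] A →ₗ[k] B := LinearMap.mul' k B ∘ₗ μ.lTensor B ∘ₗ
      (TensorProduct.assoc k B A A).toLinearMap ∘ₗ (HopfRep.Comod.coact (k := k) (A := A) (V := B)).rTensor A
    refine ⟨lam0 ∘ₗ (Hoch.Ind.equiv k A B).symm.toLinearMap, ?_, LinearMap.ext fun b => ?_⟩
    · refine LinearMap.ext fun x => ?_
      suffices H : ∀ y : B ⊗[k] A, HopfRep.Comod.coact (k := k) (A := A) (lam0 y) =
          lam0.rTensor A (Hoch.Ind.coactAux k A B y) from H x
      intro y
      induction y with
      | zero => simp
      | add p q hp hq => simp only [map_add, hp, hq]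
      | tmul b a =>
        let S := HopfAlgebraStruct.antipode (R := k) (A := A)
        let F : B → A ⊗[k] A → B ⊗[k] A := fun p w => p ⊗ₜ[k] (1 : A) * α.rTensor A w
        let Φ : B ⊗[k] (A ⊗[k] A) →ₗ[k] B ⊗[k] A := TensorProduct.lift
          (((LinearMap.mul k (B ⊗[k] A)).compl₂ (α.rTensor A ∘ₗ LinearMap.mulRight k (Coalgebra.comul (R := k) a) ∘ₗ
            TensorProduct.lift (((LinearMap.mul k (A ⊗[k] A)).compl₂
              (Coalgebra.comul (R := k) (A := A) ∘ₗ S)) ∘ₗ TensorProduct.mk k A A 1))) ∘ₗ
            (TensorProduct.mk k B A).flip 1)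
        have hΦ : ∀ p x y, Φ (p ⊗ₜ[k] (x ⊗ₜ[k] y)) =
            F p ((1 : A) ⊗ₜ[k] x * Coalgebra.comul (R := k) (S y) * Coalgebra.comul (R := k) a) := fun _ _ _ => rfl
        have hF : ∀ (p : B) (x : A) (w : A ⊗[k] A), p ⊗ₜ[k] x * α.rTensor A w = F p ((1 : A) ⊗ₜ[k] x * w) := by
          intro p x w
          induction w with
          | zero => simp [F]
          | add u v hu hv =>
            simp only [map_add, mul_add, F] at hu hv ⊢
            rw [hu, hv]
          | tmul u v => simp [F]
        have hl : ∀ y, lam0 (y ⊗ₜ[k] a) = LinearMap.mul' k B (μ.lTensor B (TensorProduct.assoc k B A A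
            (HopfRep.Comod.coact (k := k) (A := A) y ⊗ₜ[k] a))) := fun y => rfl
        have hco := LinearMap.congr_fun (HopfRep.Comod.coassoc (k := k) (A := A) (V := B)) b
        simp only [LinearMap.comp_apply, LinearEquiv.coe_coe] at hco
        have h1 : ∀ z : B ⊗[k] A, HopfRep.Comod.coact (k := k) (A := A) (LinearMap.mul' k B (μ.lTensor B
            (TensorProduct.assoc k B A A (z ⊗ₜ a)))) =
              Φ (TensorProduct.assoc k B A A ((HopfRep.Comod.coact (k := k) (A := A) (V := B)).rTensor A z)) := by
          intro z
          induction z with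
          | zero => simp
          | add p q hp hq => simp only [TensorProduct.add_tmul, map_add, hp, hq]
          | tmul p y =>
            simp only [TensorProduct.assoc_tmul, LinearMap.lTensor_tmul, LinearMap.mul'_apply,
              LinearMap.rTensor_tmul]
            rw [GLin.IsCoactAlg.coact_mul, show μ (y ⊗ₜ[k] a) = α (S y * a) from rfl,
              Groth.Agent.HopfRep.Total.coact_map hα, Bialgebra.comul_mul]
            generalize HopfRep.Comod.coact (k := k) (A := A) p = u
            induction u with
            | zero => simp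
            | add u v hu hv => simp only [add_mul, TensorProduct.add_tmul, map_add, hu, hv]
            | tmul u v => rw [TensorProduct.assoc_tmul, hΦ, hF, mul_assoc]
        rw [hl, h1, hco, Hoch.Ind.coactAux_tmul]
        have h2 : ∀ (z : A ⊗[k] A), lam0.rTensor A ((TensorProduct.assoc k B A A).symm (b ⊗ₜ[k] z)) =
            (LinearMap.mul' k B ∘ₗ μ.lTensor B ∘ₗ (TensorProduct.assoc k B A A).toLinearMap ∘ₗ
              TensorProduct.mk k (B ⊗[k] A) A (HopfRep.Comod.coact (k := k) (A := A) b)).rTensor A z := by
          intro z
          induction z with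
          | zero => simp
          | add u v hu hv => simp only [TensorProduct.tmul_add, map_add, hu, hv]
          | tmul u v => simp [lam0]
        rw [h2]
        generalize HopfRep.Comod.coact (k := k) (A := A) b = z
        induction z with
        | zero => simp
        | add p q hp hq =>
          simp only [map_add, hp, hq, LinearMap.comp_add, LinearMap.rTensor_add, LinearMap.add_apply]
        | tmul p y =>
          have hc := Groth.Agent.HopfRep.Total.comul_antipode_cancel (k := k) y
          rw [LinearMap.lTensor_tmul]
          simp only [Φ, TensorProduct.lift.tmul, LinearMap.comp_apply, LinearMap.compl₂_apply, LinearMap.flip_apply,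
            TensorProduct.mk_apply, LinearMap.mul_apply', LinearMap.mulRight_apply, S, hc]
          generalize Coalgebra.comul (R := k) a = d
          induction d with
          | zero => simp
          | add u v hu hv => simp only [mul_add, map_add, hu, hv]
          | tmul u v => simp [μ, LinearMap.rTensor_tmul]
    · show lam0 (HopfRep.Comod.coact (k := k) (A := A) b) = b
      have hco := LinearMap.congr_fun (HopfRep.Comod.coassoc (k := k) (A := A) (V := B)) b
      simp only [LinearMap.comp_apply, LinearEquiv.coe_coe] at hco
      simp only [lam0, LinearMap.comp_apply, LinearEquiv.coe_coe, hco, ← LinearMap.lTensor_comp_apply, μ,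
        LinearMap.comp_assoc, HopfAlgebra.mul_antipode_rTensor_comul]
      have hcu := LinearMap.congr_fun (HopfRep.Comod.counit_comp (k := k) (A := A) (V := B)) b
      simp only [LinearMap.comp_apply] at hcu
      simp [LinearMap.lTensor_comp_apply, hcu, hα1]
  · rintro ⟨lam, hlam, hsec⟩
    refine ⟨lam ∘ₗ (Hoch.Ind.equiv k A B).toLinearMap ∘ₗ TensorProduct.mk k B A 1,
      LinearMap.ext fun a => ?_, ?_⟩
    · have e := LinearMap.congr_fun hlam (Hoch.Ind.equiv k A B ((1 : B) ⊗ₜ a))
      simp only [LinearMap.comp_apply, Hoch.Ind.coact_eq] at e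
      simp only [LinearMap.comp_apply, LinearEquiv.coe_coe, TensorProduct.mk_apply]
      refine e.trans ?_
      let lam' : B ⊗[k] A →ₗ[k] B := lam ∘ₗ (Hoch.Ind.equiv k A B).toLinearMap
      show lam'.rTensor A ((TensorProduct.assoc k B A A).symm ((1 : B) ⊗ₜ Coalgebra.comul (R := k) a)) =
        LinearMap.rTensor A (lam' ∘ₗ TensorProduct.mk k B A 1) (Coalgebra.comul (R := k) a)
      generalize Coalgebra.comul (R := k) a = z
      induction z with
      | zero => simp
      | add p q hp hq => simp only [TensorProduct.tmul_add, map_add, hp, hq]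
      | tmul p q => simp
    · have := LinearMap.congr_fun hsec 1
      simp only [LinearMap.comp_apply, LinearMap.id_apply, Hoch.toInd, GLin.IsCoactAlg.coact_one] at this
      exact this

end Groth.Agent.S12918
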