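import Groth.Statements.S12921
import Groth.Agent.HopfRep.Total

set_option autoImplicit false
universe u v w
open HopfRep

namespace Groth.Agent.S12921

/-- Let `k` be a commutative ring, `A` a commutative Hopf algebra over `k`, flat as a `k`-module, `B` a
commutative `k`-algebra with a coaction of `A` that is an algebra map and admits a total integral (a
comodule map `α : A → B` with `α 1 = 1`), and `C = B^A` the subring of invariants. Then for every
ideal `c` of `C` one has `cB ∩ C = c`. (The published statement assumes only that taking invariants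
is exact on `(B, A)`-modules; a total integral, assumed here, gives that exactness.) -/
theorem result
    (k : Type u) [CommRing k] (A : Type v) [CommRing A] [HopfAlgebra k A] [Module.Flat k A]
    (B : Type w) [CommRing B] [Algebra k B] [HopfRep.Comod k A B] [GLin.IsCoactAlg k A B]
    (htame : ∃ α : A →ₗ[k] B, Hoch.IsComodHom A α ∧ α 1 = 1)
    (c : Ideal (GLin.invariants k A B)) :
    (c.map (algebraMap (GLin.invariants k A B) B)).comap (algebraMap (GLin.invariants k A B) B) = c := by
  obtain ⟨α, hα, hα1⟩ := htame
  refine le_antisymm (fun x hx => ?_) Ideal.le_comap_map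
  have key : ∀ y ∈ c.map (algebraMap (GLin.invariants k A B) B), ∀ r : B,
      (⟨Groth.Agent.HopfRep.Total.proj B α (r * y), Groth.Agent.HopfRep.Total.proj_mem hα _⟩ :
        GLin.invariants k A B) ∈ c := by
    intro y hy
    induction hy using Submodule.span_induction with
    | mem y hy =>
      obtain ⟨a, ha, rfl⟩ := hy
      intro r
      have e : (⟨Groth.Agent.HopfRep.Total.proj B α (r * (a : B)), Groth.Agent.HopfRep.Total.proj_mem hα _⟩ :
          GLin.invariants k A B) = ⟨_, Groth.Agent.HopfRep.Total.proj_mem hα r⟩ * a :=
        Subtype.ext (Groth.Agent.HopfRep.Total.proj_mul a.2 r)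
      show (⟨Groth.Agent.HopfRep.Total.proj B α (r * (a : B)), Groth.Agent.HopfRep.Total.proj_mem hα _⟩ :
          GLin.invariants k A B) ∈ c
      rw [e]
      exact c.mul_mem_left _ ha
    | zero => intro r; simp only [mul_zero, map_zero]; exact c.zero_mem
    | add p q _ _ hp hq => intro r; simp only [mul_add, map_add]; exact c.add_mem (hp r) (hq r)
    | smul d p _ hp => intro r; simp only [smul_eq_mul, ← mul_assoc]; exact hp (r * d)
  have := key _ (Ideal.mem_comap.1 hx) 1
  have e : (⟨Groth.Agent.HopfRep.Total.proj B α (1 * algebraMap (GLin.invariants k A B) B x),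
      Groth.Agent.HopfRep.Total.proj_mem hα _⟩ : GLin.invariants k A B) = x := Subtype.ext (by
    show Groth.Agent.HopfRep.Total.proj B α (1 * (x : B)) = (x : B)
    rw [one_mul, Groth.Agent.HopfRep.Total.proj_fixed hα1 x.2])
  exact e ▸ this

end Groth.Agent.S12921
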