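import Groth.Statements.S12925
import Mathlib

set_option autoImplicit false
universe u w
open HopfRep

namespace Groth.Agent.S12925

/-- Let `k` be a commutative ring, `M` a commutative group and `B` a commutative `k`-algebra with a
coaction of the group algebra `k[M]` that is an algebra map (an action of the diagonalizable group
scheme `D(M) = Spec k[M]` on `Spec B`). Then the action is tame: there is a comodule map `α : k[M] →
B`, for the regular coaction on `k[M]`, with `α 1 = 1`. -/
theorem result
    (k : Type u) [CommRing k] (M : Type u) [CommGroup M]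
    (B : Type w) [CommRing B] [Algebra k B] [HopfRep.Comod k (MonoidAlgebra k M) B]
    [GLin.IsCoactAlg k (MonoidAlgebra k M) B] :
    ∃ α : MonoidAlgebra k M →ₗ[k] B, Hoch.IsComodHom (MonoidAlgebra k M) α ∧ α 1 = 1 := by
  classical
  let α : MonoidAlgebra k M →ₗ[k] B :=
    (Algebra.linearMap k B) ∘ₗ (MonoidAlgebra.basis M k).coord 1
  refine ⟨α, (MonoidAlgebra.basis M k).ext fun m => ?_, ?_⟩
  · have hc : ∀ n, (MonoidAlgebra.basis M k).coord 1 (MonoidAlgebra.single n 1) = if n = 1 then (1 : k) else 0 := by
      intro n
      rw [← MonoidAlgebra.basis_apply, Module.Basis.coord_apply, Module.Basis.repr_self, Finsupp.single_apply]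
    have hr : HopfRep.Comod.coact (k := k) (A := MonoidAlgebra k M) (V := MonoidAlgebra k M)
        (MonoidAlgebra.single m 1) = MonoidAlgebra.single m 1 ⊗ₜ[k] MonoidAlgebra.single m 1 := by
      show Coalgebra.comul (R := k) (MonoidAlgebra.single m (1 : k)) = _
      simp
    simp only [LinearMap.comp_apply, MonoidAlgebra.basis_apply, hr, LinearMap.rTensor_tmul, α,
      Algebra.linearMap_apply, hc]
    by_cases hm : m = 1
    · subst hm
      simp only [if_true, map_one]
      rw [← MonoidAlgebra.one_def, ← Algebra.TensorProduct.one_def]
      exact map_one (GLin.coactAlgHom k (MonoidAlgebra k M) B)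
    · simp [hm]
  · show algebraMap k B ((MonoidAlgebra.basis M k).coord 1 1) = 1
    have : (1 : MonoidAlgebra k M) = MonoidAlgebra.basis M k 1 := by
      rw [MonoidAlgebra.basis_apply]; rfl
    rw [this, Module.Basis.coord_apply, Module.Basis.repr_self, Finsupp.single_eq_same, map_one]

end Groth.Agent.S12925
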