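import Groth.Statements.S12926


set_option autoImplicit false
universe u v
open HopfRep

namespace Groth.Agent.S12926

open TensorProduct

/-- Let `k` be a commutative ring and `A` a commutative bialgebra over `k`, flat as a `k`-module. If the
submodule `k · 1` of the regular comodule `A` has a complement `H` which is a subcomodule — the case
used when `A` is cosemisimple, i.e. every subcomodule of every comodule is a direct summand as a
comodule — then the trivial action of `Spec A` on `Spec k` is tame: there is a comodule map `α : A →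
k`, for the regular coaction on `A` and the trivial coaction `r ↦ r ⊗ 1` on `k`, with `α 1 = 1`. -/
theorem result
    (k : Type u) [CommRing k] (A : Type v) [CommRing A] [Bialgebra k A] [Module.Flat k A]
    (H : Submodule k A) (hH : HopfRep.IsSubcomod (k := k) (A := A) H)
    (hc : IsCompl (Submodule.span k {(1 : A)}) H) :
    ∃ α : A →ₗ[k] k, @Hoch.IsComodHom k _ A _ _ _ A _ _ _ k _ _ (HopfRep.Comod.trivial k A k) α ∧ α 1 = 1 := by
  let π : A →ₗ[k] A := (Submodule.span k {(1 : A)}).subtype ∘ₗ (Submodule.span k {(1 : A)}).projectionOnto H hc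
  let α : A →ₗ[k] k := (Coalgebra.counit (R := k) (A := A)) ∘ₗ π
  have hπ : ∀ a, π a = α a • (1 : A) := by
    intro a
    obtain ⟨c, hc'⟩ := Submodule.mem_span_singleton.1
      (show π a ∈ Submodule.span k {(1 : A)} from ((Submodule.span k {(1 : A)}).projectionOnto H hc a).2)
    simp [α, ← hc']
  have hπH : ∀ h ∈ H, α h = 0 := fun h hh => by
    show Coalgebra.counit (R := k) (π h) = 0
    simp [π, Submodule.projectionOnto_apply_right hc ⟨h, hh⟩]
  have hα1 : α 1 = 1 := by
    show Coalgebra.counit (R := k) (π 1) = 1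
    simp [π, Submodule.projectionOnto_apply_left hc ⟨1, Submodule.mem_span_singleton_self 1⟩]
  refine ⟨α, LinearMap.ext fun a => ?_, hα1⟩
  obtain ⟨x, hx, h, hh, rfl⟩ := Submodule.mem_sup.1 (hc.sup_eq_top.symm ▸ Submodule.mem_top :
    a ∈ Submodule.span k {(1 : A)} ⊔ H)
  obtain ⟨c, rfl⟩ := Submodule.mem_span_singleton.1 hx
  obtain ⟨z, hz⟩ := hH h hh
  have h0 : α.rTensor A (HopfRep.Comod.coact (k := k) (A := A) (V := A) h) = 0 := by
    rw [← hz, ← LinearMap.rTensor_comp_apply, show α ∘ₗ H.subtype = 0 from LinearMap.ext fun y => hπH y y.2,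
      LinearMap.rTensor_zero, LinearMap.zero_apply]
  simp only [LinearMap.comp_apply, map_add, map_smul, h0, hπH h hh, hα1]
  show c • ((1 : k) ⊗ₜ[k] (1 : A)) + (0 : k) ⊗ₜ[k] (1 : A) = c • α.rTensor A (Coalgebra.comul (R := k) (1 : A)) + 0
  simp [Bialgebra.comul_one, Algebra.TensorProduct.one_def, hα1]

end Groth.Agent.S12926
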