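import Groth.Statements.S12931
import Mathlib

set_option autoImplicit false
universe u v w
open HopfRep

namespace Groth.Agent.S12931

/-- Let `R` be a commutative ring, `Γ` a finite set and `T` a commutative `R`-algebra which is
connected: nonzero, with no idempotents other than `0` and `1`. Then `γ ↦ (evaluation at γ : (Γ → R)
→ R → T)` is a bijection from `Γ` onto the `R`-algebra maps `(Γ → R) → T`: every such map sends
exactly one of the indicator functions to `1` and the others to `0`. (Only the bijection of sets is
stated; when `Γ` is a group, the compatibility with the group structures on both sides is not.) -/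
theorem result
    (R : Type u) [CommRing R] (Γ : Type v) [Finite Γ]
    (T : Type w) [CommRing T] [Algebra R T] [Nontrivial T]
    (hT : ∀ e : T, IsIdempotentElem e → e = 0 ∨ e = 1) :
    Function.Bijective (fun γ : Γ => (Algebra.ofId R T).comp (Pi.evalAlgHom R (fun _ : Γ => R) γ)) := by
  classical
  refine ⟨fun γ δ h => ?_, fun φ => ?_⟩
  · by_contra hne
    have := DFunLike.congr_fun h (Pi.single γ 1)
    simp [Pi.single_eq_of_ne (fun e : δ = γ => hne e.symm)] at this
  · cases nonempty_fintype Γ
    let e : Γ → T := fun γ => φ (Pi.single γ 1)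
    have he : ∀ γ, e γ = 0 ∨ e γ = 1 := fun γ => hT _ (by
      show φ _ * φ _ = φ _
      rw [← map_mul, ← Pi.single_mul, one_mul])
    have hsum : ∑ γ, e γ = 1 := by
      simp only [e, ← map_sum]
      rw [Finset.univ_sum_single, ← map_one φ]
      rfl
    obtain ⟨γ, hγ⟩ : ∃ γ, e γ = 1 := by
      by_contra hno
      refine one_ne_zero (α := T) ?_
      rw [← hsum]
      exact Finset.sum_eq_zero fun γ _ => (he γ).resolve_right fun h => hno ⟨γ, h⟩
    refine ⟨γ, AlgHom.ext fun f => ?_⟩
    show algebraMap R T (f γ) = φ f
    have h : f * Pi.single γ 1 = algebraMap R (Γ → R) (f γ) * Pi.single γ 1 := by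
      funext δ
      by_cases hd : δ = γ
      · subst hd; simp
      · simp [Pi.single_eq_of_ne hd]
    have h2 := congrArg φ h
    rw [map_mul, map_mul, AlgHom.commutes, show φ (Pi.single γ 1) = 1 from hγ, mul_one, mul_one] at h2
    exact h2.symm

end Groth.Agent.S12931
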