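import Groth.Statements.S12932
import Mathlib.RingTheory.Invariant.Basic
import Mathlib.LinearAlgebra.LinearIndependent.Basic

set_option autoImplicit false
universe u v
open scoped BigOperators
open InvTh

namespace Groth.Agent.S12932

/-- Let `B` be a commutative ring with an action of a finite group `Γ` by ring automorphisms, and call a
prime ideal `P` of `B` tame when the order of its inertia group `{γ | γ • x - x ∈ P for all x}` is
not divisible by the characteristic of `B/P` (its ramification group is trivial). Then every prime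
of `B` is tame if and only if the trace `b ↦ Σ_γ γ • b`, which takes values in the invariant ring
`B^Γ` and is `B^Γ`-linear, is onto `B^Γ` — equivalently, some element of `B` has trace `1`. -/
theorem result
    (B : Type u) [CommRing B] (Γ : Type v) [Group Γ] [Fintype Γ] [MulSemiringAction Γ B] :
    (∃ b : B, ∑ γ : Γ, γ • b = 1) ↔
      ∀ P : Ideal B, P.IsPrime → ((Nat.card (P.inertia Γ) : ℕ) : B ⧸ P) ≠ 0 := by
  classical
  -- key: modulo a prime, the trace is `|inertia|` times a sum of distinct homomorphisms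
  have key : ∀ P : Ideal B, P.IsPrime → ∃ S : Finset (B →* B ⧸ P), S.Nonempty ∧
      ∀ b : B, Ideal.Quotient.mk P (∑ γ : Γ, γ • b) = ((Nat.card (P.inertia Γ) : ℕ) : B ⧸ P) * ∑ φ ∈ S, φ b := by
    intro P hP
    let F : Γ → (B →* B ⧸ P) := fun γ =>
      (Ideal.Quotient.mk P).toMonoidHom.comp (MulDistribMulAction.toMonoidHom B γ)
    have hF : ∀ γ b, F γ b = Ideal.Quotient.mk P (γ • b) := fun _ _ => rfl
    refine ⟨Finset.univ.image F, Finset.univ_nonempty.image F, fun b => ?_⟩
    rw [map_sum, ← Finset.sum_fiberwise_of_maps_to (g := F) (t := Finset.univ.image F)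
      (fun γ _ => Finset.mem_image_of_mem F (Finset.mem_univ γ)), Finset.mul_sum]
    refine Finset.sum_congr rfl fun φ hφ => ?_
    obtain ⟨g, -, rfl⟩ := Finset.mem_image.mp hφ
    rw [Finset.sum_congr rfl (g := fun _ => F g b) fun γ hγ => by
      rw [← hF, (Finset.mem_filter.mp hγ).2], Finset.sum_const, nsmul_eq_mul]
    congr 2
    have hmem : ∀ t : Γ, t ∈ P.inertia Γ ↔ F (t * g) = F g := by
      intro t
      rw [MonoidHom.ext_iff]
      simp only [hF, Ideal.Quotient.eq, mul_smul]
      constructor
      · intro h x; exact h (g • x)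
      · intro h x; simpa using h (g⁻¹ • x)
    rw [Nat.card_eq_fintype_card, ← Fintype.card_subtype]
    refine Fintype.card_congr
      ((Equiv.mulRight g).subtypeEquiv (fun t => ?_)).symm
    exact hmem t
  constructor
  · rintro ⟨b, hb⟩ P hP h0
    obtain ⟨S, -, hS⟩ := key P hP
    have := hS b
    rw [hb, h0, zero_mul, map_one] at this
    exact one_ne_zero this
  · intro h
    let A := FixedPoints.subring B Γ
    have : Algebra.IsInvariant A B Γ := ⟨fun b hb => ⟨⟨b, hb⟩, rfl⟩⟩
    have := Algebra.IsInvariant.isIntegral A B Γ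
    have htr : ∀ b : B, (∑ γ : Γ, γ • b) ∈ A := fun b g => by
      rw [Finset.smul_sum]
      exact Fintype.sum_equiv (Equiv.mulLeft g) _ _ fun γ => (mul_smul g γ b).symm
    let I : Ideal A :=
      { carrier := {a | ∃ b : B, ∑ γ : Γ, γ • b = (a : B)}
        add_mem' := by
          rintro a a' ⟨b, hb⟩ ⟨b', hb'⟩
          exact ⟨b + b', by simp [smul_add, Finset.sum_add_distrib, hb, hb']⟩
        zero_mem' := ⟨0, by simp⟩
        smul_mem' := by
          rintro c a ⟨b, hb⟩
          refine ⟨(c : B) * b, ?_⟩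
          show _ = (c : B) * (a : B)
          rw [← hb, Finset.mul_sum]
          exact Finset.sum_congr rfl fun γ _ => by rw [smul_mul', c.2 γ] }
    suffices hI : I = ⊤ by
      obtain ⟨b, hb⟩ : (1 : A) ∈ I := hI ▸ Submodule.mem_top
      exact ⟨b, hb⟩
    by_contra hI
    obtain ⟨m, hm, hle⟩ := Ideal.exists_le_maximal I hI
    obtain ⟨Q, hQ, hQm⟩ := Ideal.exists_ideal_over_maximal_of_isIntegral (S := B) m (by
      intro a ha
      rw [RingHom.mem_ker] at ha
      rw [show a = 0 from Subtype.ext ha]
      exact zero_mem m)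
    obtain ⟨S, hne, hS⟩ := key Q hQ.isPrime
    have hzero : ∀ b : B, ∑ φ ∈ S, φ b = 0 := fun b => by
      have hmem : (⟨_, htr b⟩ : A) ∈ m := hle ⟨b, rfl⟩
      rw [← hQm] at hmem
      have h1 := hS b
      rw [show Ideal.Quotient.mk Q (∑ γ : Γ, γ • b) = 0 from Ideal.Quotient.eq_zero_iff_mem.mpr hmem] at h1
      exact (mul_eq_zero.mp h1.symm).resolve_left (h Q hQ.isPrime)
    obtain ⟨φ, hφ⟩ := hne
    have hli := linearIndependent_monoidHom B (B ⧸ Q)
    rw [linearIndependent_iff'] at hli
    exact one_ne_zero (hli S (fun _ => (1 : B ⧸ Q)) (funext fun b => by simpa using hzero b) φ hφ)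

end Groth.Agent.S12932
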