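import Groth.Statements.S12934
import Mathlib.GroupTheory.Sylow
import Mathlib.RingTheory.LocalRing.ResidueField.Basic
import Mathlib.RingTheory.IntegralDomain
import Mathlib.RingTheory.RootsOfUnity.Basic
import Mathlib.Algebra.CharP.Lemmas
import Mathlib.GroupTheory.Perm.Cycle.Type

set_option autoImplicit false
universe u v
open InvTh

namespace Groth.Agent.S12934

/-- Let `B` be a local commutative ring with maximal ideal `m` and residue field `k`, and `Γ` a finite
group acting faithfully on `B` by ring automorphisms, such that every element of `Γ` acts trivially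
modulo `m` (the whole group is inertia) and maps each principal ideal of `B` into itself (every
ideal is stable). Let `S ⊆ Γ` be the set of `γ` with `γ b ∈ b + b m` for all `b`. Then: if `k` has
characteristic `0`, `S = {1}`; if `k` has characteristic `p > 0`, `S` is (the underlying set of) a
Sylow `p`-subgroup; every commutator of `Γ` lies in `S`, so `Γ/S` is abelian; and whenever the class
of `γ` in `Γ/S` has order `n` (`γ^n ∈ S`, no smaller positive power in `S`), `k` contains a
primitive `n`-th root of unity. (The published statement also bounds the number of generators of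
`Γ/S` by the number of generators of the monoid of principal ideals; that clause is not included.) -/
theorem result
    (B : Type u) [CommRing B] [IsLocalRing B]
    (Γ : Type v) [Group Γ] [Finite Γ] [MulSemiringAction Γ B] [FaithfulSMul Γ B]
    (hin : ∀ (γ : Γ) (b : B), γ • b - b ∈ IsLocalRing.maximalIdeal B)
    (hst : ∀ (γ : Γ) (b : B), ∃ u : B, γ • b = b * u)
    (S : Set Γ)
    (hS : ∀ γ : Γ, γ ∈ S ↔ ∀ b : B, ∃ x ∈ IsLocalRing.maximalIdeal B, γ • b = b + b * x) :
    (ringChar (IsLocalRing.ResidueField B) = 0 → S = {1}) ∧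
      (∀ (p : ℕ) [Fact p.Prime], ringChar (IsLocalRing.ResidueField B) = p →
        ∃ Q : Sylow p Γ, (Q : Set Γ) = S) ∧
      (∀ γ δ : Γ, γ * δ * γ⁻¹ * δ⁻¹ ∈ S) ∧
      (∀ (γ : Γ) (n : ℕ), 0 < n → γ ^ n ∈ S → (∀ i : ℕ, 0 < i → i < n → γ ^ i ∉ S) →
        ∃ ζ : IsLocalRing.ResidueField B, IsPrimitiveRoot ζ n) := by
  classical
  let res := IsLocalRing.residue B
  have hres : ∀ x, res x = 0 ↔ x ∈ IsLocalRing.maximalIdeal B := fun x => IsLocalRing.residue_eq_zero_iff x
  have hinv : ∀ (γ : Γ) (b : B), res (γ • b) = res b := fun γ b => by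
    rw [← sub_eq_zero, ← map_sub, hres]; exact hin γ b
  choose u hu using hst
  have huniq : ∀ (b : B), b ≠ 0 → ∀ v w : B, b * v = b * w → res v = res w := by
    intro b hb v w h
    rw [← sub_eq_zero, ← map_sub, hres]
    by_contra hn
    exact hb (((IsLocalRing.notMem_maximalIdeal.mp hn).mul_left_eq_zero).mp (by rw [mul_sub, h, sub_self]))
  let χ : {b : B // b ≠ 0} → Γ →* IsLocalRing.ResidueField B := fun b =>
    { toFun := fun γ => res (u γ b)
      map_one' := by
        rw [← map_one res]
        exact huniq b.1 b.2 _ _ (by rw [← hu, one_smul, mul_one])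
      map_mul' := fun γ δ => by
        rw [← hinv γ (u δ b), ← map_mul]
        refine huniq b.1 b.2 _ _ ?_
        rw [← hu, mul_smul, hu δ b, smul_mul', hu γ b, mul_assoc] }
  let K : Subgroup Γ := ⨅ b, (χ b).toHomUnits.ker
  have hK : ∀ γ, γ ∈ K ↔ ∀ b, χ b γ = 1 := fun γ => by
    simp only [K, Subgroup.mem_iInf, MonoidHom.mem_ker, Units.ext_iff, MonoidHom.coe_toHomUnits, Units.val_one]
  have hSK : ∀ γ, γ ∈ S ↔ γ ∈ K := by
    intro γ
    rw [hS, hK]
    constructor
    · intro h b
      obtain ⟨x, hx, hb⟩ := h b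
      show res (u γ b) = 1
      rw [huniq b.1 b.2 (u γ b) (1 + x) (by rw [← hu, hb, mul_add, mul_one]), map_add, (hres x).mpr hx, map_one, add_zero]
    · intro h b
      by_cases hb : b = 0
      · exact ⟨0, zero_mem _, by simp [hb]⟩
      · refine ⟨u γ b - 1, (hres _).mp ?_, ?_⟩
        · rw [map_sub, map_one, show res (u γ b) = 1 from h ⟨b, hb⟩, sub_self]
        · rw [hu γ b]; ring
  have hcar : S = (K : Set Γ) := Set.ext hSK
  have htor : ∀ γ ∈ K, ∀ q : ℕ, (q : IsLocalRing.ResidueField B) ≠ 0 → γ ^ q = 1 → γ = 1 := by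
    intro γ hγ q hq hpow
    refine FaithfulSMul.eq_of_smul_eq_smul (α := B) fun b => ?_
    rw [one_smul]
    by_contra hne
    let c := γ • b - b
    have hc : c ≠ 0 := sub_ne_zero.mpr hne
    have key : ∀ i : ℕ, ∃ v : B, res v = (i : IsLocalRing.ResidueField B) ∧ γ ^ i • b = b + c * v := by
      intro i
      induction i with
      | zero => exact ⟨0, by simp, by simp⟩
      | succ i ih =>
        obtain ⟨v, hv, hb⟩ := ih
        refine ⟨v + u (γ ^ i) c, ?_, ?_⟩
        · rw [map_add, hv, show res (u (γ ^ i) c) = 1 from (hK _).mp (pow_mem hγ i) ⟨c, hc⟩]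
          simp
        · have : γ ^ (i + 1) • b = γ ^ i • (b + c) := by rw [pow_succ, mul_smul, add_sub_cancel]
          rw [this, smul_add, hb, hu (γ ^ i) c]; ring
    obtain ⟨v, hv, hb⟩ := key q
    rw [hpow, one_smul, left_eq_add] at hb
    refine hc ((IsUnit.mul_left_eq_zero ?_).mp hb)
    rw [← IsLocalRing.notMem_maximalIdeal, ← hres, hv]
    exact hq
  haveI : Fintype Γ := Fintype.ofFinite Γ
  haveI : K.Normal := by
    constructor
    intro γ hγ δ
    rw [hK] at hγ ⊢
    intro b
    rw [map_mul, map_mul, hγ b, mul_one, ← map_mul, mul_inv_cancel, map_one]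
  refine ⟨fun h0 => ?_, fun p _ hp => ?_, fun γ δ => ?_, fun γ n hn hγn hmin => ?_⟩
  · haveI := ringChar.eq_iff.mp h0 |>.charP_to_charZero
    rw [hcar]
    refine Set.eq_singleton_iff_unique_mem.mpr ⟨K.one_mem, fun γ hγ => ?_⟩
    exact htor γ hγ (orderOf γ) (Nat.cast_ne_zero.mpr (orderOf_pos γ).ne') (pow_orderOf_eq_one γ)
  · haveI : CharP (IsLocalRing.ResidueField B) p := hp ▸ ringChar.charP _
    have hpK : IsPGroup p K := by
      intro g
      obtain ⟨m, q, hq, hm⟩ := Nat.exists_eq_pow_mul_and_not_dvd (orderOf_pos g).ne' p (Fact.out : p.Prime).ne_one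
      refine ⟨m, Subtype.ext ?_⟩
      refine htor _ (g ^ p ^ m).2 q (fun h => hq ((CharP.cast_eq_zero_iff _ p q).mp h)) ?_
      rw [← SubmonoidClass.coe_pow, ← pow_mul, ← hm, pow_orderOf_eq_one]
      rfl
    have hidx : ¬ p ∣ K.index := by
      intro hd
      rw [Subgroup.index_eq_card] at hd
      obtain ⟨x, hx⟩ := exists_prime_orderOf_dvd_card' p hd
      obtain ⟨γ, rfl⟩ := QuotientGroup.mk_surjective x
      have hpow : γ ^ p ∈ K := by
        rw [← QuotientGroup.eq_one_iff, QuotientGroup.mk_pow, ← hx, pow_orderOf_eq_one]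
      have hγ : γ ∈ K := (hK γ).mpr fun b => by
        have h1 := (hK _).mp hpow b
        rw [map_pow] at h1
        have h2 : (χ b γ - 1) ^ p = 0 := by rw [sub_pow_char, h1, one_pow, sub_self]
        exact sub_eq_zero.mp (eq_zero_of_pow_eq_zero h2)
      rw [(QuotientGroup.eq_one_iff γ).mpr hγ, orderOf_one] at hx
      exact (Fact.out : p.Prime).one_lt.ne hx
    exact ⟨hpK.toSylow hidx, by rw [hcar]; rfl⟩
  · rw [hSK, hK]
    intro b
    rw [map_mul, map_mul, map_mul, mul_right_comm (χ b γ), ← map_mul, mul_inv_cancel, map_one, one_mul,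
      ← map_mul, mul_inv_cancel, map_one]
  · let H : Subgroup (IsLocalRing.ResidueField B)ˣ := Subgroup.closure (Set.range fun b => (χ b).toHomUnits γ)
    haveI : NeZero n := ⟨hn.ne'⟩
    have hle : H ≤ rootsOfUnity n (IsLocalRing.ResidueField B) := by
      refine (Subgroup.closure_le _).mpr ?_
      rintro _ ⟨b, rfl⟩
      rw [SetLike.mem_coe, mem_rootsOfUnity, ← map_pow]
      exact Units.ext ((hK _).mp ((hSK _).mp hγn) b)
    haveI : Finite H := Finite.of_injective (Subgroup.inclusion hle) (Subgroup.inclusion_injective hle)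
    obtain ⟨g, hg⟩ := IsCyclic.exists_generator (α := H)
    have hgn : orderOf g ∣ n := orderOf_dvd_of_pow_eq_one (Subtype.ext (by simpa using hle g.2))
    have hd : orderOf g = n := by
      refine le_antisymm (Nat.le_of_dvd hn hgn) (not_lt.mp fun hlt => hmin (orderOf g) (orderOf_pos g) hlt ?_)
      rw [hSK, hK]
      intro b
      have hmem : (χ b).toHomUnits γ ∈ H := Subgroup.subset_closure ⟨b, rfl⟩
      obtain ⟨j, hj⟩ := Subgroup.mem_zpowers_iff.mp (hg ⟨_, hmem⟩)
      have : (⟨_, hmem⟩ : H) ^ orderOf g = 1 := by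
        rw [← hj, ← zpow_natCast, ← zpow_mul, mul_comm, zpow_mul, zpow_natCast, pow_orderOf_eq_one, one_zpow]
      have h2 := congrArg (fun z : H => ((z : (IsLocalRing.ResidueField B)ˣ) : IsLocalRing.ResidueField B)) this
      simpa using h2
    refine ⟨((g : (IsLocalRing.ResidueField B)ˣ) : IsLocalRing.ResidueField B), ?_⟩
    rw [IsPrimitiveRoot.coe_units_iff, ← hd, ← Subgroup.orderOf_coe g]
    exact IsPrimitiveRoot.orderOf _

end Groth.Agent.S12934
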