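import Groth.Statements.S12935
import Mathlib

set_option autoImplicit false
universe u v
open InvTh

namespace Groth.Agent.S12935

/-- Let `B` be a commutative ring with an action of a finite group `Γ` by ring automorphisms, `Ω` a
normal subgroup of `Γ`, `B^Ω` the subring of `Ω`-invariants (stable under `Γ`, with the induced
action of `Γ/Ω`), and `P` a prime ideal of `B`. Then (decomposition groups) an element `γ` maps `P ∩
B^Ω` onto itself if and only if `γω` maps `P` onto itself for some `ω ∈ Ω`; and (inertia groups) `γ`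
fixes `B^Ω` modulo `P ∩ B^Ω` if and only if `γω` fixes `B` modulo `P` for some `ω ∈ Ω`. In other
words the decomposition and inertia groups of `P ∩ B^Ω` under `Γ/Ω` are the images of those of `P`.
(The published statement also asserts the same for the ramification groups, the Sylow subgroups of
the inertia groups at the residue characteristic; that clause is not included here.) -/
theorem result
    (B : Type u) [CommRing B] (Γ : Type v) [Group Γ] [Finite Γ] [MulSemiringAction Γ B]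
    (Ω : Subgroup Γ) [Ω.Normal] (P : Ideal B) [P.IsPrime] (γ : Γ) :
    ((∀ x : B, (∀ ω ∈ Ω, ω • x = x) → (x ∈ P ↔ γ • x ∈ P)) ↔
        ∃ ω ∈ Ω, ∀ x : B, x ∈ P ↔ (γ * ω) • x ∈ P) ∧
      ((∀ x : B, (∀ ω ∈ Ω, ω • x = x) → γ • x - x ∈ P) ↔
        ∃ ω ∈ Ω, ∀ x : B, (γ * ω) • x - x ∈ P) := by
  open Pointwise in
  classical
  let A := FixedPoints.subring B Ω
  have : SMulCommClass Ω A B := ⟨fun ω a b => by
    show (ω : Γ) • ((a : B) * b) = (a : B) * ((ω : Γ) • b)
    rw [smul_mul', show (ω : Γ) • (a : B) = (a : B) from a.2 ω]⟩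
  have : Algebra.IsInvariant A B Ω := ⟨fun b hb => ⟨⟨b, hb⟩, rfl⟩⟩
  have hst : ∀ (g : Γ), g • P = P ↔ ∀ x : B, x ∈ P ↔ g • x ∈ P := by
    intro g
    constructor
    · intro h x
      exact ⟨fun hy => h ▸ Ideal.smul_mem_pointwise_smul g x P hy,
        fun hy => Ideal.smul_mem_pointwise_smul_iff.1 (h.symm ▸ hy)⟩
    · intro h
      ext x
      rw [Ideal.mem_pointwise_smul_iff_inv_smul_mem, h (g⁻¹ • x), smul_inv_smul]
  have part1 : (∀ x : B, (∀ ω ∈ Ω, ω • x = x) → (x ∈ P ↔ γ • x ∈ P)) →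
      ∃ ω ∈ Ω, ∀ x : B, x ∈ P ↔ (γ * ω) • x ∈ P := by
    intro h
    have hp : (γ⁻¹ • P).IsPrime := Ideal.IsPrime.smul γ⁻¹
    obtain ⟨⟨ω, hω⟩, he⟩ := Algebra.IsInvariant.exists_smul_of_under_eq A B Ω P (γ⁻¹ • P) (by
      ext ⟨a, ha⟩
      simp only [Ideal.under_def, Ideal.mem_comap]
      rw [Ideal.mem_inv_pointwise_smul_iff]
      exact h a fun ω hω => ha ⟨ω, hω⟩)
    refine ⟨ω, hω, (hst _).1 ?_⟩
    have he' : γ⁻¹ • P = ω • P := he
    rw [mul_smul, ← he', smul_inv_smul]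
  refine ⟨⟨part1, fun ⟨ω, hω, h⟩ x hx => ?_⟩, ⟨fun h => ?_, fun ⟨ω, hω, h⟩ x hx => ?_⟩⟩
  · simpa [mul_smul, hx ω hω] using h x
  · obtain ⟨ω₀, hω₀, h₀⟩ := part1 fun x hx => by
      constructor
      · intro hxP
        simpa using P.add_mem (h x hx) hxP
      · intro hxP
        simpa using P.sub_mem hxP (h x hx)
    let p : Ideal A := P.under A
    let g := γ * ω₀
    let σ : (B ⧸ P) ≃ₐ[A ⧸ p] (B ⧸ P) := AlgEquiv.ofRingEquiv
      (f := Ideal.quotientEquiv P P (MulSemiringAction.toRingEquiv Γ B g) (by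
        exact ((hst g).2 h₀).symm)) (fun a => by
        obtain ⟨a, rfl⟩ := Ideal.Quotient.mk_surjective a
        show Ideal.Quotient.mk P (g • (a : B)) = Ideal.Quotient.mk P (a : B)
        rw [Ideal.Quotient.eq, mul_smul, show ω₀ • (a : B) = (a : B) from a.2 ⟨ω₀, hω₀⟩]
        exact h a fun ω hω => a.2 ⟨ω, hω⟩)
    obtain ⟨⟨⟨ω₁, hω₁⟩, hs⟩, hω₁'⟩ := Ideal.Quotient.stabilizerHom_surjective Ω p P σ
    refine ⟨ω₀ * ω₁⁻¹, Ω.mul_mem hω₀ (Ω.inv_mem hω₁), fun x => ?_⟩
    have h2 := DFunLike.congr_fun hω₁' (Ideal.Quotient.mk P (ω₁⁻¹ • x))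
    have h3 : Ideal.Quotient.mk P (ω₁ • ω₁⁻¹ • x) = Ideal.Quotient.mk P (g • ω₁⁻¹ • x) := h2
    rw [smul_inv_smul] at h3
    rw [← Ideal.Quotient.eq]
    rw [h3]
    simp [g, mul_smul]
  · simpa [mul_smul, hx ω hω] using h x

end Groth.Agent.S12935
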