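import Groth.Statements.S12936
import Mathlib

set_option autoImplicit false
universe u v
open InvTh

namespace Groth.Agent.S12936

/-- Let `B` be a commutative ring with an action of a finite group `Γ` by ring automorphisms and `P` a
maximal ideal of `B`, with decomposition group `D_P = {γ | γP = P}` and decomposition ring `D =
B^{D_P}`. Then `D = B^Γ + (P ∩ D)`: every element of `B` fixed by `D_P` is congruent modulo `P` to a
`Γ`-invariant element. Hence the residue field of `D` at `P ∩ D` is that of `B^Γ` at `P ∩ B^Γ`; for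
an arbitrary prime `P` the same equality of residue fields follows by localising at `P ∩ B^Γ`. (The
published statement prints this residue field as `k(P)`; the proof establishes the equality with the
residue field of `B^Γ` stated here.) -/
theorem result
    (B : Type u) [CommRing B] (Γ : Type v) [Group Γ] [Finite Γ] [MulSemiringAction Γ B]
    (P : Ideal B) [P.IsMaximal] (x : B)
    (hx : ∀ γ : Γ, (∀ y : B, y ∈ P ↔ γ • y ∈ P) → γ • x = x) :
    ∃ c : B, (∀ γ : Γ, γ • c = c) ∧ x - c ∈ P := by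
  classical
  cases nonempty_fintype Γ
  open Pointwise in
  let D : Subgroup Γ := MulAction.stabilizer Γ P
  have hD : ∀ γ : Γ, γ ∈ D ↔ ∀ y : B, y ∈ P ↔ γ • y ∈ P := by
    intro γ
    rw [MulAction.mem_stabilizer_iff]
    constructor
    · intro h y
      exact ⟨fun hy => h ▸ Ideal.smul_mem_pointwise_smul γ y P hy,
        fun hy => Ideal.smul_mem_pointwise_smul_iff.1 (h.symm ▸ hy)⟩
    · intro h
      ext y
      rw [Ideal.mem_pointwise_smul_iff_inv_smul_mem, h (γ⁻¹ • y), smul_inv_smul]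
  let others : Finset Γ := Finset.univ.filter fun γ => γ ∉ D
  have hne : ∀ γ ∈ others, ∃ z : B, γ • z ∈ P ∧ z ∉ P := by
    intro γ hγ
    by_contra hcon
    push_neg at hcon
    apply (Finset.mem_filter.1 hγ).2
    rw [MulAction.mem_stabilizer_iff]
    have hle : γ⁻¹ • P ≤ P := fun z hz => hcon z (Ideal.mem_inv_pointwise_smul_iff.1 hz)
    have hmax : (γ⁻¹ • P).IsMaximal := Ideal.map_isMaximal_of_equiv (MulSemiringAction.toRingEquiv Γ B γ⁻¹) (p := P)
    have := hmax.eq_of_le (Ideal.IsMaximal.ne_top ‹P.IsMaximal›) hle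
    nth_rewrite 1 [← this]
    rw [smul_inv_smul]
  choose z hz1 hz2 using hne
  let Y : B := ∏ γ ∈ others.attach, z γ.1 γ.2
  have hY : Y ∉ P := by
    intro h
    obtain ⟨γ, -, hγ⟩ := (Ideal.IsMaximal.isPrime ‹P.IsMaximal›).prod_mem_iff.1 h
    exact hz2 _ _ hγ
  obtain ⟨u, hu⟩ : ∃ u, Y * u - 1 ∈ P := by
    let _ := Ideal.Quotient.field P
    obtain ⟨u, hu⟩ := Ideal.Quotient.mk_surjective ((Ideal.Quotient.mk P Y)⁻¹)
    refine ⟨u, Ideal.Quotient.eq.1 ?_⟩
    rw [map_mul, hu, map_one, mul_inv_cancel₀]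
    rwa [Ne, Ideal.Quotient.eq_zero_iff_mem]
  let y0 : B := Y * u
  have hy0 : ∀ γ, γ ∉ D → γ • y0 ∈ P := by
    intro γ hγ
    simp only [y0, Y, smul_mul', Finset.smul_prod']
    exact P.mul_mem_right _ ((Ideal.IsMaximal.isPrime ‹P.IsMaximal›).prod_mem_iff.2
      ⟨⟨γ, Finset.mem_filter.2 ⟨Finset.mem_univ _, hγ⟩⟩, Finset.mem_attach _ _, hz1 γ _⟩)
  let y : B := x * ∏ d : D, (d : Γ) • y0
  have hyfix : ∀ d ∈ D, d • y = y := by
    intro d hd
    simp only [y, smul_mul', hx d ((hD d).1 hd), Finset.smul_prod', ← mul_smul]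
    congr 1
    exact Fintype.prod_equiv (Equiv.mulLeft (⟨d, hd⟩ : D)) _ _ fun e => rfl
  have hy1 : x - y ∈ P := by
    rw [← Ideal.Quotient.eq_zero_iff_mem]
    have : ∀ d : D, Ideal.Quotient.mk P ((d : Γ) • y0) = 1 := fun d => by
      rw [← map_one (Ideal.Quotient.mk P), Ideal.Quotient.eq]
      have := ((hD d).1 d.2 (y0 - 1)).1 hu
      simpa [smul_sub] using this
    simp [y, this]
  have hy2 : ∀ γ, γ ∉ D → γ • y ∈ P := by
    intro γ hγ
    simp only [y, smul_mul', Finset.smul_prod']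
    refine P.mul_mem_left _ ((Ideal.IsMaximal.isPrime ‹P.IsMaximal›).prod_mem_iff.2 ⟨1, Finset.mem_univ _, ?_⟩)
    simpa using hy0 γ hγ
  let g : Γ ⧸ D → B := Quotient.lift (fun γ : Γ => γ • y) (by
    intro a b hab
    have h : a⁻¹ * b ∈ D := QuotientGroup.leftRel_apply.1 hab
    calc a • y = a • ((a⁻¹ * b) • y) := by rw [hyfix _ h]
      _ = b • y := by rw [← mul_smul, mul_inv_cancel_left])
  refine ⟨∑ q, g q, fun γ => ?_, ?_⟩
  · rw [Finset.smul_sum]
    refine Fintype.sum_equiv (MulAction.toPerm γ) _ _ fun q => ?_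
    induction q using QuotientGroup.induction_on with
    | _ a => exact (mul_smul γ a y).symm
  · rw [← Ideal.Quotient.eq, map_sum, Finset.sum_eq_single ((1 : Γ) : Γ ⧸ D)]
    · have : g ((1 : Γ) : Γ ⧸ D) = y := one_smul Γ y
      rw [this, Ideal.Quotient.eq]
      exact hy1
    · intro q _ hq
      induction q using QuotientGroup.induction_on with
      | _ a =>
        rw [Ideal.Quotient.eq_zero_iff_mem]
        exact hy2 a fun ha => hq (QuotientGroup.eq.2 (by simpa using D.inv_mem ha))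
    · simp

end Groth.Agent.S12936
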