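import Groth.Statements.S12937
import Mathlib.RingTheory.Invariant.Basic
import Mathlib.FieldTheory.SeparableDegree
import Mathlib.FieldTheory.PurelyInseparable.Basic
import Mathlib.LinearAlgebra.LinearIndependent.Basic
import Mathlib.RingTheory.Ideal.GoingUp
import Mathlib.RingTheory.Ideal.Quotient.Basic
import Mathlib.RingTheory.LittleWedderburn

set_option autoImplicit false
universe u v
open InvTh

namespace Groth.Agent.S12937

/-- Let `B` be a commutative ring with an action of a finite group `Γ` by ring automorphisms, `P` a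
maximal ideal of `B`, `T = {γ | γ x - x ∈ P for all x}` its inertia group, `B^T` the inertia ring
and `B^Γ` the ring of invariants, so that `k(P ∩ B^Γ) ⊆ k(P ∩ B^T) ⊆ k(P) = B/P`. Then `k(P ∩ B^T)`
is the largest separable extension of `k(P ∩ B^Γ)` inside `k(P)`: an element `x` of `B` is congruent
modulo `P` to a `T`-invariant element if and only if `x mod P` is a root of some polynomial with
`Γ`-invariant coefficients whose reduction modulo `P` is separable. (The published statement is for
every prime ideal `P`, as an equality of residue fields; this row takes `P` maximal, the case to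
which the published proof reduces by localising at `P ∩ B^Γ`.) -/
theorem result
    (B : Type u) [CommRing B] (Γ : Type v) [Group Γ] [Finite Γ] [MulSemiringAction Γ B]
    (P : Ideal B) [P.IsMaximal] (x : B) :
    (∃ y : B, (∀ γ : Γ, γ ∈ P.inertia Γ → γ • y = y) ∧ x - y ∈ P) ↔
      ∃ g : Polynomial B, (∀ (i : ℕ) (γ : Γ), γ • g.coeff i = g.coeff i) ∧
        (g.map (Ideal.Quotient.mk P)).Separable ∧ Polynomial.aeval x g ∈ P := by
  classical
  haveI : Fintype Γ := Fintype.ofFinite Γ
  letI : Field (B ⧸ P) := Ideal.Quotient.field P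
  let mk := Ideal.Quotient.mk P
  let T : Subgroup Γ := P.inertia Γ
  have hT : ∀ t ∈ T, ∀ b : B, mk (t • b) = mk b := fun t ht b => Ideal.Quotient.eq.mpr (ht b)
  -- inverses inside the invariants of a subgroup
  have hinvs : ∀ H : Subgroup Γ, ∀ z : B, (∀ h ∈ H, h • z = z) → mk z ≠ 0 →
      ∃ a : B, (∀ h ∈ H, h • a = a) ∧ mk (z * a) = 1 := by
    intro H z hz hne
    haveI : Algebra.IsInvariant (FixedPoints.subring B H) B H := ⟨fun b hb => ⟨⟨b, hb⟩, rfl⟩⟩
    haveI := Algebra.IsInvariant.isIntegral (FixedPoints.subring B H) B H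
    have hm : (P.comap (algebraMap (FixedPoints.subring B H) B)).IsMaximal :=
      Ideal.isMaximal_comap_of_isIntegral_of_isMaximal P
    have hnot : (⟨z, fun h => hz h h.2⟩ : FixedPoints.subring B H) ∉ P.comap (algebraMap (FixedPoints.subring B H) B) :=
      fun h => hne (Ideal.Quotient.eq_zero_iff_mem.mpr h)
    obtain ⟨a, m, hm', he⟩ := hm.exists_inv hnot
    refine ⟨a, fun h hh => a.2 ⟨h, hh⟩, ?_⟩
    have := congrArg (fun w : FixedPoints.subring B H => mk (w : B)) he
    have hm0 : mk ((m : FixedPoints.subring B H) : B) = 0 := Ideal.Quotient.eq_zero_iff_mem.mpr hm'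
    simpa [hm0, mul_comm] using this
  let k1 : Subfield (B ⧸ P) :=
    { carrier := {a | ∃ y : B, (∀ t ∈ T, t • y = y) ∧ mk y = a}
      zero_mem' := ⟨0, fun t _ => smul_zero t, map_zero mk⟩
      one_mem' := ⟨1, fun t _ => smul_one t, map_one mk⟩
      add_mem' := by
        rintro _ _ ⟨u, hu, rfl⟩ ⟨v, hv, rfl⟩
        exact ⟨u + v, fun t ht => by rw [smul_add, hu t ht, hv t ht], map_add mk u v⟩
      mul_mem' := by
        rintro _ _ ⟨u, hu, rfl⟩ ⟨v, hv, rfl⟩
        exact ⟨u * v, fun t ht => by rw [smul_mul', hu t ht, hv t ht], map_mul mk u v⟩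
      neg_mem' := by
        rintro _ ⟨u, hu, rfl⟩
        exact ⟨-u, fun t ht => by rw [smul_neg, hu t ht], map_neg mk u⟩
      inv_mem' := by
        rintro _ ⟨u, hu, rfl⟩
        by_cases h : mk u = 0
        · exact ⟨0, fun t _ => smul_zero t, by rw [h, inv_zero, map_zero]⟩
        · obtain ⟨a, ha, he⟩ := hinvs T u hu h
          exact ⟨a, ha, (eq_inv_of_mul_eq_one_right (by rwa [map_mul] at he))⟩ }
  -- `B/P` is purely inseparable over `k1`
  have hpi : ∀ z : B ⧸ P, IsIntegral k1 z ∧ (minpoly k1 z).natSepDegree = 1 := by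
    intro z
    obtain ⟨b, rfl⟩ := Ideal.Quotient.mk_surjective z
    let Q : Polynomial B := MulSemiringAction.charpoly T b
    have hmap : Q.map mk = (Polynomial.X - Polynomial.C (mk b)) ^ Fintype.card T := by
      simp only [Q, MulSemiringAction.charpoly, Polynomial.map_prod, Polynomial.map_sub, Polynomial.map_X, Polynomial.map_C]
      rw [Finset.prod_congr rfl fun t _ => by rw [show mk (t • b) = mk b from hT t.1 t.2 b], Finset.prod_const, Finset.card_univ]
    have hlift : Q.map mk ∈ Polynomial.lifts (algebraMap k1 (B ⧸ P)) := by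
      rw [Polynomial.lifts_iff_coeff_lifts]
      intro i
      exact ⟨⟨_, Q.coeff i, fun t ht => MulSemiringAction.smul_coeff_charpoly b i (⟨t, ht⟩ : T), rfl⟩, by rw [Polynomial.coeff_map]; rfl⟩
    obtain ⟨F, hF, -, hFm⟩ := Polynomial.lifts_and_degree_eq_and_monic hlift ((MulSemiringAction.monic_charpoly T b).map mk)
    have hroot : Polynomial.aeval (mk b) F = 0 := by
      rw [Polynomial.aeval_def, ← Polynomial.eval_map, hF, hmap]
      simp [Fintype.card_ne_zero]
    refine ⟨⟨F, hFm, hroot⟩, ?_⟩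
    have hdvd : (minpoly k1 (mk b)).map (algebraMap k1 (B ⧸ P)) ∣ (Polynomial.X - Polynomial.C (mk b)) ^ Fintype.card T := by
      rw [← hmap, ← hF]; exact Polynomial.map_dvd _ (minpoly.dvd k1 _ hroot)
    have hne : ((Polynomial.X - Polynomial.C (mk b)) ^ Fintype.card T) ≠ 0 := pow_ne_zero _ (Polynomial.X_sub_C_ne_zero _)
    have hsplit : ((minpoly k1 (mk b)).map (algebraMap k1 (B ⧸ P))).Splits :=
      Polynomial.Splits.of_dvd (Polynomial.Splits.pow (Polynomial.Splits.X_sub_C _) _) hne hdvd
    refine le_antisymm ?_ (Nat.one_le_iff_ne_zero.mpr (Polynomial.natSepDegree_ne_zero _ (minpoly.natDegree_pos ⟨F, hFm, hroot⟩).ne'))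
    rw [Polynomial.natSepDegree_eq_of_splits _ hsplit, Finset.card_le_one]
    intro a ha a' ha'
    have hr : ∀ c, c ∈ ((minpoly k1 (mk b)).aroots (B ⧸ P)).toFinset → c = mk b := by
      intro c hc
      rw [Multiset.mem_toFinset] at hc
      have := Multiset.mem_of_le (Polynomial.roots.le_of_dvd hne hdvd) hc
      rw [Polynomial.roots_pow, Polynomial.roots_X_sub_C, Multiset.nsmul_singleton] at this
      exact Multiset.eq_of_mem_replicate this
    rw [hr a ha, hr a' ha']
  constructor
  · rintro ⟨y, hy, hxy⟩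
    -- the decomposition group
    let D : Γ → Prop := fun γ => ∀ a ∈ P, γ • a ∈ P
    have hD : ∀ γ, D γ → ∀ a, γ • a ∈ P → a ∈ P := by
      intro γ hγ a ha
      let J : Ideal B := P.comap (MulSemiringAction.toRingHom Γ B γ)
      have hJ : P ≤ J := fun c hc => hγ c hc
      have hne : J ≠ ⊤ := fun h => by
        have : (1 : B) ∈ J := h ▸ Submodule.mem_top
        simp [J] at this
        exact Ideal.IsPrime.ne_top' ((Ideal.eq_top_iff_one P).mpr this)
      rw [Ideal.IsMaximal.eq_of_le inferInstance hne hJ]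
      exact ha
    have hDinv : ∀ γ, D γ → D γ⁻¹ := fun γ hγ a ha => hD γ hγ _ (by rwa [smul_inv_smul])
    have hDmul : ∀ γ δ, D γ → D δ → D (γ * δ) := fun γ δ hγ hδ a ha => by rw [mul_smul]; exact hγ _ (hδ a ha)
    have hDT : ∀ t ∈ T, D t := fun t ht a ha => by
      have := add_mem (ht a) ha
      simpa using this
    have hcong : ∀ γ, D γ → ∀ a c, mk a = mk c → mk (γ • a) = mk (γ • c) := fun γ hγ a c h => by
      rw [Ideal.Quotient.eq, ← smul_sub]; exact hγ _ (Ideal.Quotient.eq.mp h)
    have hconj : ∀ γ, D γ → ∀ t ∈ T, γ⁻¹ * t * γ ∈ T := fun γ hγ t ht a => by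
      have : (γ⁻¹ * t * γ) • a - a = γ⁻¹ • (t • (γ • a) - γ • a) := by
        rw [smul_sub, inv_smul_smul, mul_smul, mul_smul]
      rw [this]
      exact hDinv γ hγ _ (ht (γ • a))
    -- an inertia invariant separating `P` from its conjugates
    have he0 : ∀ γ, ¬ D γ → ∃ a, a ∉ P ∧ γ • a ∈ P := by
      intro γ hγ
      simp only [D, not_forall] at hγ
      obtain ⟨c, hc, hγc⟩ := hγ
      let J : Ideal B := P.comap (MulSemiringAction.toRingHom Γ B γ)
      by_contra hcon
      push Not at hcon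
      have hJP : J ≤ P := fun a ha => by
        by_contra h
        exact hcon a h ha
      haveI : J.IsMaximal := Ideal.comap_isMaximal_of_surjective _ (fun b => ⟨γ⁻¹ • b, smul_inv_smul γ b⟩)
      rw [← Ideal.IsMaximal.eq_of_le (I := J) inferInstance (Ideal.IsPrime.ne_top inferInstance) hJP] at hc
      exact hγc hc
    choose f hfP hfγ using he0
    let e0 : B := ∏ γ : {γ : Γ // ¬ D γ}, f γ.1 γ.2
    have he0P : mk e0 ≠ 0 := by
      rw [map_prod]
      exact Finset.prod_ne_zero_iff.mpr fun γ _ => fun h => hfP γ.1 γ.2 (Ideal.Quotient.eq_zero_iff_mem.mp h)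
    let e1 : B := ∏ t : T, (t : Γ) • e0
    have he1P : mk e1 ≠ 0 := by
      rw [map_prod]
      exact Finset.prod_ne_zero_iff.mpr fun t _ => by rw [hT t.1 t.2]; exact he0P
    have he1T : ∀ t ∈ T, t • e1 = e1 := by
      intro t ht
      simp only [e1, Finset.smul_prod', ← mul_smul]
      exact Fintype.prod_equiv (Equiv.mulLeft (⟨t, ht⟩ : T)) _ _ fun s => rfl
    obtain ⟨ai, haiT, hai⟩ := hinvs T e1 he1T he1P
    let e : B := e1 * ai
    have heT : ∀ t ∈ T, t • e = e := fun t ht => by simp only [e]; rw [smul_mul', he1T t ht, haiT t ht]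
    have he1 : mk e = 1 := hai
    have heD : ∀ γ, ¬ D γ → γ • e ∈ P := by
      intro γ hγ
      simp only [e, e1, smul_mul', Finset.smul_prod']
      refine P.mul_mem_right _ (Ideal.mem_of_dvd _ (Finset.dvd_prod_of_mem _ (Finset.mem_univ (1 : T))) ?_)
      rw [OneMemClass.coe_one, one_smul]
      simp only [e0, Finset.smul_prod']
      exact Ideal.mem_of_dvd _ (Finset.dvd_prod_of_mem _ (Finset.mem_univ (⟨γ, hγ⟩ : {γ : Γ // ¬ D γ}))) (hfγ γ hγ)
    -- sums over cosets
    let S : Finset (Γ ⧸ T) := Finset.univ.filter fun q => D q.out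
    let φ : Γ ⧸ T → (B →* B ⧸ P) := fun q => mk.toMonoidHom.comp (MulDistribMulAction.toMonoidHom B q.out)
    have hφ : ∀ q b, φ q b = mk (q.out • b) := fun _ _ => rfl
    obtain ⟨w0, hw0⟩ : ∃ w0, ∑ q ∈ S, φ q w0 ≠ 0 := by
      by_contra hcon
      push Not at hcon
      have hli := linearIndependent_monoidHom B (B ⧸ P)
      rw [linearIndependent_iff'] at hli
      have hinj : Set.InjOn φ S := by
        intro q hq q' hq' h
        simp only [S, Finset.coe_filter, Finset.mem_univ, true_and, Set.mem_setOf_eq] at hq hq'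
        rw [← q.out_eq', ← q'.out_eq', QuotientGroup.eq]
        intro a
        have ha := DFunLike.congr_fun h a
        rw [hφ, hφ] at ha
        have := hcong _ (hDinv _ hq) _ _ ha.symm
        rw [inv_smul_smul, ← mul_smul] at this
        exact Ideal.Quotient.eq.mp this
      have hne : S.Nonempty := ⟨((1 : Γ) : Γ ⧸ T), by
        simp only [S, Finset.mem_filter, Finset.mem_univ, true_and]
        obtain ⟨t, ht⟩ := QuotientGroup.mk_out_eq_mul T (1 : Γ)
        rw [ht, one_mul]
        exact hDT t.1 t.2⟩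
      obtain ⟨q, hq⟩ := hne
      refine one_ne_zero (hli (S.image φ) (fun _ => (1 : B ⧸ P)) (funext fun b => ?_) (φ q) (Finset.mem_image_of_mem φ hq))
      rw [Finset.sum_apply, Finset.sum_image hinj]
      simpa using hcon b
    obtain ⟨p, hp⟩ := ExpChar.exists k1
    haveI : ExpChar (B ⧸ P) p := expChar_of_injective_ringHom (algebraMap k1 (B ⧸ P)).injective p
    obtain ⟨n, hn⟩ := (minpoly.natSepDegree_eq_one_iff_pow_mem p).mp (hpi (mk w0)).2
    obtain ⟨⟨_, w, hwT, rfl⟩, hw⟩ := hn
    replace hw : mk w = mk w0 ^ p ^ n := hw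
    have hν : ∑ q ∈ S, mk (q.out • w) ≠ 0 := by
      rw [Finset.sum_congr rfl (g := fun q => φ q w0 ^ p ^ n) fun q hq => ?_]
      · rw [← sum_pow_char_pow p n S]
        exact pow_ne_zero _ hw0
      · simp only [S, Finset.mem_filter, Finset.mem_univ, true_and] at hq
        rw [hφ, ← map_pow, ← smul_pow']
        exact hcong _ hq _ _ (by rw [map_pow]; exact hw)
    have mkInv : ∀ z : B, (∀ t ∈ T, t • z = z) → (∀ γ, D γ → mk (γ • z) = mk z) →
        ∃ Z : B, (∀ γ : Γ, γ • Z = Z) ∧ mk Z = mk z * ∑ q ∈ S, mk (q.out • w) := by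
      intro z hzT hzD
      have hTinv : ∀ t ∈ T, t • (z * e * w) = z * e * w := fun t ht => by
        rw [smul_mul', smul_mul', hzT t ht, heT t ht, hwT t ht]
      let g : Γ ⧸ T → B := Quotient.lift (fun γ => γ • (z * e * w)) (fun γ δ h => by
        obtain ⟨t, ht, rfl⟩ : ∃ t ∈ T, δ = γ * t :=
          ⟨γ⁻¹ * δ, QuotientGroup.leftRel_apply.mp h, (mul_inv_cancel_left γ δ).symm⟩
        rw [mul_smul, hTinv t ht])
      have hg : ∀ q : Γ ⧸ T, g q = q.out • (z * e * w) := fun q => by
        conv_lhs => rw [← q.out_eq']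
        rfl
      refine ⟨∑ q, g q, fun γ => ?_, ?_⟩
      · rw [Finset.smul_sum]
        refine Fintype.sum_equiv (MulAction.toPerm γ) _ _ fun q => ?_
        induction q using QuotientGroup.induction_on with
        | H δ => exact (mul_smul γ δ _).symm
      · rw [map_sum, Finset.mul_sum, Finset.sum_congr rfl fun q _ => by rw [hg q], ← Finset.sum_filter_add_sum_filter_not Finset.univ (fun q : Γ ⧸ T => D q.out)]
        rw [Finset.sum_eq_zero (s := Finset.univ.filter fun q : Γ ⧸ T => ¬ D q.out), add_zero]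
        · refine Finset.sum_congr rfl fun q hq => ?_
          simp only [S, Finset.mem_filter, Finset.mem_univ, true_and] at hq
          have h1 : mk (q.out • e) = 1 := by
            rw [hcong _ hq e 1 (by rw [he1, map_one]), smul_one, map_one]
          rw [smul_mul', smul_mul', map_mul, map_mul, h1, hzD _ hq, mul_one]
        · intro q hq
          simp only [Finset.mem_filter, Finset.mem_univ, true_and] at hq
          refine Ideal.Quotient.eq_zero_iff_mem.mpr ?_
          rw [smul_mul', smul_mul']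
          exact P.mul_mem_right _ (P.mul_mem_left _ (heD _ hq))
    have hfix : ∀ z : B, (∀ t ∈ T, t • z = z) → (∀ γ, D γ → mk (γ • z) = mk z) →
        ∃ Z : B, (∀ γ : Γ, γ • Z = Z) ∧ mk Z = mk z := by
      intro z hzT hzD
      obtain ⟨Z, hZ, hZz⟩ := mkInv z hzT hzD
      obtain ⟨Z1, hZ1, hZ1'⟩ := mkInv 1 (fun t _ => smul_one t) (fun γ _ => by rw [smul_one])
      rw [map_one, one_mul] at hZ1'
      obtain ⟨a, ha, hae⟩ := hinvs ⊤ Z1 (fun h _ => hZ1 h) (by rw [hZ1']; exact hν)
      refine ⟨Z * a, fun γ => by rw [smul_mul', hZ γ, ha γ trivial], ?_⟩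
      rw [map_mul, hZz, mul_assoc, ← hZ1', ← map_mul, hae, mul_one]
    -- the separable polynomial
    let C : Finset (B ⧸ P) := (Finset.univ.filter D).image fun γ => mk (γ • y)
    have hC : ∀ c ∈ C, ∃ γ, D γ ∧ mk (γ • y) = c := fun c hc => by
      obtain ⟨γ, hγ, rfl⟩ := Finset.mem_image.mp hc
      exact ⟨γ, (Finset.mem_filter.mp hγ).2, rfl⟩
    choose γc hγc hγy using hC
    let Q : Polynomial B := ∏ c ∈ C.attach, (Polynomial.X - Polynomial.C (γc c.1 c.2 • y))
    have hsm : ∀ (δ : Γ) (i : ℕ), δ • Q.coeff i = (∏ c ∈ C.attach, (Polynomial.X - Polynomial.C (δ • (γc c.1 c.2 • y)))).coeff i := by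
      intro δ i
      have hQ : Q.map (MulSemiringAction.toRingHom Γ B δ) = ∏ c ∈ C.attach, (Polynomial.X - Polynomial.C (δ • (γc c.1 c.2 • y))) := by
        simp [Q, Polynomial.map_prod]
      rw [← hQ, Polynomial.coeff_map]
      rfl
    have hQmap : Q.map mk = ∏ c ∈ C, (Polynomial.X - Polynomial.C c) := by
      rw [← Finset.prod_attach C]
      simp only [Q, Polynomial.map_prod, Polynomial.map_sub, Polynomial.map_X, Polynomial.map_C, hγy]
    have hQT : ∀ i, ∀ t ∈ T, t • Q.coeff i = Q.coeff i := by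
      intro i t ht
      rw [hsm]
      refine congrArg (fun F : Polynomial B => F.coeff i) (Finset.prod_congr rfl fun c _ => ?_)
      have := hy _ (hconj (γc c.1 c.2) (hγc c.1 c.2) t ht)
      rw [mul_smul, mul_smul, inv_smul_eq_iff] at this
      rw [this]
    have hQD : ∀ i γ, D γ → mk (γ • Q.coeff i) = mk (Q.coeff i) := by
      intro i γ hγ
      rw [hsm, ← Polynomial.coeff_map, ← Polynomial.coeff_map (p := Q), hQmap]
      refine congrArg (fun F : Polynomial (B ⧸ P) => F.coeff i) ?_
      simp only [Polynomial.map_prod, Polynomial.map_sub, Polynomial.map_X, Polynomial.map_C]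
      refine (Finset.prod_bij (fun c _ => mk (γ • (γc c.1 c.2 • y))) ?_ ?_ ?_ (fun c _ => rfl))
      · intro c _
        rw [← mul_smul]
        exact Finset.mem_image_of_mem _ (Finset.mem_filter.mpr ⟨Finset.mem_univ _, hDmul _ _ hγ (hγc c.1 c.2)⟩)
      · intro c _ c' _ h
        have := hcong _ (hDinv _ hγ) _ _ h
        rw [inv_smul_smul, inv_smul_smul, hγy, hγy] at this
        exact Subtype.ext this
      · intro c hc
        obtain ⟨δ, hδ, rfl⟩ := Finset.mem_image.mp hc
        have hδ' : mk ((γ⁻¹ * δ) • y) ∈ C :=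
          Finset.mem_image_of_mem _ (Finset.mem_filter.mpr ⟨Finset.mem_univ _, hDmul _ _ (hDinv _ hγ) (Finset.mem_filter.mp hδ).2⟩)
        refine ⟨⟨_, hδ'⟩, Finset.mem_attach _ _, ?_⟩
        rw [hcong γ hγ _ _ (hγy _ hδ'), mul_smul, smul_inv_smul]
    choose Z hZinv hZ using fun i => hfix (Q.coeff i) (hQT i) (hQD i)
    let g : Polynomial B := ∑ i ∈ Finset.range (Q.natDegree + 1), Polynomial.monomial i (Z i)
    have hgc : ∀ i, g.coeff i = if i < Q.natDegree + 1 then Z i else 0 := fun i => by
      simp [g, Polynomial.finsetSum_coeff, Polynomial.coeff_monomial, Finset.sum_ite_eq']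
    have hgmap : g.map mk = Q.map mk := by
      ext i
      rw [Polynomial.coeff_map, Polynomial.coeff_map, hgc]
      split
      · exact hZ i
      · rw [map_zero, Polynomial.coeff_eq_zero_of_natDegree_lt (by omega), map_zero]
    refine ⟨g, fun i γ => ?_, ?_, ?_⟩
    · rw [hgc]; split
      · exact hZinv i γ
      · exact smul_zero γ
    · rw [hgmap, hQmap]
      exact Polynomial.separable_prod_X_sub_C_iff'.mpr fun a _ a' _ h => h
    · have hy1 : mk y ∈ C := Finset.mem_image.mpr ⟨1, Finset.mem_filter.mpr ⟨Finset.mem_univ _, fun a ha => by rwa [one_smul]⟩, by rw [one_smul]⟩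
      rw [← Ideal.Quotient.eq_zero_iff_mem, Polynomial.coe_aeval_eq_eval, ← Polynomial.eval_map_apply, hgmap, hQmap,
        show mk x = mk y from Ideal.Quotient.eq.mpr hxy, Polynomial.eval_prod]
      exact Finset.prod_eq_zero hy1 (by simp)
  · rintro ⟨g, hg, hsep, hroot⟩
    have hlift : g.map mk ∈ Polynomial.lifts (algebraMap k1 (B ⧸ P)) := by
      rw [Polynomial.lifts_iff_coeff_lifts]
      intro i
      exact ⟨⟨_, g.coeff i, fun t _ => hg i t, rfl⟩, by rw [Polynomial.coeff_map]; rfl⟩
    obtain ⟨G, hG⟩ := Polynomial.mem_lifts _ |>.mp hlift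
    have hGsep : G.Separable := by
      rw [← Polynomial.separable_map (algebraMap k1 (B ⧸ P)), hG]
      exact hsep
    have hG0 : Polynomial.aeval (mk x) G = 0 := by
      rw [Polynomial.aeval_def, ← Polynomial.eval_map, hG, Polynomial.eval_map_apply]
      exact Ideal.Quotient.eq_zero_iff_mem.mpr (by rwa [Polynomial.coe_aeval_eq_eval] at hroot)
    have hsep' : (minpoly k1 (mk x)).Separable := hGsep.of_dvd (minpoly.dvd k1 _ hG0)
    have hdeg : (minpoly k1 (mk x)).natDegree = 1 := by rw [← hsep'.natSepDegree_eq_natDegree]; exact (hpi (mk x)).2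
    obtain ⟨⟨_, y, hy, rfl⟩, hxy⟩ := minpoly.natDegree_eq_one_iff.mp hdeg
    exact ⟨y, hy, Ideal.Quotient.eq.mp hxy.symm⟩

end Groth.Agent.S12937
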