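import Groth.Statements.S12942
import Groth.Agent.H7.AlgSt.Cover

set_option autoImplicit false
set_option backward.isDefEq.respectTransparency false
universe u
open CategoryTheory AlgebraicGeometry
open AlgSt

namespace Groth.Agent.S12942

/-- If a morphism f of algebraic stacks is representable by algebraic spaces, then its diagonal is
separated (as a morphism representable by algebraic spaces: every base change to a scheme is a
separated morphism of algebraic spaces). -/
theorem result
    (S : Scheme.{u}) (𝒳 : AlgSt.Cat S) (𝒴 : AlgSt.Cat S)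
    (h𝒳 : AlgSt.IsAlgStack Scheme.fppfPrecoverage 𝒳)
    (h𝒴 : AlgSt.IsAlgStack Scheme.fppfPrecoverage 𝒴)
    (f : 𝒳 ⥤ᵇ 𝒴)
    (hf : AlgSt.RepByAlgSp1 f) :
    AlgSt.RepByAlgSpWith AlgSp.IsSeparatedMor (FibCat.diag f) := Groth.Agent.H7.AlgSt.with_mono_prop (fun X Y hX _ a ha => by
  haveI : Mono a := ha
  exact Groth.Agent.H7.AlgSt.mono_isSeparated hX a) (Groth.Agent.H7.AlgSt.isMono_diag h𝒳 h𝒴 f hf)


end Groth.Agent.S12942
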