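import Groth.Statements.S12943
import Groth.Agent.H7.AlgSt.Sep

set_option autoImplicit false
set_option backward.isDefEq.respectTransparency false
universe u
open CategoryTheory AlgebraicGeometry
open AlgSt

namespace Groth.Agent.S12943

/-- For a morphism f of algebraic stacks that is representable by algebraic spaces, the following are
equivalent: f is separated (every base change to a scheme is a separated morphism of algebraic
spaces); the diagonal of f is a closed immersion; the diagonal of f is proper; the diagonal of f is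
universally closed. -/
theorem result
    (S : Scheme.{u}) (𝒳 : AlgSt.Cat S) (𝒴 : AlgSt.Cat S)
    (h𝒳 : AlgSt.IsAlgStack Scheme.fppfPrecoverage 𝒳)
    (h𝒴 : AlgSt.IsAlgStack Scheme.fppfPrecoverage 𝒴)
    (f : 𝒳 ⥤ᵇ 𝒴)
    (hf : AlgSt.RepByAlgSp1 f) :
    [AlgSt.RepByAlgSpWith AlgSp.IsSeparatedMor f, AlgSt.IsClosedImm (FibCat.diag f),
      AlgSt.IsSeparatedMor f, AlgSt.RepByAlgSpWith AlgSp.IsUnivClosedMor (FibCat.diag f)].TFAE := by
  tfae_have 1 → 2 := fun h => Groth.Agent.H7.AlgSt.with_diag_of_with Groth.Agent.H7.AlgSt.good_closedImm f h (fun _ _ _ _ a ha => ha)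
  tfae_have 2 → 3 := fun h => Groth.Agent.H7.AlgSt.with_mono_prop (fun _ _ hX hY a ha =>
    AlgSpTopo.proper_of_finite hX hY (AlgSpTopo.repWith_finite_of_closedImm ha)) h
  tfae_have 3 → 4 := fun h => Groth.Agent.H7.AlgSt.with_mono_prop (fun _ _ _ _ a ha => ha.2.2) h
  tfae_have 4 → 1 := fun h => Groth.Agent.H7.AlgSt.with_sep_of_diag f hf h
  tfae_finish


end Groth.Agent.S12943
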