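import Groth.Statements.S12946
import Groth.Agent.H7.AlgSt.Easy
import Groth.Agent.HensPoint.GeomUniTop

set_option autoImplicit false
set_option backward.isDefEq.respectTransparency false
universe u
open CategoryTheory AlgebraicGeometry
open AlgSt

namespace Groth.Agent.S12946

/-- A DM morphism of algebraic stacks is quasi-DM (an unramified morphism of algebraic spaces being
locally quasi-finite). -/
theorem result
    (S : Scheme.{u}) (𝒳 : AlgSt.Cat S) (𝒴 : AlgSt.Cat S)
    (h𝒳 : AlgSt.IsAlgStack Scheme.fppfPrecoverage 𝒳)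
    (h𝒴 : AlgSt.IsAlgStack Scheme.fppfPrecoverage 𝒴)
    (f : 𝒳 ⥤ᵇ 𝒴) :
    AlgSt.IsDMMor f → AlgSt.IsQuasiDMMor f := fun h => Groth.Agent.H7.AlgSt.with_mono_prop (fun _ _ _ _ _ ha => AlgSpTopo.locP_mono
  (fun _ _ g hg => by
    have := hg.1
    have := hg.2
    exact ⟨Groth.Agent.HensPoint.GeomUniTop.locallyQuasiFinite g, hg.1⟩) ha) h


end Groth.Agent.S12946
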