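import Groth.Statements.S12957
import Groth.Agent.H7.AlgSt.Cancel

set_option autoImplicit false
set_option backward.isDefEq.respectTransparency false
universe u
open CategoryTheory AlgebraicGeometry
open AlgSt

namespace Groth.Agent.S12957

/-- If the composite of f : 𝒳 → 𝒴 and g : 𝒴 → 𝒵 (morphisms of algebraic stacks) is quasi-DM, then f is
quasi-DM. -/
theorem result
    (S : Scheme.{u}) (𝒳 : AlgSt.Cat S) (𝒴 : AlgSt.Cat S) (𝒵 : AlgSt.Cat S)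
    (h𝒳 : AlgSt.IsAlgStack Scheme.fppfPrecoverage 𝒳)
    (h𝒴 : AlgSt.IsAlgStack Scheme.fppfPrecoverage 𝒴)
    (h𝒵 : AlgSt.IsAlgStack Scheme.fppfPrecoverage 𝒵)
    (f : 𝒳 ⥤ᵇ 𝒴) (g : 𝒴 ⥤ᵇ 𝒵) :
    AlgSt.IsQuasiDMMor (BasedFunctor.comp f g) → AlgSt.IsQuasiDMMor f := fun h => Groth.Agent.H7.AlgSt.with_diag_cancel Groth.Agent.H7.AlgSt.good_qdm
  (fun _ _ _ hX hY hZ a b ha hb => AlgSpTopo.locP_comp AlgSpTopo.etaleLocal_lqf hX hY hZ a b ha hb)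
  (fun _ _ hX hY a _ => Groth.Agent.H7.AlgSt.qdm_diagonal hX hY a)
  h𝒳.isStack.1 h𝒴.isStack.1 h𝒵.isStack.1 f g h (Groth.Agent.H7.AlgSt.rep1_diag_with h𝒴 h𝒵 g)


end Groth.Agent.S12957
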