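import Groth.Statements.S12971
import Groth.Agent.H7.AlgSt.Cover

set_option autoImplicit false
set_option backward.isDefEq.respectTransparency false
universe u
open CategoryTheory AlgebraicGeometry
open AlgSt

namespace Groth.Agent.S12971

/-- A monomorphism of algebraic stacks (representable by algebraic spaces and a monomorphism) is
separated and DM. -/
theorem result
    (S : Scheme.{u}) (𝒳 : AlgSt.Cat S) (𝒴 : AlgSt.Cat S)
    (h𝒳 : AlgSt.IsAlgStack Scheme.fppfPrecoverage 𝒳)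
    (h𝒴 : AlgSt.IsAlgStack Scheme.fppfPrecoverage 𝒴)
    (f : 𝒳 ⥤ᵇ 𝒴) :
    AlgSt.IsMono f → AlgSt.IsSeparatedMor f ∧ AlgSt.IsDMMor f := fun h => by
  have hd := Groth.Agent.H7.AlgSt.diag_equiv_of_ff f (fun ψ => Groth.Agent.H7.AlgSt.mono_full h𝒳.isStack.1 h𝒴.isStack.1 f h ψ)
    (Groth.Agent.H7.AlgSt.faithful_of_rep1 h𝒳.isStack.1 h𝒴.isStack.1 f (Groth.Agent.H7.AlgSt.rep1_of_with h))
  exact ⟨Groth.Agent.H7.AlgSt.with_equiv _ hd (fun U => AlgSpTopo.proper_of_finite (AlgSp.IsAlgSpace.yon_obj U)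
      (AlgSp.IsAlgSpace.yon_obj U) (AlgSp.repWith_id @IsFinite _)),
    Groth.Agent.H7.AlgSt.with_equiv _ hd (fun U => AlgSpTopo.locP_id AlgSpTopo.etaleLocal_unramified)⟩


end Groth.Agent.S12971
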