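import Groth.Statements.S12972
import Groth.Agent.H7.AlgSt.Inertia

set_option autoImplicit false
set_option backward.isDefEq.respectTransparency false
universe u
open CategoryTheory AlgebraicGeometry
open AlgSt

namespace Groth.Agent.S12972

/-- For a morphism f : 𝒳 → 𝒴 of algebraic stacks the following are equivalent: the relative inertia
𝓘_{𝒳/𝒴} → 𝒳 is separated; the diagonal of f is separated; the neutral section 𝒳 → 𝓘_{𝒳/𝒴} (the
second diagonal) is a closed immersion. All three morphisms are representable by algebraic spaces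
and the properties are the ones of such morphisms. -/
theorem result
    (S : Scheme.{u}) (𝒳 : AlgSt.Cat S) (𝒴 : AlgSt.Cat S)
    (h𝒳 : AlgSt.IsAlgStack Scheme.fppfPrecoverage 𝒳)
    (h𝒴 : AlgSt.IsAlgStack Scheme.fppfPrecoverage 𝒴)
    (f : 𝒳 ⥤ᵇ 𝒴) :
    [AlgSt.RepByAlgSpWith AlgSp.IsSeparatedMor (FibCat.inertiaToBase f),
      AlgSt.RepByAlgSpWith AlgSp.IsSeparatedMor (FibCat.diag f),
      AlgSt.IsClosedImm (FibCat.inertiaNeutral f)].TFAE := by
  tfae_have 1 → 3 := fun h => Groth.Agent.H7.AlgSt.inertia_section f (Groth.Agent.H7.AlgSt.with_diag_of_with Groth.Agent.H7.AlgSt.good_closedImm _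
    ((Groth.Agent.H7.AlgSt.with_inertia_iff f).1 h) (fun _ _ _ _ a ha => ha))
  tfae_have 3 → 2 := fun h => Groth.Agent.H7.AlgSt.with_sep_of_diag (FibCat.diag f) (Groth.Agent.H7.AlgSt.rep1_diag h𝒳 h𝒴 f)
    (Groth.Agent.H7.AlgSt.with_mono_prop (fun _ _ hX hY a ha =>
      (AlgSpTopo.proper_of_finite hX hY (AlgSpTopo.repWith_finite_of_closedImm ha)).2.2)
      ((Groth.Agent.H7.AlgSt.with_neutral_iff f).1 h))
  tfae_have 2 → 1 := fun h => (Groth.Agent.H7.AlgSt.with_inertia_iff f).2 (Groth.Agent.H7.AlgSt.with_fpFst (FibCat.diag f) (FibCat.diag f) h)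
  tfae_finish


end Groth.Agent.S12972
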