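import Groth.Statements.S12980
import Groth.Agent.H7.AlgSt.Qc
import Groth.Agent.AlgSpTopo.Thick

set_option autoImplicit false
set_option backward.isDefEq.respectTransparency false
universe u
open CategoryTheory AlgebraicGeometry
open AlgSt

namespace Groth.Agent.S12980

/-- A morphism f of algebraic stacks is quasi-separated if and only if its first and second diagonals
are both quasi-compact (as morphisms representable by algebraic spaces). -/
theorem result
    (S : Scheme.{u}) (𝒳 : AlgSt.Cat S) (𝒴 : AlgSt.Cat S)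
    (h𝒳 : AlgSt.IsAlgStack Scheme.fppfPrecoverage 𝒳)
    (h𝒴 : AlgSt.IsAlgStack Scheme.fppfPrecoverage 𝒴)
    (f : 𝒳 ⥤ᵇ 𝒴) :
    AlgSt.IsQuasiSeparatedMor f ↔
      AlgSt.RepByAlgSpWith AlgSp.IsQuasiCompactMor (FibCat.diag f) ∧
        AlgSt.RepByAlgSpWith AlgSp.IsQuasiCompactMor (FibCat.diag (FibCat.diag f)) := ⟨fun h => ⟨Groth.Agent.H7.AlgSt.with_mono_prop (fun _ _ _ _ a ha => ha.1) h,
    Groth.Agent.H7.AlgSt.with_diag_of_with Groth.Agent.H7.AlgSt.good_qc (FibCat.diag f) (Groth.Agent.H7.AlgSt.with_mono_prop (fun _ _ _ _ a ha => ha.2) h)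
      (fun _ _ hX hY a ha => (Groth.Agent.H7.AlgSt.qcqs_diagonal hX hY a ha).1)⟩,
  fun h => Groth.Agent.H7.AlgSt.with_and Groth.Agent.H7.AlgSt.good_qs (FibCat.diag f) h.1 (Groth.Agent.H7.AlgSt.with_qs_of_diag (FibCat.diag f) (Groth.Agent.H7.AlgSt.rep1_diag h𝒳 h𝒴 f) h.2)⟩


end Groth.Agent.S12980
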