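import Groth.Statements.S13041
import Mathlib.RingTheory.TensorProduct.Maps
import Mathlib.RingTheory.Flat.Basic
import Mathlib.RingTheory.Flat.TorsionFree
import Mathlib.RingTheory.Localization.FractionRing

set_option autoImplicit false
universe u
open MaxMod

namespace Groth.Agent.S13041

/-- Let R be a domain with fraction field K, let A → B be a homomorphism of commutative R-algebras that
are flat over R, with B module-finite over A, such that the induced map K ⊗_R A → K ⊗_R B is
bijective. If the A-linear map Hom_A(B, A) → A evaluating at 1 is surjective, then A → B is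
bijective. (The published statement concerns a finite morphism of flat schemes over a discrete
valuation ring, with locally free relative dualizing sheaves, that is an isomorphism over a
schematically dense open and whose trace map on dualizing sheaves is surjective; this row is the
statement about rings to which the printed proof reduces it and which that proof establishes, and
the argument uses only that R is a domain.) -/
theorem result
    (R K A B : Type u) [CommRing R] [IsDomain R] [Field K] [Algebra R K] [IsFractionRing R K]
    [CommRing A] [CommRing B] [Algebra R A] [Algebra R B] [Algebra A B] [IsScalarTower R A B]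
    [Module.Flat R A] [Module.Flat R B] [Module.Finite A B]
    (hK : Function.Bijective
      (Algebra.TensorProduct.map (AlgHom.id R K) (IsScalarTower.toAlgHom R A B)))
    (htr : Function.Surjective (fun u : B →ₗ[A] A => u 1)) :
    Function.Bijective (algebraMap A B) := by
  obtain ⟨u, hu⟩ := htr 1
  simp only at hu
  let inB : B →ₐ[R] TensorProduct R K B := Algebra.TensorProduct.includeRight
  let inA : A →ₐ[R] TensorProduct R K A := Algebra.TensorProduct.includeRight
  have hRK : Function.Injective (algebraMap R K) := IsFractionRing.injective R K
  have hB : Function.Injective inB := Algebra.TensorProduct.includeRight_injective hRK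
  have hA : Function.Injective inA := Algebra.TensorProduct.includeRight_injective hRK
  let F := Algebra.TensorProduct.map (AlgHom.id R K) (IsScalarTower.toAlgHom R A B)
  have hcl : ∀ z : TensorProduct R K A, ∃ r : R, r ≠ 0 ∧ ∃ a : A, r • z = inA a := by
    intro z
    induction z with
    | zero => exact ⟨1, one_ne_zero, 0, by simp⟩
    | tmul c a =>
      obtain ⟨⟨n, d⟩, hc⟩ := IsLocalization.surj (nonZeroDivisors R) c
      refine ⟨d, nonZeroDivisors.ne_zero d.2, n • a, ?_⟩
      show (d : R) • c ⊗ₜ[R] a = (1 : K) ⊗ₜ[R] (n • a)
      rw [TensorProduct.tmul_smul, TensorProduct.smul_tmul', TensorProduct.smul_tmul', Algebra.smul_def, Algebra.smul_def, mul_one, mul_comm, hc]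
    | add y z hy hz =>
      obtain ⟨r, hr, a, ha⟩ := hy
      obtain ⟨s, hs, a', ha'⟩ := hz
      refine ⟨r * s, mul_ne_zero hr hs, s • a + r • a', ?_⟩
      rw [map_add, map_smul, map_smul, ← ha, ← ha', smul_add, smul_smul, smul_smul, mul_comm s r]
  have hF : ∀ a, F (inA a) = inB (algebraMap A B a) := fun a => by simp [F, inA, inB]
  refine ⟨fun a a' h => hA (hK.1 ?_), fun b => ⟨u b, ?_⟩⟩
  · show F (inA a) = F (inA a')
    rw [hF, hF, h]
  · obtain ⟨z, hz⟩ := hK.2 (inB b)
    obtain ⟨r, hr, a, ha⟩ := hcl z
    have h1 : r • b = algebraMap A B a := hB (by rw [map_smul, ← hz, ← map_smul, ha]; exact hF a)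
    have h2 : u (r • b) = a := by
      rw [h1, Algebra.algebraMap_eq_smul_one, map_smul, hu, smul_eq_mul, mul_one]
    rw [← algebraMap_smul A r b, map_smul, smul_eq_mul, ← Algebra.smul_def] at h2
    rw [← h2, Algebra.smul_def r (u b), map_mul, ← IsScalarTower.algebraMap_apply, ← Algebra.smul_def] at h1
    exact (smul_right_injective B hr h1).symm

end Groth.Agent.S13041
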