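import Groth.Statements.S13042
import Mathlib.RingTheory.MvPolynomial.Basic
import Mathlib.RingTheory.Ideal.Quotient.Operations
import Mathlib.Algebra.CharP.Lemmas
import Mathlib.RingTheory.LocalRing.MaximalIdeal.Basic
import Mathlib.Algebra.MvPolynomial.CommRing
import Mathlib.Tactic.LinearCombination

set_option autoImplicit false
universe u
open MaxMod

namespace Groth.Agent.S13042

open MvPolynomial in
/-- Let p be a prime, R a local ring of characteristic p, λ an element of the maximal ideal of R and f ∈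
R. Then there is an isomorphism of R-algebras R[W₁, W₂]/(W₁^p − f, W₂^p − f) ≅ R[x, W]/(x^p, W^p −
f) with W₁ ↦ x + W + λ·x·W and W₂ ↦ W; that is, Spec R[W]/(W^p − f) with the action w ↦ x + w + λxw
is a torsor under the group scheme Spec R[x]/(x^p) with law x₁ ∘ x₂ = x₁ + x₂ + λx₁x₂. (The
published statement is over a complete discrete valuation ring of characteristic p with λ a nonzero
nonunit, and also asserts that for f in the fraction field with negative valuation v(f) > −p·v(λ)
the torsor W^p = f extends to a torsor over R, using the coordinate 1/W; that second case fails: for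
p = 2, λ = π a uniformizer and f = 1/π, every model is Spec R[π^a t] with t² = π, and none of these
is a torsor since the coaction sends t to t − π(1 + t)x. Only the case f ∈ R is stated, and the
argument there uses only that R is local of characteristic p.) -/
theorem result
    (p : ℕ) [Fact p.Prime] (R : Type u) [CommRing R] [IsLocalRing R] [CharP R p]
    (lam f : R) (hlam : lam ∈ IsLocalRing.maximalIdeal R) :
    ∃ e : (MvPolynomial (Fin 2) R ⧸ Ideal.span {(X 0 ^ p - C f : MvPolynomial (Fin 2) R), X 1 ^ p - C f}) ≃ₐ[R]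
        (MvPolynomial (Fin 2) R ⧸ Ideal.span {(X 0 ^ p : MvPolynomial (Fin 2) R), X 1 ^ p - C f}),
      e (Ideal.Quotient.mk _ (X 0)) = Ideal.Quotient.mk _ (X 0 + X 1 + C lam * X 0 * X 1) ∧
      e (Ideal.Quotient.mk _ (X 1)) = Ideal.Quotient.mk _ (X 1) := by
  classical
  have hp : p.Prime := Fact.out
  have hu : IsUnit (1 + lam ^ p * f) := by
    have hm : lam ^ p * f ∈ IsLocalRing.maximalIdeal R := Ideal.mul_mem_right _ _ (Ideal.pow_mem_of_mem _ hlam _ hp.pos)
    by_contra h
    have := (IsLocalRing.maximalIdeal R).sub_mem h hm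
    rw [add_sub_cancel_right] at this
    exact (IsLocalRing.maximalIdeal.isMaximal R).ne_top ((Ideal.eq_top_iff_one _).2 this)
  obtain ⟨w, hw⟩ := hu.exists_left_inv
  set I : Ideal (MvPolynomial (Fin 2) R) := Ideal.span {(X 0 ^ p - C f : MvPolynomial (Fin 2) R), X 1 ^ p - C f}
  set J : Ideal (MvPolynomial (Fin 2) R) := Ideal.span {(X 0 ^ p : MvPolynomial (Fin 2) R), X 1 ^ p - C f}
  haveI hcp : CharP (MvPolynomial (Fin 2) R) p := inferInstance
  let u : MvPolynomial (Fin 2) R := 1 + C lam * X 1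
  have hpw : u ^ p = 1 + C (lam ^ p) * X 1 ^ p := by rw [add_pow_char, one_pow, mul_pow, map_pow]
  let inv : MvPolynomial (Fin 2) R := C w * u ^ (p - 1)
  have hinv : ∀ {K : Ideal (MvPolynomial (Fin 2) R)}, X 1 ^ p - C f ∈ K → u * inv - 1 ∈ K := fun {K} hK => by
    have e : u * inv - 1 = C w * C (lam ^ p) * (X 1 ^ p - C f) := by
      have h1 : u * inv = C w * u ^ p := by
        simp only [inv]
        rw [show u * (C w * u ^ (p - 1)) = C w * (u ^ (p - 1) * u) by ring, ← pow_succ, Nat.sub_add_cancel hp.pos]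
      rw [h1, hpw]
      have h2 : C w * (1 + C (lam ^ p) * C f) = (1 : MvPolynomial (Fin 2) R) := by rw [← map_mul, ← map_one C, ← map_add, ← map_mul, hw]
      linear_combination h2
    rw [e]
    exact Ideal.mul_mem_left _ _ hK
  let a : MvPolynomial (Fin 2) R →ₐ[R] MvPolynomial (Fin 2) R := aeval ![X 0 + X 1 + C lam * X 0 * X 1, X 1]
  let b : MvPolynomial (Fin 2) R →ₐ[R] MvPolynomial (Fin 2) R := aeval ![(X 0 - X 1) * inv, X 1]
  have hJ0 : (X 0 ^ p : MvPolynomial (Fin 2) R) ∈ J := Ideal.subset_span (Or.inl rfl)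
  have hJ1 : (X 1 ^ p - C f : MvPolynomial (Fin 2) R) ∈ J := Ideal.subset_span (Or.inr rfl)
  have hI0 : (X 0 ^ p - C f : MvPolynomial (Fin 2) R) ∈ I := Ideal.subset_span (Or.inl rfl)
  have hI1 : (X 1 ^ p - C f : MvPolynomial (Fin 2) R) ∈ I := Ideal.subset_span (Or.inr rfl)
  have ha : I ≤ J.comap a := Ideal.span_le.2 (by
    rintro z (rfl | rfl)
    · show a (X 0 ^ p - C f) ∈ J
      simp only [a, map_sub, map_pow, aeval_X, Matrix.cons_val_zero, aeval_C, algebraMap_eq]
      rw [add_pow_char, add_pow_char, mul_pow, mul_pow]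
      have := add_mem (Ideal.mul_mem_left _ (1 + C lam ^ p * X 1 ^ p) hJ0) hJ1
      convert this using 1
      ring
    · show a (X 1 ^ p - C f) ∈ J
      simpa [a] using hJ1)
  have hb : J ≤ I.comap b := Ideal.span_le.2 (by
    rintro z (rfl | rfl)
    · show b (X 0 ^ p) ∈ I
      simp only [b, map_pow, aeval_X, Matrix.cons_val_zero]
      rw [mul_pow, sub_pow_char, show X 0 ^ p - X 1 ^ p = (X 0 ^ p - C f) - (X 1 ^ p - C f : MvPolynomial (Fin 2) R) by ring]
      exact Ideal.mul_mem_right _ _ (sub_mem hI0 hI1)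
    · show b (X 1 ^ p - C f) ∈ I
      simpa [b] using hI1)
  let A := Ideal.quotientMapₐ J a ha
  let B := Ideal.quotientMapₐ I b hb
  have hA : ∀ z, A (Ideal.Quotient.mk I z) = Ideal.Quotient.mk J (a z) := fun z => rfl
  have hB : ∀ z, B (Ideal.Quotient.mk J z) = Ideal.Quotient.mk I (b z) := fun z => rfl
  refine ⟨AlgEquiv.ofAlgHom A B ?_ ?_, ?_, ?_⟩
  · refine Ideal.Quotient.algHom_ext _ (MvPolynomial.algHom_ext fun i => ?_)
    show A (B (Ideal.Quotient.mk J (X i))) = Ideal.Quotient.mk J (X i)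
    rw [hB, hA, Ideal.Quotient.eq]
    fin_cases i
    · have e : a (b (X 0)) - X 0 = X 0 * (u * inv - 1) := by simp [a, b, u, inv]; ring
      show a (b (X 0)) - X 0 ∈ J
      rw [e]; exact Ideal.mul_mem_left _ _ (hinv hJ1)
    · simp [a, b]
  · refine Ideal.Quotient.algHom_ext _ (MvPolynomial.algHom_ext fun i => ?_)
    show B (A (Ideal.Quotient.mk I (X i))) = Ideal.Quotient.mk I (X i)
    rw [hA, hB, Ideal.Quotient.eq]
    fin_cases i
    · have e : b (a (X 0)) - X 0 = (X 0 - X 1) * (u * inv - 1) := by simp [a, b, u, inv]; ring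
      show b (a (X 0)) - X 0 ∈ I
      rw [e]; exact Ideal.mul_mem_left _ _ (hinv hI1)
    · simp [a, b]
  · show A (Ideal.Quotient.mk I (X 0)) = _
    rw [hA]; simp [a]
  · show A (Ideal.Quotient.mk I (X 1)) = _
    rw [hA]; simp [a]

end Groth.Agent.S13042
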