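import Groth.Statements.S13048
import Mathlib.RingTheory.Filtration
import Mathlib.RingTheory.Jacobson.Ring
import Mathlib.Algebra.CharP.Algebra
import Mathlib.FieldTheory.IsAlgClosed.Basic
import Mathlib.Algebra.CharP.Lemmas
-- import your own Groth.Agent.* helpers here

set_option autoImplicit false
universe u
open FrobAlg

namespace Groth.Agent.S13048

/-- Let k be an algebraically closed field of characteristic p > 0 and let A be a reduced finitely
generated commutative k-algebra with connected spectrum (A ≠ 0 and 0, 1 are its only idempotents).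
If x ∈ A is a p^n-th power in A for every n ≥ 0, then x lies in the image of k; that is, ⋂_n A^{p^n}
= k. (The published statement is: for an artinian local ring R of characteristic p and a flat
R-algebra A of finite type, the maps A^ét → O(π₀(A)) → A^{p^∞/R} from the largest étale subalgebra
to the preperfection are isomorphisms. This row is the case R = k algebraically closed and A reduced
with connected spectrum, where A^ét = k and the preperfection is ⋂_n A^{p^n}; the printed proof
reduces to this case and its last step proves it.) -/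
theorem result
    (p : ℕ) [Fact p.Prime] (k : Type u) [Field k] [IsAlgClosed k] [CharP k p]
    (A : Type u) [CommRing A] [Algebra k A] [Algebra.FiniteType k A] [IsReduced A] [Nontrivial A]
    (hconn : ∀ e : A, IsIdempotentElem e → e = 0 ∨ e = 1)
    (x : A) (hx : ∀ n : ℕ, ∃ a : A, a ^ p ^ n = x) :
    x ∈ (algebraMap k A).range := by
  classical
  haveI : IsNoetherianRing A := Algebra.FiniteType.isNoetherianRing k A
  obtain ⟨m, hm⟩ := Ideal.exists_maximal A
  have key : ∀ m : Ideal A, m.IsMaximal → ∃ c : k, x - algebraMap k A c ∈ m := by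
    intro m hm
    letI := Ideal.Quotient.field m
    haveI : Module.Finite k (A ⧸ m) := finite_of_finite_type_of_isJacobsonRing k (A ⧸ m)
    obtain ⟨c, hc⟩ := IsAlgClosed.algebraMap_bijective_of_isIntegral (k := k) (K := A ⧸ m) |>.2
      (Ideal.Quotient.mk m x)
    exact ⟨c, Ideal.Quotient.eq_zero_iff_mem.mp (by rw [map_sub, ← hc]; exact sub_self _)⟩
  obtain ⟨c, hc⟩ := key m hm
  let z := x - algebraMap k A c
  haveI : CharP A p := charP_of_injective_algebraMap (algebraMap k A).injective p
  haveI : PerfectRing k p := inferInstance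
  have hz : ∀ n : ℕ, ∃ a : A, a ^ p ^ n = z := by
    intro n
    obtain ⟨a, ha⟩ := hx n
    obtain ⟨b, hb⟩ := IsAlgClosed.exists_pow_nat_eq c
      (pow_pos (Fact.out : p.Prime).pos n)
    exact ⟨a - algebraMap k A b, by rw [sub_pow_char_pow, ha, ← map_pow, hb]⟩
  let I : Ideal A := LinearMap.ker (LinearMap.toSpanSingleton A A z)
  have hI : ∀ a : A, a ∈ I ↔ a * z = 0 := fun a => Iff.rfl
  have htop : I ⊔ Ideal.span {z} = ⊤ := by
    by_contra hne
    obtain ⟨M, hM, hle⟩ := Ideal.exists_le_maximal _ hne
    have hzM : z ∈ M := hle (Ideal.mem_sup_right (Ideal.mem_span_singleton_self z))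
    have hzi : z ∈ (⨅ i : ℕ, M ^ i • ⊤ : Submodule A A) := by
      rw [Submodule.mem_iInf]
      intro i
      obtain ⟨a, ha⟩ := hz i
      have haM : a ∈ M := hM.isPrime.mem_of_pow_mem (p ^ i) (ha ▸ hzM)
      rw [smul_eq_mul, Ideal.mul_top, ← ha]
      exact Ideal.pow_le_pow_right (Nat.lt_pow_self (Fact.out : p.Prime).one_lt).le
        (Ideal.pow_mem_pow haM _)
    obtain ⟨r, hr⟩ := (M.mem_iInf_smul_pow_eq_bot_iff z).mp hzi
    have h1 : (1 - (r : A)) ∈ M := hle (Ideal.mem_sup_left ((hI _).mpr (by
      rw [sub_mul, one_mul, sub_eq_zero]; exact hr.symm)))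
    exact hM.ne_top (M.eq_top_iff_one.mpr (by simpa using add_mem h1 r.2))
  obtain ⟨a, ha, w, hw, haw⟩ := Submodule.mem_sup.mp (htop ▸ Submodule.mem_top : (1 : A) ∈ I ⊔ Ideal.span {z})
  obtain ⟨b, rfl⟩ := Ideal.mem_span_singleton.mp hw
  have hid : IsIdempotentElem a := by
    show a * a = a
    linear_combination a * haw - b * ((hI a).mp ha)
  rcases hconn a hid with rfl | rfl
  · exact absurd (m.eq_top_iff_one.mpr (haw ▸ by simpa using m.mul_mem_right b hc)) hm.ne_top
  · exact ⟨c, (sub_eq_zero.mp (by simpa using (hI 1).mp ha : z = 0)).symm⟩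

end Groth.Agent.S13048
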