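import Groth.Statements.S13049
-- import your own Groth.Agent.* helpers here

set_option autoImplicit false
universe u
open FrobAlg

namespace Groth.Agent.S13049

/-- Let p be a prime and A a commutative ring of characteristic p whose nilradical N satisfies x^(p^e) =
0 for all x ∈ N and some fixed e (for instance A Noetherian). Then the map between the inverse-limit
perfections along the absolute Frobenius, lim (⋯ → A → A) → lim (⋯ → A/N → A/N), induced by the
projection A → A/N, is bijective. (The published argument takes A of finite type over a field, where
the nilradical is finitely generated; this row assumes only that the nilradical is killed by one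
fixed iterate of Frobenius, which is all that argument uses.) -/
theorem result
    (p : ℕ) [Fact p.Prime] (A : Type u) [CommRing A] [CharP A p]
    [CharP (A ⧸ nilradical A) p] (e : ℕ) (he : ∀ x ∈ nilradical A, x ^ p ^ e = 0) :
    Function.Bijective (Perfection.map p (Ideal.Quotient.mk (nilradical A))) := by
  constructor
  · rw [injective_iff_map_eq_zero]
    intro f hf
    ext n
    have h : ∀ m, Perfection.coeff A p m f ∈ nilradical A := fun m => by
      rw [← Ideal.Quotient.eq_zero_iff_mem, ← Perfection.coeff_map p (Ideal.Quotient.mk (nilradical A)), hf, map_zero]
    have h2 : ∀ k m, Perfection.coeff A p (m + k) f ^ p ^ k = Perfection.coeff A p m f := by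
      intro k
      induction k with
      | zero => intro m; simp
      | succ k ih =>
        intro m
        rw [← add_assoc, pow_succ', pow_mul, Perfection.coeff_pow_p', ih]
    rw [map_zero, ← h2 e n, he _ (h _)]
  · intro g
    choose z hz using fun n => Ideal.Quotient.mk_surjective (Perfection.coeff _ p n g)
    have key : ∀ n, (z (n + 1 + e) ^ p ^ e) ^ p = z (n + e) ^ p ^ e := by
      intro n
      rw [← pow_mul, mul_comm, pow_mul, ← sub_eq_zero, ← sub_pow_char_pow]
      apply he
      rw [← Ideal.Quotient.eq, map_pow, hz, hz, show n + 1 + e = n + e + 1 by ring,
        Perfection.coeff_pow_p']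
    refine ⟨⟨fun n => z (n + e) ^ p ^ e, key⟩, ?_⟩
    ext n
    show Ideal.Quotient.mk _ (z (n + e) ^ p ^ e) = _
    rw [map_pow, hz]
    have h2 : ∀ k m, Perfection.coeff _ p (m + k) g ^ p ^ k = Perfection.coeff _ p m g := by
      intro k
      induction k with
      | zero => intro m; simp
      | succ k ih =>
        intro m
        rw [← add_assoc, pow_succ', pow_mul, Perfection.coeff_pow_p', ih]
    exact h2 e n

end Groth.Agent.S13049
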