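import Groth.Statements.S13058
import Mathlib

set_option autoImplicit false
set_option linter.style.haveILetI false
universe u v
open Zeta

namespace Groth.Agent.S13058

/-- If L'/L is a field extension, a power series f ∈ L⟦t⟧ belongs to L(t) exactly when it belongs to
L'(t); here membership in L(t) means f · Q = P for polynomials P, Q over the field in question with
Q ≠ 0. -/
theorem result {L : Type u} {L' : Type v} [Field L] [Field L']
    [Algebra L L'] (f : PowerSeries L) :
    (∃ P Q : Polynomial L', Q ≠ 0 ∧
        PowerSeries.map (algebraMap L L') f * (Q : PowerSeries L') = (P : PowerSeries L')) ↔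
      ∃ P Q : Polynomial L, Q ≠ 0 ∧ f * (Q : PowerSeries L) = (P : PowerSeries L) := by
  constructor
  · rintro ⟨P, Q, hQ, h⟩
    obtain ⟨j, hj⟩ : ∃ j, Q.coeff j ≠ 0 := by
      by_contra hc; push Not at hc; exact hQ (Polynomial.ext (by simpa using hc))
    obtain ⟨φ, hφ⟩ := Module.Projective.exists_dual_ne_zero L hj
    let d : Polynomial L' → Polynomial L := fun R =>
      ∑ n ∈ Finset.range (R.natDegree + 1), Polynomial.monomial n (φ (R.coeff n))
    have hd : ∀ R n, (d R).coeff n = φ (R.coeff n) := by
      intro R n
      simp only [d, Polynomial.finsetSum_coeff, Polynomial.coeff_monomial, Finset.sum_ite_eq', Finset.mem_range]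
      split_ifs with hn
      · rfl
      · rw [Polynomial.coeff_eq_zero_of_natDegree_lt (by omega), map_zero]
    refine ⟨d P, d Q, fun h0 => hφ (by rw [← hd Q j, h0, Polynomial.coeff_zero]), ?_⟩
    ext n
    have hn := congrArg φ (congrArg (PowerSeries.coeff n) h)
    rw [Polynomial.coeff_coe, PowerSeries.coeff_mul, map_sum] at hn
    rw [Polynomial.coeff_coe, PowerSeries.coeff_mul, hd, ← hn]
    refine Finset.sum_congr rfl fun x _ => ?_
    rw [PowerSeries.coeff_map, Polynomial.coeff_coe, Polynomial.coeff_coe, hd,
      ← Algebra.smul_def, map_smul, smul_eq_mul]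
  · rintro ⟨P, Q, hQ, h⟩
    refine ⟨P.map (algebraMap L L'), Q.map (algebraMap L L'), (Polynomial.map_ne_zero_iff (algebraMap L L').injective).mpr hQ, ?_⟩
    rw [Polynomial.polynomial_map_coe, Polynomial.polynomial_map_coe, ← map_mul, h]

end Groth.Agent.S13058
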