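import Groth.Statements.S13062
import Groth.Agent.Lead.Zeta.SchemeCount
import Mathlib.AlgebraicGeometry.Morphisms.Affine
import Mathlib.FieldTheory.Finiteness
import Mathlib.LinearAlgebra.Dimension.Finite
-- import your own Groth.Agent.* helpers here

set_option autoImplicit false
universe u
open CategoryTheory AlgebraicGeometry
open Zeta

namespace Groth.Agent.S13062

/-- If X is a variety of dimension r over a finite field k with q elements, there is a constant c_X > 0
with #X(F_{q^e}) ≤ c_X q^{re} for every e ≥ 1. Stated for any scheme of finite type over k of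
dimension at most r, with a natural-number constant. -/
theorem result {k : Type u} [Field k] [Finite k] {X : Scheme.{u}}
    (f : X ⟶ Spec (CommRingCat.of k)) [LocallyOfFiniteType f] [QuasiCompact f] (r : ℕ)
    (hr : topologicalKrullDim X ≤ r) :
    ∃ c : ℕ, ∀ (k' : Type u) [Field k'] [Algebra k k'] [Finite k'],
      SgaExt.pointCount f k' ≤ c * Nat.card k ^ (r * Module.finrank k k') := by
  classical
  let q : CommRingCat.of (ULift.{u} ℤ) ⟶ CommRingCat.of k :=
    CommRingCat.ofHom ((Int.castRingHom k).comp (ULift.ringEquiv : ULift.{u} ℤ ≃+* ℤ).toRingHom)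
  haveI : LocallyOfFiniteType (Spec.map q) := by
    rw [HasRingHomProperty.Spec_iff (P := @LocallyOfFiniteType)]
    letI := q.hom.toAlgebra
    haveI := Fintype.ofFinite k
    exact ⟨⟨Finset.univ, by rw [Finset.coe_univ, Algebra.adjoin_univ]⟩⟩
  haveI : QuasiCompact (Spec.map q) := inferInstance
  obtain ⟨p₀, c, h⟩ := LeadZeta.exists_bound_scheme (f ≫ Spec.map q) r hr
  refine ⟨c, fun k' _ _ _ => ?_⟩
  obtain ⟨p, hp⟩ := CharP.exists k'
  haveI := hp
  obtain ⟨hfin, -, h2⟩ := h p k'
  haveI := hfin
  haveI := Fintype.ofFinite k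
  haveI := Fintype.ofFinite k'
  rw [show Nat.card k' = Nat.card k ^ Module.finrank k k' from Module.natCard_eq_pow_finrank, ← pow_mul,
    mul_comm (Module.finrank k k')] at h2
  exact (Nat.card_le_card_of_injective _ Subtype.val_injective).trans h2

end Groth.Agent.S13062
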