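import Groth.Statements.S13065
import Mathlib

set_option autoImplicit false
set_option linter.style.haveILetI false
universe u
open Zeta

namespace Groth.Agent.S13065

/-- Let k be a finite field with q elements and characteristic p, n ≥ 2, and f ∈ k[x_0, …, x_n]
homogeneous of degree n + 1, defining the hypersurface Z ⊂ P^n_k. Then #Z(F_q) ≢ 1 (mod p) if and
only if the coefficient of (x_0 ⋯ x_n)^{q−1} in f^{q−1} is nonzero. Stated through the affine count:
#Z(F_q) ≡ 1 (mod p) exactly when p divides the number of zeros of f in k^{n+1} (as (q − 1) #Z(F_q) +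
1 is that number). -/
theorem result {k : Type u} [Field k] [Finite k] (p : ℕ)
    [CharP k p] (n : ℕ) (hn : 2 ≤ n) (f : MvPolynomial (Fin (n + 1)) k)
    (hf : f.IsHomogeneous (n + 1)) :
    p ∣ Nat.card {a : Fin (n + 1) → k // MvPolynomial.eval a f = 0} ↔
      MvPolynomial.coeff (Finsupp.equivFunOnFinite.symm fun _ : Fin (n + 1) => Nat.card k - 1)
        (f ^ (Nat.card k - 1)) = 0 := by
  classical
  haveI : Fintype k := Fintype.ofFinite k
  rw [← CharP.cast_eq_zero_iff k p]
  set q := Fintype.card k with hq
  have hq2 : 2 ≤ q := Fintype.one_lt_card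
  rw [Nat.card_eq_fintype_card (α := k)]
  have hind : ∀ a : Fin (n + 1) → k, (if MvPolynomial.eval a f = 0 then (1 : k) else 0) = 1 - MvPolynomial.eval a (f ^ (q - 1)) := by
    intro a
    rw [map_pow]
    split_ifs with h
    · rw [h, zero_pow (by omega), sub_zero]
    · rw [hq, FiniteField.pow_card_sub_one_eq_one _ h, sub_self]
  have hlast : ∑ x : k, x ^ (q - 1) = -1 := by
    rw [← Finset.sum_sdiff (Finset.subset_univ ({0} : Finset k)), Finset.sum_singleton, zero_pow (by omega), add_zero,
      Finset.sum_congr rfl (fun x hx => by rw [hq, FiniteField.pow_card_sub_one_eq_one x (by simpa using hx)]),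
      Finset.sum_const, nsmul_one, Finset.card_sdiff_of_subset (Finset.subset_univ _), Finset.card_univ, Finset.card_singleton,
      Nat.cast_sub (by omega), FiniteField.cast_card_eq_zero, Nat.cast_one, zero_sub]
  set D : Fin (n + 1) →₀ ℕ := Finsupp.equivFunOnFinite.symm fun _ : Fin (n + 1) => q - 1 with hD
  have hmon : ∀ d ∈ (f ^ (q - 1)).support, (∑ a : Fin (n + 1) → k, ∏ i, a i ^ d i) = if d = D then (-1 : k) ^ (n + 1) else 0 := by
    intro d hd
    rw [← Fintype.prod_sum (fun i x => x ^ d i)]
    split_ifs with h
    · rw [h]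
      simp only [hD, Finsupp.coe_equivFunOnFinite_symm, hlast, Finset.prod_const, Finset.card_univ, Fintype.card_fin]
    · obtain ⟨i, hi⟩ : ∃ i, d i < q - 1 := by
        by_contra hc
        push Not at hc
        apply h
        have hdeg : ∑ i, d i = (n + 1) * (q - 1) := by
          have := (hf.pow (q - 1)) (MvPolynomial.mem_support_iff.mp hd)
          rw [Finsupp.weight_apply, Finsupp.sum_fintype _ _ (fun i => by simp)] at this
          simpa using this
        ext i
        rw [hD, Finsupp.coe_equivFunOnFinite_symm]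
        refine le_antisymm ?_ (hc i)
        by_contra hgt
        push Not at hgt
        have : ∑ _i : Fin (n + 1), (q - 1) < ∑ i, d i := Finset.sum_lt_sum (fun j _ => hc j) ⟨i, Finset.mem_univ i, hgt⟩
        simp [hdeg] at this
      exact Finset.prod_eq_zero (Finset.mem_univ i) (FiniteField.sum_pow_lt_card_sub_one k _ hi)
  have hS : ((Nat.card {a : Fin (n + 1) → k // MvPolynomial.eval a f = 0} : ℕ) : k) = -((f ^ (q - 1)).coeff D * (-1 : k) ^ (n + 1)) := by
    rw [Nat.card_eq_fintype_card, Fintype.card_subtype, Finset.natCast_card_filter, Finset.sum_congr rfl (fun a _ => hind a), Finset.sum_sub_distrib,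
      Finset.sum_const, nsmul_one, Finset.card_univ, Fintype.card_fun, Nat.cast_pow, FiniteField.cast_card_eq_zero, zero_pow (by simp), zero_sub]
    congr 1
    simp only [MvPolynomial.eval_eq']
    rw [Finset.sum_comm, Finset.sum_congr rfl (fun d hd => by rw [← Finset.mul_sum, hmon d hd, mul_ite, mul_zero]), Finset.sum_ite_eq']
    split_ifs with h
    · rfl
    · rw [MvPolynomial.notMem_support_iff.mp h, zero_mul]
  rw [hS, neg_eq_zero, mul_eq_zero, or_iff_left (pow_ne_zero _ (neg_ne_zero.mpr one_ne_zero))]

end Groth.Agent.S13065
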