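import Groth.Statements.S13066
import Mathlib

set_option autoImplicit false
set_option linter.style.haveILetI false
universe u
open Zeta

namespace Groth.Agent.S13066

/-- Let k be a finite field with q elements and characteristic p, n ≥ 2, and f ∈ k[x_0, …, x_n]
homogeneous of degree n + 1. Then the coefficient of (x_0 ⋯ x_n)^{q−1} in f^{q−1} is nonzero if and
only if the coefficient of (x_0 ⋯ x_n)^{p−1} in f^{p−1} is nonzero. -/
theorem result {k : Type u} [Field k] [Finite k]
    (p : ℕ) [CharP k p] (n : ℕ) (hn : 2 ≤ n) (f : MvPolynomial (Fin (n + 1)) k)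
    (hf : f.IsHomogeneous (n + 1)) :
    MvPolynomial.coeff (Finsupp.equivFunOnFinite.symm fun _ : Fin (n + 1) => Nat.card k - 1)
        (f ^ (Nat.card k - 1)) ≠ 0 ↔
      MvPolynomial.coeff (Finsupp.equivFunOnFinite.symm fun _ : Fin (n + 1) => p - 1)
        (f ^ (p - 1)) ≠ 0 := by
  classical
  haveI : Fintype k := Fintype.ofFinite k
  haveI hpp : Fact p.Prime := ⟨(CharP.char_is_prime_or_zero k p).resolve_right (CharP.char_ne_zero_of_finite k p)⟩
  have hp := hpp.out
  haveI : ExpChar k p := ExpChar.prime hp
  obtain ⟨e, -, he⟩ := FiniteField.card k p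
  rw [Nat.card_eq_fintype_card, he]
  let D : ℕ → (Fin (n + 1) →₀ ℕ) := fun m => Finsupp.equivFunOnFinite.symm fun _ => m
  show MvPolynomial.coeff (D (p ^ (e : ℕ) - 1)) _ ≠ 0 ↔ MvPolynomial.coeff (D (p - 1)) _ ≠ 0
  set c := MvPolynomial.coeff (D (p - 1)) (f ^ (p - 1)) with hc
  have hf1 : (f ^ (p - 1)).IsHomogeneous ((n + 1) * (p - 1)) := hf.pow _
  have hstep : ∀ (m : ℕ) (h : MvPolynomial (Fin (n + 1)) k),
      MvPolynomial.coeff (D (p - 1 + p * m)) (f ^ (p - 1) * h ^ p) = c * (MvPolynomial.coeff (D m) h) ^ p := by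
    intro m h
    rw [show h ^ p = MvPolynomial.map (frobenius k p) (MvPolynomial.expand p h) by rw [MvPolynomial.map_frobenius_expand], MvPolynomial.coeff_mul, Finset.sum_eq_single (D (p - 1), p • D m)]
    · rw [MvPolynomial.coeff_map, MvPolynomial.coeff_expand_smul _ hp.ne_zero, frobenius_def]
    · rintro ⟨a, b⟩ hab hne
      rw [Finset.HasAntidiagonal.mem_antidiagonal] at hab
      by_contra h0
      obtain ⟨ha, hb⟩ := mul_ne_zero_iff.mp h0
      have hdiv : ∀ i, p ∣ b i := fun i => by
        by_contra hi
        apply hb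
        rw [MvPolynomial.coeff_map, MvPolynomial.coeff_expand_of_not_dvd h hi, map_zero]
      have hge : ∀ i, p - 1 ≤ a i := fun i => by
        obtain ⟨t, ht⟩ := hdiv i
        have e1 : a i + b i = p - 1 + p * m := by have := DFunLike.congr_fun hab i; simpa [D] using this
        rw [ht] at e1
        rcases Nat.lt_or_ge m t with hmt | hmt
        · exfalso
          have := Nat.mul_le_mul_left p (show m + 1 ≤ t by omega)
          rw [Nat.mul_add, Nat.mul_one] at this
          have := hp.one_le
          omega
        · have := Nat.mul_le_mul_left p hmt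
          omega
      have hdeg : ∑ i, a i = (n + 1) * (p - 1) := by
        have := hf1 ha
        rw [Finsupp.weight_apply, Finsupp.sum_fintype _ _ (fun i => by simp)] at this
        simpa using this
      have haD : a = D (p - 1) := by
        ext i
        refine le_antisymm ?_ (by simpa [D] using hge i)
        by_contra hgt
        simp [D] at hgt
        have hlt : ∑ _i : Fin (n + 1), (p - 1) < ∑ i, a i := Finset.sum_lt_sum (fun j _ => hge j) ⟨i, Finset.mem_univ i, hgt⟩
        simp [hdeg] at hlt
      apply hne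
      rw [haD] at hab ⊢
      have : b = p • D m := by
        ext i
        have := DFunLike.congr_fun hab i
        simp [D] at this ⊢
        omega
      rw [this]
    · intro hnot
      exfalso; apply hnot
      rw [Finset.HasAntidiagonal.mem_antidiagonal]
      ext i; simp [D]
  have key : ∀ j : ℕ, (MvPolynomial.coeff (D (p ^ (j + 1) - 1)) (f ^ (p ^ (j + 1) - 1)) ≠ 0 ↔ c ≠ 0) := by
    intro j
    induction j with
    | zero => rw [zero_add, pow_one]
    | succ j ih =>
      have e1 : p ^ (j + 1 + 1) - 1 = p - 1 + p * (p ^ (j + 1) - 1) := by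
        rw [pow_succ' p (j + 1), Nat.mul_sub, Nat.mul_one]
        have := Nat.mul_le_mul_left p (Nat.one_le_pow (j + 1) p hp.pos)
        have := hp.one_le
        omega
      rw [e1, pow_add f, mul_comm p, pow_mul f, mul_comm (p ^ (j + 1) - 1) p, hstep, mul_ne_zero_iff, pow_ne_zero_iff hp.ne_zero, ih, and_self]
  obtain ⟨j, hj⟩ := Nat.exists_eq_succ_of_ne_zero e.ne_zero
  rw [hj]; exact key j

end Groth.Agent.S13066
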