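import Groth.Statements.S13070
import Groth.Agent.Lead.Zeta.SchemeCount
import Mathlib.FieldTheory.Finite.Basic
import Mathlib.Analysis.SpecialFunctions.Pow.Real
-- import your own Groth.Agent.* helpers here

set_option autoImplicit false
universe u
open CategoryTheory AlgebraicGeometry
open Zeta

namespace Groth.Agent.S13070

/-- For an arithmetic scheme X (of finite type over ℤ) of dimension r there are c_X > 0 and p₀ such that
#X(F_{p^m}) ≤ c_X p^{m(r−1)} for all primes p ≥ p₀ and m ≥ 1, and #X(F_{p^m}) ≤ c_X p^{mr} for p <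
p₀ and m ≥ 1. Here #X(F) is the number of morphisms Spec F → X, and the dimension is only assumed ≤
r. -/
theorem result {X : Scheme.{u}}
    (f : X ⟶ Spec (CommRingCat.of (ULift.{u} ℤ))) [LocallyOfFiniteType f] [QuasiCompact f] (r : ℕ)
    (hr : topologicalKrullDim X ≤ r) :
    ∃ (c : ℝ) (p₀ : ℕ), 0 < c ∧ ∀ (p m : ℕ), p.Prime → 1 ≤ m →
      ∀ (F : Type u) [Field F], Nat.card F = p ^ m →
        (p₀ ≤ p → (Nat.card (Spec (CommRingCat.of F) ⟶ X) : ℝ) ≤
            c * (p : ℝ) ^ ((m : ℝ) * ((r : ℝ) - 1))) ∧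
        (p < p₀ → (Nat.card (Spec (CommRingCat.of F) ⟶ X) : ℝ) ≤ c * (p : ℝ) ^ ((m : ℝ) * r)) := by
  classical
  obtain ⟨p₀, c, h⟩ := LeadZeta.exists_bound_scheme f r hr
  refine ⟨(c : ℝ) + 1, p₀, by positivity, fun p m hp hm F _ hF => ?_⟩
  haveI : Finite F := Nat.finite_of_card_ne_zero (by rw [hF]; exact pow_ne_zero _ hp.ne_zero)
  haveI : Fact p.Prime := ⟨hp⟩
  haveI : CharP F p := by
    haveI := Fintype.ofFinite F
    obtain ⟨p', hp'⟩ := CharP.exists F
    haveI := hp'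
    obtain ⟨n, hn, hcard⟩ := FiniteField.card F p'
    rw [Nat.card_eq_fintype_card, hcard] at hF
    have hdvd : p' ∣ p ^ m := hF ▸ dvd_pow_self p' n.ne_zero
    rwa [← (Nat.prime_dvd_prime_iff_eq hn hp).1 (hn.dvd_of_dvd_pow hdvd)]
  obtain ⟨-, h1, h2⟩ := h p F
  have hpos : (0 : ℝ) < p := by exact_mod_cast hp.pos
  constructor
  · intro hge
    obtain ⟨hb, h0⟩ := h1 hge
    rcases Nat.eq_zero_or_pos r with hr0 | hr0
    · haveI := h0 hr0
      rw [Nat.card_of_isEmpty, Nat.cast_zero]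
      positivity
    · rw [hF] at hb
      have e : (p : ℝ) ^ ((m : ℝ) * ((r : ℝ) - 1)) = ((((p ^ m) ^ (r - 1) : ℕ)) : ℝ) := by
        push_cast
        rw [← pow_mul, ← Real.rpow_natCast, Nat.cast_mul, Nat.cast_sub (show 1 ≤ r from hr0), Nat.cast_one]
      rw [e]
      refine le_trans (Nat.cast_le.2 hb) ?_
      rw [Nat.cast_mul]
      gcongr
      linarith
  · intro _
    rw [hF] at h2
    have e : (p : ℝ) ^ ((m : ℝ) * r) = (((p ^ m) ^ r : ℕ) : ℝ) := by
      push_cast
      rw [← pow_mul, ← Real.rpow_natCast]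
      push_cast
      rfl
    rw [e]
    refine le_trans (Nat.cast_le.2 h2) ?_
    rw [Nat.cast_mul]
    gcongr
    linarith

end Groth.Agent.S13070
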