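import Groth.Statements.S13081
import Groth.Agent.SGA1Q.Props

set_option autoImplicit false
universe u
open CategoryTheory AlgebraicGeometry Limits
open Zeta

namespace Groth.Agent.S13081

/-- Let G be a finite group acting by algebraic automorphisms over k on a scheme X of finite type over k
admitting a quotient X → X/G, and H a normal subgroup of G. Then X/H carries an induced action of
G/H and its quotient by this action is X/G: the induced morphism r : X/H → X/G is a quotient of X/H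
by G/H. The induced action ρ̄ is pinned by p_H ≫ ρ̄(ḡ) = ρ(g) ≫ p_H and r by p_H ≫ r = p. -/
theorem result {k : Type u} [Field k] {G : Type u} [Group G]
    [Finite G] {X XG XH : Scheme.{u}} (fX : X ⟶ Spec (CommRingCat.of k)) [LocallyOfFiniteType fX]
    [QuasiCompact fX] (ρ : G →* Aut X) (hρ : ∀ g, (ρ g).hom ≫ fX = fX) (p : X ⟶ XG)
    (hP : SGA1.IsQuot ρ p) (H : Subgroup G) [H.Normal] (pH : X ⟶ XH)
    (hPH : SGA1.IsQuot (ρ.comp H.subtype) pH) (ρbar : G ⧸ H →* Aut XH)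
    (hρbar : ∀ g : G, pH ≫ (ρbar (QuotientGroup.mk g)).hom = (ρ g).hom ≫ pH)
    (r : XH ⟶ XG) (hr : pH ≫ r = p) :
    SGA1.IsQuot ρbar r := by
  have hq : SGA1.IsQuot (ρ.comp H.subtype) pH := hPH
  haveI := hP.affine
  haveI : IsAffineHom r := (SGA1Q.Props.main hPH p r hr).1.1 hP.affine
  have hpH : Function.Surjective pH := SGA1Q.Base.surjective hPH
  have hinv : ∀ g : G, (ρbar (QuotientGroup.mk g)).hom ≫ r = r := fun g => by
    apply Coeq6.Pred.unique_desc (SGA1Q.Base.isQuot hPH)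
    rw [reassoc_of% hρbar g, hr, hP.inv]
  have hinv' : ∀ k : G ⧸ H, (ρbar k).hom ≫ r = r := fun k => by
    obtain ⟨g, rfl⟩ := QuotientGroup.mk_surjective k
    exact hinv g
  refine ⟨inferInstance, hinv', fun U => ?_, fun U x => ⟨?_, fun hx => ?_⟩⟩
  all_goals subst hr
  · intro a b e
    apply hP.injective U
    rw [Scheme.Hom.comp_app]
    exact congrArg (pH.app (r ⁻¹ᵁ U)).hom e
  · rintro ⟨b, rfl⟩ k
    obtain ⟨g, rfl⟩ := QuotientGroup.mk_surjective k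
    have key : ∀ (f : XH ⟶ XG) (e : r ⁻¹ᵁ U ≤ f ⁻¹ᵁ U), f = r → (f.appLE U (r ⁻¹ᵁ U) e).hom b = (r.app U).hom b := by
      rintro f e rfl
      rw [Scheme.Hom.app_eq_appLE]
    refine Eq.trans ?_ (key _ (by rw [hinv g]) (hinv g))
    rw [Scheme.Hom.app_eq_appLE]
    exact congrArg (fun m => m.hom b) (Scheme.Hom.appLE_comp_appLE (ρbar (QuotientGroup.mk g)).hom r U (r ⁻¹ᵁ U) (r ⁻¹ᵁ U) le_rfl
      (by rw [← Scheme.Hom.comp_preimage, hinv g]))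
  · refine (fun hh => ?_) ((hP.range_iff U ((pH.app (r ⁻¹ᵁ U)).hom x)).2 fun g => ?_)
    · obtain ⟨b, hb⟩ := hh
      refine ⟨b, hPH.injective (r ⁻¹ᵁ U) ?_⟩
      rw [Scheme.Hom.comp_app] at hb
      exact hb
    have e1 : pH ⁻¹ᵁ r ⁻¹ᵁ U ≤ (ρ g).hom ⁻¹ᵁ (pH ⁻¹ᵁ r ⁻¹ᵁ U) := SGA1.preimage_le_of_inv ρ (pH ≫ r) hP.inv g U
    have e2 : r ⁻¹ᵁ U ≤ (ρbar (QuotientGroup.mk g)).hom ⁻¹ᵁ (r ⁻¹ᵁ U) := SGA1.preimage_le_of_inv ρbar r hinv' _ U
    have key : ∀ (F : X ⟶ XH) (e : pH ⁻¹ᵁ r ⁻¹ᵁ U ≤ F ⁻¹ᵁ r ⁻¹ᵁ U), F = pH ≫ (ρbar (QuotientGroup.mk g)).hom →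
        (F.appLE (r ⁻¹ᵁ U) (pH ⁻¹ᵁ r ⁻¹ᵁ U) e).hom x = (pH.app (r ⁻¹ᵁ U)).hom x := by
      rintro F e rfl
      rw [← Scheme.Hom.appLE_comp_appLE pH (ρbar (QuotientGroup.mk g)).hom (r ⁻¹ᵁ U) (r ⁻¹ᵁ U) _ e2 le_rfl,
        CommRingCat.comp_apply, hx (QuotientGroup.mk g), Scheme.Hom.app_eq_appLE]
    refine Eq.trans ?_ (key ((ρ g).hom ≫ pH) (fun z hz => e1 hz) (hρbar g).symm)
    rw [← Scheme.Hom.appLE_comp_appLE (ρ g).hom pH (r ⁻¹ᵁ U) (pH ⁻¹ᵁ r ⁻¹ᵁ U) _ le_rfl e1, CommRingCat.comp_apply,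
      Scheme.Hom.app_eq_appLE]
    rfl

end Groth.Agent.S13081
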