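import Groth.Statements.S13084
import Groth.Agent.Lead.Zeta.LSeries
import Mathlib.AlgebraicGeometry.Morphisms.Affine
-- import your own Groth.Agent.* helpers here

set_option autoImplicit false
universe u
open CategoryTheory AlgebraicGeometry
open Zeta

namespace Groth.Agent.S13084

/-- If Y is a scheme of finite type over F_p (here: over any finite field) of dimension r, then the
Dirichlet series L_Y(s) = Σ_{n ≥ 1} a_n n^{−s}, where a_n is the number of effective 0-cycles on Y
of norm n, is convergent for Re(s) > r and has no zeros in this half-plane. The dimension is only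
assumed ≤ r. -/
theorem result {k : Type u} [Field k] [Finite k]
    {Y : Scheme.{u}} (f : Y ⟶ Spec (CommRingCat.of k)) [LocallyOfFiniteType f] [QuasiCompact f] (r : ℕ)
    (hr : topologicalKrullDim Y ≤ r) :
    LSeries.abscissaOfAbsConv (Zeta.arithCoeff Y) ≤ (r : ℝ) ∧
      ∀ s : ℂ, (r : ℝ) < s.re → LSeries (Zeta.arithCoeff Y) s ≠ 0 := by
  classical
  let q : CommRingCat.of (ULift.{u} ℤ) ⟶ CommRingCat.of k :=
    CommRingCat.ofHom ((Int.castRingHom k).comp (ULift.ringEquiv : ULift.{u} ℤ ≃+* ℤ).toRingHom)
  haveI : LocallyOfFiniteType (Spec.map q) := by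
    rw [HasRingHomProperty.Spec_iff (P := @LocallyOfFiniteType)]
    letI := q.hom.toAlgebra
    haveI := Fintype.ofFinite k
    exact ⟨⟨Finset.univ, by rw [Finset.coe_univ, Algebra.adjoin_univ]⟩⟩
  exact LeadZeta.main_int (f ≫ Spec.map q) r hr

end Groth.Agent.S13084
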