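import Groth.Statements.S13094
-- import your own Groth.Agent.* helpers here
import Groth.Agent.Lead.Lie3Comp
import Mathlib.RingTheory.Flat.TorsionFree

set_option autoImplicit false
open Lie3Mod

namespace Groth.Agent.S13094

open Groth.Agent.Lead.Lie3 in
/-- The second component of the moduli scheme of based three-dimensional Lie algebras is flat over the
integers: the ring Z[a,b,c,d,e,f,g,h,i]/J, where J = (Q1, Q2, Q3, det M) with Q1 = ah + di − fg −
bg, Q2 = ie + bd − fh − ae, Q3 = hc + dc − af − bi and det M = −ch² + gbf + ei² − gec + hbi − ihf,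
is a flat Z-module. -/
theorem result :
    Module.Flat ℤ (Lie3Mod.D ℤ ⧸ Lie3Mod.idJ ℤ) := by
  have key : ∀ I : Ideal (Lie3Mod.D ℤ), (∀ (n : ℤ), n ≠ 0 → ∀ x, n • x ∈ I → x ∈ I) →
      Module.Flat ℤ (Lie3Mod.D ℤ ⧸ I) := by
    intro I hI
    haveI : Module.IsTorsionFree ℤ (Lie3Mod.D ℤ ⧸ I) := by
      refine Module.isTorsionFree_iff_smul_eq_zero.2 fun n y hy => ?_
      obtain ⟨x, rfl⟩ := Ideal.Quotient.mk_surjective y
      by_cases hn : n = 0
      · exact Or.inl hn
      · refine Or.inr (Ideal.Quotient.eq_zero_iff_mem.2 (hI n hn x ?_))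
        rw [← Ideal.Quotient.eq_zero_iff_mem, map_zsmul, hy]
    infer_instance
  exact key _ fun n hn x hx => smul_mem_idJ hn hx

end Groth.Agent.S13094
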