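import Groth.Statements.S13095
-- import your own Groth.Agent.* helpers here
import Groth.Agent.Lead.Lie3Comp
import Mathlib.RingTheory.Flat.TorsionFree

set_option autoImplicit false
open Lie3Mod

namespace Groth.Agent.S13095

open Groth.Agent.Lead.Lie3 in
/-- The moduli scheme of based three-dimensional Lie algebras is flat over the integers and reduced:
with I = (Q1, Q2, Q3) the Jacobi ideal of Z[a,b,c,d,e,f,g,h,i] (Q1 = ah + di − fg − bg, Q2 = ie + bd
− fh − ae, Q3 = hc + dc − af − bi), the ring Z[a,b,c,d,e,f,g,h,i]/I is a flat Z-module and I is a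
radical ideal. -/
theorem result :
    Module.Flat ℤ (Lie3Mod.D ℤ ⧸ Lie3Mod.idI ℤ) ∧ (Lie3Mod.idI ℤ).IsRadical := by
  have key : ∀ I : Ideal (Lie3Mod.D ℤ), (∀ (n : ℤ), n ≠ 0 → ∀ x, n • x ∈ I → x ∈ I) →
      Module.Flat ℤ (Lie3Mod.D ℤ ⧸ I) := by
    intro I hI
    haveI : Module.IsTorsionFree ℤ (Lie3Mod.D ℤ ⧸ I) := by
      refine Module.isTorsionFree_iff_smul_eq_zero.2 fun n y hy => ?_
      obtain ⟨x, rfl⟩ := Ideal.Quotient.mk_surjective y
      by_cases hn : n = 0
      · exact Or.inl hn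
      · refine Or.inr (Ideal.Quotient.eq_zero_iff_mem.2 (hI n hn x ?_))
        rw [← Ideal.Quotient.eq_zero_iff_mem, map_zsmul, hy]
    infer_instance
  refine ⟨key _ fun n hn x hx => ?_, ?_⟩
  · rw [idI_eq] at hx ⊢
    exact ⟨smul_mem_idJ hn hx.1, smul_mem_idL hn hx.2⟩
  · rw [idI_eq]
    exact idJ_prime.isRadical.inf idL_prime.isRadical

end Groth.Agent.S13095
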