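import Groth.Statements.S13097
import Groth.Agent.UnivHomeo.Affine
import Groth.Agent.UnivHomeo.Basic
import Mathlib.AlgebraicGeometry.Morphisms.Finite
import Mathlib.AlgebraicGeometry.Morphisms.Proper
-- import your own Groth.Agent.* helpers here

set_option autoImplicit false
universe u
open FlatMor

namespace Groth.Agent.S13097

open CategoryTheory AlgebraicGeometry in
/-- Let f : X → S be a quasi-compact, separated morphism of schemes with a section e : S → X (e followed
by f is the identity of S), and U ⊆ S an open subscheme such that f⁻¹(U) is schematically dense in X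
(for every open V of X, restriction of functions from V to V ∩ f⁻¹(U) is injective) and such that
the restriction f⁻¹(U) → U of f is a homeomorphism of underlying spaces. Then f is universally a
homeomorphism (every base change of f is a homeomorphism), and f is finite as soon as it is locally
of finite type. (The published statement also lists surjectivity of f, which a section forces, and
offers as an alternative to the section the hypothesis that f be flat, still with f⁻¹(U) → U only a
homeomorphism; that flat alternative fails: the spectrum of a separable quadratic field extension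
over the spectrum of the ground field, with U the whole base, is flat, surjective, quasi-compact,
separated and a homeomorphism over U, yet not universally injective. Only the case of a section,
whose published proof is complete, is stated here.) -/
theorem result {X S : Scheme.{u}} (f : X ⟶ S)
    [QuasiCompact f] [IsSeparated f] (U : S.Opens)
    (hdense : CInt.IsSchematicallyDense (f ⁻¹ᵁ U)) (hU : IsHomeomorph (f ∣_ U).base)
    (e : S ⟶ X) (he : e ≫ f = 𝟙 S) :
    FlatMor.IsUnivHomeo f ∧ (LocallyOfFiniteType f → IsFinite f) := by
  open Groth.Agent.UnivHomeo.Basic CategoryTheory.Limits in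
  have : IsClosedImmersion (e ≫ f) := by rw [he]; infer_instance
  have hcl : IsClosedImmersion e := IsClosedImmersion.of_comp e f
  have hd : Dense ((f ⁻¹ᵁ U : X.Opens) : Set X) := by
    rw [dense_iff_inter_open]
    intro W hW hne
    by_contra hempty
    rw [Set.not_nonempty_iff_eq_empty] at hempty
    let V : X.Opens := ⟨W, hW⟩
    have hVU : V ⊓ (f ⁻¹ᵁ U) = ⊥ := TopologicalSpace.Opens.ext hempty
    have hn : Nonempty V := hne.to_subtype
    have hnt : Nontrivial Γ(X, V) := inferInstance
    have hsub : Subsingleton Γ(X, V ⊓ (f ⁻¹ᵁ U)) := by rw [hVU]; infer_instance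
    exact zero_ne_one (hdense V (Subsingleton.elim _ _) : (0 : Γ(X, V)) = 1)
  have hsub : ((f ⁻¹ᵁ U : X.Opens) : Set X) ⊆ Set.range e := fun x hx ↦ by
    have hex : f (e (f x)) = f x := by rw [← Scheme.Hom.comp_apply, he]; rfl
    have hm : e (f x) ∈ f ⁻¹ᵁ U := by show f (e (f x)) ∈ U; rw [hex]; exact hx
    have hr : ∀ z : (f ⁻¹ᵁ U : X.Opens), U.ι ((f ∣_ U) z) = f z.1 := fun z ↦
      congr($(morphismRestrict_ι f U) z)
    have h2 := hU.injective (a₁ := (⟨e (f x), hm⟩ : (f ⁻¹ᵁ U : X.Opens))) (a₂ := ⟨x, hx⟩)
      (U.ι.isOpenEmbedding.injective (by rw [hr, hr]; exact hex))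
    exact ⟨f x, congrArg Subtype.val h2⟩
  have hes : Surjective e := ⟨fun x ↦ by
    have := hd.mono hsub
    rw [dense_iff_closure_eq, e.isClosedEmbedding.isClosed_range.closure_eq] at this
    exact Set.mem_range.mp (this.symm.subset (Set.mem_univ x))⟩
  have hUI : UniversallyInjective f := by
    refine ((tfae_universallyInjective f).out 0 1 :
      UniversallyInjective f ↔ ∀ (K : Type u) [Field K],
        Function.Injective (fun g : Spec (.of K) ⟶ X ↦ g ≫ f)).mpr fun K _ g₁ g₂ hg ↦ ?_
    have key : ∀ g : Spec (.of K) ⟶ X, (g ≫ f) ≫ e = g := fun g ↦ by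
      have : IsClosedImmersion (pullback.fst g e) := inferInstance
      have : Surjective (pullback.fst g e) := MorphismProperty.pullback_fst (P := @Surjective) _ _ hes
      have : IsIso (pullback.fst g e) := isIso_of_isClosedImmersion_of_surjective _
      have hfac : g = (inv (pullback.fst g e) ≫ pullback.snd g e) ≫ e := by
        rw [Category.assoc, ← pullback.condition, IsIso.inv_hom_id_assoc]
      generalize hh : inv (pullback.fst g e) ≫ pullback.snd g e = h at hfac
      subst hfac
      rw [Category.assoc h e f, he, Category.comp_id]
    rw [← key g₁, ← key g₂, show g₁ ≫ f = g₂ ≫ f from hg]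
  have hS : Surjective f := ⟨fun s ↦ ⟨e s, by rw [← Scheme.Hom.comp_apply, he]; rfl⟩⟩
  have : UniversallyClosed (e ≫ f) := by rw [he]; infer_instance
  have hUC : UniversallyClosed f := UniversallyClosed.of_comp_surjective e f
  have h := isUnivHomeo_of f
  refine ⟨h, fun hl ↦ ?_⟩
  have := Groth.Agent.UnivHomeo.isIntegralHom_of_univHomeo h
  exact (IsFinite.iff_isIntegralHom_and_locallyOfFiniteType f).mpr ⟨this, hl⟩

end Groth.Agent.S13097
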