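import Groth.Statements.S13114
import Mathlib

set_option autoImplicit false
universe u
open HilbChow

namespace Groth.Agent.S13114

/-- Let k be an algebraically closed field, A a commutative local k-algebra of finite dimension n over k
and u a unit of A. Then the determinant of multiplication by u on the k-vector space A, mapped to
the residue field of A, equals the n-th power of the residue class of u. -/
theorem result
    (k A : Type u) [Field k] [IsAlgClosed k] [CommRing A] [Algebra k A] [IsLocalRing A]
    [Module.Finite k A] (u : Aˣ) :
    algebraMap k (IsLocalRing.ResidueField A) (Algebra.norm k (u : A)) =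
      IsLocalRing.residue A (u : A) ^ Module.finrank k A := by
  haveI : IsArtinianRing A := IsArtinianRing.of_finite k A
  haveI : Module.Finite k (IsLocalRing.ResidueField A) := inferInstance
  obtain ⟨c, hc⟩ := (IsAlgClosed.algebraMap_bijective_of_isIntegral (k := k) (K := IsLocalRing.ResidueField A)).2
    (IsLocalRing.residue A (u : A))
  have hnil : IsNilpotent ((u : A) - algebraMap k A c) := by
    rw [← mem_nilradical, Ring.KrullDimLE.nilradical_eq_maximalIdeal,
      ← IsLocalRing.residue_eq_zero_iff, map_sub, sub_eq_zero, ← hc]
    rfl
  rw [← hc, ← map_pow]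
  congr 1
  set N := LinearMap.mul k A ((u : A) - algebraMap k A c) with hN
  have hNn : IsNilpotent (-N) := by
    obtain ⟨m, hm⟩ := hnil
    refine IsNilpotent.neg ⟨m, LinearMap.ext fun x => ?_⟩
    have e : ∀ j : ℕ, (N ^ j) x = ((u : A) - algebraMap k A c) ^ j * x := by
      intro j
      induction j with
      | zero => simp
      | succ j ih => rw [pow_succ', Module.End.mul_apply, ih, pow_succ', mul_assoc]; rfl
    rw [e, hm, zero_mul]; rfl
  have h := LinearMap.eval_charpoly (-N) c
  rw [hNn.charpoly_eq_X_pow_finrank, Polynomial.eval_pow, Polynomial.eval_X] at h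
  rw [Algebra.norm_apply, h]
  congr 1
  ext x
  simp [hN, sub_mul, Algebra.smul_def]

end Groth.Agent.S13114
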