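import Groth.Statements.S13120
import Groth.Agent.Cusp8.Basic
import Mathlib.RingTheory.Adjoin.Basic

set_option autoImplicit false
universe u
open KumFam

namespace Groth.Agent.S13120

open MvPolynomial in
/-- Let R be a commutative ring of characteristic 2 and l0, l2, l4, s0, s2, s4, τ ∈ R with τ a unit.
Inside R[u, v] (u = X 0, v = X 1) let A = R[u², u³, v², v³] be the coordinate ring of the product of
two cuspidal curves, and let D be the R-derivation of R[u, v] with D(u) = v²(l0 u⁴ + τ u³ + l2 u² +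
l4) and D(v) = u²(s0 v⁴ + τ v³ + s2 v² + s4); D is u²v² times the rational vector field (l0 u² + τ u
+ l2 + l4 u⁻²) ∂_u + (s0 v² + τ v + s2 + s4 v⁻²) ∂_v, which maps A into itself, and u²v² is a
non-zero-divisor, so the kernel of that vector field on A is the set of a ∈ A with D(a) = 0. Then
for a ∈ A: D(a) = 0 if and only if a ∈ R[u², v², g], where g = (s0 v⁴ + s2 v² + s4) u³ + (l0 u⁴ + l2
u² + l4) v³ + τ u³ v³. (The published statement identifies this kernel with the ring of invariants
of the corresponding action of the group scheme of square roots of unity; this row states the kernel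
computation that is actually carried out.) -/
theorem result (R : Type u) [CommRing R] [CharP R 2]
    (l0 l2 l4 s0 s2 s4 τ : R) (hτ : IsUnit τ) (a : MvPolynomial (Fin 2) R)
    (ha : a ∈ Algebra.adjoin R
      ({X 0 ^ 2, X 0 ^ 3, X 1 ^ 2, X 1 ^ 3} : Set (MvPolynomial (Fin 2) R))) :
    MvPolynomial.mkDerivation R
        (![X 1 ^ 2 * (C l0 * X 0 ^ 4 + C τ * X 0 ^ 3 + C l2 * X 0 ^ 2 + C l4),
          X 0 ^ 2 * (C s0 * X 1 ^ 4 + C τ * X 1 ^ 3 + C s2 * X 1 ^ 2 + C s4)] :
          Fin 2 → MvPolynomial (Fin 2) R) a = 0 ↔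
      a ∈ Algebra.adjoin R
        ({X 0 ^ 2, X 1 ^ 2,
          (C s0 * X 1 ^ 4 + C s2 * X 1 ^ 2 + C s4) * X 0 ^ 3 +
            (C l0 * X 0 ^ 4 + C l2 * X 0 ^ 2 + C l4) * X 1 ^ 3 +
            C τ * X 0 ^ 3 * X 1 ^ 3} : Set (MvPolynomial (Fin 2) R)) := by
  open Groth.Agent.Cusp8 in
    obtain ⟨τ, rfl⟩ := hτ
    set P : MvPolynomial (Fin 2) R := C l0 * X 0 ^ 2 + C l2 * X 0 + C l4 with hP
    set Q : MvPolynomial (Fin 2) R := C s0 * X 1 ^ 2 + C s2 * X 1 + C s4 with hQ
    have h2 := two_eq_zero (R := R)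
    have htt : (C (τ : R) : MvPolynomial (Fin 2) R) * C (↑τ⁻¹ : R) = 1 := by rw [← C_mul, Units.mul_inv, C_1]
    set g : MvPolynomial (Fin 2) R := (C s0 * X 1 ^ 4 + C s2 * X 1 ^ 2 + C s4) * X 0 ^ 3 + (C l0 * X 0 ^ 4 + C l2 * X 0 ^ 2 + C l4) * X 1 ^ 3 +
      C (τ : R) * X 0 ^ 3 * X 1 ^ 3 with hg
    set S := Algebra.adjoin R ({X 0 ^ 2, X 1 ^ 2, g} : Set (MvPolynomial (Fin 2) R)) with hS
    set D := MvPolynomial.mkDerivation R
          (![X 1 ^ 2 * (C l0 * X 0 ^ 4 + C (τ : R) * X 0 ^ 3 + C l2 * X 0 ^ 2 + C l4),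
            X 0 ^ 2 * (C s0 * X 1 ^ 4 + C (τ : R) * X 1 ^ 3 + C s2 * X 1 ^ 2 + C s4)] :
            Fin 2 → MvPolynomial (Fin 2) R) with hD
    have hD0 : D (X 0) = E (X 1) * (E P + E (C (τ : R) * X 0) * X 0) := by
      rw [hD, mkDerivation_X, hP]
      simp only [Matrix.cons_val_zero, map_add, map_mul, map_pow, E_C, E_X]
      ring
    have hD1 : D (X 1) = E (X 0) * (E Q + E (C (τ : R) * X 1) * X 1) := by
      rw [hD, mkDerivation_X, hQ]
      simp only [Matrix.cons_val_one, Matrix.cons_val_zero, map_add, map_mul, map_pow, E_C, E_X]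
      ring
    constructor
    · intro h0
      obtain ⟨a0, b1, b2, b3, rfl⟩ : ∃ a0 b1 b2 b3, a = E a0 + E (X 0 * b1) * X 0 + E (X 1 * b2) * X 1 + E (X 0 * X 1 * b3) * (X 0 * X 1) := by
        clear h0
        induction ha using Algebra.adjoin_induction with
        | mem x hx =>
          simp only [Set.mem_insert_iff, Set.mem_singleton_iff] at hx
          rcases hx with rfl | rfl | rfl | rfl
          · exact ⟨X 0, 0, 0, 0, by simp [E_X]⟩
          · exact ⟨0, 1, 0, 0, by simp [E_X]; ring⟩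
          · exact ⟨X 1, 0, 0, 0, by simp [E_X]⟩
          · exact ⟨0, 0, 1, 0, by simp [E_X]; ring⟩
        | algebraMap r => exact ⟨C r, 0, 0, 0, by simp [E_C, algebraMap_eq]⟩
        | add x y _ _ hx hy =>
          obtain ⟨a, b, c, d, rfl⟩ := hx
          obtain ⟨a', b', c', d', rfl⟩ := hy
          exact ⟨a + a', b + b', c + c', d + d', by simp only [map_add, map_mul]; ring⟩
        | mul x y _ _ hx hy =>
          obtain ⟨a, b, c, d, rfl⟩ := hx
          obtain ⟨a', b', c', d', rfl⟩ := hy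
          exact ⟨a * a' + X 0 ^ 3 * (b * b') + X 1 ^ 3 * (c * c') + X 0 ^ 3 * X 1 ^ 3 * (d * d'),
            a * b' + b * a' + X 1 ^ 3 * (c * d' + d * c'), a * c' + c * a' + X 0 ^ 3 * (b * d' + d * b'),
            a * d' + d * a' + b * c' + c * b', by simp only [map_add, map_mul, map_pow, E_X]; ring⟩
      rw [deriv_parts, hD0, hD1] at h0
      have hz : E (X 0 * b1 * X 1 * P + X 1 * b2 * X 0 * Q) +
          E (X 0 * b1 * X 1 * (C (τ : R) * X 0) + X 0 * X 1 * b3 * X 0 * Q) * X 0 +
          E (X 1 * b2 * X 0 * (C (τ : R) * X 1) + X 0 * X 1 * b3 * X 1 * P) * X 1 + E 0 * (X 0 * X 1) = 0 := by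
        simp only [map_add, map_mul, map_zero] at h0 ⊢
        linear_combination h0 - (E (X 0) * E (X 1) * E b3 * E (C (τ : R)) * E (X 1) * E (X 0) * X 0 * X 1) * h2
      obtain ⟨-, h1, h3, -⟩ := parts_zero hz
      have hX : ∀ i j : Fin 2, ∀ t : MvPolynomial (Fin 2) R, X i * X i * X j * t = 0 → t = 0 := fun i j t ht => by
        have hr : ∀ k : Fin 2, IsRegular (X k : MvPolynomial (Fin 2) R) := fun k => isRegular_X
        exact (((hr i).mul (hr i)).mul (hr j)).left (by simpa using ht)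
      have e1 := hX 0 1 (b1 * C (τ : R) + b3 * Q) (by rw [← h1]; ring)
      have e3 := hX 1 0 (b2 * C (τ : R) + b3 * P) (by rw [← h3]; ring)
      have hb1 : b1 = C (↑τ⁻¹ : R) * b3 * Q := by
        linear_combination C (↑τ⁻¹ : R) * e1 - b1 * htt - C (↑τ⁻¹ : R) * b3 * Q * h2
      have hb2 : b2 = C (↑τ⁻¹ : R) * b3 * P := by
        linear_combination C (↑τ⁻¹ : R) * e3 - b2 * htt - C (↑τ⁻¹ : R) * b3 * P * h2
      have hEmem : ∀ p : MvPolynomial (Fin 2) R, E p ∈ S := fun p => by
        induction p using MvPolynomial.induction_on with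
        | C r => rw [E_C, ← algebraMap_eq]; exact S.algebraMap_mem r
        | add p q hp hq => rw [map_add]; exact S.add_mem hp hq
        | mul_X p i hp =>
          rw [map_mul, E_X]
          refine S.mul_mem hp (Algebra.subset_adjoin ?_)
          fin_cases i <;> simp
      have hgen : g = E (X 0 * Q) * X 0 + E (X 1 * P) * X 1 + E (X 0 * X 1 * C (τ : R)) * (X 0 * X 1) := by
        rw [hg, hP, hQ]; simp only [map_add, map_mul, map_pow, E_C, E_X]; ring
      have : E a0 + E (X 0 * b1) * X 0 + E (X 1 * b2) * X 1 + E (X 0 * X 1 * b3) * (X 0 * X 1) =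
          E a0 + E (C (↑τ⁻¹ : R) * b3) * g := by
        rw [hgen, hb1, hb2]
        have h' : E (C (τ : R)) * E (C (↑τ⁻¹ : R)) = 1 := by rw [← map_mul, htt, map_one]
        simp only [map_mul]
        linear_combination -(E (X 0) * E (X 1) * E b3 * X 0 * X 1) * h'
      rw [this]
      exact S.add_mem (hEmem _) (S.mul_mem (hEmem _) (Algebra.subset_adjoin (by simp)))
    · intro h
      clear ha
      have hDg : D g = 0 := by
        have hgen : g = E 0 + E (X 0 * Q) * X 0 + E (X 1 * P) * X 1 + E (X 0 * X 1 * C (τ : R)) * (X 0 * X 1) := by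
          rw [hg, hP, hQ]; simp only [map_add, map_mul, map_pow, map_zero, E_C, E_X]; ring
        rw [hgen, deriv_parts, hD0, hD1]
        simp only [map_mul]
        linear_combination (E (X 0) * E (X 1) * (E P * E Q + E (C (τ : R)) * E Q * E (X 0) * X 0 +
          E (C (τ : R)) * E P * E (X 1) * X 1 + E (C (τ : R)) ^ 2 * E (X 0) * E (X 1) * X 0 * X 1)) * h2
      induction h using Algebra.adjoin_induction with
      | mem x hx =>
        simp only [Set.mem_insert_iff, Set.mem_singleton_iff] at hx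
        rcases hx with rfl | rfl | rfl
        · rw [← E_X]; exact deriv_E D _
        · rw [← E_X]; exact deriv_E D _
        · exact hDg
      | algebraMap r => exact D.map_algebraMap r
      | add x y _ _ hx hy => rw [map_add, hx, hy, add_zero]
      | mul x y _ _ hx hy => rw [Derivation.leibniz, hx, hy, smul_zero, smul_zero, add_zero]

end Groth.Agent.S13120
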