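import Groth.Statements.S13122
import Groth.Agent.Cusp8.Basic

set_option autoImplicit false
universe u
open KumFam

namespace Groth.Agent.S13122

open MvPolynomial in
/-- Let R be a commutative ring of characteristic 2 and l0, l2, l4, s0, s2, s4, τ ∈ R with τ a unit. On
R[x, y] (x = X 0, y = X 1; the coordinates u⁻¹, v⁻¹ of the smooth chart of the product of two
cuspidal curves) let D be the R-derivation with D(x) = l4 x⁴ + l2 x² + τ x + l0 and D(y) = s4 y⁴ +
s2 y² + τ y + s0, and put h = (s4 y⁴ + s2 y² + s0) x + (l4 x⁴ + l2 x² + l0) y + τ x y. Then: (1) for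
p ∈ R[x, y], D(p) = 0 if and only if p lies in the image of the R-algebra homomorphism R[a, b, c] →
R[x, y] (a = X 0, b = X 1, c = X 2) with a ↦ x², b ↦ y², c ↦ h; (2) the kernel of that homomorphism
is the ideal generated by c² + τ² a b + (s4² b⁴ + s2² b² + s0²) a + (l4² a⁴ + l2² a² + l0²) b. (The
published statement asserts that the ring of invariants of the action of the group scheme of square
roots of unity given by this vector field is R[a, b, c] modulo this equation, by the same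
computation as on the other chart; this row pins the generator h and states the kernel computation.) -/
theorem result (R : Type u) [CommRing R]
    [CharP R 2] (l0 l2 l4 s0 s2 s4 τ : R) (hτ : IsUnit τ) :
    (∀ p : MvPolynomial (Fin 2) R,
      MvPolynomial.mkDerivation R
          (![C l4 * X 0 ^ 4 + C l2 * X 0 ^ 2 + C τ * X 0 + C l0,
            C s4 * X 1 ^ 4 + C s2 * X 1 ^ 2 + C τ * X 1 + C s0] :
            Fin 2 → MvPolynomial (Fin 2) R) p = 0 ↔
        p ∈ (MvPolynomial.aeval (R := R) (S₁ := MvPolynomial (Fin 2) R)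
          ![X 0 ^ 2, X 1 ^ 2,
            (C s4 * X 1 ^ 4 + C s2 * X 1 ^ 2 + C s0) * X 0 +
              (C l4 * X 0 ^ 4 + C l2 * X 0 ^ 2 + C l0) * X 1 + C τ * X 0 * X 1]).range) ∧
    RingHom.ker (MvPolynomial.aeval (R := R) (S₁ := MvPolynomial (Fin 2) R)
        ![X 0 ^ 2, X 1 ^ 2,
          (C s4 * X 1 ^ 4 + C s2 * X 1 ^ 2 + C s0) * X 0 +
            (C l4 * X 0 ^ 4 + C l2 * X 0 ^ 2 + C l0) * X 1 + C τ * X 0 * X 1]) =
      Ideal.span {(X 2 ^ 2 + C (τ ^ 2) * X 0 * X 1 +
        (C (s4 ^ 2) * X 1 ^ 4 + C (s2 ^ 2) * X 1 ^ 2 + C (s0 ^ 2)) * X 0 +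
        (C (l4 ^ 2) * X 0 ^ 4 + C (l2 ^ 2) * X 0 ^ 2 + C (l0 ^ 2)) * X 1 : MvPolynomial (Fin 3) R)} := by
  open Groth.Agent.Cusp8 in
    obtain ⟨τ, rfl⟩ := hτ
    set P : MvPolynomial (Fin 2) R := C l4 * X 0 ^ 2 + C l2 * X 0 + C l0 with hP
    set Q : MvPolynomial (Fin 2) R := C s4 * X 1 ^ 2 + C s2 * X 1 + C s0 with hQ
    have h2 := two_eq_zero (R := R)
    have htt : (C (τ : R) : MvPolynomial (Fin 2) R) * C (↑τ⁻¹ : R) = 1 := by rw [← C_mul, Units.mul_inv, C_1]
    set g : MvPolynomial (Fin 2) R := (C s4 * X 1 ^ 4 + C s2 * X 1 ^ 2 + C s0) * X 0 + (C l4 * X 0 ^ 4 + C l2 * X 0 ^ 2 + C l0) * X 1 +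
      C (τ : R) * X 0 * X 1 with hg
    have hgen : g = E Q * X 0 + E P * X 1 + E (C (τ : R)) * (X 0 * X 1) := by
      rw [hg, hP, hQ]; simp only [map_add, map_mul, map_pow, E_C, E_X]; ring
    set D := MvPolynomial.mkDerivation R
            (![C l4 * X 0 ^ 4 + C l2 * X 0 ^ 2 + C (τ : R) * X 0 + C l0,
              C s4 * X 1 ^ 4 + C s2 * X 1 ^ 2 + C (τ : R) * X 1 + C s0] :
              Fin 2 → MvPolynomial (Fin 2) R) with hD
    have hD0 : D (X 0) = E P + E (C (τ : R)) * X 0 := by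
      rw [hD, mkDerivation_X, hP]
      simp only [Matrix.cons_val_zero, map_add, map_mul, map_pow, E_C, E_X]
      ring
    have hD1 : D (X 1) = E Q + E (C (τ : R)) * X 1 := by
      rw [hD, mkDerivation_X, hQ]
      simp only [Matrix.cons_val_one, Matrix.cons_val_zero, map_add, map_mul, map_pow, E_C, E_X]
      ring
    have hDg : D g = 0 := by
      have hgen' : g = E 0 + E Q * X 0 + E P * X 1 + E (C (τ : R)) * (X 0 * X 1) := by rw [hgen, map_zero, zero_add]
      rw [hgen', deriv_parts, hD0, hD1]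
      linear_combination (E P * E Q + E (C (τ : R)) * E Q * X 0 + E (C (τ : R)) * E P * X 1 + E (C (τ : R)) ^ 2 * X 0 * X 1) * h2
    set φ := MvPolynomial.aeval (R := R) (S₁ := MvPolynomial (Fin 2) R) ![X 0 ^ 2, X 1 ^ 2, g] with hφ
    refine ⟨fun p => ⟨fun h0 => ?_, ?_⟩, ?_⟩
    · obtain ⟨a0, a1, a2, a3, rfl⟩ := exists_parts p
      rw [deriv_parts, hD0, hD1] at h0
      have hz : E (a1 * P + a2 * Q) + E (a1 * C (τ : R) + a3 * Q) * X 0 + E (a2 * C (τ : R) + a3 * P) * X 1 + E 0 * (X 0 * X 1) = 0 := by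
        simp only [map_add, map_mul, map_zero] at h0 ⊢
        linear_combination h0 - (E a3 * E (C (τ : R)) * X 0 * X 1) * h2
      obtain ⟨-, e1, e3, -⟩ := parts_zero hz
      have hb1 : a1 = C (↑τ⁻¹ : R) * a3 * Q := by
        linear_combination C (↑τ⁻¹ : R) * e1 - a1 * htt - C (↑τ⁻¹ : R) * a3 * Q * h2
      have hb2 : a2 = C (↑τ⁻¹ : R) * a3 * P := by
        linear_combination C (↑τ⁻¹ : R) * e3 - a2 * htt - C (↑τ⁻¹ : R) * a3 * P * h2
      have hι : ∀ q : MvPolynomial (Fin 2) R, φ (rename Fin.castSucc q) = E q := fun q => by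
        have : φ.comp (rename Fin.castSucc) = E := MvPolynomial.algHom_ext fun i => by
          rw [AlgHom.comp_apply, rename_X, E_X, hφ, aeval_X]
          fin_cases i <;> rfl
        exact AlgHom.congr_fun this q
      refine ⟨rename Fin.castSucc a0 + rename Fin.castSucc (C (↑τ⁻¹ : R) * a3) * X 2, ?_⟩
      show φ _ = _
      rw [map_add, map_mul φ, hι, hι, hφ, aeval_X]
      show E a0 + E (C (↑τ⁻¹ : R) * a3) * g = _
      have h' : E (C (τ : R)) * E (C (↑τ⁻¹ : R)) = 1 := by rw [← map_mul, htt, map_one]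
      rw [hgen, hb1, hb2]
      simp only [map_mul]
      linear_combination (E a3 * X 0 * X 1) * h'
    · rintro ⟨q, rfl⟩
      show D (φ q) = 0
      induction q using MvPolynomial.induction_on with
      | C r => rw [hφ, aeval_C]; exact D.map_algebraMap r
      | add a b ha hb => rw [map_add, map_add, ha, hb, add_zero]
      | mul_X a i ha =>
        rw [map_mul, Derivation.leibniz, ha, smul_zero, add_zero, hφ, aeval_X]
        fin_cases i
        · show _ • D (X 0 ^ 2) = 0
          rw [show D (X 0 ^ 2) = 0 from by rw [← E_X]; exact deriv_E D _, smul_zero]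
        · show _ • D (X 1 ^ 2) = 0
          rw [show D (X 1 ^ 2) = 0 from by rw [← E_X]; exact deriv_E D _, smul_zero]
        · show _ • D g = 0
          rw [hDg, smul_zero]
    · rw [hφ, ker_eq g (C ((τ : R) ^ 2) * X 0 * X 1 + (C (s4 ^ 2) * X 1 ^ 4 + C (s2 ^ 2) * X 1 ^ 2 + C (s0 ^ 2)) * X 0 +
          (C (l4 ^ 2) * X 0 ^ 4 + C (l2 ^ 2) * X 0 ^ 2 + C (l0 ^ 2)) * X 1)]
      · congr 2
        simp only [map_add, map_mul, map_pow, rename_C, rename_X, Fin.castSucc_zero, Fin.castSucc_one]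
        ring
      · haveI : CharP (MvPolynomial (Fin 2) R) 2 := inferInstance
        rw [hg]
        simp only [CharTwo.add_sq, map_add, map_mul, map_pow, E_C, E_X, add_mul]
        ring
      · intro p0 p1 h
        have hz : E p0 + E (p1 * Q) * X 0 + E (p1 * P) * X 1 + E (p1 * C (τ : R)) * (X 0 * X 1) = 0 := by
          rw [← h, hgen]; simp only [map_mul]; ring
        obtain ⟨h0, -, -, h3⟩ := parts_zero hz
        exact ⟨h0, ((τ.isUnit.map C).isRegular).right (by simpa using h3)⟩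

end Groth.Agent.S13122
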