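import Groth.Statements.S13124
import Mathlib

set_option autoImplicit false
universe u v w
open KumFam

namespace Groth.Agent.S13124

theorem aux {S R : Type*} [CommRing S] [CommRing R] [IsDomain R] [IsIntegrallyClosed R] (v : S →+* R)
    (hv : Function.Injective v) (h : ∀ (a b : S) (r : R), v b ≠ 0 → v b * r = v a → ∃ s, v s = r) :
    IsIntegrallyClosed S := by
  haveI : IsDomain S := hv.isDomain v
  refine (isIntegrallyClosed_iff (FractionRing S)).2 fun {x} hx => ?_
  obtain ⟨⟨a, b⟩, rfl⟩ := IsLocalization.mk'_surjective (nonZeroDivisors S) x
  let ι : S →+* FractionRing R := (algebraMap R (FractionRing R)).comp v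
  have hι : Function.Injective ι := (IsFractionRing.injective R _).comp hv
  let j : FractionRing S →+* FractionRing R := IsFractionRing.lift hι
  have hj : ∀ s, j (algebraMap S (FractionRing S) s) = algebraMap R (FractionRing R) (v s) := fun s =>
    IsFractionRing.lift_algebraMap hι s
  obtain ⟨P, hP, hPx⟩ := hx
  have hint : IsIntegral R (j (IsLocalization.mk' _ a b)) := by
    refine ⟨P.map v, hP.map _, ?_⟩
    rw [Polynomial.eval₂_map]
    have h := Polynomial.hom_eval₂ P (algebraMap S (FractionRing S)) j (IsLocalization.mk' _ a b)
    rw [hPx, map_zero] at h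
    have : j.comp (algebraMap S (FractionRing S)) = (algebraMap R (FractionRing R)).comp v := RingHom.ext hj
    rw [this] at h
    exact h.symm
  obtain ⟨r, hr⟩ := IsIntegrallyClosed.isIntegral_iff.1 hint
  have hbr : v b.1 * r = v a := by
    apply IsFractionRing.injective R (FractionRing R)
    rw [map_mul, hr, ← hj, ← hj, ← map_mul, mul_comm, IsLocalization.mk'_spec]
  obtain ⟨s, rfl⟩ := h a b.1 r (fun e => nonZeroDivisors.ne_zero b.2 (hv (e.trans (map_zero v).symm))) hbr
  refine ⟨s, ?_⟩
  rw [IsLocalization.eq_mk'_iff_mul_eq, ← map_mul]
  congr 1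
  exact hv (by rw [map_mul, ← hbr, mul_comm])


/-- Let k be a commutative ring, A a commutative k-bialgebra that is flat over k, and R a commutative
k-algebra which is an integrally closed domain, with a coaction R → R ⊗ A that is an algebra
homomorphism. Then the ring of invariants (the elements f with coaction f ⊗ 1) is an integrally
closed domain. (The published statement is for a finite group scheme acting on a normal scheme whose
quotient is, locally, the spectrum of the ring of invariants; this row is the affine integral case
and allows any commutative bialgebra flat over k, flatness being automatic over a field.) -/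
theorem result (k : Type u) [CommRing k]
    (A : Type v) [CommRing A] [Bialgebra k A] [Module.Flat k A]
    (R : Type w) [CommRing R] [Algebra k R] [IsDomain R] [IsIntegrallyClosed R]
    [HopfRep.Comod k A R] [GLin.IsCoactAlg k A R] :
    IsIntegrallyClosed (GLin.invariants k A R) := by
  let S := GLin.invariants k A R
  refine aux (S := S) S.val.toRingHom Subtype.val_injective fun a b r hb0 hbr => ?_
  change (b : R) ≠ 0 at hb0
  change (b : R) * r = (a : R) at hbr
  have hinj : Function.Injective (LinearMap.rTensor A (LinearMap.mulLeft k (b : R))) :=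
    Module.Flat.rTensor_preserves_injective_linearMap _ (fun u v h => mul_left_cancel₀ hb0 h)
  have hmul : ∀ z : TensorProduct k R A, LinearMap.rTensor A (LinearMap.mulLeft k (b : R)) z = ((b : R) ⊗ₜ[k] (1 : A)) * z := by
    intro z
    induction z with
    | zero => simp
    | tmul u v => simp
    | add u v h1 h2 => rw [map_add, h1, h2, mul_add]
  have hr' : r ∈ S := by
    show HopfRep.Comod.coact (k := k) (A := A) r = r ⊗ₜ[k] (1 : A)
    apply hinj
    rw [hmul, hmul, Algebra.TensorProduct.tmul_mul_tmul, one_mul, hbr]
    have hb : HopfRep.Comod.coact (k := k) (A := A) (b : R) = (b : R) ⊗ₜ[k] (1 : A) := b.2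
    rw [← hb, ← GLin.IsCoactAlg.coact_mul, hbr]
    exact a.2
  exact ⟨⟨r, hr'⟩, rfl⟩

end Groth.Agent.S13124
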