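import Groth.Statements.S13125
import Mathlib.RingTheory.Artinian.Module
import Mathlib.RingTheory.Artinian.Ring
import Mathlib.Algebra.Star.SelfAdjoint
import Mathlib.Algebra.Star.Module
import Mathlib.RingTheory.FiniteType
import Mathlib.Algebra.Polynomial.Roots
import Mathlib.LinearAlgebra.Lagrange
import Mathlib.Algebra.CharP.Defs
import Mathlib.RingTheory.GradedAlgebra.Homogeneous.Ideal
import Mathlib.RingTheory.GradedAlgebra.Basic

set_option autoImplicit false
universe u v
open KumFam

namespace Groth.Agent.S13125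

/-- Let A be a commutative ring graded by an additive monoid ι (an abelian group in the published
statement) through additive subgroups 𝒜 i, and I an ideal of A. Then I is a homogeneous ideal if and
only if A/I carries a structure of ι-graded ring ℬ for which the quotient map sends 𝒜 i into ℬ i for
all i. -/
theorem result (ι : Type u) [DecidableEq ι] [AddMonoid ι]
    (A : Type v) [CommRing A] (𝒜 : ι → AddSubgroup A) [GradedRing 𝒜] (I : Ideal A) :
    I.IsHomogeneous 𝒜 ↔
      ∃ ℬ : ι → AddSubgroup (A ⧸ I), Nonempty (GradedRing ℬ) ∧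
        ∀ i : ι, (𝒜 i).map (Ideal.Quotient.mk I : A →+ A ⧸ I) ≤ ℬ i := by
  constructor
  · intro hI
    let ℬ : ι → AddSubgroup (A ⧸ I) := fun i => (𝒜 i).map (Ideal.Quotient.mk I : A →+ A ⧸ I)
    let φ : ∀ i, 𝒜 i →+ ℬ i := fun i => (Ideal.Quotient.mk I : A →+ A ⧸ I).addSubgroupMap (𝒜 i)
    let Φ : A →+ DirectSum ι (fun i => ℬ i) :=
      (DirectSum.map φ).comp (DirectSum.decomposeAddEquiv 𝒜).toAddMonoidHom
    have hΦ : I.toAddSubgroup ≤ Φ.ker := fun x hx => by
      rw [AddMonoidHom.mem_ker]
      refine DFinsupp.ext fun i => Subtype.ext ?_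
      change (((DirectSum.map φ) (DirectSum.decompose 𝒜 x)) i : A ⧸ I) = 0
      rw [DirectSum.map_apply]
      exact Ideal.Quotient.eq_zero_iff_mem.mpr (hI i hx)
    let Ψ : A ⧸ I →+ DirectSum ι (fun i => ℬ i) := QuotientAddGroup.lift I.toAddSubgroup Φ hΦ
    refine ⟨ℬ, ⟨?_⟩, fun i => le_rfl⟩
    exact
      { one_mem := ⟨1, SetLike.one_mem_graded 𝒜, map_one (Ideal.Quotient.mk I)⟩
        mul_mem := by
          rintro i j _ _ ⟨a, ha, rfl⟩ ⟨b, hb, rfl⟩
          exact ⟨a * b, SetLike.mul_mem_graded ha hb, map_mul (Ideal.Quotient.mk I) a b⟩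
        toDecomposition := DirectSum.Decomposition.ofAddHom ℬ Ψ
          (AddMonoidHom.ext fun x => by
            obtain ⟨x, rfl⟩ := Ideal.Quotient.mk_surjective x
            change DirectSum.coeAddMonoidHom ℬ (Φ x) = Ideal.Quotient.mk I x
            induction x using DirectSum.Decomposition.inductionOn 𝒜 with
            | zero => simp
            | homogeneous m =>
              simp only [Φ, AddMonoidHom.comp_apply, AddEquiv.coe_toAddMonoidHom,
                DirectSum.decomposeAddEquiv_apply, DirectSum.decompose_coe]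
              rw [DirectSum.map_of, DirectSum.coeAddMonoidHom_of]
              rfl
            | add a b ha hb => rw [map_add, map_add, map_add, ha, hb])
          (DirectSum.addHom_ext fun i m => by
            obtain ⟨_, a, ha, rfl⟩ := m
            simp only [AddMonoidHom.comp_apply, DirectSum.coeAddMonoidHom_of, AddMonoidHom.id_apply]
            change Φ a = _
            simp only [Φ, AddMonoidHom.comp_apply, AddEquiv.coe_toAddMonoidHom,
              DirectSum.decomposeAddEquiv_apply, DirectSum.decompose_of_mem 𝒜 ha]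
            rw [DirectSum.map_of]
            rfl) }
  · rintro ⟨ℬ, ⟨hB⟩, h⟩ i x hx
    have key : ∀ (x : A), (DirectSum.decompose ℬ (Ideal.Quotient.mk I x) i : A ⧸ I) =
        Ideal.Quotient.mk I (DirectSum.decompose 𝒜 x i : A) := by
      intro x
      induction x using DirectSum.Decomposition.inductionOn 𝒜 with
      | zero => simp
      | @homogeneous j m =>
        have hm : Ideal.Quotient.mk I (m : A) ∈ ℬ j := h j ⟨m, m.2, rfl⟩
        rcases eq_or_ne j i with rfl | hne
        · rw [DirectSum.decompose_of_mem_same ℬ hm, DirectSum.decompose_of_mem_same 𝒜 m.2]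
        · rw [DirectSum.decompose_of_mem_ne ℬ hm hne, DirectSum.decompose_of_mem_ne 𝒜 m.2 hne, map_zero]
      | add a b ha hb => simp [ha, hb]
    have h2 := key x
    rw [Ideal.Quotient.eq_zero_iff_mem.mpr hx, DirectSum.decompose_zero] at h2
    exact Ideal.Quotient.eq_zero_iff_mem.mp h2.symm

end Groth.Agent.S13125
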