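import Groth.Statements.S13127
import Groth.Agent.Lead.PsSubst
import Mathlib.Algebra.CharP.Two
import Mathlib.Tactic.FinCases
import Mathlib.Tactic.LinearCombination

set_option autoImplicit false
universe u
open KumFam

namespace Groth.Agent.S13127

open MvPowerSeries in
/-- Let R be a commutative ring of characteristic 2 and l0, l2, l4, s0, s2, s4, τ, lam, sig ∈ R with l4,
s4, lam, sig units, and let κ₁, κ₂ ∈ R satisfy s4² κ₁³ = sig² and l4² κ₂³ = lam² (cube roots of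
sig²/s4² and lam²/l4²). In the power series ring R[[a, b, c]] (a = X 0, b = X 1, c = X 2) put F = c²
+ s0² a³ b⁴ + s2² a³ b² + s4² a³ + l0² a⁴ b³ + l2² a² b³ + l4² b³ + τ² a³ b³ and F₀ = c² + sig² a³ +
lam² b³. Then some R-algebra automorphism of R[[a, b, c]] maps F to F₀; consequently R[[a, b,
c]]/(F) ≅ R[[a, b, c]]/(F₀). (In the published statement lam, sig are the representatives in the
ground field of the residues of l4, s4 at a rational point, so that F₀ is the equation of the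
special fibre made constant; this row takes them to be arbitrary units.) -/
theorem result (R : Type u) [CommRing R] [CharP R 2]
    (l0 l2 l4 s0 s2 s4 τ lam sig κ₁ κ₂ : R) (hl4 : IsUnit l4) (hs4 : IsUnit s4) (hlam : IsUnit lam)
    (hsig : IsUnit sig) (h₁ : s4 ^ 2 * κ₁ ^ 3 = sig ^ 2) (h₂ : l4 ^ 2 * κ₂ ^ 3 = lam ^ 2) :
    ∃ φ : MvPowerSeries (Fin 3) R ≃ₐ[R] MvPowerSeries (Fin 3) R,
      φ ((X 2 ^ 2 + C (s0 ^ 2) * X 0 ^ 3 * X 1 ^ 4 + C (s2 ^ 2) * X 0 ^ 3 * X 1 ^ 2 +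
          C (s4 ^ 2) * X 0 ^ 3 + C (l0 ^ 2) * X 0 ^ 4 * X 1 ^ 3 + C (l2 ^ 2) * X 0 ^ 2 * X 1 ^ 3 +
          C (l4 ^ 2) * X 1 ^ 3 + C (τ ^ 2) * X 0 ^ 3 * X 1 ^ 3 : MvPowerSeries (Fin 3) R)) =
        (X 2 ^ 2 + C (sig ^ 2) * X 0 ^ 3 + C (lam ^ 2) * X 1 ^ 3 : MvPowerSeries (Fin 3) R) := by
  have two : (2 : R) = 0 := CharTwo.two_eq_zero
  have h3 : IsUnit (3 : R) := by
    rw [show (3 : R) = 1 from by linear_combination two]; exact isUnit_one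
  set d := Ring.inverse (s4 ^ 2) with hd
  set e := Ring.inverse (l4 ^ 2) with he
  have hd' : s4 ^ 2 * d = 1 := Ring.mul_inverse_cancel _ (hs4.pow 2)
  have he' : l4 ^ 2 * e = 1 := Ring.mul_inverse_cancel _ (hl4.pow 2)
  obtain ⟨r₁, hr₁, hr₁'⟩ := Groth.Agent.Lead.PsSubst.exists_cube_eq_one_add h3
    (w := (C d * (C (s2 ^ 2) * X 1 ^ 2 + C (τ ^ 2) * X 1 ^ 3 + C (s0 ^ 2) * X 1 ^ 4) :
      MvPowerSeries (Fin 3) R)) (by simp)
  obtain ⟨r₂, hr₂, hr₂'⟩ := Groth.Agent.Lead.PsSubst.exists_cube_eq_one_add h3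
    (w := (C e * (C (l2 ^ 2) * X 0 ^ 2 + C (l0 ^ 2) * X 0 ^ 4) :
      MvPowerSeries (Fin 3) R)) (by simp)
  have hk₁ : IsUnit κ₁ := (isUnit_pow_iff three_ne_zero).1
    (IsUnit.mul_iff.1 (show IsUnit (s4 ^ 2 * κ₁ ^ 3) from h₁ ▸ hsig.pow 2)).2
  have hk₂ : IsUnit κ₂ := (isUnit_pow_iff three_ne_zero).1
    (IsUnit.mul_iff.1 (show IsUnit (l4 ^ 2 * κ₂ ^ 3) from h₂ ▸ hlam.pow 2)).2
  have hi₁ : κ₁ * Ring.inverse κ₁ = 1 := Ring.mul_inverse_cancel _ hk₁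
  have hi₂ : κ₂ * Ring.inverse κ₂ = 1 := Ring.mul_inverse_cancel _ hk₂
  set v : Fin 3 → MvPowerSeries (Fin 3) R :=
    ![C (Ring.inverse κ₁) * r₁, C (Ring.inverse κ₂) * r₂, 1] with hv
  have hu : ∀ i, IsUnit (constantCoeff (v i)) := by
    intro i
    fin_cases i <;> simp [hv, hr₁, hr₂, hk₁, hk₂]
  have hS : HasSubst (fun i => X i * v i) := Groth.Agent.Lead.PsSubst.hasSubst_mul_unit v
  let ψ : MvPowerSeries (Fin 3) R →ₐ[R] MvPowerSeries (Fin 3) R := substAlgHom hS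
  have hb : Function.Bijective ψ := by
    simpa [ψ, coe_substAlgHom] using Groth.Agent.Lead.PsSubst.bijective_subst_mul_unit v hu
  refine ⟨(AlgEquiv.ofBijective ψ hb).symm, ?_⟩
  rw [AlgEquiv.symm_apply_eq, AlgEquiv.coe_ofBijective]
  have hC : ∀ x : R, ψ (C x) = C x := fun x => ψ.commutes x
  have hX : ∀ i, ψ (X i) = X i * v i := fun i => substAlgHom_X hS i
  simp only [map_add, map_mul, map_pow, hC, hX]
  simp only [hv, Matrix.cons_val_zero, Matrix.cons_val_one, Matrix.cons_val]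
  have c1 : (C sig : MvPowerSeries (Fin 3) R) ^ 2 * C (Ring.inverse κ₁) ^ 3 = C s4 ^ 2 := by
    rw [← map_pow, ← map_pow, ← map_pow, ← map_mul, ← h₁]; congr 1
    linear_combination (s4 ^ 2 * ((κ₁ * Ring.inverse κ₁) ^ 2 + κ₁ * Ring.inverse κ₁ + 1)) * hi₁
  have c2 : (C lam : MvPowerSeries (Fin 3) R) ^ 2 * C (Ring.inverse κ₂) ^ 3 = C l4 ^ 2 := by
    rw [← map_pow, ← map_pow, ← map_pow, ← map_mul, ← h₂]; congr 1
    linear_combination (l4 ^ 2 * ((κ₂ * Ring.inverse κ₂) ^ 2 + κ₂ * Ring.inverse κ₂ + 1)) * hi₂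
  have c3 : (C s4 : MvPowerSeries (Fin 3) R) ^ 2 * C d = 1 := by
    rw [← map_pow, ← map_mul, hd', map_one]
  have c4 : (C l4 : MvPowerSeries (Fin 3) R) ^ 2 * C e = 1 := by
    rw [← map_pow, ← map_mul, he', map_one]
  simp only [map_pow] at hr₁' hr₂'
  linear_combination (-(X 0 ^ 3 * r₁ ^ 3)) * c1 + (-(X 1 ^ 3 * r₂ ^ 3)) * c2 +
    (-(X 0 ^ 3 * C s4 ^ 2)) * hr₁' + (-(X 1 ^ 3 * C l4 ^ 2)) * hr₂' +
    (-(X 0 ^ 3 * (C s2 ^ 2 * X 1 ^ 2 + C τ ^ 2 * X 1 ^ 3 + C s0 ^ 2 * X 1 ^ 4))) * c3 +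
    (-(X 1 ^ 3 * (C l2 ^ 2 * X 0 ^ 2 + C l0 ^ 2 * X 0 ^ 4))) * c4

end Groth.Agent.S13127
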