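import Groth.Statements.S13128
import Groth.Agent.Lead.PsSubst
import Mathlib.Algebra.CharP.Two
import Mathlib.Tactic.FinCases
import Mathlib.Tactic.LinearCombination

set_option autoImplicit false
universe u
open KumFam

namespace Groth.Agent.S13128

open MvPowerSeries in
/-- Let R be a commutative ring of characteristic 2, l0, l2, l4, s0, s2, s4, τ ∈ R with τ a unit, and α,
β ∈ R with l4² α⁴ + l2² α² + τ² α + l0² = 0 and s4² β⁴ + s2² β² + τ² β + s0² = 0. In characteristic
2 these relations give τ² α = (l4 α² + l2 α + l0)² and τ² β = (s4 β² + s2 β + s0)², so α = α′² and β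
= β′² with α′ = (l4 α² + l2 α + l0)/τ and β′ = (s4 β² + s2 β + s0)/τ. In R[[a, b, c]] (a = X 0, b =
X 1, c = X 2) put h = c² + τ² a b + (s4² b⁴ + s2² b²) a + (l4² a⁴ + l2² a²) b + l4² β a⁴ + l2² β a²
+ s4² α b⁴ + s2² α b²; this is the chart equation c² + τ² a b + (s4² b⁴ + s2² b² + s0²) a + (l4² a⁴
+ l2² a² + l0²) b after the substitution a ↦ a + α, b ↦ b + β, c ↦ c + τ α′ β′, which moves the
point (α, β, τ α′ β′) of that surface, where all partial derivatives vanish, to the origin. Then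
some R-algebra automorphism of R[[a, b, c]] maps h to c² + a b; consequently R[[a, b, c]]/(h) ≅
R[[a, b, c]]/(c² + a b), the completed local ring of an ordinary double point, constant over R. (The
published statement translates only a and b, so that its h carries the additional constant term τ² α
β; with that term h is a unit of R[[a, b, c]] whenever τ α β is a unit, for instance c² + a b + 1
over the field with two elements with l0 = s0 = τ = α = β = 1 and l2 = l4 = s2 = s4 = 0, and no ring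
automorphism carries a unit to c² + a b. The published proof begins by shifting c by a polynomial in
a, b whose constant term is τ α′ β′, a substitution of the polynomial ring which removes the term τ²
α β, and the rest of its argument takes place in R[[a, b, c]]; this row states the result for the
fully translated equation, which is what that argument proves.) -/
theorem result (R : Type u) [CommRing R] [CharP R 2]
    (l0 l2 l4 s0 s2 s4 τ α β : R) (hτ : IsUnit τ)
    (hα : l4 ^ 2 * α ^ 4 + l2 ^ 2 * α ^ 2 + τ ^ 2 * α + l0 ^ 2 = 0)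
    (hβ : s4 ^ 2 * β ^ 4 + s2 ^ 2 * β ^ 2 + τ ^ 2 * β + s0 ^ 2 = 0) :
    ∃ φ : MvPowerSeries (Fin 3) R ≃ₐ[R] MvPowerSeries (Fin 3) R,
      φ ((X 2 ^ 2 + C (τ ^ 2) * X 0 * X 1 + (C (s4 ^ 2) * X 1 ^ 4 + C (s2 ^ 2) * X 1 ^ 2) * X 0 +
          (C (l4 ^ 2) * X 0 ^ 4 + C (l2 ^ 2) * X 0 ^ 2) * X 1 + C (l4 ^ 2 * β) * X 0 ^ 4 +
          C (l2 ^ 2 * β) * X 0 ^ 2 + C (s4 ^ 2 * α) * X 1 ^ 4 + C (s2 ^ 2 * α) * X 1 ^ 2 :
          MvPowerSeries (Fin 3) R)) =
        (X 2 ^ 2 + X 0 * X 1 : MvPowerSeries (Fin 3) R) := by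
  have two : (2 : MvPowerSeries (Fin 3) R) = 0 := by
    have := congrArg (C : R →+* MvPowerSeries (Fin 3) R) (CharTwo.two_eq_zero (R := R))
    rwa [map_ofNat, map_zero] at this
  have twoR : (2 : R) = 0 := CharTwo.two_eq_zero
  set i := Ring.inverse τ with hidef
  have hi : τ * i = 1 := Ring.mul_inverse_cancel _ hτ
  set j := Ring.inverse (τ ^ 2) with hjdef
  set α' := (l4 * α ^ 2 + l2 * α + l0) * i with hα'
  set β' := (s4 * β ^ 2 + s2 * β + s0) * i with hβ'
  have eα : α' ^ 2 = α := by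
    rw [hα']
    linear_combination (i ^ 2) * hα + (i ^ 2 * (l4 * l2 * α ^ 3 + l4 * l0 * α ^ 2 + l2 * l0 * α
      - τ ^ 2 * α)) * twoR + (α * (τ * i + 1)) * hi
  have eβ : β' ^ 2 = β := by
    rw [hβ']
    linear_combination (i ^ 2) * hβ + (i ^ 2 * (s4 * s2 * β ^ 3 + s4 * s0 * β ^ 2 + s2 * s0 * β
      - τ ^ 2 * β)) * twoR + (β * (τ * i + 1)) * hi
  set P : MvPowerSeries (Fin 3) R := C β' * (C l4 * X 0 ^ 2 + C l2 * X 0) +
    C α' * (C s4 * X 1 ^ 2 + C s2 * X 1) with hP
  set w : MvPowerSeries (Fin 3) R := C (τ ^ 2) + (C (s4 ^ 2) * X 1 ^ 3 + C (s2 ^ 2) * X 1 +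
    C (l4 ^ 2) * X 0 ^ 3 + C (l2 ^ 2) * X 0) with hw
  -- first: `b ↦ b * w`
  set v : Fin 3 → MvPowerSeries (Fin 3) R := ![1, w, 1] with hv
  have hu : ∀ i, IsUnit (constantCoeff (v i)) := by
    intro i
    fin_cases i <;> simp [hv, hw, hτ.pow 2]
  have hS : HasSubst (fun i => X i * v i) := Groth.Agent.Lead.PsSubst.hasSubst_mul_unit v
  let ψ : MvPowerSeries (Fin 3) R →ₐ[R] MvPowerSeries (Fin 3) R := substAlgHom hS
  have hb : Function.Bijective ψ := by
    simpa [ψ, coe_substAlgHom] using Groth.Agent.Lead.PsSubst.bijective_subst_mul_unit v hu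
  -- second: `c ↦ c + P`
  set q : Fin 3 → MvPowerSeries (Fin 3) R := ![X 0, X 1, X 2 + P] with hq
  have hQ : HasSubst q := hasSubst_of_constantCoeff_zero (by
    intro i; fin_cases i <;> simp [hq, hP])
  let ρ : MvPowerSeries (Fin 3) R →ₐ[R] MvPowerSeries (Fin 3) R := substAlgHom hQ
  have hX : ∀ i, ρ (X i) = q i := fun i => substAlgHom_X hQ i
  have hC : ∀ x : R, ρ (C x) = C x := fun x => ρ.commutes x
  have hρP : ρ P = P := by
    simp only [hP, map_add, map_mul, map_pow, hC, hX]
    simp [hq]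
  have hinv : Function.Involutive ρ := by
    intro f
    simp only [ρ, coe_substAlgHom, subst_comp_subst_apply hQ hQ]
    have : (fun s => subst q (q s)) = X := by
      funext s
      have e0 : ρ (q s) = subst q (q s) := by simp [ρ, coe_substAlgHom]
      rw [← e0]
      fin_cases s
      · simp [hq, hX]
      · simp [hq, hX]
      · show ρ (X 2 + P) = X 2
        rw [map_add, hρP, hX]
        simp only [hq, Matrix.cons_val]
        linear_combination P * two
    rw [this, subst_self]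
    rfl
  let e := (AlgEquiv.ofBijective ψ hb).trans (AlgEquiv.ofBijective ρ hinv.bijective)
  refine ⟨e.symm, ?_⟩
  rw [AlgEquiv.symm_apply_eq]
  simp only [e, AlgEquiv.trans_apply, AlgEquiv.coe_ofBijective]
  have hψX : ∀ i, ψ (X i) = X i * v i := fun i => substAlgHom_X hS i
  simp only [map_add, map_mul, map_pow, hψX]
  simp only [hv, Matrix.cons_val_zero, Matrix.cons_val_one, Matrix.cons_val, mul_one, map_mul]
  simp only [hw, map_add, map_mul, map_pow, map_one, hC, hX]
  simp only [hq, Matrix.cons_val_zero, Matrix.cons_val_one, Matrix.cons_val]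
  have ea := congrArg (C : R →+* MvPowerSeries (Fin 3) R) eα
  have eb := congrArg (C : R →+* MvPowerSeries (Fin 3) R) eβ
  simp only [map_pow] at ea eb
  rw [hP]
  linear_combination (-(C l4 ^ 2 * X 0 ^ 4 + C l2 ^ 2 * X 0 ^ 2)) * eb
    + (-(C s4 ^ 2 * X 1 ^ 4 + C s2 ^ 2 * X 1 ^ 2)) * ea
    + (-(X 2 * P + C β' * C α' * (C l4 * X 0 ^ 2 + C l2 * X 0) * (C s4 * X 1 ^ 2 + C s2 * X 1)
      + C β' ^ 2 * C l4 * C l2 * X 0 ^ 3 + C α' ^ 2 * C s4 * C s2 * X 1 ^ 3)) * two

end Groth.Agent.S13128
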