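import Groth.Statements.S13130
import Mathlib.RingTheory.IntegralClosure.IsIntegralClosure.Basic
import Mathlib.RingTheory.Polynomial.Basic
import Mathlib.Algebra.Polynomial.AlgebraMap
-- import your own Groth.Agent.* helpers here

set_option autoImplicit false
universe u v
open KumFam

namespace Groth.Agent.S13130

/-- Let R be a nontrivial commutative ring and M a commutative group, with group algebra R[M], the
coordinate ring of the diagonalizable group scheme D(M) over Spec R. Then D(M) is integral over Spec
R, i.e. R[M] is an integral R-algebra, if and only if M is a torsion group. (The published statement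
is over an arbitrary base scheme; the question is local and this row is the affine form, with R
nontrivial so that the elements of M are R-linearly independent.) -/
theorem result (R : Type u) [CommRing R] [Nontrivial R]
    (M : Type v) [CommGroup M] :
    Algebra.IsIntegral R (MonoidAlgebra R M) ↔ IsMulTorsion M := by
  constructor
  · intro h m
    by_contra hm
    have hinj : Function.Injective fun n : ℕ => m ^ n := injective_pow_iff_not_isOfFinOrder.2 hm
    obtain ⟨P, hP, hPe⟩ := h.isIntegral (MonoidAlgebra.of R M m)
    rw [← Polynomial.aeval_def, Polynomial.aeval_eq_sum_range] at hPe
    have hc := congrArg (fun z => z.coeff (m ^ P.natDegree)) hPe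
    simp only [← map_pow, MonoidAlgebra.coeff_sum, MonoidAlgebra.coeff_zero] at hc
    rw [Finsupp.finsetSum_apply, Finset.sum_eq_single P.natDegree] at hc
    · simp [MonoidAlgebra.of_apply, hP.coeff_natDegree] at hc
    · intro b _ hb
      simp [MonoidAlgebra.of_apply, hinj.ne hb]
    · simp
  · intro h
    refine ⟨fun x => ?_⟩
    induction x using MonoidAlgebra.induction_on with
    | of m =>
      obtain ⟨n, hn, hmn⟩ := isOfFinOrder_iff_pow_eq_one.1 (h m)
      refine IsIntegral.of_pow hn ?_
      rw [← map_pow, hmn, map_one]
      exact isIntegral_one
    | add a b ha hb => exact ha.add hb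
    | smul r a ha => exact ha.smul r

end Groth.Agent.S13130
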