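import Groth.Statements.S13131
import Mathlib.AlgebraicGeometry.Limits
import Mathlib.AlgebraicGeometry.Gluing
import Mathlib.Topology.LocallyConstant.Basic

set_option autoImplicit false
universe u
open CategoryTheory CategoryTheory.Limits AlgebraicGeometry
open KumFam

namespace Groth.Agent.S13131

/-- Let S be a scheme, M a set and p : T → S a scheme over S. The S-morphisms T → ∐_{m ∈ M} S (the
constant S-scheme on M, with its structure map the codiagonal) are in bijection with the locally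
constant maps T → M, a morphism f corresponding to the function sending t to the index of the copy
of S containing f(t). (In the published statement M is a group and ∐_M S the constant group scheme;
the group structures play no role in this description of T-points.) -/
theorem result (S : Scheme.{u}) (M : Type u)
    (T : Scheme.{u}) (p : T ⟶ S) :
    ∃ e : {f : T ⟶ ∐ (fun _ : M => S) // f ≫ Sigma.desc (fun _ : M => 𝟙 S) = p} ≃
        LocallyConstant T M,
      ∀ (f : {f : T ⟶ ∐ (fun _ : M => S) // f ≫ Sigma.desc (fun _ : M => 𝟙 S) = p}) (t : T),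
        e f t = ((sigmaMk (fun _ : M => S)).symm (f.1.base t)).1 := by
  classical
  let F : M → Scheme.{u} := fun _ => S
  have hdisj : ∀ (m m' : M) (a : S) (b : S), Sigma.ι F m a = Sigma.ι F m' b → m = m' := fun m m' a b h => by
    rw [← sigmaMk_mk F m a, ← sigmaMk_mk F m' b] at h
    exact congrArg Sigma.fst ((sigmaMk F).injective h)
  let idx : (∐ F : Scheme.{u}) → M := fun z => ((sigmaMk F).symm z).1
  have hidx : ∀ (m : M) (a : S), idx (Sigma.ι F m a) = m := fun m a => by
    show ((sigmaMk F).symm (Sigma.ι F m a)).1 = m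
    rw [← sigmaMk_mk F m a, Homeomorph.symm_apply_apply]
  have hloc : IsLocallyConstant idx := by
    refine IsLocallyConstant.iff_exists_open _ |>.2 fun z => ?_
    obtain ⟨⟨m, a⟩, rfl⟩ := (sigmaMk F).surjective z
    refine ⟨Set.range (Sigma.ι F m), (Sigma.ι F m).isOpenEmbedding.isOpen_range, ⟨a, (sigmaMk_mk F m a).symm⟩, ?_⟩
    rintro _ ⟨b, rfl⟩
    rw [hidx, sigmaMk_mk, hidx]
  let toLC : {f : T ⟶ ∐ F // f ≫ Sigma.desc (fun _ : M => 𝟙 S) = p} → LocallyConstant T M := fun f =>
    ⟨fun t => idx (f.1 t), hloc.comp_continuous f.1.continuous⟩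
  let U : LocallyConstant T M → M → T.Opens := fun φ m => ⟨φ ⁻¹' {m}, φ.isLocallyConstant.isOpen_fiber m⟩
  have hU : ∀ φ, TopologicalSpace.IsOpenCover (U φ) := fun φ => by
    refine eq_top_iff.2 fun t _ => ?_
    exact TopologicalSpace.Opens.mem_iSup.2 ⟨φ t, rfl⟩
  have hagree : ∀ (f : {f : T ⟶ ∐ F // f ≫ Sigma.desc (fun _ : M => 𝟙 S) = p}) (m : M),
      (U (toLC f) m).ι ≫ f.1 = ((U (toLC f) m).ι ≫ p) ≫ Sigma.ι F m := fun f m => by
    have hr : Set.range ((U (toLC f) m).ι ≫ f.1) ⊆ Set.range (Sigma.ι F m) := by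
      rintro _ ⟨t, rfl⟩
      obtain ⟨⟨m', a⟩, ha⟩ := (sigmaMk F).surjective (((U (toLC f) m).ι ≫ f.1) t)
      have ht : idx (f.1 ((U (toLC f) m).ι t)) = m := t.2
      rw [Scheme.Hom.comp_apply] at ha ⊢
      rw [← ha, sigmaMk_mk, hidx] at ht
      subst ht
      exact ⟨a, (sigmaMk_mk F m' a).symm.trans ha⟩
    have h := IsOpenImmersion.lift_fac (Sigma.ι F m) ((U (toLC f) m).ι ≫ f.1) hr
    conv_lhs => rw [← h]
    congr 1
    have h2 := congrArg (· ≫ Sigma.desc (fun _ : M => 𝟙 S)) h
    simp only [Category.assoc, Sigma.ι_desc, f.2] at h2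
    exact ((Category.comp_id _).symm.trans h2).trans (congrArg ((U (toLC f) m).ι ≫ ·) f.2)
  have hinj : Function.Injective toLC := fun f g h => Subtype.ext <| Scheme.Cover.hom_ext (T.openCoverOfIsOpenCover _ (hU (toLC f))) _ _ fun m => by
    show (U (toLC f) m).ι ≫ f.1 = (U (toLC f) m).ι ≫ g.1
    rw [hagree f m]
    have := hagree g m
    rw [← h] at this
    exact this.symm
  have hsurj : Function.Surjective toLC := fun φ => by
    let 𝒰 := T.openCoverOfIsOpenCover _ (hU φ)
    have hcompat : ∀ m m' : M, pullback.fst (𝒰.f m) (𝒰.f m') ≫ (((U φ m).ι ≫ p) ≫ Sigma.ι F m) =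
        pullback.snd (𝒰.f m) (𝒰.f m') ≫ (((U φ m').ι ≫ p) ≫ Sigma.ι F m') := fun m m' => by
      rcases eq_or_ne m m' with rfl | hne
      · rw [← Category.assoc, ← Category.assoc, ← Category.assoc, ← Category.assoc]
        congr 2
        exact pullback.condition
      · refine Scheme.hom_ext_of_forall _ _ fun z => (hne ?_).elim
        have h1 : φ ((U φ m).ι (pullback.fst (𝒰.f m) (𝒰.f m') z)) = m := (pullback.fst (𝒰.f m) (𝒰.f m') z).2
        have h2 : φ ((U φ m').ι (pullback.snd (𝒰.f m) (𝒰.f m') z)) = m' := (pullback.snd (𝒰.f m) (𝒰.f m') z).2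
        have h3 : (U φ m).ι (pullback.fst (𝒰.f m) (𝒰.f m') z) = (U φ m').ι (pullback.snd (𝒰.f m) (𝒰.f m') z) := by
          exact congrArg (fun k : pullback (𝒰.f m) (𝒰.f m') ⟶ T => k z) pullback.condition
        exact h1.symm.trans ((congrArg φ h3).trans h2)
    let f := 𝒰.glueMorphisms (fun m => ((U φ m).ι ≫ p) ≫ Sigma.ι F m) hcompat
    have hf : ∀ m, (U φ m).ι ≫ f = ((U φ m).ι ≫ p) ≫ Sigma.ι F m := fun m => 𝒰.ι_glueMorphisms _ hcompat m
    refine ⟨⟨f, Scheme.Cover.hom_ext 𝒰 _ _ fun m => ?_⟩, LocallyConstant.ext fun t => ?_⟩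
    · show (U φ m).ι ≫ f ≫ _ = (U φ m).ι ≫ p
      rw [← Category.assoc, hf, Category.assoc _ (Sigma.ι F m), Sigma.ι_desc, Category.comp_id]
    · show idx (f t) = φ t
      have : f t = Sigma.ι F (φ t) (p t) := by
        have := congrArg (fun k => k (⟨t, rfl⟩ : U φ (φ t))) (hf (φ t))
        simpa using this
      rw [this, hidx]
  exact ⟨Equiv.ofBijective toLC ⟨hinj, hsurj⟩, fun f t => rfl⟩

end Groth.Agent.S13131
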