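import Groth.Statements.S13147
import Groth.Agent.Misc9.W2Lift
-- import your own Groth.Agent.* helpers here

set_option autoImplicit false
universe u
open FrobAlg

namespace Groth.Agent.S13147

/-- Let k be a perfect field of characteristic p and (A, φ) a k-algebra with a Frobenius splitting (φ
additive, φ(a^p b) = a φ(b), φ(1) = 1). The quotient of W₂(A) by the ideal generated by the Witt
vectors (0, a) with φ(a) = 0 — the ring of twisted Witt vectors of (A, φ) — is a flat lifting of A
over W₂(k): flat over W₂(k), with reduction map onto A induced by (a₀, a₁) ↦ a₀ whose kernel is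
generated by the maximal ideal of W₂(k). (The published statement also asserts that a morphism of
algebras with Frobenius splittings compatible with the splittings induces a ring map between these
quotients; that part is not stated here.) -/
theorem result
    (p : ℕ) [Fact p.Prime] (k : Type u) [Field k] [CharP k p] [PerfectRing k p]
    (A : Type u) [CommRing A] [Algebra k A] (φ : A →+ A)
    (hφ : ∀ a b : A, φ (a ^ p * b) = a * φ b) (hφ1 : φ 1 = 1) :
    FrobAlg.IsLift p k A (FrobAlg.W2 p A ⧸ FrobAlg.splitIdeal p A φ)
      ((Ideal.Quotient.mk (FrobAlg.splitIdeal p A φ)).comp (WittGrp.truncMap p 2 (algebraMap k A)))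
      (FrobAlg.splitRes p A φ) := by
  have hpA : (p : A) = 0 := Misc9.W2Lift.cast_p_eq_zero (k := k) p A
  let T : Ideal (FrobAlg.W2 p A) :=
    { carrier := {x | FrobAlg.res p A x = 0 ∧ φ (x.coeff 1) = 0}
      add_mem' := by
        intro x y hx hy
        obtain ⟨X, rfl⟩ := WittVector.truncate_surjective p 2 A x
        obtain ⟨Y, rfl⟩ := WittVector.truncate_surjective p 2 A y
        refine ⟨by rw [map_add, hx.1, hy.1, add_zero], ?_⟩
        have hx0 : X.coeff 0 = 0 := by simpa [WittVector.coeff_truncate] using hx.1
        have hy0 : Y.coeff 0 = 0 := by simpa [WittVector.coeff_truncate] using hy.1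
        have hx1 : φ (X.coeff 1) = 0 := by simpa [WittVector.coeff_truncate] using hx.2
        have hy1 : φ (Y.coeff 1) = 0 := by simpa [WittVector.coeff_truncate] using hy.2
        obtain ⟨U, rfl⟩ : ∃ U, WittVector.verschiebung U = X :=
          ⟨WittVector.mk p fun n => X.coeff (n + 1), by
            ext n; rcases n with _ | n
            · simp [hx0]
            · simp [WittVector.verschiebung_coeff_succ]⟩
        obtain ⟨V, rfl⟩ : ∃ V, WittVector.verschiebung V = Y :=
          ⟨WittVector.mk p fun n => Y.coeff (n + 1), by
            ext n; rcases n with _ | n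
            · simp [hy0]
            · simp [WittVector.verschiebung_coeff_succ]⟩
        rw [← map_add, ← map_add, WittVector.coeff_truncate, Fin.val_one,
          WittVector.verschiebung_coeff_succ, WittVector.add_coeff_zero, map_add]
        rw [WittVector.verschiebung_coeff_succ] at hx1 hy1
        rw [hx1, hy1, add_zero]
      zero_mem' := ⟨map_zero _, by simp⟩
      smul_mem' := by
        intro c x hx
        obtain ⟨X, rfl⟩ := WittVector.truncate_surjective p 2 A x
        obtain ⟨C, rfl⟩ := WittVector.truncate_surjective p 2 A c
        refine ⟨by rw [smul_eq_mul, map_mul, hx.1, mul_zero], ?_⟩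
        have hx0 : X.coeff 0 = 0 := by simpa [WittVector.coeff_truncate] using hx.1
        have hx1 : φ (X.coeff 1) = 0 := by simpa [WittVector.coeff_truncate] using hx.2
        obtain ⟨U, rfl⟩ : ∃ U, WittVector.verschiebung U = X :=
          ⟨WittVector.mk p fun n => X.coeff (n + 1), by
            ext n; rcases n with _ | n
            · simp [hx0]
            · simp [WittVector.verschiebung_coeff_succ]⟩
        rw [WittVector.verschiebung_coeff_succ] at hx1
        rw [smul_eq_mul, ← map_mul, WittVector.coeff_truncate, Fin.val_one, mul_comm,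
          ← WittVector.verschiebung_mul_frobenius, WittVector.verschiebung_coeff_succ,
          WittVector.mul_coeff_zero]
        have hF : (WittVector.frobenius C).coeff 0 = C.coeff 0 ^ p := by
          rcases subsingleton_or_nontrivial A with h | h
          · exact Subsingleton.elim _ _
          · have : CharP A p := (CharP.charP_iff_prime_eq_zero (Fact.out : p.Prime)).2 hpA
            rw [WittVector.coeff_frobenius_charP]
        rw [hF, mul_comm, hφ, hx1, mul_zero] }
  have hI : FrobAlg.splitIdeal p A φ = T := by
    apply le_antisymm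
    · rw [FrobAlg.splitIdeal, Ideal.span_le]
      exact fun x hx => hx
    · exact fun x hx => Ideal.subset_span hx
  have hφ' : ∀ a, φ (a ^ p) = a := fun a => by
    have := hφ a 1
    rwa [mul_one, hφ1, mul_one] at this
  have key : ∀ x : FrobAlg.W2 p A, x.coeff 0 = 0 →
      Ideal.Quotient.mk (FrobAlg.splitIdeal p A φ) x ∈
        Ideal.span {(p : FrobAlg.W2 p A ⧸ FrobAlg.splitIdeal p A φ)} := by
    intro x hx
    rw [Ideal.mem_span_singleton]
    let s : FrobAlg.W2 p A := WittVector.truncate 2 (WittVector.teichmuller p (φ (x.coeff 1)))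
    refine ⟨Ideal.Quotient.mk _ s, ?_⟩
    rw [← map_natCast (Ideal.Quotient.mk (FrobAlg.splitIdeal p A φ)), ← map_mul, Ideal.Quotient.eq, hI]
    have hs := Misc9.W2Lift.W2_mul_p p hpA s
    have hs0 : s.coeff 0 = φ (x.coeff 1) := by simp [s, WittVector.coeff_truncate]
    refine ⟨by rw [map_sub, FrobAlg.res_apply, FrobAlg.res_apply, hs.1, hx, sub_zero], ?_⟩
    obtain ⟨X, rfl⟩ := WittVector.truncate_surjective p 2 A x
    have hX0 : X.coeff 0 = 0 := by simpa [WittVector.coeff_truncate] using hx
    obtain ⟨U, rfl⟩ : ∃ U, WittVector.verschiebung U = X :=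
      ⟨WittVector.mk p fun n => X.coeff (n + 1), by
        ext n; rcases n with _ | n
        · simp [hX0]
        · simp [WittVector.verschiebung_coeff_succ]⟩
    let W : WittVector p A := WittVector.verschiebung (WittVector.teichmuller p (s.coeff 0 ^ p))
    have hW : (p : FrobAlg.W2 p A) * s = WittVector.truncate 2 W := by
      refine Misc9.W2Lift.W2_ext p ?_ ?_
      · rw [hs.1]; simp [W, WittVector.coeff_truncate]
      · rw [hs.2]; simp [W, WittVector.coeff_truncate, WittVector.verschiebung_coeff_succ, -map_pow]
    rw [hW, ← map_sub, ← map_sub, WittVector.coeff_truncate, Fin.val_one,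
      WittVector.verschiebung_coeff_succ, ← WittVector.constantCoeff_apply, map_sub, WittVector.constantCoeff_apply, WittVector.constantCoeff_apply,
      WittVector.teichmuller_coeff_zero, map_sub, hφ', hs0, WittVector.coeff_truncate, Fin.val_one, WittVector.verschiebung_coeff_succ,
      sub_self]
  have hres : ∀ x, FrobAlg.splitRes p A φ (Ideal.Quotient.mk _ x) = x.coeff 0 := fun x => by
    show FrobAlg.res p A x = _
    rw [FrobAlg.res_apply]
  refine Misc9.W2Lift.isLift_of p (fun a => ?_) ?_ ?_ ?_
  · exact ⟨Ideal.Quotient.mk _ (WittVector.truncate 2 (WittVector.teichmuller p a)), by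
      rw [hres]; simp [WittVector.coeff_truncate]⟩
  · ext1 w
    rw [RingHom.comp_apply, RingHom.comp_apply, hres, WittGrp.coeff_truncMap, RingHom.comp_apply, FrobAlg.res_apply]
  · apply le_antisymm
    · intro y hy
      obtain ⟨x, rfl⟩ := Ideal.Quotient.mk_surjective y
      rw [RingHom.mem_ker, hres] at hy
      exact key x hy
    · rw [Ideal.span_le, Set.singleton_subset_iff, SetLike.mem_coe, RingHom.mem_ker, map_natCast, hpA]
  · intro y hy
    obtain ⟨x, rfl⟩ := Ideal.Quotient.mk_surjective y
    rw [← map_natCast (Ideal.Quotient.mk (FrobAlg.splitIdeal p A φ)), ← map_mul,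
      Ideal.Quotient.eq_zero_iff_mem, hI] at hy
    apply key
    have h := hy.2
    rwa [(Misc9.W2Lift.W2_mul_p p hpA x).2, hφ'] at h

end Groth.Agent.S13147
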