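import Groth.Statements.S13148
import Groth.Agent.Misc9.SmoothLift
import Groth.Agent.Misc9.W2Ker
-- import your own Groth.Agent.* helpers here

set_option autoImplicit false
universe u
open FrobAlg

namespace Groth.Agent.S13148

/-- Over a perfect field k of characteristic p, every smooth affine scheme Spec A admits a flat lifting
over W₂(k) together with a lifting of Frobenius (not necessarily unique). -/
theorem result
    (p : ℕ) [Fact p.Prime] (k : Type u) [Field k] [CharP k p] [PerfectRing k p]
    (A : Type u) [CommRing A] [Algebra k A] [Algebra.Smooth k A] :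
    FrobAlg.IsFLiftable p k A := by
  let a := RingHom.ker (FrobAlg.res p k)
  have ha : a * a = ⊥ := by
    change RingHom.ker (FrobAlg.res p k) * RingHom.ker (FrobAlg.res p k) = ⊥
    rw [Misc9.W2Lift.ker_res, Ideal.span_singleton_mul_span_singleton, Misc9.W2Lift.p_mul_p,
      Ideal.span_singleton_zero]
  have hres : Function.Surjective (FrobAlg.res p k) := fun c =>
    ⟨WittVector.truncate 2 (WittVector.teichmuller p c), by simp [WittVector.coeff_truncate]⟩
  let e := RingHom.quotientKerEquivOfSurjective hres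
  letI : Algebra (FrobAlg.W2 p k ⧸ a) A := ((algebraMap k A).comp e.toRingHom).toAlgebra
  letI : Algebra (FrobAlg.W2 p k ⧸ a) k := e.toRingHom.toAlgebra
  have : IsScalarTower (FrobAlg.W2 p k ⧸ a) k A := IsScalarTower.of_algebraMap_eq fun _ => rfl
  have : Algebra.Smooth (FrobAlg.W2 p k ⧸ a) k := Algebra.Smooth.of_equiv
    { e with commutes' := fun _ => rfl }
  have : Algebra.Smooth (FrobAlg.W2 p k ⧸ a) A := Algebra.Smooth.comp (FrobAlg.W2 p k ⧸ a) k A
  obtain ⟨B, _, _, hB, π, hπs, hπ, hker⟩ := Misc9.SmoothLift.exists_lift a ha A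
  have hlift : FrobAlg.IsLift p k A B (algebraMap (FrobAlg.W2 p k) B) π :=
    { flat := RingHom.flat_algebraMap_iff.2 inferInstance
      surj := hπs
      ker_eq := hker
      comm := RingHom.ext fun w => hπ w }
  letI : Algebra (FrobAlg.W2 p k) (FrobAlg.W2 p A) := (WittGrp.truncMap p 2 (algebraMap k A)).toAlgebra
  letI : Algebra (FrobAlg.W2 p k) A := ((algebraMap k A).comp (FrobAlg.res p k)).toAlgebra
  let r : FrobAlg.W2 p A →ₐ[FrobAlg.W2 p k] A :=
    { FrobAlg.res p A with
      commutes' := fun w => by
        change FrobAlg.res p A (WittGrp.truncMap p 2 (algebraMap k A) w) = algebraMap k A (FrobAlg.res p k w)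
        rw [FrobAlg.res_apply, FrobAlg.res_apply, WittGrp.coeff_truncMap] }
  let q : B →ₐ[FrobAlg.W2 p k] A := { π with commutes' := hπ }
  have hr : Function.Surjective r := fun c =>
    ⟨WittVector.truncate 2 (WittVector.teichmuller p c), by
      change FrobAlg.res p A _ = c
      rw [FrobAlg.res_apply, WittVector.coeff_truncate]; simp⟩
  have hnil : IsNilpotent (RingHom.ker r.toRingHom) := by
    refine ⟨2, ?_⟩
    rw [pow_two, Ideal.zero_eq_bot, eq_bot_iff, Ideal.mul_le]
    intro x hx y hy
    rw [Ideal.mem_bot]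
    exact Misc9.W2Ker.mul_eq_zero p (Misc9.W2Lift.cast_p_eq_zero (k := k) p A) hx hy
  let φ := Algebra.FormallySmooth.liftOfSurjective q r hr hnil
  obtain ⟨Ψ, hΨ⟩ := Misc9.W2Lift.exists_frobLift p hlift φ.toRingHom
    (RingHom.ext fun s => Algebra.FormallySmooth.liftOfSurjective_apply q r hr hnil s)
    (RingHom.ext fun w => φ.commutes w)
  exact ⟨B, inferInstance, _, π, Ψ, hΨ⟩

end Groth.Agent.S13148
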