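import Groth.Statements.S13151
import Groth.Agent.Misc9.DomainStalk
import Mathlib
-- import your own Groth.Agent.* helpers here

set_option autoImplicit false
set_option backward.isDefEq.respectTransparency false
universe u
open CAlg

open CategoryTheory CategoryTheory.Limits AlgebraicGeometry
namespace Groth.Agent.S13151

/-- Let A → B be an injective ring homomorphism of integral domains which is integral, with A integrally
closed, and let π be an element of A. Then the contraction to A of the ideal πB is πA, i.e. an
element of A which is a multiple of π in B is already a multiple of π in A; in particular if B/πB is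
an integral domain then A/πA is an integral domain. (The published statement is for an integral
dominant morphism of integral schemes flat over a discrete valuation ring, with normal target and π
a uniformizer; flatness and the valuation ring play no role, so π is an arbitrary element here.) -/
theorem result {A B : Type u} [CommRing A] [CommRing B]
    [IsDomain A] [IsDomain B] [IsIntegrallyClosed A] [Algebra A B] [Algebra.IsIntegral A B]
    (hinj : Function.Injective (algebraMap A B)) (π : A) :
    (Ideal.span {algebraMap A B π}).comap (algebraMap A B) = Ideal.span {π} ∧
      (IsDomain (B ⧸ Ideal.span {algebraMap A B π}) → IsDomain (A ⧸ Ideal.span {π})) := by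
  have h : (Ideal.span {algebraMap A B π}).comap (algebraMap A B) = Ideal.span {π} := by
    refine le_antisymm (fun a ha => ?_) (by rw [Ideal.span_le, Set.singleton_subset_iff]; exact Ideal.mem_span_singleton_self _)
    obtain ⟨b, hb⟩ := Ideal.mem_span_singleton.1 ha
    by_cases hπ : π = 0
    · have : a = 0 := hinj (by rw [hb, hπ, map_zero, zero_mul])
      rw [this]; exact Submodule.zero_mem _
    · have hinjF : Function.Injective (Algebra.ofId A (FractionRing B)) := by
        intro p q hpq
        refine hinj (IsFractionRing.injective B (FractionRing B) ?_)
        simpa [Algebra.ofId_apply, IsScalarTower.algebraMap_apply A B (FractionRing B)] using hpq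
      let ι : FractionRing A →ₐ[A] FractionRing B := IsFractionRing.liftAlgHom (K := FractionRing A) hinjF
      let q : FractionRing A := algebraMap A _ a / algebraMap A _ π
      have hq : ι q = algebraMap B (FractionRing B) b := by
        rw [map_div₀, ι.commutes, ι.commutes, div_eq_iff]
        · rw [IsScalarTower.algebraMap_apply A B (FractionRing B), hb, map_mul, mul_comm,
            IsScalarTower.algebraMap_apply A B (FractionRing B)]
        · rw [IsScalarTower.algebraMap_apply A B (FractionRing B)]
          exact (map_ne_zero_iff _ (IsFractionRing.injective B _)).2 ((map_ne_zero_iff _ hinj).2 hπ)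
      have hint : IsIntegral A (ι q) := hq ▸ (Algebra.IsIntegral.isIntegral b).map (IsScalarTower.toAlgHom A B (FractionRing B))
      obtain ⟨c, hc⟩ := IsIntegrallyClosed.isIntegral_iff.1 ((isIntegral_algHom_iff ι ι.toRingHom.injective).1 hint)
      refine Ideal.mem_span_singleton.2 ⟨c, IsFractionRing.injective A (FractionRing A) ?_⟩
      rw [map_mul, hc, mul_div_cancel₀]
      exact (map_ne_zero_iff _ (IsFractionRing.injective A _)).2 hπ
  refine ⟨h, fun hd => ?_⟩
  haveI := hd
  have hp : (Ideal.span {algebraMap A B π}).IsPrime := (Ideal.Quotient.isDomain_iff_prime _).1 hd
  rw [← h]
  exact (Ideal.Quotient.isDomain_iff_prime _).2 inferInstance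

end Groth.Agent.S13151
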