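import Groth.Statements.S13153
import Groth.Agent.Alg.PBasis.SmoothIff
import Mathlib.RingTheory.Flat.FaithfullyFlat.Algebra
import Mathlib.FieldTheory.IntermediateField.Adjoin.Algebra

set_option autoImplicit false
universe u
open CAlg

namespace Groth.Agent.S13153

theorem isAlgebraic_of_D_eq_zero {K L : Type u} [Field K] [Field L] [CharZero K] [Algebra K L] (x : L)
    (hx : KaehlerDifferential.D K L x = 0) : IsAlgebraic K x := by
  let K0 := IntermediateField.adjoin K ({x} : Set L)
  let x0 : K0 := ⟨x, IntermediateField.subset_adjoin K _ (Set.mem_singleton x)⟩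
  haveI : CharZero K0 := charZero_of_injective_algebraMap (algebraMap K K0).injective
  haveI : Algebra.IsGeometricallyReduced K0 L := Groth.Agent.Alg.PBasis.geometricallyReduced_of_perfectField K0 L
  haveI : Algebra.FormallySmooth K0 L := Groth.Agent.Alg.PBasis.formallySmooth_of_geometricallyReduced
  have hinj := Groth.Agent.Alg.PBasis.mapBaseChange_injective K K0 L
  have h0 : KaehlerDifferential.D K K0 x0 = 0 := by
    have h1 : (1 : L) ⊗ₜ[K0] KaehlerDifferential.D K K0 x0 = 0 := by
      apply hinj
      rw [KaehlerDifferential.mapBaseChange_tmul, one_smul, KaehlerDifferential.map_D, map_zero]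
      exact hx
    exact (Module.FaithfullyFlat.one_tmul_eq_zero_iff (R := K0) (A := L) _ _).1 h1
  have hall : ∀ z : K0, KaehlerDifferential.D K K0 z = 0 := by
    rintro ⟨z, hz⟩
    induction hz using IntermediateField.adjoin_induction with
    | mem y hy => cases hy; exact h0
    | algebraMap c => exact Derivation.map_algebraMap _ c
    | add a b ha hb iha ihb =>
      have : (⟨a + b, add_mem ha hb⟩ : K0) = ⟨a, ha⟩ + ⟨b, hb⟩ := rfl
      rw [this, map_add, iha, ihb, add_zero]
    | inv a ha iha =>
      have : (⟨a⁻¹, inv_mem ha⟩ : K0) = (⟨a, ha⟩ : K0)⁻¹ := rfl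
      rw [this, Derivation.leibniz_inv, iha, smul_zero]
    | mul a b ha hb iha ihb =>
      have : (⟨a * b, mul_mem ha hb⟩ : K0) = ⟨a, ha⟩ * ⟨b, hb⟩ := rfl
      rw [this, Derivation.leibniz, iha, ihb, smul_zero, smul_zero, add_zero]
  haveI : Algebra.EssFiniteType K K0 := IntermediateField.essFiniteType_iff.2 ⟨{x}, by simp [K0]⟩
  haveI : Subsingleton Ω[K0⁄K] := subsingleton_of_forall_eq 0 fun w => by
    have hw : w ∈ Submodule.span K0 (Set.range (KaehlerDifferential.D K K0)) := by
      rw [KaehlerDifferential.span_range_derivation]; trivial
    rw [show Set.range (KaehlerDifferential.D K K0) = {0} from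
      Set.eq_singleton_iff_unique_mem.2 ⟨⟨0, hall 0⟩, by rintro _ ⟨z, rfl⟩; exact hall z⟩,
      Submodule.span_zero_singleton, Submodule.mem_bot] at hw
    exact hw
  haveI : Algebra.FormallyUnramified K K0 := ⟨inferInstance⟩
  haveI : Algebra.IsSeparable K K0 := Algebra.FormallyUnramified.isSeparable K K0
  exact (Algebra.IsAlgebraic.isAlgebraic (R := K) x0).algebraMap (A := L)

/-- Let R be a discrete valuation ring whose fraction field K has characteristic zero, A an integral
domain which is a faithfully flat R-algebra, with fraction field L, such that K is algebraically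
closed in L (every element of L algebraic over K is in the image of K). If f ∈ A has vanishing
differential, df = 0 in Ω_{A/R}, then f is the image of an element of R. (The published statement is
the sheaf form: for a faithfully flat morphism X → Spec R with geometrically integral generic fibre,
the kernel of d : O_X → Ω¹_{X/R} is the inverse image of O_{Spec R}; for integral X, geometric
integrality of the generic fibre in characteristic zero amounts to K being algebraically closed in
the function field, which is the form used here, and this row is the case of global sections over an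
affine X = Spec A.) -/
theorem result (R : Type u) [CommRing R] [IsDomain R]
    [IsDiscreteValuationRing R] [CharZero R] (K : Type u) [Field K] [Algebra R K] [IsFractionRing R K]
    (A : Type u) [CommRing A] [IsDomain A] [Algebra R A] [Module.FaithfullyFlat R A]
    (L : Type u) [Field L] [Algebra A L] [IsFractionRing A L] [Algebra R L] [Algebra K L]
    [IsScalarTower R A L] [IsScalarTower R K L]
    (hac : ∀ x : L, IsAlgebraic K x → x ∈ (algebraMap K L).range)
    (f : A) (hf : KaehlerDifferential.D R A f = 0) : f ∈ (algebraMap R A).range := by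
  haveI : CharZero K := charZero_of_injective_algebraMap (IsFractionRing.injective R K)
  have hd : KaehlerDifferential.D K L (algebraMap A L f) = 0 := by
    rw [← KaehlerDifferential.map_D R K A L f, hf, map_zero]
  obtain ⟨c, hc⟩ := hac _ (isAlgebraic_of_D_eq_zero _ hd)
  obtain ⟨r, ⟨s, hs⟩, rfl⟩ := IsLocalization.exists_mk'_eq (nonZeroDivisors R) c
  have h1 : f * algebraMap R A s = algebraMap R A r := by
    apply IsFractionRing.injective A L
    rw [map_mul, ← hc, ← IsScalarTower.algebraMap_apply, ← IsScalarTower.algebraMap_apply,
      IsScalarTower.algebraMap_apply R K L s, ← map_mul, IsLocalization.mk'_spec K r ⟨s, hs⟩,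
      ← IsScalarTower.algebraMap_apply]
  have h2 : r ∈ ((Ideal.span {s}).map (algebraMap R A)).comap (algebraMap R A) := by
    rw [Ideal.mem_comap, Ideal.map_span, Set.image_singleton, ← h1]
    exact Ideal.mul_mem_left _ _ (Ideal.mem_span_singleton_self _)
  rw [Ideal.comap_map_eq_self_of_faithfullyFlat, Ideal.mem_span_singleton'] at h2
  obtain ⟨t, ht⟩ := h2
  refine ⟨t, ?_⟩
  apply mul_right_cancel₀ (show algebraMap R A s ≠ 0 from fun h => nonZeroDivisors.ne_zero hs
    (FaithfulSMul.algebraMap_injective R A (h.trans (map_zero _).symm)))
  rw [h1, ← map_mul, ht]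

end Groth.Agent.S13153
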