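import Groth.Statements.S13158
import Mathlib
-- import your own Groth.Agent.* helpers here

set_option autoImplicit false
universe u
open CAlg

namespace Groth.Agent.S13158

/-- Let R be a discrete valuation ring of characteristic zero whose maximal ideal contains the prime
number p, let n ≥ 1, and let λ be a nonzero element of R such that λ^(p^(n−1)(p−1)) divides p (the
condition v(p) ≥ p^(n−1)(p−1)·v(λ) under which the polynomial ((1 + λT)^(p^n) − 1)/λ^(p^n) has
coefficients in R). Let A be an integrally closed integral domain which is a faithfully flat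
R-algebra. Then for every unit x of A, λ^(p^n) divides x^(p^n) − 1 in A if and only if λ divides x −
1 in A. -/
theorem result (R : Type u) [CommRing R]
    [IsDomain R] [IsDiscreteValuationRing R] [CharZero R] (p n : ℕ) [Fact p.Prime] (hn : 1 ≤ n)
    (hp : (p : R) ∈ IsLocalRing.maximalIdeal R) (lam : R) (hlam : lam ≠ 0)
    (hstar : lam ^ (p ^ (n - 1) * (p - 1)) ∣ (p : R))
    (A : Type u) [CommRing A] [IsDomain A] [IsIntegrallyClosed A] [Algebra R A] [Module.FaithfullyFlat R A]
    (x : Aˣ) :
    (algebraMap R A lam ^ p ^ n ∣ (x : A) ^ p ^ n - 1) ↔ (algebraMap R A lam ∣ (x : A) - 1) := by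
  classical
  have hp0 : p.Prime := Fact.out
  have step : ∀ (μ e y : A), μ ≠ 0 → (p : A) = μ ^ (p - 1) * e → (μ ∣ y - 1 ↔ μ ^ p ∣ y ^ p - 1) := by
    intro μ e y hμ he
    have expand : ∀ {B : Type u} [CommRing B] (φ : A →+* B) (t : B), (1 + φ μ * t) ^ p - 1 =
        φ μ ^ p * (t ^ p + ∑ k ∈ Finset.Ico 1 p, φ (e * ((p.choose k / p : ℕ) : A) * μ ^ (k - 1)) * t ^ k) := by
      intro B _ φ t
      have hsum : (1 + φ μ * t) ^ p = ∑ k ∈ Finset.range (p + 1), (φ μ * t) ^ k * (p.choose k : B) := by
        rw [add_comm, add_pow]; simp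
      rw [hsum, Finset.sum_range_succ, Finset.range_eq_Ico, Finset.sum_eq_sum_Ico_succ_bot hp0.pos]
      simp only [pow_zero, one_mul, Nat.choose_zero_right, Nat.cast_one, Nat.choose_self, mul_one, Nat.reduceAdd]
      have hterm : ∀ k ∈ Finset.Ico 1 p, (φ μ * t) ^ k * (p.choose k : B) =
          φ μ ^ p * (φ (e * ((p.choose k / p : ℕ) : A) * μ ^ (k - 1)) * t ^ k) := by
        intro k hk
        rw [Finset.mem_Ico] at hk
        have hdiv : p ∣ p.choose k := hp0.dvd_choose_self (by omega) hk.2
        have e1 : (p.choose k : B) = φ ((p : A) * ((p.choose k / p : ℕ) : A)) := by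
          rw [← Nat.cast_mul, Nat.mul_div_cancel' hdiv, map_natCast]
        have e2 : φ μ ^ p * φ μ ^ (k - 1) = φ μ ^ k * φ μ ^ (p - 1) := by
          rw [← pow_add, ← pow_add]; congr 1; omega
        rw [e1, he]
        simp only [map_mul, map_pow, map_natCast, mul_pow]
        linear_combination (-(t ^ k * φ e * ((p.choose k / p : ℕ) : B))) * e2
      rw [Finset.sum_congr rfl hterm, ← Finset.mul_sum, mul_pow]
      ring
    constructor
    · rintro ⟨t, ht⟩
      have hy : y = 1 + μ * t := by linear_combination ht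
      rw [hy]
      exact ⟨_, by simpa using expand (RingHom.id A) t⟩
    · rintro ⟨s, hs⟩
      let K := FractionRing A
      have hμK : algebraMap A K μ ≠ 0 := fun h => hμ (IsFractionRing.injective A K (h.trans (map_zero _).symm))
      let t : K := (algebraMap A K y - 1) / algebraMap A K μ
      have hy : algebraMap A K y = 1 + algebraMap A K μ * t := by
        simp only [t]; rw [mul_div_cancel₀ _ hμK, add_sub_cancel]
      have hint : IsIntegral A t := by
        refine ⟨Polynomial.X ^ p + ((∑ k ∈ Finset.Ico 1 p, Polynomial.C (e * ((p.choose k / p : ℕ) : A) * μ ^ (k - 1)) * Polynomial.X ^ k) - Polynomial.C s), ?_, ?_⟩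
        · refine (Polynomial.monic_X_pow p).add_of_left ?_
          rw [Polynomial.degree_X_pow]
          refine lt_of_le_of_lt (Polynomial.degree_sub_le _ _) (max_lt ?_ (lt_of_le_of_lt Polynomial.degree_C_le (by exact_mod_cast hp0.pos)))
          refine lt_of_le_of_lt (Polynomial.degree_sum_le _ _) ((Finset.sup_lt_iff (WithBot.bot_lt_coe p)).mpr fun k hk => ?_)
          exact lt_of_le_of_lt (Polynomial.degree_C_mul_X_pow_le _ _) (WithBot.coe_lt_coe.mpr (Finset.mem_Ico.mp hk).2)
        · have h1 := expand (algebraMap A K) t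
          rw [← hy, ← map_pow (algebraMap A K) y, ← map_one (algebraMap A K), ← map_sub, hs, map_mul, map_pow] at h1
          have h2 := mul_left_cancel₀ (pow_ne_zero p hμK) h1
          simp only [Polynomial.eval₂_add, Polynomial.eval₂_sub, Polynomial.eval₂_finsetSum, Polynomial.eval₂_mul, Polynomial.eval₂_C, Polynomial.eval₂_X_pow]
          linear_combination -h2
      obtain ⟨a, ha⟩ := IsIntegrallyClosed.isIntegral_iff.mp hint
      refine ⟨a, IsFractionRing.injective A K ?_⟩
      rw [map_sub, map_one, map_mul, ha, hy]; ring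
  have hinj : Function.Injective (algebraMap R A) := FaithfulSMul.algebraMap_injective R A
  have hl : algebraMap R A lam ≠ 0 := fun h => hlam (hinj (h.trans (map_zero _).symm))
  clear hn
  induction n with
  | zero => simp
  | succ m ih =>
    have h1 : lam ^ (p ^ (m - 1) * (p - 1)) ∣ (p : R) :=
      (pow_dvd_pow lam (Nat.mul_le_mul_right _ (Nat.pow_le_pow_right hp0.pos (by omega)))).trans hstar
    obtain ⟨e, he⟩ := hstar
    have he' : (p : A) = (algebraMap R A lam ^ p ^ m) ^ (p - 1) * algebraMap R A e := by
      rw [← map_natCast (algebraMap R A), he, map_mul, map_pow, ← pow_mul, Nat.add_sub_cancel]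
    have := step (algebraMap R A lam ^ p ^ m) _ ((x : A) ^ p ^ m) (pow_ne_zero _ hl) he'
    rw [← pow_mul, ← pow_mul, ← pow_succ] at this
    rw [← this]
    exact ih h1

end Groth.Agent.S13158
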