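import Groth.Statements.S13160
import Groth.Agent.Witt.Homogeneous
import Mathlib

set_option autoImplicit false
universe u
open CAlg MvPolynomial

namespace Groth.Agent.S13160

/-- Let R be a discrete valuation ring, p a prime number and λ an element of R dividing p (so that R/λR
is an 𝔽_p-algebra), and let a and b be p-typical Witt vectors with coefficients in R/λR which are
killed by the Frobenius endomorphism. Then the Witt sum a + b has components a_n + b_n for every n.
(The published statement allows an arbitrary λ ∈ R and is stated for Witt vectors with finitely many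
nonzero components; this row assumes that λ divides p, so that p = 0 in R/λR, and allows all Witt
vectors.) -/
theorem result (R : Type u) [CommRing R] [IsDomain R]
    [IsDiscreteValuationRing R] (p : ℕ) [Fact p.Prime] (lam : R) (hlam : lam ∣ (p : R))
    (a b : WittVector p (R ⧸ Ideal.span {lam})) (ha : WittVector.frobenius a = 0)
    (hb : WittVector.frobenius b = 0) (n : ℕ) : (a + b).coeff n = a.coeff n + b.coeff n := by
  classical
  by_cases hu : IsUnit lam
  · haveI : Subsingleton (R ⧸ Ideal.span {lam}) := Ideal.Quotient.subsingleton_iff.2 (Ideal.span_singleton_eq_top.2 hu)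
    exact Subsingleton.elim _ _
  haveI : Nontrivial (R ⧸ Ideal.span {lam}) := Ideal.Quotient.nontrivial_iff.2 (mt Ideal.span_singleton_eq_top.1 hu)
  haveI : CharP (R ⧸ Ideal.span {lam}) p := (CharP.charP_iff_prime_eq_zero Fact.out).2 (by
    rw [← map_natCast (Ideal.Quotient.mk (Ideal.span {lam})), Ideal.Quotient.eq_zero_iff_mem, Ideal.mem_span_singleton]
    exact hlam)
  let v : Fin 2 × ℕ → R ⧸ Ideal.span {lam} := Function.uncurry ![a.coeff, b.coeff]
  have hkill : ∀ q, v q ^ p = 0 := by
    rintro ⟨i, j⟩
    fin_cases i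
    · show a.coeff j ^ p = 0
      rw [← WittVector.coeff_frobenius_charP, ha, WittVector.zero_coeff]
    · show b.coeff j ^ p = 0
      rw [← WittVector.coeff_frobenius_charP, hb, WittVector.zero_coeff]
  choose Y hY using fun q => Ideal.Quotient.mk_surjective (v q)
  have hY' : ∀ q, lam ∣ Y q ^ p := fun q => by
    rw [← Ideal.mem_span_singleton, ← Ideal.Quotient.eq_zero_iff_mem, map_pow, hY, hkill]
  have hbig : ∀ d : (Fin 2 × ℕ) →₀ ℕ, p ≤ d.degree → (d.prod fun q k => v q ^ k) = 0 := by
    intro d hd
    have h1 : lam ^ d.degree ∣ (∏ q ∈ d.support, Y q ^ d q) ^ p := by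
      rw [← Finset.prod_pow, Finsupp.degree_apply, ← Finset.prod_pow_eq_pow_sum]
      refine Finset.prod_dvd_prod_of_dvd _ _ fun q _ => ?_
      rw [← pow_mul, mul_comm, pow_mul]
      exact pow_dvd_pow_of_dvd (hY' q) _
    have h2 : lam ∣ ∏ q ∈ d.support, Y q ^ d q :=
      (IsIntegrallyClosed.pow_dvd_pow_iff (Fact.out (p := p.Prime)).ne_zero).1 ((pow_dvd_pow lam hd).trans h1)
    rw [← Ideal.mem_span_singleton, ← Ideal.Quotient.eq_zero_iff_mem, map_prod] at h2
    rw [Finsupp.prod, ← h2]
    exact Finset.prod_congr rfl fun q _ => by rw [map_pow, hY]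
  have hw : IsWeightedHomogeneous (fun q : Fin 2 × ℕ => p ^ q.2) (WittVector.wittAdd p n) (p ^ n) := by
    have h := Groth.Agent.Witt.Homogeneous.wittStructureInt_isWeightedHomogeneous p (fun _ : Fin 2 => 1)
      (MvPolynomial.X 0 + MvPolynomial.X 1) (E := 1)
      ((isWeightedHomogeneous_X ℤ _ 0).add (isWeightedHomogeneous_X ℤ _ 1)) n
    simpa [WittVector.wittAdd] using h
  have hsingle : ∀ d : (Fin 2 × ℕ) →₀ ℕ, MvPolynomial.coeff d (WittVector.wittAdd p n) ≠ 0 → d.degree < p →
      ∃ i, d = Finsupp.single (i, n) 1 := by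
    intro d hd hlt
    have hwd : Finsupp.weight (fun q : Fin 2 × ℕ => p ^ q.2) d = p ^ n := hw hd
    have hp2 : 2 ≤ p := (Fact.out (p := p.Prime)).two_le
    have hmod : ∀ k, p ^ k % (p - 1) = 1 % (p - 1) := fun k => by
      conv_lhs => rw [show p = 1 + (p - 1) by omega, Nat.pow_mod]
      simp [← Nat.pow_mod]
    have h1 : d.degree % (p - 1) = 1 % (p - 1) := by
      rw [← hmod n, ← hwd, Finsupp.weight_apply, Finsupp.degree_apply, Finsupp.sum]
      rw [Finset.sum_nat_mod, Finset.sum_nat_mod d.support (p - 1) fun q => d q • p ^ q.2]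
      congr 1
      refine Finset.sum_congr rfl fun q _ => ?_
      rw [smul_eq_mul, Nat.mul_mod (d q) (p ^ q.2), hmod, ← Nat.mul_mod, mul_one]
    have h0 : d.degree ≠ 0 := by
      intro h0
      have hd0 : d = 0 := (Finsupp.degree_eq_zero_iff d).1 h0
      rw [hd0, map_zero] at hwd
      exact absurd hwd.symm (pow_ne_zero _ (by omega))
    have hdeg : d.degree = 1 := by
      rcases Nat.lt_or_ge d.degree (p - 1) with h | h
      · rw [Nat.mod_eq_of_lt h] at h1
        rcases Nat.lt_or_ge 1 (p - 1) with h' | h'
        · rwa [Nat.mod_eq_of_lt h'] at h1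
        · omega
      · have he : d.degree = p - 1 := by omega
        rw [he, Nat.mod_self] at h1
        rcases Nat.lt_or_ge 1 (p - 1) with h' | h'
        · rw [Nat.mod_eq_of_lt h'] at h1; omega
        · omega
    obtain ⟨q, hq⟩ := Finset.nonempty_of_ne_empty (mt Finsupp.support_eq_empty.1 (fun h => h0 ((Finsupp.degree_eq_zero_iff d).2 h)))
    have hle : Finsupp.single q (d q) ≤ d := by
      intro x
      rcases eq_or_ne q x with rfl | hne
      · simp
      · simp [Finsupp.single_eq_of_ne' hne]
    have hdq : d q = 1 := le_antisymm (hdeg ▸ Finset.single_le_sum (fun i _ => Nat.zero_le (d i)) hq)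
      (Nat.one_le_iff_ne_zero.2 (Finsupp.mem_support_iff.1 hq))
    have hd1 : d = Finsupp.single q 1 := by
      refine le_antisymm (fun x => ?_) (hdq ▸ hle)
      rcases eq_or_ne q x with rfl | hne
      · simp [hdq]
      · rw [Finsupp.single_eq_of_ne' hne]
        by_contra hx
        have hx' : x ∈ d.support := Finsupp.mem_support_iff.2 (by omega)
        have := Finset.sum_le_sum_of_subset (f := fun i => d i) (show ({q, x} : Finset _) ⊆ d.support by
          intro y hy
          simp only [Finset.mem_insert, Finset.mem_singleton] at hy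
          rcases hy with rfl | rfl <;> assumption)
        rw [Finset.sum_pair hne, hdq, ← Finsupp.degree_apply, hdeg] at this
        omega
    refine ⟨q.1, ?_⟩
    rw [hd1, Finsupp.weight_single, one_smul] at hwd
    have : q.2 = n := Nat.pow_right_injective hp2 hwd
    rw [hd1, ← this]
  have hcoef : ∀ i : Fin 2, MvPolynomial.coeff (Finsupp.single (i, n) 1) (WittVector.wittAdd p n) = 1 := by
    intro i
    let e : WittVector p ℤ := WittVector.mk p fun j => if j = n then 1 else 0
    let w : Fin 2 × ℕ → ℤ := fun q => if q = (i, n) then 1 else 0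
    have h1 : MvPolynomial.aeval w (WittVector.wittAdd p n) = 1 := by
      have h : (if i = 0 then e + 0 else 0 + e).coeff n = 1 := by
        split_ifs <;> simp [e]
      refine Eq.trans ?_ h
      fin_cases i
      · simp only [Fin.zero_eta, if_pos, WittVector.add_coeff, WittVector.peval]
        congr 2
        funext q
        obtain ⟨q1, q2⟩ := q
        fin_cases q1 <;> simp [w, e, Prod.ext_iff]
      · simp only [Fin.mk_one, one_ne_zero, if_false, WittVector.add_coeff, WittVector.peval]
        congr 2
        funext q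
        obtain ⟨q1, q2⟩ := q
        fin_cases q1 <;> simp [w, e, Prod.ext_iff]
    rw [MvPolynomial.aeval_def, MvPolynomial.eval₂_eq] at h1
    rw [Finset.sum_eq_single (Finsupp.single (i, n) 1)] at h1
    · simpa [w, Finsupp.support_single_ne_zero] using h1
    · intro d hd hne
      rw [mul_eq_zero]
      right
      by_contra h0
      apply hne
      have hsupp : ∀ q ∈ d.support, q = (i, n) := fun q hq => by
        by_contra hqne
        exact h0 (Finset.prod_eq_zero hq (by
          simp [w, hqne, zero_pow (Finsupp.mem_support_iff.1 hq)]))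
      have hds : d = Finsupp.single (i, n) (d (i, n)) := Finsupp.eq_single_iff.2
        ⟨fun q hq => Finset.mem_singleton.2 (hsupp q hq), rfl⟩
      have hwd : Finsupp.weight (fun q : Fin 2 × ℕ => p ^ q.2) d = p ^ n := hw (MvPolynomial.mem_support_iff.1 hd)
      rw [hds, Finsupp.weight_single, smul_eq_mul] at hwd
      have : d (i, n) = 1 := by
        have hpn : p ^ n ≠ 0 := pow_ne_zero _ (Fact.out (p := p.Prime)).ne_zero
        exact Nat.eq_of_mul_eq_mul_right (Nat.pos_of_ne_zero hpn) (by rw [hwd, one_mul])
      rw [hds, this]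
    · intro h
      simp [MvPolynomial.notMem_support_iff.1 h]
  rw [WittVector.add_coeff, WittVector.peval]
  change MvPolynomial.aeval v (WittVector.wittAdd p n) = v (0, n) + v (1, n)
  rw [MvPolynomial.aeval_def, MvPolynomial.eval₂_eq]
  rw [← Finset.sum_subset (s₁ := {Finsupp.single ((0 : Fin 2), n) 1, Finsupp.single ((1 : Fin 2), n) 1})]
  · rw [Finset.sum_pair]
    · simp [hcoef, Finsupp.support_single_ne_zero]
    · intro h
      have := Finsupp.single_left_injective one_ne_zero h
      simp at this
  · intro d hd
    simp only [Finset.mem_insert, Finset.mem_singleton] at hd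
    rcases hd with rfl | rfl <;> simp [MvPolynomial.mem_support_iff, hcoef]
  · intro d hd hnd
    rcases Nat.lt_or_ge d.degree p with hlt | hge
    · obtain ⟨i, rfl⟩ := hsingle d (MvPolynomial.mem_support_iff.1 hd) hlt
      exact absurd (by fin_cases i <;> simp) hnd
    · exact mul_eq_zero_of_right _ (hbig d hge)

end Groth.Agent.S13160
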