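import Groth.Statements.S13162
import Mathlib

set_option autoImplicit false
universe u v
open ZeroCyc

namespace Groth.Agent.S13162

/-- Let a finite group G act on a commutative ring A by ring automorphisms and let p be a prime such
that every integer prime to p is a unit in A. If I is an ideal of A and f ∈ A has G-invariant class
modulo I, then f^(p^k) is congruent modulo I to a G-invariant element of A, where p^k is the exact
power of p dividing the order of G. (The published statement assumes I stable under G, so that G
acts on A/I and the claim reads: the p^k-th power of an invariant of A/I lies in the image of the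
invariants of A; the form here asks only that the class of f be invariant.) -/
theorem result {A : Type u} [CommRing A] {G : Type v} [Group G] [Fintype G]
    [MulSemiringAction G A] (p : ℕ) [Fact p.Prime]
    (hA : ∀ m : ℕ, ¬ p ∣ m → IsUnit (m : A))
    (I : Ideal A) (f : A) (hf : ∀ g : G, g • f - f ∈ I) :
    ∃ a : A, (∀ g : G, g • a = a) ∧ a - f ^ (p ^ (Fintype.card G).factorization p) ∈ I := by
  classical
  obtain ⟨H⟩ := (inferInstance : Nonempty (Sylow p G))
  have hcardH : Nat.card (H : Subgroup G) = p ^ (Fintype.card G).factorization p := by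
    rw [H.card_eq_multiplicity, Nat.card_eq_fintype_card]
  let P : A := ∏ h : (H : Subgroup G), (h : G) • f
  have hP : ∀ h₀ : G, h₀ ∈ (H : Subgroup G) → h₀ • P = P := by
    intro h₀ hh₀
    rw [Finset.smul_prod']
    exact Fintype.prod_equiv (Equiv.mulLeft (⟨h₀, hh₀⟩ : (H : Subgroup G))) _ _ fun h => by
      show h₀ • (h : G) • f = (((⟨h₀, hh₀⟩ : (H : Subgroup G)) * h : (H : Subgroup G)) : G) • f
      rw [Subgroup.coe_mul, mul_smul]
  have hPI : ∀ g : G, g • P - f ^ (p ^ (Fintype.card G).factorization p) ∈ I := by
    intro g
    rw [← Ideal.Quotient.mk_eq_mk_iff_sub_mem, Finset.smul_prod', map_prod, map_pow, ← hcardH,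
      Nat.card_eq_fintype_card, ← Finset.card_univ, ← Finset.prod_const]
    refine Finset.prod_congr rfl fun h _ => ?_
    rw [← mul_smul, Ideal.Quotient.mk_eq_mk_iff_sub_mem]
    exact hf _
  let Q := G ⧸ (H : Subgroup G)
  let S : A := ∑ c : Q, Quotient.liftOn' c (fun g => g • P) fun g₁ g₂ hg => by
    have hmem := (QuotientGroup.leftRel_apply).mp hg
    show g₁ • P = g₂ • P
    conv_rhs => rw [show g₂ = g₁ * (g₁⁻¹ * g₂) from (mul_inv_cancel_left g₁ g₂).symm, mul_smul, hP _ hmem]
  have hS : ∀ g : G, g • S = S := by
    intro g
    rw [Finset.smul_sum]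
    exact Fintype.sum_equiv (MulAction.toPerm g) _ _ fun c => by
      induction c using Quotient.inductionOn' with
      | h a => exact (mul_smul g a P).symm
  have hindex : ¬ p ∣ Fintype.card Q := by
    rw [← Nat.card_eq_fintype_card]
    exact H.not_dvd_index
  obtain ⟨u, hu⟩ := hA _ hindex
  refine ⟨↑u⁻¹ * S, fun g => ?_, ?_⟩
  · rw [smul_mul', hS]
    congr 1
    have h1 : g • (↑u : A) = ↑u := by
      rw [hu]
      exact map_natCast (MulSemiringAction.toRingHom G A g) _
    have h2 : g • (↑u⁻¹ : A) * ↑u = 1 := by rw [← h1, ← smul_mul', Units.inv_mul, smul_one]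
    exact (Units.eq_inv_of_mul_eq_one_left ((mul_comm _ _).trans h2)).trans rfl
  · have hsum : S - (Fintype.card Q : A) * f ^ (p ^ (Fintype.card G).factorization p) ∈ I := by
      rw [show (Fintype.card Q : A) * f ^ (p ^ (Fintype.card G).factorization p) = ∑ c : Q, f ^ (p ^ (Fintype.card G).factorization p) by simp,
        ← Finset.sum_sub_distrib]
      refine Ideal.sum_mem _ fun c _ => ?_
      induction c using Quotient.inductionOn' with
      | h a => exact hPI a
    have h3 := I.mul_mem_left (↑u⁻¹ : A) hsum
    rwa [mul_sub, ← mul_assoc, ← hu, Units.inv_mul, one_mul] at h3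

end Groth.Agent.S13162
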