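import Groth.Statements.S13168
import Groth.Agent.Lead.GradedL
-- import your own Groth.Agent.* helpers here

set_option autoImplicit false
universe u
open AlgebraicGeometry
open ZeroCyc

namespace Groth.Agent.S13168

/-- Let B be a graded R-algebra generated by homogeneous elements f_1, …, f_s of positive degrees d_1,
…, d_s, let l be the least common multiple of the d_i and X = Proj B. For n = a l with a ≥ 1, X is
the union of the opens D_+(g), g ∈ B_n. -/
theorem result {R A : Type u} [CommRing R] [CommRing A] [Algebra R A] (𝒜 : ℕ → Submodule R A) [GradedAlgebra 𝒜]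
    {s : ℕ} (f : Fin s → A) (deg : Fin s → ℕ) (hdeg : ∀ i, 0 < deg i) (hf : ∀ i, f i ∈ 𝒜 (deg i))
    (hgen : Algebra.adjoin R (Set.range f) = ⊤) (a : ℕ) (ha : 0 < a) :
    (⨆ g : 𝒜 (a * Finset.univ.lcm deg), Proj.basicOpen 𝒜 (g : A)) = ⊤ := by
  refine top_le_iff.mp fun p _ => TopologicalSpace.Opens.mem_iSup.mpr ?_
  obtain ⟨i, hi⟩ : ∃ i, f i ∉ p.asHomogeneousIdeal.toIdeal := by
    by_contra h
    push Not at h
    have htop : Algebra.adjoin (A := A) (𝒜 0) (Set.range f) = ⊤ := by
      suffices H : ∀ x, x ∈ Algebra.adjoin (A := A) (𝒜 0) (Set.range f) from top_le_iff.mp fun x _ => H x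
      intro x
      have hx : x ∈ Algebra.adjoin R (Set.range f) := hgen ▸ Algebra.mem_top
      induction hx using Algebra.adjoin_induction with
      | mem z hz => exact Algebra.subset_adjoin hz
      | algebraMap r => exact Subalgebra.algebraMap_mem _ (⟨algebraMap R A r, SetLike.algebraMap_mem_graded 𝒜 r⟩ : 𝒜 0)
      | add a b _ _ ha hb => exact add_mem ha hb
      | mul a b _ _ ha hb => exact mul_mem ha hb
    refine p.not_irrelevant_le ((Groth.Agent.Lead.GradedL.irrelevant_le_span 𝒜 (E := Set.range f)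
      (fun e ⟨j, he⟩ => ⟨deg j, hdeg j, he ▸ hf j⟩) htop).trans (Ideal.span_le.mpr ?_))
    exact Set.range_subset_iff.mpr h
  obtain ⟨c, hc⟩ : deg i ∣ Finset.univ.lcm deg := Finset.dvd_lcm (Finset.mem_univ i)
  refine ⟨(⟨f i ^ (a * c), ?_⟩ : 𝒜 (a * Finset.univ.lcm deg)), fun h' => hi (p.isPrime.mem_of_pow_mem _ h')⟩
  have h1 := SetLike.pow_mem_graded (a * c) (hf i)
  rwa [smul_eq_mul, show a * c * deg i = a * Finset.univ.lcm deg by rw [hc]; ring] at h1

end Groth.Agent.S13168
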