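import Groth.Statements.S13189
import Mathlib
-- import your own Groth.Agent.* helpers here

set_option autoImplicit false
universe u
open CAlg

namespace Groth.Agent.S13189

/-- For a finite field K of cardinality q and n ≥ 0, a polynomial p in n variables over K vanishes at
every point of K^n if and only if p belongs to the ideal generated by the X_i^q − X_i, i = 1, …, n;
in other words that ideal is the kernel of the evaluation homomorphism from K[X_1, …, X_n] to the
ring of K-valued functions on K^n. -/
theorem result (K : Type u) [Field K] [Fintype K]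
    (n : ℕ) (p : MvPolynomial (Fin n) K) :
    (∀ a : Fin n → K, MvPolynomial.eval a p = 0) ↔
      p ∈ Ideal.span (Set.range fun i : Fin n =>
        (MvPolynomial.X i ^ Fintype.card K - MvPolynomial.X i : MvPolynomial (Fin n) K)) := by
  classical
  set J : Ideal (MvPolynomial (Fin n) K) := Ideal.span (Set.range fun i : Fin n =>
        (MvPolynomial.X i ^ Fintype.card K - MvPolynomial.X i : MvPolynomial (Fin n) K))
  have hJ : ∀ q ∈ J, ∀ a : Fin n → K, MvPolynomial.eval a q = 0 := fun q hq a => by
    have : J ≤ RingHom.ker (MvPolynomial.eval a) := Ideal.span_le.2 (by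
      rintro _ ⟨i, rfl⟩
      simp [RingHom.mem_ker, FiniteField.pow_card])
    exact RingHom.mem_ker.1 (this hq)
  refine ⟨fun h => ?_, fun hp a => hJ p hp a⟩
  have hq1 : 1 < Fintype.card K := Fintype.one_lt_card
  have red : ∀ k : ℕ, ∀ i : Fin n, ∃ r ≤ Fintype.card K - 1,
      Ideal.Quotient.mk J (MvPolynomial.X i ^ k) = Ideal.Quotient.mk J (MvPolynomial.X i ^ r) := by
    intro k i
    induction k using Nat.strong_induction_on with
    | _ k ih =>
      by_cases hk : k ≤ Fintype.card K - 1
      · exact ⟨k, hk, rfl⟩
      · obtain ⟨r, hr, e⟩ := ih (k - Fintype.card K + 1) (by omega)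
        refine ⟨r, hr, ?_⟩
        rw [← e]
        have h2 : Ideal.Quotient.mk J (MvPolynomial.X i ^ Fintype.card K) = Ideal.Quotient.mk J (MvPolynomial.X i) :=
          Ideal.Quotient.eq.2 (Ideal.subset_span ⟨i, rfl⟩)
        conv_lhs => rw [show k = (k - Fintype.card K) + Fintype.card K by omega, pow_add, map_mul, h2, ← map_mul, ← pow_succ]
  have main : ∀ p : MvPolynomial (Fin n) K, ∃ p' ∈ MvPolynomial.restrictDegree (Fin n) K (Fintype.card K - 1), Ideal.Quotient.mk J p = Ideal.Quotient.mk J p' := by
    intro p
    induction p using MvPolynomial.induction_on' with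
    | monomial s c =>
      choose r hr e using fun i => red (s i) i
      refine ⟨MvPolynomial.monomial (Finsupp.equivFunOnFinite.symm r) c, ?_, ?_⟩
      · rw [MvPolynomial.mem_restrictDegree]
        intro t ht i
        obtain rfl : t = Finsupp.equivFunOnFinite.symm r := by
          simpa using MvPolynomial.support_monomial_subset ht
        simpa using hr i
      · rw [MvPolynomial.monomial_eq, MvPolynomial.monomial_eq, map_mul, map_mul]
        congr 1
        rw [Finsupp.prod_fintype _ _ (fun i => pow_zero _), Finsupp.prod_fintype _ _ (fun i => pow_zero _), map_prod, map_prod]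
        exact Finset.prod_congr rfl fun i _ => by simpa using e i
    | add a b ha hb =>
      obtain ⟨a', ha1, ha2⟩ := ha
      obtain ⟨b', hb1, hb2⟩ := hb
      exact ⟨a' + b', Submodule.add_mem _ ha1 hb1, by rw [map_add, map_add, ha2, hb2]⟩
  obtain ⟨p', hp'1, hp'2⟩ := main p
  have hsub : p - p' ∈ J := Ideal.Quotient.eq.1 hp'2
  have hv : ∀ v : Fin n → K, MvPolynomial.eval v p' = 0 := fun v => by
    have := hJ _ hsub v
    rw [map_sub, h v, zero_sub, neg_eq_zero] at this
    exact this
  let up : Fin n → ULift.{u} (Fin n) := ULift.up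
  have hup : Function.Injective up := fun _ _ e => congrArg ULift.down e
  have h1 : MvPolynomial.rename up p' = 0 := MvPolynomial.eq_zero_of_eval_eq_zero (ULift.{u} (Fin n)) K _
    (fun v => by rw [MvPolynomial.eval_rename]; exact hv _) (by
      rw [MvPolynomial.mem_restrictDegree]
      intro t ht i
      rw [MvPolynomial.support_rename_of_injective hup] at ht
      obtain ⟨s, hs, rfl⟩ := Finset.mem_image.1 ht
      obtain ⟨i⟩ := i
      show Finsupp.mapDomain up s (up i) ≤ _
      rw [Finsupp.mapDomain_apply hup]
      exact (MvPolynomial.mem_restrictDegree _ _ _).1 hp'1 s hs i)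
  have h0 : p' = 0 := MvPolynomial.rename_injective up hup (h1.trans (map_zero _).symm)
  rw [h0, sub_zero] at hsub
  exact hsub

end Groth.Agent.S13189
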