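import Groth.Statements.S13194
import Mathlib

set_option autoImplicit false
set_option maxHeartbeats 800000
universe u
open GalCoh

namespace Groth.Agent.S13194

/-- Let K be a field of characteristic p > 0, L a separable closure of K, and χ a locally constant map
from the automorphism group of L over K (Krull topology) to Z/pZ with χ(στ) = χ(σ) + χ(τ) for all σ,
τ — a continuous 1-cocycle for the trivial action. Then there is an element x of L with x^p − x in K
such that σ(x) − x equals χ(σ), read in the prime field of L, for every σ. Together with the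
elementary facts that σ ↦ σ(x) − x is such a cocycle for every x with x^p − x in K and vanishes
exactly when x lies in K, this identifies the first continuous cohomology group of the absolute
Galois group of K with coefficients Z/pZ with K/℘(K), ℘(y) = y^p − y. -/
theorem result (p : ℕ) [Fact p.Prime]
    (K L : Type u) [Field K] [Field L] [Algebra K L] [CharP K p] [IsSepClosure K L]
    (χ : (L ≃ₐ[K] L) → ZMod p) (hχ : ∀ σ τ : L ≃ₐ[K] L, χ (σ * τ) = χ σ + χ τ)
    (hlc : IsLocallyConstant χ) :
    ∃ x : L, x ^ p - x ∈ Set.range (algebraMap K L) ∧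
      ∀ σ : L ≃ₐ[K] L, σ x - x = ((χ σ).val : L) := by
  classical
  haveI : IsGalois K L := IsSepClosure.isGalois
  haveI : CharP L p := charP_of_injective_algebraMap (algebraMap K L).injective p
  have h1 : χ 1 = 0 := by simpa using hχ 1 1
  obtain ⟨E, hE, hEn, hsub⟩ := (krullTopology_mem_nhds_one_iff_of_normal K L (χ ⁻¹' {0})).1
    ((hlc.isOpen_fiber 0).mem_nhds h1)
  haveI := hE
  haveI := hEn
  haveI : IsGalois K E := ⟨⟩
  haveI : Fintype (E ≃ₐ[K] E) := Fintype.ofFinite _
  let r := AlgEquiv.restrictNormalHom (F := K) (K₁ := L) E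
  let χ' : (E ≃ₐ[K] E) → ZMod p := fun g => χ (g.liftNormal L)
  have hker : ∀ σ, r σ = 1 → χ σ = 0 := by
    intro σ hσ
    refine hsub ((IntermediateField.mem_fixingSubgroup_iff E σ).2 fun y hy => ?_)
    have := congrArg (fun g : E ≃ₐ[K] E => algebraMap E L (g ⟨y, hy⟩)) hσ
    simp only [r, AlgEquiv.one_apply] at this
    rwa [show (AlgEquiv.restrictNormalHom E) σ = σ.restrictNormal E from rfl,
      AlgEquiv.restrictNormal_commutes] at this
  have hχ' : ∀ σ, χ' (r σ) = χ σ := by
    intro σ
    have hr : r ((r σ).liftNormal L) = r σ := AlgEquiv.restrict_liftNormal L (r σ)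
    have h2 : χ (σ⁻¹ * (r σ).liftNormal L) = 0 := hker _ (by rw [map_mul, map_inv, hr, inv_mul_cancel])
    have h3 := hχ σ (σ⁻¹ * (r σ).liftNormal L)
    rw [mul_inv_cancel_left, h2, add_zero] at h3
    exact h3
  obtain ⟨c, hc⟩ := Algebra.trace_surjective K E 1
  have hsum : ∑ g : E ≃ₐ[K] E, g c = 1 := by
    have := trace_eq_sum_automorphisms (K := K) (L := E) c
    rw [hc, map_one] at this
    rw [this]; exact Finset.sum_congr (Finset.ext fun _ => by simp) fun _ _ => rfl
  let z : ZMod p → L := ZMod.castHom dvd_rfl L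
  let x : L := -∑ g : E ≃ₐ[K] E, z (χ' g) * (g c : L)
  have hz : ∀ a, z a = ((a.val : ℕ) : L) := fun a => by
    show ZMod.castHom dvd_rfl L a = _
    rw [ZMod.castHom_apply, ZMod.cast_eq_val]
  have hx : ∀ σ : L ≃ₐ[K] L, σ x - x = ((χ σ).val : L) := by
    intro σ
    have e : σ x = -∑ g : E ≃ₐ[K] E, z (χ' g - χ σ) * (g c : L) := by
      simp only [x, map_neg, map_sum, map_mul]
      congr 1
      refine Fintype.sum_equiv (Equiv.mulLeft (r σ)) _ _ fun g => ?_
      have h4 : χ' (r σ * g) = χ σ + χ' g := by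
        obtain ⟨τ, rfl⟩ := AlgEquiv.restrictNormalHom_surjective L g
        rw [← map_mul, hχ', hχ', hχ]
      show σ (z (χ' g)) * σ (g c : L) = z (χ' (r σ * g) - χ σ) * ((r σ * g) c : L)
      rw [h4, add_sub_cancel_left, hz, map_natCast]
      congr 1
      exact (AlgEquiv.restrictNormal_commutes σ E (g c)).symm
    rw [e, ← hz]
    simp only [x, z, map_sub, sub_mul, Finset.sum_sub_distrib, ← Finset.mul_sum]
    have hsum' : ∑ g : E ≃ₐ[K] E, (g c : L) = 1 := by
      rw [← AddSubmonoidClass.coe_finsetSum, hsum]; rfl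
    rw [hsum']
    ring
  refine ⟨x, (InfiniteGalois.mem_range_algebraMap_iff_fixed _).2 fun σ => ?_, hx⟩
  have : σ x = x + z (χ σ) := by rw [hz, ← hx σ]; ring
  show σ (x ^ p - x) = x ^ p - x
  rw [map_sub, map_pow, this, add_pow_char, ← map_pow (ZMod.castHom dvd_rfl L), ZMod.pow_card]
  ring

end Groth.Agent.S13194
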