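import Groth.Statements.S13197
import Mathlib

set_option autoImplicit false
universe u
open GalCoh

namespace Groth.Agent.S13197

/-- Let K be a field, n ≥ 1 an integer invertible in K, L a separable closure of K, and a a map from the
automorphism group of L over K to the units of L, locally constant for the Krull topology, with
a(στ) = a(σ) · σ(a(τ)) and a(σ)^n = 1 for all σ, τ. Then there is a unit α of L with α^n in K and
a(σ) = α⁻¹ · σ(α) for every σ; that is, every continuous 1-cocycle of the absolute Galois group with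
values in the n-th roots of unity is the Kummer boundary of the class of α^n. -/
theorem result (K L : Type u) [Field K] [Field L]
    [Algebra K L] [IsSepClosure K L] (n : ℕ) (hn : 0 < n) (hnK : (n : K) ≠ 0)
    (a : (L ≃ₐ[K] L) → Lˣ)
    (ha : ∀ σ τ : L ≃ₐ[K] L, a (σ * τ) = a σ * σ • a τ) (hroot : ∀ σ : L ≃ₐ[K] L, a σ ^ n = 1)
    (hlc : IsLocallyConstant a) :
    ∃ α : Lˣ, ((α ^ n : Lˣ) : L) ∈ Set.range (algebraMap K L) ∧
      ∀ σ : L ≃ₐ[K] L, a σ = α⁻¹ * σ • α := by
  classical
  haveI : IsGalois K L := IsSepClosure.isGalois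
  have h1 : a 1 = 1 := by simpa using ha 1 1
  obtain ⟨E, hE, hEn, hsub⟩ := (krullTopology_mem_nhds_one_iff_of_normal K L (a ⁻¹' {1})).1
    ((hlc.isOpen_fiber 1).mem_nhds h1)
  haveI := hE
  haveI := hEn
  haveI : IsGalois K E := ⟨⟩
  let r := AlgEquiv.restrictNormalHom (F := K) (K₁ := L) E
  have hker : ∀ σ, r σ = 1 → a σ = 1 := by
    intro σ hσ
    refine hsub ((IntermediateField.mem_fixingSubgroup_iff E σ).2 fun y hy => ?_)
    have := congrArg (fun g : E ≃ₐ[K] E => algebraMap E L (g ⟨y, hy⟩)) hσ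
    simp only [r, AlgEquiv.one_apply] at this
    rwa [show (AlgEquiv.restrictNormalHom E) σ = σ.restrictNormal E from rfl,
      AlgEquiv.restrictNormal_commutes] at this
  have hfac : ∀ σ τ, r σ = r τ → a σ = a τ := fun σ τ h => by
    have h2 : a (σ⁻¹ * τ) = 1 := hker _ (by rw [map_mul, map_inv, h, inv_mul_cancel])
    have h3 := ha σ (σ⁻¹ * τ)
    rw [mul_inv_cancel_left, h2, smul_one, mul_one] at h3
    exact h3.symm
  have hmem : ∀ σ, ((a σ : Lˣ) : L) ∈ E := by
    intro σ
    rw [← InfiniteGalois.fixedField_fixingSubgroup E, IntermediateField.mem_fixedField_iff]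
    intro κ hκ
    have hrκ : r κ = 1 := AlgEquiv.ext fun y => Subtype.ext (by
      show algebraMap E L (κ.restrictNormal E y) = algebraMap E L y
      rw [AlgEquiv.restrictNormal_commutes]
      exact (IntermediateField.mem_fixingSubgroup_iff E κ).1 hκ _ y.2)
    have h2 := ha κ σ
    rw [hker κ hrκ, one_mul, hfac (κ * σ) σ (by rw [map_mul, hrκ, one_mul])] at h2
    have := congrArg (fun u : Lˣ => (u : L)) h2
    simpa [AlgEquiv.smul_def] using this.symm
  let f : (E ≃ₐ[K] E) → Eˣ := fun g => Units.mk0 ⟨(a (g.liftNormal L) : L), hmem _⟩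
    (fun h => (a (g.liftNormal L)).ne_zero (congrArg Subtype.val h))
  have hlift : ∀ g, r (g.liftNormal L) = g := fun g => AlgEquiv.restrict_liftNormal L g
  have hf : groupCohomology.IsMulCocycle₁ f := fun g h => by
    refine Units.ext (Subtype.ext ?_)
    show (a ((g * h).liftNormal L) : L) = ((g ((f h : Eˣ) : E) : E) : L) * (a (g.liftNormal L) : L)
    rw [hfac _ (g.liftNormal L * h.liftNormal L) (by rw [map_mul, hlift, hlift, hlift]), ha, Units.val_mul, mul_comm]
    congr 1
    exact AlgEquiv.liftNormal_commutes g L ((f h : Eˣ) : E)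
  obtain ⟨β, hβ⟩ := groupCohomology.isMulCoboundary₁_of_isMulCocycle₁_of_aut_to_units f hf
  let α : Lˣ := Units.map (algebraMap E L).toMonoidHom β
  have hα : ∀ σ : L ≃ₐ[K] L, σ • α = α * a σ := by
    intro σ
    rw [hfac σ ((r σ).liftNormal L) (hlift _).symm]
    refine Units.ext ?_
    show σ (algebraMap E L (β : E)) = algebraMap E L (β : E) * (a ((r σ).liftNormal L) : L)
    have h2 := congrArg (fun u : Eˣ => algebraMap E L (u : E)) (hβ (r σ))
    simp only [Units.val_div_eq_div_val, map_div₀] at h2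
    rw [← AlgEquiv.restrictNormal_commutes σ E (β : E)]
    rw [div_eq_iff ((map_ne_zero_iff _ (algebraMap E L).injective).2 β.ne_zero)] at h2
    rw [mul_comm]
    exact h2
  refine ⟨α, (InfiniteGalois.mem_range_algebraMap_iff_fixed _).2 fun σ => ?_, fun σ => by rw [hα, inv_mul_cancel_left]⟩
  have h2 := congrArg (fun u : Lˣ => (u : L)) (congrArg (· ^ n) (hα σ))
  simp only [mul_pow, hroot, mul_one, Units.val_pow_eq_pow_val] at h2
  show σ ((α ^ n : Lˣ) : L) = _
  rw [Units.val_pow_eq_pow_val, map_pow]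
  exact h2

end Groth.Agent.S13197
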