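import Groth.Statements.S13206
import Mathlib

set_option autoImplicit false
universe u
open CategoryTheory AlgebraicGeometry
open AlgGrp

namespace Groth.Agent.S13206

/-- Let X → S be a separated morphism of schemes and let a finite group G act on X through
S-automorphisms. Then the functor of G-fixed points is represented by a closed subscheme of X: there
are a scheme Z and a closed immersion i : Z → X with i ∘ g = i for all g ∈ G such that every
morphism x : T → X with g ∘ x = x for all g ∈ G factors uniquely through i. (The published statement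
is for an algebraic space X over S, also treats the locally separated case and notes compatibility
with base change; this row is the separated case for schemes.) -/
theorem result
    {X S : Scheme.{u}} (p : X ⟶ S) [IsSeparated p]
    (G : Type u) [Group G] [Finite G] (ρ : G →* Aut X) (hρ : ∀ g : G, (ρ g).hom ≫ p = p) :
    ∃ (Z : Scheme.{u}) (i : Z ⟶ X), IsClosedImmersion i ∧ (∀ g : G, i ≫ (ρ g).hom = i) ∧
      ∀ (T : Scheme.{u}) (x : T ⟶ X), (∀ g : G, x ≫ (ρ g).hom = x) → ∃! z : T ⟶ Z, z ≫ i = x := by
  let Xo : Over S := Over.mk p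
  haveI : IsSeparated Xo.hom := inferInstanceAs (IsSeparated p)
  let φ : G → (Xo ⟶ Xo) := fun g => Over.homMk (ρ g).hom (hρ g)
  let e : ∀ g, (Limits.equalizer (φ g) (𝟙 Xo)).left ⟶ X := fun g => (Limits.equalizer.ι (φ g) (𝟙 Xo)).left
  haveI : ∀ g, IsClosedImmersion (e g) := fun g => isClosedImmersion_equalizer_ι_left (φ g) (𝟙 Xo)
  let I := ⨆ g, (e g).ker
  have he : ∀ g, e g ≫ (ρ g).hom = e g := fun g => by
    have h := congrArg (fun f => f.left) (Limits.equalizer.condition (φ g) (𝟙 Xo))
    simpa [e, φ] using h
  refine ⟨I.subscheme, I.subschemeι, inferInstance, fun g => ?_, fun T x hx => ?_⟩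
  · have hle : (e g).ker ≤ I.subschemeι.ker := by
      rw [Scheme.IdealSheafData.ker_subschemeι]; exact le_iSup (fun g => (e g).ker) g
    rw [← IsClosedImmersion.lift_fac (e g) I.subschemeι hle, Category.assoc, he]
  · have hle : I ≤ x.ker := by
      refine iSup_le fun g => ?_
      let x' : Over.mk (x ≫ p) ⟶ Xo := Over.homMk x rfl
      have hz := congrArg (fun f => f.left) (Limits.equalizer.lift_ι (f := φ g) (g := 𝟙 Xo) x' (by
        ext; simpa [x', φ] using hx g))
      refine le_of_le_of_eq (Scheme.Hom.le_ker_comp _ _) (congrArg Scheme.Hom.ker hz)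
    refine ⟨IsClosedImmersion.lift I.subschemeι x (by rw [Scheme.IdealSheafData.ker_subschemeι]; exact hle),
      IsClosedImmersion.lift_fac _ _ _, fun z hz => ?_⟩
    rw [← cancel_mono I.subschemeι, hz, IsClosedImmersion.lift_fac]

end Groth.Agent.S13206
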