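import Groth.Statements.S13355
import Groth.Agent.GaDual.Chars

set_option autoImplicit false
universe u
open GaDual

namespace Groth.Agent.S13355

/-- Over a commutative algebra A over the rationals, the formal characters (power series with constant
term 1 satisfying χ(X+Y) = χ(X)χ(Y) in two variables) are exactly the power series exp(aX) for a in
A. -/
theorem result (A : Type u) [CommRing A] [Algebra ℚ A] (χ : PowerSeries A) :
    (PowerSeries.constantCoeff χ = 1 ∧
      PowerSeries.subst (MvPowerSeries.X 0 + MvPowerSeries.X 1 : MvPowerSeries (Fin 2) A) χ =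
        PowerSeries.subst (MvPowerSeries.X 0 : MvPowerSeries (Fin 2) A) χ *
          PowerSeries.subst (MvPowerSeries.X 1 : MvPowerSeries (Fin 2) A) χ) ↔
      ∃ a : A, χ = PowerSeries.rescale a (PowerSeries.exp A) := by
  rw [GaDual.Chars.formalChar_iff]
  constructor
  · rintro ⟨hc, hf⟩
    refine ⟨PowerSeries.coeff 1 χ, PowerSeries.ext fun n => ?_⟩
    rw [PowerSeries.coeff_rescale, PowerSeries.coeff_exp]
    have key : ∀ n, (n.factorial : A) * PowerSeries.coeff n χ = PowerSeries.coeff 1 χ ^ n := by
      intro n
      induction n with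
      | zero => rw [Nat.factorial_zero, Nat.cast_one, one_mul, pow_zero, PowerSeries.coeff_zero_eq_constantCoeff_apply, hc]
      | succ n ih =>
        have h := hf 1 n
        rw [Nat.choose_one_right, add_comm 1 n] at h
        rw [Nat.factorial_succ, Nat.cast_mul, mul_comm ((n + 1 : ℕ) : A), mul_assoc, ← h, pow_succ, ← ih]
        ring
    rw [← key n, mul_comm, ← mul_assoc, ← map_natCast (algebraMap ℚ A), ← map_mul, one_div,
      inv_mul_cancel₀ (by exact_mod_cast Nat.factorial_ne_zero n), map_one, one_mul]
  · rintro ⟨a, rfl⟩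
    constructor
    · rw [← PowerSeries.coeff_zero_eq_constantCoeff_apply, PowerSeries.coeff_rescale]
      simp
    · intro i j
      simp only [PowerSeries.coeff_rescale, PowerSeries.coeff_exp]
      rw [show a ^ i * algebraMap ℚ A (1 / (i.factorial : ℚ)) * (a ^ j * algebraMap ℚ A (1 / (j.factorial : ℚ))) =
        a ^ (i + j) * (algebraMap ℚ A (1 / (i.factorial : ℚ)) * algebraMap ℚ A (1 / (j.factorial : ℚ))) by ring,
        ← map_mul, mul_left_comm, ← map_natCast (algebraMap ℚ A), ← map_mul]
      congr 2
      rw [Nat.cast_choose ℚ (Nat.le_add_right i j), Nat.add_sub_cancel_left]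
      have h1 : (i.factorial : ℚ) ≠ 0 := by exact_mod_cast Nat.factorial_ne_zero i
      have h2 : (j.factorial : ℚ) ≠ 0 := by exact_mod_cast Nat.factorial_ne_zero j
      have h3 : ((i + j).factorial : ℚ) ≠ 0 := by exact_mod_cast Nat.factorial_ne_zero (i + j)
      field_simp

end Groth.Agent.S13355
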