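import Groth.Statements.S13356
import Groth.Agent.GaDual.Chars

set_option autoImplicit false
universe u
open GaDual

namespace Groth.Agent.S13356

/-- Over a commutative algebra A over the rationals, the polynomials f with f(0) = 1 and f(X+Y) =
f(X)f(Y) (the characters of the additive group into the multiplicative group over A) are exactly the
polynomials exp(aX) with a in A nilpotent. -/
theorem result (A : Type u) [CommRing A] [Algebra ℚ A] (f : Polynomial A) :
    (f.eval 0 = 1 ∧
      Polynomial.aeval (MvPolynomial.X 0 + MvPolynomial.X 1 : MvPolynomial (Fin 2) A) f =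
        Polynomial.aeval (MvPolynomial.X 0 : MvPolynomial (Fin 2) A) f *
          Polynomial.aeval (MvPolynomial.X 1 : MvPolynomial (Fin 2) A) f) ↔
      ∃ a : A, IsNilpotent a ∧ (f : PowerSeries A) = PowerSeries.rescale a (PowerSeries.exp A) := by
  rw [GaDual.Chars.polyChar_iff]
  constructor
  · rintro ⟨hc, hf⟩
    have key : ∀ n, (n.factorial : A) * f.coeff n = f.coeff 1 ^ n := by
      intro n
      induction n with
      | zero => rw [Nat.factorial_zero, Nat.cast_one, one_mul, pow_zero, Polynomial.coeff_zero_eq_eval_zero, hc]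
      | succ n ih =>
        have h := hf 1 n
        rw [Nat.choose_one_right, add_comm 1 n] at h
        rw [Nat.factorial_succ, Nat.cast_mul, mul_comm ((n + 1 : ℕ) : A), mul_assoc, ← h, pow_succ, ← ih]
        ring
    refine ⟨f.coeff 1, ⟨f.natDegree + 1, ?_⟩, PowerSeries.ext fun n => ?_⟩
    · rw [← key, Polynomial.coeff_eq_zero_of_natDegree_lt (Nat.lt_succ_self _), mul_zero]
    · rw [Polynomial.coeff_coe, PowerSeries.coeff_rescale, PowerSeries.coeff_exp]
      rw [← key n, mul_comm, ← mul_assoc, ← map_natCast (algebraMap ℚ A), ← map_mul, one_div,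
        inv_mul_cancel₀ (by exact_mod_cast Nat.factorial_ne_zero n), map_one, one_mul]
  · rintro ⟨a, -, hfa⟩
    have hc : ∀ n, f.coeff n = a ^ n * algebraMap ℚ A (1 / (n.factorial : ℚ)) := fun n => by
      rw [← Polynomial.coeff_coe, hfa, PowerSeries.coeff_rescale, PowerSeries.coeff_exp]
    constructor
    · rw [← Polynomial.coeff_zero_eq_eval_zero, hc]; simp
    · intro i j
      simp only [hc]
      rw [show a ^ i * algebraMap ℚ A (1 / (i.factorial : ℚ)) * (a ^ j * algebraMap ℚ A (1 / (j.factorial : ℚ))) =
        a ^ (i + j) * (algebraMap ℚ A (1 / (i.factorial : ℚ)) * algebraMap ℚ A (1 / (j.factorial : ℚ))) by ring,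
        ← map_mul, mul_left_comm, ← map_natCast (algebraMap ℚ A), ← map_mul]
      congr 2
      rw [Nat.cast_choose ℚ (Nat.le_add_right i j), Nat.add_sub_cancel_left]
      have h1 : (i.factorial : ℚ) ≠ 0 := by exact_mod_cast Nat.factorial_ne_zero i
      have h2 : (j.factorial : ℚ) ≠ 0 := by exact_mod_cast Nat.factorial_ne_zero j
      have h3 : ((i + j).factorial : ℚ) ≠ 0 := by exact_mod_cast Nat.factorial_ne_zero (i + j)
      field_simp

end Groth.Agent.S13356
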