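import Groth.Statements.S13357
import Groth.Agent.GaDual.Chars

set_option autoImplicit false
universe u
open GaDual

namespace Groth.Agent.S13357

/-- Over a commutative algebra A of prime characteristic p, the polynomials f with f(0) = 1 and f(X+Y) =
f(X)f(Y) (the characters of the additive group into the multiplicative group over A) are exactly the
finite products of truncated exponentials exp_p(a_n X^(p^n)) = Σ_{j<p} a_n^j X^(j p^n)/j! with a_n^p
= 0. -/
theorem result (p : ℕ) [Fact p.Prime] (A : Type u) [CommRing A] [CharP A p]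
    (f : Polynomial A) :
    (f.eval 0 = 1 ∧
      Polynomial.aeval (MvPolynomial.X 0 + MvPolynomial.X 1 : MvPolynomial (Fin 2) A) f =
        Polynomial.aeval (MvPolynomial.X 0 : MvPolynomial (Fin 2) A) f *
          Polynomial.aeval (MvPolynomial.X 1 : MvPolynomial (Fin 2) A) f) ↔
      ∃ (N : ℕ) (a : ℕ → A), (∀ n, a n ^ p = 0) ∧
        f = ∏ n ∈ Finset.range N, ∑ j ∈ Finset.range p,
          Polynomial.C (Ring.inverse (j.factorial : A) * a n ^ j) * Polynomial.X ^ (j * p ^ n) := by
  constructor
  · rintro ⟨h0, hf⟩
    rw [GaDual.Chars.polyChar_iff] at hf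
    have hp : p.Prime := Fact.out
    let N := f.natDegree + 1
    have hN : f.natDegree < p ^ N := lt_of_lt_of_le (Nat.lt_succ_self _) (Nat.lt_pow_self hp.one_lt).le
    obtain ⟨hnil, hcoeff⟩ := GaDual.Chars.coeff_eq_prod p f.coeff
      (by rw [Polynomial.coeff_zero_eq_eval_zero, h0]) N (fun i j _ _ => hf i j)
    refine ⟨N, fun k => if k < N then f.coeff (p ^ k) else 0, fun k => ?_, ?_⟩
    · dsimp only
      split_ifs with hk
      · exact hnil k hk
      · exact zero_pow hp.ne_zero
    · rw [Finset.prod_congr rfl (g := fun k => GaDual.Chars.expp p (f.coeff (p ^ k)) k)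
        (fun k hk => by simp only [if_pos (Finset.mem_range.mp hk)])]
      refine Polynomial.ext fun m => ?_
      rcases Nat.lt_or_ge m (p ^ N) with hm | hm
      · exact hcoeff m hm
      · rw [Polynomial.coeff_eq_zero_of_natDegree_lt (lt_of_lt_of_le hN hm),
          Polynomial.coeff_eq_zero_of_natDegree_lt
            (lt_of_lt_of_le (GaDual.Chars.natDegree_prod_lt p _ N) hm)]
  · rintro ⟨N, a, ha, rfl⟩
    exact GaDual.Chars.prod_isChar p a ha N

end Groth.Agent.S13357
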