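import Groth.Statements.S13358
import Mathlib
import Groth.Agent.GaDual.Lazard

set_option autoImplicit false
universe u
open GaDual

namespace Groth.Agent.S13358

/-- Over a commutative algebra R of prime characteristic p, a polynomial F(X,Y) is symmetric and
satisfies the two-cocycle identity F(X,Y+Z) + F(Y,Z) − F(X+Y,Z) − F(X,Y) = 0 if and only if it has
the form G(X+Y) − G(X) − G(Y) + Σ_i r_i S(X^(p^i), Y^(p^i)) with G a one-variable polynomial, r_i in
R and S(X,Y) = Σ_{0<j<p} (C(p,j)/p) X^j Y^(p−j) the reduction mod p of ((X+Y)^p − X^p − Y^p)/p. -/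
theorem result (p : ℕ) [Fact p.Prime] (R : Type u) [CommRing R] [CharP R p]
    (F : MvPolynomial (Fin 2) R) :
    (MvPolynomial.aeval ![MvPolynomial.X 1, MvPolynomial.X 0] F = F ∧
      MvPolynomial.aeval ![MvPolynomial.X 0, MvPolynomial.X 1 + MvPolynomial.X 2] F
          + MvPolynomial.aeval ![MvPolynomial.X 1, MvPolynomial.X 2] F
          - MvPolynomial.aeval ![MvPolynomial.X 0 + MvPolynomial.X 1, MvPolynomial.X 2] F
          - MvPolynomial.aeval ![MvPolynomial.X 0, MvPolynomial.X 1] F = (0 : MvPolynomial (Fin 3) R)) ↔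
      ∃ (G : Polynomial R) (N : ℕ) (r : ℕ → R),
        F = Polynomial.aeval (MvPolynomial.X 0 + MvPolynomial.X 1 : MvPolynomial (Fin 2) R) G
              - Polynomial.aeval (MvPolynomial.X 0 : MvPolynomial (Fin 2) R) G
              - Polynomial.aeval (MvPolynomial.X 1 : MvPolynomial (Fin 2) R) G
            + ∑ i ∈ Finset.range N, MvPolynomial.C (r i) *
                MvPolynomial.aeval ![MvPolynomial.X 0 ^ p ^ i, MvPolynomial.X 1 ^ p ^ i]
                  (∑ j ∈ Finset.Ioo 0 p, MvPolynomial.C ((p.choose j / p : ℕ) : R) *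
                    MvPolynomial.X 0 ^ j * MvPolynomial.X 1 ^ (p - j) : MvPolynomial (Fin 2) R) := by
  classical
  have hpR : (p : R) = 0 := CharP.cast_eq_zero R p
  constructor
  · rintro ⟨hs, hc⟩
    obtain ⟨G, N, r, -, -, -, h⟩ := GaDual.Lazard.lazard p hpR ⊤ ⊥ F (fun _ => trivial)
      (fun d => by rw [hs, sub_self, MvPolynomial.coeff_zero]; exact zero_mem _)
      (fun d => by rw [GaDual.Lazard.coc, hc, MvPolynomial.coeff_zero]; exact zero_mem _)
    refine ⟨G, N, r, ?_⟩
    have : F = GaDual.Lazard.dAdd G + ∑ i ∈ Finset.range N, MvPolynomial.C (r i) * GaDual.Lazard.Spow p i :=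
      sub_eq_zero.mp (MvPolynomial.ext _ _ fun d => by rw [MvPolynomial.coeff_zero]; exact Ideal.mem_bot.mp (h d))
    exact this
  · rintro ⟨G, N, r, rfl⟩
    constructor
    · show MvPolynomial.aeval _ (GaDual.Lazard.dAdd G + ∑ i ∈ Finset.range N, MvPolynomial.C (r i) * GaDual.Lazard.Spow p i) =
        GaDual.Lazard.dAdd G + ∑ i ∈ Finset.range N, MvPolynomial.C (r i) * GaDual.Lazard.Spow p i
      simp only [map_add, map_sum, map_mul, MvPolynomial.aeval_C, MvPolynomial.algebraMap_eq,
        GaDual.Lazard.swap_dAdd, GaDual.Lazard.swap_Spow]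
    · show GaDual.Lazard.coc (GaDual.Lazard.dAdd G + ∑ i ∈ Finset.range N, MvPolynomial.C (r i) * GaDual.Lazard.Spow p i) = 0
      simp [GaDual.Lazard.coc_add, GaDual.Lazard.coc_sum, GaDual.Lazard.coc_C_mul,
        GaDual.Lazard.coc_dAdd, GaDual.Lazard.coc_Spow p hpR]

end Groth.Agent.S13358
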