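import Groth.Statements.S13360
import Mathlib
-- import your own Groth.Agent.* helpers here

set_option autoImplicit false
universe u
open UltraProd

namespace Groth.Agent.S13360

/-- If (R_i) is a nonempty family of valuation rings, then the localization of the product ring ∏ R_i at
any prime ideal is a valuation ring: a domain in which, of any two elements, one divides the other. -/
theorem result {ι : Type u} [Nonempty ι] (R : ι → Type u)
    [∀ i, CommRing (R i)] [∀ i, IsDomain (R i)] [∀ i, ValuationRing (R i)]
    (P : Ideal (∀ i, R i)) [P.IsPrime] :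
    IsDomain (Localization.AtPrime P) ∧ PreValuationRing (Localization.AtPrime P) := by
  classical
  let S := Localization.AtPrime P
  have split : ∀ s : Set ι, s = s → ((fun i => if i ∈ s then (1 : R i) else 0) ∉ P) ∨ ((fun i => if i ∈ s then (0 : R i) else 1) ∉ P) := by
    intro s _
    by_contra hc
    push Not at hc
    apply ‹P.IsPrime›.ne_top
    rw [Ideal.eq_top_iff_one]
    have e : (fun i => if i ∈ s then (1 : R i) else 0) + (fun i => if i ∈ s then (0 : R i) else 1) = 1 := by
      funext i; by_cases hi : i ∈ s <;> simp [hi]
    rw [← e]; exact P.add_mem hc.1 hc.2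
  have unit : ∀ e : ∀ i, R i, e ∉ P → IsUnit (algebraMap _ S e) := fun e he =>
    IsLocalization.map_units S (⟨e, he⟩ : P.primeCompl)
  constructor
  · haveI : Nontrivial S := inferInstance
    haveI : NoZeroDivisors S := by
      constructor
      intro x y hxy
      obtain ⟨a, s, rfl⟩ := IsLocalization.exists_mk'_eq P.primeCompl x
      obtain ⟨b, t, rfl⟩ := IsLocalization.exists_mk'_eq P.primeCompl y
      rw [← IsLocalization.mk'_mul, IsLocalization.mk'_eq_zero_iff] at hxy
      obtain ⟨c, hc⟩ := hxy
      rcases split {i | (c : ∀ i, R i) i * a i = 0} rfl with he | he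
      · left
        rw [IsLocalization.mk'_eq_zero_iff]
        refine ⟨⟨_, P.primeCompl.mul_mem he c.2⟩, funext fun i => ?_⟩
        change (if (c : ∀ i, R i) i * a i = 0 then (1 : R i) else 0) * (c : ∀ i, R i) i * a i = 0
        split_ifs with hi
        · rw [one_mul]; exact hi
        · rw [zero_mul, zero_mul]
      · right
        rw [IsLocalization.mk'_eq_zero_iff]
        refine ⟨⟨_, P.primeCompl.mul_mem he c.2⟩, funext fun i => ?_⟩
        change (if (c : ∀ i, R i) i * a i = 0 then (0 : R i) else 1) * (c : ∀ i, R i) i * b i = 0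
        split_ifs with hi
        · rw [zero_mul, zero_mul]
        · have := congrFun hc i
          simp only [Pi.mul_apply, Pi.zero_apply, ← mul_assoc] at this
          rw [(mul_eq_zero.mp this).resolve_left hi, mul_zero]
    exact NoZeroDivisors.to_isDomain S
  · refine ⟨fun x y => ?_⟩
    obtain ⟨a, s, rfl⟩ := IsLocalization.exists_mk'_eq P.primeCompl x
    obtain ⟨b, t, rfl⟩ := IsLocalization.exists_mk'_eq P.primeCompl y
    have hex : ∀ i, ∃ c d : R i, a i * c = b i ∨ b i * d = a i := fun i => by
      obtain ⟨c, hc⟩ := ValuationRing.cond (a i) (b i)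
      exact hc.elim (fun h => ⟨c, 0, Or.inl h⟩) (fun h => ⟨0, c, Or.inr h⟩)
    choose c d hcd using hex
    have key : ∀ (a b c : ∀ i, R i) (s t : P.primeCompl) (e : ∀ i, R i), e ∉ P → e * (a * c) = e * b →
        ∃ z : S, IsLocalization.mk' S a s * z = IsLocalization.mk' S b t := by
      intro a b c s t e he h
      refine ⟨IsLocalization.mk' S (c * (s : ∀ i, R i)) t, ?_⟩
      rw [← IsLocalization.mk'_mul]
      refine IsLocalization.mk'_eq_iff_eq.mpr ?_
      have hu := unit e he
      apply hu.mul_left_cancel
      rw [← map_mul, ← map_mul]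
      congr 1
      simp only [Submonoid.coe_mul]
      linear_combination ((t : ∀ i, R i) * (s : ∀ i, R i)) * h
    rcases split {i | a i * c i = b i} rfl with he | he
    · obtain ⟨z, hz⟩ := key a b c s t _ he (funext fun i => by by_cases hi : a i * c i = b i <;> simp [hi])
      exact ⟨z, Or.inl hz⟩
    · obtain ⟨z, hz⟩ := key b a d t s _ he (funext fun i => by
        by_cases hi : a i * c i = b i
        · simp [hi]
        · simp [(hcd i).resolve_left hi])
      exact ⟨z, Or.inr hz⟩

end Groth.Agent.S13360
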