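import Groth.Statements.S13363
import Groth.Agent.ProCompl8.Topo

set_option autoImplicit false
universe u
open ProCompl

namespace Groth.Agent.S13363

/-- Let A be a topological abelian group such that the subgroup n·A is open for each n > 0, and a ∈ A.
Then A has an open subgroup of finite index not containing a if and only if a does not lie in the
subgroup of divisible elements ∩_n nA. -/
theorem result {A : Type u} [AddCommGroup A]
    [TopologicalSpace A] [IsTopologicalAddGroup A]
    (hn : ∀ n : ℕ, 0 < n → IsOpen (Set.range (fun x : A => n • x))) (a : A) :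
    (∃ B : AddSubgroup A, IsOpen (B : Set A) ∧ B.FiniteIndex ∧ a ∉ B) ↔
      ¬ (∀ n : ℕ, 0 < n → ∃ b : A, n • b = a) := by
  constructor
  · rintro ⟨B, -, hB, ha⟩
    exact (Groth.Agent.ProCompl8.exists_finiteIndex_iff a).mp ⟨B, hB, ha⟩
  · intro h
    push Not at h
    obtain ⟨n, hn0, hb⟩ := h
    obtain ⟨B, hnB, hB, ha⟩ := Groth.Agent.ProCompl8.exists_finiteIndex_not_mem hn0 hb
    refine ⟨B, ?_, hB, ha⟩
    exact Groth.Agent.ProCompl8.isOpen_of_le (U := (nsmulAddMonoidHom n).range) (by rw [AddMonoidHom.coe_range]; exact hn n hn0) (by rintro _ ⟨b, rfl⟩; exact hnB b)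

end Groth.Agent.S13363
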