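import Groth.Statements.S13368
import Mathlib

set_option autoImplicit false
universe u
open GaDual

namespace Groth.Agent.S13368

/-- Let R be a discrete valuation ring of prime characteristic p whose fraction field k has degree p
over its subfield k^p of p-th powers, and π a uniformizer. Then every element of R is, in a unique
way, a sum of π^i c_i^p over 0 ≤ i < p with c_i in R, and the Kähler differentials of R (absolute,
i.e. over the integers, equivalently over the prime field) form a free module of rank one generated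
by dπ. -/
theorem result (p : ℕ) [Fact p.Prime] {R : Type u} [CommRing R]
    [IsDomain R] [IsDiscreteValuationRing R] [CharP R p]
    (kp : Subfield (FractionRing R)) (hkp : ∀ x : FractionRing R, x ∈ kp ↔ ∃ y : FractionRing R, y ^ p = x)
    (hdeg : Module.finrank kp (FractionRing R) = p)
    (π : R) (hπ : Irreducible π) :
    (∀ r : R, ∃! c : Fin p → R, r = ∑ i : Fin p, π ^ (i : ℕ) * c i ^ p) ∧
      Function.Bijective (fun r : R => r • KaehlerDifferential.D ℤ R π) := by
  classical
  have hp : p.Prime := Fact.out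
  have hp0 : 0 < p := hp.pos
  have hπ0 : π ≠ 0 := hπ.ne_zero
  have hπu : ¬ IsUnit π := hπ.not_isUnit
  have hπp : Prime π := hπ.prime
  -- π^p divides a twisted sum only if π divides every coefficient
  have step : ∀ a : Fin p → R, π ^ p ∣ ∑ i : Fin p, π ^ (i : ℕ) * a i ^ p → ∀ i, π ∣ a i := by
    intro a h
    by_contra hne
    push Not at hne
    obtain ⟨i₀, hi₀, hmin⟩ := Finset.exists_min_image (Finset.univ.filter fun i => ¬ π ∣ a i) id
      (by obtain ⟨i, hi⟩ := hne; exact ⟨i, by simp [hi]⟩)
    have hother : ∀ i ≠ i₀, π ^ ((i₀ : ℕ) + 1) ∣ π ^ (i : ℕ) * a i ^ p := by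
      intro i hi
      by_cases hd : π ∣ a i
      · exact (pow_dvd_pow π (Nat.succ_le_of_lt i₀.2)).trans (Dvd.dvd.mul_left (pow_dvd_pow_of_dvd hd p) _)
      · have hle : i₀ ≤ i := hmin i (by simp [hd])
        have hlt : (i₀ : ℕ) < i := Nat.lt_of_le_of_ne hle (fun he => hi (Fin.ext he.symm))
        exact Dvd.dvd.mul_right (pow_dvd_pow π hlt) _
    have hsum : π ^ ((i₀ : ℕ) + 1) ∣ π ^ (i₀ : ℕ) * a i₀ ^ p := by
      have h1 := (pow_dvd_pow π (Nat.succ_le_of_lt i₀.2)).trans h
      rw [← Finset.add_sum_erase _ _ (Finset.mem_univ i₀)] at h1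
      exact (dvd_add_left (Finset.dvd_sum fun i hi => hother i (Finset.ne_of_mem_erase hi))).mp h1
    rw [pow_succ] at hsum
    have := hπp.dvd_of_dvd_pow ((mul_dvd_mul_iff_left (pow_ne_zero _ hπ0)).mp hsum)
    exact (Finset.mem_filter.mp hi₀).2 this
  have stepn : ∀ (n : ℕ) (a : Fin p → R), (π ^ n) ^ p ∣ ∑ i : Fin p, π ^ (i : ℕ) * a i ^ p →
      ∀ i, π ^ n ∣ a i := by
    intro n
    induction n with
    | zero => intro a _ i; simp
    | succ n ih =>
      intro a h
      have h1 := step a (((pow_dvd_pow_of_dvd (dvd_pow_self π n.succ_ne_zero) p)).trans h)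
      choose a' ha' using h1
      have hs : ∑ i : Fin p, π ^ (i : ℕ) * a i ^ p = π ^ p * ∑ i : Fin p, π ^ (i : ℕ) * a' i ^ p := by
        rw [Finset.mul_sum]
        exact Finset.sum_congr rfl fun i _ => by rw [ha' i]; ring
      rw [hs, pow_succ', mul_pow] at h
      have := ih a' ((mul_dvd_mul_iff_left (pow_ne_zero _ hπ0)).mp h)
      intro i
      rw [ha' i, pow_succ']
      exact mul_dvd_mul_left π (this i)
  have huniq0 : ∀ a : Fin p → R, ∑ i : Fin p, π ^ (i : ℕ) * a i ^ p = 0 → ∀ i, a i = 0 := by
    intro a h i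
    by_contra hai
    obtain ⟨n, u, hu⟩ := IsDiscreteValuationRing.eq_unit_mul_pow_irreducible hai hπ
    have := stepn (n + 1) a (by rw [h]; exact dvd_zero _) i
    rw [hu, pow_succ, mul_comm (π ^ n) π, Units.dvd_mul_left] at this
    have h2 : π * π ^ n ∣ 1 * π ^ n := by rw [one_mul]; exact this
    exact hπu (isUnit_of_dvd_one ((mul_dvd_mul_iff_right (pow_ne_zero _ hπ0)).mp h2))
  have huniq : ∀ a b : Fin p → R,
      ∑ i : Fin p, π ^ (i : ℕ) * a i ^ p = ∑ i : Fin p, π ^ (i : ℕ) * b i ^ p → a = b := by
    intro a b h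
    funext i
    refine sub_eq_zero.mp (huniq0 (fun i => a i - b i) ?_ i)
    simp only [sub_pow_char, mul_sub, Finset.sum_sub_distrib, h, sub_self]
  have hexist : ∀ r : R, ∃ c : Fin p → R, r = ∑ i : Fin p, π ^ (i : ℕ) * c i ^ p := by
    intro r
    let K := FractionRing R
    let φ := algebraMap R K
    have hφ : Function.Injective φ := IsFractionRing.injective R K
    haveI : FiniteDimensional kp K := Module.finite_of_finrank_pos (hdeg ▸ hp0)
    have hli : LinearIndependent kp (fun i : Fin p => φ π ^ (i : ℕ)) := by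
      rw [Fintype.linearIndependent_iff]
      intro g hg i
      choose y hy using fun j => (hkp (g j : K)).mp (g j).2
      obtain ⟨⟨b, hb⟩, hba⟩ := IsLocalization.exist_integer_multiples_of_finite (nonZeroDivisors R) y
      choose a ha using hba
      have hsum : ∑ j : Fin p, π ^ (j : ℕ) * a j ^ p = 0 := by
        apply hφ
        rw [map_sum, map_zero]
        have : ∀ j : Fin p, φ (π ^ (j : ℕ) * a j ^ p) = φ b ^ p * (g j • φ π ^ (j : ℕ)) := fun j => by
          have hj : φ (a j) = b • y j := ha j
          rw [map_mul, map_pow, map_pow, hj, Algebra.smul_def, mul_pow, hy, Subfield.smul_def,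
            smul_eq_mul]
          ring
        simp only [this, ← Finset.mul_sum, hg, mul_zero]
      have hai := huniq0 a hsum i
      have hbi : b • y i = 0 := by
        have hj : φ (a i) = b • y i := ha i
        rw [← hj, hai, map_zero]
      rw [Algebra.smul_def, mul_eq_zero] at hbi
      rcases hbi with hb0 | hy0
      · exact absurd (hφ (hb0.trans (map_zero φ).symm)) (nonZeroDivisors.ne_zero hb)
      · exact Subtype.ext (by rw [← hy i, hy0, zero_pow hp.ne_zero]; rfl)
    haveI : Nonempty (Fin p) := ⟨⟨0, hp0⟩⟩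
    have htop := hli.span_eq_top_of_card_eq_finrank (by rw [Fintype.card_fin, hdeg])
    obtain ⟨g, hg⟩ := (Submodule.mem_span_range_iff_exists_fun kp).mp
      (htop.symm ▸ Submodule.mem_top : φ r ∈ _)
    choose y hy using fun j => (hkp (g j : K)).mp (g j).2
    obtain ⟨⟨b, hb⟩, hba⟩ := IsLocalization.exist_integer_multiples_of_finite (nonZeroDivisors R) y
    choose a ha using hba
    have hsum : ∑ j : Fin p, π ^ (j : ℕ) * a j ^ p = b ^ p * r := by
      apply hφ
      rw [map_sum, map_mul, map_pow, ← hg, Finset.mul_sum]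
      refine Finset.sum_congr rfl fun j _ => ?_
      have hj : φ (a j) = b • y j := ha j
      rw [map_mul, map_pow, map_pow, hj, Algebra.smul_def, mul_pow, hy, Subfield.smul_def,
        smul_eq_mul]
      ring
    obtain ⟨n, u, hu⟩ := IsDiscreteValuationRing.eq_unit_mul_pow_irreducible
      (nonZeroDivisors.ne_zero hb) hπ
    have hdvd := stepn n a (by rw [hsum, hu, mul_pow]; exact ⟨(u : R) ^ p * r, by ring⟩)
    choose a' ha' using hdvd
    refine ⟨fun i => (↑u⁻¹ : R) * a' i, mul_left_cancel₀ (pow_ne_zero p (nonZeroDivisors.ne_zero hb)) ?_⟩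
    show b ^ p * r = b ^ p * _
    rw [← hsum, hu, Finset.mul_sum]
    refine Finset.sum_congr rfl fun i _ => ?_
    calc π ^ (i : ℕ) * a i ^ p
        = ((u : R) * (↑u⁻¹ : R)) ^ p * (π ^ (i : ℕ) * (π ^ n * a' i) ^ p) := by
          rw [Units.mul_inv, one_pow, one_mul, ha' i]
      _ = _ := by ring
  refine ⟨fun r => ?_, ?_⟩
  · obtain ⟨c, hc⟩ := hexist r
    exact ⟨c, hc, fun c' hc' => huniq c' c (hc'.symm.trans hc)⟩
  choose C hC using hexist
  let d : R → R := fun r => ∑ i : Fin p, (i : ℕ) * π ^ ((i : ℕ) - 1) * C r i ^ p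
  have hCeq : ∀ r c, r = ∑ i : Fin p, π ^ (i : ℕ) * c i ^ p → C r = c := fun r c h =>
    huniq _ _ ((hC r).symm.trans h)
  have hdadd : ∀ r s, d (r + s) = d r + d s := by
    intro r s
    have : C (r + s) = fun i => C r i + C s i := hCeq _ _ (by
      simp only [add_pow_char, mul_add, Finset.sum_add_distrib, ← hC])
    simp only [d, this, add_pow_char, mul_add, Finset.sum_add_distrib]
  have hdpow : ∀ (n : ℕ) (c : R), d (π ^ n * c ^ p) = (n : R) * π ^ (n - 1) * c ^ p := by
    intro n c
    obtain ⟨q, r, hr, rfl⟩ : ∃ q r, r < p ∧ n = q * p + r :=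
      ⟨n / p, n % p, Nat.mod_lt _ hp0, (Nat.div_add_mod' n p).symm⟩
    have : C (π ^ (q * p + r) * c ^ p) = Pi.single ⟨r, hr⟩ (π ^ q * c) := hCeq _ _ (by
      rw [Finset.sum_eq_single ⟨r, hr⟩ (fun i _ hi => by simp [hi, hp.ne_zero]) (by simp),
        Pi.single_eq_same, pow_add, pow_mul, mul_pow]
      ring)
    simp only [d, this]
    rw [Finset.sum_eq_single ⟨r, hr⟩ (fun i _ hi => by simp [hi, hp.ne_zero]) (by simp),
      Pi.single_eq_same]
    push_cast
    rw [CharP.cast_eq_zero R p, mul_zero, zero_add]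
    rcases Nat.eq_zero_or_pos r with rfl | hr0
    · simp
    · show (r : R) * π ^ (r - 1) * (π ^ q * c) ^ p = _
      rw [show q * p + r - 1 = (r - 1) + q * p by omega, pow_add, pow_mul, mul_pow]
      ring
  let δ : R →+ R := AddMonoidHom.mk' d hdadd
  have hleib : ∀ a b, d (a * b) = a * d b + b * d a := by
    intro a b
    have ha := hC a
    have hb := hC b
    calc d (a * b) = δ (∑ i : Fin p, ∑ j : Fin p, π ^ ((i : ℕ) + j) * (C a i * C b j) ^ p) := by
          rw [show a * b = ∑ i : Fin p, ∑ j : Fin p, π ^ ((i : ℕ) + j) * (C a i * C b j) ^ p from by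
            conv_lhs => rw [ha, hb, Finset.sum_mul_sum]
            refine Finset.sum_congr rfl fun i _ => Finset.sum_congr rfl fun j _ => ?_
            rw [pow_add, mul_pow]; ring]
          rfl
      _ = ∑ i : Fin p, ∑ j : Fin p, ((π ^ (i : ℕ) * C a i ^ p) *
            ((j : ℕ) * π ^ ((j : ℕ) - 1) * C b j ^ p) + (π ^ (j : ℕ) * C b j ^ p) *
            ((i : ℕ) * π ^ ((i : ℕ) - 1) * C a i ^ p)) := by
          simp only [map_sum]
          refine Finset.sum_congr rfl fun i _ => Finset.sum_congr rfl fun j _ => ?_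
          show d _ = _
          rw [hdpow, mul_pow]
          obtain ⟨i, hi⟩ := i
          obtain ⟨j, hj⟩ := j
          rcases i with _ | i <;> rcases j with _ | j <;> simp [pow_add, pow_succ]
          · ring
          · ring
          · ring
      _ = a * d b + b * d a := by
          simp only [Finset.sum_add_distrib]
          congr 1
          · conv_rhs => rw [ha, Finset.sum_mul]
            simp only [d, Finset.mul_sum]
          · rw [Finset.sum_comm]
            conv_rhs => rw [hb, Finset.sum_mul]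
            simp only [d, Finset.mul_sum]
  let D : Derivation ℤ R R :=
    Derivation.mk' δ.toIntLinearMap (fun a b => by simpa [smul_eq_mul, δ] using hleib a b)
  have hDπ : D π = 1 := by
    show d π = 1
    simpa using hdpow 1 1
  have hkill : ∀ (c : R), KaehlerDifferential.D ℤ R (c ^ p) = 0 := fun c => by
    rw [Derivation.leibniz_pow, ← Nat.cast_smul_eq_nsmul R, CharP.cast_eq_zero, zero_smul]
  have hgen : ∀ r, KaehlerDifferential.D ℤ R r = d r • KaehlerDifferential.D ℤ R π := by
    intro r
    conv_lhs => rw [hC r]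
    rw [map_sum, Finset.sum_smul]
    refine Finset.sum_congr rfl fun i _ => ?_
    rw [Derivation.leibniz, hkill, smul_zero, zero_add, Derivation.leibniz_pow,
      ← Nat.cast_smul_eq_nsmul R, smul_smul, smul_smul]
    congr 1
    ring
  refine ⟨fun r s h => ?_, fun ω => ?_⟩
  · have h2 := congrArg D.liftKaehlerDifferential h
    rw [map_smul, map_smul, Derivation.liftKaehlerDifferential_comp_D, hDπ] at h2
    simpa using h2
  · have hω : ω ∈ Submodule.span R (Set.range (KaehlerDifferential.D ℤ R)) := by
      rw [KaehlerDifferential.span_range_derivation]; trivial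
    induction hω using Submodule.span_induction with
    | mem x hx => obtain ⟨r, rfl⟩ := hx; exact ⟨d r, (hgen r).symm⟩
    | zero => exact ⟨0, zero_smul _ _⟩
    | add x y _ _ hx hy =>
      obtain ⟨⟨a, ha⟩, ⟨b, hb⟩⟩ := hx, hy
      exact ⟨a + b, by simp only [add_smul]; rw [← ha, ← hb]⟩
    | smul c x _ hx =>
      obtain ⟨a, ha⟩ := hx
      exact ⟨c * a, by simp only [mul_smul]; rw [← ha]⟩

end Groth.Agent.S13368
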