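import Groth.Statements.S13373
import Groth.Agent.GaDual.Chars

set_option autoImplicit false
universe u
open GaDual

namespace Groth.Agent.S13373

/-- Over a commutative algebra A of prime characteristic p, the formal characters (power series χ with
constant term 1 and χ(X+Y) = χ(X)χ(Y)) are exactly the infinite products ∏_n exp_p(a_n X^(p^n)) with
a_n^p = 0, where exp_p(Y) = Σ_{j<p} Y^j/j!; the infinite product is expressed through its
truncations: χ mod X^(p^m) equals the finite product over n < m. -/
theorem result (p : ℕ) [Fact p.Prime] (A : Type u) [CommRing A] [CharP A p]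
    (χ : PowerSeries A) :
    (PowerSeries.constantCoeff χ = 1 ∧
      PowerSeries.subst (MvPowerSeries.X 0 + MvPowerSeries.X 1 : MvPowerSeries (Fin 2) A) χ =
        PowerSeries.subst (MvPowerSeries.X 0 : MvPowerSeries (Fin 2) A) χ *
          PowerSeries.subst (MvPowerSeries.X 1 : MvPowerSeries (Fin 2) A) χ) ↔
      ∃ a : ℕ → A, (∀ n, a n ^ p = 0) ∧ ∀ m : ℕ,
        PowerSeries.trunc (p ^ m) χ = ∏ n ∈ Finset.range m, ∑ j ∈ Finset.range p,
          Polynomial.C (Ring.inverse (j.factorial : A) * a n ^ j) * Polynomial.X ^ (j * p ^ n) := by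
  have hp : p.Prime := Fact.out
  have h0 : PowerSeries.constantCoeff χ = PowerSeries.coeff 0 χ :=
    (PowerSeries.coeff_zero_eq_constantCoeff_apply χ).symm
  rw [GaDual.Chars.formalChar_iff]
  constructor
  · rintro ⟨hc, hf⟩
    refine ⟨fun k => PowerSeries.coeff (p ^ k) χ, fun k => ?_, fun m => ?_⟩
    · exact (GaDual.Chars.coeff_eq_prod p (fun i => PowerSeries.coeff i χ) (by rw [← h0, hc]) (k + 1)
        (fun i j _ _ => hf i j)).1 k (Nat.lt_succ_self k)
    · obtain ⟨-, hcoeff⟩ := GaDual.Chars.coeff_eq_prod p (fun i => PowerSeries.coeff i χ)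
        (by rw [← h0, hc]) m (fun i j _ _ => hf i j)
      refine Polynomial.ext fun i => ?_
      rw [PowerSeries.coeff_trunc]
      split_ifs with hi
      · exact hcoeff i hi
      · exact (Polynomial.coeff_eq_zero_of_natDegree_lt
          (lt_of_lt_of_le (GaDual.Chars.natDegree_prod_lt p _ m) (not_lt.mp hi))).symm
  · rintro ⟨a, ha, htr⟩
    have hc : ∀ m i, i < p ^ m → PowerSeries.coeff i χ =
        (∏ n ∈ Finset.range m, GaDual.Chars.expp p (a n) n).coeff i := by
      intro m i hi
      have := congrArg (fun P => Polynomial.coeff P i) (htr m)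
      simp only [PowerSeries.coeff_trunc, if_pos hi] at this
      exact this
    constructor
    · rw [h0, hc 0 0 (by simp)]
      simp
    · intro i j
      have hlt : i + j < p ^ (i + j + 1) :=
        lt_trans (Nat.lt_succ_self _) (Nat.lt_pow_self hp.one_lt)
      have h := (GaDual.Chars.polyChar_iff _).mp (GaDual.Chars.prod_isChar p a ha (i + j + 1)).2 i j
      rw [← hc _ i (by omega), ← hc _ j (by omega), ← hc _ (i + j) hlt] at h
      exact h

end Groth.Agent.S13373
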