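import Groth.Statements.S13374
import Groth.Agent.GaDual.Chars

set_option autoImplicit false
universe u
open GaDual

namespace Groth.Agent.S13374

/-- Over a commutative algebra A of prime characteristic p, every character of the kernel α_(p^n) of the
n-th Frobenius of the additive group — i.e. every polynomial f of degree < p^n with f(0) = 1 and
f(X+Y) ≡ f(X)f(Y) modulo (X^(p^n), Y^(p^n)) — is the product ∏_{i<n} exp_p(a_i X^(p^i)) for some a_i
with a_i^p = 0, exp_p(Y) = Σ_{j<p} Y^j/j!. -/
theorem result (p : ℕ) [Fact p.Prime] (A : Type u) [CommRing A] [CharP A p]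
    (n : ℕ) (f : Polynomial A) (hdeg : f.natDegree < p ^ n) (h0 : f.eval 0 = 1)
    (hmul : Ideal.Quotient.mk
        (Ideal.span {(MvPolynomial.X 0 ^ p ^ n : MvPolynomial (Fin 2) A), MvPolynomial.X 1 ^ p ^ n})
        (Polynomial.aeval (MvPolynomial.X 0 + MvPolynomial.X 1 : MvPolynomial (Fin 2) A) f) =
      Ideal.Quotient.mk
        (Ideal.span {(MvPolynomial.X 0 ^ p ^ n : MvPolynomial (Fin 2) A), MvPolynomial.X 1 ^ p ^ n})
        (Polynomial.aeval (MvPolynomial.X 0 : MvPolynomial (Fin 2) A) f *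
          Polynomial.aeval (MvPolynomial.X 1 : MvPolynomial (Fin 2) A) f)) :
    ∃ a : ℕ → A, (∀ i, a i ^ p = 0) ∧
      f = ∏ i ∈ Finset.range n, ∑ j ∈ Finset.range p,
          Polynomial.C (Ring.inverse (j.factorial : A) * a i ^ j) * Polynomial.X ^ (j * p ^ i) := by
  have hp : p.Prime := Fact.out
  have hrel : ∀ i j, i < p ^ n → j < p ^ n →
      f.coeff i * f.coeff j = ((i + j).choose i : A) * f.coeff (i + j) := by
    intro i j hi hj
    have h := GaDual.Chars.coeff_eq_zero_of_mem_span hi hj (Ideal.Quotient.eq.mp hmul)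
    rw [MvPolynomial.coeff_sub, GaDual.Chars.coeff_aeval_add, GaDual.Chars.coeff_aeval_mul] at h
    exact (sub_eq_zero.mp h).symm
  obtain ⟨hnil, hcoeff⟩ := GaDual.Chars.coeff_eq_prod p f.coeff
    (by rw [Polynomial.coeff_zero_eq_eval_zero, h0]) n hrel
  refine ⟨fun k => if k < n then f.coeff (p ^ k) else 0, fun k => ?_, ?_⟩
  · dsimp only
    split_ifs with hk
    · exact hnil k hk
    · exact zero_pow hp.ne_zero
  · rw [Finset.prod_congr rfl (g := fun k => GaDual.Chars.expp p (f.coeff (p ^ k)) k)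
      (fun k hk => by simp only [if_pos (Finset.mem_range.mp hk)])]
    refine Polynomial.ext fun m => ?_
    rcases Nat.lt_or_ge m (p ^ n) with hm | hm
    · exact hcoeff m hm
    · rw [Polynomial.coeff_eq_zero_of_natDegree_lt (lt_of_lt_of_le hdeg hm),
        Polynomial.coeff_eq_zero_of_natDegree_lt
          (lt_of_lt_of_le (GaDual.Chars.natDegree_prod_lt p _ n) hm)]

end Groth.Agent.S13374
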