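import Groth.Statements.S13396
import Groth.Agent.ZeroCycLib.Cover

set_option autoImplicit false
universe u
open scoped TensorProduct
open ZeroCyc

namespace Groth.Agent.S13396
open Groth.Agent.ZeroCycLib PolLaw


/-- Let A be a commutative ring, B an A-algebra, d ≥ 0, and let (C, γ) be the degree-d divided power
algebra Γ^d_A(B) with its universal multiplicative law γ : B → C of degree d (every multiplicative
law of degree d out of B factors uniquely through γ). Let φ : Γ^d_A(B) → TS^d_A(B) be the canonical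
homomorphism to the symmetric tensors, taken here as data characterised by: after any base change S,
φ ∘ γ sends Σ_j s_j ⊗ b_j to Σ_{c : [d] → [n]} (∏_i s_{c(i)}) ⊗ (b_{c(1)} ⊗ ⋯ ⊗ b_{c(d)}), i.e. φ
corresponds to the law x ↦ x ⊗ ⋯ ⊗ x. Then some multiplicative polynomial law F from T^d_A(B) to
Γ^d_A(B) of degree d! has the property that φ(F(z)) = ∏_σ σ(z) in T^d_A(B) for every z ∈ T^d_A(B),
the product running over all permutations σ of the d tensor factors. (The published statement calls
F canonical; this row asserts the existence of such an F and describes the composite on elements of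
T^d_A(B).) -/
theorem result {A B C : Type u} [CommRing A] [CommRing B] [Algebra A B] [CommRing C] [Algebra A C] (d : ℕ)
    (γ : PolLaw.MulLaw A B C d) (hγ : PolLaw.IsGammaD γ) (φ : C →ₐ[A] SymTen.TS A B d)
    (hφ : ∀ (S : Type u) [CommSemiring S] [Algebra A S] (n : ℕ) (s : Fin n → S) (b : Fin n → B),
      ((SymTen.TS A B d).val.comp φ).toLinearMap.lTensor S (γ.law.toFun' S (∑ j, s j ⊗ₜ[A] b j)) =
        ∑ c : Fin d → Fin n, (∏ i, s (c i)) ⊗ₜ[A] PiTensorProduct.tprod A (fun i => b (c i))) :
    ∃ F : PolLaw.MulLaw A (⨂[A] _ : Fin d, B) C d.factorial,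
      ∀ z : ⨂[A] _ : Fin d, B, ((SymTen.TS A B d).val (φ (F.law.ground z)) : ⨂[A] _ : Fin d, B) =
        ∏ σ : Equiv.Perm (Fin d), SymTen.perm A B d σ z := by
  refine ⟨Norm γ, fun z => ?_⟩
  rw [ev_eq_ground, ev]
  have h := val_phi_Norm hφ (γ := γ) A (1 ⊗ₜ[A] z)
  have h2 := lid_rTensor_lTensor ((SymTen.TS A B d).val.comp φ).toLinearMap (LinearMap.id : A →ₗ[A] A) ((Norm γ).law.toFun' A (1 ⊗ₜ[A] z))
  rw [h, LinearMap.rTensor_id, LinearMap.rTensor_id, LinearMap.id_apply] at h2
  rw [LinearMap.rTensor_id, LinearMap.id_apply]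
  refine h2.trans ?_
  simp only [LinearMap.id_apply, SymTen.symmLaw, MulLaw.prodMap_toFun', Algebra.TensorProduct.map_tmul, map_one]
  show Algebra.TensorProduct.lid A _ (∏ σ, Algebra.TensorProduct.includeRight (SymTen.perm A B d σ z)) = _
  rw [← map_prod]
  simp

end Groth.Agent.S13396
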