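import Groth.Statements.S13398
import Groth.Agent.ZeroCycLib.PowLaw

set_option autoImplicit false
universe u
open scoped TensorProduct
open ZeroCyc

namespace Groth.Agent.S13398
open Groth.Agent.ZeroCycLib PolLaw


/-- Let A be a commutative ring, B an A-algebra, d ≥ 0, and let (C, γ) be the degree-d divided power
algebra Γ^d_A(B) with its universal multiplicative law γ : B → C of degree d (every multiplicative
law of degree d out of B factors uniquely through γ). Let φ : Γ^d_A(B) → TS^d_A(B) be the canonical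
homomorphism to the symmetric tensors, taken here as data characterised by: after any base change S,
φ ∘ γ sends Σ_j s_j ⊗ b_j to Σ_{c : [d] → [n]} (∏_i s_{c(i)}) ⊗ (b_{c(1)} ⊗ ⋯ ⊗ b_{c(d)}), i.e. φ
corresponds to the law x ↦ x ⊗ ⋯ ⊗ x. Then x^{d!} = 0 for every x in the kernel of φ, and y^{d!}
lies in the image of φ for every symmetric tensor y ∈ TS^d_A(B). -/
theorem result {A B C : Type u} [CommRing A] [CommRing B] [Algebra A B] [CommRing C] [Algebra A C] (d : ℕ)
    (γ : PolLaw.MulLaw A B C d) (hγ : PolLaw.IsGammaD γ) (φ : C →ₐ[A] SymTen.TS A B d)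
    (hφ : ∀ (S : Type u) [CommSemiring S] [Algebra A S] (n : ℕ) (s : Fin n → S) (b : Fin n → B),
      ((SymTen.TS A B d).val.comp φ).toLinearMap.lTensor S (γ.law.toFun' S (∑ j, s j ⊗ₜ[A] b j)) =
        ∑ c : Fin d → Fin n, (∏ i, s (c i)) ⊗ₜ[A] PiTensorProduct.tprod A (fun i => b (c i))) :
    (∀ x : C, φ x = 0 → x ^ d.factorial = 0) ∧
      (∀ y : SymTen.TS A B d, y ^ d.factorial ∈ φ.range) := by
  set F := (Norm γ).precomp (SymTen.TS A B d).val with hF
  have hpow : ∀ (D : Type u) [CommRing D] [Algebra A D] (x : D), (MulLaw.pow A D d.factorial).law.ground x = x ^ d.factorial := fun D _ _ x => by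
    show TensorProduct.lid A D (((1 : A) ⊗ₜ[A] x) ^ d.factorial) = _
    rw [Algebra.TensorProduct.tmul_pow, one_pow, TensorProduct.lid_tmul, one_smul]
  refine ⟨fun x hx => ?_, fun y => ⟨F.law.ground y, ?_⟩⟩
  · rw [← hpow C x, ← precomp_norm hφ hγ]
    show TensorProduct.lid A C (F.law.toFun' A (φ.toLinearMap.lTensor A ((1 : A) ⊗ₜ[A] x))) = 0
    rw [LinearMap.lTensor_tmul, AlgHom.toLinearMap_apply, hx, TensorProduct.tmul_zero,
      show (0 : A ⊗[A] (SymTen.TS A B d)) = (0 : A) • 0 from (smul_zero _).symm, F.homog A,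
      zero_pow (Nat.factorial_ne_zero d)]
    exact (congrArg _ (zero_smul A _)).trans (map_zero _)
  · show φ (F.law.ground y) = _
    rw [← hpow (SymTen.TS A B d) y, ← postcomp_norm hφ, ev_eq_ground, ev_eq_ground]
    exact (ev_postcomp φ.toLinearMap F.law A _ _).symm

end Groth.Agent.S13398
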