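import Groth.Statements.S13399
import Groth.Agent.ZeroCycLib.Apps
import Mathlib.RingTheory.PolynomialAlgebra
import Mathlib.Algebra.Polynomial.Div

set_option autoImplicit false
universe u
open scoped TensorProduct
open ZeroCyc

namespace Groth.Agent.S13399
open Groth.Agent.ZeroCycLib PolLaw

/-- `S[X] ⊗ Q → (S ⊗ Q)[X]` -/
noncomputable def th {A : Type u} [CommRing A] (S : Type u) [CommRing S] [Algebra A S] (Q : Type u) [CommRing Q]
    [Algebra A Q] : Polynomial S ⊗[A] Q →ₐ[A] Polynomial (S ⊗[A] Q) :=
  Algebra.TensorProduct.lift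
    (Polynomial.mapAlgHom (Algebra.TensorProduct.includeLeft : S →ₐ[A] S ⊗[A] Q))
    ((Polynomial.CAlgHom (R := A) (A := S ⊗[A] Q)).comp
      (Algebra.TensorProduct.includeRight : Q →ₐ[A] S ⊗[A] Q))
    (fun _ _ => Commute.all _ _)

theorem th_tmul {A : Type u} [CommRing A] (S : Type u) [CommRing S] [Algebra A S] (Q : Type u) [CommRing Q]
    [Algebra A Q] (p : Polynomial S) (q : Q) :
    th (A := A) S Q (p ⊗ₜ[A] q) =
      p.map ((Algebra.TensorProduct.includeLeft : S →ₐ[A] S ⊗[A] Q) : S →+* S ⊗[A] Q) *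
        Polynomial.C ((1 : S) ⊗ₜ[A] q) := by
  simp [th, Polynomial.mapAlgHom]

theorem th_map {A : Type u} [CommRing A] (S : Type u) [CommRing S] [Algebra A S] {Q Q' : Type u} [CommRing Q]
    [Algebra A Q] [CommRing Q'] [Algebra A Q'] (f : Q →ₐ[A] Q') (z : Polynomial S ⊗[A] Q) :
    th (A := A) S Q' (f.toLinearMap.lTensor (Polynomial S) z) =
      (th (A := A) S Q z).map (Algebra.TensorProduct.map (AlgHom.id A S) f : S ⊗[A] Q →ₐ[A] S ⊗[A] Q').toRingHom := by
  induction z using TensorProduct.induction_on with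
  | zero => simp
  | add p q hp hq => simp only [map_add, Polynomial.map_add, hp, hq]
  | tmul p q =>
    rw [LinearMap.lTensor_tmul, th_tmul, th_tmul, Polynomial.map_mul, Polynomial.map_map, Polynomial.map_C]
    congr 1
    congr 1
    ext s
    simp

theorem th_eval {A : Type u} [CommRing A] (S : Type u) [CommRing S] [Algebra A S] {Q : Type u} [CommRing Q]
    [Algebra A Q] (z : Polynomial S ⊗[A] Q) :
    (th (A := A) S Q z).eval 0 = ((Polynomial.aeval (R := S) (0 : S)).restrictScalars A).toLinearMap.rTensor Q z := by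
  induction z using TensorProduct.induction_on with
  | zero => simp
  | add p q hp hq => simp only [map_add, Polynomial.eval_add, hp, hq]
  | tmul p q =>
    rw [th_tmul, LinearMap.rTensor_tmul, Polynomial.eval_mul, Polynomial.eval_C, Polynomial.eval_map,
      AlgHom.toLinearMap_apply, AlgHom.restrictScalars_apply, Polynomial.aeval_def, ← map_zero
        ((Algebra.TensorProduct.includeLeft : S →ₐ[A] S ⊗[A] Q) : S →+* S ⊗[A] Q), Polynomial.eval₂_hom]
    show (p.eval 0 ⊗ₜ[A] (1 : Q)) * (1 ⊗ₜ[A] q) = _
    rw [Algebra.TensorProduct.tmul_mul_tmul, mul_one, one_mul]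
    rfl


/-- Let A be a commutative ring, B an A-algebra and e ≥ 0; let (C_{e+1}, γ_{e+1}) and (C_e, γ_e) be the
divided power algebras Γ^{e+1}_A(B) and Γ^e_A(B) of B with their universal multiplicative laws of
degrees e + 1 and e (every multiplicative law of that degree out of B factors uniquely through
them), and let ω : Γ^{e+1}_A(B) ⊗_A B → Γ^e_A(B) ⊗_A B be Iversen's canonical algebra homomorphism,
taken here as data characterised by ω(γ_{e+1}(x) ⊗ y) = γ_e(x) ⊗ x·y for all x, y ∈ S ⊗_A B and
every base change A → S. Then ω is surjective. -/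
theorem result {A B Cd Ce : Type u} [CommRing A] [CommRing B] [Algebra A B]
    [CommRing Cd] [Algebra A Cd] [CommRing Ce] [Algebra A Ce] (e : ℕ)
    (γd : PolLaw.MulLaw A B Cd (e + 1)) (hγd : PolLaw.IsGammaD γd)
    (γe : PolLaw.MulLaw A B Ce e) (hγe : PolLaw.IsGammaD γe)
    (ω : Cd ⊗[A] B →ₐ[A] Ce ⊗[A] B)
    (hω : ∀ (S : Type u) [CommSemiring S] [Algebra A S] (x y : S ⊗[A] B),
      ω.toLinearMap.lTensor S
        ((Algebra.TensorProduct.includeLeft : Cd →ₐ[A] Cd ⊗[A] B).toLinearMap.lTensor S (γd.law.toFun' S x) *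
          (Algebra.TensorProduct.includeRight : B →ₐ[A] Cd ⊗[A] B).toLinearMap.lTensor S y) =
      (Algebra.TensorProduct.includeLeft : Ce →ₐ[A] Ce ⊗[A] B).toLinearMap.lTensor S (γe.law.toFun' S x) *
        (Algebra.TensorProduct.includeRight : B →ₐ[A] Ce ⊗[A] B).toLinearMap.lTensor S (x * y)) :
    Function.Surjective ω := by
  classical
  have hR : ∀ b : B, ω ((1 : Cd) ⊗ₜ[A] b) = (1 : Ce) ⊗ₜ[A] b := by
    intro b
    have h := hω A 1 (1 ⊗ₜ[A] b)
    simp only [lTensor_algHom_apply, (γd.mult A).1, (γe.mult A).1, map_one, one_mul, Algebra.TensorProduct.map_tmul,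
      AlgHom.id_apply, Algebra.TensorProduct.includeRight_apply] at h
    simpa using congrArg (TensorProduct.lid A (Ce ⊗[A] B)) h
  suffices hL : ∀ c : Ce, c ⊗ₜ[A] (1 : B) ∈ ω.range by
    intro z
    induction z using TensorProduct.induction_on with
    | zero => exact ⟨0, map_zero _⟩
    | add p q hp hq =>
      obtain ⟨u, rfl⟩ := hp
      obtain ⟨v, rfl⟩ := hq
      exact ⟨u + v, map_add _ _ _⟩
    | tmul c b =>
      obtain ⟨u, hu⟩ := hL c
      refine ⟨u * (1 ⊗ₜ[A] b), ?_⟩
      rw [map_mul, show ω u = c ⊗ₜ[A] (1 : B) from hu, hR, Algebra.TensorProduct.tmul_mul_tmul, mul_one, one_mul]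
  intro c
  induction span_ev_gamma hγe ▸ (Submodule.mem_top (x := c)) using Submodule.span_induction with
  | zero => rw [TensorProduct.zero_tmul]; exact zero_mem _
  | add p q _ _ hp hq => rw [TensorProduct.add_tmul]; exact add_mem hp hq
  | smul a p _ hp => rw [← TensorProduct.smul_tmul']; exact Subalgebra.smul_mem _ hp a
  | mem c hc =>
    obtain ⟨σ, x, l, rfl⟩ := hc
    let S := MvPolynomial σ A
    let eR : S ⊗[A] (Cd ⊗[A] B) →ₐ[A] S ⊗[A] (Ce ⊗[A] B) := Algebra.TensorProduct.map (AlgHom.id A S) ω
    let jx : S →ₐ[A] Polynomial S := Polynomial.CAlgHom (R := A) (A := S)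
    set x' : Polynomial S ⊗[A] B := jx.toLinearMap.rTensor B x + (Polynomial.X : Polynomial S) ⊗ₜ[A] (1 : B) with hx'
    have h := congrArg (th (A := A) S (Ce ⊗[A] B)) (hω (Polynomial S) x' 1)
    rw [mul_one, th_map, map_mul, th_map, th_map, map_mul, th_map, th_map, map_one, Polynomial.map_one, mul_one] at h
    set ψ := (Algebra.TensorProduct.map (AlgHom.id A S) ω : S ⊗[A] (Cd ⊗[A] B) →ₐ[A] S ⊗[A] (Ce ⊗[A] B)).toRingHom with hψ
    set iR := (Algebra.TensorProduct.map (AlgHom.id A S) (Algebra.TensorProduct.includeRight : B →ₐ[A] Cd ⊗[A] B) :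
        S ⊗[A] B →ₐ[A] S ⊗[A] (Cd ⊗[A] B)) with hiR
    have hth : ∀ z : S ⊗[A] B, th (A := A) S B (jx.toLinearMap.rTensor B z) = Polynomial.C z := by
      intro z
      induction z using TensorProduct.induction_on with
      | zero => simp
      | add p q hp hq => simp only [map_add, hp, hq]
      | tmul s t => simp [th_tmul, jx, ← map_mul]
    have hθx : th (A := A) S B x' = Polynomial.X + Polynomial.C x := by
      rw [hx', map_add, hth, th_tmul, Polynomial.map_X, show (1 : S) ⊗ₜ[A] (1 : B) = 1 from rfl, map_one, mul_one,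
        add_comm]
    set G := (th (A := A) S Cd (γd.law.toFun' (Polynomial S) x')).map
      (Algebra.TensorProduct.map (AlgHom.id A S) (Algebra.TensorProduct.includeLeft : Cd →ₐ[A] Cd ⊗[A] B)).toRingHom
    set P := (th (A := A) S Ce (γe.law.toFun' (Polynomial S) x')).map
      (Algebra.TensorProduct.map (AlgHom.id A S) (Algebra.TensorProduct.includeLeft : Ce →ₐ[A] Ce ⊗[A] B)).toRingHom with hP
    rw [hθx, Polynomial.map_add, Polynomial.map_X, Polynomial.map_C] at h
    have hL0 : (Polynomial.X + Polynomial.C (iR x)).map ψ = Polynomial.X + Polynomial.C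
        ((Algebra.TensorProduct.map (AlgHom.id A S) (Algebra.TensorProduct.includeRight : B →ₐ[A] Ce ⊗[A] B)).toRingHom x) := by
      rw [Polynomial.map_add, Polynomial.map_X, Polynomial.map_C]
      have key : ∀ z : S ⊗[A] B, ψ (iR z) =
          (Algebra.TensorProduct.map (AlgHom.id A S) (Algebra.TensorProduct.includeRight : B →ₐ[A] Ce ⊗[A] B)).toRingHom z := by
        intro z
        induction z using TensorProduct.induction_on with
        | zero => simp only [map_zero]
        | add p q hp hq => simp only [map_add, hp, hq]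
        | tmul s t => simp [hψ, hiR, hR]
      rw [key]
    have hdiv : P = (G /ₘ (Polynomial.X + Polynomial.C (iR x))).map ψ := by
      rw [Polynomial.map_divByMonic ψ (Polynomial.monic_X_add_C _), h, hL0, mul_comm,
        Polynomial.mul_divByMonic_cancel_left _ (Polynomial.monic_X_add_C _)]
    have h0 : (Algebra.TensorProduct.includeLeft : Ce →ₐ[A] Ce ⊗[A] B).toLinearMap.lTensor S (γe.law.toFun' S x) =
        eR ((G /ₘ (Polynomial.X + Polynomial.C (iR x))).eval 0) := by
      have e0 : ((Polynomial.aeval (R := S) (0 : S)).restrictScalars A).toLinearMap.rTensor B x' = x := by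
        rw [hx', map_add]
        have : ∀ z : S ⊗[A] B, ((Polynomial.aeval (R := S) (0 : S)).restrictScalars A).toLinearMap.rTensor B
            (jx.toLinearMap.rTensor B z) = z := by
          intro z
          induction z using TensorProduct.induction_on with
          | zero => simp
          | add p q hp hq => simp only [map_add, hp, hq]
          | tmul s t => simp [jx]
        rw [this]
        simp
      have e1 := congrArg (Polynomial.eval (0 : S ⊗[A] (Ce ⊗[A] B))) hdiv
      rw [hP, Polynomial.eval_zero_map, Polynomial.eval_zero_map, th_eval, compat, e0] at e1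
      rw [lTensor_algHom_apply]
      exact e1
    set v := (G /ₘ (Polynomial.X + Polynomial.C (iR x))).eval 0
    refine ⟨TensorProduct.lid A (Cd ⊗[A] B) (l.rTensor _ v), ?_⟩
    show ω.toLinearMap _ = _
    rw [lid_rTensor_lTensor, lTensor_algHom_apply]
    have := lid_rTensor_lTensor (Algebra.TensorProduct.includeLeft : Ce →ₐ[A] Ce ⊗[A] B).toLinearMap l
      (γe.law.toFun' S x)
    rw [h0] at this
    exact this.symm

end Groth.Agent.S13399
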