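import Groth.Statements.S1340
import Mathlib
-- import your own Groth.Agent.* helpers here

set_option autoImplicit false
set_option backward.isDefEq.respectTransparency false
universe u
open FlatMor

namespace Groth.Agent.S1340

open AlgebraicGeometry CategoryTheory Limits in
/-- Stein factorization, universally closed case: let f : X ⟶ S be universally closed and
quasi-separated, and let X ⟶ X' ⟶ S be its factorization through the normalization X' of S in X.
Then the canonical morphism X ⟶ X' identifies the structure sheaf of X' with the pushforward of the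
structure sheaf of X: for every open U of X' the induced map from O_{X'}(U) to the sections of O_X
over the inverse image of U is an isomorphism. (That X ⟶ X' is surjective and universally closed and
that X' ⟶ S is integral are separate facts not restated here.) -/
theorem result {X S : Scheme.{u}} (f : X ⟶ S) [UniversallyClosed f] [QuasiSeparated f]
    (U : f.normalization.Opens) : IsIso (f.toNormalization.app U) := by
  classical
  let t := f.toNormalization
  have hint : ∀ V : S.affineOpens, (f.app V.1).hom.IsIntegral := fun V => by
    haveI : UniversallyClosed (f ∣_ V.1) := IsZariskiLocalAtTarget.restrict ‹_› _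
    haveI : IsAffine (V.1 : Scheme.{u}) := V.2
    have h := isIntegral_appTop_of_universallyClosed (f ∣_ V.1)
    rw [morphismRestrict_appTop] at h
    replace h := (RingHom.isIntegral_respectsIso.cancel_right_isIso (f.app (V.1.ι ''ᵁ ⊤)) (X.presheaf.map (eqToHom (image_morphismRestrict_preimage f V.1 ⊤)).op)).mp h
    have key : ∀ W W' : S.Opens, W = W' → (f.app W).hom.IsIntegral → (f.app W').hom.IsIntegral := by
      rintro W _ rfl h; exact h
    exact key _ _ (by simp) h
  have hW : ∀ V : S.affineOpens, IsIso (t.app (f.fromNormalization ⁻¹ᵁ V.1)) := fun V => by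
    rw [f.toNormalization_app_preimage V]
    let := (f.app V.1).hom.toAlgebra
    apply +allowSynthFailures IsIso.comp_isIso
    apply +allowSynthFailures IsIso.comp_isIso
    exact (ConcreteCategory.isIso_iff_bijective _).mpr ⟨Subtype.val_injective, fun z => ⟨⟨z, hint V z⟩, rfl⟩⟩
  let ι := Σ V : S.affineOpens, Γ(f.normalization, f.fromNormalization ⁻¹ᵁ V.1)
  let B : ι → f.normalization.Opens := fun i => f.normalization.basicOpen i.2
  have hB : TopologicalSpace.Opens.IsBasis (Set.range B) := by
    refine TopologicalSpace.Opens.isBasis_iff_nbhd.mpr fun {W x} hx => ?_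
    obtain ⟨_, ⟨V, hV, rfl⟩, hxV, -⟩ :=
      S.isBasis_affineOpens.exists_subset_of_mem_open (Set.mem_univ (f.fromNormalization x)) isOpen_univ
    obtain ⟨r, hr, hxr⟩ := (hV.preimage f.fromNormalization).exists_basicOpen_le (V := W) ⟨x, hx⟩ hxV
    exact ⟨_, ⟨⟨⟨V, hV⟩, r⟩, rfl⟩, hxr, hr⟩
  have hbasic : ∀ i : ι, IsIso (t.app (B i)) := fun ⟨V, r⟩ => by
    have hWa := V.2.preimage f.fromNormalization
    haveI := hW V
    let g := t.app (f.fromNormalization ⁻¹ᵁ V.1)
    have hc : IsCompact (t ⁻¹ᵁ (f.fromNormalization ⁻¹ᵁ V.1)).1 := t.isCompact_preimage hWa.isCompact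
    have hqs : IsQuasiSeparated (t ⁻¹ᵁ (f.fromNormalization ⁻¹ᵁ V.1)).1 := t.isQuasiSeparated_preimage hWa.isQuasiSeparated
    haveI : IsLocalization.Away r Γ(f.normalization, f.normalization.basicOpen r) := hWa.isLocalization_basicOpen r
    haveI : IsLocalization.Away (g r) Γ(X, X.basicOpen (g r)) := isLocalization_basicOpen_of_qcqs hc hqs (g r)
    let e := (asIso g).commRingCatIsoToRingEquiv
    have H : (Submonoid.powers r).map e.toMonoidHom = Submonoid.powers (g r) := by
      rw [Submonoid.map_powers]; rfl
    let E := IsLocalization.ringEquivOfRingEquiv Γ(f.normalization, f.normalization.basicOpen r) Γ(X, X.basicOpen (g r)) e H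
    let m : Γ(f.normalization, f.normalization.basicOpen r) ⟶ Γ(X, X.basicOpen (g r)) :=
      t.appLE (f.normalization.basicOpen r) (X.basicOpen (g r)) (Scheme.preimage_basicOpen t r).ge
    have hEm : (E : Γ(f.normalization, f.normalization.basicOpen r) →+* Γ(X, X.basicOpen (g r))) = m.hom := by
      refine IsLocalization.ringHom_ext (Submonoid.powers r) (RingHom.ext fun z => ?_)
      show E (algebraMap _ _ z) = m (algebraMap _ _ z)
      rw [IsLocalization.ringEquivOfRingEquiv_eq]
      show X.presheaf.map (homOfLE (X.basicOpen_le (g r))).op (g z) =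
        m (f.normalization.presheaf.map (homOfLE (f.normalization.basicOpen_le r)).op z)
      rw [← CommRingCat.comp_apply, ← CommRingCat.comp_apply]
      congr 2
      simp [g, m, Scheme.Hom.app_eq_appLE, Scheme.Hom.appLE_map, Scheme.Hom.map_appLE]
    haveI : IsIso m := (ConcreteCategory.isIso_iff_bijective _).mpr (by
      show Function.Bijective m.hom
      rw [← hEm]; exact E.bijective)
    have e' : t.app (f.normalization.basicOpen r) = m ≫ X.presheaf.map (eqToHom (Scheme.preimage_basicOpen t r)).op := by
      simp [m, Scheme.Hom.app_eq_appLE, Scheme.Hom.appLE_map]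
    show IsIso (t.app (f.normalization.basicOpen r))
    rw [e']; infer_instance
  let φ : f.normalization.sheaf ⟶ (TopCat.Sheaf.pushforward CommRingCat t.base).obj X.sheaf := ⟨t.toLRSHom.c⟩
  haveI : IsIso φ := TopCat.Sheaf.isIso_iff_isIso_basis hB hbasic
  haveI : IsIso φ.hom := inferInstanceAs (IsIso ((TopCat.Sheaf.forget CommRingCat _).map φ))
  exact inferInstanceAs (IsIso (φ.hom.app (Opposite.op U)))

end Groth.Agent.S1340
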