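import Groth.Statements.S13400
import Groth.Agent.ZeroCycLib.EtaleNorm
import Mathlib.RingTheory.TotallySplit
import Mathlib.RingTheory.Flat.FaithfullyFlat.Algebra

set_option autoImplicit false
universe u
open scoped TensorProduct
open ZeroCyc

namespace Groth.Agent.S13400

/-- Let A be a commutative ring and B a finite étale A-algebra, free of rank d as an A-module, so that X
= Spec B is finite étale of constant rank d over S = Spec A, and let N : B → A be the determinant
law: the multiplicative polynomial law of degree d which on each A-algebra S is the norm of the free
S-algebra S ⊗_A B (N is taken as data characterised by this formula; it is the canonical family N_X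
: S → Γ^d(X/S)). Then the kernel of N is the zero ideal, i.e. the image of N_X is X itself, and N is
the unique multiplicative law B → A of degree d whose kernel consists of nilpotent elements, i.e.
whose support is all of X_red. (The published statement is over an arbitrary algebraic space S with
X/S finite étale of locally constant rank, phrased with morphisms to Γ^?(X/S); this row is its
content over an affine base with X free of rank d.) -/
theorem result {A B : Type u} [CommRing A] [CommRing B] [Algebra A B]
    [Module.Free A B] [Module.Finite A B] [Algebra.Etale A B] (d : ℕ) (hd : Module.finrank A B = d)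
    (N : PolLaw.MulLaw A B A d)
    (hN : ∀ (S : Type u) [CommRing S] [Algebra A S] (x : S ⊗[A] B),
      N.law.toFun' S x = Algebra.norm S x ⊗ₜ[A] (1 : A)) :
    PolLaw.ker N.law = ⊥ ∧
      ∀ F : PolLaw.MulLaw A B A d, PolLaw.ker F.law ≤ nilradical B → F = N := by
  rcases subsingleton_or_nontrivial A with hA | hA
  · have : Subsingleton B := Module.subsingleton A B
    refine ⟨Subsingleton.elim _ _, fun F _ => PolLaw.MulLaw.ext ?_⟩
    apply PolynomialLaw.ext
    funext S _ _ x
    have : Subsingleton S := RingHom.codomain_trivial (algebraMap A S)
    have : Subsingleton (S ⊗[A] A) := (Algebra.TensorProduct.rid A S S).toEquiv.subsingleton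
    exact Subsingleton.elim _ _
  obtain ⟨T, _, _, _, _, _, hsplit⟩ := Algebra.IsFiniteSplit.exists_tensorProduct_of_etale (R := A) (S := B) (n := d)
    (by rw [Module.rankAtStalk_eq_finrank_of_free, hd])
  obtain ⟨n, ⟨ψ⟩⟩ := hsplit.nonempty_algEquiv_fun
  have : Nontrivial T := (Module.FaithfullyFlat.nontrivial_tensorProduct_iff_right (R := A) (M := T) (N := A)).2 hA
    |> fun _ => (TensorProduct.rid A T).symm.toEquiv.nontrivial
  have hn : n = d := by
    have h1 : Module.finrank T (T ⊗[A] B) = n := by rw [LinearEquiv.finrank_eq ψ.toLinearEquiv]; simp
    rw [Module.finrank_baseChange, hd] at h1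
    exact h1.symm
  subst hn
  exact ZeroCycLib.det_law_unique ψ (FaithfulSMul.algebraMap_injective A T) N hN
    (Module.FaithfullyFlat.tensorProduct_mk_injective (A := A) (B := T) B)

end Groth.Agent.S13400
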