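import Groth.Statements.S13402
import Groth.Agent.HopfRep.FaithFlat

set_option autoImplicit false
universe u v w
open Hopf

namespace Groth.Agent.S13402

/-- Let k be a field and let A and B be finite-dimensional commutative and cocommutative Hopf algebras
over k (finite commutative k-group schemes G = Spec A and H = Spec B). Let f : B → A be a bialgebra
map (a homomorphism G → H) which is injective and such that the ideal of A generated by the image of
the augmentation ideal of B is the augmentation ideal of A (the homomorphism G → H has trivial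
kernel). Then f is bijective, so G → H is an isomorphism; this is what makes the category of finite
commutative k-group schemes abelian. -/
theorem result (k : Type u) [Field k] (A : Type v) (B : Type w)
    [CommRing A] [HopfAlgebra k A] [Module.Finite k A] [Coalgebra.IsCocomm k A]
    [CommRing B] [HopfAlgebra k B] [Module.Finite k B] [Coalgebra.IsCocomm k B]
    (f : B →ₐc[k] A) (hinj : Function.Injective f)
    (hker : Ideal.map f (RingHom.ker (Bialgebra.counitAlgHom k B)) = RingHom.ker (Bialgebra.counitAlgHom k A)) :
    Function.Bijective f := by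
  open Groth.Agent.HopfRep.FaithFlat TensorProduct WithConv in
  classical
  let S := (f : B →ₐ[k] A).range
  have hS : IsHopfSub k S := isHopfSub_range f
  have : Algebra.FiniteType k S :=
    Algebra.FiniteType.of_surjective (f : B →ₐ[k] A).rangeRestrict (f : B →ₐ[k] A).rangeRestrict_surjective
  have := faithfullyFlat_of_finiteType S hS
  let L : A →ₐ[k] A ⊗[S] A := (Algebra.TensorProduct.includeLeft : A →ₐ[S] A ⊗[S] A).restrictScalars k
  let R : A →ₐ[k] A ⊗[S] A := (Algebra.TensorProduct.includeRight : A →ₐ[S] A ⊗[S] A).restrictScalars k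
  let ω : A →ₐ[k] A ⊗[S] A := (toConv (L.comp (HopfAlgebra.antipodeAlgHom k A)) * toConv R).ofConv
  have hωS : ∀ s ∈ S, Coalgebra.counit (R := k) s = 0 → ω s = 0 := by
    intro s hs hs0
    obtain ⟨y, hy⟩ := hS.1 s hs
    have h1 : (toConv (L.comp (HopfAlgebra.antipodeAlgHom k A)) * toConv L).ofConv s = 0 := by
      rw [(conv_inv L).1, AlgHom.convOne_apply, hs0, map_zero]
    rw [← h1]
    simp only [ω, AlgHom.convMul_apply, ← hy]
    clear hy h1
    induction y with
    | zero => simp
    | add p q hp hq => simp only [map_add, hp, hq]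
    | tmul p q =>
      have : (1 : A) ⊗ₜ[S] (q : A) = (q : A) ⊗ₜ[S] (1 : A) := by
        have := TensorProduct.smul_tmul (R := S) (⟨(q : A), q.2⟩ : S) (1 : A) (1 : A)
        simpa [Subalgebra.smul_def] using this.symm
      simp [L, R, this]
  have hle : RingHom.ker (Bialgebra.counitAlgHom k A) ≤ RingHom.ker ω := by
    rw [← hker, Ideal.map_le_iff_le_comap]
    intro b hb
    rw [Ideal.mem_comap, RingHom.mem_ker]
    refine hωS (f b) ⟨b, rfl⟩ ?_
    rw [CoalgHomClass.counit_comp_apply]
    exact hb
  have hω1 : toConv ω = 1 := by
    apply WithConv.ext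
    refine AlgHom.ext fun a => ?_
    have h := hle (show a - algebraMap k A (Coalgebra.counit (R := k) a) ∈ RingHom.ker (Bialgebra.counitAlgHom k A) by
      simp [RingHom.mem_ker])
    rw [RingHom.mem_ker, map_sub, sub_eq_zero, AlgHom.commutes] at h
    rw [AlgHom.convOne_apply]
    exact h
  have hLR : L = R := by
    have h : (toConv L * toConv ω).ofConv = R := (conv_cancel L R).1
    rw [hω1] at h
    rw [← h]
    exact (congrArg WithConv.ofConv (mul_one (toConv L))).symm
  have key : ∀ x : A, x ∈ S := by
    let N := A ⧸ (Subalgebra.toSubmodule (⊥ : Subalgebra S A))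
    have : Subsingleton (A ⊗[S] N) := by
      refine subsingleton_of_forall_eq 0 fun z => ?_
      induction z with
      | zero => rfl
      | add p q hp hq => rw [hp, hq, add_zero]
      | tmul a n =>
        obtain ⟨c, rfl⟩ := Submodule.Quotient.mk_surjective _ n
        have hc : (c : A) ⊗ₜ[S] (1 : A) = (1 : A) ⊗ₜ[S] c := DFunLike.congr_fun hLR c
        have e : a ⊗ₜ[S] c = (a * c) ⊗ₜ[S] (1 : A) := by
          have := congrArg (fun z => (a ⊗ₜ[S] (1 : A)) * z) hc
          simpa using this.symm
        have := congrArg ((Subalgebra.toSubmodule (⊥ : Subalgebra S A)).mkQ.lTensor A) e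
        simp only [LinearMap.lTensor_tmul, Submodule.mkQ_apply] at this
        rw [this, (Submodule.Quotient.mk_eq_zero _).2 (one_mem (⊥ : Subalgebra S A)), TensorProduct.tmul_zero]
    have := Module.FaithfullyFlat.lTensor_reflects_triviality S A N
    intro x
    have hx := (Submodule.Quotient.mk_eq_zero _).1 (Subsingleton.elim (Submodule.Quotient.mk x : N) 0)
    obtain ⟨s, hs⟩ := Algebra.mem_bot.1 hx
    rw [← hs]
    exact s.2
  exact ⟨hinj, fun a => key a⟩

end Groth.Agent.S13402
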