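import Groth.Statements.S1341
import Groth.Agent.CMFlat.Locus

set_option autoImplicit false
set_option backward.isDefEq.respectTransparency false
universe u
open FlatMor

namespace Groth.Agent.S1341

open AlgebraicGeometry CategoryTheory Limits in
/-- Let f : X ⟶ S be flat and locally of finite presentation. Then the set of points of X at which f is
Cohen–Macaulay is open in X, and its intersection with every fibre of f is dense in that fibre. -/
theorem result {X S : Scheme.{u}} (f : X ⟶ S) [Flat f] [LocallyOfFinitePresentation f] :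
    IsOpen {x : ↑X | MoreMor.IsCMAt f x} ∧ ∀ s : S, Dense ((f.fiberι s) ⁻¹' {x : ↑X | MoreMor.IsCMAt f x}) := by
  refine ⟨Groth.Agent.CMFlat.Locus.isOpen_cm f, fun s => ?_⟩
  rw [dense_iff_inter_open]
  rintro O hO ⟨w, hw⟩
  obtain ⟨c, hc, hcmax⟩ := Groth.Agent.Equidim.AffineCrit.exists_maximal_above w
  refine ⟨c, hc.mem_open hO hw, ?_⟩
  show MoreMor.IsCMAt f (f.fiberι s c)
  obtain ⟨x, hx⟩ : ∃ x, f.fiberι s c = x := ⟨_, rfl⟩
  have hs : f x = s := by rw [← hx]; exact (f.range_fiberι s).subset ⟨c, rfl⟩
  subst hs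
  obtain rfl : c = f.asFiber x :=
    (f.fiberι (f x)).isEmbedding.injective (by rw [hx, Scheme.Hom.fiberι_asFiber])
  rw [hx]
  exact Groth.Agent.CMFlat.Locus.isCMAt_of_maximal f x hcmax

end Groth.Agent.S1341
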