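import Groth.Statements.S13460
import Mathlib.RingTheory.Ideal.UFD
import Groth.Agent.RatMap.OrdLoc
-- import your own Groth.Agent.* helpers here

set_option autoImplicit false
open CategoryTheory
universe u
open CategoryTheory CategoryTheory.Limits AlgebraicGeometry TopologicalSpace
open WDiv

namespace Groth.Agent.S13460

/-- Let A be a Noetherian integral domain which is a unique factorization domain, and X = Spec A. Then
the divisor class group of X vanishes: every Weil divisor D on X, an integer-valued function on the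
points of X with finite support inside the points of coheight 1 (codimension one), is the divisor of
a nonzero rational function f on X, i.e. the order of vanishing of f at every point x of coheight 1
is D(x). (The published statement assumes only that A is a unique factorization domain; this row
also assumes A Noetherian.) -/
theorem result (A : Type u) [CommRing A] [IsDomain A] [IsNoetherianRing A]
    [UniqueFactorizationMonoid A]
    (D : ↥(Spec (CommRingCat.of A)) → ℤ) (hD : ∀ x, Order.coheight x ≠ 1 → D x = 0) (hfin : {x | D x ≠ 0}.Finite) :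
    ∃ f : ↑(Spec (CommRingCat.of A)).functionField, f ≠ 0 ∧
      ∀ x : ↥(Spec (CommRingCat.of A)), Order.coheight x = 1 → Scheme.ord f x = D x := by
  classical
  have : IsDomain (CommRingCat.of A) := ‹IsDomain A›
  have : Nonempty (⊤ : (Spec (CommRingCat.of A)).Opens) := ⟨⟨genericPoint _, trivial⟩⟩
  let σ : A → Γ(Spec (CommRingCat.of A), ⊤) := fun a => (Scheme.ΓSpecIso (CommRingCat.of A)).inv a
  let κ : A → (Spec (CommRingCat.of A)).functionField :=
    fun a => (Spec (CommRingCat.of A)).germToFunctionField ⊤ (σ a)
  have hκ0 : ∀ a, a ≠ 0 → κ a ≠ 0 := by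
    intro a ha
    refine (map_ne_zero_iff _ (Scheme.germToFunctionField_injective _ _)).mpr ?_
    exact (map_ne_zero_iff _ (ConcreteCategory.bijective_of_isIso
      (Scheme.ΓSpecIso (CommRingCat.of A)).inv).1).mpr ha
  have hgerm : ∀ (y : PrimeSpectrum (CommRingCat.of A)) (a : A),
      (Spec (CommRingCat.of A)).presheaf.germ ⊤ y trivial (σ a) =
        algebraMap (CommRingCat.of A) ((Spec.structureSheaf (CommRingCat.of A)).presheaf.stalk y) a := fun y a => rfl
  have hht : ∀ x : Spec (CommRingCat.of A), D x ≠ 0 → x.asIdeal.height = 1 := fun x hx => by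
    rw [idealHeight_eq_coheight]; exact not_not.mp fun h => hx (hD x h)
  have hπ : ∀ x : Spec (CommRingCat.of A), ∃ π : A, π ≠ 0 ∧ (D x ≠ 0 → x.asIdeal = Ideal.span {π}) := by
    intro x
    by_cases hx : D x = 0
    · exact ⟨1, one_ne_zero, fun h => absurd hx h⟩
    · have : x.asIdeal.IsPrime := x.isPrime
      obtain ⟨π, hπ⟩ := UniqueFactorizationMonoid.isPrincipal_of_height_eq_one (hht x hx)
      refine ⟨π, ?_, fun _ => hπ⟩
      rintro rfl
      have := hht x hx
      rw [hπ] at this
      simp at this
  choose π hπ0 hπ using hπ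
  have hord : ∀ x y : Spec (CommRingCat.of A), D x ≠ 0 → Order.coheight y = 1 →
      Scheme.ord (κ (π x)) y = if x = y then 1 else 0 := by
    intro x y hx hy
    have hxp : x.asIdeal.IsPrime := x.isPrime
    have hyp : y.asIdeal.IsPrime := y.isPrime
    have : Ring.KrullDimLE 1 ((Spec (CommRingCat.of A)).presheaf.stalk y) :=
      krullDimLE_of_coheight_le hy.le
    rw [Scheme.ord_eq_iff hy (hκ0 _ (hπ0 x))]
    have hyh : y.asIdeal.height = 1 := by rw [idealHeight_eq_coheight]; exact hy
    have hloc := StructureSheaf.IsLocalization.to_stalk (CommRingCat.of A) y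
    show Ring.ordFrac ((Spec (CommRingCat.of A)).presheaf.stalk y) (κ (π x)) = _
    rw [show κ (π x) = algebraMap _ (Spec (CommRingCat.of A)).functionField
      ((Spec (CommRingCat.of A)).presheaf.germ ⊤ y trivial (σ (π x))) from
      (Scheme.algebraMap_germ_eq_germToFunctionField _ (U := ⊤) (x := y) trivial _).symm]
    erw [hgerm]
    let y' : PrimeSpectrum (CommRingCat.of A) := y
    letI : Algebra (CommRingCat.of A) ((Spec (CommRingCat.of A)).presheaf.stalk y) :=
      StructureSheaf.stalkAlgebra (CommRingCat.of A) y'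
    have hloc' : IsLocalization.AtPrime ((Spec (CommRingCat.of A)).presheaf.stalk y) y.asIdeal :=
      StructureSheaf.IsLocalization.to_stalk (CommRingCat.of A) y'
    have : IsNoetherianRing (CommRingCat.of A) := ‹IsNoetherianRing A›
    change Ring.ordFrac _ (algebraMap _ _
      (algebraMap (CommRingCat.of A) ((Spec (CommRingCat.of A)).presheaf.stalk y) (π x))) = _
    split_ifs with hxy
    · exact Groth.Agent.RatMap.OrdLoc.ordFrac_generator y.asIdeal (hxy ▸ hπ x hx) (hπ0 x)
    · refine Groth.Agent.RatMap.OrdLoc.ordFrac_not_mem y.asIdeal fun hm => hxy ?_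
      have hle : x.asIdeal ≤ y.asIdeal := by
        rw [hπ x hx, Ideal.span_singleton_le_iff_mem]; exact hm
      apply PrimeSpectrum.ext
      rcases eq_or_lt_of_le hle with h | h
      · exact h
      · exfalso
        have := Ideal.height_strict_mono_of_isPrime_of_isPrime h
        rw [hht x hx, hyh] at this
        exact lt_irrefl _ this
  let s := hfin.toFinset
  have hne : ∀ x, κ (π x) ^ D x ≠ 0 := fun x => zpow_ne_zero _ (hκ0 _ (hπ0 x))
  refine ⟨∏ x ∈ s, κ (π x) ^ D x, Finset.prod_ne_zero_iff.mpr fun x _ => hne x, fun y hy => ?_⟩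
  have hpow : ∀ (g : (Spec (CommRingCat.of A)).functionField), g ≠ 0 → ∀ n : ℤ,
      Scheme.ord (g ^ n) y = n * Scheme.ord g y := by
    intro g hg n
    rw [Scheme.ord_eq_ordHom_of_coheight_eq_one hy, Scheme.ord_eq_ordHom_of_coheight_eq_one hy,
      map_zpow₀]
    have h0 := (map_ne_zero (Scheme.ordHom y hy)).mpr hg
    obtain ⟨v, hv⟩ := WithZero.ne_zero_iff_exists.mp h0
    simp [← hv, ← WithZero.coe_zpow, WithZero.unzeroD]
  have hsum : ∀ t : Finset (Spec (CommRingCat.of A)),
      Scheme.ord (∏ x ∈ t, κ (π x) ^ D x) y = ∑ x ∈ t, Scheme.ord (κ (π x) ^ D x) y := by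
    intro t
    induction t using Finset.induction_on with
    | empty =>
      simp [Scheme.ord_eq_ordHom_of_coheight_eq_one hy, WithZero.unzeroD]
    | insert a t ha ih =>
      rw [Finset.prod_insert ha, Finset.sum_insert ha,
        Scheme.ord_mul (hne a) (Finset.prod_ne_zero_iff.mpr fun x _ => hne x), ih]
  rw [hsum, Finset.sum_congr rfl fun x hx => by
    rw [hpow _ (hκ0 _ (hπ0 x)), hord x y (hfin.mem_toFinset.mp hx) hy]]
  simp only [mul_ite, mul_one, mul_zero, Finset.sum_ite_eq']
  split_ifs with h
  · rfl
  · exact (not_not.mp fun h' => h (hfin.mem_toFinset.mpr h')).symm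

end Groth.Agent.S13460
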