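import Groth.Statements.S1348
import Groth.Agent.Flat.FibreRegular
import Groth.Agent.Locus.BaseChange

set_option autoImplicit false
universe u
open FlatMor

namespace Groth.Agent.S1348

open AlgebraicGeometry CategoryTheory Limits in
/-- Let f be locally of finite presentation and flat at a point x with image s, and let h be an element
of the maximal ideal of the local ring at x whose image in the local ring of the fibre (the local
ring at x modulo the ideal generated by the maximal ideal at s) is a nonzerodivisor. Then there is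
an affine open neighbourhood U of x and a nonzerodivisor of its coordinate ring with germ h at x (so
its zero locus is an effective Cartier divisor of U through x) whose zero scheme is flat and locally
of finite presentation over the base. -/
theorem result {X S : Scheme.{u}} (f : X ⟶ S) [LocallyOfFinitePresentation f] (x : X)
    (hflat : (f.stalkMap x).hom.Flat) (h : X.presheaf.stalk x) (hm : h ∈ IsLocalRing.maximalIdeal (X.presheaf.stalk x))
    (hreg : Ideal.Quotient.mk (Ideal.map (f.stalkMap x).hom (IsLocalRing.maximalIdeal (S.presheaf.stalk (f x)))) h ∈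
      nonZeroDivisors (X.presheaf.stalk x ⧸ Ideal.map (f.stalkMap x).hom (IsLocalRing.maximalIdeal (S.presheaf.stalk (f x))))) :
    ∃ (U : X.Opens) (hU : IsAffineOpen U) (hx : x ∈ U) (h' : Γ(X, U)), X.presheaf.germ U x hx h' = h ∧ h' ∈ nonZeroDivisors Γ(X, U) ∧
      Flat (Spec.map (CommRingCat.ofHom (Ideal.Quotient.mk (Ideal.span {h'}))) ≫ hU.fromSpec ≫ f) ∧
      LocallyOfFinitePresentation (Spec.map (CommRingCat.ofHom (Ideal.Quotient.mk (Ideal.span {h'}))) ≫ hU.fromSpec ≫ f) := by
  obtain ⟨_, ⟨V, hV, rfl⟩, hxV, -⟩ :=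
    S.isBasis_affineOpens.exists_subset_of_mem_open (Set.mem_univ (f x)) isOpen_univ
  obtain ⟨_, ⟨W, hW, rfl⟩, hxW, hWV⟩ :=
    X.isBasis_affineOpens.exists_subset_of_mem_open (show x ∈ f ⁻¹ᵁ V from hxV) (f ⁻¹ᵁ V).isOpen
  have e : W ≤ f ⁻¹ᵁ V := hWV
  rw [Groth.Agent.Locus.BaseChange.flat_stalkMap_iff V hV W hW e hxW] at hflat
  let R := Γ(S, V)
  let C := Γ(X, W)
  letI : Algebra R C := (f.appLE V W e).hom.toAlgebra
  let q := (hW.primeIdealOf ⟨x, hxW⟩).asIdeal
  let p := (hV.primeIdealOf ⟨f x, e hxW⟩).asIdeal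
  have hpq : q.comap (algebraMap R C) = p :=
    congr($(IsAffineOpen.comap_primeIdealOf_appLE V hV W hW e hxW).1)
  letI : Algebra C (X.presheaf.stalk x) := TopCat.Presheaf.algebra_section_stalk X.presheaf ⟨x, hxW⟩
  haveI : IsLocalization.AtPrime (X.presheaf.stalk x) q := hW.isLocalization_stalk ⟨x, hxW⟩
  letI : Algebra R (S.presheaf.stalk (f x)) :=
    TopCat.Presheaf.algebra_section_stalk S.presheaf ⟨f x, e hxW⟩
  haveI : IsLocalization.AtPrime (S.presheaf.stalk (f x)) p := hV.isLocalization_stalk ⟨f x, e hxW⟩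
  haveI : Algebra.FinitePresentation R C := f.finitePresentation_appLE hV hW e
  obtain ⟨c, ⟨u, hu⟩, hcu⟩ := IsLocalization.exists_mk'_eq q.primeCompl h
  have hunit : IsUnit (algebraMap C (X.presheaf.stalk x) u) :=
    IsLocalization.map_units _ (⟨u, hu⟩ : q.primeCompl)
  have hch : h * algebraMap C (X.presheaf.stalk x) u = algebraMap C (X.presheaf.stalk x) c := by
    rw [← hcu]; exact IsLocalization.mk'_spec _ c ⟨u, hu⟩
  have hcq : c ∈ q := by
    by_contra hc
    refine (IsLocalRing.mem_maximalIdeal _).mp (Ideal.mul_mem_right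
      (algebraMap C (X.presheaf.stalk x) u) _ hm) ?_
    rw [hch]
    exact IsLocalization.map_units _ (⟨c, hc⟩ : q.primeCompl)
  -- the ideal of the fibre
  have hJ : Ideal.map (f.stalkMap x).hom (IsLocalRing.maximalIdeal (S.presheaf.stalk (f x))) =
      ((q.comap (algebraMap R C)).map (algebraMap R C)).map (algebraMap C (X.presheaf.stalk x)) := by
    rw [hpq, ← IsLocalization.AtPrime.map_eq_maximalIdeal p (S.presheaf.stalk (f x)), Ideal.map_map,
      Ideal.map_map]
    congr 1
    show (S.presheaf.germ V (f x) (e hxW) ≫ f.stalkMap x).hom =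
      (f.appLE V W e ≫ X.presheaf.germ W x hxW).hom
    erw [Scheme.Hom.germ_stalkMap]
    rw [Scheme.Hom.appLE, Category.assoc, X.presheaf.germ_res]
  have hreg' := Flat.FibreRegular.fibre_regular_of_localization q (X.presheaf.stalk x) c (by
    intro z hz
    rw [← hJ] at hz ⊢
    rw [← hch] at hz
    have h0 := Ideal.Quotient.eq_zero_iff_mem.mpr hz
    rw [map_mul, map_mul, mul_assoc, mul_comm, mul_right_mem_nonZeroDivisors_eq_zero_iff hreg] at h0
    rw [← map_mul] at h0
    exact (Ideal.unit_mul_mem_iff_mem _ hunit).mp (Ideal.Quotient.eq_zero_iff_mem.mp h0))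
  obtain ⟨g, hg, hall⟩ := Flat.FibreRegular.exists_away_regular q c hcq
    ((Flat.FlatAt.flatAt_iff_localizedModule q).mpr
      (Module.Flat.of_linearEquiv ((IsLocalizedModule.iso q.primeCompl
        (Algebra.linearMap C (Localization.AtPrime q))).restrictScalars R))) hreg'
  let U := X.basicOpen (g * u)
  have hUW : U ≤ W := X.basicOpen_le (g * u)
  have hxU : x ∈ U := by
    rw [Scheme.mem_basicOpen _ _ _ hxW, map_mul]
    exact IsUnit.mul (IsLocalization.map_units _ (⟨g, hg⟩ : q.primeCompl)) hunit
  letI : Algebra C Γ(X, U) := (X.presheaf.map (homOfLE hUW).op).hom.toAlgebra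
  letI : Algebra R Γ(X, U) := (f.appLE V U (hUW.trans e)).hom.toAlgebra
  haveI : IsScalarTower R C Γ(X, U) := IsScalarTower.of_algebraMap_eq' (by
    show (f.appLE V U (hUW.trans e)).hom =
      (f.appLE V W e ≫ X.presheaf.map (homOfLE hUW).op).hom
    rw [Scheme.Hom.appLE_map])
  haveI : IsLocalization.Away (g * u) Γ(X, U) := hW.isLocalization_basicOpen (g * u)
  obtain ⟨hnzd, hflatU⟩ := hall u Γ(X, U)
  obtain ⟨v, hv⟩ := (isUnit_of_dvd_unit (map_dvd (algebraMap C Γ(X, U)) (dvd_mul_left u g))
    (IsLocalization.Away.algebraMap_isUnit (g * u))).exists_left_inv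
  have hvu : IsUnit v := IsUnit.of_mul_eq_one _ hv
  have hgerm : ∀ a : C, X.presheaf.germ U x hxU (algebraMap C Γ(X, U) a) =
      algebraMap C (X.presheaf.stalk x) a := fun a => X.presheaf.germ_res_apply _ _ _ a
  refine ⟨U, hW.basicOpen (g * u), hxU, algebraMap C Γ(X, U) c * v, ?_,
    mul_mem hnzd hvu.mem_nonZeroDivisors, ?_⟩
  · refine hunit.mul_right_cancel ?_
    rw [hch, ← hgerm u, ← map_mul, mul_assoc, hv, mul_one, hgerm]
  · have hspan : Ideal.span {algebraMap C Γ(X, U) c * v} = Ideal.span {algebraMap C Γ(X, U) c} :=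
      Ideal.span_singleton_mul_right_unit hvu _
    have hmor : Spec.map (CommRingCat.ofHom
          (Ideal.Quotient.mk (Ideal.span {algebraMap C Γ(X, U) c * v}))) ≫
          (hW.basicOpen (g * u)).fromSpec ≫ f =
        Spec.map (CommRingCat.ofHom
          (algebraMap R (Γ(X, U) ⧸ Ideal.span {algebraMap C Γ(X, U) c * v}))) ≫ hV.fromSpec := by
      rw [← IsAffineOpen.SpecMap_appLE_fromSpec f hV (hW.basicOpen (g * u)) (hUW.trans e),
        ← Spec.map_comp_assoc]
      rfl
    haveI : Algebra.FinitePresentation R Γ(X, U) := f.finitePresentation_appLE hV (hW.basicOpen _) _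
    haveI : Algebra.FinitePresentation R (Γ(X, U) ⧸ Ideal.span {algebraMap C Γ(X, U) c * v}) :=
      Algebra.FinitePresentation.quotient (Submodule.fg_span (Set.finite_singleton _))
    haveI : Module.Flat R (Γ(X, U) ⧸ Ideal.span {algebraMap C Γ(X, U) c * v}) := by
      rw [hspan]; exact hflatU
    rw [hmor]
    haveI : Flat (Spec.map (CommRingCat.ofHom
        (algebraMap R (Γ(X, U) ⧸ Ideal.span {algebraMap C Γ(X, U) c * v})))) := by
      rw [HasRingHomProperty.Spec_iff (P := @Flat)]
      exact RingHom.flat_algebraMap_iff.mpr inferInstance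
    haveI : LocallyOfFinitePresentation (Spec.map (CommRingCat.ofHom
        (algebraMap R (Γ(X, U) ⧸ Ideal.span {algebraMap C Γ(X, U) c * v})))) := by
      rw [HasRingHomProperty.Spec_iff (P := @LocallyOfFinitePresentation)]
      exact RingHom.finitePresentation_algebraMap.mpr inferInstance
    haveI : IsOpenImmersion hV.fromSpec := hV.isOpenImmersion_fromSpec
    exact ⟨MorphismProperty.comp_mem _ _ _ ‹Flat _› inferInstance,
      MorphismProperty.comp_mem _ _ _ ‹LocallyOfFinitePresentation (Spec.map _)› inferInstance⟩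

end Groth.Agent.S1348
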