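import Groth.Statements.S13483
import Groth.Agent.KInjRes.Orthogonal
import Groth.Agent.ShMod.Grothendieck

set_option autoImplicit false
universe u
open CategoryTheory CategoryTheory.Limits Opposite
attribute [local instance] HasDerivedCategory.standard
open DerComp

namespace Groth.Agent.S13483

/-- On a ringed site (C, O), for a sheaf of ideals I of O of finite type the inclusion of the derived
complete objects D_comp(O, I) into D(O) has a left adjoint (derived completion with respect to I
exists). -/
theorem result {C : Type u} [SmallCategory C] {J : GrothendieckTopology C} (O : Sheaf J CommRingCat.{u}) (I : DerComp.IdealSh O) (hI : I.IsFiniteType) : DerComp.HasDerCompletion O I := by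
  haveI : IsGrothendieckAbelian.{u} (ModSite.Mod O) :=
    Groth.Agent.ShMod.Grothendieck.isGrothendieckAbelian (ModSite.ringSh O)
  refine Groth.Agent.KInjRes.isRightAdjoint_orth_single
    (fun p : Σ U : C, {f : O.obj.obj (op U) // f ∈ I.ideal U} =>
      (ModSite.extZero O p.1).obj (DerComp.awayOver O p.1 p.2.1)) (DerComp.IsDerComp O I) fun Y => ?_
  exact ⟨fun h p n => h p.1 p.2.1 p.2.2 n, fun h U f hf n => h ⟨U, f, hf⟩ n⟩

end Groth.Agent.S13483
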