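import Groth.Statements.S13598
import Groth.Agent.HensPair.Local

set_option autoImplicit false
universe u
open Hensel

namespace Groth.Agent.S13598

/-- For a local ring A, a henselization A ⟶ S of A (S a henselian local ring, the structure map local,
and initial among local homomorphisms from A to henselian local rings) and an ideal I of A inside
the maximal ideal, the quotient S/IS with its induced algebra structure over A/I is a henselization
of A/I. (The local-ring and local-homomorphism instances on the quotients hold automatically; they
are taken as hypotheses only so that the conclusion can be stated.) -/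
theorem result {A S : Type u} [CommRing A] [IsLocalRing A] [CommRing S]
    [IsLocalRing S] [Algebra A S] [IsLocalHom (algebraMap A S)] [Hensel.IsHenselization A S]
    (I : Ideal A) (hI : I ≤ IsLocalRing.maximalIdeal A)
    [IsLocalRing (A ⧸ I)] [IsLocalRing (S ⧸ I.map (algebraMap A S))]
    [IsLocalHom (algebraMap (A ⧸ I) (S ⧸ I.map (algebraMap A S)))] :
    Hensel.IsHenselization (A ⧸ I) (S ⧸ I.map (algebraMap A S)) := by
  have hS := ‹Hensel.IsHenselization A S›.henselian
  let q := Ideal.Quotient.mk (I.map (algebraMap A S))
  have : Algebra.IsIntegral S (S ⧸ I.map (algebraMap A S)) :=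
    ⟨fun x => by obtain ⟨a, rfl⟩ := Ideal.Quotient.mk_surjective x; exact isIntegral_algebraMap⟩
  refine ⟨HensPair.Local.henselianLocalRing ?_, fun T _ _ f hf => ?_⟩
  · have h := HensPair.Basic.henselian_of_isIntegral (I := IsLocalRing.maximalIdeal S)
      (S ⧸ I.map (algebraMap A S))
    have hm : (IsLocalRing.maximalIdeal S).map q = IsLocalRing.maximalIdeal _ :=
      IsLocalRing.map_maximalIdeal_of_surjective q Ideal.Quotient.mk_surjective
    rwa [Ideal.Quotient.algebraMap_eq, hm] at h
  · have : IsLocalHom (f.comp (Ideal.Quotient.mk I)) :=
      haveI := hf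
      haveI : IsLocalHom (Ideal.Quotient.mk I) := Ideal.Quotient.mk_surjective.isLocalHom _
      inferInstance
    obtain ⟨g, hg, hu⟩ := ‹Hensel.IsHenselization A S›.universal T (f.comp (Ideal.Quotient.mk I)) this
    have hgI : ∀ x ∈ I.map (algebraMap A S), g x = 0 := by
      have : I.map (algebraMap A S) ≤ RingHom.ker g := Ideal.map_le_iff_le_comap.mpr fun a ha => by
        show g (algebraMap A S a) = 0
        rw [← RingHom.comp_apply, hg, RingHom.comp_apply, Ideal.Quotient.eq_zero_iff_mem.mpr ha, map_zero]
      exact fun x hx => this hx
    refine ⟨Ideal.Quotient.lift _ g hgI, RingHom.ext fun x => ?_, fun g' hg' => ?_⟩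
    · obtain ⟨a, rfl⟩ := Ideal.Quotient.mk_surjective x
      exact RingHom.congr_fun hg a
    · refine Ideal.Quotient.ringHom_ext ?_
      rw [Ideal.Quotient.lift_comp_mk]
      exact hu _ (RingHom.ext fun a => RingHom.congr_fun hg' (Ideal.Quotient.mk I a))

end Groth.Agent.S13598
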