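import Groth.Statements.S13603
-- import your own Groth.Agent.* helpers here

set_option autoImplicit false
universe u v
open CAlg

namespace Groth.Agent.S13603

/-- Let a group G act on a commutative ring B by ring automorphisms so that every element of B has a
finite orbit, and let S ⊆ B be a multiplicative set of G-fixed elements (so each g ∈ G induces an
endomorphism of the localization S⁻¹B; the hypothesis that g maps S into S is implied by the
previous one and is only carried to name that endomorphism). Then an element of S⁻¹B is fixed by all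
of G if and only if it is a fraction b/s with b fixed by G and s ∈ S: the canonical map S⁻¹(B^G) →
(S⁻¹B)^G is onto. -/
theorem result {B : Type u} [CommRing B]
    {G : Type v} [Group G] [MulSemiringAction G B] (hfin : ∀ b : B, (MulAction.orbit G b).Finite)
    (S : Submonoid B) (hS : ∀ (g : G) (s : B), s ∈ S → g • s = s)
    (hS' : ∀ g : G, S ≤ S.comap (MulSemiringAction.toRingHom G B g)) (x : Localization S) :
    (∀ g : G, IsLocalization.map (Localization S) (MulSemiringAction.toRingHom G B g) (hS' g) x = x) ↔
      ∃ (b : B) (s : S), (∀ g : G, g • b = b) ∧ x = IsLocalization.mk' (Localization S) b s := by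
  classical
  constructor
  · intro hx
    obtain ⟨b, s, rfl⟩ := IsLocalization.exists_mk'_eq S x
    have key : ∀ b' ∈ MulAction.orbit G b, ∃ t : S, (t : B) * b' = t * b := by
      rintro _ ⟨g, rfl⟩
      have h := hx g
      rw [IsLocalization.map_mk'] at h
      have e : (⟨(MulSemiringAction.toRingHom G B g) (s : B), hS' g s.2⟩ : S) = s := Subtype.ext (hS g s s.2)
      rw [e] at h
      obtain ⟨t, ht⟩ := IsLocalization.eq.mp h
      refine ⟨t * s, ?_⟩
      simp only [MulSemiringAction.toRingHom_apply] at ht
      simp only [Submonoid.coe_mul, mul_assoc]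
      exact ht
    choose! t ht using key
    set T := ∏ b' ∈ (hfin b).toFinset, t b' with hT
    have hTb : ∀ b' ∈ MulAction.orbit G b, (T : B) * b' = T * b := by
      intro b' hb'
      obtain ⟨c, hc⟩ : t b' ∣ T := ⟨_, (Finset.mul_prod_erase (hfin b).toFinset t ((hfin b).mem_toFinset.mpr hb')).symm⟩
      rw [hc, Submonoid.coe_mul, mul_comm (t b' : B), mul_assoc, mul_assoc, ht b' hb']
    refine ⟨(T : B) * b, T * s, fun g => ?_, ?_⟩
    · rw [smul_mul', hS g _ T.2]
      exact hTb _ ⟨g, rfl⟩
    · exact IsLocalization.mk'_eq_of_eq (by simp only [Submonoid.coe_mul]; ring)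
  · rintro ⟨b, s, hb, rfl⟩ g
    rw [IsLocalization.map_mk']
    exact IsLocalization.mk'_eq_of_eq (by simp [MulSemiringAction.toRingHom_apply, hb, hS g s s.2, mul_comm])

end Groth.Agent.S13603
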