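import Groth.Statements.S13606
import Groth.Agent.SGA1Q.Affine

set_option autoImplicit false
universe u
open CategoryTheory AlgebraicGeometry
open SGA1

namespace Groth.Agent.S13606

/-- Let a finite group G act on a scheme X and let p : X ⟶ Y be a quotient of X by G (affine,
G-invariant, sections of O_Y over every open = G-invariant sections of O_X over its preimage). Then
for every open U ⊆ Y, U is the quotient of p⁻¹U by G: the restriction p⁻¹U ⟶ U of p is again a
quotient in the same sense, for the action ρU of G on the G-stable open p⁻¹U induced by ρ (pinned by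
compatibility with the inclusion p⁻¹U ⟶ X). -/
theorem result {X Y : Scheme.{u}} {G : Type u} [Group G] [Finite G]
    (ρ : G →* Aut X) (p : X ⟶ Y) (hp : SGA1.IsQuot ρ p) (U : Y.Opens)
    (ρU : G →* Aut (p ⁻¹ᵁ U).toScheme)
    (hρU : ∀ g : G, (ρU g).hom ≫ (p ⁻¹ᵁ U).ι = (p ⁻¹ᵁ U).ι ≫ (ρ g).hom) :
    SGA1.IsQuot ρU (p ∣_ U) := by
  haveI := hp.affine
  haveI := SGA1Q.Restrict.isOpenImmersion_jR (G := G) (p ⁻¹ᵁ U)
  refine SGA1Q.OfPred.isQuot (Coeq6.Transport.restrict (SGA1Q.Restrict.jR (p ⁻¹ᵁ U)) (p ⁻¹ᵁ U).ι U.ι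
    (SGA1Q.Base.isQuot hp) (CategoryTheory.Limits.Sigma.hom_ext _ _ fun g => ?_) (CategoryTheory.Limits.Sigma.hom_ext _ _ fun g => ?_) (morphismRestrict_ι _ _) ?_
    (SGA1Q.Restrict.range_jR ρ (p ⁻¹ᵁ U)))
    (MorphismProperty.of_isPullback (P := @IsAffineHom) (isPullback_morphismRestrict p U).flip hp.affine)
  · simp
  · simp [hρU g]
  · rw [Scheme.Opens.range_ι, Scheme.Opens.range_ι]; rfl

end Groth.Agent.S13606
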