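import Groth.Statements.S13609
import Mathlib.RingTheory.AdicCompletion.Basic

set_option autoImplicit false
universe u v
open CAlg

namespace Groth.Agent.S13609

/-- A direct summand of a module that is complete and separated for the I-adic topology is again
complete and separated: for a commutative ring A, an ideal I and A-modules M₁, M₂, if M₁ × M₂ is
I-adically complete then so is M₁. -/
theorem result (A : Type u) [CommRing A] (I : Ideal A)
    (M₁ M₂ : Type v) [AddCommGroup M₁] [Module A M₁] [AddCommGroup M₂] [Module A M₂]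
    [IsAdicComplete I (M₁ × M₂)] : IsAdicComplete I M₁ := by
  have hmap : ∀ (n : ℕ) (x : M₁ × M₂), x ∈ I ^ n • (⊤ : Submodule A (M₁ × M₂)) →
      x.1 ∈ I ^ n • (⊤ : Submodule A M₁) := fun n x hx => by
    have := Submodule.mem_map_of_mem (f := LinearMap.fst A M₁ M₂) hx
    rwa [Submodule.map_smul'', Submodule.map_top, LinearMap.range_eq_top.mpr Prod.fst_surjective] at this
  have hinl : ∀ (n : ℕ) (x : M₁), x ∈ I ^ n • (⊤ : Submodule A M₁) →
      ((x, 0) : M₁ × M₂) ∈ I ^ n • (⊤ : Submodule A (M₁ × M₂)) := fun n x hx => by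
    have h := Submodule.mem_map_of_mem (f := LinearMap.inl A M₁ M₂) hx
    rw [Submodule.map_smul''] at h
    have hle : I ^ n • Submodule.map (LinearMap.inl A M₁ M₂) ⊤ ≤ I ^ n • (⊤ : Submodule A (M₁ × M₂)) :=
      smul_mono_right _ le_top
    exact hle h
  have : IsHausdorff I M₁ := ⟨fun x hx => congrArg Prod.fst (IsHausdorff.haus (I := I)
    (inferInstance : IsHausdorff I (M₁ × M₂)) (x, 0) fun n => SModEq.zero.mpr (hinl n x (SModEq.zero.mp (hx n))))⟩
  have : IsPrecomplete I M₁ := ⟨fun f hf => by
    obtain ⟨l, hl⟩ := IsPrecomplete.prec (inferInstance : IsPrecomplete I (M₁ × M₂))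
      (f := fun n => (f n, 0)) (fun {a b} hab => SModEq.sub_mem.mpr (by
        have := hinl a _ (SModEq.sub_mem.mp (hf hab))
        simpa using this))
    exact ⟨l.1, fun n => SModEq.sub_mem.mpr (by simpa using hmap n _ (SModEq.sub_mem.mp (hl n)))⟩⟩
  exact ⟨⟩

end Groth.Agent.S13609
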