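import Groth.Statements.S13622
import Groth.Agent.Adic.LimitSystem
import Groth.Agent.Adic.Noetherian
import Mathlib.RingTheory.AdicCompletion.Completeness

set_option autoImplicit false
universe u v
open CAlg Groth.Agent.Adic

namespace Groth.Agent.S13622

/-- Let A be a commutative ring, I a finitely generated ideal and (M_n) an inverse system of finitely
generated A-modules whose transition maps f_n : M_(n+1) → M_n are surjective with kernel I^(n+1)
M_(n+1), and with I^(n+1) M_n = 0 for all n. If L is an inverse limit of the system (projections π_n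
compatible with the f_n, jointly injective, every compatible family lifting to L), endowed with a
module structure over the I-adic completion A^ of A that is compatible with its A-module structure,
then L is finitely generated as an A^-module. No completeness of A is assumed. -/
theorem result
    (A : Type u) [CommRing A] (I : Ideal A) (hI : I.FG)
    (M : ℕ → Type v) [∀ n, AddCommGroup (M n)] [∀ n, Module A (M n)] [∀ n, Module.Finite A (M n)]
    (f : ∀ n, M (n + 1) →ₗ[A] M n) (hf : ∀ n, Function.Surjective (f n))
    (hker : ∀ n, LinearMap.ker (f n) = I ^ (n + 1) • (⊤ : Submodule A (M (n + 1))))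
    (hkill : ∀ n, I ^ (n + 1) • (⊤ : Submodule A (M n)) = ⊥)
    (L : Type v) [AddCommGroup L] [Module A L] (π : ∀ n, L →ₗ[A] M n)
    (hπ : ∀ n, f n ∘ₗ π (n + 1) = π n)
    (hinj : ∀ x : L, (∀ n, π n x = 0) → x = 0)
    (hlift : ∀ y : (∀ n, M n), (∀ n, f n (y (n + 1)) = y n) → ∃ x : L, ∀ n, π n x = y n)
    [Module (AdicCompletion I A) L] [IsScalarTower A (AdicCompletion I A) L] :
    Module.Finite (AdicCompletion I A) L := by
  have hg := LimitSystem.good hπ hkill hinj hlift
  have hs := LimitSystem.surjective hf hlift
  have hd := LimitSystem.dense hπ hs (fun n => (hker n).le)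
  have hL : IsAdicComplete I L := hg.isAdicComplete hI
  have heq : LinearMap.ker (π 0) = I ^ 1 • (⊤ : Submodule A L) := hg.eq_pow_of_dense hI hd 1
  let J := I.map (algebraMap A (AdicCompletion I A))
  have : IsAdicComplete J L := (IsAdicComplete.map_algebraMap_iff ..).mpr hL
  have : IsAdicComplete I (AdicCompletion I A) := AdicCompletion.isAdicComplete hI
  have : IsAdicComplete J (AdicCompletion I A) := (IsAdicComplete.map_algebraMap_iff ..).mpr this
  obtain ⟨r, g, hg0⟩ := Module.Finite.exists_fin (R := A) (M := M 0)
  choose x hx using fun i => hs 0 (g i)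
  obtain ⟨h1, -⟩ := (Noetherian.good_pow (I := J) (L := L)).finite_and_eq_pow (fun n => le_sup_left) x (by
    refine eq_top_iff.mpr fun y _ => ?_
    have : π 0 y ∈ (Submodule.span A (Set.range x)).map (π 0) := by
      rw [Submodule.map_span, ← Set.range_comp, show ⇑(π 0) ∘ x = g from funext hx, hg0]; trivial
    obtain ⟨z, hz, hzy⟩ := this
    refine Submodule.mem_sup.mpr ⟨z, Submodule.span_le_restrictScalars A _ _ hz, y - z, ?_, by abel⟩
    have hk : y - z ∈ I ^ 1 • (⊤ : Submodule A L) := heq ▸ (by simp [hzy])
    change y - z ∈ (J ^ 1 • (⊤ : Submodule (AdicCompletion I A) L)).restrictScalars A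
    rw [← Ideal.map_pow, Submodule.restrictScalars_map_smul_eq, Submodule.restrictScalars_top]
    exact hk)
  exact Module.finite_def.mpr (Submodule.fg_iff_exists_fin_generating_family.mpr ⟨r, x, h1⟩)

end Groth.Agent.S13622
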