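import Groth.Statements.S13663
import Mathlib.RingTheory.GradedAlgebra.Homogeneous.Ideal
import Mathlib.Algebra.BigOperators.Fin
import Mathlib.Algebra.Order.BigOperators.Group.Finset

set_option autoImplicit false
universe u
open GrRing

namespace Groth.Agent.S13663

theorem small (d : ℤ) (hd : 0 < d) {g : ℤ} {e : ℕ} (hg : 0 < g) (hdvd : g ∣ d) (h : (e : ℤ) * g < d) :
    (e : ℤ) * g ≤ d - g := by
  obtain ⟨q, rfl⟩ := hdvd
  have h1 : (e : ℤ) < q := by nlinarith
  nlinarith

theorem prod_mem {R A : Type u} [CommRing R] [CommRing A] [Algebra R A] (𝒜 : ℤ → Submodule R A) [GradedAlgebra 𝒜]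
    {p : ℕ} (f : Fin p → A) (deg : Fin p → ℤ) (hf : ∀ i, f i ∈ 𝒜 (deg i)) (e : Fin p → ℕ) (s : Finset (Fin p)) :
    ∏ i ∈ s, f i ^ e i ∈ 𝒜 (∑ i ∈ s, (e i : ℤ) * deg i) := by
  classical
  induction s using Finset.induction_on with
  | empty => simpa using SetLike.one_mem_graded 𝒜
  | insert a s ha ih =>
    rw [Finset.prod_insert ha, Finset.sum_insert ha]
    refine SetLike.mul_mem_graded ?_ ih
    have := SetLike.pow_mem_graded (A := 𝒜) (e a) (hf a)
    rwa [nsmul_eq_mul] at this

theorem split {R A : Type u} [CommRing R] [CommRing A] [Algebra R A] (𝒜 : ℤ → Submodule R A) [GradedAlgebra 𝒜]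
    {p : ℕ} (f : Fin p → A) (deg : Fin p → ℤ) (hdeg : ∀ i, 0 < deg i) (hf : ∀ i, f i ∈ 𝒜 (deg i))
    (d : ℤ) (hd : 0 < d) (hdvd : ∀ i, deg i ∣ d) (N : ℤ) {n : ℤ} (a : A) (ha : a ∈ 𝒜 n) (e : Fin p → ℕ)
    (he : n + ∑ i, (e i : ℤ) * deg i = N) (i : Fin p) (hi : d ≤ (e i : ℤ) * deg i) :
    a * ∏ i, f i ^ e i ∈ 𝒜 d * 𝒜 (N - d) := by
  classical
  obtain ⟨q, hq⟩ := hdvd i
  have hq0 : 0 ≤ q := by have := hdeg i; nlinarith
  lift q to ℕ using hq0
  have hqe : q ≤ e i := by
    have := hdeg i
    have h1 : (q : ℤ) ≤ e i := by nlinarith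
    exact_mod_cast h1
  let e' : Fin p → ℕ := Function.update e i (e i - q)
  have h1 : a * ∏ j, f j ^ e j = f i ^ q * (a * ∏ j, f j ^ e' j) := by
    rw [← Finset.mul_prod_erase _ _ (Finset.mem_univ i), ← Finset.mul_prod_erase _ (fun j => f j ^ e' j) (Finset.mem_univ i)]
    have : ∏ j ∈ Finset.univ.erase i, f j ^ e' j = ∏ j ∈ Finset.univ.erase i, f j ^ e j :=
      Finset.prod_congr rfl fun j hj => by simp [e', Function.update_of_ne (Finset.ne_of_mem_erase hj)]
    have he' : e' i = e i - q := Function.update_self _ _ _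
    rw [this, he', show f i ^ e i = f i ^ q * f i ^ (e i - q) by rw [← pow_add, Nat.add_sub_cancel' hqe]]
    ring
  rw [h1]
  refine Submodule.mul_mem_mul ?_ ?_
  · have := SetLike.pow_mem_graded (A := 𝒜) q (hf i)
    rwa [nsmul_eq_mul, mul_comm, ← hq] at this
  · have := SetLike.mul_mem_graded ha (prod_mem 𝒜 f deg hf e' Finset.univ)
    have hs : n + ∑ j, (e' j : ℤ) * deg j = N - d := by
      rw [← Finset.add_sum_erase _ _ (Finset.mem_univ i)] at he
      rw [← Finset.add_sum_erase _ (fun j => (e' j : ℤ) * deg j) (Finset.mem_univ i)]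
      have : ∑ j ∈ Finset.univ.erase i, (e' j : ℤ) * deg j = ∑ j ∈ Finset.univ.erase i, (e j : ℤ) * deg j :=
        Finset.sum_congr rfl fun j hj => by simp [e', Function.update_of_ne (Finset.ne_of_mem_erase hj)]
      have he' : e' i = e i - q := Function.update_self _ _ _
      rw [this, he', Nat.cast_sub hqe, sub_mul, mul_comm (q : ℤ) (deg i), ← hq]
      omega
    rwa [hs] at this


/-- Let A be a commutative ring graded by the integers whose ideal generated by the homogeneous elements
of positive degree has homogeneous generators f_1, …, f_p, of positive degrees d_1, …, d_p, and let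
d be a positive integer divisible by each d_i. Then A_N = A_d · A_{N-d} for every integer N > dp -
(d_1 + ⋯ + d_p). -/
theorem result {R A : Type u} [CommRing R] [CommRing A] [Algebra R A]
    (𝒜 : ℤ → Submodule R A) [GradedAlgebra 𝒜]
    {p : ℕ} (f : Fin p → A) (deg : Fin p → ℤ) (hdeg : ∀ i, 0 < deg i) (hf : ∀ i, f i ∈ 𝒜 (deg i))
    (hgen : Ideal.span {a : A | ∃ n : ℤ, 0 < n ∧ a ∈ 𝒜 n} = Ideal.span (Set.range f))
    (d : ℤ) (hd : 0 < d) (hdvd : ∀ i, deg i ∣ d) (N : ℤ) (hN : d * p - ∑ i, deg i < N) :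
    𝒜 N = 𝒜 d * 𝒜 (N - d) := by
  classical
  refine le_antisymm ?_ (Submodule.mul_le.2 fun a ha b hb => ?_)
  · have key : ∀ (k : ℕ) (n : ℤ), n.toNat ≤ k → ∀ a ∈ 𝒜 n, ∀ e : Fin p → ℕ, n + ∑ i, (e i : ℤ) * deg i = N →
        a * ∏ i, f i ^ e i ∈ 𝒜 d * 𝒜 (N - d) := by
      intro k
      induction k with
      | zero =>
        intro n hn a ha e he
        by_cases hex : ∃ i, d ≤ (e i : ℤ) * deg i
        · obtain ⟨i, hi⟩ := hex
          exact split 𝒜 f deg hdeg hf d hd hdvd N a ha e he i hi
        · push Not at hex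
          have : ∑ i, (e i : ℤ) * deg i ≤ ∑ i, (d - deg i) := Finset.sum_le_sum fun i _ => small d hd (hdeg i) (hdvd i) (hex i)
          rw [Finset.sum_sub_distrib, Finset.sum_const, Finset.card_univ, Fintype.card_fin, nsmul_eq_mul, mul_comm] at this
          omega
      | succ k ih =>
        intro n hn a ha e he
        by_cases hex : ∃ i, d ≤ (e i : ℤ) * deg i
        · obtain ⟨i, hi⟩ := hex
          exact split 𝒜 f deg hdeg hf d hd hdvd N a ha e he i hi
        · push Not at hex
          have : ∑ i, (e i : ℤ) * deg i ≤ ∑ i, (d - deg i) := Finset.sum_le_sum fun i _ => small d hd (hdeg i) (hdvd i) (hex i)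
          rw [Finset.sum_sub_distrib, Finset.sum_const, Finset.card_univ, Fintype.card_fin, nsmul_eq_mul, mul_comm] at this
          have hn0 : 0 < n := by omega
          have hmem : a ∈ Ideal.span (Set.range f) := hgen ▸ Ideal.subset_span ⟨n, hn0, ha⟩
          obtain ⟨c, hc⟩ := Ideal.mem_span_range_iff_exists_fun.1 hmem
          rw [← DirectSum.decompose_of_mem_same 𝒜 ha, ← hc, DirectSum.decompose_sum, DFinsupp.finset_sum_apply,
            AddSubmonoidClass.coe_finset_sum, Finset.sum_mul]
          refine Submodule.sum_mem _ fun j _ => ?_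
          have hcj : (DirectSum.decompose 𝒜 (c j * f j) n : A) = (DirectSum.decompose 𝒜 (c j) (n - deg j) : A) * f j := by
            rw [← DirectSum.coe_decompose_mul_add_of_right_mem 𝒜 (hf j), sub_add_cancel]
          have hprod : ∏ i, f i ^ (e i + if i = j then 1 else 0) = f j * ∏ i, f i ^ e i := by
            simp_rw [pow_add, Finset.prod_mul_distrib, pow_ite, pow_one, pow_zero, Finset.prod_ite_eq', Finset.mem_univ, if_true]
            exact mul_comm _ _
          rw [hcj, mul_assoc, ← hprod]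
          refine ih (n - deg j) ?_ _ (SetLike.coe_mem _) _ ?_
          · have := hdeg j; omega
          · push_cast
            simp only [add_mul, Finset.sum_add_distrib, ite_mul, one_mul, zero_mul, Finset.sum_ite_eq', Finset.mem_univ, if_true]
            omega
    intro a ha
    have := key N.toNat N le_rfl a ha 0 (by simp)
    simpa using this
  · have := SetLike.mul_mem_graded (A := 𝒜) ha hb
    rwa [add_sub_cancel] at this

end Groth.Agent.S13663
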