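import Groth.Statements.S13665
import Mathlib.RingTheory.GradedAlgebra.Homogeneous.Ideal
import Mathlib.RingTheory.FiniteType
import Mathlib.RingTheory.Adjoin.FG
import Mathlib.Data.Finset.Interval
import Mathlib.Data.Int.Interval

set_option autoImplicit false
universe u
open GrRing

namespace Groth.Agent.S13665

variable {R A : Type u} [CommRing R] [CommRing A] [Algebra R A] (𝒜 : ℤ → Submodule R A) [GradedAlgebra 𝒜]

theorem comp_span {s : Finset A} (deg : A → ℤ) (hs : ∀ a ∈ s, a ∈ 𝒜 (deg a)) {x : A} {n : ℤ}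
    (hx : x ∈ Ideal.span (s : Set A)) (hxn : x ∈ 𝒜 n) :
    ∃ c : s → A, (∀ i, c i ∈ 𝒜 (n - deg i.1)) ∧ ∑ i, c i * i.1 = x := by
  classical
  obtain ⟨c, hc⟩ := Submodule.mem_span_finset'.1 hx
  refine ⟨fun i => (DirectSum.decompose 𝒜 (c i) (n - deg i.1) : A), fun i => SetLike.coe_mem _, ?_⟩
  conv_rhs => rw [← DirectSum.decompose_of_mem_same 𝒜 hxn, ← hc, DirectSum.decompose_sum, DFinsupp.finset_sum_apply,
    AddSubmonoidClass.coe_finset_sum]
  refine Finset.sum_congr rfl fun i _ => ?_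
  rw [smul_eq_mul, ← DirectSum.coe_decompose_mul_add_of_right_mem 𝒜 (hs i.1 i.2), sub_add_cancel]

theorem exists_gens (h : ∀ I : Ideal A, I.IsHomogeneous 𝒜 → I.FG) (P : ℤ → Prop) :
    ∃ (s : Finset A) (deg : A → ℤ), (∀ a ∈ s, a ∈ 𝒜 (deg a) ∧ P (deg a)) ∧
      ∀ n, P n → ∀ a ∈ 𝒜 n, a ∈ Ideal.span (s : Set A) := by
  classical
  let W : Set A := {a | ∃ n, P n ∧ a ∈ 𝒜 n}
  have hfg : (Ideal.span W).FG := h _ (Ideal.homogeneous_span 𝒜 W fun a ⟨n, _, ha⟩ => ⟨n, ha⟩)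
  obtain ⟨s, hsW, hs⟩ := Submodule.fg_span_iff_fg_span_finset_subset W |>.1 hfg
  refine ⟨s, fun a => if ha : a ∈ W then ha.choose else 0, fun a ha => ?_, fun n hn a ha => ?_⟩
  · simp only [dif_pos (hsW ha)]
    exact ⟨(hsW ha).choose_spec.2, (hsW ha).choose_spec.1⟩
  · have : a ∈ Ideal.span W := Ideal.subset_span ⟨n, hn, ha⟩
    change a ∈ Submodule.span A (s : Set A)
    rw [← hs]
    exact this

theorem deg_zero (h : ∀ I : Ideal A, I.IsHomogeneous 𝒜 → I.FG) : IsNoetherianRing (𝒜 0) := by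
  classical
  refine (isNoetherianRing_iff_ideal_fg _).2 fun J => ?_
  have hhom : (Ideal.span (Subtype.val '' (J : Set (𝒜 0)))).IsHomogeneous 𝒜 :=
    Ideal.homogeneous_span 𝒜 _ fun a ⟨b, _, hb⟩ => ⟨0, hb ▸ b.2⟩
  obtain ⟨s, hsJ, hs⟩ := Submodule.fg_span_iff_fg_span_finset_subset _ |>.1 (h _ hhom)
  have hsub : ∀ a ∈ s, ∃ ha : a ∈ 𝒜 0, (⟨a, ha⟩ : 𝒜 0) ∈ J := fun a ha => by
    obtain ⟨b, hb, rfl⟩ := hsJ ha
    exact ⟨b.2, hb⟩
  choose hmem hJ using hsub
  refine ⟨s.attach.image fun a => (⟨a.1, hmem a.1 a.2⟩ : 𝒜 0), le_antisymm (Submodule.span_le.2 ?_) fun x hx => ?_⟩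
  · intro y hy
    simp only [Finset.coe_image, Set.mem_image] at hy
    obtain ⟨a, -, rfl⟩ := hy
    exact hJ a.1 a.2
  have hx' : (x : A) ∈ Ideal.span (s : Set A) := by
    change (x : A) ∈ Submodule.span A (s : Set A)
    rw [← hs]
    exact Ideal.subset_span ⟨x, hx, rfl⟩
  obtain ⟨c, hc, hsum⟩ := comp_span 𝒜 (fun _ => 0) hmem hx' x.2
  have he : x = ∑ i : s, (⟨c i, by simpa using hc i⟩ : 𝒜 0) * ⟨i.1, hmem i.1 i.2⟩ :=
    Subtype.ext (by rw [AddSubmonoidClass.coe_finset_sum]; exact hsum.symm)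
  rw [he]
  refine Submodule.sum_mem _ fun i _ => Ideal.mul_mem_left _ _ (Ideal.subset_span ?_)
  simp only [Finset.coe_image, Set.mem_image]
  exact ⟨i, Finset.mem_coe.2 (Finset.mem_attach _ _), rfl⟩

theorem sign_fg (h : ∀ I : Ideal A, I.IsHomogeneous 𝒜 → I.FG) (ε : ℤ) (hε : ε = 1 ∨ ε = -1) :
    (Algebra.adjoin (𝒜 0) {a : A | ∃ n : ℤ, 0 ≤ ε * n ∧ a ∈ 𝒜 n}).FG := by
  classical
  obtain ⟨s, deg, hs, hspan⟩ := exists_gens 𝒜 h fun n => 0 < ε * n
  choose t degt ht htspan using fun m : ℤ => exists_gens 𝒜 h fun n => n = m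
  let D : ℕ := s.sup fun a => (deg a).natAbs
  let G : Finset A := s ∪ (Finset.Icc (-(D : ℤ)) D).biUnion fun m => if 0 ≤ ε * m then t m else ∅
  have hG : (G : Set A) ⊆ {a : A | ∃ n : ℤ, 0 ≤ ε * n ∧ a ∈ 𝒜 n} := by
    intro a ha
    simp only [G, Finset.coe_union, Set.mem_union, Finset.mem_coe, Finset.mem_biUnion] at ha
    rcases ha with ha | ⟨m, _, ha⟩
    · exact ⟨deg a, (hs a ha).2.le, (hs a ha).1⟩
    · split_ifs at ha with hm
      · obtain ⟨h1, h2⟩ := ht m a ha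
        exact ⟨m, hm, h2 ▸ h1⟩
      · simp at ha
  refine ⟨G, le_antisymm (Algebra.adjoin_mono hG) (Algebra.adjoin_le ?_)⟩
  suffices hkey : ∀ N : ℕ, ∀ a ∈ 𝒜 (ε * N), a ∈ Algebra.adjoin (𝒜 0) (G : Set A) by
    rintro a ⟨n, hn, ha⟩
    refine hkey n.natAbs a ?_
    have : ε * (n.natAbs : ℤ) = n := by rcases hε with rfl | rfl <;> omega
    rwa [this]
  intro N
  induction N using Nat.strong_induction_on with
  | _ N ih =>
    intro a ha
    rcases Nat.lt_or_ge D N with hN | hN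
    · have hmem : a ∈ Ideal.span (s : Set A) := hspan _ (by rcases hε with rfl | rfl <;> omega) a ha
      obtain ⟨c, hc, hsum⟩ := comp_span 𝒜 deg (fun a ha => (hs a ha).1) hmem ha
      rw [← hsum]
      refine Subalgebra.sum_mem _ fun i _ => Subalgebra.mul_mem _ ?_
        (Algebra.subset_adjoin (Finset.mem_coe.2 (Finset.mem_union_left _ i.2)))
      have hd : 0 < ε * deg i.1 := (hs i.1 i.2).2
      have hD : (deg i.1).natAbs ≤ D := Finset.le_sup (f := fun a => (deg a).natAbs) i.2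
      refine ih (N - (deg i.1).natAbs) ?_ _ ?_
      · rcases hε with rfl | rfl <;> omega
      · have : ε * ((N - (deg i.1).natAbs : ℕ) : ℤ) = ε * N - deg i.1 := by
          rcases hε with rfl | rfl <;> omega
        rw [this]
        exact hc i
    · have hm : 0 ≤ ε * (ε * N) := by rcases hε with rfl | rfl <;> omega
      have hI : ε * (N : ℤ) ∈ Finset.Icc (-(D : ℤ)) D := by
        rw [Finset.mem_Icc]; rcases hε with rfl | rfl <;> omega
      obtain ⟨c, hc, hsum⟩ := comp_span 𝒜 (s := t (ε * N)) (fun _ => ε * N)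
        (fun b hb => by obtain ⟨h1, h2⟩ := ht (ε * N) b hb; rwa [h2] at h1) (htspan (ε * N) _ rfl a ha) ha
      rw [← hsum]
      refine Subalgebra.sum_mem _ fun i _ => Subalgebra.mul_mem _ ?_ (Algebra.subset_adjoin (Finset.mem_coe.2
        (Finset.mem_union_right _ (Finset.mem_biUnion.2 ⟨_, hI, by rw [if_pos hm]; exact i.2⟩))))
      exact Subalgebra.algebraMap_mem (Algebra.adjoin (𝒜 0) (G : Set A)) (⟨c i, by simpa using hc i⟩ : 𝒜 0)


/-- For a commutative ring A graded by the integers, with degree-zero subring A_0, the following are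
equivalent: A is Noetherian; each homogeneous ideal of A has a finite generating set; A_0 is
Noetherian and the subalgebras A_{≥0}, A_{≤0} are each of finite type over A_0; A_0 is Noetherian
and A is an A_0-algebra of finite type. -/
theorem result {R A : Type u} [CommRing R] [CommRing A] [Algebra R A]
    (𝒜 : ℤ → Submodule R A) [GradedAlgebra 𝒜] :
    [IsNoetherianRing A,
     ∀ I : Ideal A, I.IsHomogeneous 𝒜 → I.FG,
     IsNoetherianRing (𝒜 0) ∧ (Algebra.adjoin (𝒜 0) {a : A | ∃ n : ℤ, 0 ≤ n ∧ a ∈ 𝒜 n}).FG ∧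
       (Algebra.adjoin (𝒜 0) {a : A | ∃ n : ℤ, n ≤ 0 ∧ a ∈ 𝒜 n}).FG,
     IsNoetherianRing (𝒜 0) ∧ Algebra.FiniteType (𝒜 0) A].TFAE := by
  classical
  tfae_have 1 → 2 := fun h I _ => IsNoetherian.noetherian I
  tfae_have 2 → 3 := fun h => by
    refine ⟨deg_zero 𝒜 h, ?_, ?_⟩
    · have := sign_fg 𝒜 h 1 (Or.inl rfl)
      simpa only [one_mul] using this
    · have := sign_fg 𝒜 h (-1) (Or.inr rfl)
      simpa only [neg_one_mul, neg_nonneg] using this
  tfae_have 3 → 4 := by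
    rintro ⟨h0, ⟨s, hs⟩, ⟨t, ht⟩⟩
    refine ⟨h0, ⟨⟨s ∪ t, ?_⟩⟩⟩
    rw [eq_top_iff, Finset.coe_union, Algebra.adjoin_union, hs, ht]
    intro a _
    rw [← DirectSum.sum_support_decompose 𝒜 a]
    refine Subalgebra.sum_mem _ fun n _ => ?_
    rcases le_total 0 n with hn | hn
    · exact SetLike.le_def.1 le_sup_left (Algebra.subset_adjoin ⟨n, hn, SetLike.coe_mem _⟩)
    · exact SetLike.le_def.1 le_sup_right (Algebra.subset_adjoin ⟨n, hn, SetLike.coe_mem _⟩)
  tfae_have 4 → 1 := by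
    rintro ⟨h0, hft⟩
    exact @Algebra.FiniteType.isNoetherianRing (𝒜 0) A _ _ _ hft h0
  tfae_finish

end Groth.Agent.S13665
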