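import Groth.Statements.S13685
import Mathlib.LinearAlgebra.ExteriorPower.Basic

set_option autoImplicit false
universe u v w
open Disp

namespace Groth.Agent.S13685

/-- Let p be a prime, R a commutative ring, W its ring of p-typical Witt vectors, D = (P, Q, F, V⁻¹) a
3n-display over R with a normal decomposition P = L ⊕ T, Q = L + I_R T in which T is free of rank
one over W, and E the 3n-display structure on ⋀^r P whose distinguished submodule is spanned by the
wedges of elements of Q and whose V⁻¹ sends q_1 ∧ ⋯ ∧ q_r to V⁻¹q_1 ∧ ⋯ ∧ V⁻¹q_r. Then the wedge map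
λ : P^r → ⋀^r P is an alternating multilinear morphism of 3n-displays from D to E, and for every
3n-display D' = (P', Q', F', V'⁻¹) and every alternating multilinear morphism of 3n-displays φ : P^r
→ P' (W-multilinear alternating, φ(Q^r) ⊆ Q', V'⁻¹(φ(q)) = φ(V⁻¹q_1, …, V⁻¹q_r), F'(φ(q_1, …, x_i,
…, q_r)) = φ(V⁻¹q_1, …, F x_i, …, V⁻¹q_r)) there is a unique W-linear ψ : ⋀^r P → P' that is a
morphism of 3n-displays from E to D' (ψ maps E's submodule into Q' and commutes with F and V⁻¹) with
ψ ∘ λ = φ. (The published statement has T projective of rank one; this row takes T free of rank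
one.) -/
theorem result (p : ℕ) [Fact p.Prime] (R : Type u) [CommRing R]
    (P : Type v) [AddCommGroup P] [Module (WittVector p R) P] (D : W4c1extbt610.Display3n p R P)
    (hT : ∃ L T : Submodule (WittVector p R) P, IsCompl L T ∧ D.Q = L ⊔ W4c1extbt610.IV p R • T ∧
      Nonempty (T ≃ₗ[WittVector p R] WittVector p R))
    (r : ℕ) (E : W4c1extbt610.Display3n p R (⋀[WittVector p R]^r P)) (hE : W4c1extbt610.IsExtPow D r E) :
    W4c1extbt610.IsAltMult D E (exteriorPower.ιMulti (WittVector p R) r) ∧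
      ∀ (P' : Type w) [AddCommGroup P'] [Module (WittVector p R) P'] (D' : W4c1extbt610.Display3n p R P')
        (φ : P [⋀^Fin r]→ₗ[WittVector p R] P'), W4c1extbt610.IsAltMult D D' φ →
        ∃! ψ : ⋀[WittVector p R]^r P →ₗ[WittVector p R] P',
          W4c1extbt610.IsHom E D' ψ ∧ ψ.compAlternatingMap (exteriorPower.ιMulti (WittVector p R) r) = φ := by
  obtain ⟨hQ, hV⟩ := hE
  have hwQ : ∀ q : Fin r → D.Q, exteriorPower.ιMulti (WittVector p R) r (fun i => (q i : P)) ∈ E.Q :=
    fun q => hQ ▸ Submodule.subset_span ⟨q, rfl⟩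
  have hF : ∀ z, E.F z = E.Vinv ⟨WittVector.verschiebung 1 • z,
      E.IV_smul_le (Submodule.smul_mem_smul (W4c1extbt610.verschiebung_mem_IV p R 1) Submodule.mem_top)⟩ :=
    fun z => ((E.Vinv_verschiebung_smul 1 z).trans (one_smul _ _)).symm
  refine ⟨⟨hwQ, fun q => hV q _, fun i x q => ?_⟩, fun P' _ _ D' φ hφ => ?_⟩
  · let q' : Fin r → D.Q := Function.update q i ⟨WittVector.verschiebung 1 • x,
      D.IV_smul_le (Submodule.smul_mem_smul (W4c1extbt610.verschiebung_mem_IV p R 1) Submodule.mem_top)⟩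
    have h1 : (fun j => (q' j : P)) = Function.update (fun j => (q j : P)) i (WittVector.verschiebung 1 • x) :=
      funext fun j => Function.apply_update (fun _ (z : D.Q) => (z : P)) q i _ j
    have h2 : (fun j => D.Vinv (q' j)) = Function.update (fun j => D.Vinv (q j)) i (D.F x) := by
      funext j
      simp only [q', Function.apply_update (fun _ => D.Vinv), D.Vinv_verschiebung_smul, one_smul]
    rw [hF, ← h2, ← hV q' (hwQ q')]
    congr 1
    apply Subtype.ext
    simp only [h1, AlternatingMap.map_update_smul]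
  let ψ := exteriorPower.alternatingMapLinearEquiv φ
  have hψ : ∀ v, ψ (exteriorPower.ιMulti (WittVector p R) r v) = φ v :=
    fun v => exteriorPower.alternatingMapLinearEquiv_apply_ιMulti φ v
  have hmaps : ∀ z, z ∈ E.Q → ψ z ∈ D'.Q := by
    intro z hz
    rw [hQ] at hz
    refine (Submodule.span_le (p := D'.Q.comap ψ)).2 ?_ hz
    rintro - ⟨q, rfl⟩
    show ψ _ ∈ D'.Q
    rw [hψ]
    exact hφ.mapsTo q
  have hVinv : ∀ z : E.Q, ψ (E.Vinv z) = D'.Vinv ⟨ψ z, hmaps z z.2⟩ := by
    let A := ψ.comp E.Vinv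
    let B := D'.Vinv.comp (ψ.restrict hmaps)
    suffices hs : ∀ z (hz : z ∈ Submodule.span (WittVector p R)
        (Set.range fun q : Fin r → D.Q => exteriorPower.ιMulti (WittVector p R) r (fun i => (q i : P)))),
        A ⟨z, hQ.symm ▸ hz⟩ = B ⟨z, hQ.symm ▸ hz⟩ from fun z => hs z.1 (hQ ▸ z.2)
    intro z hz
    induction hz using Submodule.span_induction with
    | zero => exact (map_zero A).trans (map_zero B).symm
    | add a b ha hb ea eb =>
      exact ((map_add A ⟨a, hQ.symm ▸ ha⟩ ⟨b, hQ.symm ▸ hb⟩).trans (congrArg₂ (· + ·) ea eb)).trans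
        (map_add B ⟨a, hQ.symm ▸ ha⟩ ⟨b, hQ.symm ▸ hb⟩).symm
    | smul c a ha ea =>
      exact ((LinearMap.map_smulₛₗ A c ⟨a, hQ.symm ▸ ha⟩).trans (congrArg (_ • ·) ea)).trans
        (LinearMap.map_smulₛₗ B c ⟨a, hQ.symm ▸ ha⟩).symm
    | mem z hz =>
      obtain ⟨q, rfl⟩ := hz
      refine (((congrArg ψ (hV q (hwQ q))).trans (hψ _)).trans (hφ.vCond q).symm).trans ?_
      exact congrArg D'.Vinv (Subtype.ext (hψ _).symm)
  refine ⟨ψ, ⟨⟨hmaps, fun z => ?_, hVinv⟩, AlternatingMap.ext hψ⟩, fun χ hχ => ?_⟩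
  · rw [hF, hVinv]
    refine Eq.trans ?_ ((D'.Vinv_verschiebung_smul 1 (ψ z)).trans (one_smul _ _))
    congr 1
    exact Subtype.ext (map_smul ψ _ z)
  · exact exteriorPower.linearMap_ext (hχ.2.trans (AlternatingMap.ext hψ).symm)

end Groth.Agent.S13685
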