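import Groth.Statements.S13695
import Groth.Agent.ZeroCycLib.CH
import Mathlib.RingTheory.IntegralClosure.IsIntegralClosure.Basic

set_option autoImplicit false
universe u
open scoped TensorProduct
open ZeroCyc

namespace Groth.Agent.S13695
open Groth.Agent.ZeroCycLib PolLaw


/-- For a commutative ring A, a commutative A-algebra B and a multiplicative polynomial law F : B → A
homogeneous of degree d, the quotient of B by the kernel of F (the largest ideal I of B such that F
factors through B/I) is integral over A. Geometrically: the image of a family of zero-cycles of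
degree d on Spec B parametrised by Spec A is integral over Spec A. -/
theorem result {A : Type u} [CommRing A] {B : Type u} [CommRing B] [Algebra A B]
    {d : ℕ} (F : PolLaw.MulLaw A B A d) :
    Algebra.IsIntegral A (PolLaw.image F.law) := by
  refine ⟨fun y => ?_⟩
  obtain ⟨b, rfl⟩ := Ideal.Quotient.mk_surjective y
  refine ⟨(-1 : A) ^ d • chi F b, ?_, ?_⟩
  · refine Polynomial.monic_of_natDegree_le_of_coeff_eq_one d
      ((Polynomial.natDegree_smul_le _ _).trans (natDegree_chi F b)) ?_
    rw [Polynomial.coeff_smul, coeff_chi_top, smul_eq_mul, ← mul_pow]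
    simp
  · rw [← Polynomial.aeval_def, map_smul]
    have h : Polynomial.aeval (Ideal.Quotient.mk (PolLaw.ker F.law) b) (chi F b) = 0 := by
      rw [← Ideal.Quotient.mkₐ_eq_mk A, Polynomial.aeval_algHom_apply, Ideal.Quotient.mkₐ_eq_mk]
      exact Ideal.Quotient.eq_zero_iff_mem.2 (aeval_chi F b)
    rw [h, smul_zero]

end Groth.Agent.S13695
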