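import Groth.Statements.S13696
import Groth.Agent.ZeroCycLib.CH

set_option autoImplicit false
universe u
open scoped TensorProduct
open ZeroCyc

namespace Groth.Agent.S13696
open Groth.Agent.ZeroCycLib PolLaw


/-- Let F : B → A be a multiplicative polynomial law homogeneous of degree d, where B is a commutative
algebra over the commutative ring A. For b ∈ B the characteristic polynomial of b with respect to F
is χ_b = F_{A[X]}(1 ⊗ b − X ⊗ 1) ∈ A[X] ⊗_A A = A[X], and the Cayley–Hamilton ideal of F is the
ideal of B generated by the elements χ_b(b), b ∈ B. Then the Cayley–Hamilton ideal is contained in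
the kernel of F, and the kernel of F is contained in the radical of the Cayley–Hamilton ideal. -/
theorem result {A : Type u} [CommRing A] {B : Type u} [CommRing B] [Algebra A B]
    {d : ℕ} (F : PolLaw.MulLaw A B A d) (χ : B → Polynomial A)
    (hχ : ∀ b : B, χ b = TensorProduct.rid A (Polynomial A)
      (F.law.toFun' (Polynomial A) ((1 : Polynomial A) ⊗ₜ[A] b - Polynomial.X ⊗ₜ[A] (1 : B)))) :
    Ideal.span (Set.range fun b : B => Polynomial.aeval b (χ b)) ≤ PolLaw.ker F.law ∧
      PolLaw.ker F.law ≤ (Ideal.span (Set.range fun b : B => Polynomial.aeval b (χ b))).radical := by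
  have e : ∀ b, χ b = chi F b := hχ
  refine ⟨Ideal.span_le.2 ?_, fun b hb => ?_⟩
  · rintro _ ⟨b, rfl⟩
    dsimp only
    rw [e]
    exact aeval_chi F b
  · refine ⟨d, ?_⟩
    have h : chi F b = (-Polynomial.X) ^ d := by
      have h1 := hb (Polynomial A) ((-Polynomial.X : Polynomial A) • (1 : Polynomial A ⊗[A] B)) 1
      rw [F.homog, (F.mult _).1, one_mul] at h1
      rw [chi, show (1 : Polynomial A) ⊗ₜ[A] b - Polynomial.X ⊗ₜ[A] (1 : B) =
        (-Polynomial.X : Polynomial A) • (1 : Polynomial A ⊗[A] B) + 1 ⊗ₜ[A] b by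
        rw [Algebra.TensorProduct.one_def, TensorProduct.smul_tmul', smul_eq_mul, mul_one, TensorProduct.neg_tmul]
        abel, h1]
      rw [Algebra.TensorProduct.one_def, TensorProduct.smul_tmul', TensorProduct.rid_tmul, one_smul, smul_eq_mul, mul_one]
    have h2 : Polynomial.aeval b (χ b) ∈ Ideal.span (Set.range fun b : B => Polynomial.aeval b (χ b)) :=
      Ideal.subset_span ⟨b, rfl⟩
    rw [e b, h, map_pow, map_neg, Polynomial.aeval_X, neg_pow] at h2
    exact (Ideal.unit_mul_mem_iff_mem _ ((isUnit_one.neg).pow d)).1 h2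

end Groth.Agent.S13696
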