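import Groth.Statements.S13707
import Groth.Agent.ZeroCycLib.KerApps

set_option autoImplicit false
universe u
open scoped TensorProduct
open ZeroCyc

namespace Groth.Agent.S13707

/-- Let k be a field, B a commutative k-algebra and F : B → k a multiplicative polynomial law
homogeneous of degree d. Then the spectrum of B/ker F (the image of the family of zero-cycles of
degree d on Spec B defined by F) is a finite set of at most d closed points, and the residue field
at each of them has finite separable degree over k. -/
theorem result {k : Type u} [Field k] {B : Type u} [CommRing B] [Algebra k B]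
    {d : ℕ} (F : PolLaw.MulLaw k B k d) :
    Finite (PrimeSpectrum (PolLaw.image F.law)) ∧ Nat.card (PrimeSpectrum (PolLaw.image F.law)) ≤ d ∧
      ∀ P : PrimeSpectrum (PolLaw.image F.law), P.asIdeal.IsMaximal ∧
        Finite (Field.Emb k P.asIdeal.ResidueField) := by
  obtain ⟨hfin, hcard⟩ := ZeroCycLib.finite_primes F k
  let e := PrimeSpectrum.comapEquiv (Algebra.TensorProduct.lid k (PolLaw.image F.law)).toRingEquiv
  refine ⟨e.toEquiv.finite_iff.1 hfin, (Nat.card_congr e.toEquiv).symm.trans_le hcard, fun P => ?_⟩
  have := ZeroCycLib.isIntegral_image F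
  have hmax : P.asIdeal.IsMaximal := Ideal.isMaximal_of_isIntegral_of_isMaximal_comap P.asIdeal
    (by rw [Ideal.eq_bot_of_prime (P.asIdeal.comap (algebraMap k _))]; exact Ideal.bot_isMaximal)
  refine ⟨hmax, ?_⟩
  have := (ZeroCycLib.finite_points F (AlgebraicClosure P.asIdeal.ResidueField)).1
  refine Finite.of_injective (β := PolLaw.image F.law →ₐ[k] AlgebraicClosure P.asIdeal.ResidueField)
    (fun σ => AlgHom.comp σ (IsScalarTower.toAlgHom k (PolLaw.image F.law) P.asIdeal.ResidueField)) ?_
  intro σ σ' h
  apply AlgHom.ext
  intro x
  obtain ⟨y, rfl⟩ := Ideal.algebraMap_residueField_surjective P.asIdeal x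
  exact DFunLike.congr_fun h y

end Groth.Agent.S13707
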