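import Groth.Statements.S13708
import Mathlib
-- import your own Groth.Agent.* helpers here

set_option autoImplicit false
universe u
open CategoryTheory CategoryTheory.Limits AlgebraicGeometry
open ZeroCyc

namespace Groth.Agent.S13708

/-- Let X be a scheme over S such that every finite set of points of X over a common point of S lies in
some affine open subscheme of X (the condition (AF)). Then X is separated over S. (The published
condition (AF) asks for an open U with U → S quasi-affine rather than U affine; with U affine, as
here, the same argument applies verbatim, and the two conditions agree over a quasi-separated base.) -/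
theorem result {X S : Scheme.{u}} (f : X ⟶ S) (hX : SymProd.IsAF f) :
    IsSeparated f := by
  refine ⟨IsClosedImmersion.of_isPreimmersion _ ?_⟩
  rw [← closure_subset_iff_isClosed]
  intro z hz
  classical
  have heq : f (Limits.pullback.fst f f z) = f (Limits.pullback.snd f f z) := by
    rw [← Scheme.Hom.comp_apply, Limits.pullback.condition, Scheme.Hom.comp_apply]
  obtain ⟨U, hU, hUm⟩ := hX (f (Limits.pullback.fst f f z)) {Limits.pullback.fst f f z, Limits.pullback.snd f f z} (by
    intro x hx
    rcases Finset.mem_insert.mp hx with rfl | hx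
    · rfl
    · rw [Finset.mem_singleton.mp hx]; exact heq.symm)
  haveI : IsAffine U.toScheme := hU
  let m := Limits.pullback.map (U.ι ≫ f) (U.ι ≫ f) f f U.ι U.ι (𝟙 S) (Category.comp_id _) (Category.comp_id _)
  haveI : IsOpenImmersion m := MorphismProperty.pullbackMap (P := @IsOpenImmersion) (inferInstance : IsOpenImmersion U.ι) (inferInstance : IsOpenImmersion U.ι) rfl rfl
  have hzm : z ∈ Set.range m := by
    simp only [m]
    rw [Scheme.Pullback.range_map]
    simp [Scheme.Opens.range_ι, hUm]
  obtain ⟨w, rfl⟩ := hzm
  have hcl : IsClosed (Set.range (Limits.pullback.diagonal (U.ι ≫ f))) :=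
    (Scheme.Hom.isClosedEmbedding _).isClosed_range
  have hd : Limits.pullback.diagonal (U.ι ≫ f) ≫ m = U.ι ≫ Limits.pullback.diagonal f := by
    apply Limits.pullback.hom_ext
    · simp only [m, Limits.pullback.map, Category.assoc, Limits.pullback.lift_fst, Limits.pullback.diagonal_fst, Category.comp_id]
      rw [← Category.assoc, Limits.pullback.diagonal_fst, Category.id_comp]
    · simp only [m, Limits.pullback.map, Category.assoc, Limits.pullback.lift_snd, Limits.pullback.diagonal_snd, Category.comp_id]
      rw [← Category.assoc, Limits.pullback.diagonal_snd, Category.id_comp]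
  have hpre : m ⁻¹' Set.range (Limits.pullback.diagonal f) ⊆ Set.range (Limits.pullback.diagonal (U.ι ≫ f)) := by
    rintro v ⟨x, hx⟩
    have hxU : x ∈ U := by
      have h1 : Limits.pullback.fst f f (m v) = x := by
        rw [← hx, ← Scheme.Hom.comp_apply, Limits.pullback.diagonal_fst]; rfl
      rw [← h1, ← Scheme.Hom.comp_apply, Limits.pullback.lift_fst, Scheme.Hom.comp_apply]
      exact (Limits.pullback.fst (U.ι ≫ f) (U.ι ≫ f) v).2
    refine ⟨⟨x, hxU⟩, m.isOpenEmbedding.injective ?_⟩
    rw [← Scheme.Hom.comp_apply, hd, Scheme.Hom.comp_apply]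
    exact hx
  have hw : w ∈ closure (m ⁻¹' Set.range (Limits.pullback.diagonal f)) := by
    rw [← m.isOpenEmbedding.isOpenMap.preimage_closure_eq_closure_preimage m.continuous]
    exact hz
  obtain ⟨u, hu⟩ := hcl.closure_subset_iff.mpr hpre hw
  exact ⟨U.ι u, by rw [← hu, ← Scheme.Hom.comp_apply, ← Scheme.Hom.comp_apply, hd]⟩

end Groth.Agent.S13708
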