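import Groth.Statements.S13709
import Mathlib.AlgebraicGeometry.Morphisms.Flat
import Mathlib.AlgebraicGeometry.Morphisms.UniversallyOpen
import Mathlib.AlgebraicGeometry.PullbackCarrier

set_option autoImplicit false
universe u
open CategoryTheory CategoryTheory.Limits AlgebraicGeometry
open ZeroCyc

namespace Groth.Agent.S13709

/-- Let f : X → Y be a quasi-compact morphism of schemes and g : Y' → Y a faithfully flat morphism, i.e.
flat and surjective, with no quasi-compactness assumption on g. If the base change X ×_Y Y' → Y' of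
f along g is a homeomorphism on underlying spaces, then so is f. -/
theorem result {X Y Y' : Scheme.{u}} (f : X ⟶ Y) (g : Y' ⟶ Y)
    [Flat g] [Surjective g] [QuasiCompact f] (h : IsHomeomorph (pullback.snd f g).base) :
    IsHomeomorph f.base := by
  have hex : ∀ (x : X) (y' : Y'), f.base x = g.base y' → ∃ z : ↥(pullback f g),
      (pullback.fst f g).base z = x ∧ (pullback.snd f g).base z = y' := fun x y' h =>
    Scheme.Pullback.exists_preimage_pullback x y' h
  rw [isHomeomorph_iff_continuous_isClosedMap_bijective] at h ⊢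
  have hcl : IsClosedMap f.base := by
    refine (isClosedMap_iff_specializingMap f).mpr ?_
    intro x y hy
    obtain ⟨y₁, hy₁⟩ := g.surjective y
    subst hy₁
    obtain ⟨y', hy', hgy⟩ := Flat.generalizingMap g hy
    obtain ⟨z, hz₁, hz₂⟩ := hex x y' hgy.symm
    obtain ⟨z₁, hzz, hz₁'⟩ := h.2.1.specializingMap (show (pullback.snd f g).base z ⤳ y₁ by rw [hz₂]; exact hy')
    refine ⟨(pullback.fst f g).base z₁, by rw [← hz₁]; exact hzz.map (pullback.fst f g).continuous, ?_⟩
    rw [← Scheme.Hom.comp_apply, pullback.condition, Scheme.Hom.comp_apply, hz₁']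
  refine ⟨f.continuous, hcl, fun x₁ x₂ hx => ?_, fun y => ?_⟩
  · obtain ⟨y', hy'⟩ := g.surjective (f.base x₁)
    obtain ⟨z₁, a₁, b₁⟩ := hex x₁ y' hy'.symm
    obtain ⟨z₂, a₂, b₂⟩ := hex x₂ y' (hx.symm.trans hy'.symm)
    rw [← a₁, ← a₂, h.2.2.1 (b₁.trans b₂.symm)]
  · obtain ⟨y', rfl⟩ := g.surjective y
    obtain ⟨z, rfl⟩ := h.2.2.2 y'
    exact ⟨(pullback.fst f g).base z, by rw [← Scheme.Hom.comp_apply, pullback.condition, Scheme.Hom.comp_apply]⟩

end Groth.Agent.S13709
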