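import Groth.Statements.S13710
import Groth.Agent.S1128
import Mathlib.AlgebraicGeometry.Morphisms.FlatMono

set_option autoImplicit false
universe u
open CategoryTheory CategoryTheory.Limits AlgebraicGeometry
open ZeroCyc

namespace Groth.Agent.S13710

/-- Let f : X → Y be a morphism of schemes and g : Y' → Y a faithfully flat morphism (flat and
surjective, not assumed quasi-compact). Then f is an isomorphism exactly when it is quasi-compact
and its base change X ×_Y Y' → Y' along g is an isomorphism. -/
theorem result {X Y Y' : Scheme.{u}} (f : X ⟶ Y) (g : Y' ⟶ Y)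
    [Flat g] [Surjective g] :
    IsIso f ↔ QuasiCompact f ∧ IsIso (pullback.snd f g) := by
  refine ⟨fun h => ⟨inferInstance, inferInstance⟩, fun ⟨hqc, hiso⟩ => ?_⟩
  haveI : Surjective f := ⟨fun y => by
    obtain ⟨y', rfl⟩ := g.surjective y
    refine ⟨(pullback.fst f g).base ((inv (pullback.snd f g)).base y'), ?_⟩
    rw [← Scheme.Hom.comp_apply, pullback.condition, Scheme.Hom.comp_apply, ← Scheme.Hom.comp_apply (inv _),
      IsIso.inv_hom_id]
    rfl⟩
  haveI : Flat (pullback.fst f g ≫ f) := by rw [pullback.condition]; infer_instance
  haveI : Flat f := Groth.Agent.S1128.result (pullback.fst f g) f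
  haveI : Mono f := ⟨fun {T} a b hab => by
    let p := pullback.fst (a ≫ f) g
    let a' : pullback (a ≫ f) g ⟶ pullback f g :=
      pullback.lift (p ≫ a) (pullback.snd _ _) (by rw [Category.assoc]; exact pullback.condition)
    let b' : pullback (a ≫ f) g ⟶ pullback f g :=
      pullback.lift (p ≫ b) (pullback.snd _ _) (by rw [Category.assoc, ← hab]; exact pullback.condition)
    have h : a' = b' := by
      rw [← cancel_mono (pullback.snd f g), pullback.lift_snd, pullback.lift_snd]
    haveI : Epi p := Flat.epi_of_flat_of_surjective p
    rw [← cancel_epi p, show p ≫ a = a' ≫ pullback.fst f g from (pullback.lift_fst _ _ _).symm,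
      h, pullback.lift_fst]⟩
  exact Flat.isIso_of_surjective_of_mono f

end Groth.Agent.S13710
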