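import Groth.Statements.S13716
import Groth.Agent.ZeroCycLib.Apps
import Groth.Agent.S13398

set_option autoImplicit false
universe u
open scoped TensorProduct
open ZeroCyc

namespace Groth.Agent.S13716
open Groth.Agent.ZeroCycLib PolLaw


/-- Let (C, γ) be the algebra of divided powers Γ^d_A(B) of a commutative A-algebra B with its universal
multiplicative law γ : B → C homogeneous of degree d (every multiplicative law B → C' homogeneous of
degree d factors uniquely through γ by an algebra map C → C'). If B is integral over A then so is C
= Γ^d_A(B). -/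
theorem result {A : Type u} [CommRing A] {B : Type u} [CommRing B] [Algebra A B] {C : Type u} [CommRing C] [Algebra A C]
    {d : ℕ} (γ : PolLaw.MulLaw A B C d) (hγ : PolLaw.IsGammaD γ) [Algebra.IsIntegral A B] :
    Algebra.IsIntegral A C := by
  obtain ⟨φ, hφ⟩ := exists_phi hγ
  have := isIntegral_tensor (A := A) (B := B) (d := d)
  refine ⟨fun c => ?_⟩
  obtain ⟨p, hp, hpv⟩ := Algebra.IsIntegral.isIntegral (R := A) ((SymTen.TS A B d).val (φ c))
  refine ⟨p ^ d.factorial, hp.pow _, ?_⟩
  have h : φ (Polynomial.aeval c p) = 0 := by
    apply Subtype.val_injective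
    show (SymTen.TS A B d).val (φ (Polynomial.aeval c p)) = 0
    rw [← AlgHom.comp_apply, ← Polynomial.aeval_algHom_apply]
    exact hpv
  have h3 := (Groth.Agent.S13398.result d γ hγ φ hφ).1 _ h
  rwa [← map_pow, Polynomial.aeval_def] at h3

end Groth.Agent.S13716
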