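import Groth.Statements.S13717
import Groth.Agent.ZeroCycLib.Apps

set_option autoImplicit false
universe u
open scoped TensorProduct
open ZeroCyc

namespace Groth.Agent.S13717
open Groth.Agent.ZeroCycLib PolLaw


/-- Let π : B → B' be a surjective map of commutative A-algebras and let (C, γ) and (C', γ') be the
degree-d divided power algebras Γ^d_A(B) and Γ^d_A(B') with their universal multiplicative laws
homogeneous of degree d. If φ : C → C' is the A-algebra map with φ ∘ γ = γ' ∘ π, then φ is
surjective; geometrically, for a closed subscheme X of an affine Y over an affine S, Γ^d(X/S) →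
Γ^d(Y/S) is a closed immersion. (The published statement is for Y affine over an algebraic space S;
this row is the case of an affine base.) -/
theorem result {A : Type u} [CommRing A] {B : Type u} [CommRing B] [Algebra A B]
    {B' : Type u} [CommRing B'] [Algebra A B'] {C : Type u} [CommRing C] [Algebra A C] {C' : Type u} [CommRing C'] [Algebra A C']
    {d : ℕ} (γ : PolLaw.MulLaw A B C d) (hγ : PolLaw.IsGammaD γ) (γ' : PolLaw.MulLaw A B' C' d) (hγ' : PolLaw.IsGammaD γ')
    (π : B →ₐ[A] B') (hπ : Function.Surjective π) (φ : C →ₐ[A] C')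
    (hφ : PolLaw.postcomp φ.toLinearMap γ.law = (γ'.precomp π).law) :
    Function.Surjective φ := by
  have hs := Function.surjInv_eq hπ
  set s : P A B' →ₐ[A] P A B := MvPolynomial.rename (Function.surjInv hπ) with hsd
  have e : (π.comp (Groth.Agent.ZeroCycLib.π A B)).comp s = Groth.Agent.ZeroCycLib.π A B' := by
    refine MvPolynomial.algHom_ext fun b => ?_
    simp [hsd, hs]
  have h1 : φ.comp (rhoP γ) = rho (bP A B) ((γ'.precomp π).precomp (Groth.Agent.ZeroCycLib.π A B)) := by
    apply alg_ext (bP A B)
    ext S _ _ x
    rw [Groth.Agent.ZeroCycLib.postcomp_apply, Groth.Agent.ZeroCycLib.postcomp_apply, lTensor_comp_apply', rhoP_tau_apply,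
      ← mul_postcomp_apply (tau (bP A B)), rho_tau, mul_precomp_apply, ← hφ, Groth.Agent.ZeroCycLib.postcomp_apply]
  have h2 : (φ.comp (rhoP γ)).comp (SymTen.TSmap A d s) = rhoP γ' := by
    rw [h1, rho_natural (bP A B')]
    unfold rhoP
    congr 1
    apply MulLaw.ext
    ext S _ _ x
    rw [mul_precomp_apply, mul_precomp_apply, mul_precomp_apply, mul_precomp_apply, ← lTensor_comp_apply',
      ← lTensor_comp_apply', ← e]
  intro c
  obtain ⟨w, hw⟩ := rhoP_surjective hγ' c
  exact ⟨_, (AlgHom.congr_fun h2 w).trans hw⟩

end Groth.Agent.S13717
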