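import Groth.Statements.S13718
import Groth.Agent.ZeroCycLib.KerTools

set_option autoImplicit false
universe u
open scoped TensorProduct
open ZeroCyc

namespace Groth.Agent.S13718

/-- Let φ : B' → B be a map of commutative algebras over the commutative ring A and F : B → A a
multiplicative polynomial law homogeneous of degree d, with push-forward the law F ∘ φ : B' → A.
Then the radical of the kernel of F ∘ φ equals the radical of the inverse image under φ of the
kernel of F: the support of the pushed-forward family of zero-cycles on Spec B' is the image of the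
support of the family on Spec B. (The published statement is for affine morphisms X → Y → S of
algebraic spaces; this row is the case of an affine base.) -/
theorem result {A : Type u} [CommRing A] {B : Type u} [CommRing B] [Algebra A B]
    {B' : Type u} [CommRing B'] [Algebra A B'] {d : ℕ} (F : PolLaw.MulLaw A B A d) (φ : B' →ₐ[A] B) :
    (PolLaw.ker (F.precomp φ).law).radical = ((PolLaw.ker F.law).comap φ).radical := by
  apply le_antisymm
  · rw [Ideal.radical_le_radical_iff]
    intro b hb
    refine ⟨d, ?_⟩
    show φ (b ^ d) ∈ PolLaw.ker F.law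
    have h2 := ZeroCycLib.aeval_chiR F A (ZeroCycLib.chg B (AlgHom.id A A) ((1 : A) ⊗ₜ[A] φ b))
    have e : ZeroCycLib.chiR F A (ZeroCycLib.chg B (AlgHom.id A A) ((1 : A) ⊗ₜ[A] φ b)) =
        ZeroCycLib.chiR (F.precomp φ) A ((1 : A) ⊗ₜ[A] b) := by
      have hu : ∀ x : (Polynomial A) ⊗[A] B', ZeroCycLib.nm (F.precomp φ) (Polynomial A) x =
          ZeroCycLib.nm F (Polynomial A) (Algebra.TensorProduct.map (AlgHom.id A (Polynomial A)) φ x) := by
        intro x
        have he : φ.toLinearMap.lTensor (Polynomial A) x = Algebra.TensorProduct.map (AlgHom.id A (Polynomial A)) φ x := by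
          induction x using TensorProduct.induction_on with
          | zero => simp
          | tmul a c => rfl
          | add p q hp hq => simp only [map_add, hp, hq]
        rw [← he]; rfl
      rw [ZeroCycLib.chiR, ZeroCycLib.chiR, hu, map_sub]
      congr 1
      congr 1
      rw [show (Polynomial.X : Polynomial A) • (1 : Polynomial A ⊗[A] B') = Polynomial.X ⊗ₜ[A] (1 : B') by
            rw [Algebra.TensorProduct.one_def, TensorProduct.smul_tmul', smul_eq_mul, mul_one],
          show (Polynomial.X : Polynomial A) • (1 : Polynomial A ⊗[A] B) = Polynomial.X ⊗ₜ[A] (1 : B) by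
            rw [Algebra.TensorProduct.one_def, TensorProduct.smul_tmul', smul_eq_mul, mul_one]]
      simp
    rw [e, ZeroCycLib.chiR_of_killed _ (ZeroCycLib.killed_of_mem_ker _ hb A), map_pow, map_neg, Polynomial.aeval_X,
      ZeroCycLib.chg_id, neg_pow, ← ZeroCycLib.mem_killedIdeal, Ideal.unit_mul_mem_iff_mem _ ((isUnit_one.neg).pow d),
      Algebra.TensorProduct.tmul_pow, one_pow, ZeroCycLib.mem_killedIdeal, ZeroCycLib.killed_iff_mem_ker] at h2
    rwa [map_pow]
  · exact Ideal.radical_mono (Groth.Agent.ZeroCycLib.comap_le_ker_precomp F φ)

end Groth.Agent.S13718
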