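import Groth.Statements.S13719
import Groth.Agent.ZeroCycLib.Split

set_option autoImplicit false
universe u
open scoped TensorProduct
open ZeroCyc

namespace Groth.Agent.S13719

/-- Let A be a commutative ring whose prime spectrum is connected, B₁, B₂ commutative A-algebras and F :
B₁ × B₂ → A a multiplicative polynomial law homogeneous of degree d (a family of zero-cycles of
degree d on the disjoint union Spec B₁ ⊔ Spec B₂ over Spec A). Then there are natural numbers d₁ +
d₂ = d, the multiplicities of the family on the two pieces, and multiplicative laws F₁ : B₁ → A, F₂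
: B₂ → A homogeneous of degrees d₁, d₂ with F(x) = F₁(x₁) F₂(x₂) for every test algebra S and x ∈ S
⊗ (B₁ × B₂) with components x₁, x₂; and the degrees d₁, d₂ of any such factorisation are uniquely
determined. (The published statement is for finitely many algebraic spaces affine over a connected
algebraic space S; this row is the case of two pieces over an affine base.) -/
theorem result {A : Type u} [CommRing A] [ConnectedSpace (PrimeSpectrum A)]
    {B₁ : Type u} [CommRing B₁] [Algebra A B₁] {B₂ : Type u} [CommRing B₂] [Algebra A B₂]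
    {d : ℕ} (F : PolLaw.MulLaw A (B₁ × B₂) A d) :
    ∃ d₁ d₂ : ℕ, d₁ + d₂ = d ∧
      (∃ (F₁ : PolLaw.MulLaw A B₁ A d₁) (F₂ : PolLaw.MulLaw A B₂ A d₂),
        ∀ (S : Type u) [CommSemiring S] [Algebra A S] (x : S ⊗[A] (B₁ × B₂)),
          F.law.toFun' S x = F₁.law.toFun' S (LinearMap.lTensor S (LinearMap.fst A B₁ B₂) x) *
            F₂.law.toFun' S (LinearMap.lTensor S (LinearMap.snd A B₁ B₂) x)) ∧
      ∀ (e₁ e₂ : ℕ) (G₁ : PolLaw.MulLaw A B₁ A e₁) (G₂ : PolLaw.MulLaw A B₂ A e₂),
        (∀ (S : Type u) [CommSemiring S] [Algebra A S] (x : S ⊗[A] (B₁ × B₂)),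
          F.law.toFun' S x = G₁.law.toFun' S (LinearMap.lTensor S (LinearMap.fst A B₁ B₂) x) *
            G₂.law.toFun' S (LinearMap.lTensor S (LinearMap.snd A B₁ B₂) x)) → e₁ = d₁ ∧ e₂ = d₂ := by
  set e₁ : B₁ × B₂ := (1, 0) with he₁
  set e₂ : B₁ × B₂ := (0, 1) with he₂
  obtain ⟨d₁, hd₁⟩ := ZeroCycLib.exists_multiplicity F (e₁ := e₁) (e₂ := e₂) (by simp [e₁]) (by simp [e₂])
    (by simp [e₁, e₂]) (by simp [e₁, e₂])
  obtain ⟨d₂, hd₂⟩ := ZeroCycLib.exists_multiplicity F (e₁ := e₂) (e₂ := e₁) (by simp [e₂]) (by simp [e₁])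
    (by simp [e₁, e₂]) (by simp [e₁, e₂])
  have hc₁ : ZeroCycLib.Corner (LinearMap.inl A B₁ B₂) e₂ :=
    ⟨fun x y => by simp, by simp [e₂], by simp [e₂], fun x => by simp [e₂]⟩
  have hc₂ : ZeroCycLib.Corner (LinearMap.inr A B₁ B₂) e₁ :=
    ⟨fun x y => by simp, by simp [e₁], by simp [e₁], fun x => by simp [e₁]⟩
  have : Nontrivial A := PrimeSpectrum.nonempty_iff_nontrivial.1 inferInstance
  refine ⟨d₁, d₂, ?_, ⟨hc₁.law F (d' := d₁) hd₁, hc₂.law F (d' := d₂) hd₂, fun S _ _ x => ?_⟩, fun k₁ k₂ G₁ G₂ hG => ?_⟩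
  · have h := congrArg₂ (· * ·) hd₁ hd₂
    simp only [← ZeroCycLib.nm_mul, ← pow_add] at h
    have e : ((Polynomial.X : Polynomial A) ⊗ₜ[A] e₁ + 1 ⊗ₜ[A] e₂) * ((Polynomial.X : Polynomial A) ⊗ₜ[A] e₂ + 1 ⊗ₜ[A] e₁) =
        (Polynomial.X : Polynomial A) • 1 := by
      rw [Algebra.TensorProduct.one_def, TensorProduct.smul_tmul', smul_eq_mul, mul_one,
        show (1 : B₁ × B₂) = e₁ + e₂ by ext <;> simp [e₁, e₂], TensorProduct.tmul_add]
      simp [add_mul, mul_add, e₁, e₂, Prod.mk_zero_zero]
      abel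
    rw [e, ZeroCycLib.nm_smul, ZeroCycLib.nm_one, mul_one] at h
    have := congrArg Polynomial.natDegree h
    simpa using this.symm
  · show F.law.toFun' S x = F.law.toFun' S _ * F.law.toFun' S _
    rw [← (F.mult S).2]
    congr 1
    have ha : ∀ (y : S ⊗[A] B₁) (z : S ⊗[A] B₂),
        (LinearMap.inl A B₁ B₂).lTensor S y * (LinearMap.inr A B₁ B₂).lTensor S z = 0 := fun y z => by
      induction y using TensorProduct.induction_on with
      | zero => simp
      | add p q hp hq => simp only [map_add, add_mul, hp, hq, add_zero]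
      | tmul s b =>
        induction z using TensorProduct.induction_on with
        | zero => simp
        | add p q hp hq => simp only [map_add, mul_add, hp, hq, add_zero]
        | tmul t c => simp [Prod.mk_zero_zero]
    have hb : ∀ y : S ⊗[A] B₁,
        (LinearMap.inl A B₁ B₂).lTensor S y * ((1 : S) ⊗ₜ[A] e₁) = (LinearMap.inl A B₁ B₂).lTensor S y := fun y => by
      induction y using TensorProduct.induction_on with
      | zero => simp
      | add p q hp hq => simp only [map_add, add_mul, hp, hq]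
      | tmul t c => simp [e₁]
    have hc : ∀ y : S ⊗[A] B₂,
        ((1 : S) ⊗ₜ[A] e₂) * (LinearMap.inr A B₁ B₂).lTensor S y = (LinearMap.inr A B₁ B₂).lTensor S y := fun y => by
      induction y using TensorProduct.induction_on with
      | zero => simp
      | add p q hp hq => simp only [map_add, mul_add, hp, hq]
      | tmul t c => simp [e₂]
    rw [add_mul, mul_add, mul_add, ha, hb, hc, Algebra.TensorProduct.tmul_mul_tmul, show e₂ * e₁ = 0 by simp [e₁, e₂],
      TensorProduct.tmul_zero, zero_add, add_zero]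
    induction x using TensorProduct.induction_on with
    | zero => simp
    | tmul s b => simp [← TensorProduct.tmul_add]
    | add p q hp hq => rw [map_add, map_add, map_add, map_add, add_add_add_comm, ← hp, ← hq]
  · have hr : ∀ {B' : Type u} [CommRing B'] [Algebra A B'], (Polynomial.X : Polynomial A) • (1 : Polynomial A ⊗[A] B') =
        Polynomial.X ⊗ₜ[A] (1 : B') := fun {B'} _ _ => by
      rw [Algebra.TensorProduct.one_def, TensorProduct.smul_tmul', smul_eq_mul, mul_one]
    have h := hG (Polynomial A) ((Polynomial.X : Polynomial A) ⊗ₜ[A] e₁ + 1 ⊗ₜ[A] e₂)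
    have h' := hG (Polynomial A) ((Polynomial.X : Polynomial A) ⊗ₜ[A] e₂ + 1 ⊗ₜ[A] e₁)
    simp only [map_add, LinearMap.lTensor_tmul, LinearMap.fst_apply, LinearMap.snd_apply, e₁, e₂,
      TensorProduct.tmul_zero, add_zero, zero_add] at h h'
    rw [ZeroCycLib.toFun_eq_nm, hd₁, ← hr, ← Algebra.TensorProduct.one_def, G₁.homog, (G₁.mult _).1, (G₂.mult _).1, mul_one] at h
    rw [ZeroCycLib.toFun_eq_nm, hd₂, ← hr, ← Algebra.TensorProduct.one_def, G₂.homog, (G₁.mult _).1, (G₂.mult _).1, one_mul] at h'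
    have h1 := congrArg (Polynomial.natDegree ∘ Algebra.TensorProduct.rid A (Polynomial A) (Polynomial A)) h
    have h2 := congrArg (Polynomial.natDegree ∘ Algebra.TensorProduct.rid A (Polynomial A) (Polynomial A)) h'
    simp [TensorProduct.smul_tmul', Algebra.TensorProduct.one_def] at h1 h2
    exact ⟨h1.symm, h2.symm⟩

end Groth.Agent.S13719
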