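import Groth.Statements.S13720
import Groth.Agent.ZeroCycLib.KerTools

set_option autoImplicit false
universe u
open scoped TensorProduct
open ZeroCyc

namespace Groth.Agent.S13720

/-- Let B be the filtered direct limit of a directed system (B_i, t_ij : B_i → B_j) of commutative
algebras over the commutative ring A, with structure maps φ_i : B_i → B (jointly surjective, and an
element of B_i vanishing in B already vanishes in some B_j), and let F : B → C be a multiplicative
polynomial law homogeneous of degree d, with restrictions F_i = F ∘ φ_i. Then an element b of B lies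
in the kernel of F if and only if it is the image of some x ∈ B_i whose images in B_j lie in the
kernel of F_j for every j ≥ i; that is, the kernel of F is the direct limit of the kernels of the
F_i. -/
theorem result {A : Type u} [CommRing A] {B : Type u} [CommRing B] [Algebra A B]
    {C : Type u} [CommRing C] [Algebra A C] {ι : Type u} [Preorder ι] [IsDirected ι (fun i j => i ≤ j)] [Nonempty ι]
    (Bi : ι → Type u) [∀ i, CommRing (Bi i)] [∀ i, Algebra A (Bi i)]
    (t : ∀ i j : ι, i ≤ j → (Bi i →ₐ[A] Bi j)) (φ : ∀ i : ι, Bi i →ₐ[A] B)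
    (hcomp : ∀ (i j : ι) (h : i ≤ j), (φ j).comp (t i j h) = φ i)
    (hsurj : ∀ b : B, ∃ (i : ι) (x : Bi i), φ i x = b)
    (hzero : ∀ (i : ι) (x : Bi i), φ i x = 0 → ∃ (j : ι) (h : i ≤ j), t i j h x = 0)
    {d : ℕ} (F : PolLaw.MulLaw A B C d) (b : B) :
    b ∈ PolLaw.ker F.law ↔ ∃ (i : ι) (x : Bi i), φ i x = b ∧
      ∀ (j : ι) (h : i ≤ j), t i j h x ∈ PolLaw.ker (F.precomp (φ j)).law := by
  constructor
  · intro hb
    obtain ⟨i, x, rfl⟩ := hsurj b
    refine ⟨i, x, rfl, fun j h => ?_⟩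
    apply Groth.Agent.ZeroCycLib.comap_le_ker_precomp F (φ j)
    show φ j (t i j h x) ∈ PolLaw.ker F.law
    rw [show φ j (t i j h x) = φ i x from DFunLike.congr_fun (hcomp i j h) x]
    exact hb
  · rintro ⟨i, x, rfl, hx⟩ S _ _ p q
    have hlift : ∀ y : S ⊗[A] B, ∃ j, ∀ k, j ≤ k → ∃ y', (φ k).toLinearMap.lTensor S y' = y := by
      intro y
      induction y using TensorProduct.induction_on with
      | zero => exact ⟨i, fun k _ => ⟨0, map_zero _⟩⟩
      | tmul s b =>
        obtain ⟨j, z, rfl⟩ := hsurj b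
        exact ⟨j, fun k hk => ⟨s ⊗ₜ[A] t j k hk z, congrArg (fun u => s ⊗ₜ[A] u) (DFunLike.congr_fun (hcomp j k hk) z)⟩⟩
      | add y₁ y₂ h₁ h₂ =>
        obtain ⟨j₁, h₁⟩ := h₁
        obtain ⟨j₂, h₂⟩ := h₂
        obtain ⟨j, hj₁, hj₂⟩ := directed_of (fun i j : ι => i ≤ j) j₁ j₂
        refine ⟨j, fun k hk => ?_⟩
        obtain ⟨z₁, e₁⟩ := h₁ k (hj₁.trans hk)
        obtain ⟨z₂, e₂⟩ := h₂ k (hj₂.trans hk)
        exact ⟨z₁ + z₂, by rw [map_add, e₁, e₂]⟩
    obtain ⟨jp, hp⟩ := hlift p
    obtain ⟨jq, hq⟩ := hlift q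
    obtain ⟨j', hjp, hjq⟩ := directed_of (fun i j : ι => i ≤ j) jp jq
    obtain ⟨j, hj, hij⟩ := directed_of (fun i j : ι => i ≤ j) j' i
    obtain ⟨p', rfl⟩ := hp j (hjp.trans hj)
    obtain ⟨q', rfl⟩ := hq j (hjq.trans hj)
    have := hx j hij S p' q'
    have e : (φ j).toLinearMap.lTensor S (p' + q' * (1 ⊗ₜ[A] t i j hij x)) =
        (φ j).toLinearMap.lTensor S p' + (φ j).toLinearMap.lTensor S q' * ((1 : S) ⊗ₜ[A] φ i x) := by
      rw [map_add, PolLaw.lTensor_algHom_apply, PolLaw.lTensor_algHom_apply, PolLaw.lTensor_algHom_apply, map_mul,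
        Algebra.TensorProduct.map_tmul, AlgHom.id_apply, show φ j (t i j hij x) = φ i x from DFunLike.congr_fun (hcomp i j hij) x]
    rw [← e]
    exact this

end Groth.Agent.S13720
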