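import Groth.Statements.S13724
import Groth.Agent.ZeroCycLib.KerApps

set_option autoImplicit false
universe u
open scoped TensorProduct
open ZeroCyc

namespace Groth.Agent.S13724

/-- Let A be a commutative ring with finitely many maximal ideals, B a commutative A-algebra and F : B →
A a multiplicative polynomial law homogeneous of degree d. Then B/ker F, the coordinate ring of the
image of the family of zero-cycles defined by F, has finitely many maximal ideals. -/
theorem result {A : Type u} [CommRing A] [Finite (MaximalSpectrum A)] {B : Type u} [CommRing B] [Algebra A B]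
    {d : ℕ} (F : PolLaw.MulLaw A B A d) :
    Finite (MaximalSpectrum (PolLaw.image F.law)) := by
  have := ZeroCycLib.isIntegral_image F
  have h1 : (Set.range fun m : MaximalSpectrum A => m.toPrimeSpectrum).Finite := Set.finite_range _
  have h2 : (PrimeSpectrum.comap (algebraMap A (PolLaw.image F.law)) ⁻¹'
      Set.range fun m : MaximalSpectrum A => m.toPrimeSpectrum).Finite :=
    h1.preimage' fun m _ => ZeroCycLib.finite_fibre F m
  have h3 := h2.to_subtype
  refine Finite.of_injective (fun M : MaximalSpectrum (PolLaw.image F.law) =>
    (⟨M.toPrimeSpectrum, ?_⟩ : ↥(PrimeSpectrum.comap (algebraMap A (PolLaw.image F.law)) ⁻¹'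
      Set.range fun m : MaximalSpectrum A => m.toPrimeSpectrum))) ?_
  · have := M.isMaximal
    exact ⟨⟨M.asIdeal.comap (algebraMap A _), Ideal.isMaximal_comap_of_isIntegral_of_isMaximal M.asIdeal⟩, rfl⟩
  · intro M M' h
    exact MaximalSpectrum.toPrimeSpectrum_injective (congrArg Subtype.val h)

end Groth.Agent.S13724
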