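import Groth.Statements.S13725
import Groth.Agent.ZeroCycLib.KerApps
import Mathlib.RingTheory.AdjoinRoot
import Mathlib.Algebra.CharP.Lemmas

set_option autoImplicit false
universe u
open scoped TensorProduct
open ZeroCyc

namespace Groth.Agent.S13725

/-- Let k be a field of characteristic p > 0 and let F : k → k be the law x ↦ x^p, multiplicative and
homogeneous of degree p over k. The kernel of F is the zero ideal, but after the flat base change k
→ A' = k[X]/(X^p) the kernel of the base-changed law on A' ⊗_k k is not zero (the class of X lies in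
it). So in characteristic p, forming the kernel of a multiplicative law is not compatible with flat
base change. -/
theorem result {k : Type u} [Field k] (p : ℕ) [Fact p.Prime] [CharP k p] :
    PolLaw.ker (PolLaw.MulLaw.pow k k p).law = ⊥ ∧
      PolLaw.kerBC (PolLaw.MulLaw.pow k k p).law (AdjoinRoot ((Polynomial.X : Polynomial k) ^ p)) ≠ ⊥ := by
  have hp := (Fact.out : p.Prime)
  constructor
  · rcases Ideal.eq_bot_or_top (PolLaw.ker (PolLaw.MulLaw.pow k k p).law) with h | h
    · exact h
    exfalso
    have h1 : (1 : k) ∈ PolLaw.ker (PolLaw.MulLaw.pow k k p).law := h ▸ trivial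
    have h2 : ((0 : k ⊗[k] k) + 1 * (1 ⊗ₜ[k] (1 : k))) ^ p = (0 : k ⊗[k] k) ^ p := h1 k 0 1
    rw [zero_add, one_mul, ← Algebra.TensorProduct.one_def, one_pow, zero_pow hp.ne_zero] at h2
    exact one_ne_zero h2
  · intro h
    set A' := AdjoinRoot ((Polynomial.X : Polynomial k) ^ p)
    have hmem : (AdjoinRoot.root ((Polynomial.X : Polynomial k) ^ p)) ⊗ₜ[k] (1 : k) ∈
        PolLaw.kerBC (PolLaw.MulLaw.pow k k p).law A' := by
      intro R _ _ _ _ x w
      show (x + w * _) ^ p = x ^ p
      obtain ⟨r, hr⟩ := exists_add_pow_prime_eq hp x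
        (w * Algebra.TensorProduct.map (IsScalarTower.toAlgHom k A' R) (AlgHom.id k k)
          ((AdjoinRoot.root ((Polynomial.X : Polynomial k) ^ p)) ⊗ₜ[k] (1 : k)))
      have hp0 : ((p : ℕ) : R ⊗[k] k) = 0 := by
        rw [← map_natCast (algebraMap k (R ⊗[k] k)), CharP.cast_eq_zero, map_zero]
      have hv : Algebra.TensorProduct.map (IsScalarTower.toAlgHom k A' R) (AlgHom.id k k)
          ((AdjoinRoot.root ((Polynomial.X : Polynomial k) ^ p)) ⊗ₜ[k] (1 : k)) ^ p = 0 := by
        rw [← map_pow, Algebra.TensorProduct.tmul_pow, ← AdjoinRoot.mk_X, ← map_pow, AdjoinRoot.mk_self,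
          TensorProduct.zero_tmul, map_zero]
      rw [hr, hp0, zero_mul, zero_mul, zero_mul, mul_pow, hv, mul_zero, add_zero, add_zero]
    rw [h, Ideal.mem_bot] at hmem
    have h0 : AdjoinRoot.root ((Polynomial.X : Polynomial k) ^ p) = 0 := by
      simpa using congrArg (Algebra.TensorProduct.rid k k A') hmem
    rw [← AdjoinRoot.mk_X, AdjoinRoot.mk_eq_zero] at h0
    have := Polynomial.natDegree_le_of_dvd h0 Polynomial.X_ne_zero
    rw [Polynomial.natDegree_pow, Polynomial.natDegree_X, mul_one] at this
    exact absurd this (Nat.not_le.2 hp.one_lt)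

end Groth.Agent.S13725
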