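import Groth.Statements.S1373
import Groth.Agent.HensPair.UnivOpenGeomUni

set_option autoImplicit false
universe u
open FlatMor

namespace Groth.Agent.S1373

open AlgebraicGeometry CategoryTheory Limits in
/-- (1) ⇔ (3): a morphism f : X → S is universally open if and only if for every n the induced morphism
from affine n-space over X to affine n-space over S is open. -/
theorem result {X S : Scheme.{u}} (f : X ⟶ S) :
    UniversallyOpen f ↔ ∀ n : ℕ, IsOpenMap ⇑(AffineSpace.map (ULift.{u} (Fin n)) f) := by
  refine ⟨fun hf n => ?_, fun h => ?_⟩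
  · have : UniversallyOpen (AffineSpace.map (ULift.{u} (Fin n)) f) :=
      MorphismProperty.of_isPullback (P := @UniversallyOpen) (AffineSpace.isPullback_map f).flip hf
    exact (AffineSpace.map (ULift.{u} (Fin n)) f).isOpenMap
  · refine Groth.Agent.HensPair.UnivOpenGeomUni.universallyOpen_of_univOpenAt fun x =>
      Groth.Agent.HensPair.UnivOpenGeomUni.univOpenAt_of_affineSpace f x fun n _ z _ U hU => ?_
    let e := (AffineSpace.isPullback_map (n := ULift.{u} (Fin n)) f).flip.isoPullback
    have he : e.hom ≫ Limits.pullback.snd f _ = AffineSpace.map _ f := IsPullback.isoPullback_hom_snd _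
    have hsnd : Limits.pullback.snd f _ = e.inv ≫ AffineSpace.map _ f := by
      rw [← he, Iso.inv_hom_id_assoc]
    exact (show IsOpenMap (Limits.pullback.snd f _) by
      rw [hsnd, Scheme.Hom.comp_base, TopCat.coe_comp]
      exact (h n).comp e.inv.homeomorph.isOpenMap).image_mem_nhds hU

end Groth.Agent.S1373
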