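import Groth.Statements.S1377
import Mathlib.AlgebraicGeometry.Normalization
import Mathlib.AlgebraicGeometry.IdealSheaf.Subscheme

set_option autoImplicit false
universe u
open FlatMor

namespace Groth.Agent.S1377

open AlgebraicGeometry CategoryTheory Limits in
/-- Let S be a scheme, U ⊆ S an open subscheme whose inclusion U → S is quasi-compact (U retrocompact in
S), and V → U a surjective integral morphism. Then there are a scheme V' and a surjective integral
morphism V' → S whose base change to U is V → U. (The published statement puts no condition on U,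
and in that generality it is false: e.g. S = Spec ∏_i ℤ/4^i with U = D(2) ∪ ⋃_i D(e_i), e_i the
idempotents, and V equal to U except that over D(2) it is cut out by x = (2^i)_i. Stated here with U
→ S quasi-compact, under which hypothesis the published argument applies.) -/
theorem result {S V : Scheme.{u}} (U : S.Opens) [QuasiCompact U.ι]
    (v : V ⟶ (U : Scheme.{u})) [IsIntegralHom v] [Surjective v] :
    ∃ (V' : Scheme.{u}) (π : V' ⟶ S) (i : V ⟶ V'), Surjective π ∧ IsIntegralHom π ∧ IsPullback i v π U.ι := by
  let f : V ⟶ S := v ≫ U.ι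
  let W := f.normalization
  let Z := (Scheme.IdealSheafData.vanishingIdeal (X := S) ⟨(U : Set S)ᶜ, U.2.isClosed_compl⟩).subscheme
  let z : Z ⟶ S := Scheme.IdealSheafData.subschemeι _
  have hz : Set.range z.base = (U : Set S)ᶜ := by
    simp [z, Z, Scheme.IdealSheafData.range_subschemeι]
  let π : W ⨿ Z ⟶ S := Limits.coprod.desc f.fromNormalization z
  let i : V ⟶ W ⨿ Z := f.toNormalization ≫ Limits.coprod.inl
  have hsq : i ≫ π = v ≫ U.ι := by
    simp only [i, π, Category.assoc, Limits.coprod.inl_desc]
    exact f.toNormalization_fromNormalization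
  -- the comparison over `U`
  haveI : IsIso (pullback.fst f U.ι) := by
    haveI : IsOpenImmersion (pullback.fst f U.ι) := inferInstance
    have hr : Set.range (pullback.fst f U.ι).base = Set.univ := by
      rw [Scheme.Pullback.range_fst]
      ext x
      simp only [Set.mem_preimage, Scheme.Opens.range_ι, Set.mem_univ, iff_true]
      exact (v.base x).2
    haveI : Surjective (pullback.fst f U.ι) := ⟨Set.range_eq_univ.mp hr⟩
    exact IsOpenImmersion.isIso (pullback.fst f U.ι)
  have hsnd : pullback.snd f U.ι = pullback.fst f U.ι ≫ v := by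
    rw [← cancel_mono U.ι, Category.assoc, ← pullback.condition]
  haveI : IsIntegralHom (pullback.snd f U.ι) := by
    rw [hsnd]; infer_instance
  let e := (pullback.snd f U.ι).toNormalization ≫ f.normalizationPullback U.ι
  haveI : IsIso e := inferInstance
  let j : V ⟶ W := f.toNormalization
  have hj : j = inv (pullback.fst f U.ι) ≫ e ≫ pullback.fst _ _ := by
    simp [e, j]
  have hji : IsOpenImmersion j := by
    rw [hj]; infer_instance
  have hjr : Set.range j.base = f.fromNormalization.base ⁻¹' (U : Set S) := by
    rw [hj]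
    simp only [Scheme.Hom.comp_base, TopCat.coe_comp]
    rw [(inv (pullback.fst f U.ι)).surjective.range_comp, e.surjective.range_comp, Scheme.Pullback.range_fst,
      Scheme.Opens.range_ι]
  haveI : IsOpenImmersion i := by
    dsimp only [i]; infer_instance
  refine ⟨W ⨿ Z, π, i, ⟨fun s => ?_⟩, inferInstance, (IsOpenImmersion.isPullback v i U.ι π hsq ?_).flip⟩
  · by_cases hs : s ∈ U
    · obtain ⟨x, hx⟩ := v.surjective ⟨s, hs⟩
      refine ⟨i.base x, ?_⟩
      rw [← Scheme.Hom.comp_apply, hsq, Scheme.Hom.comp_apply, hx]
      rfl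
    · obtain ⟨x, hx⟩ : s ∈ Set.range z.base := by rw [hz]; exact hs
      refine ⟨(Limits.coprod.inr : Z ⟶ W ⨿ Z).base x, ?_⟩
      rw [← Scheme.Hom.comp_apply, Limits.coprod.inr_desc, hx]
  · ext y
    simp only [Scheme.Hom.coe_opensRange, TopologicalSpace.Opens.map_coe, Scheme.Opens.opensRange_ι, Set.mem_preimage, SetLike.mem_coe]
    rcases (show y ∈ Set.range (Limits.coprod.inl : W ⟶ W ⨿ Z).base ∪ Set.range (Limits.coprod.inr : Z ⟶ W ⨿ Z).base by
      exact (isCompl_range_inl_inr W Z).sup_eq_top.ge trivial) with ⟨w, rfl⟩ | ⟨w, rfl⟩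
    · rw [← Scheme.Hom.comp_apply, Limits.coprod.inl_desc]
      constructor
      · intro hw
        obtain ⟨x, rfl⟩ : w ∈ Set.range j.base := by rw [hjr]; exact hw
        exact ⟨x, rfl⟩
      · rintro ⟨x, hx⟩
        have := (Limits.coprod.inl : W ⟶ W ⨿ Z).isEmbedding.injective (a₁ := j.base x) (a₂ := w) hx
        rw [← this]
        have hm : j.base x ∈ Set.range j.base := ⟨x, rfl⟩
        rw [hjr] at hm
        exact hm
    · rw [← Scheme.Hom.comp_apply, Limits.coprod.inr_desc]
      constructor
      · intro hw
        exact absurd hw (by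
          have : z.base w ∈ (U : Set S)ᶜ := by rw [← hz]; exact ⟨w, rfl⟩
          exact this)
      · rintro ⟨x, hx⟩
        exact absurd hx ((Set.disjoint_iff_forall_ne.mp (isCompl_range_inl_inr W Z).disjoint) ⟨j.base x, rfl⟩ ⟨w, rfl⟩)

end Groth.Agent.S1377
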