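import Groth.Statements.S13771
import Groth.Agent.PLie.Exist

set_option autoImplicit false
universe u v w
open PLie

namespace Groth.Agent.S13771

/-- Let R be a commutative ring of prime characteristic p, L₁ and L₂ Lie algebras over R, φ a p-mapping
on L₁ and f : L₁ → L₂ a morphism of Lie algebras whose kernel is stable under φ (a p-ideal). Then
the image f(L₁), a Lie subalgebra of L₂, carries exactly one p-mapping ψ for which the corestriction
of f to its image is a morphism of p-Lie algebras, i.e. ψ (f x) = f (φ x) for all x. -/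
theorem result (R : Type u) [CommRing R] (p : ℕ) [Fact p.Prime] [CharP R p]
    (L₁ : Type v) [LieRing L₁] [LieAlgebra R L₁] (L₂ : Type w) [LieRing L₂] [LieAlgebra R L₂]
    (φ : PLie.PMap R p L₁) (f : L₁ →ₗ⁅R⁆ L₂) (hker : ∀ x : L₁, f x = 0 → f (φ x) = 0) :
    ∃! ψ : PLie.PMap R p f.range, PLie.IsPHom φ ψ f.rangeRestrict := by
  classical
  have hwd : ∀ x y : L₁, f x = f y → f (φ x) = f (φ y) := by
    intro x y h
    have h1 : f (φ (y + (x - y))) = f (φ y) := by
      rw [φ.map_add, map_sub, map_add, hker (x - y) (by rw [map_sub, h, sub_self]), add_zero,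
        Groth.Agent.PLie.Jacobson.jac_map, map_sub, h, sub_self,
        Groth.Agent.PLie.Jacobson.jac_zero_right, sub_zero]
    rwa [add_sub_cancel] at h1
  have hs : Function.Surjective f.rangeRestrict := f.surjective_rangeRestrict
  choose s hs using hs
  have hψ : ∀ x : L₁, f.rangeRestrict (φ (s (f.rangeRestrict x))) = f.rangeRestrict (φ x) := fun x =>
    Subtype.ext (hwd _ _ (congrArg Subtype.val (hs (f.rangeRestrict x))))
  let F : f.range → f.range := fun z => f.rangeRestrict (φ (s z))
  have hF : ∀ x : L₁, F (f.rangeRestrict x) = f.rangeRestrict (φ x) := hψ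
  refine ⟨⟨F, fun c z => ?_, fun z => ?_, fun z w => ?_⟩, fun x => (hF x).symm, fun ψ h => ?_⟩
  · obtain ⟨x, rfl⟩ : ∃ x, f.rangeRestrict x = z := ⟨s z, hs z⟩
    rw [← map_smul, hF, hF, φ.map_smul, map_smul]
  · obtain ⟨x, rfl⟩ : ∃ x, f.rangeRestrict x = z := ⟨s z, hs z⟩
    have key : ∀ (n : ℕ) (m : L₁), f.rangeRestrict ((LieAlgebra.ad R L₁ x ^ n) m) =
        (LieAlgebra.ad R f.range (f.rangeRestrict x) ^ n) (f.rangeRestrict m) := by
      intro n m
      induction n with
      | zero => rfl
      | succ n ih => rw [pow_succ', pow_succ', Module.End.mul_apply, Module.End.mul_apply, ← ih,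
          LieAlgebra.ad_apply, LieAlgebra.ad_apply, LieHom.map_lie]
    refine LinearMap.ext fun w => ?_
    obtain ⟨m, rfl⟩ : ∃ m, f.rangeRestrict m = w := ⟨s w, hs w⟩
    rw [hF, ← key, ← φ.ad_map x, LieAlgebra.ad_apply, LieAlgebra.ad_apply, LieHom.map_lie]
  · obtain ⟨x, rfl⟩ : ∃ x, f.rangeRestrict x = z := ⟨s z, hs z⟩
    obtain ⟨y, rfl⟩ : ∃ y, f.rangeRestrict y = w := ⟨s w, hs w⟩
    rw [← map_add, hF, hF, hF, φ.map_add, map_sub, map_add, Groth.Agent.PLie.Jacobson.jac_map]
  · have e : ∀ z, ψ z = F z := fun z => by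
      conv_lhs => rw [← hs z]
      exact (h (s z)).symm
    cases ψ; congr; exact funext e

end Groth.Agent.S13771
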