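import Groth.Statements.S13772
import Groth.Agent.PLie.Exist

set_option autoImplicit false
universe u v
open PLie

namespace Groth.Agent.S13772

/-- Let R be a commutative ring of prime characteristic p and L a Lie algebra over R with a p-mapping γ.
For a map g : L → L, there is a p-mapping γ' on L with γ' x = γ x + g x for every x if and only if g
is additive, g (c • x) = c ^ p • g x for all scalars c, and every value g x lies in the centre of L.
(Both parts of the published statement at once: the difference of two p-mappings is a
Frobenius-semilinear map into the centre, and adding such a map to a p-mapping gives a p-mapping.) -/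
theorem result (R : Type u) [CommRing R] (p : ℕ) [Fact p.Prime] [CharP R p]
    (L : Type v) [LieRing L] [LieAlgebra R L] (γ : PLie.PMap R p L) (g : L → L) :
    (∃ γ' : PLie.PMap R p L, ∀ x : L, γ' x = γ x + g x) ↔
      ((∀ x y : L, g (x + y) = g x + g y) ∧ (∀ (c : R) (x : L), g (c • x) = c ^ p • g x) ∧
        ∀ x : L, g x ∈ LieAlgebra.center R L) := by
  constructor
  · rintro ⟨γ', h⟩
    refine ⟨fun x y => ?_, fun c x => ?_, fun x => ?_⟩
    · have := γ'.map_add x y
      rw [h, h, h, γ.map_add] at this
      apply add_left_cancel (a := γ x + γ y - PLie.jacobson R p x y)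
      exact this.trans (by abel)
    · have := γ'.map_smul c x
      rw [h, h, γ.map_smul, smul_add] at this
      exact add_left_cancel this
    · have := γ'.ad_map x
      rw [h, map_add, ← γ.ad_map x, add_eq_left] at this
      intro m
      have h2 := LinearMap.congr_fun this m
      rw [LieAlgebra.ad_apply, LinearMap.zero_apply] at h2
      rw [← lie_skew, h2, neg_zero]
  · rintro ⟨ha, hs, hz⟩
    refine ⟨⟨fun x => γ x + g x, fun c x => ?_, fun x => ?_, fun x y => ?_⟩, fun x => rfl⟩
    · rw [γ.map_smul, hs, smul_add]
    · have : LieAlgebra.ad R L (g x) = 0 := LinearMap.ext fun m => by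
        rw [LieAlgebra.ad_apply, LinearMap.zero_apply, ← lie_skew, hz x m, neg_zero]
      rw [map_add, this, add_zero, γ.ad_map]
    · rw [γ.map_add, ha]; abel

end Groth.Agent.S13772
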