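import Groth.Statements.S13776
import Groth.Agent.PLie.Exist

set_option autoImplicit false
universe u v
open PLie

namespace Groth.Agent.S13776

/-- Let R be a commutative ring of prime characteristic p, t ∈ R, and L a Lie algebra over R, free as a
module with basis x = bs 0, y = bs 1, z = bs 2 and brackets [x,y] = y, [x,z] = t • z, [y,z] = 0.
Then L carries a p-mapping if and only if t ^ p = t. (The published statement is the corresponding
entry of the classification table over an algebraically closed field of characteristic p, where the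
condition reads: t lies in the prime field; this row states it over every commutative ring of
characteristic p.) -/
theorem result (R : Type u) [CommRing R] (p : ℕ) [Fact p.Prime] [CharP R p] (t : R)
    (L : Type v) [LieRing L] [LieAlgebra R L] (bs : Module.Basis (Fin 3) R L)
    (hxy : ⁅bs 0, bs 1⁆ = bs 1) (hxz : ⁅bs 0, bs 2⁆ = t • bs 2) (hyz : ⁅bs 1, bs 2⁆ = 0) :
    Nonempty (PLie.PMap R p L) ↔ t ^ p = t := by
  have e : ∀ n : ℕ, (LieAlgebra.ad R L (bs 0) ^ (n+1)) (bs 0) = 0 ∧
      (LieAlgebra.ad R L (bs 0) ^ (n+1)) (bs 1) = bs 1 ∧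
      (LieAlgebra.ad R L (bs 0) ^ (n+1)) (bs 2) = t ^ (n+1) • bs 2 := by
    intro n
    induction n with
    | zero => simp [hxy, hxz]
    | succ n ih =>
      rw [pow_succ' _ (n+1), Module.End.mul_apply, Module.End.mul_apply, Module.End.mul_apply, ih.1,
        ih.2.1, ih.2.2, map_zero, map_smul, LieAlgebra.ad_apply, LieAlgebra.ad_apply, hxy, hxz,
        smul_smul, ← pow_succ]
      exact ⟨rfl, rfl, rfl⟩
  have hp1 : p - 1 + 1 = p := Nat.sub_add_cancel (Fact.out : p.Prime).one_lt.le
  have e' := e (p - 1)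
  rw [hp1] at e'
  have hnil : ∀ j : Fin 3, j ≠ 0 → LieAlgebra.ad R L (bs j) ^ p = 0 := by
    intro j hj
    have h2 : LieAlgebra.ad R L (bs j) ^ 2 = 0 := by
      refine bs.ext fun i => ?_
      have h10 : ⁅bs 1, bs 0⁆ = -bs 1 := by rw [← lie_skew, hxy]
      have h20 : ⁅bs 2, bs 0⁆ = -(t • bs 2) := by rw [← lie_skew, hxz]
      have h21 : ⁅bs 2, bs 1⁆ = 0 := by rw [← lie_skew, hyz, neg_zero]
      fin_cases j <;> fin_cases i <;> simp_all [pow_two]
    exact pow_eq_zero_of_le (Fact.out : p.Prime).two_le h2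
  rw [Groth.Agent.PLie.Exist.nonempty_pmap_iff bs]
  refine ⟨fun h => ?_, fun ht i => ?_⟩
  · obtain ⟨y, hy⟩ := h 0
    have h1 := LinearMap.congr_fun hy (bs 1)
    have h2 := LinearMap.congr_fun hy (bs 2)
    rw [e'.2.1, LieAlgebra.ad_apply, ← bs.sum_repr y, Fin.sum_univ_three] at h1
    rw [e'.2.2, LieAlgebra.ad_apply, ← bs.sum_repr y, Fin.sum_univ_three] at h2
    have h21 : ⁅bs 2, bs 1⁆ = 0 := by rw [← lie_skew, hyz, neg_zero]
    simp only [add_lie, smul_lie, hxy, hxz, hyz, h21, lie_self, smul_zero, add_zero] at h1 h2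
    have h1' := congrArg (fun z => bs.repr z 1) h1
    have h2' := congrArg (fun z => bs.repr z 2) h2
    simp [Finsupp.single_apply] at h1' h2'
    rw [h2', ← h1', one_mul]
  · by_cases hi : i = 0
    · subst hi
      refine ⟨bs 0, bs.ext fun j => ?_⟩
      fin_cases j <;> simp [e'.1, e'.2.1, e'.2.2, hxy, hxz, ht]
    · exact ⟨0, by rw [hnil i hi, map_zero]⟩

end Groth.Agent.S13776
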