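import Groth.Statements.S13777
import Groth.Agent.PLie.Exist

set_option autoImplicit false
universe u v
open PLie

namespace Groth.Agent.S13777

/-- Let R be a commutative ring of characteristic 2 and L a Lie algebra over R, free as a module with
basis x = bs 0, y = bs 1, z = bs 2 and brackets [x,y] = z, [x,z] = −x, [y,z] = y. Then L carries no
2-mapping. (The published statement is the corresponding entry of the classification table over an
algebraically closed field of characteristic 2; this row states it over every commutative ring of
characteristic 2.) -/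
theorem result (R : Type u) [CommRing R] [CharP R 2]
    (L : Type v) [LieRing L] [LieAlgebra R L] (bs : Module.Basis (Fin 3) R L)
    (hxy : ⁅bs 0, bs 1⁆ = bs 2) (hxz : ⁅bs 0, bs 2⁆ = -bs 0) (hyz : ⁅bs 1, bs 2⁆ = bs 1) :
    IsEmpty (PLie.PMap R 2 L) := by
  refine ⟨fun φ => ?_⟩
  haveI : Nontrivial R := CharP.nontrivial_of_char_ne_one (v := 2) (by decide)
  have h := LinearMap.congr_fun (φ.ad_map (bs 0)) (bs 1)
  rw [pow_two, Module.End.mul_apply, LieAlgebra.ad_apply, LieAlgebra.ad_apply, LieAlgebra.ad_apply, hxy, hxz,
    ← bs.sum_repr (φ (bs 0)), Fin.sum_univ_three] at h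
  have h21 : ⁅bs 2, bs 1⁆ = -bs 1 := by rw [← lie_skew, hyz]
  simp only [add_lie, smul_lie, hxy, h21, lie_self, smul_zero, add_zero] at h
  have h1 := congrArg (fun z => bs.repr z 0) h
  simp [Finsupp.single_apply] at h1

end Groth.Agent.S13777
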