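import Groth.Statements.S13778
import Groth.Agent.PLie.Dim3
import Mathlib.Tactic.LinearCombination
import Mathlib.Algebra.Ring.GeomSum

set_option autoImplicit false
universe u v
open PLie

namespace Groth.Agent.S13778

open DualNumber in
/-- Let K be a field of prime characteristic p, K[ε] the ring of dual numbers (taken with its
characteristic-p structure), t ∈ K with t ^ p = t (an element of the prime field), and a, …, i ∈ K.
Let L be a Lie algebra over K[ε], free as a module with basis x = bs 0, y = bs 1, z = bs 2 and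
brackets [x,y] = aε x + (1 + bε) y + cε z, [x,z] = dε x + eε y + (t + fε) z, [y,z] = gε x + hε y +
iε z. Then L carries a p-mapping over K[ε] if and only if b t = f, c = e = 0 when t = 1, and g = 0
when p = 2. (The published statement determines the singular locus of the restrictable locus in the
centreless stratum of the moduli scheme of based three-dimensional Lie algebras, for t non-zero, and
the rank-one-centre stratum treats t = 0; this row states the restrictability criterion for the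
first-order deformations of l_t that the proofs compute, over any field of characteristic p in place
of the prime field and for every t in the prime field.) -/
theorem result (K : Type u) [Field K] (p : ℕ) [Fact p.Prime] [CharP K p]
    [CharP (DualNumber K) p] (t a b c d e f g h i : K) (ht : t ^ p = t)
    (L : Type v) [LieRing L] [LieAlgebra (DualNumber K) L] (bs : Module.Basis (Fin 3) (DualNumber K) L)
    (hxy : ⁅bs 0, bs 1⁆ = (a • ε : DualNumber K) • bs 0 + (1 + b • ε : DualNumber K) • bs 1 + (c • ε : DualNumber K) • bs 2)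
    (hxz : ⁅bs 0, bs 2⁆ = (d • ε : DualNumber K) • bs 0 + (e • ε : DualNumber K) • bs 1 +
      (algebraMap K (DualNumber K) t + f • ε) • bs 2)
    (hyz : ⁅bs 1, bs 2⁆ = (g • ε : DualNumber K) • bs 0 + (h • ε : DualNumber K) • bs 1 + (i • ε : DualNumber K) • bs 2) :
    Nonempty (PLie.PMap (DualNumber K) p L) ↔ (b * t = f ∧ (t = 1 → c = 0 ∧ e = 0) ∧ (p = 2 → g = 0)) := by
  classical
  open Groth.Agent.PLie.Dim3 in
  have br := lie_vec bs hxy hxz hyz
  open Groth.Agent.PLie.Dim3 in
  have hadd : ∀ x y z x' y' z' : DualNumber K, vec bs x y z + vec bs x' y' z' = vec bs (x+x') (y+y') (z+z') := by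
    intros; simp only [vec, add_smul]; abel
  have hp := (Fact.out : p.Prime)
  open Groth.Agent.PLie.Dim3 in
  have hJ : (1 + t) * g = 0 ∧ d = t * h ∧ i = -(a * t) := by
    have hJ := lie_jacobi (bs 0) (bs 1) (bs 2)
    simp only [basis_zero bs, basis_one bs, basis_two bs, br, hadd] at hJ
    rw [zero_eq bs, vec_inj bs] at hJ
    obtain ⟨j0, j1, j2⟩ := hJ
    have k0 := congrArg TrivSqZeroExt.snd j0
    have k1 := congrArg TrivSqZeroExt.snd j1
    have k2 := congrArg TrivSqZeroExt.snd j2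
    simp [TrivSqZeroExt.algebraMap_eq_inl] at k0 k1 k2
    refine ⟨?_, ?_, ?_⟩
    · linear_combination -k0
    · linear_combination k1
    · linear_combination -k2
  obtain ⟨hg, hd, hi⟩ := hJ
  have hpK : (p : K) = 0 := CharP.cast_eq_zero K p
  have hS : ∀ u : K, (u = c ∨ u = e) → t ≠ 1 → u * ∑ k ∈ Finset.range (p - 1 + 1), t ^ k = u := by
    intro u _ h1
    have := geom_sum_mul t p
    rw [ht] at this
    rw [Nat.sub_add_cancel hp.one_lt.le, mul_right_cancel₀ (sub_ne_zero.mpr h1) (this.trans (one_mul _).symm), mul_one]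
  have hS1 : t = 1 → ∑ k ∈ Finset.range (p - 1 + 1), t ^ k = 0 := by
    intro h1
    simp [h1, Nat.sub_add_cancel hp.one_lt.le, hpK]
  have htp : t ^ (p - 1) * t = t := by rw [← pow_succ, Nat.sub_add_cancel hp.one_lt.le, ht]
  open Groth.Agent.PLie.Dim3 in
  have powx : ∀ n : ℕ,
      (LieAlgebra.ad (DualNumber K) L (vec bs 1 0 0) ^ (n+1)) (vec bs 1 0 0) = vec bs 0 0 0 ∧
      (LieAlgebra.ad (DualNumber K) L (vec bs 1 0 0) ^ (n+1)) (vec bs 0 1 0) =
        vec bs (a • ε) (1 + ((n + 1 : ℕ) * b) • ε) ((c * ∑ k ∈ Finset.range (n+1), t ^ k) • ε) ∧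
      (LieAlgebra.ad (DualNumber K) L (vec bs 1 0 0) ^ (n+1)) (vec bs 0 0 1) =
        vec bs ((d * t ^ n) • ε) ((e * ∑ k ∈ Finset.range (n+1), t ^ k) • ε)
          (algebraMap K (DualNumber K) (t ^ (n+1)) + ((n + 1 : ℕ) * t ^ n * f) • ε) := by
    intro n
    induction n with
    | zero => simp [br, ← zero_eq bs]
    | succ n ih =>
      rw [pow_succ' _ (n+1), Module.End.mul_apply, Module.End.mul_apply, Module.End.mul_apply, ih.1, ih.2.1, ih.2.2,
        LieAlgebra.ad_apply, LieAlgebra.ad_apply, LieAlgebra.ad_apply, br, br, br, vec_inj bs, vec_inj bs, vec_inj bs,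
        geom_sum_succ (n := n + 1)]
      have hgs := geom_sum_succ' (x := t) (n := n + 1)
      rw [geom_sum_succ (n := n + 1)] at hgs
      refine ⟨by simp, ⟨?_, ?_, ?_⟩, ⟨?_, ?_, ?_⟩⟩ <;> ext <;> simp [TrivSqZeroExt.algebraMap_eq_inl] <;>
        first | ring1 | linear_combination -e * hgs
  have px := powx (p - 1)
  rw [Nat.sub_add_cancel hp.one_lt.le] at px
  simp only [hpK, zero_mul, zero_smul, add_zero, ht] at px
  rw [Nat.sub_add_cancel hp.one_lt.le] at hS hS1
  rw [Groth.Agent.PLie.Exist.nonempty_pmap_iff bs]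
  open Groth.Agent.PLie.Dim3 in
  constructor
  · intro H
    obtain ⟨w, hw⟩ := H 0
    rw [← vec_repr bs w, basis_zero bs] at hw
    generalize bs.repr w 0 = α, bs.repr w 1 = β, bs.repr w 2 = γ at hw
    have e0 := LinearMap.congr_fun hw (vec bs 1 0 0)
    have e1 := LinearMap.congr_fun hw (vec bs 0 1 0)
    have e2 := LinearMap.congr_fun hw (vec bs 0 0 1)
    rw [LieAlgebra.ad_apply, br, px.1, vec_inj bs] at e0
    rw [LieAlgebra.ad_apply, br, px.2.1, vec_inj bs] at e1
    rw [LieAlgebra.ad_apply, br, px.2.2, vec_inj bs] at e2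
    simp [TrivSqZeroExt.ext_iff, TrivSqZeroExt.algebraMap_eq_inl] at e0 e1 e2
    obtain ⟨-, ⟨hβ, -⟩, hγt, he0⟩ := e0
    obtain ⟨-, ⟨hα, hα1⟩, -⟩ := id e1
    simp [← hα, hβ] at e1 e2
    refine ⟨?_, fun h1 => ?_, fun h2 => ?_⟩
    · obtain ⟨-, eB, -⟩ := e1
      obtain ⟨-, -, eF⟩ := e2
      have gt : TrivSqZeroExt.fst γ * t = 0 := by rcases hγt with h0 | h0 <;> simp [h0]
      linear_combination eF - t * eB + h * gt
    · subst h1
      simp [hS1] at e1 e2 hγt
      simp [hγt, hS1] at e1 e2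
      exact ⟨e1.2.symm, e2.1.symm⟩
    · subst h2
      obtain ⟨w, hw⟩ := H 1
      rw [← vec_repr bs w, basis_one bs, pow_two] at hw
      generalize bs.repr w 0 = α, bs.repr w 1 = β, bs.repr w 2 = γ at hw
      have f0 := LinearMap.congr_fun hw (vec bs 1 0 0)
      have f1 := LinearMap.congr_fun hw (vec bs 0 1 0)
      have f2 := LinearMap.congr_fun hw (vec bs 0 0 1)
      rw [Module.End.mul_apply, LieAlgebra.ad_apply, LieAlgebra.ad_apply, LieAlgebra.ad_apply, br, br, br, vec_inj bs] at f0 f1 f2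
      simp [TrivSqZeroExt.ext_iff, TrivSqZeroExt.algebraMap_eq_inl] at f0 f1 f2
      obtain ⟨-, ⟨hβ0, -⟩, -⟩ := f0
      obtain ⟨-, ⟨hα0, -⟩, -⟩ := f1
      obtain ⟨-, hg0, -⟩ := f2
      rw [← hα0, hβ0] at hg0
      simpa using hg0
  · rintro ⟨hbf, hce, hg2⟩ j
    have hcS : c * ∑ k ∈ Finset.range p, t ^ k = c := by
      by_cases h1 : t = 1
      · rw [(hce h1).1, zero_mul]
      · exact hS c (Or.inl rfl) h1
    have heS : e * ∑ k ∈ Finset.range p, t ^ k = e := by
      by_cases h1 : t = 1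
      · rw [(hce h1).2, zero_mul]
      · exact hS e (Or.inr rfl) h1
    have hdt : d * t ^ (p - 1) = d := by rw [hd]; linear_combination h * htp
    have hn : ∀ w : L, (p = 2 → ∃ y : L, LieAlgebra.ad (DualNumber K) L w ^ 2 = LieAlgebra.ad (DualNumber K) L y) →
        LieAlgebra.ad (DualNumber K) L w ^ 3 = 0 → ∃ y : L, LieAlgebra.ad (DualNumber K) L w ^ p = LieAlgebra.ad (DualNumber K) L y := by
      intro w h2 h3
      by_cases hp2 : p = 2
      · rw [hp2]; exact h2 hp2
      · exact ⟨0, by rw [map_zero]; exact pow_eq_zero_of_le (by have := hp.two_le; omega) h3⟩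
    fin_cases j
    · refine ⟨vec bs (1 - b • ε) 0 0, ?_⟩
      simp only [Fin.zero_eta, Fin.isValue, basis_zero bs]
      refine end_ext bs ?_ ?_ ?_
      · rw [px.1, LieAlgebra.ad_apply, br, vec_inj bs]
        refine ⟨?_, ?_, ?_⟩ <;> simp
      · rw [px.2.1, LieAlgebra.ad_apply, br, vec_inj bs, hcS]
        refine ⟨?_, ?_, ?_⟩ <;> ext <;> simp
      · rw [px.2.2, LieAlgebra.ad_apply, br, vec_inj bs, heS, hdt]
        refine ⟨?_, ?_, ?_⟩ <;> ext <;> simp [TrivSqZeroExt.algebraMap_eq_inl]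
        linear_combination hbf
    · simp only [Fin.mk_one, Fin.isValue, basis_one bs]
      refine hn _ (fun hp2 => ⟨vec bs 0 (-(a • ε)) 0, ?_⟩) ?_
      · refine end_ext bs ?_ ?_ ?_ <;>
          rw [pow_two, Module.End.mul_apply, LieAlgebra.ad_apply, LieAlgebra.ad_apply, LieAlgebra.ad_apply, br, br, br, vec_inj bs] <;>
          refine ⟨?_, ?_, ?_⟩ <;> ext <;> simp [TrivSqZeroExt.algebraMap_eq_inl, hg2 hp2]
      · refine end_ext bs ?_ ?_ ?_ <;>
          rw [pow_succ, pow_two, Module.End.mul_apply, Module.End.mul_apply, LieAlgebra.ad_apply, LieAlgebra.ad_apply, LieAlgebra.ad_apply, br, br, br, LinearMap.zero_apply, zero_eq bs, vec_inj bs] <;>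
          refine ⟨?_, ?_, ?_⟩ <;> ext <;> simp [TrivSqZeroExt.algebraMap_eq_inl]
    · simp only [Fin.reduceFinMk, Fin.isValue, basis_two bs]
      refine hn _ (fun hp2 => ⟨vec bs 0 0 (-(d • ε)), ?_⟩) ?_
      · refine end_ext bs ?_ ?_ ?_ <;>
          rw [pow_two, Module.End.mul_apply, LieAlgebra.ad_apply, LieAlgebra.ad_apply, LieAlgebra.ad_apply, br, br, br, vec_inj bs] <;>
          refine ⟨?_, ?_, ?_⟩ <;> ext <;> simp [TrivSqZeroExt.algebraMap_eq_inl, hg2 hp2]
      · refine end_ext bs ?_ ?_ ?_ <;>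
          rw [pow_succ, pow_two, Module.End.mul_apply, Module.End.mul_apply, LieAlgebra.ad_apply, LieAlgebra.ad_apply, LieAlgebra.ad_apply, br, br, br, LinearMap.zero_apply, zero_eq bs, vec_inj bs] <;>
          refine ⟨?_, ?_, ?_⟩ <;> ext <;> simp [TrivSqZeroExt.algebraMap_eq_inl]

end Groth.Agent.S13778
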