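import Groth.Statements.S13779
import Groth.Agent.PLie.Exist

set_option autoImplicit false
universe u v
open PLie

namespace Groth.Agent.S13779

/-- Let p be an odd prime, R a commutative ring of characteristic p, t ∈ R, and L a Lie algebra over R,
free as a module with basis x = bs 0, y = bs 1, z = bs 2 and brackets [x,y] = z, [x,z] = t • y,
[y,z] = 0. Then L carries a p-mapping φ with φ x = t ^ ((p - 1) / 2) • x, φ y = 0 and φ z = 0. (The
published statement concerns the Lie algebra with these brackets over a field of Laurent series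
k((t)), k algebraically closed of odd characteristic, t the variable; this row states its
restrictability over every commutative ring of odd prime characteristic and every t.) -/
theorem result (R : Type u) [CommRing R] (p : ℕ) [Fact p.Prime] [CharP R p] (hp : p ≠ 2)
    (t : R) (L : Type v) [LieRing L] [LieAlgebra R L] (bs : Module.Basis (Fin 3) R L)
    (hxy : ⁅bs 0, bs 1⁆ = bs 2) (hxz : ⁅bs 0, bs 2⁆ = t • bs 1) (hyz : ⁅bs 1, bs 2⁆ = 0) :
    ∃ φ : PLie.PMap R p L, φ (bs 0) = t ^ ((p - 1) / 2) • bs 0 ∧ φ (bs 1) = 0 ∧ φ (bs 2) = 0 := by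
  obtain ⟨m, hm⟩ := (Fact.out : p.Prime).odd_of_ne_two hp
  have hxx : ∀ n : ℕ, LieAlgebra.ad R L (bs 0) ^ (2 * n + 1) = t ^ n • LieAlgebra.ad R L (bs 0) := by
    have h3 : LieAlgebra.ad R L (bs 0) ^ 3 = t • LieAlgebra.ad R L (bs 0) := by
      refine bs.ext fun i => ?_
      fin_cases i <;> simp [pow_succ, hxy, hxz]
    intro n
    induction n with
    | zero => simp
    | succ n ih =>
      rw [show 2 * (n + 1) + 1 = 2 * n + 1 + 2 by ring, pow_add, ih, smul_mul_assoc, ← pow_succ', h3,
        smul_smul, ← pow_succ]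
  have h10 : ⁅bs 1, bs 0⁆ = -bs 2 := by rw [← lie_skew, hxy]
  have h20 : ⁅bs 2, bs 0⁆ = -(t • bs 1) := by rw [← lie_skew, hxz]
  have h21 : ⁅bs 2, bs 1⁆ = 0 := by rw [← lie_skew, hyz, neg_zero]
  have hnil : ∀ j : Fin 3, j ≠ 0 → LieAlgebra.ad R L (bs j) ^ p = 0 := by
    intro j hj
    have h2 : LieAlgebra.ad R L (bs j) ^ 2 = 0 := by
      refine bs.ext fun i => ?_
      fin_cases j <;> fin_cases i <;> simp_all [pow_two]
    exact pow_eq_zero_of_le (Fact.out : p.Prime).two_le h2
  obtain ⟨φ, hφ⟩ := Groth.Agent.PLie.Exist.exists_pmap (p := p) bs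
    ![t ^ ((p - 1) / 2) • bs 0, 0, 0] fun i => by
      fin_cases i
      · have h := hxx m
        rw [← hm] at h
        simp [h, show (p - 1) / 2 = m by omega]
      · simpa using hnil 1 (by decide)
      · simpa using hnil 2 (by decide)
  exact ⟨φ, by simpa using hφ 0, by simpa using hφ 1, by simpa using hφ 2⟩

end Groth.Agent.S13779
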