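import Groth.Statements.S13780
import Groth.Agent.PLie.Exist

set_option autoImplicit false
universe u v w
open PLie

namespace Groth.Agent.S13780

/-- Let R be a commutative ring of prime characteristic p, L and L' Lie algebras over R with p-mappings
γ and γ', the centre of L' being zero, and φ : L ≃ L' an isomorphism of Lie algebras over R. Then φ
(γ x) = γ' (φ x) for every x: φ is an isomorphism of p-Lie algebras. (The published statement is the
case L' = L of a centreless restrictable Lie algebra over a field with its unique p-mapping and a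
Lie algebra automorphism; this row allows two algebras and any commutative base ring of
characteristic p.) -/
theorem result (R : Type u) [CommRing R] (p : ℕ) [Fact p.Prime] [CharP R p]
    (L : Type v) [LieRing L] [LieAlgebra R L] (L' : Type w) [LieRing L'] [LieAlgebra R L']
    (γ : PLie.PMap R p L) (γ' : PLie.PMap R p L') (hZ : LieAlgebra.center R L' = ⊥) (φ : L ≃ₗ⁅R⁆ L') :
    PLie.IsPHom γ γ' φ.toLieHom := by
  intro x
  refine sub_eq_zero.mp (?_ : φ.toLieHom (γ x) - γ' (φ.toLieHom x) = 0)
  rw [← LieSubmodule.mem_bot (R := R) (L := L') (M := L'), ← hZ, LieModule.mem_maxTrivSubmodule]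
  intro m
  obtain ⟨n, rfl⟩ : ∃ n, φ.toLieHom n = m := ⟨φ.symm m, φ.apply_symm_apply m⟩
  have key : ∀ (k : ℕ), φ.toLieHom ((LieAlgebra.ad R L x ^ k) n) =
      (LieAlgebra.ad R L' (φ.toLieHom x) ^ k) (φ.toLieHom n) := by
    intro k
    induction k with
    | zero => rfl
    | succ k ih => rw [pow_succ', pow_succ', Module.End.mul_apply, Module.End.mul_apply, ← ih,
        LieAlgebra.ad_apply, LieAlgebra.ad_apply, LieHom.map_lie]
  rw [← lie_skew, sub_lie, ← LieHom.map_lie, ← LieAlgebra.ad_apply R, ← LieAlgebra.ad_apply R,
    γ.ad_map, γ'.ad_map, key, sub_self, neg_zero]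

end Groth.Agent.S13780
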