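import Groth.Statements.S13781
import Groth.Agent.Lead.CyclicCover.Root
import Groth.Agent.RegularLocal.Basic

set_option autoImplicit false
universe u
open CAlg

namespace Groth.Agent.S13781

/-- Let A be a regular local ring, s a non-zero element of A such that A/(s) is regular, and e a
positive integer invertible in A. Then A[t]/(t^e - s) is regular. (Regularity of a ring is taken
throughout as: Noetherian, with every localization at a prime ideal a regular local ring; the
hypotheses on A and on A/(s) and the conclusion on A[t]/(t^e - s) are all read this way, which for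
the local rings A and A/(s) is the usual notion once localizations of regular local rings are known
to be regular.) -/
theorem result (A : Type u) [CommRing A] [IsLocalRing A]
    [IsRegularRing A] (s : A) (hs : s ≠ 0) (hreg : IsRegularRing (A ⧸ Ideal.span {s}))
    (e : ℕ) (he : 0 < e) (heu : IsUnit (e : A)) :
    IsRegularRing (AdjoinRoot (Polynomial.X ^ e - Polynomial.C s)) := by
  haveI : IsRegularLocalRing A := IsRegularLocalRing.of_isRegularRing_of_isLocalRing A
  haveI : IsDomain A := Groth.Agent.RegularLocal.Basic.isDomain
  let p : Polynomial A := Polynomial.X ^ e - Polynomial.C s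
  have hp : p.Monic := Polynomial.monic_X_pow_sub_C s he.ne'
  haveI : Module.Finite A (AdjoinRoot p) := hp.finite_adjoinRoot
  haveI : Module.Free A (AdjoinRoot p) := hp.free_adjoinRoot
  haveI : IsNoetherianRing (AdjoinRoot p) := IsNoetherianRing.of_finite A _
  have hr : (AdjoinRoot.root p) ^ e = algebraMap A (AdjoinRoot p) s := by
    have := AdjoinRoot.aeval_eq (f := p) p
    rwa [AdjoinRoot.mk_self, map_sub, map_pow, Polynomial.aeval_X, Polynomial.aeval_C, sub_eq_zero] at this
  have hsnz : algebraMap A (AdjoinRoot p) s ∈ nonZeroDivisors (AdjoinRoot p) := by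
    rw [mem_nonZeroDivisors_iff_right]
    intro x hx
    rw [mul_comm, ← Algebra.smul_def] at hx
    exact (smul_eq_zero.1 hx).resolve_left hs
  have hrnz : AdjoinRoot.root p ∈ nonZeroDivisors (AdjoinRoot p) := by
    rw [← hr] at hsnz
    rw [mem_nonZeroDivisors_iff_right] at hsnz ⊢
    intro x hx
    refine hsnz x ?_
    obtain ⟨d, hd⟩ : ∃ d, e = d + 1 := ⟨e - 1, by omega⟩
    rw [hd, pow_succ, mul_comm _ (AdjoinRoot.root p), ← mul_assoc, hx, zero_mul]
  rw [isRegularRing_iff]
  intro Q hQ
  by_cases hrQ : AdjoinRoot.root p ∈ Q
  · haveI := hreg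
    haveI := Groth.Agent.Lead.CyclicCover.isRegularRing_quotient_root e he s
    exact Groth.Agent.Lead.CyclicCover.regular_localization_of_quotient _ hrnz Q hrQ
  · refine Groth.Agent.Lead.CyclicCover.regular_localization_adjoinRoot p hp Q ?_
    rw [Groth.Agent.Lead.CyclicCover.aeval_derivative_X_pow_sub_C]
    intro h
    rcases hQ.mem_or_mem h with h1 | h1
    · have h2 := heu.map (algebraMap A (AdjoinRoot p))
      rw [map_natCast] at h2
      exact hQ.ne_top (Ideal.eq_top_of_isUnit_mem _ h1 h2)
    · exact hrQ (hQ.mem_of_pow_mem _ h1)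

end Groth.Agent.S13781
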