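import Groth.Statements.S13782
import Groth.Agent.RegularLocal.Basic
import Groth.Agent.ModStalk.SmoothRegular
import Mathlib.Algebra.TrivSqZeroExt.Basic

set_option autoImplicit false
universe u
open CAlg

namespace Groth.Agent.S13782

open Polynomial in
theorem formallySmooth_of_derivation {k R S : Type u} [CommRing k] [CommRing R] [CommRing S] [Algebra k R]
    [Algebra k S] [Algebra R S] [IsScalarTower k R S] [Algebra.FormallySmooth k R]
    (surj : Function.Surjective (algebraMap R S)) (f : R)
    (hker : RingHom.ker (algebraMap R S) = Ideal.span {f})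
    (D : Derivation k R S) (hD : D f = 1) : Algebra.FormallySmooth k S := by
  rw [Algebra.FormallySmooth.iff_split_injection surj]
  have hf : f ∈ RingHom.ker (algebraMap R S) := by rw [hker]; exact Ideal.mem_span_singleton_self f
  let c : (RingHom.ker (algebraMap R S)).Cotangent := Ideal.toCotangent _ ⟨f, hf⟩
  let l : TensorProduct R S Ω[R⁄k] →ₗ[R] S :=
    (LinearMap.liftBaseChange S D.liftKaehlerDifferential).restrictScalars R
  let T : S →ₗ[R] (RingHom.ker (algebraMap R S)).Cotangent :=
    { toFun := fun s => Function.surjInv surj s • c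
      map_add' := fun a b => by
        rw [← add_smul, ← sub_eq_zero, ← sub_smul]
        set d := Function.surjInv surj (a + b) - (Function.surjInv surj a + Function.surjInv surj b)
        have hd : d ∈ RingHom.ker (algebraMap R S) := by
          simp [d, RingHom.mem_ker, Function.surjInv_eq surj]
        rw [← map_smul, Ideal.toCotangent_eq_zero]
        simpa [pow_two] using Ideal.mul_mem_mul hd hf
      map_smul' := fun r a => by
        rw [RingHom.id_apply, ← mul_smul, ← sub_eq_zero, ← sub_smul]
        set d := Function.surjInv surj (r • a) - r * Function.surjInv surj a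
        have hd : d ∈ RingHom.ker (algebraMap R S) := by
          simp [d, RingHom.mem_ker, Function.surjInv_eq surj, Algebra.smul_def]
        rw [← map_smul, Ideal.toCotangent_eq_zero]
        simpa [pow_two] using Ideal.mul_mem_mul hd hf }
  refine ⟨T ∘ₗ l, LinearMap.ext fun y => ?_⟩
  obtain ⟨⟨y, hy⟩, rfl⟩ := Ideal.toCotangent_surjective _ y
  obtain ⟨r, hr⟩ := Ideal.mem_span_singleton'.1 (hker.le hy)
  subst hr
  have e : (⟨r * f, hy⟩ : RingHom.ker (algebraMap R S)) = r • ⟨f, hf⟩ := rfl
  have h1 : l ((1 : S) ⊗ₜ[R] (KaehlerDifferential.D k R f)) = 1 := by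
    simp [l, hD]
  have h2 : KaehlerDifferential.kerCotangentToTensor k R S c = (1 : S) ⊗ₜ[R] (KaehlerDifferential.D k R f) :=
    KaehlerDifferential.kerCotangentToTensor_toCotangent _ _ _ _
  change T (l (KaehlerDifferential.kerCotangentToTensor k R S (Ideal.toCotangent _ ⟨r * f, hy⟩))) = _
  rw [e, map_smul, map_smul, map_smul, map_smul, h2, h1, LinearMap.id_apply]
  change r • (Function.surjInv surj 1 • c) = r • c
  have hd : Function.surjInv surj 1 - 1 ∈ RingHom.ker (algebraMap R S) := by
    simp [RingHom.mem_ker, Function.surjInv_eq surj]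
  have : (Function.surjInv surj 1 - 1) • c = 0 := by
    rw [← map_smul, Ideal.toCotangent_eq_zero]
    simpa [pow_two] using Ideal.mul_mem_mul hd hf
  rw [sub_smul, sub_eq_zero, one_smul] at this
  rw [this]

theorem exists_derivation_of_formallySmooth {k R S : Type u} [CommRing k] [CommRing R] [CommRing S] [Algebra k R]
    [Algebra k S] [Algebra R S] [IsScalarTower k R S] [Algebra.FormallySmooth k R]
    (surj : Function.Surjective (algebraMap R S)) (f : R) (hnz : f ∈ nonZeroDivisors R)
    (hker : RingHom.ker (algebraMap R S) = Ideal.span {f})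
    [Algebra.FormallySmooth k S] : ∃ D : Derivation k R S, D f = 1 := by
  obtain ⟨σ, hσ⟩ := (Algebra.FormallySmooth.iff_split_injection surj).1 ‹Algebra.FormallySmooth k S›
  have hf : f ∈ RingHom.ker (algebraMap R S) := by rw [hker]; exact Ideal.mem_span_singleton_self f
  let m : R →ₗ[R] (RingHom.ker (algebraMap R S)).Cotangent :=
    LinearMap.toSpanSingleton R _ (Ideal.toCotangent _ ⟨f, hf⟩)
  have hm : Function.Surjective m := fun y => by
    obtain ⟨⟨y, hy⟩, rfl⟩ := Ideal.toCotangent_surjective _ y
    obtain ⟨r, hr⟩ := Ideal.mem_span_singleton'.1 (hker.le hy)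
    subst hr
    exact ⟨r, by simp only [m, LinearMap.toSpanSingleton_apply, ← map_smul]; rfl⟩
  have hmk : LinearMap.ker m ≤ LinearMap.ker (Algebra.linearMap R S) := by
    intro r hr
    rw [LinearMap.mem_ker] at hr ⊢
    simp only [m, LinearMap.toSpanSingleton_apply, ← map_smul, Ideal.toCotangent_eq_zero] at hr
    have hr' : r * f ∈ RingHom.ker (algebraMap R S) ^ 2 := hr
    rw [hker, Ideal.span_singleton_pow, Ideal.mem_span_singleton'] at hr'
    obtain ⟨a, ha⟩ := hr'
    have hra : r = a * f := by
      refine (mul_cancel_right_mem_nonZeroDivisors hnz).1 ?_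
      linear_combination -ha
    change algebraMap R S r = 0
    rw [hra, map_mul, RingHom.mem_ker.1 hf, mul_zero]
  let ψ : (RingHom.ker (algebraMap R S)).Cotangent →ₗ[R] S :=
    Submodule.liftQ _ (Algebra.linearMap R S) hmk ∘ₗ (m.quotKerEquivOfSurjective hm).symm.toLinearMap
  have hψ : ψ (Ideal.toCotangent _ ⟨f, hf⟩) = 1 := by
    have h : (m.quotKerEquivOfSurjective hm).symm (Ideal.toCotangent _ ⟨f, hf⟩) = Submodule.Quotient.mk 1 := by
      rw [LinearEquiv.symm_apply_eq]
      exact (one_smul R _).symm
    change Submodule.liftQ _ (Algebra.linearMap R S) hmk ((m.quotKerEquivOfSurjective hm).symm _) = 1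
    rw [h, Submodule.liftQ_apply, Algebra.linearMap_apply, map_one]
  refine ⟨((ψ ∘ₗ σ) ∘ₗ TensorProduct.mk R S Ω[R⁄k] 1).compDer (KaehlerDifferential.D k R), ?_⟩
  have h2 := KaehlerDifferential.kerCotangentToTensor_toCotangent k R S ⟨f, hf⟩
  have h3 := LinearMap.congr_fun hσ (Ideal.toCotangent _ ⟨f, hf⟩)
  rw [LinearMap.comp_apply, h2, LinearMap.id_apply] at h3
  change ψ (σ ((1 : S) ⊗ₜ[R] KaehlerDifferential.D k R f)) = 1
  rw [h3, hψ]

theorem ann_eq_bot_of_irreducible {A : Type u} [CommRing A] [IsRegularRing A] (s : A) (hs : Irreducible s) :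
    s ∈ nonZeroDivisors A := by
  let I : Ideal A := (Submodule.span A {s}).annihilator
  have hI : ∀ x, x ∈ I ↔ x * s = 0 := fun x => by simp [I, Submodule.mem_annihilator_span_singleton]
  let J : Ideal A := (I : Submodule A A).annihilator
  have hJ : ∀ x, x ∈ J ↔ ∀ y ∈ I, x * y = 0 := fun x => Submodule.mem_annihilator
  have htop : I ⊔ J = ⊤ := by
    by_contra h
    obtain ⟨q, hq, hle⟩ := Ideal.exists_le_maximal _ h
    haveI : IsRegularLocalRing (Localization.AtPrime q) := IsRegularRing.isRegularLocalRing_localization q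
    haveI := Groth.Agent.RegularLocal.Basic.isDomain (R := Localization.AtPrime q)
    by_cases hs0 : algebraMap A (Localization.AtPrime q) s = 0
    · obtain ⟨⟨m, hm⟩, hms⟩ := (IsLocalization.map_eq_zero_iff q.primeCompl _ s).1 hs0
      exact hm (hle (Ideal.mem_sup_left ((hI m).2 hms)))
    · obtain ⟨T, hT⟩ := IsNoetherian.noetherian I
      have hx : ∀ x ∈ I, ∃ m ∉ q, m * x = 0 := fun x hx => by
        have h0 : algebraMap A (Localization.AtPrime q) x = 0 := by
          have := congrArg (algebraMap A (Localization.AtPrime q)) ((hI x).1 hx)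
          rw [map_mul, map_zero] at this
          exact (mul_eq_zero.1 this).resolve_right hs0
        obtain ⟨⟨m, hm⟩, hms⟩ := (IsLocalization.map_eq_zero_iff q.primeCompl _ x).1 h0
        exact ⟨m, hm, hms⟩
      classical
      have hT' : ∀ S' : Finset A, (∀ x ∈ S', x ∈ I) → ∃ m ∉ q, ∀ x ∈ S', m * x = 0 := by
        intro S'
        induction S' using Finset.induction with
        | empty => exact fun _ => ⟨1, q.primeCompl.one_mem, by simp⟩
        | insert x S' _ ih =>
          intro h'
          obtain ⟨m, hm, hm'⟩ := ih fun y hy => h' y (Finset.mem_insert_of_mem hy)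
          obtain ⟨n, hn, hn'⟩ := hx x (h' x (Finset.mem_insert_self _ _))
          refine ⟨m * n, q.primeCompl.mul_mem hm hn, fun y hy => ?_⟩
          rcases Finset.mem_insert.1 hy with rfl | hy
          · rw [mul_assoc, hn', mul_zero]
          · rw [mul_right_comm, hm' y hy, zero_mul]
      obtain ⟨m, hm, hm'⟩ := hT' T fun x hx => hT ▸ Submodule.subset_span hx
      refine hm (hle (Ideal.mem_sup_right ((hJ m).2 fun y hy => ?_)))
      rw [← hT] at hy
      induction hy using Submodule.span_induction with
      | mem x hx => exact hm' x hx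
      | zero => simp
      | add a b _ _ ha hb => rw [mul_add, ha, hb, add_zero]
      | smul a b _ hb => rw [smul_eq_mul, mul_left_comm, hb, mul_zero]
  obtain ⟨u, hu, v, hv, huv⟩ := Submodule.mem_sup.1 (htop ▸ Submodule.mem_top : (1 : A) ∈ I ⊔ J)
  have hsv : s = s * v := by
    have : s = s * (u + v) := by rw [huv, mul_one]
    rwa [mul_add, mul_comm s u, (hI u).1 hu, zero_add] at this
  have hv' : IsUnit v := (hs.isUnit_or_isUnit hsv).resolve_left hs.not_isUnit
  rw [mem_nonZeroDivisors_iff_right]
  intro x hx
  exact hv'.mul_right_eq_zero.1 ((hJ v).1 hv x ((hI x).2 hx))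

/-- extend a derivation to a polynomial ring -/
theorem exists_derivation_polynomial {k A B : Type u} [CommRing k] [CommRing A] [CommRing B] [Algebra k A]
    [Algebra k B] [Algebra A B] [IsScalarTower k A B] [Algebra (Polynomial A) B]
    [IsScalarTower A (Polynomial A) B] (d : Derivation k A B) (c : B) :
    ∃ D : Derivation k (Polynomial A) B, ∀ (n : ℕ) (s : A), D (Polynomial.X ^ n - Polynomial.C s) =
      (n : B) * (algebraMap (Polynomial A) B Polynomial.X) ^ (n - 1) * c - d s := by
  let g : A →+* TrivSqZeroExt B B :=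
    { toFun := fun a => TrivSqZeroExt.inl (algebraMap A B a) + TrivSqZeroExt.inr (d a)
      map_one' := by ext <;> simp
      map_mul' := fun a b => by
        ext
        · simp
        · simp [Algebra.smul_def, mul_comm]
      map_zero' := by ext <;> simp
      map_add' := fun a b => by ext <;> simp }
  let t : B := algebraMap (Polynomial A) B Polynomial.X
  let G : Polynomial A →+* TrivSqZeroExt B B := Polynomial.eval₂RingHom g (TrivSqZeroExt.inl t + TrivSqZeroExt.inr c)
  have hfst : ∀ p, (G p).fst = algebraMap (Polynomial A) B p := by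
    intro p
    induction p using Polynomial.induction_on' with
    | add p q hp hq => simp [map_add, hp, hq]
    | monomial n a =>
      rw [← Polynomial.C_mul_X_pow_eq_monomial, map_mul (algebraMap (Polynomial A) B), map_pow (algebraMap (Polynomial A) B),
        ← Polynomial.algebraMap_eq, ← IsScalarTower.algebraMap_apply]
      simp [G, g, t]
  have hk : ∀ (r : k), (G (algebraMap k (Polynomial A) r)).snd = 0 := fun r => by
    simp [G, g, Polynomial.algebraMap_apply, Derivation.map_algebraMap]
  let L : Polynomial A →ₗ[k] B :=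
    { toFun := fun p => (G p).snd
      map_add' := fun p q => by simp
      map_smul' := fun r p => by
        rw [Algebra.smul_def, map_mul, TrivSqZeroExt.snd_mul, hk, hfst, RingHom.id_apply]
        simp [Algebra.smul_def, ← IsScalarTower.algebraMap_apply]
        rw [IsScalarTower.algebraMap_apply k A B, IsScalarTower.algebraMap_apply A (Polynomial A) B]
        rfl }
  refine ⟨Derivation.mk' L fun p q => ?_, fun n s => ?_⟩
  · change (G (p * q)).snd = p • (G q).snd + q • (G p).snd
    rw [map_mul, TrivSqZeroExt.snd_mul, hfst, hfst]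
    simp [Algebra.smul_def, mul_comm]
  · change (G (Polynomial.X ^ n - Polynomial.C s)).snd = _
    simp [G, g, TrivSqZeroExt.snd_pow, t, nsmul_eq_mul, mul_assoc]

/-- Let k be a field, A a smooth k-algebra, s an irreducible element of A and e an integer, at least 2,
that is invertible in k. Then the k-algebra A[t]/(t^e - s) is smooth exactly when the quotient ring
A/(s) is a smooth k-algebra. (Smooth over k means formally smooth and of finite presentation over
k.) -/
theorem result (k A : Type u) [Field k] [CommRing A] [Algebra k A]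
    [Algebra.Smooth k A] (s : A) (hs : Irreducible s) (e : ℕ) (he : 2 ≤ e) (hek : (e : k) ≠ 0) :
    Algebra.Smooth k (AdjoinRoot (Polynomial.X ^ e - Polynomial.C s)) ↔
      Algebra.Smooth k (A ⧸ Ideal.span {s}) := by
  haveI : Algebra.FormallySmooth k A := inferInstance
  haveI : IsRegularRing A := Groth.Agent.ModStalk.isRegularRing_of_smooth k A
  have hsz : s ∈ nonZeroDivisors A := ann_eq_bot_of_irreducible s hs
  let f : Polynomial A := Polynomial.X ^ e - Polynomial.C s
  let B := Polynomial A ⧸ Ideal.span {f}
  let C₀ := A ⧸ Ideal.span {s}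
  haveI : Algebra.FormallySmooth k (Polynomial A) := Algebra.FormallySmooth.comp k A (Polynomial A)
  haveI : Algebra.FinitePresentation k (Polynomial A) := Algebra.FinitePresentation.trans k A (Polynomial A)
  have hBsurj : Function.Surjective (algebraMap (Polynomial A) B) := Ideal.Quotient.mk_surjective
  have hCsurj : Function.Surjective (algebraMap A C₀) := Ideal.Quotient.mk_surjective
  have hBker : RingHom.ker (algebraMap (Polynomial A) B) = Ideal.span {f} := Ideal.mk_ker
  have hCker : RingHom.ker (algebraMap A C₀) = Ideal.span {s} := Ideal.mk_ker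
  let eqv : B ≃ₐ[k] AdjoinRoot f := AlgEquiv.ofRingEquiv (f := (RingEquiv.refl B : B ≃+* AdjoinRoot f))
    (fun r => rfl)
  let t : B := algebraMap (Polynomial A) B Polynomial.X
  have hts : t ^ e = algebraMap A B s := by
    rw [← sub_eq_zero, IsScalarTower.algebraMap_apply A (Polynomial A) B, ← map_pow, ← map_sub]
    exact Ideal.Quotient.eq_zero_iff_mem.2 (Ideal.mem_span_singleton_self f)
  let χ : B →+* C₀ := Ideal.Quotient.lift _ ((Ideal.Quotient.mk _).comp (Polynomial.evalRingHom 0)) (by
    intro a ha
    obtain ⟨b, rfl⟩ := Ideal.mem_span_singleton'.1 ha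
    simp [f, zero_pow (show e ≠ 0 by omega), C₀])
  have hχA : ∀ a : A, χ (algebraMap A B a) = algebraMap A C₀ a := fun a => by
    rw [IsScalarTower.algebraMap_apply A (Polynomial A) B]
    simp [χ, Polynomial.algebraMap_eq, C₀, B]
  let χA : B →ₐ[A] C₀ := ⟨χ, hχA⟩
  have hχt : χ t = 0 := by simp [χ, t, C₀, B]
  constructor
  · intro h
    haveI : Algebra.Smooth k B := Algebra.Smooth.of_equiv eqv.symm
    haveI : Algebra.FormallySmooth k B := inferInstance
    obtain ⟨D, hD⟩ := exists_derivation_of_formallySmooth (k := k) hBsurj f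
      (Polynomial.Monic.mem_nonZeroDivisors (Polynomial.monic_X_pow_sub_C s (by omega))) hBker
    let d : Derivation k A C₀ := χA.toLinearMap.compDer (-(D.compAlgebraMap A))
    have hd : d s = 1 := by
      have h1 : D f = 1 := hD
      simp only [f, map_sub, Derivation.leibniz_pow, Algebra.smul_def, map_pow, map_natCast, nsmul_eq_mul] at h1
      have h2 := congrArg χ h1
      simp only [map_sub, map_mul, map_pow, hχt, map_one, map_natCast, zero_pow (show e - 1 ≠ 0 by omega),
        mul_zero, zero_mul, zero_sub] at h2
      change χ (-(D (algebraMap A (Polynomial A) s))) = 1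
      rw [map_neg, Polynomial.algebraMap_eq]
      simp only [show χ ((algebraMap (Polynomial A) B) Polynomial.X) = 0 from hχt,
        zero_pow (show e - 1 ≠ 0 by omega), zero_mul, mul_zero, zero_sub] at h2
      exact h2
    haveI : Algebra.FormallySmooth k C₀ := formallySmooth_of_derivation (k := k) hCsurj s hCker d hd
    haveI : Algebra.FinitePresentation k C₀ :=
      Algebra.FinitePresentation.quotient ⟨{s}, by simp⟩
    exact ⟨inferInstance, inferInstance⟩
  · intro h
    haveI : Algebra.FormallySmooth k C₀ := h.formallySmooth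
    obtain ⟨d, hd⟩ := exists_derivation_of_formallySmooth (k := k) hCsurj s hsz hCker
    haveI : Module.Projective A Ω[A⁄k] := inferInstance
    obtain ⟨φ, hφ⟩ := Module.projective_lifting_property χA.toLinearMap d.liftKaehlerDifferential
      (fun y => by obtain ⟨a, rfl⟩ := hCsurj y; exact ⟨algebraMap A B a, hχA a⟩)
    let u : B := φ (KaehlerDifferential.D k A s)
    have hu : χ u = 1 := by
      have := LinearMap.congr_fun hφ (KaehlerDifferential.D k A s)
      rw [d.liftKaehlerDifferential_comp_D, hd] at this
      exact this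
    have hu' : u - 1 ∈ Ideal.span {t} := by
      obtain ⟨p, hp⟩ := hBsurj (u - 1)
      have h0 : χ (u - 1) = 0 := by rw [map_sub, hu, map_one, sub_self]
      rw [← hp] at h0 ⊢
      have h0' : (Ideal.Quotient.mk (Ideal.span {s})) (p.eval 0) = 0 := h0
      obtain ⟨a, ha⟩ := Ideal.mem_span_singleton'.1 (Ideal.Quotient.eq_zero_iff_mem.1 h0')
      rw [← Polynomial.X_mul_divX_add p, map_add, map_mul, ← Polynomial.algebraMap_eq,
        ← IsScalarTower.algebraMap_apply, Polynomial.coeff_zero_eq_eval_zero, ← ha, map_mul, ← hts,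
        ← Nat.sub_add_cancel (show 1 ≤ e by omega), pow_succ, ← mul_assoc]
      exact Ideal.add_mem _ (Ideal.mul_mem_right _ _ (Ideal.mem_span_singleton_self t))
        (Ideal.mul_mem_left _ _ (Ideal.mem_span_singleton_self t))
    obtain ⟨b, hb⟩ := Ideal.mem_span_singleton'.1 hu'
    have hcop : IsCoprime (t ^ (e - 1)) u := by
      refine IsCoprime.pow_left ⟨-b, 1, ?_⟩
      linear_combination -hb
    obtain ⟨a₁, a₂, ha⟩ := hcop
    have he' : IsUnit (e : B) := by
      have := (IsUnit.mk0 _ hek).map (algebraMap k B)
      rwa [map_natCast] at this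
    obtain ⟨ei, hei⟩ := he'.exists_right_inv
    let dB : Derivation k A B := (-a₂) • φ.compDer (KaehlerDifferential.D k A)
    obtain ⟨D, hD⟩ := exists_derivation_polynomial dB (ei * a₁)
    have hDf : D f = 1 := by
      rw [hD]
      change (e : B) * t ^ (e - 1) * (ei * a₁) - (-a₂) • u = 1
      rw [smul_eq_mul]
      linear_combination ha + (t ^ (e - 1) * a₁) * hei
    haveI : Algebra.FormallySmooth k B := formallySmooth_of_derivation (k := k) hBsurj f hBker D hDf
    haveI : Algebra.FinitePresentation k B := Algebra.FinitePresentation.quotient ⟨{f}, by simp⟩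
    haveI : Algebra.Smooth k B := ⟨inferInstance, inferInstance⟩
    exact Algebra.Smooth.of_equiv eqv

end Groth.Agent.S13782
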