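import Groth.Statements.S13784
import Mathlib
-- import your own Groth.Agent.* helpers here

set_option autoImplicit false
universe u
open CAlg

namespace Groth.Agent.S13784

/-- Let A be a commutative local ring and G a finite subgroup of Aˣ. If the order of G is invertible in
A, then G is cyclic. -/
theorem result {A : Type u} [CommRing A] [IsLocalRing A]
    (G : Subgroup Aˣ) [Finite G] (hG : IsUnit ((Nat.card G : ℕ) : A)) : IsCyclic G := by
  classical
  haveI := Fintype.ofFinite G
  let φ : G →* IsLocalRing.ResidueField A :=
    (IsLocalRing.residue A).toMonoidHom.comp ((Units.coeHom A).comp G.subtype)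
  refine isCyclic_of_subgroup_isDomain φ fun a b hab => ?_
  suffices H : ∀ c : G, φ c = 1 → c = 1 by
    refine mul_inv_eq_one.mp (H _ ?_)
    rw [map_mul, hab, ← map_mul, mul_inv_cancel, map_one]
  intro c hc
  let n := Nat.card G
  let x : A := ((c : Aˣ) : A)
  have hx : IsLocalRing.residue A x = 1 := hc
  have hxn : x ^ n = 1 := by
    show ((c : Aˣ) : A) ^ n = 1
    rw [← Units.val_pow_eq_pow_val, ← SubgroupClass.coe_pow, pow_card_eq_one', OneMemClass.coe_one, Units.val_one]
  have hu : IsUnit (∑ i ∈ Finset.range n, x ^ i) := by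
    rw [← isUnit_map_iff (IsLocalRing.residue A), map_sum]
    simp only [map_pow, hx, one_pow, Finset.sum_const, Finset.card_range, nsmul_eq_mul, mul_one]
    simpa [n] using hG.map (IsLocalRing.residue A)
  have h1 : (x - 1) * ∑ i ∈ Finset.range n, x ^ i = 0 := by rw [mul_geom_sum, hxn, sub_self]
  have : x = 1 := sub_eq_zero.mp ((hu.mul_left_eq_zero).mp h1)
  exact Subtype.ext (Units.ext this)

end Groth.Agent.S13784
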