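import Groth.Statements.S13785
import Mathlib
-- import your own Groth.Agent.* helpers here

set_option autoImplicit false
universe u
open CAlg

namespace Groth.Agent.S13785

/-- For any commutative ring A, the determinant of the generic n × n matrix is a nonzerodivisor of the
polynomial ring over A in the n² matrix entries. -/
theorem result (A : Type u) [CommRing A] (n : ℕ) :
    (Matrix.mvPolynomialX (Fin n) (Fin n) A).det ∈ nonZeroDivisors (MvPolynomial (Fin n × Fin n) A) := by
  classical
  let δ : Fin n × Fin n → Polynomial (MvPolynomial (Fin n × Fin n) A) := fun ij => Polynomial.C (if ij.1 = ij.2 then (1 : MvPolynomial (Fin n × Fin n) A) else 0) * Polynomial.X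
  let φ : Polynomial (MvPolynomial (Fin n × Fin n) A) →+* Polynomial (MvPolynomial (Fin n × Fin n) A) := Polynomial.eval₂RingHom
    (MvPolynomial.eval₂Hom (Polynomial.C.comp MvPolynomial.C) fun ij => Polynomial.C (MvPolynomial.X ij) + δ ij) Polynomial.X
  let ψ : Polynomial (MvPolynomial (Fin n × Fin n) A) →+* Polynomial (MvPolynomial (Fin n × Fin n) A) := Polynomial.eval₂RingHom
    (MvPolynomial.eval₂Hom (Polynomial.C.comp MvPolynomial.C) fun ij => Polynomial.C (MvPolynomial.X ij) - δ ij) Polynomial.X
  have hψφ : ψ.comp φ = RingHom.id _ := by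
    apply Polynomial.ringHom_ext'
    · apply MvPolynomial.ringHom_ext
      · intro a; simp [φ, ψ]
      · intro ij; by_cases h : ij.1 = ij.2 <;> simp [φ, ψ, δ, h]
    · simp [φ, ψ]
  have hinj : Function.Injective φ := Function.LeftInverse.injective (g := ψ) fun x => RingHom.congr_fun hψφ x
  have hdet : φ (Polynomial.C (Matrix.mvPolynomialX (Fin n) (Fin n) A).det) = (-Matrix.mvPolynomialX (Fin n) (Fin n) A).charpoly := by
    rw [RingHom.map_det, RingHom.map_det, Matrix.charpoly]
    congr 1
    ext i j : 2
    by_cases h : i = j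
    · subst h; simp [φ, δ, Matrix.charmatrix_apply_eq, add_comm]
    · simp [φ, δ, h, Matrix.charmatrix_apply_ne _ _ _ h]
  refine mem_nonZeroDivisors_iff_right.mpr fun x hx => ?_
  have h0 : φ (Polynomial.C x) * φ (Polynomial.C (Matrix.mvPolynomialX (Fin n) (Fin n) A).det) = 0 := by
    rw [← map_mul, ← map_mul, hx, map_zero, map_zero]
  rw [hdet] at h0
  exact Polynomial.C_eq_zero.mp (hinj (((Matrix.charpoly_monic _).mul_left_eq_zero_iff.mp h0).trans (map_zero φ).symm))

end Groth.Agent.S13785
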