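import Groth.Statements.S13787
import Mathlib

set_option autoImplicit false
set_option linter.style.haveILetI false
universe u
open CAlg

namespace Groth.Agent.S13787

/-- Let A be a nonzero commutative ring and n ≥ 1, let det be the determinant of the generic n × n
matrix in the polynomial ring A[X] in its n² entries, and let A[X, 1/det] be the localization at det
(the coordinate ring of GL_n over A). The homomorphism Aˣ × ℤ → (A[X, 1/det])ˣ sending (a, e) to a ·
det^e is injective. (The published statement takes the exponent in the group of locally constant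
ℤ-valued functions on Spec A, which also covers A = 0; with integer exponents as here, A must be
nonzero and n ≥ 1.) -/
theorem result (A : Type u) [CommRing A] [Nontrivial A] (n : ℕ) (hn : 0 < n) :
    Function.Injective (fun p : Aˣ × ℤ =>
        Units.map (algebraMap A (Localization.Away (Matrix.mvPolynomialX (Fin n) (Fin n) A).det)).toMonoidHom p.1 *
          (IsLocalization.Away.algebraMap_isUnit (S := Localization.Away (Matrix.mvPolynomialX (Fin n) (Fin n) A).det)
            (Matrix.mvPolynomialX (Fin n) (Fin n) A).det).unit ^ p.2) := by
  set D := (Matrix.mvPolynomialX (Fin n) (Fin n) A).det with hD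
  set T : LaurentPolynomial A := LaurentPolynomial.T 1 with hT
  let i0 : Fin n := ⟨0, hn⟩
  let ev : MvPolynomial (Fin n × Fin n) A →ₐ[A] LaurentPolynomial A :=
    MvPolynomial.aeval (fun ij => Matrix.diagonal (Function.update (fun _ => (1 : LaurentPolynomial A)) i0 T) ij.1 ij.2)
  have hevD : ev D = T := by
    rw [hD, AlgHom.map_det]
    have : ev.mapMatrix (Matrix.mvPolynomialX (Fin n) (Fin n) A) = Matrix.diagonal (Function.update (fun _ => (1 : LaurentPolynomial A)) i0 T) := by
      ext i j
      simp [ev]
    rw [this, Matrix.det_diagonal, Finset.prod_update_of_mem (Finset.mem_univ _)]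
    simp
  have hu : IsUnit (ev.toRingHom D) := by
    show IsUnit (ev D)
    rw [hevD, hT]; exact LaurentPolynomial.isUnit_T 1
  let L : Localization.Away D →+* LaurentPolynomial A := IsLocalization.Away.lift D hu
  have hLA : ∀ a : A, L (algebraMap A (Localization.Away D) a) = LaurentPolynomial.C a := by
    intro a
    rw [IsScalarTower.algebraMap_apply A (MvPolynomial (Fin n × Fin n) A) (Localization.Away D)]
    show L _ = _
    simp only [L, IsLocalization.Away.lift_eq]
    exact ev.commutes a
  have hLD : ∀ k : ℤ, L (((IsLocalization.Away.algebraMap_isUnit (S := Localization.Away D) D).unit ^ k : (Localization.Away D)ˣ) : Localization.Away D) = LaurentPolynomial.T k := by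
    intro k
    set u := (IsLocalization.Away.algebraMap_isUnit (S := Localization.Away D) D).unit with hu'
    have h1 : L (u : Localization.Away D) = LaurentPolynomial.T 1 := by
      rw [hu', IsUnit.unit_spec]
      simp only [L, IsLocalization.Away.lift_eq]
      exact hevD
    induction k with
    | zero => simp
    | succ i ih =>
      rw [zpow_add_one, Units.val_mul, map_mul, ih, h1, ← LaurentPolynomial.T_add]
    | pred i ih =>
      have h2 : L ((u ^ (-(i : ℤ) - 1) : (Localization.Away D)ˣ) : Localization.Away D) * LaurentPolynomial.T 1 = LaurentPolynomial.T (-(i : ℤ) - 1) * LaurentPolynomial.T 1 := by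
        rw [← h1, ← map_mul, ← Units.val_mul, ← zpow_add_one, sub_add_cancel, ih, h1, ← LaurentPolynomial.T_add, sub_add_cancel]
      exact (LaurentPolynomial.isUnit_T 1).mul_right_cancel h2
  rintro ⟨a, k⟩ ⟨b, l⟩ h
  have e := congrArg (fun z : (Localization.Away D)ˣ => L (z : Localization.Away D)) h
  simp only [Units.val_mul, map_mul, hLD, Units.coe_map, RingHom.toMonoidHom_eq_coe, MonoidHom.coe_coe, hLA] at e
  rw [← LaurentPolynomial.single_eq_C_mul_T, ← LaurentPolynomial.single_eq_C_mul_T] at e
  rcases AddMonoidAlgebra.single_inj.mp e with ⟨h1, h2⟩ | ⟨h1, _⟩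
  · exact Prod.ext (Units.ext h2) h1
  · exact absurd h1 a.ne_zero

end Groth.Agent.S13787
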