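import Groth.Statements.S13789
import Mathlib
-- import your own Groth.Agent.* helpers here

set_option autoImplicit false
universe u
open CAlg

namespace Groth.Agent.S13789

/-- Let A be a commutative ring with total ring of fractions Q and let B be a ring with A ⊆ B ⊆ Q. Then
the inclusion A ⊆ B carries nonzerodivisors of A to nonzerodivisors of B, and every nonzerodivisor
of B has the form r/u with r and u nonzerodivisors of A. -/
theorem result {A Q : Type u} [CommRing A] [CommRing Q] [Algebra A Q] [IsFractionRing A Q] (B : Subalgebra A Q) :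
    (∀ a : A, a ∈ nonZeroDivisors A → algebraMap A B a ∈ nonZeroDivisors B) ∧
    (∀ b : B, b ∈ nonZeroDivisors B → ∃ r u : A, r ∈ nonZeroDivisors A ∧ u ∈ nonZeroDivisors A ∧
      (b : Q) * algebraMap A Q u = algebraMap A Q r) := by
  have hinj : Function.Injective (algebraMap A Q) := IsFractionRing.injective A Q
  refine ⟨fun a ha => mem_nonZeroDivisors_iff_right.2 fun x hx => Subtype.ext ?_, fun b hb => ?_⟩
  · have hu : IsUnit (algebraMap A Q a) := IsLocalization.map_units Q ⟨a, ha⟩
    exact (hu.mul_left_eq_zero).1 (congrArg Subtype.val hx)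
  · obtain ⟨r, u, hru⟩ := IsLocalization.exists_mk'_eq (nonZeroDivisors A) (b : Q)
    have h1 : (b : Q) * algebraMap A Q u = algebraMap A Q r := by rw [← hru, IsLocalization.mk'_spec]
    refine ⟨r, u, mem_nonZeroDivisors_iff_right.2 fun x hx => ?_, u.2, h1⟩
    have h2 : (algebraMap A B (x * u)) * b = 0 := Subtype.ext (by
      show algebraMap A Q (x * u) * (b : Q) = 0
      rw [map_mul, mul_assoc, mul_comm _ (b : Q), h1, ← map_mul, hx, map_zero])
    have h3 := congrArg Subtype.val (hb.2 _ h2)
    exact u.2.2 x (hinj (h3.trans (map_zero _).symm))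

end Groth.Agent.S13789
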