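import Groth.Statements.S13790
import Mathlib
-- import your own Groth.Agent.* helpers here

set_option autoImplicit false
universe u
open CAlg

namespace Groth.Agent.S13790

/-- Let A be a commutative ring with total ring of fractions Q and let B be a ring with A ⊆ B ⊆ Q. Then
Q, with the inclusion B ⊆ Q, is the total ring of fractions of B. -/
theorem result {A Q : Type u} [CommRing A] [CommRing Q] [Algebra A Q] [IsFractionRing A Q] (B : Subalgebra A Q) :
    IsFractionRing B Q := by
  refine ⟨fun b => ?_, fun q => ?_, fun {b c} h => ⟨1, by simpa using Subtype.ext h⟩⟩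
  · obtain ⟨⟨a, s⟩, has⟩ := IsLocalization.surj (nonZeroDivisors A) (b.1 : Q)
    have ha : a ∈ nonZeroDivisors A := mem_nonZeroDivisors_iff_right.mpr fun a' ha' => by
      have h1 : ((algebraMap A B a' * b.1 : B) : Q) * algebraMap A Q s = 0 := by
        show algebraMap A Q a' * (b.1 : Q) * _ = 0
        rw [mul_assoc, has, ← map_mul, ha', map_zero]
      have h2 : algebraMap A B a' * b.1 = 0 :=
        Subtype.ext ((IsUnit.mul_left_eq_zero (IsLocalization.map_units Q s)).mp h1)
      exact IsFractionRing.injective A Q ((congrArg Subtype.val ((mul_right_mem_nonZeroDivisors_eq_zero_iff b.2).mp h2)).trans (map_zero _).symm)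
    exact isUnit_of_mul_isUnit_left (y := algebraMap A Q s) (show IsUnit ((b.1 : Q) * algebraMap A Q s) from
      has ▸ IsLocalization.map_units Q (⟨a, ha⟩ : nonZeroDivisors A))
  · obtain ⟨⟨a, s⟩, has⟩ := IsLocalization.surj (nonZeroDivisors A) q
    refine ⟨⟨algebraMap A B a, algebraMap A B s, mem_nonZeroDivisors_iff_right.mpr fun z hz => ?_⟩, has⟩
    exact Subtype.ext ((IsUnit.mul_left_eq_zero (IsLocalization.map_units Q s)).mp (congrArg Subtype.val hz))

end Groth.Agent.S13790
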