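import Groth.Statements.S13794
import Mathlib

set_option autoImplicit false
set_option linter.style.haveILetI false
universe u
open Polynomial
open Curves

namespace Groth.Agent.S13794

/-- Let k be a field of characteristic not 3 and β ∈ k. If a line ax + by + c = 0 with a³ ≠ b³ is the
tangent line at a flex point of the affine cubic x³ + y³ + β = 3xy, then β is a cube in k. Here the
line is normalised to b ≠ 0 (the roles of x and y are symmetric) and the flex-tangency is expressed
by the restriction of the cubic to the line being λ (x − x₀)³. -/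
theorem result {k : Type u} [Field k] (h3 : (3 : k) ≠ 0)
    (β a b c : k) (hb : b ≠ 0) (hab : a ^ 3 ≠ b ^ 3) (lam x₀ : k)
    (hflex : (X : k[X]) ^ 3 + (C (-a / b) * X + C (-c / b)) ^ 3 + C β - 3 * X * (C (-a / b) * X + C (-c / b)) =
      C lam * (X - C x₀) ^ 3) :
    ∃ γ : k, β = γ ^ 3 := by
  set α : k := -a / b with hα
  set g : k := -c / b with hg
  have hz : C (1 + α ^ 3 - lam) * X ^ 3 + C (3 * α ^ 2 * g - 3 * α + 3 * lam * x₀) * X ^ 2
      + C (3 * α * g ^ 2 - 3 * g - 3 * lam * x₀ ^ 2) * X + C (g ^ 3 + β + lam * x₀ ^ 3) = (0 : k[X]) := by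
    simp only [map_add, map_sub, map_mul, map_pow, map_one, map_ofNat]
    linear_combination hflex
  have c3 : 1 + α ^ 3 - lam = 0 := by
    have h := congrArg (fun P : k[X] => P.coeff 3) hz
    simp only [coeff_add, coeff_C_mul, coeff_X_pow, coeff_X, coeff_C, coeff_zero] at h
    norm_num at h
    exact h
  have c2 : 3 * α ^ 2 * g - 3 * α + 3 * lam * x₀ = 0 := by
    have h := congrArg (fun P : k[X] => P.coeff 2) hz
    simp only [coeff_add, coeff_C_mul, coeff_X_pow, coeff_X, coeff_C, coeff_zero] at h
    norm_num at h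
    exact h
  have c1 : 3 * α * g ^ 2 - 3 * g - 3 * lam * x₀ ^ 2 = 0 := by
    have h := congrArg (fun P : k[X] => P.coeff 1) hz
    simp only [coeff_add, coeff_C_mul, coeff_X_pow, coeff_X, coeff_C, coeff_zero] at h
    norm_num at h
    exact h
  have c0 : g ^ 3 + β + lam * x₀ ^ 3 = 0 := by
    have h := congrArg (fun P : k[X] => P.coeff 0) hz
    simp only [coeff_add, coeff_C_mul, coeff_X_pow, coeff_X, coeff_C, coeff_zero] at h
    norm_num at h
    exact h
  have d2 : lam * x₀ = α - α ^ 2 * g := mul_left_cancel₀ h3 (by linear_combination c2)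
  have d1 : lam * x₀ ^ 2 = α * g ^ 2 - g := mul_left_cancel₀ h3 (by linear_combination -c1)
  have key : (α * g - 1) * (g + α ^ 2) = 0 := by
    have hl : lam = 1 + α ^ 3 := by linear_combination -c3
    linear_combination (lam * x₀ + (α - α ^ 2 * g)) * d2 - lam * d1 - (α * g ^ 2 - g) * hl
  have hl0 : lam ≠ 0 := by
    intro h
    apply hab
    have h3a : α ^ 3 = -1 := by linear_combination c3 + h
    rw [hα, div_pow, div_eq_iff (pow_ne_zero 3 hb)] at h3a
    linear_combination -h3a
  rcases mul_eq_zero.mp key with h | h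
  · have hx : x₀ = 0 := by
      have : lam * x₀ = 0 := by linear_combination d2 - α * h
      exact (mul_eq_zero.mp this).resolve_left hl0
    exact ⟨-g, by rw [hx] at c0; linear_combination c0⟩
  · have hg' : g = -α ^ 2 := by linear_combination h
    have hl : lam = 1 + α ^ 3 := by linear_combination -c3
    have hx : x₀ = α := by
      apply mul_left_cancel₀ hl0
      rw [d2, hg', hl]; ring
    exact ⟨-α, by rw [hx, hg', hl] at c0; linear_combination c0⟩

end Groth.Agent.S13794
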