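import Groth.Statements.S13795
import Mathlib

set_option autoImplicit false
set_option maxHeartbeats 1000000
universe u
open TensorProduct
open Brauer

namespace Groth.Agent.S13795

variable {A : Type u} [CommRing A] {F G : Type u} [AddCommGroup F] [Module A F] [AddCommGroup G] [Module A G]

/-- The module of intertwiners. -/
def Inter (φ : Module.End A F ≃ₐ[A] Module.End A G) : Submodule A (F →ₗ[A] G) where
  carrier := {ψ | ∀ f x, φ f (ψ x) = ψ (f x)}
  add_mem' ha hb f x := by simp [ha f x, hb f x]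
  zero_mem' f x := by simp
  smul_mem' c a ha f x := by simp [ha f x]

theorem exists_dual_basis (M : Type u) [AddCommGroup M] [Module A M] [Module.Finite A M] [Module.Projective A M] :
    ∃ (n : ℕ) (μ : Fin n → M →ₗ[A] A) (e : Fin n → M), ∀ x, ∑ k, μ k x • e k = x := by
  obtain ⟨n, f, g, -, -, h⟩ := Module.Finite.exists_comp_eq_id_of_projective A M
  refine ⟨n, fun k => (LinearMap.proj k).comp g, fun k => f (Pi.single k 1), fun x => ?_⟩
  conv_rhs => rw [show x = f (g x) from (LinearMap.congr_fun h x).symm, pi_eq_sum_univ' (g x), map_sum]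
  exact Finset.sum_congr rfl fun k _ => by simp

theorem trace_top (M : Type u) [AddCommGroup M] [Module A M] [Module.Finite A M] [Module.Projective A M]
    [Module.FaithfullyFlat A M] :
    Ideal.span (Set.range fun q : (M →ₗ[A] A) × M => q.1 q.2) = ⊤ := by
  by_contra h
  obtain ⟨m, hm, hle⟩ := Ideal.exists_le_maximal _ h
  refine Module.FaithfullyFlat.submodule_ne_top (M := M) hm (eq_top_iff.2 fun x _ => ?_)
  obtain ⟨n, μ, e, hx⟩ := exists_dual_basis (A := A) M
  rw [← hx x]
  exact Submodule.sum_mem _ fun k _ =>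
    Submodule.smul_mem_smul (hle (Ideal.subset_span ⟨(μ k, x), rfl⟩)) Submodule.mem_top

theorem exists_tr (M : Type u) [AddCommGroup M] [Module A M] [Module.Finite A M] [Module.Projective A M]
    [Module.FaithfullyFlat A M] :
    ∃ tr : Module.End A M →ₗ[A] A, ∀ u : Module.End A M, (∀ f : Module.End A M, ∀ y, f (u y) = u (f y)) →
      ∀ y, u y = tr u • y := by
  obtain ⟨c, hc⟩ := Finsupp.mem_span_range_iff_exists_finsupp.1
    ((trace_top (A := A) M).symm ▸ Submodule.mem_top : (1 : A) ∈ _)
  refine ⟨∑ q ∈ c.support, c q • (q.1 ∘ₗ LinearMap.applyₗ q.2), fun u hu y => ?_⟩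
  have h1 : ∀ q : (M →ₗ[A] A) × M, q.1 (u q.2) • y = q.1 q.2 • u y := fun q => by
    have := hu (q.1.smulRight y) q.2
    simpa using this
  simp only [LinearMap.sum_apply, Finset.sum_smul, LinearMap.smul_apply, LinearMap.comp_apply,
    LinearMap.applyₗ_apply_apply, smul_eq_mul, mul_smul, h1]
  conv_lhs => rw [← one_smul A (u y), ← hc, Finsupp.sum, Finset.sum_smul]
  exact Finset.sum_congr rfl fun q _ => by rw [smul_eq_mul, mul_smul]

variable (φ : Module.End A F ≃ₐ[A] Module.End A G)

noncomputable def ev : F ⊗[A] Inter φ →ₗ[A] G :=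
  TensorProduct.lift (LinearMap.flip (Inter φ).subtype)

theorem ev_tmul (x : F) (ψ : Inter φ) : ev φ (x ⊗ₜ ψ) = ψ.1 x := rfl

noncomputable def mkInter (μ : F →ₗ[A] A) : G →ₗ[A] Inter φ where
  toFun g := ⟨{ toFun := fun x => φ (μ.smulRight x) g
                map_add' := fun x y => by
                  rw [show μ.smulRight (x + y) = μ.smulRight x + μ.smulRight y from
                    LinearMap.ext fun z => smul_add _ _ _, map_add, LinearMap.add_apply]
                map_smul' := fun a x => by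
                  rw [show μ.smulRight (a • x) = a • μ.smulRight x from
                    LinearMap.ext fun z => smul_comm _ _ _, map_smul, LinearMap.smul_apply, RingHom.id_apply] },
    fun f x => by
      show φ f (φ (μ.smulRight x) g) = φ (μ.smulRight (f x)) g
      rw [show μ.smulRight (f x) = f * μ.smulRight x from LinearMap.ext fun z => (map_smul f _ _).symm, map_mul]
      rfl⟩
  map_add' g h := Subtype.ext (LinearMap.ext fun x => map_add (φ (μ.smulRight x)) g h)
  map_smul' a g := Subtype.ext (LinearMap.ext fun x => map_smul (φ (μ.smulRight x)) a g)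

theorem exists_inverse [Module.Finite A F] [Module.Projective A F] :
    ∃ η : G →ₗ[A] F ⊗[A] Inter φ, (∀ g, ev φ (η g) = g) ∧ ∀ t, η (ev φ t) = t := by
  obtain ⟨n, μ, e, h⟩ := exists_dual_basis (A := A) F
  refine ⟨∑ k, (TensorProduct.mk A F (Inter φ) (e k)).comp (mkInter φ (μ k)), fun g => ?_, fun t => ?_⟩
  · simp only [LinearMap.sum_apply, LinearMap.comp_apply, TensorProduct.mk_apply, map_sum, ev_tmul]
    show ∑ k, φ ((μ k).smulRight (e k)) g = g
    rw [← LinearMap.sum_apply, ← map_sum, show ∑ k, (μ k).smulRight (e k) = 1 from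
      LinearMap.ext fun x => by simp [h], map_one]
    rfl
  · induction t using TensorProduct.induction_on with
    | zero => simp
    | add a b ha hb => rw [map_add, map_add, ha, hb]
    | tmul x ψ =>
      simp only [LinearMap.sum_apply, LinearMap.comp_apply, TensorProduct.mk_apply, ev_tmul]
      conv_rhs => rw [← h x, TensorProduct.sum_tmul]
      refine Finset.sum_congr rfl fun k _ => ?_
      rw [TensorProduct.smul_tmul]
      refine congrArg _ (Subtype.ext (LinearMap.ext fun y => ?_))
      show φ ((μ k).smulRight y) (ψ.1 x) = μ k x • ψ.1 y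
      rw [ψ.2, LinearMap.smulRight_apply, map_smul]

theorem result (A : Type u) [CommRing A]
    (F G : Type u) [AddCommGroup F] [Module A F] [Module.Finite A F] [Module.Projective A F] [Module.FaithfullyFlat A F]
    [AddCommGroup G] [Module A G] [Module.Finite A G] [Module.Projective A G] [Module.FaithfullyFlat A G]
    (φ : Module.End A F ≃ₐ[A] Module.End A G) :
    ∃ (L : Type u) (_ : AddCommGroup L) (_ : Module A L), Module.Invertible A L ∧
      ∃ ξ : F ⊗[A] L ≃ₗ[A] G, ∀ f : Module.End A F, φ f = ξ.conj (TensorProduct.map f LinearMap.id) := by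
  obtain ⟨η, hη, hη'⟩ := exists_inverse φ
  obtain ⟨η₂, hη₂, -⟩ := exists_inverse φ.symm
  obtain ⟨trF, htrF⟩ := exists_tr (A := A) F
  obtain ⟨trG, htrG⟩ := exists_tr (A := A) G
  let ξ : F ⊗[A] Inter φ ≃ₗ[A] G :=
    LinearEquiv.ofLinearMap (ev φ) η (LinearMap.ext hη) (LinearMap.ext hη')
  have hp : ∀ (ψ : Inter φ) (χ : Inter φ.symm) (y : F), χ.1 (ψ.1 y) = trF (χ.1 ∘ₗ ψ.1) • y := by
    intro ψ χ y
    refine htrF (χ.1 ∘ₗ ψ.1) (fun f z => ?_) y
    show f (χ.1 (ψ.1 z)) = χ.1 (ψ.1 (f z))
    rw [← ψ.2 f z, ← χ.2 (φ f), AlgEquiv.symm_apply_apply]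
  have hq : ∀ (ψ : Inter φ) (χ : Inter φ.symm) (g : G), ψ.1 (χ.1 g) = trG (ψ.1 ∘ₗ χ.1) • g := by
    intro ψ χ g
    refine htrG (ψ.1 ∘ₗ χ.1) (fun f z => ?_) g
    show f (ψ.1 (χ.1 z)) = ψ.1 (χ.1 (f z))
    rw [← χ.2 f z, ← ψ.2 (φ.symm f), AlgEquiv.apply_symm_apply]
  let P : Inter φ ⊗[A] Inter φ.symm →ₗ[A] A := TensorProduct.lift (LinearMap.mk₂ A
    (fun (ψ : Inter φ) (χ : Inter φ.symm) => trF (χ.1 ∘ₗ ψ.1))
    (fun a b c => by simp [LinearMap.comp_add]) (fun a b c => by simp [LinearMap.comp_smul])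
    (fun a b c => by simp [LinearMap.add_comp]) (fun a b c => by simp [LinearMap.smul_comp]))
  let J : Ideal A := LinearMap.range P
  have hsurj : J = ⊤ := by
    have hmem : ∀ (χ : Inter φ.symm) (g : G), χ.1 g ∈ J • (⊤ : Submodule A F) := fun χ g => by
      rw [← hη g]
      induction η g using TensorProduct.induction_on with
      | zero => simp
      | add a b ha hb => rw [map_add, map_add]; exact add_mem ha hb
      | tmul y ψ =>
        rw [ev_tmul, hp]
        exact Submodule.smul_mem_smul ⟨ψ ⊗ₜ χ, rfl⟩ Submodule.mem_top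
    have hx : ∀ x : F, x ∈ J • (⊤ : Submodule A F) := fun x => by
      rw [← hη₂ x]
      induction η₂ x using TensorProduct.induction_on with
      | zero => simp
      | add a b ha hb => rw [map_add]; exact add_mem ha hb
      | tmul g χ => exact hmem χ g
    by_contra hJ
    obtain ⟨m, hm, hle⟩ := Ideal.exists_le_maximal J hJ
    exact Module.FaithfullyFlat.submodule_ne_top (M := F) hm
      (eq_top_iff.2 fun x _ => Submodule.smul_mono hle le_rfl (hx x))
  obtain ⟨one, hone⟩ : (1 : A) ∈ LinearMap.range P := (hsurj ▸ Submodule.mem_top : (1 : A) ∈ J)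
  have hsw : ∀ (ψ ψ' : Inter φ) (χ : Inter φ.symm),
      trF (χ.1 ∘ₗ ψ'.1) • ψ = trG (ψ.1 ∘ₗ χ.1) • ψ' := fun ψ ψ' χ => Subtype.ext (LinearMap.ext fun y => by
    show trF (χ.1 ∘ₗ ψ'.1) • ψ.1 y = trG (ψ.1 ∘ₗ χ.1) • ψ'.1 y
    rw [← hq, hp, map_smul])
  have hsw' : ∀ (ψ : Inter φ) (χ χ' : Inter φ.symm),
      trG (ψ.1 ∘ₗ χ'.1) • χ = trF (χ.1 ∘ₗ ψ.1) • χ' := fun ψ χ χ' => Subtype.ext (LinearMap.ext fun g => by
    show trG (ψ.1 ∘ₗ χ'.1) • χ.1 g = trF (χ.1 ∘ₗ ψ.1) • χ'.1 g
    rw [← hp, hq, map_smul])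
  have key : ∀ s t : Inter φ ⊗[A] Inter φ.symm, P s • t = P t • s := by
    intro s t
    induction s using TensorProduct.induction_on with
    | zero => simp
    | add a b ha hb => rw [map_add, add_smul, smul_add, ha, hb]
    | tmul ψ₁ χ₁ =>
      induction t using TensorProduct.induction_on with
      | zero => simp
      | add a b ha hb => rw [map_add, smul_add, add_smul, ha, hb]
      | tmul ψ χ =>
        show trF (χ₁.1 ∘ₗ ψ₁.1) • (ψ ⊗ₜ[A] χ) = trF (χ.1 ∘ₗ ψ.1) • (ψ₁ ⊗ₜ[A] χ₁)
        rw [TensorProduct.smul_tmul', hsw, TensorProduct.smul_tmul, hsw', TensorProduct.tmul_smul]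
  have hbij : Function.Bijective P := by
    refine ⟨fun a b hab => ?_, fun a => ⟨a • one, by rw [map_smul, hone, smul_eq_mul, mul_one]⟩⟩
    have ha := key one a
    have hb := key one b
    rw [hone, one_smul] at ha hb
    rw [ha, hb, hab]
  refine ⟨Inter φ, inferInstance, inferInstance, Module.Invertible.left (LinearEquiv.ofBijective P hbij), ξ, fun f => ?_⟩
  refine LinearMap.ext fun g => ?_
  show φ f g = ev φ (TensorProduct.map f LinearMap.id (η g))
  conv_lhs => rw [← hη g]
  induction η g using TensorProduct.induction_on with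
  | zero => simp
  | add a b ha hb => rw [map_add, map_add, ha, hb, map_add, map_add]
  | tmul x ψ => exact ψ.2 f x

end Groth.Agent.S13795
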