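import Groth.Statements.S13796
import Groth.Agent.Az8.Cover
import Groth.Agent.Az8.GoldmanR

set_option autoImplicit false
universe u
open scoped TensorProduct
open Brauer

namespace Groth.Agent.S13796

/-- In the case of an affine scheme — let R be a commutative ring and A an Azumaya R-algebra of constant
rank n². Then there exist a finitely generated projective R-module E of constant rank n^n and an
R-algebra isomorphism from the n-fold tensor power A ⊗ ⋯ ⊗ A to End_R(E) (existence of an
isomorphism only), so the Brauer class of A is n-torsion. For n = 0 the hypotheses force R = 0,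
where the statement holds trivially. (The published statement is for Azumaya algebras of constant
rank n² on any locally ringed site; this row is the case of the étale site of Spec R, written in
terms of modules: an Azumaya algebra here is one in the usual, étale-local sense.) -/
theorem result (R : Type u) [CommRing R] (A : Type u) [Ring A] [Algebra R A]
    [IsAzumaya R A] (n : ℕ) (hrk : ∀ p : PrimeSpectrum R, Module.rankAtStalk (R := R) A p = n ^ 2) :
    ∃ (E : Type u) (_ : AddCommGroup E) (_ : Module R E), Module.Finite R E ∧ Module.Projective R E ∧
      (∀ p : PrimeSpectrum R, Module.rankAtStalk (R := R) E p = n ^ n) ∧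
      Nonempty ((⨂[R] _ : Fin n, A) ≃ₐ[R] Module.End R E) := by
  rcases isEmpty_or_nonempty (PrimeSpectrum R) with h | ⟨⟨p⟩⟩
  · haveI hR : Subsingleton R := PrimeSpectrum.isEmpty_iff_subsingleton.mp h
    haveI : Subsingleton (⨂[R] _ : Fin n, A) := Module.subsingleton R _
    refine ⟨PUnit.{u + 1}, inferInstance, inferInstance, inferInstance, inferInstance, fun q => isEmptyElim q, ⟨?_⟩⟩
    haveI : Subsingleton (Module.End R PUnit.{u + 1}) := ⟨fun a b => LinearMap.ext fun x => Subsingleton.elim _ _⟩
    exact { toFun := fun _ => 0, invFun := fun _ => 0, left_inv := fun _ => Subsingleton.elim _ _,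
            right_inv := fun _ => Subsingleton.elim _ _, map_mul' := fun _ _ => Subsingleton.elim _ _,
            map_add' := fun _ _ => Subsingleton.elim _ _, commutes' := fun _ => Subsingleton.elim _ _ }
  · haveI : Nonempty (Fin n) := ⟨⟨0, Groth.Agent.Az8.pos_of_rank hrk p⟩⟩
    obtain ⟨S, _, _, hS, ⟨φ⟩⟩ := Groth.Agent.Az8.exists_cover hrk
    haveI := hS
    exact Groth.Agent.Az8.tpow_end φ

end Groth.Agent.S13796
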