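import Groth.Statements.S13801
-- import your own Groth.Agent.* helpers here

set_option autoImplicit false
open ChowMon

namespace Groth.Agent.S13801

/-- For a prime p and positive natural numbers a_1, ..., a_k with sum n one has v_p(a_1!) + ... +
v_p(a_k!) ≤ v_p(n!), and the inequality is strict whenever some a_i is not divisible by p^(v_p(n)). -/
theorem result {k : ℕ} (p : ℕ) [Fact p.Prime]
    (a : Fin k → ℕ) (ha : ∀ i, 0 < a i) :
    (∑ i, padicValNat p (a i).factorial ≤ padicValNat p (∑ i, a i).factorial) ∧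
      ((∃ i, ¬ p ^ padicValNat p (∑ j, a j) ∣ a i) →
        ∑ i, padicValNat p (a i).factorial < padicValNat p (∑ i, a i).factorial) := by
  set n := ∑ i, a i with hn
  obtain ⟨b, hb⟩ : ∃ b, n < b := ⟨n + 1, by omega⟩
  have hlog : ∀ m, m ≤ n → Nat.log p m < b := fun m hm =>
    lt_of_le_of_lt ((Nat.log_le_self p m).trans hm) hb
  have hai : ∀ i, a i ≤ n := fun i => Finset.single_le_sum (fun j _ => Nat.zero_le (a j)) (Finset.mem_univ i)
  have e1 : padicValNat p n.factorial = ∑ j ∈ Finset.Ico 1 b, n / p ^ j := padicValNat_factorial (hlog n le_rfl)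
  have e2 : ∑ i, padicValNat p (a i).factorial = ∑ j ∈ Finset.Ico 1 b, ∑ i, a i / p ^ j := by
    rw [Finset.sum_comm]
    exact Finset.sum_congr rfl fun i _ => padicValNat_factorial (hlog _ (hai i))
  have hp := (Fact.out : p.Prime)
  have key : ∀ q, 0 < q → ∑ i, a i / q ≤ n / q := fun q hq => by
    rw [Nat.le_div_iff_mul_le hq, Finset.sum_mul]
    exact Finset.sum_le_sum fun i _ => Nat.div_mul_le_self _ _
  rw [e1, e2]
  refine ⟨Finset.sum_le_sum fun j _ => key _ (pow_pos hp.pos j), ?_⟩
  rintro ⟨i, hi⟩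
  have hv : 1 ≤ padicValNat p n := by
    by_contra h
    exact hi (by simp [show padicValNat p n = 0 by omega])
  have hnpos : 0 < n := lt_of_lt_of_le (ha i) (hai i)
  have hvb : padicValNat p n < b := by
    have := padicValNat_le_nat_log (p := p) n
    exact lt_of_le_of_lt this (hlog n le_rfl)
  refine Finset.sum_lt_sum (fun j _ => key _ (pow_pos hp.pos j)) ⟨padicValNat p n, Finset.mem_Ico.mpr ⟨hv, hvb⟩, ?_⟩
  have hq := pow_pos hp.pos (padicValNat p n)
  have hd : p ^ padicValNat p n ∣ n := pow_padicValNat_dvd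
  apply lt_of_mul_lt_mul_right (a := p ^ padicValNat p n) _ (Nat.zero_le _)
  rw [Nat.div_mul_cancel hd, Finset.sum_mul]
  exact Finset.sum_lt_sum (fun j _ => Nat.div_mul_le_self _ _) ⟨i, Finset.mem_univ i,
    lt_of_le_of_ne (Nat.div_mul_le_self _ _) fun h => hi ⟨a i / p ^ padicValNat p n, by rw [mul_comm]; exact h.symm⟩⟩

end Groth.Agent.S13801
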