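import Groth.Statements.S13814
import Groth.Agent.EtaPtLib.Valn

set_option autoImplicit false
universe u
open EtaPt

namespace Groth.Agent.S13814

/-- Let R be a valuation ring with fraction field K = k((0)) such that η is bijective at K, or such that
every field of the same characteristic as R at which η is bijective is perfect. Then the ring M_η(R)
is again a valuation ring, every element of F(K) is a quotient of generic components of elements of
M_η(R), and an element of F(K) that is both the generic component of an element of M_η(R) and in the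
image of K comes from R. (The published statement assumes nothing about η beyond the standing
conditions, and then fails: for the endofunctor equal to the perfect closure on the fields of
characteristic 2 and transcendence degree at least 2 over the prime field and to the identity on
every other field, and R = F_2(s)[t] localised at (t), neither of the elements (s^(1/2) t, 0) and
(t, 0) of M_η(R) ⊆ F(K) × F_2(s) divides the other, so M_η(R) is not a valuation ring. This row
assumes that η is bijective at Frac R, or that every field of the same characteristic as R at which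
η is bijective is perfect; both the identity and the perfect closure satisfy this.) Here η is a
natural transformation from the identity of the category of fields to an endofunctor F with F(η_K)
bijective and η_K purely inseparable for every field K, N_η(A) is the product of the F(k(p)) over
the primes p of A with diagonal map t_A, and M_η(A) ⊆ N_η(A) is the subring of elements sent into
the range of t_R by every ring map from A to a valuation ring R at whose fraction field η is
bijective; q_A : A → M_η(A) is the corestriction of t_A. -/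
theorem result (η : EtaPt.FieldEndo.{u}) (R : Type u) [CommRing R] [IsDomain R] [ValuationRing R]
    (hη : η.InV R ∨ ∀ (k : Type u) [Field k], ringChar k = ringChar R →
      Function.Bijective (η.eta k) → PerfectField k) :
    IsDomain (η.M R) ∧ PreValuationRing (η.M R) ∧
      (∀ y : η.obj (⊥ : Ideal R).ResidueField, ∃ a b : η.M R,
        (b : η.N R) ⟨⊥, Ideal.isPrime_bot⟩ ≠ 0 ∧
          y * (b : η.N R) ⟨⊥, Ideal.isPrime_bot⟩ = (a : η.N R) ⟨⊥, Ideal.isPrime_bot⟩) ∧
      (fun x : η.N R => x ⟨⊥, Ideal.isPrime_bot⟩) '' (η.M R : Set (η.N R)) ∩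
          Set.range (η.eta (⊥ : Ideal R).ResidueField) =
        Set.range ((η.eta (⊥ : Ideal R).ResidueField).comp (algebraMap R (⊥ : Ideal R).ResidueField)) := by
  have hev : Function.Injective (Groth.Agent.EtaPtLib.Basic.ev η R (Groth.Agent.EtaPtLib.Valn.bot R)) := fun a b h =>
    Subtype.ext (Groth.Agent.EtaPtLib.Valn.eq_of_bot η a.2 b.2 h)
  haveI hdom : IsDomain (η.M R) :=
    Function.Injective.isDomain (Groth.Agent.EtaPtLib.Basic.ev η R (Groth.Agent.EtaPtLib.Valn.bot R)) hev
  have hmem : ∀ y, ((η.eta _).comp (algebraMap R (Groth.Agent.EtaPtLib.Valn.bot R).asIdeal.ResidueField)).IsIntegralElem y →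
      ∃ c : η.M R, Groth.Agent.EtaPtLib.Basic.ev η R (Groth.Agent.EtaPtLib.Valn.bot R) c = y := by
    intro y hy
    obtain ⟨x, hx, h⟩ := Groth.Agent.EtaPtLib.Valn.exists_mem_M_of_integral η hη y hy
    exact ⟨⟨x, hx⟩, h⟩
  refine ⟨hdom, ⟨fun a b => ?_⟩, fun y => ?_, ?_⟩
  · by_cases ha : Groth.Agent.EtaPtLib.Basic.ev η R (Groth.Agent.EtaPtLib.Valn.bot R) a = 0
    · exact ⟨0, Or.inr (hev (by rw [map_mul, map_zero, mul_zero, ha]))⟩
    obtain hi | ⟨hne, hi⟩ := Groth.Agent.EtaPtLib.Valn.integral_or_inv_integral η
      (Groth.Agent.EtaPtLib.Basic.ev η R (Groth.Agent.EtaPtLib.Valn.bot R) b / Groth.Agent.EtaPtLib.Basic.ev η R (Groth.Agent.EtaPtLib.Valn.bot R) a)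
    · obtain ⟨c, hc⟩ := hmem _ hi
      exact ⟨c, Or.inl (hev (by rw [map_mul, hc, mul_div_cancel₀ _ ha]))⟩
    · obtain ⟨c, hc⟩ := hmem _ hi
      refine ⟨c, Or.inr (hev ?_)⟩
      rw [map_mul, hc, inv_div, mul_div_cancel₀]
      exact fun h => hne (by rw [h, zero_div])
  · obtain hi | ⟨hne, hi⟩ := Groth.Agent.EtaPtLib.Valn.integral_or_inv_integral η (R := R) y
    · obtain ⟨c, hc⟩ := hmem _ hi
      exact ⟨c, 1, one_ne_zero, (mul_one y).trans hc.symm⟩
    · obtain ⟨c, hc⟩ := hmem _ hi
      exact ⟨1, c, fun h => inv_ne_zero hne (hc.symm.trans h),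
        (congrArg (y * ·) hc).trans (mul_inv_cancel₀ hne)⟩
  · rw [show (fun x : η.N R => x ⟨⊥, Ideal.isPrime_bot⟩) '' (η.M R : Set (η.N R)) = _ from
      Groth.Agent.EtaPtLib.Valn.image_bot η hη]
    ext y
    refine ⟨?_, ?_⟩
    · rintro ⟨hy, w, rfl⟩
      have hw : IsIntegral R w := by
        obtain ⟨p, hp, hpy⟩ := hy
        refine ⟨p, hp, (η.eta _).injective ?_⟩
        rw [Polynomial.hom_eval₂, map_zero]
        exact hpy
      obtain ⟨r, rfl⟩ := IsIntegrallyClosed.isIntegral_iff.mp hw
      exact ⟨r, rfl⟩
    · rintro ⟨r, rfl⟩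
      refine ⟨?_, _, rfl⟩
      exact (Groth.Agent.EtaPtLib.Basic.isIntegralElem_component η (η.t_mem_M R r) (Groth.Agent.EtaPtLib.Valn.bot R) : _)

end Groth.Agent.S13814
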