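import Groth.Statements.S13820
import Groth.Agent.EtaPtLib.Rel

set_option autoImplicit false
universe u
open EtaPt

namespace Groth.Agent.S13820

/-- Let A have finitely many minimal prime ideals and let B be an A-algebra with Spec B → Spec A
surjective, C the integral closure of A in B; then the inclusion C ⊆ B carries (C/A)_η onto (B/A)_η.
Here η is a natural transformation from the identity of the category of fields to an endofunctor F
with F(η_K) bijective and η_K purely inseparable for every field K, N_η(A) is the product of the
F(k(p)) over the primes p of A with diagonal map t_A, and M_η(A) ⊆ N_η(A) is the subring of elements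
sent into the range of t_R by every ring map from A to a valuation ring R at whose fraction field η
is bijective; q_A : A → M_η(A) is the corestriction of t_A. For a ring map f : A → B, (B/A)_η ⊆ B
denotes the subring of elements b with t_B(b) in N_η(f)(M_η(A)) (the image in B of the fibre product
of M_η(A) and B over M_η(B)), and q_{B/A} : A → (B/A)_η the corestriction of f. -/
theorem result (η : EtaPt.FieldEndo.{u}) (A B : Type u) [CommRing A] [CommRing B] [Algebra A B]
    (hA : (minimalPrimes A).Finite) (hs : Function.Surjective (PrimeSpectrum.comap (algebraMap A B))) :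
    (η.rel (algebraMap A (integralClosure A B))).map (integralClosure A B).val.toRingHom =
      η.rel (algebraMap A B) := by
  ext b
  constructor
  · rintro ⟨c, ⟨x, hx, hxc⟩, rfl⟩
    refine ⟨x, hx, ?_⟩
    have h := congrArg (η.Nmap (integralClosure A B).val.toRingHom) hxc
    rw [η.Nmap_t_apply, ← RingHom.comp_apply, Groth.Agent.EtaPtLib.Basic.Nmap_comp] at h
    exact h
  · intro hb
    have hbint : IsIntegral A b := by
      obtain ⟨p, hp, hpb⟩ := Groth.Agent.EtaPtLib.Rel.isIntegral_qRel η (algebraMap A B) hA hs ⟨b, hb⟩
      refine ⟨p, hp, ?_⟩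
      have := congrArg (η.rel (algebraMap A B)).subtype hpb
      rw [Polynomial.hom_eval₂, map_zero] at this
      exact this
    obtain ⟨x, hx, hxb⟩ := hb
    refine ⟨⟨b, hbint⟩, ⟨x, hx, ?_⟩, rfl⟩
    refine Groth.Agent.EtaPtLib.Basic.eq_of_minimalPrimes η (Groth.Agent.EtaPtLib.Basic.Nmap_mem_M η _ hx) (η.t_mem_M _ _) fun p hp => ?_
    obtain ⟨q, hq, hqp⟩ := Ideal.exists_comap_eq_of_mem_minimalPrimes_of_injective
      (f := (integralClosure A B).val.toRingHom) (fun a c h => Subtype.ext h) _ hp
    obtain rfl : p = PrimeSpectrum.comap (integralClosure A B).val.toRingHom ⟨q, hq⟩ :=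
      PrimeSpectrum.ext hqp.symm
    apply (η.map (Ideal.ResidueField.map _ q (integralClosure A B).val.toRingHom rfl)).injective
    have e : η.Nmap (integralClosure A B).val.toRingHom
        (η.Nmap (algebraMap A (integralClosure A B)) x) =
        η.Nmap (integralClosure A B).val.toRingHom (η.t _ ⟨b, hbint⟩) := by
      rw [η.Nmap_t_apply, ← RingHom.comp_apply, Groth.Agent.EtaPtLib.Basic.Nmap_comp]
      exact hxb
    exact congrFun e ⟨q, hq⟩

end Groth.Agent.S13820
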