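import Groth.Statements.S13826
import Groth.Agent.EtaPtLib.Rel

set_option autoImplicit false
universe u
open EtaPt

namespace Groth.Agent.S13826

/-- For the identity endofunctor and a commutative ring A with finitely many minimal prime ideals, q_A :
A → M(A) is a seminormalization of A: Spec(q_A) is a universal homeomorphism with trivial residue
field extensions, final among ring maps out of A with these properties. Here M(A) ⊆ ∏_p k(p) is the
subring of families whose image in ∏_q k(q), for every ring map from A to a valuation ring R, is the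
diagonal image of an element of R. -/
theorem result (A : Type u) [CommRing A] (hA : (minimalPrimes A).Finite) :
    HTop.IsRingSN (EtaPt.FieldEndo.ident.{u}.q A) := by
  have hc := Groth.Agent.EtaPtLib.Basic.comap_q_bijective FieldEndo.ident.{u} hA
  have hr := fun Q => Groth.Agent.EtaPtLib.Rel.residue_surjective_of_factor (FieldEndo.ident.{u}.q A) Q
    (Groth.Agent.EtaPtLib.Rel.factor_q FieldEndo.ident.{u} hA Q)
  refine ⟨⟨(Groth.Agent.UnivHomeo.Basic.isUnivHomeo_spec_iff _).mpr
      ⟨Groth.Agent.EtaPtLib.Basic.isIntegral_q _ hA, hc.2,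
        Groth.Agent.EtaPtLib.Rel.injPoints_of_residue_surjective _ hc.1 fun Q => (hr Q).2⟩,
    (Groth.Agent.UnivHomeo.Basic.residueFieldsIso_spec_iff _).mpr hr⟩, fun C _ ψ h₁ h₂ => ?_⟩
  obtain ⟨hint, hsurj, hinj⟩ := (Groth.Agent.UnivHomeo.Basic.isUnivHomeo_spec_iff ψ).mp h₁
  exact Groth.Agent.EtaPtLib.Basic.existsUnique_lift_q _ hA hint (Groth.Agent.EtaPtLib.Rel.bijective_Nmap_ident ψ
    ⟨Groth.Agent.UnivHomeo.Basic.comap_injective_of_injPoints hinj, hsurj⟩
    ((Groth.Agent.UnivHomeo.Basic.residueFieldsIso_spec_iff ψ).mp h₂))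

end Groth.Agent.S13826
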