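import Groth.Statements.S13830
import Groth.Agent.EtaPtLib.Rel

set_option autoImplicit false
universe u
open AlgebraicGeometry
open EtaPt

namespace Groth.Agent.S13830

/-- For the identity endofunctor, a commutative ring A with finitely many minimal prime ideals and an
A-algebra B with Spec B → Spec A surjective, the subring (B/A) ⊆ B (elements b whose residue classes
(b mod q)_q come from a family in M(A) ⊆ ∏_p k(p), M(A) being the families that come from an element
of R after any base change to a valuation ring R) is the seminormalization of A in B: Spec (B/A) →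
Spec A is a universal homeomorphism with trivial residue field extensions, and every A-subalgebra C
of B with these two properties is contained in (B/A). -/
theorem result (A B : Type u) [CommRing A] [CommRing B] [Algebra A B] (hA : (minimalPrimes A).Finite)
    (hs : Function.Surjective (PrimeSpectrum.comap (algebraMap A B))) :
    (FlatMor.IsUnivHomeo (Spec.map (CommRingCat.ofHom (EtaPt.FieldEndo.ident.{u}.qRel (algebraMap A B)))) ∧
      HTop.ResidueFieldsIso (Spec.map (CommRingCat.ofHom (EtaPt.FieldEndo.ident.{u}.qRel (algebraMap A B))))) ∧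
    ∀ C : Subalgebra A B,
      FlatMor.IsUnivHomeo (Spec.map (CommRingCat.ofHom (algebraMap A C))) →
      HTop.ResidueFieldsIso (Spec.map (CommRingCat.ofHom (algebraMap A C))) →
      C.toSubring ≤ EtaPt.FieldEndo.ident.{u}.rel (algebraMap A B) := by
  have hc := Groth.Agent.EtaPtLib.Rel.comap_qRel_bijective FieldEndo.ident.{u} hA (algebraMap A B) hs
  have hr := fun Q => Groth.Agent.EtaPtLib.Rel.residue_surjective_of_factor
    (FieldEndo.ident.{u}.qRel (algebraMap A B)) Q
    (Groth.Agent.EtaPtLib.Rel.factor_qRel FieldEndo.ident.{u} hA (algebraMap A B) hs Q)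
  refine ⟨⟨(Groth.Agent.UnivHomeo.Basic.isUnivHomeo_spec_iff _).mpr
      ⟨Groth.Agent.EtaPtLib.Rel.isIntegral_qRel _ _ hA hs, hc.2,
        Groth.Agent.EtaPtLib.Rel.injPoints_of_residue_surjective _ hc.1 fun Q => (hr Q).2⟩,
    (Groth.Agent.UnivHomeo.Basic.residueFieldsIso_spec_iff _).mpr hr⟩, fun C h₁ h₂ => ?_⟩
  obtain ⟨hint, hsurj, hinj⟩ :=
    (Groth.Agent.UnivHomeo.Basic.isUnivHomeo_spec_iff (algebraMap A C)).mp h₁
  intro c hc'
  have h := Groth.Agent.EtaPtLib.Rel.range_le_rel FieldEndo.ident.{u} (algebraMap A C) C.val.toRingHom hint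
    (Groth.Agent.EtaPtLib.Rel.bijective_Nmap_ident _
      ⟨Groth.Agent.UnivHomeo.Basic.comap_injective_of_injPoints hinj, hsurj⟩
      ((Groth.Agent.UnivHomeo.Basic.residueFieldsIso_spec_iff _).mp h₂))
  exact h ⟨⟨c, hc'⟩, rfl⟩

end Groth.Agent.S13830
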