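import Groth.Statements.S13835
-- import your own Groth.Agent.* helpers here

set_option autoImplicit false
universe u
open AlgebraicGeometry CategoryTheory
open ChowMon

namespace Groth.Agent.S13835

/-- Let p : T' → T be a universal homeomorphism of separated schemes with T reduced and f' : T' → Y a
morphism (Y separated); if T has an open cover by affine opens U_i such that each restriction of f'
to p⁻¹(U_i) factors through p⁻¹(U_i) → U_i, then f' factors through p. -/
theorem result {T' T Y : Scheme.{u}} (p : T' ⟶ T) (hp : FlatMor.IsUnivHomeo p) [IsReduced T]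
    [T.IsSeparated] [T'.IsSeparated] [Y.IsSeparated] (f' : T' ⟶ Y)
    {ι : Type u} (U : ι → T.affineOpens) (hU : ⨆ i, (U i : T.Opens) = ⊤)
    (hloc : ∀ i, ∃ fi : ((U i : T.Opens) : Scheme.{u}) ⟶ Y, (p ⁻¹ᵁ (U i : T.Opens)).ι ≫ f' = (p ∣_ (U i : T.Opens)) ≫ fi) :
    ∃ f : T ⟶ Y, p ≫ f = f' := by
  let Us : ι → T.Opens := fun i => (U i : T.Opens)
  let 𝒰 := T.openCoverOfIsOpenCover Us hU
  choose fi hfi using hloc
  have hwd : ∀ i j, Limits.pullback.fst (Us i).ι (Us j).ι ≫ fi i =
      Limits.pullback.snd (Us i).ι (Us j).ι ≫ fi j := by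
    intro i j
    haveI : IsReduced (Limits.pullback (Us i).ι (Us j).ι) :=
      isReduced_of_isOpenImmersion (Limits.pullback.fst (Us i).ι (Us j).ι ≫ (Us i).ι)
    set q := Limits.pullback.fst (Us i).ι (Us j).ι ≫ (Us i).ι with hq
    have hhomeo : IsHomeomorph (Limits.pullback.fst q p) :=
      hp _ _ _ (CategoryTheory.IsPullback.of_hasPullback q p)
    haveI : Surjective (Limits.pullback.fst q p) := ⟨hhomeo.surjective⟩
    have key : ∀ (l : ι) (π : Limits.pullback (Us i).ι (Us j).ι ⟶ (Us l : Scheme.{u})),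
        π ≫ (Us l).ι = q → Limits.pullback.fst q p ≫ π ≫ fi l = Limits.pullback.snd q p ≫ f' := by
      intro l π hπ
      have hrange : Set.range (Limits.pullback.snd q p) ⊆ Set.range (p ⁻¹ᵁ Us l).ι := by
        rintro _ ⟨w, rfl⟩
        rw [Scheme.Opens.range_ι]
        show p (Limits.pullback.snd q p w) ∈ Us l
        rw [← Scheme.Hom.comp_apply, ← Limits.pullback.condition, Scheme.Hom.comp_apply,
          ← congrArg (fun φ => φ (Limits.pullback.fst q p w)) (congrArg Scheme.Hom.toLRSHom hπ |> fun _ => hπ)]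
        exact ((π ((Limits.pullback.fst q p) w))).2
      let a := IsOpenImmersion.lift (p ⁻¹ᵁ Us l).ι (Limits.pullback.snd q p) hrange
      have ha : a ≫ (p ⁻¹ᵁ Us l).ι = Limits.pullback.snd q p := IsOpenImmersion.lift_fac _ _ _
      have hb : a ≫ (p ∣_ Us l) = Limits.pullback.fst q p ≫ π := by
        rw [← cancel_mono (Us l).ι, Category.assoc, morphismRestrict_ι, reassoc_of% ha,
          ← Limits.pullback.condition, Category.assoc, hπ]
      rw [← reassoc_of% hb, ← hfi l, reassoc_of% ha]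
    exact ext_of_isDominant (Limits.pullback.fst q p) ((key i _ rfl).trans
      (key j _ Limits.pullback.condition.symm).symm)
  refine ⟨𝒰.glueMorphisms fi hwd, ?_⟩
  refine Scheme.Cover.hom_ext (T'.openCoverOfIsOpenCover (fun i => p ⁻¹ᵁ Us i) ?_) _ _ fun i => ?_
  · show ⨆ i, p ⁻¹ᵁ Us i = ⊤
    rw [← Scheme.Hom.preimage_iSup, show ⨆ i, Us i = ⊤ from hU, Scheme.Hom.preimage_top]
  · show (p ⁻¹ᵁ Us i).ι ≫ p ≫ 𝒰.glueMorphisms fi hwd = (p ⁻¹ᵁ Us i).ι ≫ f'
    rw [← reassoc_of% morphismRestrict_ι p (Us i), hfi i]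
    congr 1
    exact Scheme.Cover.ι_glueMorphisms 𝒰 fi hwd i

end Groth.Agent.S13835
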