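import Groth.Statements.S13837
import Groth.Agent.UnivHomeo.Basic

set_option autoImplicit false
universe u
open AlgebraicGeometry
open scoped TensorProduct
open HTop

namespace Groth.Agent.S13837
open Groth.Agent.UnivHomeo.Basic

/-- Let A ⊆ B be an integral ring extension where A and B have finitely many minimal prime ideals; then
the weak normalization of A in B is the equaliser of the two maps B ⇉ (B ⊗_A B)_red: the
A-subalgebra E of elements b with b ⊗ 1 − 1 ⊗ b nilpotent in B ⊗_A B has Spec E → Spec A a universal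
homeomorphism, and every A-subalgebra C of B with Spec C → Spec A a universal homeomorphism is
contained in E. -/
theorem result (A B : Type u) [CommRing A] [CommRing B] [Algebra A B] (hinj : Function.Injective (algebraMap A B))
    [Algebra.IsIntegral A B] (hA : (minimalPrimes A).Finite) (hB : (minimalPrimes B).Finite) :
    ∃ E : Subalgebra A B, (∀ b : B, b ∈ E ↔ IsNilpotent (b ⊗ₜ[A] (1 : B) - (1 : B) ⊗ₜ[A] b)) ∧
      FlatMor.IsUnivHomeo (Spec.map (CommRingCat.ofHom (algebraMap A E))) ∧
      ∀ C : Subalgebra A B, FlatMor.IsUnivHomeo (Spec.map (CommRingCat.ofHom (algebraMap A C))) → C ≤ E := by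
  classical
  let I := nilradical (B ⊗[A] B)
  let inl : B →ₐ[A] B ⊗[A] B ⧸ I :=
    (Ideal.Quotient.mkₐ A I).comp Algebra.TensorProduct.includeLeft
  let inr : B →ₐ[A] B ⊗[A] B ⧸ I :=
    (Ideal.Quotient.mkₐ A I).comp Algebra.TensorProduct.includeRight
  let E := AlgHom.equalizer inl inr
  have hE : ∀ b : B, b ∈ E ↔ IsNilpotent (b ⊗ₜ[A] (1 : B) - (1 : B) ⊗ₜ[A] b) := by
    intro b
    rw [AlgHom.mem_equalizer, ← mem_nilradical]
    exact Ideal.Quotient.eq
  have hsurj : Function.Surjective (PrimeSpectrum.comap (algebraMap A E)) := by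
    intro p
    obtain ⟨q, hq⟩ := (algebraMap_isIntegral_iff.mpr ‹Algebra.IsIntegral A B›).comap_surjective hinj p
    exact ⟨PrimeSpectrum.comap E.val.toRingHom q, hq⟩
  have hint : (algebraMap A E).IsIntegral := fun x =>
    (isIntegral_algHom_iff E.val Subtype.val_injective).mp (Algebra.IsIntegral.isIntegral (R := A) (x : B))
  have hval : E.val.toRingHom.IsIntegral := by
    refine RingHom.IsIntegral.tower_top (algebraMap A E) _ ?_
    have : E.val.toRingHom.comp (algebraMap A E) = algebraMap A B := rfl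
    rw [this]
    exact algebraMap_isIntegral_iff.mpr inferInstance
  refine ⟨E, hE, (isUnivHomeo_spec_iff _).mpr ⟨hint, hsurj, ?_⟩, ?_⟩
  · intro K _ g₁ g₂ hg
    let ι := algebraMap K (AlgebraicClosure K)
    have hext : ∀ g : E →+* K, ∃ g' : B →+* AlgebraicClosure K, g'.comp E.val.toRingHom = ι.comp g := by
      intro g
      haveI : (RingHom.ker (ι.comp g)).IsPrime := RingHom.ker_isPrime _
      obtain ⟨Q, hQ⟩ := hval.comap_surjective Subtype.val_injective ⟨RingHom.ker (ι.comp g), inferInstance⟩
      obtain ⟨g', hg', -⟩ := exists_extend_of_isIntegral hval (ι.comp g) Q.asIdeal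
        (congrArg PrimeSpectrum.asIdeal hQ).symm
      exact ⟨g', hg'⟩
    obtain ⟨f₁, hf₁⟩ := hext g₁
    obtain ⟨f₂, hf₂⟩ := hext g₂
    letI : Algebra A (AlgebraicClosure K) := ((ι.comp g₁).comp (algebraMap A E)).toAlgebra
    let f₁' : B →ₐ[A] AlgebraicClosure K := ⟨f₁, fun a => RingHom.congr_fun hf₁ (algebraMap A E a)⟩
    let f₂' : B →ₐ[A] AlgebraicClosure K := ⟨f₂, fun a =>
      (RingHom.congr_fun hf₂ (algebraMap A E a)).trans
        (congrArg ι (RingHom.congr_fun hg a).symm)⟩
    let h := Algebra.TensorProduct.lift f₁' f₂' fun _ _ => Commute.all _ _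
    ext b
    apply ι.injective
    have hnil := (hE b).mp b.2
    have h0 : h ((b : B) ⊗ₜ[A] (1 : B) - (1 : B) ⊗ₜ[A] (b : B)) = 0 := (hnil.map h).eq_zero
    simp only [map_sub, h, Algebra.TensorProduct.lift_tmul, map_one, mul_one, one_mul,
      sub_eq_zero] at h0
    exact (RingHom.congr_fun hf₁ b).symm.trans (h0.trans (RingHom.congr_fun hf₂ b))
  · intro C hC b hb
    rw [hE]
    obtain ⟨-, -, hinjC⟩ := (isUnivHomeo_spec_iff _).mp hC
    let c : C := ⟨b, hb⟩
    have hnil : IsNilpotent (c ⊗ₜ[A] (1 : C) - (1 : C) ⊗ₜ[A] c) := by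
      rw [nilpotent_iff_mem_prime]
      intro P hP
      have := hinjC P.ResidueField
        ((algebraMap (C ⊗[A] C) P.ResidueField).comp Algebra.TensorProduct.includeLeftRingHom)
        ((algebraMap (C ⊗[A] C) P.ResidueField).comp
          (Algebra.TensorProduct.includeRight : C →ₐ[A] C ⊗[A] C).toRingHom) ?_
      · rw [← Ideal.algebraMap_residueField_eq_zero, map_sub, sub_eq_zero]
        exact RingHom.congr_fun this c
      · ext a
        simp
    simpa [c] using hnil.map (Algebra.TensorProduct.map C.val C.val)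

end Groth.Agent.S13837
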