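import Groth.Statements.S13838
import Groth.Agent.UnivHomeo.Basic

set_option autoImplicit false
universe u
open AlgebraicGeometry
open HTop

namespace Groth.Agent.S13838
open Groth.Agent.UnivHomeo.Basic

/-- Let A ⊆ B be an integral ring extension where A and B have finitely many minimal prime ideals, such
that every prime p of A has a prime q of B above it for which k(p) is closed under extracting
p-power roots inside k(q) (the purely inseparable closure of k(p) in k(q) is k(p)); then the semi-
and weak normalizations of A in B coincide: every A-subalgebra C of B with Spec C → Spec A a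
universal homeomorphism already induces isomorphisms on residue fields. -/
theorem result (A B : Type u) [CommRing A] [CommRing B] [Algebra A B] (hinj : Function.Injective (algebraMap A B))
    [Algebra.IsIntegral A B] (hA : (minimalPrimes A).Finite) (hB : (minimalPrimes B).Finite)
    (hpi : ∀ p : PrimeSpectrum A, ∃ q : PrimeSpectrum B, ∃ hq : p.asIdeal = Ideal.comap (algebraMap A B) q.asIdeal,
      ∀ x : q.asIdeal.ResidueField,
        (∃ n : ℕ, x ^ ringExpChar p.asIdeal.ResidueField ^ n ∈
            Set.range (Ideal.ResidueField.map p.asIdeal q.asIdeal (algebraMap A B) hq)) →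
        x ∈ Set.range (Ideal.ResidueField.map p.asIdeal q.asIdeal (algebraMap A B) hq)) :
    ∀ C : Subalgebra A B, FlatMor.IsUnivHomeo (Spec.map (CommRingCat.ofHom (algebraMap A C))) →
      HTop.ResidueFieldsIso (Spec.map (CommRingCat.ofHom (algebraMap A C))) := by
  intro C hC
  obtain ⟨-, -, hpts⟩ := (isUnivHomeo_spec_iff _).mp hC
  rw [residueFieldsIso_spec_iff]
  intro r
  refine ⟨RingHom.injective _, fun x => ?_⟩
  obtain ⟨q, hq, hcl⟩ := hpi (PrimeSpectrum.comap (algebraMap A C) r)
  have hr : r = PrimeSpectrum.comap C.val.toRingHom q := by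
    apply comap_injective_of_injPoints hpts
    exact PrimeSpectrum.ext hq
  have hr' : r.asIdeal = Ideal.comap C.val.toRingHom q.asIdeal := congrArg PrimeSpectrum.asIdeal hr
  let j := Ideal.ResidueField.map r.asIdeal q.asIdeal C.val.toRingHom hr'
  let i := Ideal.ResidueField.map (PrimeSpectrum.comap (algebraMap A C) r).asIdeal r.asIdeal
    (algebraMap A C) rfl
  have hji := residueFieldMap_comp (algebraMap A C) C.val.toRingHom (algebraMap A B) rfl
    (PrimeSpectrum.comap (algebraMap A C) r).asIdeal r.asIdeal q.asIdeal rfl hr' hq
  obtain ⟨n, y, hy⟩ := exists_pow_mem_range_residueFieldMap hpts r.asIdeal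
    (PrimeSpectrum.comap (algebraMap A C) r).asIdeal rfl x
  obtain ⟨z, hz⟩ := hcl (j x) ⟨n, y, by rw [← map_pow, ← hji, ← hy]; rfl⟩
  refine ⟨z, j.injective ?_⟩
  rw [← hz, ← hji]
  rfl

end Groth.Agent.S13838
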