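import Groth.Statements.S13839
import Groth.Agent.Lead.SymSn.Field
import Groth.Agent.Lead.SymSn.Seminormal
import Groth.Agent.UnivHomeo.Basic
-- import your own Groth.Agent.* helpers here

set_option autoImplicit false
universe u
open AlgebraicGeometry
open scoped TensorProduct
open ChowMon

namespace Groth.Agent.S13839

/-- Let C be a Noetherian seminormal A-algebra, g : C → C' an A-algebra map with C' reduced such that
Spec C' → Spec C is a finite universal homeomorphism, and d ≥ 1 an integer divisible by every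
residue degree [k(q) : k(g⁻¹q)]; let B be a flat A-algebra and φ : B → C' an A-algebra map. Then for
every symmetric tensor x ∈ TS^d_A(B) the element φ(m_d(x)) of C', m_d : B^{⊗d} → B the
multiplication, lies in the image of C. (The published statement does not assume C' reduced and is
false without it: take A = C = k a field, C' = k[ε]/(ε²), d = 1, B = k[t] and φ(t) = ε; then ε is
not in k.) -/
theorem result (A C C' B : Type u) [CommRing A] [CommRing C] [CommRing C'] [CommRing B]
    [Algebra A C] [Algebra A C'] [Algebra A B] [IsNoetherianRing C] (hC : HTop.IsSeminormalRing C)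
    (g : C →ₐ[A] C') [IsReduced C'] (hfin : g.toRingHom.Finite)
    (hg : FlatMor.IsUnivHomeo (Spec.map (CommRingCat.ofHom g.toRingHom)))
    (d : ℕ) (hd : 0 < d)
    (hdeg : ∀ q : PrimeSpectrum C',
      @Module.finrank (PrimeSpectrum.comap g.toRingHom q).asIdeal.ResidueField q.asIdeal.ResidueField _ _
          (Ideal.ResidueField.map (PrimeSpectrum.comap g.toRingHom q).asIdeal q.asIdeal g.toRingHom
            rfl).toAlgebra.toModule ∣ d)
    [Module.Flat A B] (φ : B →ₐ[A] C') (x : ⨂[A] _ : Fin d, B) (hx : x ∈ SymTen.TS A B d) :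
    φ (PiTensorProduct.lift (MultilinearMap.mkPiAlgebra A (Fin d) B) x) ∈ g.range := by
  classical
  letI : Algebra C C' := g.toRingHom.toAlgebra
  haveI : IsScalarTower A C C' := IsScalarTower.of_algebraMap_eq fun a => (g.commutes a).symm
  obtain ⟨hint, hsurj, hinjp⟩ := (Groth.Agent.UnivHomeo.Basic.isUnivHomeo_spec_iff _).1 hg
  haveI : Algebra.IsIntegral C C' := ⟨hint⟩
  haveI := LeadSymSn.isReduced_of_seminormal hC
  have hinj : Function.Injective (algebraMap C C') := by
    refine (injective_iff_map_eq_zero _).2 fun c hc => ?_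
    refine IsReduced.eq_zero c (mem_nilradical.1 ?_)
    rw [nilradical_eq_sInf, Ideal.mem_sInf]
    intro P hP
    obtain ⟨Q, hQ⟩ := hsurj ⟨P, hP⟩
    have h1 : c ∈ (PrimeSpectrum.comap g.toRingHom Q).asIdeal := by
      show algebraMap C C' c ∈ Q.asIdeal
      rw [hc]
      exact Q.asIdeal.zero_mem
    rw [hQ] at h1
    exact h1
  refine LeadSymSn.mem_range_of_residues hC hinj
    (Groth.Agent.UnivHomeo.Basic.comap_injective_of_injPoints hinjp) _ fun Q => ?_
  let P : Ideal C := (PrimeSpectrum.comap g.toRingHom Q).asIdeal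
  let K := P.ResidueField
  let L := Q.asIdeal.ResidueField
  letI : Algebra K L := (Ideal.ResidueField.map P Q.asIdeal g.toRingHom rfl).toAlgebra
  haveI : IsScalarTower A K L := IsScalarTower.of_algebraMap_eq fun a => by
    rw [IsScalarTower.algebraMap_apply A C' L, IsScalarTower.algebraMap_apply A C K,
      RingHom.algebraMap_toAlgebra, Ideal.ResidueField.map_algebraMap]
    exact congrArg _ (g.commutes a).symm
  haveI : ExpChar K (ringExpChar K) := ringExpChar.expChar K
  haveI : IsPurelyInseparable K L := (isPurelyInseparable_iff_pow_mem K (ringExpChar K)).2 fun z => by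
    obtain ⟨n, hn⟩ := Groth.Agent.UnivHomeo.Basic.exists_pow_mem_range_residueFieldMap hinjp Q.asIdeal P rfl z
    exact ⟨n, hn⟩
  let ψ : B →ₐ[A] L := (IsScalarTower.toAlgHom A C' L).comp φ
  let Θ : (⨂[A] _ : Fin d, B) →ₗ[A] (⨂[K] _ : Fin d, L) :=
    PiTensorProduct.lift (((PiTensorProduct.tprod K).restrictScalars A).compLinearMap fun _ => ψ.toLinearMap)
  have hperm : ∀ (σ : Equiv.Perm (Fin d)) (t : ⨂[A] _ : Fin d, B),
      Θ (PiTensorProduct.reindex A (fun _ : Fin d => B) σ t) =
        PiTensorProduct.reindex K (fun _ : Fin d => L) σ (Θ t) := by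
    intro σ t
    induction t using PiTensorProduct.induction_on with
    | add p q hp hq => simp [hp, hq]
    | smul_tprod r v =>
      simp only [map_smul, LinearEquiv.map_smul, Θ, PiTensorProduct.reindex_tprod, PiTensorProduct.lift.tprod,
        MultilinearMap.compLinearMap_apply, MultilinearMap.coe_restrictScalars]
      refine Eq.trans ?_ ((PiTensorProduct.reindex K (fun _ : Fin d => L) σ).toLinearMap.map_smul_of_tower r _).symm
      simp [PiTensorProduct.reindex_tprod]
  have hmul : ∀ t : ⨂[A] _ : Fin d, B,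
      PiTensorProduct.lift (MultilinearMap.mkPiAlgebra K (Fin d) L) (Θ t) =
        ψ (PiTensorProduct.lift (MultilinearMap.mkPiAlgebra A (Fin d) B) t) := by
    intro t
    induction t using PiTensorProduct.induction_on with
    | add p q hp hq => simp [hp, hq]
    | smul_tprod r v => simp [Θ, map_prod]
  obtain ⟨z, hz⟩ := LeadSymSn.lift_mem_range (K := K) (L := L) hd (hdeg Q) (Θ x)
    (fun σ => by rw [← hperm, hx σ])
  rw [hmul] at hz
  obtain ⟨c₀, s₀, hs₀, rfl⟩ := IsFractionRing.div_surjective (A := C ⧸ P) z
  obtain ⟨c, rfl⟩ := Ideal.Quotient.mk_surjective c₀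
  obtain ⟨s, rfl⟩ := Ideal.Quotient.mk_surjective s₀
  have hs : s ∉ P := fun h => nonZeroDivisors.ne_zero hs₀ (Ideal.Quotient.eq_zero_iff_mem.2 h)
  have he : ∀ e : C, algebraMap K L (algebraMap C K e) = algebraMap C' L (algebraMap C C' e) := fun e => by
    rw [RingHom.algebraMap_toAlgebra]
    exact Ideal.ResidueField.map_algebraMap _ _ _ _ e
  rw [map_div₀, ← Ideal.Quotient.algebraMap_eq, ← IsScalarTower.algebraMap_apply C (C ⧸ P) K,
    ← IsScalarTower.algebraMap_apply C (C ⧸ P) K, he, he] at hz
  have hne : algebraMap C' L (algebraMap C C' s) ≠ 0 := fun h => hs ((Ideal.algebraMap_residueField_eq_zero (I := Q.asIdeal)).1 h)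
  refine ⟨s, c, fun h => hs h, ?_⟩
  rw [← Ideal.algebraMap_residueField_eq_zero, map_sub, map_mul, sub_eq_zero, mul_comm]
  rw [div_eq_iff hne] at hz
  exact hz.symm

end Groth.Agent.S13839
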