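import Groth.Statements.S13841
import Groth.Agent.Br8.IndexBC

set_option autoImplicit false
universe u v
open scoped TensorProduct
open Brauer

namespace Groth.Agent.S13841

/-- Let k be a field and A a finite-dimensional central simple k-algebra of period n. Then A has index n
if and only if there is a finite field extension k' of k of degree coprime to n such that the index
of the k'-algebra k' ⊗_k A divides n. (The published statement is for a class of period n in H²(X,
G_m) on a scheme X over k; this row is the case where X is the spectrum of k.) -/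
theorem result (k : Type u) [Field k] (A : Type v) [Ring A] [Algebra k A]
    [Algebra.IsCentral k A] [IsSimpleRing A] [FiniteDimensional k A] (n : ℕ) (hper : CSAGal.IsPeriod k A n) :
    CSAGal.IsIndex k A n ↔
      ∃ (k' : Type u) (_ : Field k') (_ : Algebra k k') (_ : FiniteDimensional k k'),
        Nat.Coprime n (Module.finrank k k') ∧ ∃ d' : ℕ, CSAGal.IsIndex k' (k' ⊗[k] A) d' ∧ d' ∣ n := by
  have hA := Groth.Agent.Br8.isCSA (k := k) A
  obtain ⟨hn0, hord⟩ := (Groth.Agent.Br8.period_iff hA n).mp hper
  have hper' : Groth.Agent.Br8.cl A hA ^ n = 1 := by rw [← hord]; exact pow_orderOf_eq_one _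
  constructor
  · intro h
    refine ⟨k, inferInstance, Algebra.id k, inferInstance, by simp, ?_⟩
    exact (Groth.Agent.Br8.index_dvd_iff (L := k) hA hn0 (by simp) hper').mp ⟨n, h, dvd_rfl⟩
  · rintro ⟨k', _, _, _, hcop, hd'⟩
    obtain ⟨d, hd, hdn⟩ := (Groth.Agent.Br8.index_dvd_iff hA hn0 hcop hper').mpr hd'
    obtain ⟨D, _, _, hD, hfin, -, hcl⟩ := Groth.Agent.Br8.index_data' hA hd
    have hnd : n ∣ d := by
      rw [← hord]
      exact orderOf_dvd_of_pow_eq_one (by rw [hcl]; exact Groth.Agent.Br8.deg_pow hD hfin)
    rwa [Nat.dvd_antisymm hdn hnd] at hd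

end Groth.Agent.S13841
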