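import Groth.Statements.S13860
import Mathlib

set_option autoImplicit false
set_option backward.isDefEq.respectTransparency false
universe u v w
open ModRep

namespace Groth.Agent.S13860

/-- For k a field of characteristic p > 0, G a finite group and P a Sylow p-subgroup of G, a short exact
sequence of k[G]-modules has a k[G]-linear splitting exactly when it has a k[P]-linear one. Stated
here for the surjection of the sequence: a G-equivariant k-linear map g : B → C between k-linear
representations of G admits a G-equivariant k-linear section if and only if it admits a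
P-equivariant k-linear section. -/
theorem result {k : Type u} [Field k] (p : ℕ) [Fact p.Prime]
    [CharP k p] {G : Type v} [Group G] [Finite G] (P : Sylow p G)
    {B C : Type w} [AddCommGroup B] [Module k B] [AddCommGroup C] [Module k C]
    (ρB : Representation k G B) (ρC : Representation k G C)
    (g : B →ₗ[k] C) (hg : ∀ x : G, g ∘ₗ ρB x = ρC x ∘ₗ g) :
    (∃ s : C →ₗ[k] B, g ∘ₗ s = LinearMap.id ∧ ∀ x : G, s ∘ₗ ρC x = ρB x ∘ₗ s) ↔
      (∃ s : C →ₗ[k] B, g ∘ₗ s = LinearMap.id ∧ ∀ x : G, x ∈ P → s ∘ₗ ρC x = ρB x ∘ₗ s) := by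
  classical
  constructor
  · rintro ⟨s, h1, h2⟩
    exact ⟨s, h1, fun x _ => h2 x⟩
  rintro ⟨s, hs1, hs2⟩
  letI : Fintype (G ⧸ (P : Subgroup G)) := Fintype.ofFinite _
  set N : k := ((Fintype.card (G ⧸ (P : Subgroup G)) : ℕ) : k) with hN
  have hN0 : N ≠ 0 := by
    rw [hN, Ne, CharP.cast_eq_zero_iff k p]
    have := P.not_dvd_index
    rwa [Subgroup.index_eq_card, Nat.card_eq_fintype_card] at this
  let conj : G → C →ₗ[k] B := fun x => ρB x ∘ₗ s ∘ₗ ρC x⁻¹
  have hP : ∀ x h, h ∈ (P : Subgroup G) → conj (x * h) = conj x := fun x h hh => by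
    have e : ρB h ∘ₗ s = s ∘ₗ ρC h := (hs2 h hh).symm
    ext c
    have := LinearMap.congr_fun e (ρC h⁻¹ (ρC x⁻¹ c))
    simp only [LinearMap.comp_apply] at this
    simp only [conj, LinearMap.comp_apply, mul_inv_rev, map_mul, Module.End.mul_apply]
    rw [this, ← Module.End.mul_apply (ρC h), ← map_mul, mul_inv_cancel, map_one]
    rfl
  let cq : G ⧸ (P : Subgroup G) → C →ₗ[k] B := Quotient.lift conj (fun a b hab => by
    have : a⁻¹ * b ∈ (P : Subgroup G) := QuotientGroup.leftRel_apply.1 hab
    rw [← hP a _ this, mul_inv_cancel_left])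
  have hcq : ∀ (y : G) (q : G ⧸ (P : Subgroup G)), cq (y • q) = ρB y ∘ₗ cq q ∘ₗ ρC y⁻¹ := by
    intro y q
    induction q using Quotient.inductionOn with
    | h x =>
      show conj (y * x) = ρB y ∘ₗ conj x ∘ₗ ρC y⁻¹
      ext c
      simp [conj, mul_inv_rev]
  have hgc : ∀ q, g ∘ₗ cq q = LinearMap.id := by
    intro q
    induction q using Quotient.inductionOn with
    | h x =>
      show g ∘ₗ conj x = LinearMap.id
      ext c
      have e1 := LinearMap.congr_fun (hg x) (s (ρC x⁻¹ c))
      have e2 := LinearMap.congr_fun hs1 (ρC x⁻¹ c)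
      simp only [LinearMap.comp_apply, LinearMap.id_apply] at e1 e2
      simp only [conj, LinearMap.comp_apply, LinearMap.id_apply, e1, e2]
      rw [← Module.End.mul_apply, ← map_mul, mul_inv_cancel, map_one]
      rfl
  refine ⟨N⁻¹ • ∑ q, cq q, ?_, fun y => ?_⟩
  · rw [LinearMap.comp_smul, show g ∘ₗ ∑ q, cq q = ∑ q, g ∘ₗ cq q from map_sum (LinearMap.llcomp k C B C g) cq Finset.univ, Finset.sum_congr rfl (fun q _ => hgc q), Finset.sum_const,
      Finset.card_univ, ← Nat.cast_smul_eq_nsmul k, ← hN, inv_smul_smul₀ hN0]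
  · rw [LinearMap.smul_comp, LinearMap.comp_smul,
      show (∑ q, cq q) ∘ₗ ρC y = ∑ q, cq q ∘ₗ ρC y from map_sum ((LinearMap.llcomp k C C B).flip (ρC y)) cq Finset.univ,
      show ρB y ∘ₗ ∑ q, cq q = ∑ q, ρB y ∘ₗ cq q from map_sum (LinearMap.llcomp k C B B (ρB y)) cq Finset.univ]
    congr 1
    rw [← Equiv.sum_comp (MulAction.toPerm y) (fun q => cq q ∘ₗ ρC y)]
    refine Finset.sum_congr rfl fun q _ => ?_
    ext c
    simp only [MulAction.toPerm_apply, hcq, LinearMap.comp_apply]
    rw [← Module.End.mul_apply (ρC y⁻¹), ← map_mul, inv_mul_cancel, map_one]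
    rfl

end Groth.Agent.S13860
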