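import Groth.Statements.S13864
import Mathlib.RingTheory.PowerSeries.Substitution
import Mathlib.RingTheory.PowerSeries.Inverse
import Mathlib.Algebra.CharP.Algebra
import Mathlib.Algebra.CharP.Lemmas
import Mathlib.FieldTheory.IsAlgClosed.Basic
import Mathlib.Algebra.Ring.GeomSum
import Mathlib.RingTheory.Ideal.Quotient.Operations

set_option autoImplicit false
universe u
open ASCover

namespace Groth.Agent.S13864

theorem u_sub_one_dvd {k : Type u} [Field k] {n : ℕ} (hn : 0 < n) (hnk : (n : k) ≠ 0) {u : PowerSeries k}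
    (hu1 : PowerSeries.constantCoeff u = 1) (hun : u ^ n * (1 + PowerSeries.X ^ n) = 1) :
    ∃ w, u - 1 = PowerSeries.X ^ n * w := by
  have hG : IsUnit (∑ i ∈ Finset.range n, u ^ i) := by
    rw [PowerSeries.isUnit_iff_constantCoeff, isUnit_iff_ne_zero]
    simpa [hu1] using hnk
  obtain ⟨G, hG'⟩ := hG
  refine ⟨-(u ^ n) * (↑G⁻¹ : PowerSeries k), ?_⟩
  have h1 : (u - 1) * (↑G : PowerSeries k) = PowerSeries.X ^ n * -(u ^ n) := by
    rw [hG', mul_comm, geom_sum_mul]; linear_combination hun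
  rw [← mul_assoc, ← h1, Units.mul_inv_cancel_right]

/-- Let k be an algebraically closed field of characteristic p > 0, n ≥ 1 an integer prime to p, u ∈
k[[t]] the power series with constant term 1 and u^n · (1 + t^n) = 1 (so σ(t) = t·u is a
k-automorphism of k((t)) of order p), and a an integer; σ acts on I = t^a·k[[t]], and transported to
B = k[[t]] along h ↦ t^a·h the action is h ↦ u^a · h(t·u). For 1 ≤ m ≤ n let c_m ∈ B be determined
by t^m · c_m = u^(a−m) − 1; this is the cocycle value σ(t^i) − t^i ∈ I of the element t^i, i = a −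
m, divided by t^a. The published lemma says that the classes of the t^i with a − n ≤ i ≤ a − 1 and p
∤ i form a basis of H^1(⟨σ⟩, I); this row states their linear independence: if Σ λ_m c_m, summed
over 1 ≤ m ≤ n with p ∤ a − m, equals u^a · h(t·u) − h for some h ∈ B, then every such λ_m is 0.
(Together with the dimension of this H^1, namely n − ⌊(a−1)/p⌋ + ⌊(a−1−n)/p⌋, this gives the basis
statement.) -/
theorem result {k : Type u} [Field k] [IsAlgClosed k] (p : ℕ)
    [Fact p.Prime] [CharP k p] (n : ℕ) (hn : 0 < n) (hpn : ¬ p ∣ n)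
    (u : PowerSeries k) (hu1 : PowerSeries.constantCoeff u = 1)
    (hun : u ^ n * (1 + PowerSeries.X ^ n) = 1) (hu : IsUnit u) (a : ℤ)
    (c : ℕ → PowerSeries k)
    (hc : ∀ m : ℕ, 1 ≤ m → m ≤ n →
      PowerSeries.X ^ m * c m = ((hu.unit ^ (a - m) : (PowerSeries k)ˣ) : PowerSeries k) - 1)
    (coef : ℕ → k) (h : PowerSeries k)
    (hh : ((hu.unit ^ a : (PowerSeries k)ˣ) : PowerSeries k) * PowerSeries.subst (PowerSeries.X * u) h - h =
      ∑ m ∈ (Finset.Icc 1 n).filter (fun m : ℕ => ¬ (p : ℤ) ∣ a - (m : ℤ)), coef m • c m) :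
    ∀ m ∈ (Finset.Icc 1 n).filter (fun m : ℕ => ¬ (p : ℤ) ∣ a - (m : ℤ)), coef m = 0 := by
  classical
  have hnk : (n : k) ≠ 0 := fun h => hpn ((CharP.cast_eq_zero_iff k p n).1 h)
  have hs : PowerSeries.HasSubst (PowerSeries.X * u) := PowerSeries.HasSubst.of_constantCoeff_zero' (by simp)
  let σ : PowerSeries k →ₐ[k] PowerSeries k := PowerSeries.substAlgHom hs
  have hσ : ∀ f, σ f = PowerSeries.subst (PowerSeries.X * u) f := fun f => by rw [← PowerSeries.coe_substAlgHom hs]
  have hσX : σ PowerSeries.X = PowerSeries.X * u := by rw [hσ, PowerSeries.subst_X hs]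
  rw [← hσ] at hh
  let S := (Finset.Icc 1 n).filter (fun m : ℕ => ¬ (p : ℤ) ∣ a - (m : ℤ))
  by_contra hne
  push Not at hne
  obtain ⟨m₁, hm₁, hcm₁⟩ := hne
  let S' := S.filter (fun m => coef m ≠ 0)
  have hS' : S'.Nonempty := ⟨m₁, Finset.mem_filter.2 ⟨hm₁, hcm₁⟩⟩
  let m₀ := S'.max' hS'
  obtain ⟨hm₀S, hcm₀⟩ := Finset.mem_filter.1 (S'.max'_mem hS')
  obtain ⟨hm₀I, hm₀d⟩ := Finset.mem_filter.1 hm₀S
  rw [Finset.mem_Icc] at hm₀I
  have hsum : ∑ m ∈ S, coef m • c m = ∑ m ∈ S', coef m • c m := by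
    refine (Finset.sum_filter_of_ne (p := fun m => coef m ≠ 0) fun m _ hm h0 => hm ?_).symm
    rw [h0, zero_smul]
  let P : PowerSeries k := (∑ m ∈ S', coef m • PowerSeries.X ^ (m₀ - m)) - PowerSeries.X ^ m₀ * h
  have hP0 : PowerSeries.constantCoeff P ≠ 0 := by
    have : PowerSeries.constantCoeff P = coef m₀ := by
      simp only [P, map_sub, map_sum, map_mul, map_pow, PowerSeries.constantCoeff_X,
        zero_pow (show m₀ ≠ 0 by omega), zero_mul, sub_zero, PowerSeries.smul_eq_C_mul, PowerSeries.constantCoeff_C]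
      rw [Finset.sum_eq_single m₀]
      · simp
      · intro m hm hne
        rw [zero_pow (by have := S'.le_max' m hm; omega), mul_zero]
      · exact fun h => absurd (S'.max'_mem hS') h
    rwa [this]
  let b : ℤ := a - m₀
  have hfix : ((hu.unit ^ b : (PowerSeries k)ˣ) : PowerSeries k) * σ P = P := by
    have hX : ∀ j : ℕ, ((hu.unit ^ b : (PowerSeries k)ˣ) : PowerSeries k) * σ (PowerSeries.X ^ j) =
        PowerSeries.X ^ j * ((hu.unit ^ (b + j) : (PowerSeries k)ˣ) : PowerSeries k) := fun j => by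
      rw [map_pow, hσX, mul_pow, zpow_add, Units.val_mul, zpow_natCast, Units.val_pow_eq_pow_val, hu.unit_spec]
      ring
    rw [← sub_eq_zero]
    have e : ∀ m ∈ S', ((hu.unit ^ b : (PowerSeries k)ˣ) : PowerSeries k) * σ (coef m • PowerSeries.X ^ (m₀ - m)) -
        coef m • PowerSeries.X ^ (m₀ - m) = PowerSeries.X ^ m₀ * (coef m • c m) := by
      intro m hm
      have hmm := S'.le_max' m hm
      obtain ⟨hmI, -⟩ := Finset.mem_filter.1 (Finset.mem_filter.1 hm).1
      rw [Finset.mem_Icc] at hmI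
      rw [map_smul, mul_smul_comm, hX, ← smul_sub, mul_smul_comm]
      congr 1
      rw [show b + ((m₀ - m : ℕ) : ℤ) = a - m by simp [b, m₀]; omega]
      conv_rhs => rw [show m₀ = (m₀ - m) + m by omega, pow_add, mul_assoc, hc m hmI.1 hmI.2]
      ring
    simp only [P, map_sub, map_sum, map_mul σ (PowerSeries.X ^ m₀), mul_sub, Finset.mul_sum, ← mul_assoc, hX]
    rw [show b + (m₀ : ℤ) = a by simp [b]]
    rw [sub_sub_sub_comm, ← Finset.sum_sub_distrib, Finset.sum_congr rfl e, ← Finset.mul_sum, ← hsum, ← hh]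
    ring
  -- modulo `X ^ (n + 1)`
  obtain ⟨w, hw⟩ := u_sub_one_dvd hn hnk hu1 hun
  have hσmod : ∀ (i : ℕ), i ≤ n + 1 → ∀ f : PowerSeries k, PowerSeries.X ^ i ∣ σ f - f := by
    intro i
    induction i with
    | zero => simp
    | succ i ih =>
      intro hi f
      obtain ⟨f₁, hf₁⟩ : PowerSeries.X ∣ f - PowerSeries.C (PowerSeries.constantCoeff f) :=
        PowerSeries.X_dvd_iff.2 (by simp)
      have hf : f = PowerSeries.C (PowerSeries.constantCoeff f) + PowerSeries.X * f₁ := by rw [← hf₁]; ring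
      have e : σ f - f = PowerSeries.X * ((u - 1) * σ f₁ + (σ f₁ - f₁)) := by
        conv_lhs => rw [hf, map_add, map_mul, hσX, show σ (PowerSeries.C (PowerSeries.constantCoeff f)) = PowerSeries.C (PowerSeries.constantCoeff f) from σ.commutes _]
        ring
      rw [e, pow_succ']
      exact mul_dvd_mul_left _ (dvd_add (Dvd.dvd.mul_right ((pow_dvd_pow _ (by omega)).trans ⟨w, hw⟩) _) (ih (by omega) f₁))
  let q : PowerSeries k →+* PowerSeries k ⧸ Ideal.span {(PowerSeries.X : PowerSeries k) ^ (n + 1)} := Ideal.Quotient.mk (Ideal.span {(PowerSeries.X : PowerSeries k) ^ (n + 1)})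
  have hPu : IsUnit (q P) := (PowerSeries.isUnit_iff_constantCoeff.2 (isUnit_iff_ne_zero.2 hP0)).map q
  have hb1 : Units.map q.toMonoidHom (hu.unit ^ b) = 1 := by
    refine Units.ext (hPu.mul_right_cancel ?_)
    change q _ * q P = 1 * q P
    rw [one_mul, ← map_mul, Ideal.Quotient.mk_eq_mk_iff_sub_mem, Ideal.mem_span_singleton]
    obtain ⟨d, hd⟩ := hσmod (n + 1) le_rfl P
    exact ⟨-(((hu.unit ^ b : (PowerSeries k)ˣ) : PowerSeries k)) * d, by linear_combination hfix - ((hu.unit ^ b : (PowerSeries k)ˣ) : PowerSeries k) * hd⟩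
  let QQ := PowerSeries k ⧸ Ideal.span {(PowerSeries.X : PowerSeries k) ^ (n + 1)}
  let ε : QQ := q (PowerSeries.X ^ n * w)
  have hq0 : ∀ i, n + 1 ≤ i → q (PowerSeries.X ^ i) = 0 := fun i hi =>
    Ideal.Quotient.eq_zero_iff_mem.2 (Ideal.mem_span_singleton.2 (pow_dvd_pow _ hi))
  have hεε : ε * ε = 0 := by
    rw [← map_mul, show PowerSeries.X ^ n * w * (PowerSeries.X ^ n * w) = PowerSeries.X ^ (n + n) * (w * w) by ring,
      map_mul, hq0 _ (by omega), zero_mul]
  have hqu : q u = 1 + ε := by rw [← map_one q, ← map_add, ← hw, add_sub_cancel]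
  have hzp : ∀ i : ℤ, ((Units.map q.toMonoidHom hu.unit ^ i : _ˣ) : QQ) = 1 + (i : QQ) * ε := by
    intro i
    induction i with
    | zero => simp
    | succ i ih =>
      rw [zpow_add_one, Units.val_mul, ih, show ((Units.map q.toMonoidHom hu.unit : _ˣ) : QQ) = 1 + ε from hqu]
      push_cast
      linear_combination (i : QQ) * hεε
    | pred i ih =>
      have h1 : (1 + ε) * (1 - ε) = 1 := by linear_combination -hεε
      have h2 : ((Units.map q.toMonoidHom hu.unit)⁻¹ : _ˣ) = ((Units.mkOfMulEqOne _ _ h1)⁻¹ : _ˣ) := by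
        congr 1; exact Units.ext hqu
      rw [zpow_sub_one, Units.val_mul, ih, h2]
      change (_ : QQ) * (1 - ε) = _
      push_cast
      linear_combination (i : QQ) * hεε
  have hrel : (n : QQ) * ε + q (PowerSeries.X ^ n) = 0 := by
    have h := congrArg q hun
    rw [map_mul, map_pow, hqu, map_one, map_add, map_one] at h
    have hn' := hzp n
    rw [zpow_natCast, Units.val_pow_eq_pow_val, show ((Units.map q.toMonoidHom hu.unit : _ˣ) : QQ) = 1 + ε from hqu, Int.cast_natCast] at hn'
    rw [hn'] at h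
    have h3 : ε * q (PowerSeries.X ^ n) = 0 := by
      rw [← map_mul, show PowerSeries.X ^ n * w * PowerSeries.X ^ n = PowerSeries.X ^ (n + n) * w by ring, map_mul, hq0 _ (by omega), zero_mul]
    linear_combination h - (n : QQ) * h3
  have hbε : (b : QQ) * ε = 0 := by
    have h := congrArg Units.val hb1
    rw [map_zpow, hzp, Units.val_one] at h
    linear_combination h
  have hbX : q ((b : PowerSeries k) * PowerSeries.X ^ n) = 0 := by
    rw [map_mul, map_intCast]
    linear_combination (b : QQ) * hrel - (n : QQ) * hbε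
  rw [Ideal.Quotient.eq_zero_iff_mem, Ideal.mem_span_singleton, PowerSeries.X_pow_dvd_iff] at hbX
  have := hbX n (by omega)
  rw [PowerSeries.coeff_mul_X_pow', if_pos le_rfl, Nat.sub_self, PowerSeries.coeff_zero_eq_constantCoeff_apply, map_intCast,
    CharP.intCast_eq_zero_iff k p] at this
  exact hm₀d this

end Groth.Agent.S13864
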