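import Groth.Statements.S13861
import Groth.Agent.ASCover.Local
import Groth.Agent.S13864

set_option autoImplicit false
universe u
open ASCover

namespace Groth.Agent.S13861

/-- Let k be an algebraically closed field of characteristic p > 0 and n ≥ 1 an integer prime to p; let
u ∈ k[[t]] be the power series with constant term 1 and u^n · (1 + t^n) = 1, so that t ↦ t·u = t(1 +
t^n)^(-1/n) defines a k-automorphism σ of k((t)) of order p (the action at a totally ramified point
of a ℤ/p-cover of curves with break n). For an integer a, the fractional ideal t^a·k[[t]] is stable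
under σ; transported to B = k[[t]] along h ↦ t^a·h the action of σ reads h ↦ u^a · h(t·u). For a
group G of order p generated by g acting on B through this map, the first group cohomology H^1(G, B)
is finite-dimensional over k, of dimension n − ⌊(a−1)/p⌋ + ⌊(a−1−n)/p⌋. (The published lemma also
identifies this H^1 with the cokernel of k((t))^G → (k((t))/t^a k[[t]])^G and names explicit
representatives t^i, a − n ≤ i ≤ a − 1 with p ∤ i, of a basis; those parts are not restated here.) -/
theorem result {k : Type u} [Field k] [IsAlgClosed k] (p : ℕ)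
    [Fact p.Prime] [CharP k p] (n : ℕ) (hn : 0 < n) (hpn : ¬ p ∣ n)
    (u : PowerSeries k) (hu1 : PowerSeries.constantCoeff u = 1)
    (hun : u ^ n * (1 + PowerSeries.X ^ n) = 1) (hu : IsUnit u) (a : ℤ)
    {G : Type u} [Group G] [Finite G] (g : G) (hG : Nat.card G = p)
    (hg : ∀ x : G, x ∈ Subgroup.zpowers g)
    (ρ : Representation k G (PowerSeries k))
    (hρ : ∀ h : PowerSeries k, ρ g h =
      ((hu.unit ^ a : (PowerSeries k)ˣ) : PowerSeries k) * PowerSeries.subst (PowerSeries.X * u) h) :
    Module.Finite k (groupCohomology.H1 (Rep.of ρ)) ∧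
      (Module.finrank k (groupCohomology.H1 (Rep.of ρ)) : ℤ) =
        n - (a - 1) / (p : ℤ) + (a - 1 - n) / (p : ℤ) := by
  classical
  have St : Groth.Agent.ASCover.Local.Setup p n u := ⟨Fact.out, inferInstance, hn, hpn, hu1, hun⟩
  have hord : orderOf g = p := by rw [orderOf_eq_card_of_forall_mem_zpowers hg, hG]
  have hρ' : ρ g = St.T a := St.rho_eq g ρ a fun h => by rw [hρ, St.U_eq hu]
  let Φ := Groth.Agent.ASCover.CyclicH1.toH1 ρ g hg (St.L a) (St.S_L g ρ a hρ' hord)
  have hinj : Function.Injective Φ := Groth.Agent.ASCover.CyclicH1.toH1_injective ρ g hg _ _ fun v hv => by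
    obtain ⟨h, hh⟩ := hv
    let coef : ℕ → k := fun m => if hm : m ∈ St.idx a then v ⟨m, hm⟩ else 0
    have e : ((hu.unit ^ a : (PowerSeries k)ˣ) : PowerSeries k) * PowerSeries.subst (PowerSeries.X * u) h - h =
        ∑ m ∈ St.idx a, coef m • St.c a m := by
      rw [← hρ, ← Finset.sum_coe_sort (St.idx a) (fun m => coef m • St.c a m)]
      refine hh.trans ?_
      rw [Groth.Agent.ASCover.Local.Setup.L, Fintype.linearCombination_apply]
      exact Finset.sum_congr rfl fun m _ => by rw [show coef m = v m from dif_pos m.2]
    have h0 := Groth.Agent.S13864.result p n hn hpn u hu1 hun hu a (fun m => St.c a m)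
      (fun m _ hm => by rw [St.U_eq hu]; exact St.c_spec a hm) coef h e
    funext m
    have := h0 m m.2
    rwa [show coef m = v m from dif_pos m.2] at this
  have hsurj : Function.Surjective Φ := Groth.Agent.ASCover.CyclicH1.toH1_surjective ρ g hg _ _ fun x hx => by
    rw [hρ']
    exact St.spans a (St.T_pow_card g ρ a hρ' hord) (by rw [← St.S_eq g ρ a hρ' hord]; exact hx)
  let e := LinearEquiv.ofBijective Φ ⟨hinj, hsurj⟩
  refine ⟨Module.Finite.equiv e, ?_⟩
  rw [← e.finrank_eq, Module.finrank_fintype_fun_eq_card, Fintype.card_coe]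
  exact St.card_idx a

end Groth.Agent.S13861
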