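import Groth.Statements.S13863
import Mathlib.RingTheory.PowerSeries.Substitution
import Mathlib.RingTheory.PowerSeries.Inverse
import Mathlib.Algebra.CharP.Algebra
import Mathlib.Algebra.CharP.Lemmas
import Mathlib.FieldTheory.IsAlgClosed.Basic
import Mathlib.Algebra.Ring.GeomSum
import Mathlib.RingTheory.Ideal.Quotient.Operations

set_option autoImplicit false
universe u
open ASCover

namespace Groth.Agent.S13863

theorem pow_left_inj_of_constantCoeff {k : Type u} [Field k] {n : ℕ} (hn : 0 < n) (hnk : (n : k) ≠ 0) {A B : PowerSeries k}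
    (hA : PowerSeries.constantCoeff A = 1) (hB : PowerSeries.constantCoeff B = 1) (h : A ^ n = B ^ n) : A = B := by
  rw [← sub_eq_zero] at h ⊢
  rw [← geom_sum₂_mul A B n, mul_eq_zero] at h
  refine h.resolve_left fun h0 => hnk ?_
  simpa [hA, hB] using congrArg PowerSeries.constantCoeff h0

theorem u_sub_one_dvd {k : Type u} [Field k] {n : ℕ} (hn : 0 < n) (hnk : (n : k) ≠ 0) {u : PowerSeries k}
    (hu1 : PowerSeries.constantCoeff u = 1) (hun : u ^ n * (1 + PowerSeries.X ^ n) = 1) :
    ∃ w, u - 1 = PowerSeries.X ^ n * w := by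
  have hG : IsUnit (∑ i ∈ Finset.range n, u ^ i) := by
    rw [PowerSeries.isUnit_iff_constantCoeff, isUnit_iff_ne_zero]
    simpa [hu1] using hnk
  obtain ⟨G, hG'⟩ := hG
  refine ⟨-(u ^ n) * (↑G⁻¹ : PowerSeries k), ?_⟩
  have h1 : (u - 1) * (↑G : PowerSeries k) = PowerSeries.X ^ n * -(u ^ n) := by
    rw [hG', mul_comm, geom_sum_mul]; linear_combination hun
  rw [← mul_assoc, ← h1, Units.mul_inv_cancel_right]

/-- For k an algebraically closed field of characteristic p > 0, n ≥ 1 an integer prime to p, and u ∈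
k[[t]] the power series with constant term 1 and u^n · (1 + t^n) = 1, the substitution σ(t) = t·u is
a k-automorphism of k((t)) of order p and, for an integer a, σ acts on the fractional ideal I =
t^a·k[[t]]; transported to B = k[[t]] along h ↦ t^a·h this action is h ↦ u^a · h(t·u). For an
integer i with a − n ≤ i ≤ a − 1 the element σ(t^i) − t^i lies in I, so t^i defines a class in
H^1(⟨σ⟩, I); the classes with p ∤ i form a basis of this H^1, and when p divides i the class
vanishes, i.e. σ(t^i) − t^i = σ(w) − w for some w ∈ I. (The published statement of this vanishing is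
printed with the condition p ∤ i, which contradicts the basis assertion of the same lemma; its proof
treats p | i, and this row states that case.) In transported form, with m = a − i ∈ [1, n] and c ∈
k[[t]] defined by t^m · c = u^i − 1: there is h ∈ k[[t]] with u^a · h(t·u) − h = c. -/
theorem result {k : Type u} [Field k] [IsAlgClosed k] (p : ℕ)
    [Fact p.Prime] [CharP k p] (n : ℕ) (hn : 0 < n) (hpn : ¬ p ∣ n)
    (u : PowerSeries k) (hu1 : PowerSeries.constantCoeff u = 1)
    (hun : u ^ n * (1 + PowerSeries.X ^ n) = 1) (hu : IsUnit u) (a : ℤ) (m : ℕ)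
    (hm1 : 1 ≤ m) (hmn : m ≤ n) (hdvd : (p : ℤ) ∣ a - m) (c : PowerSeries k)
    (hc : PowerSeries.X ^ m * c = ((hu.unit ^ (a - m) : (PowerSeries k)ˣ) : PowerSeries k) - 1) :
    ∃ h : PowerSeries k,
      ((hu.unit ^ a : (PowerSeries k)ˣ) : PowerSeries k) * PowerSeries.subst (PowerSeries.X * u) h - h = c := by
  classical
  have hnk : (n : k) ≠ 0 := fun h => hpn ((CharP.cast_eq_zero_iff k p n).1 h)
  have hs : PowerSeries.HasSubst (PowerSeries.X * u) := PowerSeries.HasSubst.of_constantCoeff_zero' (by simp)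
  let σ : PowerSeries k →ₐ[k] PowerSeries k := PowerSeries.substAlgHom hs
  have hσ : ∀ f, σ f = PowerSeries.subst (PowerSeries.X * u) f := fun f => by rw [← PowerSeries.coe_substAlgHom hs]
  have hσX : σ PowerSeries.X = PowerSeries.X * u := by rw [hσ, PowerSeries.subst_X hs]
  haveI : CharP (PowerSeries k) p := charP_of_injective_ringHom PowerSeries.C_injective p
  obtain ⟨z, hz⟩ := IsAlgClosed.exists_pow_nat_eq (-1 : k) hn
  have hp1 : p - 1 ≠ 0 := by have := (Fact.out : p.Prime).two_le; omega
  have hs' : PowerSeries.HasSubst (PowerSeries.C z * PowerSeries.X ^ (p - 1)) :=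
    PowerSeries.HasSubst.of_constantCoeff_zero' (by simp [hp1])
  let τ : PowerSeries k →ₐ[k] PowerSeries k := PowerSeries.substAlgHom hs'
  have hτX : τ PowerSeries.X = PowerSeries.C z * PowerSeries.X ^ (p - 1) := by
    change PowerSeries.substAlgHom hs' PowerSeries.X = _
    rw [PowerSeries.coe_substAlgHom hs', PowerSeries.subst_X hs']
  let Y := (PowerSeries.X : PowerSeries k) ^ n
  let v := τ u
  have hvn : v ^ n * (1 - Y ^ (p - 1)) = 1 := by
    have h := congrArg τ hun
    simp only [map_mul, map_pow, map_add, map_one, hτX] at h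
    refine Eq.trans ?_ h
    congr 1
    rw [mul_pow, ← map_pow, hz, map_neg, map_one, ← pow_mul, ← pow_mul, mul_comm (p - 1)]
    ring
  obtain ⟨w, hw⟩ := u_sub_one_dvd hn hnk hu1 hun
  have hv1 : Y ^ (p - 1) ∣ v - 1 := by
    refine ⟨PowerSeries.C (z ^ n) * τ w, ?_⟩
    change τ u - 1 = _
    rw [← map_one τ, ← map_sub, hw, map_mul, map_pow, hτX, mul_pow, ← map_pow]
    simp only [Y, ← pow_mul, mul_comm (p - 1)]
    ring
  have hvc : PowerSeries.constantCoeff v = 1 := by
    obtain ⟨q, hq⟩ := hv1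
    have := congrArg PowerSeries.constantCoeff hq
    simpa [Y, hn.ne', hp1, sub_eq_zero] using this
  have hvu : IsUnit v := PowerSeries.isUnit_iff_constantCoeff.2 (by rw [hvc]; exact isUnit_one)
  have hσv : σ v * u ^ p = v := by
    have hσc : PowerSeries.constantCoeff (σ v) = 1 := by
      obtain ⟨q, hq⟩ := hv1
      have := congrArg (PowerSeries.constantCoeff ∘ σ) hq
      simp only [Function.comp, map_sub, map_one, map_mul, map_pow, Y, hσX] at this
      simpa [hn.ne', hp1, sub_eq_zero] using this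
    refine pow_left_inj_of_constantCoeff hn hnk (by simp [hσc, hu1]) hvc ?_
    have h := congrArg σ hvn
    rw [map_mul, map_pow, map_sub, map_one, map_pow, show σ Y = Y * u ^ n by simp [Y, hσX, mul_pow]] at h
    have key : u ^ (n * p) * (1 - Y ^ (p - 1)) = 1 - (Y * u ^ n) ^ (p - 1) := by
      have hT : ((1 : PowerSeries k) + Y) ^ p = 1 + Y ^ p := by rw [add_pow_char, one_pow]
      have hun' : u ^ n * (1 + Y) = 1 := hun
      have hp' : p = (p - 1) + 1 := by omega
      have hne : (1 + Y) ≠ 0 := right_ne_zero_of_mul (hun'.symm ▸ one_ne_zero)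
      refine mul_right_cancel₀ (pow_ne_zero p hne) ?_
      rw [pow_mul, mul_right_comm, ← mul_pow, hun', one_pow, one_mul, sub_mul, one_mul, hT, mul_pow,
        mul_assoc, show (u ^ n) ^ (p - 1) * (1 + Y ^ p) = 1 + Y by
          rw [← hT]; conv_lhs => arg 2; rw [hp', pow_succ]
          rw [← mul_assoc, ← mul_pow, hun', one_pow, one_mul]]
      have hY : Y ^ p = Y ^ (p - 1) * Y := by rw [← pow_succ, ← hp']
      rw [hY]; ring
    refine mul_right_cancel₀ (right_ne_zero_of_mul (hvn.symm ▸ one_ne_zero)) ?_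
    rw [hvn, mul_pow, ← pow_mul, mul_comm p n, mul_assoc, key, h]
  let U := hu.unit
  let V := hvu.unit
  let σU : (PowerSeries k)ˣ →* (PowerSeries k)ˣ := Units.map σ.toRingHom.toMonoidHom
  have hV : σU V * U ^ (p : ℤ) = V := Units.ext (by simpa [σU, U, V] using hσv)
  obtain ⟨j, hj⟩ := hdvd
  have hVj : σU (V ^ j) * U ^ (a - m : ℤ) = V ^ j := by rw [map_zpow, hj, zpow_mul, ← mul_zpow, hV]
  have hdiv : (PowerSeries.X : PowerSeries k) ^ m ∣ (↑(V ^ j) : PowerSeries k) - 1 := by
    refine (pow_dvd_pow PowerSeries.X (show m ≤ n * (p - 1) by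
      exact hmn.trans (Nat.le_mul_of_pos_right n (Nat.pos_of_ne_zero hp1)))).trans ?_
    rw [pow_mul, ← Ideal.mem_span_singleton]
    rw [← Ideal.Quotient.mk_eq_mk_iff_sub_mem, map_one]
    let q : PowerSeries k →+* _ := Ideal.Quotient.mk (Ideal.span {Y ^ (p - 1)})
    have hq : Units.map q.toMonoidHom V = 1 := Units.ext (by
      have h1 : q v = q 1 := (Ideal.Quotient.mk_eq_mk_iff_sub_mem _ _).2 (Ideal.mem_span_singleton.2 hv1)
      simpa [V] using h1)
    have := congrArg Units.val (show Units.map q.toMonoidHom (V ^ j) = 1 by rw [map_zpow, hq, one_zpow])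
    exact this
  obtain ⟨h, hh⟩ := hdiv
  refine ⟨-h, mul_left_cancel₀ (pow_ne_zero m PowerSeries.X_ne_zero) ?_⟩
  rw [hc, ← hσ, map_neg, show (U ^ a : (PowerSeries k)ˣ) = U ^ (a - m : ℤ) * U ^ (m : ℤ) by rw [← zpow_add, sub_add_cancel],
    Units.val_mul, zpow_natCast, Units.val_pow_eq_pow_val, show ((U : (PowerSeries k)ˣ) : PowerSeries k) = u from hu.unit_spec]
  have e1 : PowerSeries.X ^ m * u ^ m * σ h = σ (↑(V ^ j)) - 1 := by
    rw [← mul_pow, ← hσX, ← map_pow, ← map_mul, ← hh, map_sub, map_one]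
  have e2 : σ (↑(V ^ j)) * ((U ^ (a - m : ℤ) : (PowerSeries k)ˣ) : PowerSeries k) = ↑(V ^ j) := congrArg Units.val hVj
  linear_combination (-((U ^ (a - m : ℤ) : (PowerSeries k)ˣ) : PowerSeries k)) * e1 - e2 - hh

end Groth.Agent.S13863
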