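import Groth.Statements.S13862
import Groth.Agent.ASCover.Local
import Groth.Agent.S13864
import Groth.Agent.S13863
import Mathlib.RingTheory.PowerSeries.Derivative

set_option autoImplicit false
universe u
open ASCover

namespace Groth.Agent.S13862

theorem card_I {k : Type u} [Field k] {p n : ℕ} {u : PowerSeries k} (St : Groth.Agent.ASCover.Local.Setup p n u) (b : ℤ)
    (hb : b = (n + 1 : ℕ)) :
    ((((Finset.Icc 2 n).filter (fun m : ℕ => m ∈ St.idx b ∧ ¬ (p : ℤ) ∣ ((m : ℤ) - 1))).card : ℕ) : ℤ) =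
      ((n + 1) * (p - 1) : ℤ) / p - 1 - (n - 1 : ℤ) / p := by
  classical
  subst hb
  have hn := St.npos
  have hp : (0 : ℤ) < p := by exact_mod_cast St.prime.pos
  have hpn : ¬ (p : ℤ) ∣ (n : ℤ) := fun h => St.hpn (Int.natCast_dvd_natCast.1 h)
  let A := (Finset.Icc 1 (n - 1)).filter (fun m : ℕ => (p : ℤ) ∣ (0 : ℤ) - m)
  let B := (Finset.Icc 1 (n - 1)).filter (fun m : ℕ => (p : ℤ) ∣ (n : ℤ) - m)
  have e : ((Finset.Icc 2 n).filter (fun m : ℕ => m ∈ St.idx ((n + 1 : ℕ) : ℤ) ∧ ¬ (p : ℤ) ∣ ((m : ℤ) - 1))).card =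
      ((Finset.Icc 1 (n - 1)) \ (A ∪ B)).card := by
    refine Finset.card_nbij' (fun m => m - 1) (fun m => m + 1) (fun m hm => ?_) (fun m hm => ?_) (fun m hm => ?_) (fun m _ => rfl)
    · obtain ⟨h1, h2, h3⟩ := Finset.mem_filter.1 hm
      rw [Finset.mem_Icc] at h1
      have h2' := (Finset.mem_filter.1 h2).2
      simp only [Finset.mem_coe, Finset.mem_sdiff, Finset.mem_union, Finset.mem_Icc, A, B, Finset.mem_filter]
      refine ⟨⟨by omega, by omega⟩, ?_⟩
      rintro (⟨-, h⟩ | ⟨-, h⟩)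
      · rw [Nat.cast_sub (by omega), Nat.cast_one, zero_sub, dvd_neg] at h; exact h3 h
      · refine h2' ?_
        rw [Nat.cast_sub (by omega), Nat.cast_one] at h
        rwa [show ((n + 1 : ℕ) : ℤ) - m = (n : ℤ) - (m - 1) by push_cast; ring]
    · simp only [Finset.mem_coe, Finset.mem_sdiff, Finset.mem_union, Finset.mem_Icc, A, B, Finset.mem_filter] at hm
      obtain ⟨h1, h2⟩ := hm
      refine Finset.mem_filter.2 ⟨Finset.mem_Icc.2 ⟨by beta_reduce; omega, by beta_reduce; omega⟩,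
        Finset.mem_filter.2 ⟨Finset.mem_Icc.2 ⟨by beta_reduce; omega, by beta_reduce; omega⟩, fun h => h2 (Or.inr ⟨h1, ?_⟩)⟩, fun h => h2 (Or.inl ⟨h1, ?_⟩)⟩
      · push_cast at h; simpa using h
      · push_cast at h; simpa using h
    · have := (Finset.mem_Icc.1 (Finset.mem_filter.1 hm).1).1
      change m - 1 + 1 = m
      omega
  have hdisj : Disjoint A B := Finset.disjoint_left.2 fun m hA hB => hpn (by
    have h1 := (Finset.mem_filter.1 hA).2
    have h2 := (Finset.mem_filter.1 hB).2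
    have := dvd_sub h2 h1
    simpa using this)
  have hsub : A ∪ B ⊆ Finset.Icc 1 (n - 1) := Finset.union_subset (Finset.filter_subset _ _) (Finset.filter_subset _ _)
  have hA : (A.card : ℤ) = (0 - 1) / p - (0 - 1 - ((n - 1 : ℕ) : ℤ)) / p := St.card_dvd 0 hp (n - 1)
  have hB : (B.card : ℤ) = ((n : ℤ) - 1) / p - ((n : ℤ) - 1 - ((n - 1 : ℕ) : ℤ)) / p := St.card_dvd (n : ℤ) hp (n - 1)
  rw [e, Finset.card_sdiff, Finset.inter_eq_left.2 hsub, Finset.card_union_of_disjoint hdisj, Nat.card_Icc,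
    Nat.cast_sub (by have := Finset.card_le_card hsub; rw [Finset.card_union_of_disjoint hdisj, Nat.card_Icc] at this; omega)]
  push_cast [show n - 1 + 1 - 1 = n - 1 by omega, Nat.cast_sub hn] at *
  rw [hA, hB]
  -- the two remaining integer divisions
  obtain ⟨q, r, hr0, hrp, hnqr⟩ : ∃ q r : ℤ, 0 < r ∧ r < p ∧ (n : ℤ) = p * q + r :=
    ⟨(n : ℤ) / p, (n : ℤ) % p, lt_of_le_of_ne (Int.emod_nonneg _ hp.ne') (fun h => hpn (Int.dvd_of_emod_eq_zero h.symm)),
      Int.emod_lt_of_pos _ hp, (Int.mul_ediv_add_emod _ _).symm⟩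
  have d1 : ((0 : ℤ) - 1) / p = -1 := Int.ediv_eq_iff_of_pos hp |>.2 ⟨by linarith, by linarith⟩
  have d2 : ((0 : ℤ) - 1 - ((n : ℤ) - 1)) / p = -q - 1 := Int.ediv_eq_iff_of_pos hp |>.2 ⟨by linarith, by linarith⟩
  have d3 : ((n : ℤ) - 1) / p = q := Int.ediv_eq_iff_of_pos hp |>.2 ⟨by linarith, by linarith⟩
  have d4 : ((n : ℤ) - 1 - ((n : ℤ) - 1)) / p = 0 := by simp
  have d5 : ((n : ℤ) + 1) * ((p : ℤ) - 1) / p = (n : ℤ) - q := Int.ediv_eq_iff_of_pos hp |>.2 ⟨by linarith, by linarith⟩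
  simp only [zero_sub] at *
  rw [d1, d2, d3, d4, d5]
  ring

/-- For k an algebraically closed field of characteristic p > 0, n ≥ 1 an integer prime to p, u ∈ k[[t]]
the power series with constant term 1 and u^n · (1 + t^n) = 1, and G a group of order p generated by
g, consider two k-linear actions of G on B = k[[t]]: ρ₀(g) h = h(t·u), i.e. B with its order-p
automorphism σ(t) = t·u, and ρ₁(g) h = u^(n+1) · h(t·u), which is the σ-module B·dt identified with
B through h·dt ↦ h (because d(σ t) = u^(n+1) dt). The derivative d/dt : (B, ρ₀) → (B, ρ₁) is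
G-equivariant, and the image of the map it induces on first group cohomology, H^1(G, (B, ρ₀)) →
H^1(G, (B, ρ₁)), is finite-dimensional over k of dimension ⌊(n+1)(p−1)/p⌋ − 1 − ⌊(n−1)/p⌋. This is
the dimension of the image of H^1(G, O) → H^1(G, Ω) at a ramified point with break n of a ℤ/p-cover
of smooth curves, computed in the completed local ring; the published statement is phrased for the
stalks, at a point of the quotient curve, of the direct images of the structure sheaf and of the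
sheaf of differentials, and its proof passes to this completed form. -/
theorem result {k : Type u} [Field k] [IsAlgClosed k] (p : ℕ)
    [Fact p.Prime] [CharP k p] (n : ℕ) (hn : 0 < n) (hpn : ¬ p ∣ n)
    (u : PowerSeries k) (hu1 : PowerSeries.constantCoeff u = 1)
    (hun : u ^ n * (1 + PowerSeries.X ^ n) = 1)
    {G : Type u} [Group G] [Finite G] (g : G) (hG : Nat.card G = p)
    (hg : ∀ x : G, x ∈ Subgroup.zpowers g)
    (ρ₀ ρ₁ : Representation k G (PowerSeries k))
    (hρ₀ : ∀ h : PowerSeries k, ρ₀ g h = PowerSeries.subst (PowerSeries.X * u) h)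
    (hρ₁ : ∀ h : PowerSeries k, ρ₁ g h = u ^ (n + 1) * PowerSeries.subst (PowerSeries.X * u) h)
    (φ : Rep.of ρ₀ ⟶ Rep.of ρ₁) (hφ : ∀ h : PowerSeries k, φ.hom h = PowerSeries.derivative k h) :
    Module.Finite k (LinearMap.range ((groupCohomology.functor k G 1).map φ).hom) ∧
      (Module.finrank k (LinearMap.range ((groupCohomology.functor k G 1).map φ).hom) : ℤ) =
        ((n + 1) * (p - 1) : ℤ) / p - 1 - (n - 1 : ℤ) / p := by
  classical
  have St : Groth.Agent.ASCover.Local.Setup p n u := ⟨Fact.out, inferInstance, hn, hpn, hu1, hun⟩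
  have hu : IsUnit u := St.isUnit
  have hord : orderOf g = p := by rw [orderOf_eq_card_of_forall_mem_zpowers hg, hG]
  let b : ℤ := (n + 1 : ℕ)
  have hr0 : ρ₀ g = St.T 0 := St.rho_eq g ρ₀ 0 fun h => by rw [hρ₀, zpow_zero, Units.val_one, one_mul]
  have hr1 : ρ₁ g = St.T b := St.rho_eq g ρ₁ b fun h => by
    rw [hρ₁, show b = ((n + 1 : ℕ) : ℤ) from rfl, zpow_natCast, Units.val_pow_eq_pow_val, St.U_val]
  -- derivative of the basic cocycles
  let D := PowerSeries.derivative k
  have hu' : u + PowerSeries.X * D u = u ^ (n + 1) := by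
    have h := congrArg D hun
    rw [Derivation.leibniz, Derivation.map_one_eq_zero, Derivation.leibniz_pow, map_add, Derivation.map_one_eq_zero,
      zero_add, Derivation.leibniz_pow, PowerSeries.derivative_X] at h
    simp only [smul_eq_mul, nsmul_eq_mul, mul_one] at h
    have hnk : (n : PowerSeries k) ≠ 0 := by
      rw [← map_natCast (PowerSeries.C : k →+* PowerSeries k)]
      exact (map_ne_zero_iff _ PowerSeries.C_injective).2 St.nk
    have hpow : u ^ n = u * u ^ (n - 1) := by rw [← pow_succ', Nat.sub_add_cancel hn]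
    have hpowX : (PowerSeries.X : PowerSeries k) * PowerSeries.X ^ (n - 1) = PowerSeries.X ^ n := by
      rw [← pow_succ', Nat.sub_add_cancel hn]
    have h' : (n : PowerSeries k) * (u ^ (2 * n) * PowerSeries.X ^ n + u ^ (n - 1) * (PowerSeries.X * D u)) = 0 := by
      linear_combination (PowerSeries.X * u ^ n) * h - (n : PowerSeries k) * u ^ (n - 1) * PowerSeries.X * D u * hun -
        (n : PowerSeries k) * u ^ (2 * n) * hpowX
    have h'' := (mul_eq_zero.1 h').resolve_left hnk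
    have hu0 : u ^ (n - 1) ≠ 0 := pow_ne_zero _ hu.ne_zero
    refine mul_left_cancel₀ hu0 ?_
    rw [pow_succ]
    linear_combination h'' - u ^ n * hun + (1 - u ^ n) * hpow.symm
  have hD : ∀ m : ℕ, 1 ≤ m → m < n → D (St.c 0 m) = (-(m : k)) • St.c b (m + 1) := by
    intro m hm1 hmn
    have e1 := St.c_spec 0 hmn.le
    have e2 := St.c_spec b (show m + 1 ≤ n by omega)
    rw [zero_sub, zpow_neg, zpow_natCast, ← inv_pow, Units.val_pow_eq_pow_val] at e1
    rw [show b - ((m + 1 : ℕ) : ℤ) = ((n : ℕ) : ℤ) + -(m : ℤ) by simp [b]; ring, zpow_add, zpow_natCast, zpow_neg,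
      zpow_natCast, ← inv_pow, Units.val_mul, Units.val_pow_eq_pow_val, Units.val_pow_eq_pow_val, St.U_val] at e2
    have hw : u * ((St.U⁻¹ : (PowerSeries k)ˣ) : PowerSeries k) = 1 := by
      have h3 := St.U.mul_inv; rw [St.U_val] at h3; exact h3
    generalize ((St.U⁻¹ : (PowerSeries k)ˣ) : PowerSeries k) = w at e1 e2 hw
    have hw' : u ^ m * w ^ m = 1 := by rw [← mul_pow, hw, one_pow]
    have key : u ^ m * (PowerSeries.X ^ m * St.c 0 m) = 1 - u ^ m := by rw [e1, mul_sub, hw', mul_one]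
    have hxd : PowerSeries.X * D u = u ^ (n + 1) - u := by linear_combination hu'
    obtain ⟨m', rfl⟩ := Nat.exists_eq_add_of_le' hm1
    have h := congrArg D key
    rw [Derivation.leibniz, Derivation.leibniz, Derivation.leibniz_pow, Derivation.leibniz_pow, map_sub,
      Derivation.map_one_eq_zero, Derivation.leibniz_pow, PowerSeries.derivative_X, zero_sub] at h
    simp only [smul_eq_mul, nsmul_eq_mul, mul_one, Nat.add_sub_cancel] at h
    refine mul_left_cancel₀ (mul_ne_zero (pow_ne_zero (m' + 1) hu.ne_zero)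
      (pow_ne_zero (m' + 1 + 1) (PowerSeries.X_ne_zero (R := k)))) ?_
    rw [PowerSeries.smul_eq_C_mul, map_neg, map_natCast]
    linear_combination PowerSeries.X * h -
      ((m' + 1 : ℕ) : PowerSeries k) * u ^ m' * (1 + PowerSeries.X ^ (m' + 1) * St.c 0 (m' + 1)) * hxd -
      ((m' + 1 : ℕ) : PowerSeries k) * u ^ n * key + ((m' + 1 : ℕ) : PowerSeries k) * u ^ n * hw' +
      ((m' + 1 : ℕ) : PowerSeries k) * u ^ (m' + 1) * e2
  let I := (Finset.Icc 2 n).filter (fun m : ℕ => m ∈ St.idx b ∧ ¬ (p : ℤ) ∣ ((m : ℤ) - 1))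
  let M : (I → k) →ₗ[k] PowerSeries k := Fintype.linearCombination k (fun m : I => St.c b m)
  have hIb : ∀ m : I, (m : ℕ) ∈ St.idx b ∧ 2 ≤ (m : ℕ) ∧ (m : ℕ) ≤ n ∧ ¬ (p : ℤ) ∣ (((m : ℕ) : ℤ) - 1) := fun m =>
    ⟨(Finset.mem_filter.1 m.2).2.1, (Finset.mem_Icc.1 (Finset.mem_filter.1 m.2).1).1,
      (Finset.mem_Icc.1 (Finset.mem_filter.1 m.2).1).2, (Finset.mem_filter.1 m.2).2.2⟩
  have hM : ∀ w, Groth.Agent.ASCover.CyclicH1.S ρ₁ g (orderOf g) (M w) = 0 := fun w => by
    simp only [M, Fintype.linearCombination_apply, map_sum]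
    refine Finset.sum_eq_zero fun m _ => ?_
    rw [map_smul, St.S_eq g ρ₁ b hr1 hord, St.sum_c b (St.T_pow_card g ρ₁ b hr1 hord) (hIb m).2.2.1, smul_zero]
  let Φ := Groth.Agent.ASCover.CyclicH1.toH1 ρ₁ g hg M hM
  have hinj : Function.Injective Φ := Groth.Agent.ASCover.CyclicH1.toH1_injective ρ₁ g hg _ _ fun v hv => by
    obtain ⟨h, hh⟩ := hv
    let coef : ℕ → k := fun m => if hm : m ∈ I then v ⟨m, hm⟩ else 0
    have hIsub : I ⊆ St.idx b := fun m hm => (Finset.mem_filter.1 hm).2.1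
    have e : ((hu.unit ^ b : (PowerSeries k)ˣ) : PowerSeries k) * PowerSeries.subst (PowerSeries.X * u) h - h =
        ∑ m ∈ St.idx b, coef m • St.c b m := by
      rw [← Finset.sum_subset hIsub fun m _ hm => by rw [show coef m = 0 from dif_neg hm, zero_smul],
        St.U_eq hu, ← St.σ_eq, ← Finset.sum_coe_sort I (fun m => coef m • St.c b m)]
      rw [hr1] at hh
      refine hh.trans ?_
      simp only [M, Fintype.linearCombination_apply]
      exact Finset.sum_congr rfl fun m _ => by rw [show coef m = v m from dif_pos m.2]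
    have h0 := Groth.Agent.S13864.result p n hn hpn u hu1 hun hu b (fun m => St.c b m)
      (fun m _ hm => by rw [St.U_eq hu]; exact St.c_spec b hm) coef h e
    funext m
    have := h0 m (hIb m).1
    rwa [show coef m = v m from dif_pos m.2] at this
  have hc0 : ∀ m : St.idx 0, 1 ≤ (m : ℕ) ∧ (m : ℕ) ≤ n ∧ ¬ (p : ℤ) ∣ ((m : ℕ) : ℤ) := fun m => by
    obtain ⟨h1, h2⟩ := Finset.mem_filter.1 m.2
    rw [zero_sub, dvd_neg] at h2
    exact ⟨(Finset.mem_Icc.1 h1).1, (Finset.mem_Icc.1 h1).2, h2⟩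
  -- each derivative of a basic cocycle is a multiple of a basic cocycle, up to coboundaries
  have hsingle : ∀ m : St.idx 0, ∃ w, φ.hom (St.c 0 m) - M w ∈ LinearMap.range (ρ₁ g - 1) := fun m => by
    obtain ⟨hm1, hm2, hm3⟩ := hc0 m
    rcases hm2.eq_or_lt with hmn | hmn
    · refine ⟨0, ?_⟩
      have e1 := St.c_spec 0 hm2
      rw [hmn, zero_sub, zpow_neg, zpow_natCast, ← inv_pow, Units.val_pow_eq_pow_val] at e1
      have h3 : ((St.U⁻¹ : (PowerSeries k)ˣ) : PowerSeries k) ^ n = 1 + PowerSeries.X ^ n := by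
        have h3 := St.U.inv_mul
        rw [St.U_val] at h3
        have h4 : ((St.U⁻¹ : (PowerSeries k)ˣ) : PowerSeries k) ^ n * u ^ n = 1 := by rw [← mul_pow, h3, one_pow]
        linear_combination (1 + PowerSeries.X ^ n) * h4 - ((St.U⁻¹ : (PowerSeries k)ˣ) : PowerSeries k) ^ n * hun
      rw [h3, add_sub_cancel_left] at e1
      have hc : St.c 0 m = 1 := by
        rw [hmn]
        exact mul_left_cancel₀ (pow_ne_zero n PowerSeries.X_ne_zero) (by rw [e1, mul_one])
      rw [hc, map_zero, sub_zero, hφ, Derivation.map_one_eq_zero]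
      exact zero_mem _
    · by_cases hd : ((m : ℕ) + 1) ∈ I
      · refine ⟨Pi.single ⟨_, hd⟩ (-((m : ℕ) : k)), ?_⟩
        have e : M (Pi.single ⟨_, hd⟩ (-((m : ℕ) : k))) = (-((m : ℕ) : k)) • St.c b ((m : ℕ) + 1) :=
          Fintype.linearCombination_apply_single k (fun m : I => St.c b m) ⟨_, hd⟩ _
        rw [e, hφ, hD m hm1 hmn, sub_self]
        exact zero_mem _
      · refine ⟨0, ?_⟩
        have hdvd : (p : ℤ) ∣ b - (((m : ℕ) + 1 : ℕ) : ℤ) := by
          by_contra hne
          exact hd (Finset.mem_filter.2 ⟨Finset.mem_Icc.2 ⟨by omega, by omega⟩,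
            Finset.mem_filter.2 ⟨Finset.mem_Icc.2 ⟨by omega, by omega⟩, hne⟩, by push_cast; simpa using hm3⟩)
        obtain ⟨h, hh⟩ := Groth.Agent.S13863.result p n hn hpn u hu1 hun hu b ((m : ℕ) + 1) (by omega) (by omega) hdvd
          (St.c b ((m : ℕ) + 1)) (by rw [St.U_eq hu]; exact St.c_spec b (by omega))
        rw [map_zero, sub_zero, hφ, hD m hm1 hmn, hr1]
        refine Submodule.smul_mem _ _ ⟨h, ?_⟩
        rw [St.U_eq hu, ← St.σ_eq] at hh
        exact hh
  have h1 : ∀ v, ∃ w, φ.hom (St.L 0 v) - M w ∈ LinearMap.range (ρ₁ g - 1) := fun v => by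
    choose w hw using hsingle
    refine ⟨∑ m, v m • w m, ?_⟩
    simp only [Groth.Agent.ASCover.Local.Setup.L, Fintype.linearCombination_apply, map_sum, map_smul,
      ← Finset.sum_sub_distrib, ← smul_sub]
    exact Submodule.sum_mem _ fun m _ => Submodule.smul_mem _ _ (hw m)
  have h2 : ∀ w, ∃ v, φ.hom (St.L 0 v) - M w ∈ LinearMap.range (ρ₁ g - 1) := fun w => by
    have hs : ∀ m : I, ∃ v, φ.hom (St.L 0 v) = St.c b m := fun m => by
      obtain ⟨hm0, hm1, hm2, hm3⟩ := hIb m
      have hmem : (m : ℕ) - 1 ∈ St.idx 0 := Finset.mem_filter.2 ⟨Finset.mem_Icc.2 ⟨by omega, by omega⟩, by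
        rw [zero_sub, dvd_neg, Nat.cast_sub (by omega), Nat.cast_one]; exact hm3⟩
      have hne : (((m : ℕ) - 1 : ℕ) : k) ≠ 0 := fun h0 => hm3 (by
        have h00 := (CharP.cast_eq_zero_iff k p _).1 h0
        have := Int.natCast_dvd_natCast.2 h00
        rwa [Nat.cast_sub (by omega), Nat.cast_one] at this)
      refine ⟨Pi.single ⟨_, hmem⟩ (-(((m : ℕ) - 1 : ℕ) : k))⁻¹, ?_⟩
      rw [Groth.Agent.ASCover.Local.Setup.L]
      erw [Fintype.linearCombination_apply_single]
      rw [map_smul, hφ, hD _ (show 1 ≤ (m : ℕ) - 1 by omega) (show (m : ℕ) - 1 < n by omega), smul_smul, inv_mul_cancel₀ (neg_ne_zero.2 hne), one_smul,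
        Nat.sub_add_cancel (by omega)]
    choose v hv using hs
    refine ⟨∑ m, w m • v m, ?_⟩
    simp only [M, Fintype.linearCombination_apply, map_sum, map_smul, hv, sub_self]
    exact zero_mem _
  have hrange := Groth.Agent.ASCover.CyclicH1.range_map ρ₀ g hg ρ₁ φ (St.L 0) (St.S_L g ρ₀ 0 hr0 hord)
    (fun x hx => by rw [hr0]; exact St.spans 0 (St.T_pow_card g ρ₀ 0 hr0 hord) (by rw [← St.S_eq g ρ₀ 0 hr0 hord]; exact hx))
    M hM h1 h2
  rw [hrange]
  have hF : Module.Finite k (LinearMap.range Φ) := Module.Finite.range Φ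
  refine ⟨hF, ?_⟩
  refine (congrArg (Nat.cast : ℕ → ℤ) (LinearMap.finrank_range_of_inj (f := Φ) hinj)).trans ?_
  rw [Module.finrank_fintype_fun_eq_card, Fintype.card_coe]
  exact card_I St b rfl

end Groth.Agent.S13862
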