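import Groth.Statements.S13874
import Groth.Agent.ZeroCycLib.Points
import Groth.Agent.S13398
import Groth.Agent.UnivHomeo.Basic
import Mathlib.RingTheory.Spectrum.Prime.Homeomorph
import Mathlib.RingTheory.Ideal.GoingUp

set_option autoImplicit false
universe u
open scoped TensorProduct
open AlgebraicGeometry
open ZeroCyc

namespace Groth.Agent.S13874
open Groth.Agent.ZeroCycLib PolLaw Groth.Agent.UnivHomeo.Basic


/-- Affine form. Let A be a commutative ring, B an A-algebra and d ≥ 1; let (C, γ) be the degree-d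
divided power algebra Γ^d_A(B) with its universal multiplicative law γ : B → C of degree d (every
multiplicative law of degree d out of B factors uniquely through γ), and let φ : Γ^d_A(B) →
TS^d_A(B) be the canonical homomorphism to the symmetric tensors, taken as data characterised by:
after any base change S, φ ∘ γ sends Σ_j s_j ⊗ b_j to Σ_{c : [d] → [n]} (∏_i s_{c(i)}) ⊗ (b_{c(1)} ⊗
⋯ ⊗ b_{c(d)}), i.e. φ corresponds to the law x ↦ x ⊗ ⋯ ⊗ x. Then the morphism Spec TS^d_A(B) → Spec
Γ^d_A(B) induced by φ (the comparison map from the d-th symmetric product of Spec B over Spec A to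
the scheme of degree-d divided powers) is a universal homeomorphism inducing an isomorphism on every
residue field. (The published statement is for a separated algebraic space X over an algebraic space
S; this row is its content for X = Spec B over S = Spec A. The second assertion of the published
statement, that the map is an isomorphism when B is flat over A or A contains the rationals, is not
part of this row.) -/
theorem result {A B C : Type u} [CommRing A] [CommRing B] [Algebra A B] [CommRing C] [Algebra A C] (d : ℕ) (hd : 0 < d)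
    (γ : PolLaw.MulLaw A B C d) (hγ : PolLaw.IsGammaD γ) (φ : C →ₐ[A] SymTen.TS A B d)
    (hφ : ∀ (S : Type u) [CommSemiring S] [Algebra A S] (n : ℕ) (s : Fin n → S) (b : Fin n → B),
      ((SymTen.TS A B d).val.comp φ).toLinearMap.lTensor S (γ.law.toFun' S (∑ j, s j ⊗ₜ[A] b j)) =
        ∑ c : Fin d → Fin n, (∏ i, s (c i)) ⊗ₜ[A] PiTensorProduct.tprod A (fun i => b (c i))) :
    FlatMor.IsUnivHomeo (Spec.map (CommRingCat.ofHom φ.toRingHom)) ∧
      ∀ x : ↥(Spec (CommRingCat.of (SymTen.TS A B d))),
        Function.Surjective ((Spec.map (CommRingCat.ofHom φ.toRingHom)).residueFieldMap x).hom := by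
  have h398 := Groth.Agent.S13398.result d γ hγ φ hφ
  have key : ∀ (Q : Ideal (SymTen.TS A B d)), Q.IsPrime → ∀ y, ∃ c s : C, φ s ∉ Q ∧ y * φ s - φ c ∈ Q := by
    intro Q hQ y
    let T := ⨂[A] _ : Fin d, B
    have : Algebra.IsIntegral (SymTen.TS A B d) T := ⟨isIntegral_val⟩
    obtain ⟨P, -, hP, hPQ⟩ := Ideal.exists_ideal_over_prime_of_isIntegral Q (⊥ : Ideal T) (by
      rw [show (⊥ : Ideal T).comap (algebraMap (SymTen.TS A B d) T) = ⊥ from
        Ideal.comap_bot_of_injective _ Subtype.val_injective]
      exact bot_le)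
    haveI := hP
    obtain ⟨c, s, hs, hcs⟩ := exists_fraction hφ (IsScalarTower.toAlgHom A T P.ResidueField) y
    refine ⟨c, s, fun hmem => hs ?_, ?_⟩
    · rw [← hPQ, Ideal.mem_comap] at hmem
      exact Ideal.algebraMap_residueField_eq_zero.2 hmem
    · rw [← hPQ, Ideal.mem_comap]
      refine Ideal.algebraMap_residueField_eq_zero.1 ?_
      have e : algebraMap (SymTen.TS A B d) T (y * φ s - φ c) =
          (SymTen.TS A B d).val y * (SymTen.TS A B d).val (φ s) - (SymTen.TS A B d).val (φ c) := rfl
      rw [e, map_sub, map_mul, sub_eq_zero]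
      exact hcs
  refine ⟨(isUnivHomeo_spec_iff φ.toRingHom).2 ⟨fun y => ?_, ?_, fun K _ g₁ g₂ hg => ?_⟩, fun x => ?_⟩
  · obtain ⟨c, hc⟩ := h398.2 y
    letI := φ.toRingHom.toAlgebra
    refine IsIntegral.of_pow (Nat.factorial_pos d) ?_
    rw [show y ^ d.factorial = φ.toRingHom c from hc.symm]
    exact φ.toRingHom.isIntegralElem_map
  · refine (PrimeSpectrum.isHomeomorph_comap φ.toRingHom (fun y => ?_) fun z hz => ?_).surjective
    · obtain ⟨c, hc⟩ := h398.2 y
      exact ⟨_, Nat.factorial_pos d, c, hc⟩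
    · exact ⟨_, h398.1 z hz⟩
  · refine RingHom.ext fun y => ?_
    obtain ⟨c, s, hs, hcs⟩ := key (RingHom.ker g₁) (RingHom.ker_isPrime g₁) y
    have hg' : ∀ z, g₁ (φ z) = g₂ (φ z) := fun z => RingHom.congr_fun hg z
    obtain ⟨n, hn⟩ : ∃ n : C, (y * φ s - φ c) ^ d.factorial = φ n := by
      obtain ⟨n, hn⟩ := h398.2 (y * φ s - φ c)
      exact ⟨n, hn.symm⟩
    have h2 : g₂ (y * φ s - φ c) = 0 := by
      refine eq_zero_of_pow_eq_zero (n := d.factorial) ?_
      rw [← map_pow, hn, ← hg', ← hn, map_pow, RingHom.mem_ker.1 hcs, zero_pow (Nat.factorial_ne_zero d)]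
    have h1 := RingHom.mem_ker.1 hcs
    rw [map_sub, map_mul, sub_eq_zero, ← hg', ← hg'] at h2
    rw [map_sub, map_mul, sub_eq_zero] at h1
    exact mul_right_cancel₀ (b := g₁ (φ s)) hs (h1.trans h2.symm)
  · erw [residueFieldMap_spec φ.toRingHom x]
    obtain ⟨q, rfl⟩ : ∃ q : PrimeSpectrum (SymTen.TS A B d), q = x := ⟨x, rfl⟩
    set m := Ideal.ResidueField.map (PrimeSpectrum.comap φ.toRingHom q).asIdeal q.asIdeal φ.toRingHom rfl with hm
    have hm' : Function.Surjective m := by
      intro z
      have hb : ∀ y, algebraMap (SymTen.TS A B d) q.asIdeal.ResidueField y ∈ m.fieldRange := by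
        intro y
        obtain ⟨c, s, hs, hcs⟩ := key q.asIdeal q.isPrime y
        have h0 : algebraMap (SymTen.TS A B d) q.asIdeal.ResidueField (φ s) ≠ 0 :=
          fun h => hs (Ideal.algebraMap_residueField_eq_zero.1 h)
        have h1 := Ideal.algebraMap_residueField_eq_zero.2 hcs
        rw [map_sub, map_mul, sub_eq_zero] at h1
        refine ⟨algebraMap C _ c / algebraMap C _ s, ?_⟩
        rw [map_div₀, hm]
        erw [Ideal.ResidueField.map_algebraMap, Ideal.ResidueField.map_algebraMap]
        exact ((eq_div_iff h0).2 h1).symm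
      obtain ⟨a, b, -, rfl⟩ := IsFractionRing.div_surjective (A := (SymTen.TS A B d) ⧸ q.asIdeal) z
      obtain ⟨a, rfl⟩ := Ideal.Quotient.mk_surjective a
      obtain ⟨b, rfl⟩ := Ideal.Quotient.mk_surjective b
      simp only [Ideal.algebraMap_quotient_residueField_mk]
      exact div_mem (hb a) (hb b)
    intro z
    obtain ⟨w, hw⟩ := hm' ((Scheme.Spec.residueFieldIso (CommRingCat.of (SymTen.TS A B d)) q).hom.hom z)
    refine ⟨(Scheme.Spec.residueFieldIso (CommRingCat.of C) (PrimeSpectrum.comap φ.toRingHom q)).inv.hom w, ?_⟩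
    show (Scheme.Spec.residueFieldIso (CommRingCat.of (SymTen.TS A B d)) q).inv.hom
      (m ((Scheme.Spec.residueFieldIso (CommRingCat.of C) (PrimeSpectrum.comap φ.toRingHom q)).hom.hom
        ((Scheme.Spec.residueFieldIso (CommRingCat.of C) (PrimeSpectrum.comap φ.toRingHom q)).inv.hom w))) = z
    erw [CategoryTheory.Iso.inv_hom_id_apply, hw, CategoryTheory.Iso.hom_inv_id_apply]

end Groth.Agent.S13874
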