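import Groth.Statements.S13876
import Groth.Agent.ZeroCycLib.Det

set_option autoImplicit false
universe u
open scoped TensorProduct
open ZeroCyc

namespace Groth.Agent.S13876
open Groth.Agent.ZeroCycLib PolLaw


/-- Affine form of the determinant law of a locally free module. Let A be a commutative ring, B a
commutative A-algebra, d ≥ 0, and M a B-module which as an A-module is finitely generated projective
of constant rank d (its localisation at every prime of A has rank d). Then there is exactly one
multiplicative polynomial law N : B → A over A, homogeneous of degree d, such that for every local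
A-algebra S and every x ∈ S ⊗_A B the value N(x) ∈ S is the determinant of x acting on the free
S-module S ⊗_A M. (For M free of rank d over A it is the determinant law of M; the members over
arbitrary test algebras are determined by those over local ones.) -/
theorem result {A B M : Type u} [CommRing A] [CommRing B] [Algebra A B]
    [AddCommGroup M] [Module A M] [Module B M] [IsScalarTower A B M] [Module.Finite A M] [Module.Projective A M]
    (d : ℕ) (hd : ∀ p : PrimeSpectrum A, Module.rankAtStalk M p = d) :
    ∃! N : PolLaw.MulLaw A B A d, ∀ (S : Type u) [CommRing S] [IsLocalRing S] [Algebra A S] (x : S ⊗[A] B),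
      N.law.toFun' S x = PolLaw.detAct M S x ⊗ₜ[A] (1 : A) := by
  obtain ⟨n, f, s, -, -, hfs⟩ := Module.Finite.exists_comp_eq_id_of_projective A M
  have key : ∀ (S : Type u) [CommRing S] [IsLocalRing S] [Algebra A S] (x : S ⊗[A] B),
      (extPLaw f s).toFun' S x = detAct M S x ⊗ₜ[A] (1 : A) := by
    intro S _ _ _ x
    have := free_baseChange (A := A) (M := M) S
    rw [extPLaw_apply, extDet_eq_detAct f s hfs]
  have hring : ∀ (R : Type u) [CommRing R] [Algebra A R] (r : R) (x : R ⊗[A] B),
      extDet f s R (r • x) = r ^ d * extDet f s R x := by
    intro R _ _ r x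
    refine eq_of_local (A := A) R _ _ fun L _ _ _ g => ?_
    have := free_baseChange (A := A) (M := M) L
    have e : Algebra.TensorProduct.map g (AlgHom.id A B) (r • x) =
        g r • Algebra.TensorProduct.map g (AlgHom.id A B) x := by
      induction x using TensorProduct.induction_on with
      | zero => simp
      | tmul a b => simp [TensorProduct.smul_tmul']
      | add p q hp hq => simp only [smul_add, map_add, hp, hq]
    have hrk : Module.finrank L (L ⊗[A] M) = d := by
      rw [← hd ((IsLocalRing.closedPoint L).comap (algebraMap A L)), ← Module.rankAtStalk_baseChange,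
        Module.rankAtStalk_eq_finrank_of_free]
      rfl
    rw [← extDet_map f s g, e, map_mul, map_pow, ← extDet_map f s g, extDet_eq_detAct f s hfs,
      extDet_eq_detAct f s hfs]
    unfold detAct
    rw [map_smul, LinearMap.det_smul, hrk]
  have hom : IsHomog (extPLaw (B := B) f s) d := by
    intro S _ _ r x
    show (Algebra.TensorProduct.lid A S (extDet f s (A ⊗[A] S) (toRing A B S (r • x)))) ⊗ₜ[A] (1 : A) =
      r ^ d • ((Algebra.TensorProduct.lid A S (extDet f s (A ⊗[A] S) (toRing A B S x))) ⊗ₜ[A] (1 : A))
    have hx : toRing A B S (r • x) = ((1 : A) ⊗ₜ[A] r) • toRing A B S x := by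
      induction x using TensorProduct.induction_on with
      | zero => simp
      | tmul t b =>
        simp [TensorProduct.smul_tmul', Algebra.TensorProduct.map_tmul, Algebra.TensorProduct.lid_symm_apply,
          Algebra.TensorProduct.tmul_mul_tmul]
      | add p q hp hq => simp only [smul_add, map_add, hp, hq]
    rw [hx, hring, map_mul, map_pow, Algebra.TensorProduct.lid_tmul, one_smul, TensorProduct.smul_tmul', smul_eq_mul]
  exact ⟨⟨extPLaw f s, hom, extPLaw_mult f s hfs⟩, key, fun N hN =>
    MulLaw.ext (laws_eq fun L _ _ _ x => (hN L x).trans (key L x).symm)⟩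

end Groth.Agent.S13876
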