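import Groth.Statements.S13877
import Mathlib

set_option autoImplicit false
universe u v
open Crimp

namespace Groth.Agent.S13877

/-- Over R = k⟦t⟧ with k an algebraically closed field of characteristic zero, let S' be a commutative
R-algebra with an R-basis of size d whose discriminant generates the ideal (t ^ a) (a finite cover
of the formal disk of degree d, unramified over the punctured disk, with branch divisor (t ^ a)),
and let S be an R-subalgebra of S' with an R-basis of size d whose discriminant generates (t ^ b) (a
crimp with branch divisor (t ^ b)). Then t ^ b annihilates S' / S and twice the R-length of S' / S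
plus a equals b. (The published statement is for a family of such subalgebras over a k-scheme T and
also asserts T-flatness of the quotient; this row is its restriction to T a point.) -/
theorem result {k : Type u} [Field k] [IsAlgClosed k] [CharZero k]
    {St : Type v} [CommRing St] [Algebra (PowerSeries k) St] (d a b : ℕ)
    (bt : Module.Basis (Fin d) (PowerSeries k) St)
    (ha : Ideal.span {Algebra.discr (PowerSeries k) ⇑bt} = Ideal.span {(PowerSeries.X : PowerSeries k) ^ a})
    (S : Subalgebra (PowerSeries k) St) (bS : Module.Basis (Fin d) (PowerSeries k) S)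
    (hb : Ideal.span {Algebra.discr (PowerSeries k) ⇑bS} = Ideal.span {(PowerSeries.X : PowerSeries k) ^ b}) :
    (∀ q : St ⧸ Subalgebra.toSubmodule S, ((PowerSeries.X : PowerSeries k) ^ b) • q = 0) ∧
    2 * Module.length (PowerSeries k) (St ⧸ Subalgebra.toSubmodule S) + (a : ℕ∞) = (b : ℕ∞) := by
  classical
  set N := Subalgebra.toSubmodule S
  have hrank : Module.finrank (PowerSeries k) N = Module.finrank (PowerSeries k) St := by
    rw [Module.finrank_eq_card_basis bt]
    exact Module.finrank_eq_card_basis bS
  let B := Submodule.smithNormalFormTopBasis bt hrank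
  let A := Submodule.smithNormalFormCoeffs bt hrank
  let C : Module.Basis (Fin d) (PowerSeries k) S := Submodule.smithNormalFormBotBasis bt hrank
  have hC : ∀ i, (C i : St) = A i • B i := Submodule.smithNormalFormBotBasis_def bt hrank
  have hA : ∀ i, A i ≠ 0 := fun i h0 => by
    have : (C i : St) = 0 := by rw [hC, h0, zero_smul]
    exact C.ne_zero i (Subtype.ext this)
  have htr : ∀ x : S, Algebra.trace (PowerSeries k) S x = Algebra.trace (PowerSeries k) St (x : St) := by
    intro x
    rw [Algebra.trace_eq_matrix_trace C, Algebra.trace_eq_matrix_trace B]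
    refine Finset.sum_congr rfl fun i _ => ?_
    simp only [Matrix.diag_apply, Algebra.leftMulMatrix_eq_repr_mul]
    have h1 : ((x * C i : S) : St) = ∑ j, (C.repr (x * C i) j * A j) • B j := by
      conv_lhs => rw [← C.sum_repr (x * C i)]
      rw [AddSubmonoidClass.coe_finsetSum]
      refine Finset.sum_congr rfl fun j _ => ?_
      rw [Subalgebra.coe_smul, hC, mul_smul]
    have h2 := congrArg (fun z => B.repr z i) h1
    simp only [B.repr_sum_self] at h2
    rw [Subalgebra.coe_mul, hC, mul_smul_comm, map_smul, Finsupp.smul_apply, smul_eq_mul] at h2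
    exact mul_right_cancel₀ (hA i) (h2.symm.trans (mul_comm _ _))
  have hbasis : ∀ {M : Type v} [CommRing M] [Algebra (PowerSeries k) M]
      (p q : Module.Basis (Fin d) (PowerSeries k) M),
      Associated (Algebra.discr (PowerSeries k) ⇑p) (Algebra.discr (PowerSeries k) ⇑q) := by
    intro M _ _ p q
    have hu : IsUnit (q.toMatrix p).det := by
      rw [← LinearMap.toMatrix_id_eq_basis_toMatrix p q]
      exact LinearEquiv.isUnit_det (LinearEquiv.refl _ M) p q
    have hd : Algebra.discr (PowerSeries k) ⇑p =
        (q.toMatrix p).det ^ 2 * Algebra.discr (PowerSeries k) ⇑q := by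
      rw [← Algebra.discr_of_matrix_vecMul, Module.Basis.toMatrix_map_vecMul]
    rw [hd]
    exact associated_unit_mul_left _ _ (hu.pow 2)
  have hdisc : Algebra.discr (PowerSeries k) ⇑C =
      (∏ i, A i) ^ 2 * Algebra.discr (PowerSeries k) ⇑B := by
    rw [← Matrix.det_diagonal, ← Algebra.discr_of_matrix_vecMul, Algebra.discr_def, Algebra.discr_def]
    congr 1
    ext i j
    simp only [Algebra.traceMatrix_apply, Algebra.traceForm_apply, htr, Subalgebra.coe_mul, hC]
    simp [Matrix.vecMul, dotProduct, Matrix.diagonal, Algebra.smul_def, mul_comm, mul_left_comm,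
      apply_ite (algebraMap (PowerSeries k) St)]
  have hassoc : Associated ((PowerSeries.X : PowerSeries k) ^ b)
      ((∏ i, A i) ^ 2 * (PowerSeries.X : PowerSeries k) ^ a) := by
    have h1 := Ideal.span_singleton_eq_span_singleton.mp ha
    have h2 := Ideal.span_singleton_eq_span_singleton.mp hb
    refine h2.symm.trans ((hbasis bS C).trans ?_)
    rw [hdisc]
    exact ((hbasis B bt).trans h1).mul_left _
  choose e v hev using fun i =>
    IsDiscreteValuationRing.eq_unit_mul_pow_irreducible (hA i) (PowerSeries.X_irreducible (R := k))
  have hb' : b = 2 * (∑ i, e i) + a := by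
    obtain ⟨w, hw⟩ := hassoc
    refine IsDiscreteValuationRing.unit_mul_pow_congr_pow (PowerSeries.X_irreducible (R := k))
      (PowerSeries.X_irreducible (R := k)) w ((∏ i, v i) ^ 2) _ _ ?_
    rw [mul_comm (w : PowerSeries k), hw]
    simp only [hev, Finset.prod_mul_distrib, Finset.prod_pow_eq_pow_sum, Units.val_pow_eq_pow_val,
      Units.coe_prod, mul_pow, ← pow_mul, pow_add, mul_assoc]
    rw [mul_comm 2]
  refine ⟨fun q => ?_, ?_⟩
  · obtain ⟨x, rfl⟩ := Submodule.Quotient.mk_surjective _ q
    rw [← Submodule.Quotient.mk_smul, Submodule.Quotient.mk_eq_zero]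
    rw [← B.sum_repr x, Finset.smul_sum]
    refine Submodule.sum_mem _ fun i _ => ?_
    rw [smul_comm]
    refine N.smul_mem _ ?_
    have hle : e i ≤ b := by
      have := Finset.single_le_sum (f := e) (fun j _ => Nat.zero_le _) (Finset.mem_univ i)
      omega
    have hdvd : A i ∣ (PowerSeries.X : PowerSeries k) ^ b := by
      rw [hev i]
      exact (Units.mul_left_dvd).mpr (pow_dvd_pow _ hle)
    obtain ⟨c, hc⟩ := hdvd
    rw [hc, mul_comm, mul_smul, ← hC]
    exact N.smul_mem c (C i).2
  · rw [(Submodule.quotientEquivPiSpan N bt hrank).length_eq, Module.length_pi_of_fintype, hb']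
    have : ∀ i, Module.length (PowerSeries k) (PowerSeries k ⧸ Ideal.span {A i}) = (e i : ℕ∞) := by
      intro i
      rw [hev i, Ideal.span_singleton_mul_left_unit (v i).isUnit, ← Ideal.span_singleton_pow,
        ← PowerSeries.maximalIdeal_eq_span_X]
      exact IsDiscreteValuationRing.length_quotient_pow_maximalIdeal (R := PowerSeries k) _
    simp only [A] at this
    simp only [this]
    push_cast
    rfl

end Groth.Agent.S13877
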