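import Groth.Statements.S13878
import Mathlib

set_option autoImplicit false
universe u
open Crimp

namespace Groth.Agent.S13878

/-- Over R = k⟦t⟧ with k an algebraically closed field of characteristic zero, let S' = R × R × R (the
unramified triple cover of the formal disk) and let S be an R-submodule of S' containing 1 such that
S' / S is isomorphic to R / (t ^ m) ⊕ R / (t ^ n) with m ≤ n. Then t ^ n S' is contained in S, and
there is f in S', not lying in R·1 + t S', such that S = R·1 + R·(t ^ m f) + t ^ n S'. -/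
theorem result {k : Type u} [Field k] [IsAlgClosed k] [CharZero k] (m n : ℕ) (hmn : m ≤ n)
    (S : Submodule (PowerSeries k) (Fin 3 → PowerSeries k))
    (h1 : (1 : (Fin 3 → PowerSeries k)) ∈ S)
    (e : ((Fin 3 → PowerSeries k) ⧸ S) ≃ₗ[PowerSeries k]
      ((PowerSeries k ⧸ Ideal.span {(PowerSeries.X : PowerSeries k) ^ m}) × (PowerSeries k ⧸ Ideal.span {(PowerSeries.X : PowerSeries k) ^ n}))) :
    Ideal.span {(PowerSeries.X : PowerSeries k) ^ n} • (⊤ : Submodule (PowerSeries k) (Fin 3 → PowerSeries k)) ≤ S ∧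
    ∃ f : (Fin 3 → PowerSeries k),
      f ∉ Submodule.span (PowerSeries k) {(1 : (Fin 3 → PowerSeries k))} ⊔ Ideal.span {(PowerSeries.X : PowerSeries k)} • (⊤ : Submodule (PowerSeries k) (Fin 3 → PowerSeries k)) ∧
      S = Submodule.span (PowerSeries k) {(1 : (Fin 3 → PowerSeries k)), ((PowerSeries.X : PowerSeries k) ^ m) • f} ⊔
        Ideal.span {(PowerSeries.X : PowerSeries k) ^ n} • (⊤ : Submodule (PowerSeries k) (Fin 3 → PowerSeries k)) := by
  classical
  let R := PowerSeries k
  let X : R := PowerSeries.X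
  let U : Submodule R (Fin 3 → R) := ⊤
  let q : (Fin 3 → R) →ₗ[R] (R ⧸ Ideal.span {X ^ m}) × (R ⧸ Ideal.span {X ^ n}) :=
    (e : _ →ₗ[R] _) ∘ₗ S.mkQ
  have hq : ∀ x, q x = 0 ↔ x ∈ S := fun x => by
    simp [q, Submodule.Quotient.mk_eq_zero]
  have hqs : Function.Surjective q := e.surjective.comp (Submodule.mkQ_surjective S)
  have hsm : ∀ (J : Ideal R) (x : R), (∀ c, x * c ∈ J) → ∀ z : R ⧸ J, x • z = 0 := by
    intro J x h z
    obtain ⟨c, rfl⟩ := Ideal.Quotient.mk_surjective z
    exact Ideal.Quotient.eq_zero_iff_mem.mpr (h c)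
  have hT : Ideal.span {X ^ n} • U ≤ S := by
    rw [Submodule.ideal_span_singleton_smul]
    rintro _ ⟨y, -, rfl⟩
    rw [← hq]
    show q (X ^ n • y) = 0
    rw [map_smul]
    exact Prod.ext
      (hsm _ _ (fun c => Ideal.mem_span_singleton.mpr (Dvd.dvd.mul_right (pow_dvd_pow X hmn) c)) _)
      (hsm _ _ (fun c => Ideal.mem_span_singleton.mpr (dvd_mul_right _ c)) _)
  have hmk : ∀ (J : Ideal R) (a : R), a • (1 : R ⧸ J) = Ideal.Quotient.mk J a := fun J a =>
    congrArg (Ideal.Quotient.mk J) (mul_one a)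
  let c : (Fin 3 → R) → (Fin 3 → k) := fun x i => PowerSeries.constantCoeff (x i)
  have hc0 : ∀ x, c x = 0 → x ∈ Ideal.span {X} • U := fun x hx => by
    have : ∀ i, X ∣ x i := fun i => PowerSeries.X_dvd_iff.mpr (congrFun hx i)
    choose y hy using this
    have hxy : x = X • y := funext fun i => by rw [Pi.smul_apply, smul_eq_mul]; exact hy i
    rw [hxy]
    exact Submodule.smul_mem_smul (Ideal.mem_span_singleton_self X) trivial
  have hc1 : ∀ x, x ∈ Ideal.span {X} • U → c x = 0 := fun x hx => by
    refine Submodule.smul_induction_on hx (fun r hr y _ => ?_) (fun x y hx hy => ?_)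
    · funext i
      obtain ⟨r', rfl⟩ := Ideal.mem_span_singleton.mp hr
      simp [c, X]
    · funext i
      have hxi := congrFun hx i
      have hyi := congrFun hy i
      simp only [c, Pi.zero_apply] at hxi hyi ⊢
      rw [Pi.add_apply, map_add, hxi, hyi, add_zero]
  have hind : ∀ v : Fin 3 → (Fin 3 → R), LinearIndependent k (fun i => c (v i)) →
      Submodule.span R (Set.range v) = ⊤ := by
    intro v hv
    have hspan := hv.span_eq_top_of_card_eq_finrank (by simp)
    refine top_le_iff.mp (Submodule.le_of_le_smul_of_le_jacobson_bot (I := Ideal.span {X})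
      Module.Finite.fg_top ?_ ?_)
    · rw [← PowerSeries.maximalIdeal_eq_span_X, IsLocalRing.jacobson_eq_maximalIdeal ⊥ bot_ne_top]
    · intro x _
      have hx : c x ∈ Submodule.span k (Set.range fun i => c (v i)) := hspan ▸ trivial
      obtain ⟨a, ha⟩ := (Submodule.mem_span_range_iff_exists_fun k).mp hx
      refine Submodule.mem_sup.mpr ⟨∑ i, PowerSeries.C (a i) • v i,
        Submodule.sum_mem _ fun i _ => Submodule.smul_mem _ _ (Submodule.subset_span ⟨i, rfl⟩),
        x - ∑ i, PowerSeries.C (a i) • v i, ?_, add_sub_cancel _ _⟩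
      apply hc0
      funext j
      have := congrFun ha j
      simp only [c, Finset.sum_apply, Pi.smul_apply, smul_eq_mul] at this
      simp [c, Finset.sum_apply, this]
  refine ⟨hT, ?_⟩
  obtain ⟨g1, hg1⟩ := hqs (1, 0)
  obtain ⟨g2, hg2⟩ := hqs (0, 1)
  have hq1 : q 1 = 0 := (hq 1).mpr h1
  have hone : c 1 ≠ 0 := fun h => one_ne_zero (α := k) (by simpa [c] using congrFun h 0)
  rcases Nat.eq_zero_or_pos n with hn0 | hn
  · subst hn0
    obtain rfl : m = 0 := Nat.le_zero.mp hmn
    refine ⟨Pi.single 0 1, fun h => ?_, ?_⟩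
    · obtain ⟨u, hu, w, hw, he⟩ := Submodule.mem_sup.mp h
      obtain ⟨r, rfl⟩ := Submodule.mem_span_singleton.mp hu
      have hw' := hc1 w hw
      have h0 := congrArg (fun x : Fin 3 → R => PowerSeries.constantCoeff (x 0)) he
      have h1' := congrArg (fun x : Fin 3 → R => PowerSeries.constantCoeff (x 1)) he
      have hw0 := congrFun hw' 0
      have hw1 := congrFun hw' 1
      simp only [c, Pi.zero_apply] at hw0 hw1
      simp [hw0, hw1] at h0 h1'
      exact one_ne_zero (α := k) (h0.symm.trans h1')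
    · have htop : Ideal.span {X ^ 0} • U = ⊤ := by rw [pow_zero, Ideal.span_singleton_one, Submodule.top_smul]
      rw [show Ideal.span {(PowerSeries.X : PowerSeries k) ^ 0} • (⊤ : Submodule R (Fin 3 → R)) = ⊤
        from htop, sup_top_eq]
      exact top_le_iff.mp (htop ▸ hT)
  have hres : ∀ (s : ℕ), 0 < s → ∀ a : R, a • (1 : R ⧸ Ideal.span {X ^ s}) = 0 →
      PowerSeries.constantCoeff a = 0 := by
    intro s hs a h
    rw [hmk, Ideal.Quotient.eq_zero_iff_mem,
      Ideal.mem_span_singleton] at h
    exact PowerSeries.X_dvd_iff.mp ((dvd_pow_self X (Nat.pos_iff_ne_zero.mp hs)).trans h)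
  have hind3 : ∀ f, (∀ a0 a1 a2 : k, a0 • c 1 + a1 • c f + a2 • c g2 = 0 →
      a0 = 0 ∧ a1 = 0 ∧ a2 = 0) → LinearIndependent k (fun i => c (![1, f, g2] i)) := by
    intro f h
    rw [Fintype.linearIndependent_iff]
    intro a ha
    simp [Fin.sum_univ_three] at ha
    obtain ⟨x, y, z⟩ := h _ _ _ ha
    intro i
    fin_cases i <;> assumption
  have hcomb : ∀ (f : Fin 3 → R) (a0 a1 a2 : k), a0 • c 1 + a1 • c f + a2 • c g2 = 0 →
      ∃ y, PowerSeries.C a0 • (1 : Fin 3 → R) + PowerSeries.C a1 • f + PowerSeries.C a2 • g2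
        = X • y := by
    intro f a0 a1 a2 h
    have : ∀ i, X ∣ (PowerSeries.C a0 • (1 : Fin 3 → R) + PowerSeries.C a1 • f +
        PowerSeries.C a2 • g2) i := fun i => PowerSeries.X_dvd_iff.mpr (by
      have := congrFun h i
      simpa [c] using this)
    choose y hy using this
    exact ⟨y, funext fun i => by rw [hy i]; rfl⟩
  have hsolve : ∀ f, LinearIndependent k (fun i => c (![1, f, g2] i)) → ∀ x,
      ∃ a0 a1 a2 : R, x = a0 • (1 : Fin 3 → R) + a1 • f + a2 • g2 := by
    intro f hf x
    have hx : x ∈ Submodule.span R (Set.range ![1, f, g2]) := (hind _ hf) ▸ trivial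
    obtain ⟨a, ha⟩ := (Submodule.mem_span_range_iff_exists_fun R).mp hx
    exact ⟨a 0, a 1, a 2, by rw [← ha, Fin.sum_univ_three]; rfl⟩
  have hmain : ∀ f, LinearIndependent k (fun i => c (![1, f, g2] i)) →
      (∀ a : R, a • (1 : R ⧸ Ideal.span {X ^ m}) = 0 → ∃ r, a = r * X ^ m) → X ^ m • f ∈ S →
      (∀ a : R, (q (a • f)).2 = 0) → (∀ a : R, q (a • f) = 0 → ∃ r, a = r * X ^ m) →
      f ∉ Submodule.span R {(1 : Fin 3 → R)} ⊔ Ideal.span {X} • U ∧
      S = Submodule.span R {(1 : Fin 3 → R), X ^ m • f} ⊔ Ideal.span {X ^ n} • U := by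
    intro f hf _ hfS hf2 hfa
    constructor
    · intro h
      obtain ⟨u, hu, w, hw, he⟩ := Submodule.mem_sup.mp h
      obtain ⟨r, rfl⟩ := Submodule.mem_span_singleton.mp hu
      have := Fintype.linearIndependent_iff.mp hf ![PowerSeries.constantCoeff r, -1, 0] (by
        funext j
        have hwj := congrFun (hc1 w hw) j
        simp only [c, Pi.zero_apply] at hwj
        simp [Fin.sum_univ_three, c, ← he, hwj]) 1
      simp at this
    · refine le_antisymm (fun x hx => ?_) (sup_le (Submodule.span_le.mpr ?_) hT)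
      · obtain ⟨a0, a1, a2, rfl⟩ := hsolve f hf x
        have h0 := (hq _).mpr hx
        rw [map_add, map_add, map_smul, hq1, smul_zero, zero_add, map_smul q a2, hg2] at h0
        have h2 := congrArg Prod.snd h0
        rw [Prod.snd_add, hf2, zero_add, Prod.smul_snd, hmk] at h2
        have ha2 : a2 ∈ Ideal.span {X ^ n} := Ideal.Quotient.eq_zero_iff_mem.mp h2
        have h1' : q (a1 • f) = 0 := Prod.ext (by simpa using congrArg Prod.fst h0) (hf2 a1)
        obtain ⟨r, rfl⟩ := hfa a1 h1'
        refine Submodule.mem_sup.mpr ⟨a0 • 1 + r • (X ^ m • f), ?_, a2 • g2,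
          Submodule.smul_mem_smul ha2 trivial, by rw [smul_smul]⟩
        exact add_mem (Submodule.smul_mem _ _ (Submodule.subset_span (by simp)))
          (Submodule.smul_mem _ _ (Submodule.subset_span (by simp)))
      · intro x hx
        rcases hx with rfl | rfl
        · exact h1
        · exact hfS
  have hann : ∀ a : R, a • (1 : R ⧸ Ideal.span {X ^ m}) = 0 → ∃ r, a = r * X ^ m := by
    intro a h
    rw [hmk, Ideal.Quotient.eq_zero_iff_mem,
      Ideal.mem_span_singleton'] at h
    exact ⟨h.choose, h.choose_spec.symm⟩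
  rcases Nat.eq_zero_or_pos m with hm0 | hm
  · subst hm0
    have hex : ∃ f ∈ S, ∀ r : k, r • c 1 ≠ c f := by
      by_contra hno
      push Not at hno
      have : ⊤ ≤ Submodule.span k (Set.range ![c 1, c g2]) := by
        intro y _
        obtain ⟨z, hz⟩ := Ideal.Quotient.mk_surjective (q (fun i => PowerSeries.C (y i))).2
        have hmem : (fun i => PowerSeries.C (y i)) - z • g2 ∈ S := by
          rw [← hq, map_sub, map_smul, hg2]
          refine Prod.ext ?_ ?_
          · obtain ⟨a, ha⟩ := Ideal.Quotient.mk_surjective (q (fun i => PowerSeries.C (y i)) - z • ((0, 1) : (R ⧸ Ideal.span {X ^ 0}) × (R ⧸ Ideal.span {X ^ n}))).1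
            rw [← ha]
            exact Ideal.Quotient.eq_zero_iff_mem.mpr (by simp)
          · simp only [Prod.snd_sub, Prod.smul_snd, hmk, hz, sub_self, Prod.snd_zero]
        obtain ⟨r, hr⟩ := hno _ hmem
        refine (Submodule.mem_span_range_iff_exists_fun k).mpr
          ⟨![r, PowerSeries.constantCoeff z], ?_⟩
        funext j
        have := congrFun hr j
        simp [c] at this
        simp [Fin.sum_univ_two, c, this]
      have h2 := finrank_range_le_card (R := k) ![c 1, c g2]
      rw [Set.finrank, top_le_iff.mp this, finrank_top] at h2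
      simp at h2
    obtain ⟨f, hfS, hf⟩ := hex
    have hqf : q f = 0 := (hq f).mpr hfS
    refine ⟨f, hmain f (hind3 f fun a0 a1 a2 h => ?_) hann (by simpa using hfS)
      (fun a => by rw [map_smul, hqf, smul_zero]; rfl) (fun a _ => ⟨a, by simp⟩)⟩
    obtain ⟨y, hy⟩ := hcomb f a0 a1 a2 h
    have h2 := congrArg (fun x => (q x).2) hy
    simp only [map_add, map_smul, hq1, hqf, hg2, smul_zero, zero_add, Prod.smul_snd] at h2
    obtain ⟨z, hz⟩ := Ideal.Quotient.mk_surjective (q y).2
    have hz' : (PowerSeries.C a2 - X * z) • (1 : R ⧸ Ideal.span {X ^ n}) = 0 := by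
      rw [sub_smul, h2, ← hz, ← smul_smul, sub_eq_zero]
      congr 1
      rw [hmk]
    have ha2 : a2 = 0 := by simpa [X] using hres n hn _ hz'
    subst ha2
    have ha1 : a1 = 0 := by
      by_contra hne
      refine hf (-a0 / a1) ?_
      rw [zero_smul, add_zero] at h
      have : a1 • c f = -(a0 • c 1) := eq_neg_of_add_eq_zero_right h
      rw [← inv_smul_smul₀ hne (c f), this, smul_neg, smul_smul, ← neg_smul, div_eq_inv_mul,
        mul_neg]
    subst ha1
    rw [zero_smul, zero_smul, add_zero, add_zero] at h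
    exact ⟨(smul_eq_zero.mp h).resolve_right hone, rfl, rfl⟩
  · refine ⟨g1, hmain g1 (hind3 g1 fun a0 a1 a2 h => ?_) hann ?_
      (fun a => by rw [map_smul, hg1]; simp) (fun a h => hann a ?_)⟩
    · obtain ⟨y, hy⟩ := hcomb g1 a0 a1 a2 h
      have h2 := congrArg q hy
      simp only [map_add, map_smul, hq1, hg1, hg2, smul_zero, zero_add] at h2
      obtain ⟨z1, hz1⟩ := Ideal.Quotient.mk_surjective (q y).1
      obtain ⟨z2, hz2⟩ := Ideal.Quotient.mk_surjective (q y).2
      have e1 : (PowerSeries.C a1 - X * z1) • (1 : R ⧸ Ideal.span {X ^ m}) = 0 := by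
        have := congrArg Prod.fst h2
        simp only [Prod.fst_add, Prod.smul_fst, smul_zero, add_zero] at this
        rw [sub_smul, this, ← hz1, ← smul_smul, sub_eq_zero]
        congr 1
        rw [hmk]
      have e2 : (PowerSeries.C a2 - X * z2) • (1 : R ⧸ Ideal.span {X ^ n}) = 0 := by
        have := congrArg Prod.snd h2
        simp only [Prod.snd_add, Prod.smul_snd, smul_zero, zero_add] at this
        rw [sub_smul, this, ← hz2, ← smul_smul, sub_eq_zero]
        congr 1
        rw [hmk]
      have ha1 : a1 = 0 := by simpa [X] using hres m hm _ e1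
      have ha2 : a2 = 0 := by simpa [X] using hres n hn _ e2
      subst ha1 ha2
      rw [zero_smul, zero_smul, add_zero, add_zero] at h
      exact ⟨(smul_eq_zero.mp h).resolve_right hone, rfl, rfl⟩
    · rw [← hq, map_smul, hg1]
      refine Prod.ext ?_ (smul_zero _)
      exact hsm _ _ (fun c => Ideal.mem_span_singleton.mpr (dvd_mul_right _ c)) _
    · rw [map_smul, hg1] at h
      exact congrArg Prod.fst h

end Groth.Agent.S13878
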