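import Groth.Statements.S13879
import Mathlib

set_option autoImplicit false
set_option backward.isDefEq.respectTransparency false
universe u
open Crimp

namespace Groth.Agent.S13879

/-- Over R = k⟦t⟧ with k an algebraically closed field of characteristic zero, let S' = R × R × R and
let S be the R-submodule R·1 + R·(t ^ m f) + t ^ n S' of S' for some f in S' and natural numbers m,
n. Then S is closed under multiplication (equivalently, is an R-subalgebra of S') if and only if t ^
(2m) f ^ 2 lies in S. (The published statement has m ≤ n and S' / S isomorphic to R / (t ^ m) ⊕ R /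
(t ^ n), under which S has this shape; this row states the criterion for every submodule of this
shape.) -/
theorem result {k : Type u} [Field k] [IsAlgClosed k] [CharZero k] (m n : ℕ) (f : (Fin 3 → PowerSeries k))
    (S : Submodule (PowerSeries k) (Fin 3 → PowerSeries k))
    (hS : S = Submodule.span (PowerSeries k) {(1 : (Fin 3 → PowerSeries k)), ((PowerSeries.X : PowerSeries k) ^ m) • f} ⊔
        Ideal.span {(PowerSeries.X : PowerSeries k) ^ n} • (⊤ : Submodule (PowerSeries k) (Fin 3 → PowerSeries k))) :
    (∀ x ∈ S, ∀ y ∈ S, x * y ∈ S) ↔ ((PowerSeries.X : PowerSeries k) ^ (2 * m)) • (f * f) ∈ S := by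
  classical
  set t : PowerSeries k := PowerSeries.X with ht
  set g : Fin 3 → PowerSeries k := t ^ m • f with hg
  set T : Submodule (PowerSeries k) (Fin 3 → PowerSeries k) := Ideal.span {t ^ n} • ⊤ with hT
  have hgS : g ∈ S := hS ▸ Submodule.mem_sup_left (Submodule.subset_span (by simp))
  have h1S : (1 : Fin 3 → PowerSeries k) ∈ S := hS ▸ Submodule.mem_sup_left (Submodule.subset_span (by simp))
  have hgg : t ^ (2 * m) • (f * f) = g * g := by
    rw [hg, smul_mul_smul_comm, ← pow_add, two_mul]
  constructor
  · intro h; rw [hgg]; exact h g hgS g hgS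
  · intro h
    rw [hgg] at h
    have hTS : ∀ x ∈ T, x ∈ S := fun x hx => hS ▸ Submodule.mem_sup_right hx
    have hmem : ∀ x, x ∈ T ↔ ∃ z, t ^ n • z = x := fun x => by
      rw [hT, Submodule.ideal_span_singleton_smul, Submodule.mem_smul_pointwise_iff_exists]
      simp
    intro x hx y hy
    rw [hS, Submodule.mem_sup] at hx hy
    obtain ⟨x1, hx1, x2, hx2, rfl⟩ := hx
    obtain ⟨y1, hy1, y2, hy2, rfl⟩ := hy
    obtain ⟨a, b, rfl⟩ := Submodule.mem_span_pair.1 hx1
    obtain ⟨c, e, rfl⟩ := Submodule.mem_span_pair.1 hy1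
    obtain ⟨zx, rfl⟩ := (hmem _).1 hx2
    obtain ⟨zy, rfl⟩ := (hmem _).1 hy2
    have key : (a • (1 : Fin 3 → PowerSeries k) + b • g + t ^ n • zx) * (c • (1 : Fin 3 → PowerSeries k) + e • g + t ^ n • zy)
        = (a * c) • (1 : Fin 3 → PowerSeries k) + (a * e + b * c) • g + (b * e) • (g * g)
          + t ^ n • ((a • (1 : Fin 3 → PowerSeries k) + b • g) * zy + zx * (c • (1 : Fin 3 → PowerSeries k) + e • g + t ^ n • zy)) := by
      funext i; simp [smul_eq_mul]; ring
    rw [key]
    exact S.add_mem (S.add_mem (S.add_mem (S.smul_mem _ h1S) (S.smul_mem _ hgS)) (S.smul_mem _ h))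
      (hTS _ ((hmem _).2 ⟨_, rfl⟩))

end Groth.Agent.S13879
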