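import Groth.Statements.S13913
import Mathlib

set_option autoImplicit false
set_option linter.style.haveILetI false
universe u
open PlaneCubic

namespace Groth.Agent.S13913

/-- Over an algebraically closed field of characteristic zero, for linearly independent linear forms z₁,
z₂ and quadratic forms q₁, q₂ in three variables and a nonzero common zero p of z₁ and z₂, the point
p is a singular point of the plane cubic z₁q₂ − z₂q₁ = 0 (all three partial derivatives vanish at p)
if and only if q₁ and q₂ both vanish at p. -/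
theorem result (k : Type u) [Field k] [IsAlgClosed k] [CharZero k]
    (z₁ z₂ q₁ q₂ : MvPolynomial (Fin 3) k) (hz₁ : z₁.IsHomogeneous 1) (hz₂ : z₂.IsHomogeneous 1)
    (hq₁ : q₁.IsHomogeneous 2) (hq₂ : q₂.IsHomogeneous 2) (hind : LinearIndependent k ![z₁, z₂])
    (p : Fin 3 → k) (hp : p ≠ 0) (hp₁ : MvPolynomial.eval p z₁ = 0) (hp₂ : MvPolynomial.eval p z₂ = 0) :
    (∀ i : Fin 3, MvPolynomial.eval p (MvPolynomial.pderiv i (z₁ * q₂ - z₂ * q₁)) = 0) ↔
      (MvPolynomial.eval p q₁ = 0 ∧ MvPolynomial.eval p q₂ = 0) := by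
  have e : ∀ i : Fin 3, MvPolynomial.eval p (MvPolynomial.pderiv i (z₁ * q₂ - z₂ * q₁))
      = MvPolynomial.eval p (MvPolynomial.pderiv i z₁) * MvPolynomial.eval p q₂
        - MvPolynomial.eval p (MvPolynomial.pderiv i z₂) * MvPolynomial.eval p q₁ := by
    intro i
    rw [map_sub, Derivation.leibniz, Derivation.leibniz, smul_eq_mul, smul_eq_mul, smul_eq_mul, smul_eq_mul]
    simp only [map_sub, map_add, map_mul, hp₁, hp₂, zero_mul, zero_add]
    ring
  constructor
  · intro h
    set a := MvPolynomial.eval p q₂ with ha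
    set b := MvPolynomial.eval p q₁ with hb
    have hlin : a • z₁ + (-b) • z₂ = 0 := by
      have hz : (a • z₁ + (-b) • z₂).IsHomogeneous 1 :=
        Submodule.add_mem (MvPolynomial.homogeneousSubmodule (Fin 3) k 1)
          (Submodule.smul_mem _ a hz₁) (Submodule.smul_mem _ (-b) hz₂)
      have hs := hz.sum_X_mul_pderiv
      rw [one_smul] at hs
      rw [← hs]
      refine Finset.sum_eq_zero fun i _ => ?_
      have hc : ∀ z : MvPolynomial (Fin 3) k, z.IsHomogeneous 1 → MvPolynomial.pderiv i z = MvPolynomial.C (MvPolynomial.eval p (MvPolynomial.pderiv i z)) := by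
        intro z hz'
        have hh := hz'.pderiv (i := i)
        have h0 : (MvPolynomial.pderiv i z).totalDegree = 0 := Nat.le_zero.mp hh.totalDegree_le
        rw [MvPolynomial.totalDegree_eq_zero_iff_eq_C] at h0
        rw [h0, MvPolynomial.eval_C]
      rw [map_add, Derivation.map_smul, Derivation.map_smul, hc z₁ hz₁, hc z₂ hz₂, MvPolynomial.smul_eq_C_mul, MvPolynomial.smul_eq_C_mul,
        ← MvPolynomial.C_mul, ← MvPolynomial.C_mul, ← MvPolynomial.C_add]
      have := h i
      rw [e i] at this
      rw [show a * MvPolynomial.eval p (MvPolynomial.pderiv i z₁) + -b * MvPolynomial.eval p (MvPolynomial.pderiv i z₂) = 0 by linear_combination this]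
      rw [map_zero, mul_zero]
    obtain ⟨h1, h2⟩ := LinearIndependent.pair_iff.mp hind a (-b) hlin
    exact ⟨neg_eq_zero.mp h2, h1⟩
  · rintro ⟨h1, h2⟩ i
    rw [e i, h1, h2, mul_zero, mul_zero, sub_zero]

end Groth.Agent.S13913
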