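import Groth.Statements.S13925
import Mathlib.Tactic.Abel
-- import your own Groth.Agent.* helpers here

set_option autoImplicit false
universe u v w x
open W4c1limliniiii

namespace Groth.Agent.S13925

/-- Let k be a field and U, E, W vector spaces over k with linear maps f : U → E, g' : E → U, f₂ : E → W
and g : W → E such that g' ∘ f = 0, the kernel of f₂ is contained in the image of g, and the image
of g meets the kernel of g' only in 0 — the conditions holding at a point of a linked Grassmannian
at which the linking scalar vanishes. Let V₁ ≤ U and V₂ ≤ E be subspaces and let C' ≤ V₂ be a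
subspace contained in the kernel of g' and meeting f(V₁) only in 0. Then the subspaces f(V₁), ker f₂
∩ V₂ and C' of E are independent: their sum is direct. (The published statement is for two
consecutive members V_{i-1}, V_i of a point of a linked Grassmannian at which the linking scalar
vanishes and adds the decomposition V_i = f(V_{i-1}) ⊕ (ker f_i ∩ V_i) ⊕ C with C ⊇ C'; this row
states the independence, with only the three conditions the argument uses.) -/
theorem result (k : Type u) [Field k]
    (U : Type v) (E : Type w) (W : Type x) [AddCommGroup U] [Module k U] [AddCommGroup E]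
    [Module k E] [AddCommGroup W] [Module k W]
    (f : U →ₗ[k] E) (g' : E →ₗ[k] U) (f₂ : E →ₗ[k] W) (g : W →ₗ[k] E)
    (hgf : g'.comp f = 0) (hII : LinearMap.ker f₂ ≤ LinearMap.range g)
    (hIII : LinearMap.range g ⊓ LinearMap.ker g' = ⊥)
    (V₁ : Submodule k U) (V₂ : Submodule k E) (C' : Submodule k E) (hC : C' ≤ V₂)
    (hCg : C' ≤ LinearMap.ker g') (hCf : Submodule.map f V₁ ⊓ C' = ⊥) :
    iSupIndep ![Submodule.map f V₁, LinearMap.ker f₂ ⊓ V₂, C'] := by
  rw [iSupIndep_def]
  have key : ∀ a ∈ Submodule.map f V₁, ∀ b ∈ LinearMap.ker f₂ ⊓ V₂, ∀ c ∈ C', a + b + c = 0 →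
      a = 0 ∧ b = 0 ∧ c = 0 := by
    intro a ha b hb c hc h
    have ga : g' a = 0 := by
      obtain ⟨u, -, rfl⟩ := ha
      exact LinearMap.congr_fun hgf u
    have gb : g' b = 0 := by
      have := congrArg g' h
      simpa [ga, LinearMap.mem_ker.1 (hCg hc)] using this
    have b0 : b = 0 := by
      rw [← Submodule.mem_bot k, ← hIII]
      exact ⟨hII hb.1, gb⟩
    subst b0
    have a0 : a = 0 := by
      rw [← Submodule.mem_bot k, ← hCf]
      refine ⟨ha, ?_⟩
      rw [show a = -c from eq_neg_of_add_eq_zero_left (by simpa using h)]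
      exact C'.neg_mem hc
    exact ⟨a0, rfl, by simpa [a0] using h⟩
  intro i
  rw [Submodule.disjoint_def]
  intro x hx hx'
  have hle : (⨆ j, ⨆ (_ : j ≠ i), ![Submodule.map f V₁, LinearMap.ker f₂ ⊓ V₂, C'] j) ≤
      (![(⊥ : Submodule k E) ⊔ (LinearMap.ker f₂ ⊓ V₂ ⊔ C'), Submodule.map f V₁ ⊔ C',
        Submodule.map f V₁ ⊔ (LinearMap.ker f₂ ⊓ V₂)] i) := by
    refine iSup₂_le fun j hj => ?_
    fin_cases i <;> fin_cases j <;> simp_all
  have hx'' := hle hx'
  fin_cases i
  · simp only [Fin.zero_eta, Matrix.cons_val_zero, bot_sup_eq] at hx hx''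
    obtain ⟨b, hb, c, hc, e⟩ := Submodule.mem_sup.1 hx''
    exact neg_eq_zero.1 (key _ (neg_mem hx) b hb c hc (by rw [← e]; abel)).1
  · simp only [Fin.mk_one, Matrix.cons_val_one, Matrix.cons_val_zero] at hx hx''
    obtain ⟨a, ha, c, hc, e⟩ := Submodule.mem_sup.1 hx''
    exact neg_eq_zero.1 (key a ha _ (neg_mem hx) c hc (by rw [← e]; abel)).2.1
  · obtain ⟨a, ha, b, hb, e⟩ := Submodule.mem_sup.1 hx''
    exact neg_eq_zero.1 (key a ha b hb _ (C'.neg_mem hx) (by rw [← e]; abel)).2.2

end Groth.Agent.S13925
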