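import Groth.Statements.S13926
import Mathlib.LinearAlgebra.FiniteDimensional.Lemmas
-- import your own Groth.Agent.* helpers here

set_option autoImplicit false
universe u v w
open W4c1limliniiii

namespace Groth.Agent.S13926

/-- Let k be a field, E₁ and E₂ finite-dimensional vector spaces over k of the same dimension, f : E₁ →
E₂ and g : E₂ → E₁ linear maps whose composite g ∘ f is multiplication by a scalar s, and V₁ a
subspace of E₁. Then there is a subspace V₂ of E₂ of the same dimension as V₁ with f(V₁) ≤ V₂ and
g(V₂) ≤ V₁. (The published statement is the surjectivity of the truncation morphisms of a linked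
Grassmannian, with a further assertion on lifting families; this row is the lifting step over a
field — over a point the chain of linked subspaces V_1, …, V_{n'} extends one index at a time — and
assumes only g ∘ f = s.) -/
theorem result (k : Type u) [Field k]
    (E₁ : Type v) (E₂ : Type w) [AddCommGroup E₁] [Module k E₁] [FiniteDimensional k E₁]
    [AddCommGroup E₂] [Module k E₂] [FiniteDimensional k E₂]
    (hdim : Module.finrank k E₁ = Module.finrank k E₂)
    (f : E₁ →ₗ[k] E₂) (g : E₂ →ₗ[k] E₁) (s : k) (hgf : g.comp f = s • LinearMap.id)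
    (V₁ : Submodule k E₁) :
    ∃ V₂ : Submodule k E₂, Module.finrank k V₂ = Module.finrank k V₁ ∧
      Submodule.map f V₁ ≤ V₂ ∧ Submodule.map g V₂ ≤ V₁ := by
  have grow : ∀ (j : ℕ) (A B : Submodule k E₂), A ≤ B → Module.finrank k A + j ≤ Module.finrank k B →
      ∃ C, A ≤ C ∧ C ≤ B ∧ Module.finrank k C = Module.finrank k A + j := by
    intro j
    induction j with
    | zero => exact fun A B h _ => ⟨A, le_rfl, h, rfl⟩
    | succ j ih =>
      intro A B h hj
      obtain ⟨C, hAC, hCB, hC⟩ := ih A B h (by omega)
      obtain ⟨w, hwB, hwC⟩ := SetLike.exists_of_lt (lt_of_le_of_ne hCB (fun e => by rw [← e] at hj; omega))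
      refine ⟨C ⊔ k ∙ w, hAC.trans le_sup_left, sup_le hCB ((Submodule.span_singleton_le_iff_mem _ _).2 hwB), ?_⟩
      have h0 : w ≠ 0 := fun e => hwC (e ▸ C.zero_mem)
      have := Submodule.finrank_sup_add_finrank_inf_eq C (k ∙ w)
      rw [show C ⊓ (k ∙ w) = ⊥ from ((Submodule.disjoint_span_singleton' h0).2 hwC).eq_bot, finrank_bot, finrank_span_singleton h0] at this
      omega
  have h1 : Submodule.map f V₁ ≤ Submodule.comap g V₁ := by
    rintro _ ⟨v, hv, rfl⟩
    rw [Submodule.mem_comap, show g (f v) = s • v from LinearMap.congr_fun hgf v]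
    exact V₁.smul_mem s hv
  have h2 : Module.finrank k (Submodule.map f V₁) ≤ Module.finrank k V₁ := Submodule.finrank_map_le f V₁
  have h3 : Module.finrank k V₁ ≤ Module.finrank k (Submodule.comap g V₁) := by
    have e := LinearMap.finrank_range_add_finrank_ker (V₁.mkQ ∘ₗ g)
    rw [LinearMap.ker_comp, Submodule.ker_mkQ] at e
    have := Submodule.finrank_le (LinearMap.range (V₁.mkQ ∘ₗ g))
    have := V₁.finrank_quotient_add_finrank
    omega
  obtain ⟨C, hAC, hCB, hC⟩ := grow (Module.finrank k V₁ - Module.finrank k (Submodule.map f V₁)) _ _ h1 (by omega)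
  exact ⟨C, by omega, hAC, Submodule.map_le_iff_le_comap.2 hCB⟩

end Groth.Agent.S13926
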