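import Groth.Statements.S13953
import Mathlib

set_option autoImplicit false
universe u
open TateLoc

namespace Groth.Agent.S13953

/-- Let (R_i) be a family of local commutative rings and R = ∏ R_i. Any open cover of Spec R can be
refined by one coming from a finite partition of the index set: there is a map c from the index set
to a finite set such that, for each value m, the basic open subset of Spec R defined by the
idempotent which is 1 at the indices with c i = m and 0 elsewhere (this open is the spectrum of the
product of the R_i over that class) is contained in some member of the cover. -/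
theorem result {ι : Type u} (R : ι → Type u)
    [∀ i, CommRing (R i)] [∀ i, IsLocalRing (R i)] {J : Type u}
    (U : J → TopologicalSpace.Opens (PrimeSpectrum (∀ i, R i))) (hU : ⨆ j, U j = ⊤) :
    ∃ (n : ℕ) (c : ι → Fin n), ∀ m : Fin n, ∃ j : J,
      PrimeSpectrum.basicOpen (fun i => if c i = m then (1 : R i) else 0) ≤ U j := by
  classical
  rcases isEmpty_or_nonempty ι with hι | hι
  · exact ⟨0, fun i => hι.elim i, fun m => m.elim0⟩
  -- basic opens inside the cover, generating the unit ideal
  have cov : ∀ p : PrimeSpectrum (∀ i, R i), ∃ (j : J) (f : ∀ i, R i),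
      p ∈ PrimeSpectrum.basicOpen f ∧ PrimeSpectrum.basicOpen f ≤ U j := by
    intro p
    obtain ⟨j, hj⟩ := TopologicalSpace.Opens.mem_iSup.mp (hU ▸ TopologicalSpace.Opens.mem_top p : p ∈ ⨆ j, U j)
    obtain ⟨_, ⟨f, rfl⟩, hpf, hfU⟩ := PrimeSpectrum.isTopologicalBasis_basic_opens.exists_subset_of_mem_open hj (U j).isOpen
    exact ⟨j, f, hpf, hfU⟩
  choose j f hpf hfU using cov
  obtain ⟨t, ht⟩ := isCompact_univ.elim_finite_subcover (fun p => (PrimeSpectrum.basicOpen (f p) : Set (PrimeSpectrum (∀ i, R i))))
    (fun p => (PrimeSpectrum.basicOpen (f p)).isOpen) (fun p _ => Set.mem_iUnion.mpr (show ∃ q, p ∈ PrimeSpectrum.basicOpen (f q) from ⟨p, hpf p⟩))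
  have hunit : ∀ i, ∃ q : t, IsUnit (f q i) := by
    intro i
    let P : PrimeSpectrum (∀ i, R i) :=
      ⟨(IsLocalRing.maximalIdeal (R i)).comap (Pi.evalRingHom R i), inferInstance⟩
    have h := ht (Set.mem_univ P)
    simp only [Set.mem_iUnion, exists_prop] at h
    obtain ⟨q, hq, hPq⟩ := h
    refine ⟨⟨q, hq⟩, by_contra fun hn => hPq ?_⟩
    exact (IsLocalRing.mem_maximalIdeal _).mpr hn
  choose q hq using hunit
  obtain ⟨e⟩ : Nonempty (t ≃ Fin t.card) := ⟨t.equivFin⟩
  refine ⟨t.card, fun i => e (q i), fun m => ⟨j (e.symm m), fun p hp => hfU _ ?_⟩⟩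
  intro hmem
  refine hp (?_ : _ ∈ p.asIdeal)
  have : (fun i => if e (q i) = m then (1 : R i) else 0) =
      (fun i => if h : e (q i) = m then ((show IsUnit (f (e.symm m) i) by subst h; rw [Equiv.symm_apply_apply]; exact hq i)).unit⁻¹.1 else 0) *
        f (e.symm m) := by
    funext i
    by_cases h : e (q i) = m
    · simp only [Pi.mul_apply, dif_pos h, if_pos h]
      exact (IsUnit.val_inv_mul _).symm
    · simp only [Pi.mul_apply, dif_neg h, if_neg h, zero_mul]
  rw [this]
  exact p.asIdeal.mul_mem_left _ hmem

end Groth.Agent.S13953
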