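import Groth.Statements.S13963
import Mathlib

set_option autoImplicit false
universe u
open TateLoc

namespace Groth.Agent.S13963

/-- Let A' → A → A'' be continuous homomorphisms of locally compact, second-countable, Hausdorff abelian
topological groups which form a short exact sequence of abstract groups (the first injective, the
second surjective, image equal to kernel). If A' and A'' are compact, then A is compact. -/
theorem result (A' A A'' : Type u)
    [AddCommGroup A'] [TopologicalSpace A'] [IsTopologicalAddGroup A'] [SecondCountableTopology A'] [T2Space A']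
    [CompactSpace A']
    [AddCommGroup A] [TopologicalSpace A] [IsTopologicalAddGroup A] [LocallyCompactSpace A]
    [SecondCountableTopology A] [T2Space A]
    [AddCommGroup A''] [TopologicalSpace A''] [IsTopologicalAddGroup A''] [SecondCountableTopology A''] [T2Space A'']
    [CompactSpace A'']
    (f : A' →+ A) (g : A →+ A'') (hf : Continuous f) (hg : Continuous g)
    (hinj : Function.Injective f) (hsurj : Function.Surjective g) (hex : g.ker = f.range) :
    CompactSpace A := by
  have hopen : IsOpenMap g := g.isOpenMap_of_sigmaCompact hsurj hg
  choose K hK hKn using fun x : A => exists_compact_mem_nhds x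
  obtain ⟨t, ht⟩ := (isCompact_univ (X := A'')).elim_finite_subcover
    (fun x : A => g '' interior (K x)) (fun x => hopen _ isOpen_interior)
    (fun y _ => by
      obtain ⟨x, rfl⟩ := hsurj y
      exact Set.mem_iUnion.mpr ⟨x, x, mem_interior_iff_mem_nhds.mpr (hKn x), rfl⟩)
  refine ⟨?_⟩
  have hC : IsCompact (⋃ x ∈ t, K x) := t.isCompact_biUnion fun x _ => hK x
  have he : (Set.univ : Set A) = (fun p : A × A => p.1 + p.2) '' ((⋃ x ∈ t, K x) ×ˢ Set.range f) := by
    refine (Set.eq_univ_iff_forall.mpr fun z => ?_).symm
    have h := ht (Set.mem_univ (g z))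
    simp only [Set.mem_iUnion, exists_prop] at h
    obtain ⟨x, hx, w, hw, hgw⟩ := h
    obtain ⟨b, hb⟩ : z - w ∈ f.range := by
      rw [← hex, AddMonoidHom.mem_ker, map_sub, hgw, sub_self]
    exact ⟨(w, f b), ⟨Set.mem_biUnion hx (interior_subset hw), b, rfl⟩, by rw [hb]; exact add_sub_cancel w z⟩
  rw [he]
  exact (hC.prod (isCompact_range hf)).image (continuous_fst.add continuous_snd)

end Groth.Agent.S13963
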