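import Groth.Statements.S13978
import Groth.Agent.Misc9.SF.Basic
-- import your own Groth.Agent.* helpers here

set_option autoImplicit false
universe u v
open CategoryTheory
open scoped TensorProduct
open ArtFun ArtFun.ObsTheory

namespace Groth.Agent.S13978

/-- For obstruction theories of functors in the vector-space form, let k be a field, F a functor on
Artinian local k-algebras with residue field k and (V, ω) an obstruction theory for F — for each
surjection p : C' → C whose kernel J is killed by the maximal ideal and each u ∈ F(C) an obstruction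
ω(p, u) ∈ V ⊗_k J, zero exactly when u lifts, and compatible with replacing C' → C by C'/K → C for
ideals K ≤ J. Let Ω ⊆ V be the subspace spanned by the obstructions along tiny extensions (those p
whose kernel is one-dimensional), transported into V by the isomorphisms V ⊗ J ≅ V coming from
linear isomorphisms J ≅ k. Then for every p and u the obstruction ω(p, u) lies in the image of Ω ⊗_k
J → V ⊗_k J. (The published statement is for deformation categories and obstruction theories
functorial along all morphisms of extensions; this row assumes functoriality along quotients C'/K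
only, which is all its proof uses, and no condition on F.) -/
theorem result {k : Type u} [Field k]
    {F : ArtFun.Art k k ⥤ Type v} {V : Type u} [AddCommGroup V] [Module k V]
    (T : ArtFun.ObsTheory F V) {C' C : ArtFun.Art k k} (p : C' ⟶ C) (hp : ArtFun.Art.IsSemismallExt p)
    (u : F.obj C) :
    T.obs p hp u ∈ LinearMap.range (LinearMap.rTensor (↥(RingHom.ker p.toAlgHom))
      (Submodule.span k {v : V | ∃ (B' B : ArtFun.Art k k) (t : B' ⟶ B) (ht : ArtFun.Art.IsSmallExt t)
          (w : F.obj B) (φ : ↥(RingHom.ker t.toAlgHom) ≃ₗ[k] k),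
          v = TensorProduct.rid k V (LinearMap.lTensor V φ.toLinearMap (T.obs t ht.isSemismallExt w))}).subtype) := by
  classical
  have hsm : ∀ (c : C') (j : RingHom.ker p.toAlgHom), c • j = C'.res c • j := by
    intro c j
    refine Subtype.ext ?_
    have hm : c - algebraMap k C' (C'.res c) ∈ IsLocalRing.maximalIdeal C' := by
      rw [C'.mem_maximalIdeal_iff, map_sub, AlgHom.commutes, Algebra.algebraMap_self, RingHom.id_apply, sub_self]
    have h0 : (c - algebraMap k C' (C'.res c)) * (j : C') = 0 := by
      rw [← Submodule.mem_bot (R := C'.carrier), ← hp.2]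
      exact Ideal.mul_mem_mul hm j.2
    rw [sub_mul, sub_eq_zero] at h0
    change c * (j : C') = C'.res c • (j : C')
    rw [h0, Algebra.smul_def]
  let b := Module.Basis.ofVectorSpace k ↥(RingHom.ker p.toAlgHom)
  obtain ⟨s, hs⟩ : ∃ s, s = TensorProduct.equivFinsuppOfBasisRight b (T.obs p hp u) := ⟨_, rfl⟩
  have key : ∀ i, s i ∈ Submodule.span k {v : V | ∃ (B' B : ArtFun.Art k k) (t : B' ⟶ B) (ht : ArtFun.Art.IsSmallExt t)
          (w : F.obj B) (φ : ↥(RingHom.ker t.toAlgHom) ≃ₗ[k] k),
          v = TensorProduct.rid k V (LinearMap.lTensor V φ.toLinearMap (T.obs t ht.isSemismallExt w))} := by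
    intro i
    have hf : b.coord i (b i) = 1 := by simp
    let K : Ideal C' :=
      { carrier := {x | ∃ h : x ∈ RingHom.ker p.toAlgHom, b.coord i ⟨x, h⟩ = 0}
        add_mem' := fun {x y} ⟨hx, hx'⟩ ⟨hy, hy'⟩ => ⟨add_mem hx hy, (map_add (b.coord i) ⟨x, hx⟩ ⟨y, hy⟩).trans (by rw [hx', hy', add_zero])⟩
        zero_mem' := ⟨zero_mem _, map_zero (b.coord i)⟩
        smul_mem' := fun c x ⟨hx, hx'⟩ => ⟨Submodule.smul_mem _ c hx, by
          change b.coord i (c • (⟨x, hx⟩ : RingHom.ker p.toAlgHom)) = 0
          rw [hsm, map_smul, hx', smul_zero]⟩ }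
    have hKJ : K ≤ RingHom.ker p.toAlgHom := fun x hx => hx.1
    have hJm : RingHom.ker p.toAlgHom ≤ IsLocalRing.maximalIdeal C' := fun x hx => by
      rw [C'.mem_maximalIdeal_iff, ← ArtFun.Art.res_app p x, RingHom.mem_ker.1 hx, map_zero]
    let q := ArtFun.Art.quotFactor (hKJ.trans hJm) p hKJ
    let t : RingHom.ker q.toAlgHom := ArtFun.Art.kerToQuot (hKJ.trans hJm) p hKJ (b i)
    have hκ : ∀ j, ArtFun.Art.kerToQuot (hKJ.trans hJm) p hKJ j = b.coord i j • t := by
      intro j
      refine Subtype.ext ?_
      change Ideal.Quotient.mk K (j : C') = b.coord i j • Ideal.Quotient.mk K (b i : C')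
      refine (Ideal.Quotient.eq.2 (⟨sub_mem j.2 (b.coord i j • b i).2, ?_⟩ : (j : C') - b.coord i j • (b i : C') ∈ K)).trans rfl
      change b.coord i (j - b.coord i j • b i) = 0
      rw [map_sub, map_smul, hf, smul_eq_mul, mul_one, sub_self]
    have ht0 : t ≠ 0 := by
      intro h
      obtain ⟨h1, h2⟩ := Ideal.Quotient.eq_zero_iff_mem.1 (congrArg Subtype.val h)
      exact one_ne_zero (hf.symm.trans h2)
    have hsur : ∀ z : RingHom.ker q.toAlgHom, ∃ c : k, c • t = z := by
      rintro ⟨z, hz⟩
      obtain ⟨x, rfl⟩ := Ideal.Quotient.mk_surjective z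
      exact ⟨_, (hκ ⟨x, RingHom.mem_ker.2 (RingHom.mem_ker.1 hz :)⟩).symm⟩
    have hq : ArtFun.Art.IsSmallExt q := by
      rw [Misc9.SF.isSmallExt_iff]
      refine ⟨fun y => ?_, t.1, fun h => ht0 (Subtype.ext h), ?_, le_antisymm (fun z hz => ?_) ?_⟩
      · obtain ⟨x, rfl⟩ := hp.1 y
        exact ⟨Ideal.Quotient.mk K x, rfl⟩
      · intro z hz
        obtain ⟨x, rfl⟩ := Ideal.Quotient.mk_surjective z
        have hx : x ∈ IsLocalRing.maximalIdeal C' := by
          rw [C'.mem_maximalIdeal_iff]
          exact ((ArtFun.Art.quot C' K (hKJ.trans hJm)).mem_maximalIdeal_iff _).1 hz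
        have : x * (b i : C') = 0 := by
          rw [← Submodule.mem_bot (R := C'.carrier), ← hp.2]
          exact Ideal.mul_mem_mul hx (b i).2
        exact (map_mul (Ideal.Quotient.mk K) x (b i : C')).symm.trans ((congrArg _ this).trans (map_zero _))
      · obtain ⟨c, hc⟩ := hsur ⟨z, hz⟩
        rw [Ideal.mem_span_singleton']
        exact ⟨algebraMap k _ c, (Algebra.smul_def c t.1).symm.trans (congrArg Subtype.val hc)⟩
      · exact (Ideal.span_singleton_le_iff_mem _).2 t.2
    let e : k ≃ₗ[k] RingHom.ker q.toAlgHom := LinearEquiv.ofBijective (LinearMap.toSpanSingleton k _ t)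
      ⟨smul_left_injective k ht0, hsur⟩
    refine Submodule.subset_span ⟨_, C, q, hq, u, e.symm, ?_⟩
    rw [show T.obs q hq.isSemismallExt u = _ from T.obs_quot p hp K (hKJ.trans hJm) hKJ hq.isSemismallExt u,
      ← LinearMap.lTensor_comp_apply]
    have : e.symm.toLinearMap ∘ₗ (ArtFun.Art.kerToQuot (hKJ.trans hJm) p hKJ).restrictScalars k = b.coord i := by
      refine LinearMap.ext fun j => ?_
      rw [LinearMap.comp_apply, LinearEquiv.coe_coe, LinearEquiv.symm_apply_eq]
      exact hκ j
    rw [this, hs]
    induction (T.obs p hp u) using TensorProduct.induction_on with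
    | zero => simp
    | tmul v j => simp [TensorProduct.equivFinsuppOfBasisRight_apply_tmul_apply]
    | add x y hx hy => simp [map_add, hx, hy]
  rw [← (TensorProduct.equivFinsuppOfBasisRight b).symm_apply_apply (T.obs p hp u), ← hs,
    TensorProduct.equivFinsuppOfBasisRight_symm_apply]
  refine Submodule.finsuppSum_mem _ _ _ _ fun i _ => ⟨⟨s i, key i⟩ ⊗ₜ b i, rfl⟩

end Groth.Agent.S13978
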