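import Groth.Statements.S13981
import Groth.Agent.Misc9.SF.Formal
-- import your own Groth.Agent.* helpers here

set_option autoImplicit false
universe u v
open CategoryTheory
open ArtFun

namespace Groth.Agent.S13981

/-- Let F be a functor on Artinian local Λ-algebras with residue field k (Λ Noetherian, Λ → k finite and
surjective) satisfying (RS) — the comparison map for A₁ ×_A A₂ is bijective whenever A₂ → A is
surjective — and let ξ be a versal family of F over a complete local Noetherian Λ-algebra R with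
residue field k. Then the lifting property defining versality also holds along surjections of
complete local Noetherian algebras: if g : A' → A is such a surjection, η' is a formal element of F
over A' (a compatible system over the truncations A'/m^(n+1)) and φ : R → A is a map under which the
formal element of ξ becomes the pushforward of η' along g, then φ lifts to ψ : R → A' with g ∘ ψ = φ
and with ξ inducing η' along ψ. (The published statement takes Λ complete local Noetherian with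
residue field k; its proof does not use completeness of Λ, and this row assumes only Λ Noetherian
with Λ → k surjective.) -/
theorem result {Λ : Type u} {k : Type u} [CommRing Λ] [Field k]
    [Algebra Λ k] [IsNoetherianRing Λ] [Module.Finite Λ k] (hΛ : Function.Surjective (algebraMap Λ k))
    {F : ArtFun.Art Λ k ⥤ Type v}
    (hRS : ∀ ⦃B A A₁ A₂ : ArtFun.Art Λ k⦄ (p₁ : B ⟶ A₁) (p₂ : B ⟶ A₂) (f₁ : A₁ ⟶ A) (f₂ : A₂ ⟶ A)
        (h : ArtFun.Art.IsFibreProd p₁ p₂ f₁ f₂), Function.Surjective f₂ → Function.Bijective (ArtFun.cmp F h))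
    (R : ArtFun.CRing Λ k) (ξ : ArtFun.Family R.carrier R.res F) (hξ : ArtFun.IsVersal ξ)
    (A' A : ArtFun.CRing Λ k) (g : A'.carrier →ₐ[Λ] A.carrier) (hg : A.res.comp g = A'.res)
    (hgs : Function.Surjective g) (η' : ArtFun.FormalElt F A')
    (φ : R.carrier →ₐ[Λ] A.carrier) (hφ : A.res.comp φ = R.res)
    (hsq : (ξ.along φ hφ).toFormalElt = η'.push g hg) :
    ∃ (ψ : R.carrier →ₐ[Λ] A'.carrier) (hψ : A'.res.comp ψ = R.res),
      g.comp ψ = φ ∧ (ξ.along ψ hψ).toFormalElt = η' := by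
  have hpow : ∀ n, ∀ y ∈ A.mpow n, ∃ z ∈ A'.mpow n, g z = y := fun n y hy => by
    have h : y ∈ Ideal.map g (A'.mpow n) := by
      rw [ArtFun.CRing.mpow, Ideal.map_pow, Misc9.SF.map_maximalIdeal_eq_of_surjective g hg hgs]
      exact hy
    exact (Ideal.mem_map_iff_of_surjective g hgs).1 h
  have step : ∀ n (ψ : {ψ : ArtFun.HomSet R.carrier R.res (A'.trunc n) // ξ.app _ ψ = η'.elt n ∧
      ArtFun.HomSet.map (ArtFun.CRing.truncMapOfHom g hg n) ψ = Misc9.SF.alongHom φ hφ (A.truncHom n)}),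
      ∃ ψ' : {ψ : ArtFun.HomSet R.carrier R.res (A'.trunc (n + 1)) // ξ.app _ ψ = η'.elt (n + 1) ∧
        ArtFun.HomSet.map (ArtFun.CRing.truncMapOfHom g hg (n + 1)) ψ = Misc9.SF.alongHom φ hφ (A.truncHom (n + 1))},
        ArtFun.HomSet.map (A'.truncMap n) ψ'.1 = ψ.1 := by
    rintro n ⟨ψ, hψ, hψ'⟩
    let K : Ideal (A'.trunc (n + 1)) :=
      RingHom.ker (A'.truncMap n).toAlgHom ⊓ RingHom.ker (ArtFun.CRing.truncMapOfHom g hg (n + 1)).toAlgHom
    have hK : K ≤ IsLocalRing.maximalIdeal (A'.trunc (n + 1)) := inf_le_left.trans (Misc9.SF.res_le_ker _)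
    let p₁ := ArtFun.Art.quotFactor hK (A'.truncMap n) inf_le_left
    let p₂ := ArtFun.Art.quotFactor hK (ArtFun.CRing.truncMapOfHom g hg (n + 1)) inf_le_right
    have h : ArtFun.Art.IsFibreProd p₁ p₂ (ArtFun.CRing.truncMapOfHom g hg n) (A.truncMap n) := by
      refine ⟨Misc9.SF.hom_ext' fun x => ?_, fun x x' e e' => ?_, fun a a' e => ?_⟩
      · obtain ⟨x, rfl⟩ := Ideal.Quotient.mk_surjective x
        obtain ⟨x, rfl⟩ := Ideal.Quotient.mk_surjective x
        rfl
      · obtain ⟨x, rfl⟩ := Ideal.Quotient.mk_surjective x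
        obtain ⟨x', rfl⟩ := Ideal.Quotient.mk_surjective x'
        refine Ideal.Quotient.eq.2 ⟨?_, ?_⟩
        · change (A'.truncMap n).toAlgHom (x - x') = 0
          rw [map_sub, sub_eq_zero]
          exact e
        · change (ArtFun.CRing.truncMapOfHom g hg (n + 1)).toAlgHom (x - x') = 0
          rw [map_sub, sub_eq_zero]
          exact e'
      · obtain ⟨x, rfl⟩ := Ideal.Quotient.mk_surjective a
        obtain ⟨y, rfl⟩ := Ideal.Quotient.mk_surjective a'
        obtain ⟨z, hz, hgz⟩ := hpow n (y - g x) (Ideal.Quotient.eq.1 e.symm)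
        refine ⟨Ideal.Quotient.mk K (Ideal.Quotient.mk _ (x + z)), ?_, ?_⟩
        · change Ideal.Quotient.mk (A'.mpow n) (x + z) = Ideal.Quotient.mk (A'.mpow n) x
          rw [map_add, Ideal.Quotient.eq_zero_iff_mem.2 hz, add_zero]
        · change Ideal.Quotient.mk (A.mpow (n + 1)) (g (x + z)) = Ideal.Quotient.mk (A.mpow (n + 1)) y
          rw [map_add g, hgz, add_sub_cancel]
    obtain ⟨l, hl, hl'⟩ := Misc9.SF.homSet_lift h ψ (Misc9.SF.alongHom φ hφ (A.truncHom (n + 1)))
      (by rw [hψ', Misc9.SF.map_alongHom, ArtFun.CRing.truncMap_truncHom])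
    have hBl : F.map (ArtFun.Art.quotMk (A'.trunc (n + 1)) K hK) (η'.elt (n + 1)) = ξ.app _ l := by
      refine Misc9.SF.cmp_inj (hRS p₁ p₂ _ _ h (Misc9.SF.truncMap_surjective A n)).1 ?_ ?_
      · rw [Misc9.SF.map_map, ArtFun.Art.quotMk_quotFactor, η'.compat, ← ξ.natural, hl, hψ]
      · rw [Misc9.SF.map_map, ArtFun.Art.quotMk_quotFactor, ← ξ.natural, hl']
        exact (congrArg (fun e : ArtFun.FormalElt F A => e.elt (n + 1)) hsq).symm
    obtain ⟨ψ', hψ'l, hψ'e⟩ := hξ (ArtFun.Art.quotMk (A'.trunc (n + 1)) K hK)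
      (ArtFun.Art.quotMk_surjective _ _ _) l (η'.elt (n + 1)) hBl
    refine ⟨⟨ψ', hψ'e, ?_⟩, ?_⟩
    · exact (Misc9.SF.homSet_ext fun _ => rfl).trans ((congrArg (ArtFun.HomSet.map p₂) hψ'l).trans hl')
    · exact (Misc9.SF.homSet_ext fun _ => rfl).trans ((congrArg (ArtFun.HomSet.map p₁) hψ'l).trans hl)
  have hbij : Function.Bijective (ArtFun.CRing.truncMapOfHom g hg 0) := by
    refine ⟨fun x y e => (Misc9.SF.trunc_zero_bijective A').1 ?_, fun a => ?_⟩
    · have e' := congrArg (A.trunc 0).res e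
      rw [ArtFun.Art.res_app, ArtFun.Art.res_app] at e'
      exact e'
    · obtain ⟨a, rfl⟩ := Ideal.Quotient.mk_surjective a
      obtain ⟨b, rfl⟩ := hgs a
      exact ⟨Ideal.Quotient.mk _ b, rfl⟩
  obtain ⟨i, hi, hi'⟩ := Misc9.SF.exists_inverse _ hbij
  let start : {ψ : ArtFun.HomSet R.carrier R.res (A'.trunc 0) // ξ.app _ ψ = η'.elt 0 ∧
      ArtFun.HomSet.map (ArtFun.CRing.truncMapOfHom g hg 0) ψ = Misc9.SF.alongHom φ hφ (A.truncHom 0)} :=
    ⟨ArtFun.HomSet.map i (Misc9.SF.alongHom φ hφ (A.truncHom 0)), by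
      rw [ξ.natural, show ξ.app _ (Misc9.SF.alongHom φ hφ (A.truncHom 0)) =
        F.map (ArtFun.CRing.truncMapOfHom g hg 0) (η'.elt 0) from congrArg (fun e : ArtFun.FormalElt F A => e.elt 0) hsq,
        Misc9.SF.map_map, hi, Misc9.SF.map_id'], by
      rw [Misc9.SF.homSet_map_map, hi']
      exact Misc9.SF.homSet_ext fun _ => rfl⟩
  choose next hnext using step
  let seq : (n : ℕ) → {ψ : ArtFun.HomSet R.carrier R.res (A'.trunc n) // ξ.app _ ψ = η'.elt n ∧
      ArtFun.HomSet.map (ArtFun.CRing.truncMapOfHom g hg n) ψ = Misc9.SF.alongHom φ hφ (A.truncHom n)} :=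
    fun n => Nat.rec start (fun n ψ => next n ψ) n
  obtain ⟨ψ, hψ, hψn⟩ := Misc9.SF.exists_hom_of_system (S := A') (fun n => (seq n).1) (fun n => hnext n (seq n))
  refine ⟨ψ, hψ, Misc9.SF.hom_ext_trunc fun n => ?_, ArtFun.FormalElt.ext' fun n => ?_⟩
  · have h := (seq n).2.2
    rw [← hψn n] at h
    exact congrArg Subtype.val h
  · change ξ.app _ (Misc9.SF.alongHom ψ hψ (A'.truncHom n)) = _
    rw [hψn]
    exact (seq n).2.1

end Groth.Agent.S13981
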