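import Groth.Statements.S13985
import Mathlib.Algebra.Category.FGModuleCat.Basic

set_option autoImplicit false
universe u
open CategoryTheory
open CohGab

namespace Groth.Agent.S13985

/-- For a ring A, the canonical map from the centre of A to the centre of the category of finitely
generated left A-modules (the endomorphism ring of its identity functor), sending a to
multiplication by a, is bijective: every natural endomorphism of the identity functor acts on each
finitely generated module as multiplication by a unique element of A, and that element is central.
(The published statement calls this map an isomorphism of commutative rings; this row states its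
bijectivity.) -/
theorem result (A : Type u) [Ring A]
    (φ : 𝟭 (FGModuleCat.{u} A) ⟶ 𝟭 (FGModuleCat.{u} A)) :
    ∃! a : A, a ∈ Subring.center A ∧
      ∀ (M : FGModuleCat.{u} A) (x : M), (φ.app M).hom.hom x = a • x := by
  have key : ∀ (M : FGModuleCat.{u} A) (x : M), (φ.app M).hom.hom x = ((φ.app (FGModuleCat.of A A)).hom.hom (1 : A) : A) • x := by
    intro M x
    let g : FGModuleCat.of A A ⟶ M := FGModuleCat.ofHom (LinearMap.toSpanSingleton A M x)
    have := congrArg (fun t => t.hom.hom (1 : A)) (φ.naturality g)
    change (φ.app M).hom.hom ((LinearMap.toSpanSingleton A M x) (1 : A)) =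
      (LinearMap.toSpanSingleton A M x) ((φ.app (FGModuleCat.of A A)).hom.hom (1 : A)) at this
    rwa [LinearMap.toSpanSingleton_apply, LinearMap.toSpanSingleton_apply, one_smul] at this
  refine ⟨((φ.app (FGModuleCat.of A A)).hom.hom (1 : A) : A), ⟨?_, key⟩, ?_⟩
  · rw [Subring.mem_center_iff]
    intro b
    have h1 := key (FGModuleCat.of A A) b
    have h2 := (φ.app (FGModuleCat.of A A)).hom.hom.map_smul b (1 : A)
    simp only [smul_eq_mul, mul_one] at h1 h2
    exact h2.symm.trans h1
  · rintro a ⟨-, ha⟩
    have := ha (FGModuleCat.of A A) (1 : A)
    simpa using this.symm

end Groth.Agent.S13985
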