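import Groth.Statements.S13996
import Mathlib.RingTheory.Ideal.AssociatedPrime.Finiteness
import Mathlib.RingTheory.Ideal.MinimalPrime.Localization
import Mathlib.RingTheory.KrullDimension.Field
-- import your own Groth.Agent.* helpers here

set_option autoImplicit false
universe u
open CAlg

namespace Groth.Agent.S13996

/-- Let R be a reduced Noetherian local ring of Krull dimension one with maximal ideal m, and M a
non-zero finitely generated R-module. Then M is torsion-free in the sense that no element of m which
is a non-zero-divisor on R is a zero-divisor on M, if and only if M has depth one, i.e. some element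
of m is a non-zero-divisor on M. (The published statement is for a non-zero coherent sheaf F on a
connected reduced projective curve over a characteristic-zero algebraically closed field and asserts
the equivalence of: F torsion-free in the above sense at every closed point; F pure of dimension
one; depth of F_p equal to one at every closed point p. This row is the equivalence of the first and
third conditions at a single closed point p with F_p ≠ 0; at points outside the support the third
condition as published cannot hold, so the row assumes the stalk non-zero.) -/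
theorem result (R : Type u) [CommRing R] [IsLocalRing R] [IsNoetherianRing R] [IsReduced R] (hdim : ringKrullDim R = 1) (M : Type u) [AddCommGroup M] [Module R M] [Module.Finite R M] [Nontrivial M] : (∀ r : R, r ∈ IsLocalRing.maximalIdeal R → IsSMulRegular R r → IsSMulRegular M r) ↔ (∃ x : R, x ∈ IsLocalRing.maximalIdeal R ∧ IsSMulRegular M x) := by
  classical
  have hzd : ∀ (N : Type u) [AddCommGroup N] [Module R N] (r : R), ¬ IsSMulRegular N r →
      ∃ P ∈ associatedPrimes R N, r ∈ P := by
    intro N _ _ r hr
    rw [isSMulRegular_iff_right_eq_zero_of_smul] at hr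
    push Not at hr
    obtain ⟨y, hy, hy0⟩ := hr
    have h := (biUnion_associatedPrimes_eq_zero_divisors R N).ge ⟨y, hy0, hy⟩
    simpa using h
  constructor
  · intro h
    by_contra hne
    push Not at hne
    have hsub : (IsLocalRing.maximalIdeal R : Set R) ⊆ ⋃ P ∈ (associatedPrimes.finite R R).toFinset, (P : Set R) := by
      intro r hr
      obtain ⟨P, hP, hrP⟩ := hzd R r fun hreg => hne r hr (h r hr hreg)
      exact Set.mem_iUnion₂.mpr ⟨P, by simpa using hP, hrP⟩
    obtain ⟨P, hP, hle⟩ := (Ideal.subset_union_prime (f := id) ⊥ ⊥ (fun i hi _ _ => ((associatedPrimes.finite R R).mem_toFinset.mp hi).isPrime)).mp hsub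
    have hP' : IsAssociatedPrime P R := (associatedPrimes.finite R R).mem_toFinset.mp hP
    have hm : P = IsLocalRing.maximalIdeal R :=
      le_antisymm (IsLocalRing.le_maximalIdeal hP'.isPrime.ne_top) hle
    obtain ⟨hPp, y, hy⟩ := isAssociatedPrime_iff.mp hP'
    have hy0 : y ≠ 0 := by
      rintro rfl
      exact hPp.ne_top (by rw [hy]; simp)
    by_cases hym : y ∈ IsLocalRing.maximalIdeal R
    · rw [← hm, hy, Submodule.mem_colon_singleton, Submodule.mem_bot, smul_eq_mul] at hym
      exact hy0 (eq_zero_of_pow_eq_zero (n := 2) (by rw [pow_two]; exact hym))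
    · have hu : IsUnit y := by simpa using hym
      have hbot : IsLocalRing.maximalIdeal R = ⊥ := by
        rw [← hm, eq_bot_iff]
        intro r hr
        rw [hy, Submodule.mem_colon_singleton, Submodule.mem_bot, smul_eq_mul] at hr
        simpa using hu.mul_left_eq_zero.mp hr
      have hf : IsField R := IsLocalRing.isField_iff_maximalIdeal_eq.mpr hbot
      letI := hf.toField
      rw [ringKrullDim_eq_zero_of_field R] at hdim
      exact zero_ne_one hdim
  · rintro ⟨x, hx, hxM⟩ r hr hrR
    by_contra hrM
    obtain ⟨P, hP, hrP⟩ := hzd M r hrM
    haveI : Ring.KrullDimLE 1 R := (Ring.krullDimLE_iff (n := 1)).mpr hdim.le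
    rcases Ring.krullDimLE_one_iff.mp ‹_› P hP.isPrime with hmin | hmax
    · refine Set.disjoint_left.mp (Ideal.disjoint_nonZeroDivisors_of_mem_minimalPrimes hmin) hrP ?_
      exact mem_nonZeroDivisors_iff_right.mpr fun z hz => isSMulRegular_iff_right_eq_zero_of_smul.mp hrR z (by rw [smul_eq_mul, mul_comm]; exact hz)
    · obtain rfl := IsLocalRing.eq_maximalIdeal hmax
      obtain ⟨y, hy0, hy⟩ := (biUnion_associatedPrimes_eq_zero_divisors R M).le (Set.mem_iUnion₂_of_mem hP hx)
      exact hy0 (isSMulRegular_iff_right_eq_zero_of_smul.mp hxM y hy)

end Groth.Agent.S13996
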