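import Groth.Statements.S14000
import Mathlib.RingTheory.Spectrum.Prime.FreeLocus
import Mathlib.Algebra.Homology.ShortComplex.ModuleCat
-- import your own Groth.Agent.* helpers here

set_option autoImplicit false
universe u
open Perf

namespace Groth.Agent.S14000

open CategoryTheory CategoryTheory.Limits in
/-- Let A be a commutative ring and P a strictly perfect complex over A, that is a cochain complex of
finitely generated projective A-modules which is zero outside a finite set s of degrees. Suppose the
cohomological support of P has positive codimension: for every minimal prime q of A and every degree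
i the localization at q of the cohomology module H^i(P) is zero. Then the Euler characteristic of P
vanishes identically: at every prime of A the alternating sum over i ∈ s of the ranks of the P^i is
zero. -/
theorem result {A : Type u} [CommRing A]
    (P : CochainComplex (ModuleCat.{u} A) ℤ) (s : Finset ℤ)
    (hP : ∀ i : ℤ, Module.Finite A (P.X i) ∧ Module.Projective A (P.X i))
    (hs : ∀ i : ℤ, i ∉ s → IsZero (P.X i))
    (hsupp : ∀ q : PrimeSpectrum A, q.asIdeal ∈ minimalPrimes A →
      ∀ i : ℤ, Subsingleton (LocalizedModule q.asIdeal.primeCompl (P.homology i))) :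
    ∀ x : PrimeSpectrum A,
      (s.sum fun i => ((i.negOnePow : ℤˣ) : ℤ) * (Module.rankAtStalk (R := A) (P.X i) x : ℤ)) = 0 := by
  intro x
  obtain ⟨q, hq, hqx⟩ := Ideal.exists_minimalPrimes_le (J := x.asIdeal) (bot_le : (⊥ : Ideal A) ≤ _)
  haveI := hq.1.1
  set y : PrimeSpectrum A := ⟨q, hq.1.1⟩ with hy
  have hspec : y ⤳ x := (PrimeSpectrum.le_iff_specializes y x).mp hqx
  have hrank : ∀ i, Module.rankAtStalk (R := A) (P.X i) x = Module.rankAtStalk (R := A) (P.X i) y := by
    intro i
    haveI := (hP i).1
    haveI := (hP i).2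
    haveI := Module.finitePresentation_of_projective A (P.X i)
    have hs := hspec.map (Module.isLocallyConstant_rankAtStalk (R := A) (M := P.X i)).continuous
    exact (specializes_iff_eq.mp hs).symm
  simp only [hrank]
  set S := q.primeCompl
  set L := Localization.AtPrime q
  let Y : ℤ → Type u := fun i => LocalizedModule S (P.X i)
  let D : ∀ i, Y i →ₗ[L] Y (i + 1) := fun i => LocalizedModule.map S (P.d i (i + 1)).hom
  have hDmk : ∀ i (v : P.X i) (t : S), D i (LocalizedModule.mk v t) =
      LocalizedModule.mk ((P.d i (i + 1)).hom v) t := fun i v t => LocalizedModule.map_mk S _ v t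
  have hfree : ∀ i, Module.Free L (Y i) ∧ Module.Finite L (Y i) := by
    intro i
    haveI := (hP i).1
    haveI := (hP i).2
    haveI : Module.Finite L (Y i) :=
      Module.Finite.of_isLocalizedModule S (LocalizedModule.mkLinearMap S (P.X i))
    haveI : Module.Flat L (Y i) := Module.Flat.of_isLocalizedModule L S (LocalizedModule.mkLinearMap S (P.X i))
    exact ⟨Module.free_of_flat_of_isLocalRing, inferInstance⟩
  have hcomp : ∀ i, D (i + 1) ∘ₗ D i = 0 := by
    intro i
    refine LinearMap.ext fun z => ?_
    induction z using LocalizedModule.induction_on with | h v t => ?_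
    rw [LinearMap.comp_apply, hDmk, hDmk, LinearMap.zero_apply]
    have h0 := congrArg (fun f => f.hom v) (P.d_comp_d i (i + 1) (i + 1 + 1))
    simp only [ModuleCat.hom_comp, LinearMap.comp_apply, ModuleCat.hom_zero, LinearMap.zero_apply] at h0
    rw [h0, LocalizedModule.zero_mk]
  have hexact : ∀ i, LinearMap.ker (D (i + 1)) ≤ LinearMap.range (D i) := by
    intro i z hz
    induction z using LocalizedModule.induction_on with | h v t => ?_
    rw [LinearMap.mem_ker, hDmk, ← LocalizedModule.zero_mk (1 : S), LocalizedModule.mk_eq] at hz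
    obtain ⟨c, hc⟩ := hz
    simp only [one_smul, smul_zero] at hc
    let e : P.homology (i + 1) ≅ (P.sc' i (i + 1) (i + 1 + 1)).moduleCatLeftHomologyData.H :=
      P.homologyIsoSc' i (i + 1) (i + 1 + 1) (by simp) (by simp) ≪≫
        (P.sc' i (i + 1) (i + 1 + 1)).moduleCatLeftHomologyData.homologyIso
    let k : LinearMap.ker (P.sc' i (i + 1) (i + 1 + 1)).g.hom :=
      ⟨(c : A) • v, by
        show (P.d (i + 1) (i + 1 + 1)).hom ((c : A) • v) = 0
        rw [map_smul]
        exact hc⟩
    let hcl : P.homology (i + 1) := e.inv.hom (Submodule.Quotient.mk k)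
    obtain ⟨u, huS, hu⟩ := LocalizedModule.subsingleton_iff.mp (hsupp y hq (i + 1)) hcl
    have h2 : u • (Submodule.Quotient.mk k :
        (P.sc' i (i + 1) (i + 1 + 1)).moduleCatLeftHomologyData.H) = 0 := by
      have := congrArg e.hom.hom hu
      rw [map_smul, map_zero] at this
      have e2 : e.hom.hom (e.inv.hom (Submodule.Quotient.mk k)) = Submodule.Quotient.mk k :=
        congrArg (fun f => f.hom (Submodule.Quotient.mk k)) e.inv_hom_id
      exact ((congrArg (u • ·) e2).symm).trans this
    erw [← Submodule.Quotient.mk_smul, Submodule.Quotient.mk_eq_zero] at h2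
    obtain ⟨w, hw⟩ := h2
    have hw' : (P.d i (i + 1)).hom w = u • (c : A) • v := congrArg Subtype.val hw
    refine ⟨LocalizedModule.mk w (⟨u, huS⟩ * c * t), ?_⟩
    refine (hDmk i w _).trans ?_
    rw [hw', LocalizedModule.mk_eq]
    refine ⟨1, ?_⟩
    simp only [one_smul, Submonoid.smul_def, Submonoid.coe_mul, smul_smul]
    congr 1
    ring
  obtain ⟨a, ha⟩ : ∃ a : ℤ, ∀ i ∈ s, a + 1 ≤ i := by
    rcases s.eq_empty_or_nonempty with h | h
    · exact ⟨0, by simp [h]⟩
    · exact ⟨s.min' h - 1, fun i hi => by have := s.min'_le i hi; omega⟩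
  obtain ⟨b, hb⟩ : ∃ b : ℤ, ∀ i ∈ s, i + 1 ≤ b := by
    rcases s.eq_empty_or_nonempty with h | h
    · exact ⟨a, by simp [h]⟩
    · exact ⟨s.max' h + 1, fun i hi => by have := s.le_max' i hi; omega⟩
  have hY0 : ∀ i, i ∉ s → Subsingleton (Y i) := by
    intro i hi
    haveI : Subsingleton (P.X i) := ModuleCat.subsingleton_of_isZero (hs i hi)
    exact LocalizedModule.subsingleton_iff.mpr fun v => ⟨1, S.one_mem, Subsingleton.elim _ _⟩
  let K : ∀ i, Submodule L (Y i) := fun i => LinearMap.ker (D i)
  let g : ∀ i, Y i →ₗ[L] K (i + 1) := fun i => LinearMap.codRestrict (K (i + 1)) (D i)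
    (fun z => LinearMap.congr_fun (hcomp i) z)
  have hgs : ∀ i, Function.Surjective (g i) := fun i ⟨z, hz⟩ => by
    obtain ⟨w, hw⟩ := hexact i hz
    exact ⟨w, Subtype.ext hw⟩
  have hgk : ∀ i, LinearMap.ker (g i) = K i := fun i => LinearMap.ker_codRestrict _ _ _
  have hstep : ∀ i, (Module.Free L (K (i + 1)) ∧ Module.Finite L (K (i + 1))) →
      (Module.Free L (K i) ∧ Module.Finite L (K i)) ∧
      Module.finrank L (Y i) = Module.finrank L (K i) + Module.finrank L (K (i + 1)) := by
    rintro i ⟨h1, h2⟩
    haveI := (hfree i).1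
    haveI := (hfree i).2
    obtain ⟨σ, hσ⟩ := Module.projective_lifting_property (g i) LinearMap.id (hgs i)
    let π : Y i →ₗ[L] K i := LinearMap.codRestrict (K i) (LinearMap.id - σ ∘ₗ g i) (fun z => by
      rw [← hgk i, LinearMap.mem_ker]
      simp only [LinearMap.sub_apply, LinearMap.id_apply, LinearMap.comp_apply, map_sub]
      rw [show g i (σ (g i z)) = g i z from LinearMap.congr_fun hσ (g i z), sub_self])
    have hπk : ∀ z : K i, π z = z := fun z => by
      refine Subtype.ext ?_
      show (z : Y i) - σ (g i z) = z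
      have hz : g i z = 0 := by rw [← LinearMap.mem_ker, hgk]; exact z.2
      rw [hz, map_zero, sub_zero]
    haveI : Module.Finite L (K i) := Module.Finite.of_surjective π fun z => ⟨z, hπk z⟩
    haveI : Module.Projective L (K i) := Module.Projective.of_split (K i).subtype π (LinearMap.ext hπk)
    haveI : Module.Free L (K i) := Module.free_of_flat_of_isLocalRing
    let e : Y i ≃ₗ[L] K i × K (i + 1) :=
      { toLinearMap := π.prod (g i)
        invFun := fun p => (p.1 : Y i) + σ p.2
        left_inv := fun z => by
          show z - σ (g i z) + σ (g i z) = z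
          abel
        right_inv := fun p => by
          have e1 : g i (p.1 : Y i) = 0 := by rw [← LinearMap.mem_ker, hgk]; exact p.1.2
          have e2 : g i (σ p.2) = p.2 := LinearMap.congr_fun hσ p.2
          refine Prod.ext (Subtype.ext ?_) ?_
          · show (p.1 : Y i) + σ p.2 - σ (g i ((p.1 : Y i) + σ p.2)) = p.1
            rw [map_add, e1, e2, zero_add, add_sub_cancel_right]
          · show g i ((p.1 : Y i) + σ p.2) = p.2
            rw [map_add, e1, e2, zero_add] }
    exact ⟨⟨inferInstance, inferInstance⟩, by rw [e.finrank_eq, Module.finrank_prod]⟩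
  have hbase : ∀ i, b ≤ i → Module.Free L (K i) ∧ Module.Finite L (K i) := fun i hi => by
    haveI := hY0 i fun h => absurd (hb i h) (by omega)
    exact ⟨Module.Free.of_subsingleton L (K i), inferInstance⟩
  have hall : ∀ (j : ℕ) (i : ℤ), b ≤ i + j → Module.Free L (K i) ∧ Module.Finite L (K i) := by
    intro j
    induction j with
    | zero => exact fun i hi => hbase i (by simpa using hi)
    | succ j ih => exact fun i hi => (hstep i (ih (i + 1) (by push_cast at hi ⊢; omega))).1
  have hrec : ∀ i, Module.finrank L (Y i) = Module.finrank L (K i) + Module.finrank L (K (i + 1)) :=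
    fun i => (hstep i (hall (b - (i + 1)).toNat (i + 1) (by omega))).2
  have hsign : ∀ i : ℤ, ((((i + 1).negOnePow : ℤˣ)) : ℤ) = -((i.negOnePow : ℤˣ) : ℤ) := fun i => by
    rw [Int.negOnePow_succ, Units.val_neg]
  let F : ℕ → ℤ := fun j => (((a + j).negOnePow : ℤˣ) : ℤ) * (Module.finrank L (K (a + j)) : ℤ)
  have htel : ∀ N : ℕ, ∑ j ∈ Finset.range N,
      (((a + j).negOnePow : ℤˣ) : ℤ) * (Module.finrank L (Y (a + j)) : ℤ) = F 0 - F N := by
    intro N
    induction N with
    | zero => simp
    | succ N ih =>
      rw [Finset.sum_range_succ, ih, hrec (a + N)]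
      simp only [F]
      rw [Nat.cast_succ, ← add_assoc, hsign]
      push_cast
      ring
  have hKzero : ∀ i, i ∉ s → Module.finrank L (K i) = 0 := fun i hi => by
    haveI := hY0 i hi
    exact Module.finrank_zero_of_subsingleton
  obtain ⟨N, hN⟩ : ∃ N : ℕ, b ≤ a + N := ⟨(b - a).toNat, by omega⟩
  have hsum := htel N
  simp only [F, hKzero (a + (N : ℕ)) (fun h => absurd (hb _ h) (by omega)),
    hKzero (a + ((0 : ℕ) : ℤ)) (fun h => absurd (ha _ h) (by simp)), Nat.cast_zero, mul_zero, sub_zero] at hsum
  rw [← hsum]
  symm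
  refine (Finset.sum_bij_ne_zero (fun j _ _ => a + (j : ℤ)) ?_ ?_ ?_ ?_)
  · intro j _ hj
    by_contra hjs
    haveI := hY0 _ hjs
    exact hj (by rw [Module.finrank_zero_of_subsingleton]; simp)
  · intro j1 _ _ j2 _ _ h
    omega
  · intro i hi hne
    have h1 := ha i hi
    have h2 := hb i hi
    refine ⟨(i - a).toNat, Finset.mem_range.mpr (by omega), ?_, by omega⟩
    rw [show a + ((i - a).toNat : ℤ) = i by omega]
    exact hne
  · intro j _ _
    rfl

end Groth.Agent.S14000
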