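import Groth.Statements.S14005
import Mathlib.Topology.Sheaves.Stalks
import Mathlib.Topology.NoetherianSpace
import Mathlib.Topology.Sober
import Mathlib.AlgebraicGeometry.Properties

set_option autoImplicit false
universe u
open CategoryTheory AlgebraicGeometry
open CohTop

namespace Groth.Agent.S14005

/-- Take a scheme X with a locally Noetherian underlying topological space, F a sheaf of abelian groups
on X, x a point of X and s an element of the stalk F_x. Then the following are equivalent: (i) s is
the germ of a section t over some open neighbourhood U of x whose support in U is contained in the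
closure of {x} (that is, s belongs to the subgroup Γ_x(F) of F_x); (ii) for every generization y ≠ x
of x the image of s under the cospecialisation map F_x → F_y is zero (that is, viewed as a global
section of the inverse image of F on Spec O_{X,x}, s is supported at the closed point). -/
theorem result {X : Scheme.{u}}
    (hX : ∀ x : X, ∃ U : X.Opens, x ∈ U ∧ TopologicalSpace.NoetherianSpace U)
    (F : TopCat.Sheaf AddCommGrpCat.{u} X.carrier) (x : X) (s : F.presheaf.stalk x) :
    (∃ (U : X.Opens) (hx : x ∈ U) (t : F.presheaf.obj (Opposite.op U)),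
        F.presheaf.germ U x hx t = s ∧
          ∀ (u : X) (hu : u ∈ U), F.presheaf.germ U u hu t ≠ 0 → u ∈ closure ({x} : Set X)) ↔
      ∀ (y : X) (h : y ⤳ x), y ≠ x → F.presheaf.stalkSpecializes h s = 0 := by
  classical
  constructor
  · rintro ⟨U, hx, t, rfl, hsupp⟩ y h hne
    rw [← ConcreteCategory.comp_apply, TopCat.Presheaf.germ_stalkSpecializes]
    by_contra hy
    exact hne (((specializes_iff_mem_closure.2 (hsupp y (h.mem_open U.2 hx) hy)).antisymm h).eq).symm
  · intro hgen
    obtain ⟨V, hxV, hV⟩ := hX x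
    obtain ⟨W, hxW, t₀, rfl⟩ := TopCat.Presheaf.exists_germ_eq F.presheaf s
    let U : X.Opens := W ⊓ V
    let t := F.presheaf.map (homOfLE (inf_le_left : U ≤ W)).op t₀
    have ht : F.presheaf.germ U x ⟨hxW, hxV⟩ t = F.presheaf.germ W x hxW t₀ :=
      TopCat.Presheaf.germ_res_apply F.presheaf (homOfLE (inf_le_left : U ≤ W)) x ⟨hxW, hxV⟩ t₀
    haveI : TopologicalSpace.NoetherianSpace ((V : Set X) : Type u) := hV
    haveI : TopologicalSpace.NoetherianSpace U :=
      (Topology.IsInducing.of_comp (f := Set.inclusion (show (U : Set X) ⊆ V from inf_le_right))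
        (g := Subtype.val) (continuous_inclusion _) continuous_subtype_val
        Topology.IsInducing.subtypeVal).noetherianSpace
    haveI : QuasiSober (U : Set X) := U.2.isOpenEmbedding_subtypeVal.quasiSober
    let Z : Set U := {u | F.presheaf.germ U u.1 u.2 t ≠ 0}
    have hZ : IsClosed Z := by
      rw [← isOpen_compl_iff, isOpen_iff_forall_mem_open]
      intro u hu
      have hu' : F.presheaf.germ U u.1 u.2 t = F.presheaf.germ U u.1 u.2 0 :=
        (not_not.1 hu).trans (map_zero _).symm
      obtain ⟨O, huO, iO, iO', heq⟩ := F.presheaf.germ_eq u.1 u.2 u.2 _ _ hu'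
      refine ⟨Subtype.val ⁻¹' (O : Set X), fun v hv hne => hne ?_, O.2.preimage continuous_subtype_val, huO⟩
      rw [← TopCat.Presheaf.germ_res_apply F.presheaf iO v.1 hv t, heq, map_zero, map_zero]
    obtain ⟨S, hSf, hSc, hSi, hZS⟩ :=
      TopologicalSpace.NoetherianSpace.exists_finite_set_isClosed_irreducible hZ
    let xU : U := ⟨x, hxW, hxV⟩
    let Bad : Set U := ⋃ T ∈ {T ∈ S | xU ∉ T}, T
    have hBad : IsClosed Bad := (hSf.subset (Set.sep_subset _ _)).isClosed_biUnion fun T hT => hSc T hT.1
    let U' : X.Opens := ⟨Subtype.val '' Badᶜ,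
      U.2.isOpenMap_subtype_val _ hBad.isOpen_compl⟩
    have hle : U' ≤ U := fun _ ⟨v, _, e⟩ => e ▸ v.2
    have hxU' : x ∈ U' := ⟨xU, fun h => by
      obtain ⟨T, hT, hxT⟩ := Set.mem_iUnion₂.1 h
      exact hT.2 hxT, rfl⟩
    refine ⟨U', hxU', F.presheaf.map (homOfLE hle).op t,
      (TopCat.Presheaf.germ_res_apply F.presheaf (homOfLE hle) x hxU' t).trans ht, ?_⟩
    rintro _ ⟨v, hv, rfl⟩ hne
    have hvZ : v ∈ Z := fun h => hne
      ((TopCat.Presheaf.germ_res_apply F.presheaf (homOfLE hle) v.1 _ t).trans h)
    obtain ⟨T, hT, hvT⟩ : v ∈ ⋃₀ S := hZS ▸ hvZ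
    have hxT : xU ∈ T := by
      by_contra h
      exact hv (Set.mem_iUnion₂.2 ⟨T, ⟨hT, h⟩, hvT⟩)
    have hg := (hSi T hT).isGenericPoint_genericPoint (hSc T hT)
    set η := (hSi T hT).genericPoint
    have hsp : η.1 ⤳ x := (hg.specializes hxT).map continuous_subtype_val
    have hη : η.1 = x := by
      by_contra hne'
      have h0 := hgen η.1 hsp hne'
      have hmem : η ∈ Z := hZS ▸ Set.mem_sUnion.2 ⟨T, hT, hg.mem⟩
      refine hmem ?_
      exact ((ConcreteCategory.congr_hom
        (TopCat.Presheaf.germ_stalkSpecializes F.presheaf (U := U) ⟨hxW, hxV⟩ hsp) t).symm.trans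
        ((ConcreteCategory.comp_apply _ _ _).trans (congrArg (F.presheaf.stalkSpecializes hsp) ht))).trans h0
    exact specializes_iff_mem_closure.1 (hη ▸ (hg.specializes hvT).map continuous_subtype_val)

end Groth.Agent.S14005
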