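import Groth.Statements.S14020
import Mathlib
-- import your own Groth.Agent.* helpers here

set_option autoImplicit false
universe u
open CAlg

namespace Groth.Agent.S14020

/-- Let R be a commutative ring and I a finitely generated ideal such that the quotient ring R/I is
artinian. Then R/I^n is artinian for every n. -/
theorem result
    (R : Type u) [CommRing R] (I : Ideal R) (hI : I.FG) [IsArtinianRing (R ⧸ I)] (n : ℕ) :
    IsArtinianRing (R ⧸ I ^ n) := by
  have hnil : ∀ P : Ideal R, P.IsPrime → I ^ n ≤ P → n ≠ 0 → I ≤ P := fun P hP h hn => (hP.pow_le_iff hn).mp h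
  rcases eq_or_ne n 0 with rfl | hn
  · haveI : Subsingleton (R ⧸ I ^ 0) := Ideal.Quotient.subsingleton_iff.mpr (by rw [pow_zero, Ideal.one_eq_top])
    infer_instance
  have hcase : ∀ Q : Ideal (R ⧸ I ^ n), Q.IsPrime → (Q.comap (Ideal.Quotient.mk (I ^ n))).IsMaximal ∧
      (Q.comap (Ideal.Quotient.mk (I ^ n))).FG := by
    intro Q hQ
    haveI := hQ.comap (Ideal.Quotient.mk (I ^ n))
    have hIP : I ≤ Q.comap (Ideal.Quotient.mk (I ^ n)) := hnil _ inferInstance
      (fun x hx => by rw [Ideal.mem_comap, Ideal.Quotient.eq_zero_iff_mem.mpr hx]; exact zero_mem _) hn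
    set P := Q.comap (Ideal.Quotient.mk (I ^ n)) with hP
    have hPm : (P.map (Ideal.Quotient.mk I)).IsPrime :=
      Ideal.map_isPrime_of_surjective Ideal.Quotient.mk_surjective (by rw [Ideal.mk_ker]; exact hIP)
    have hc : (P.map (Ideal.Quotient.mk I)).comap (Ideal.Quotient.mk I) = P := by
      rw [Ideal.comap_map_of_surjective _ Ideal.Quotient.mk_surjective, ← RingHom.ker_eq_comap_bot, Ideal.mk_ker,
        sup_eq_left.mpr hIP]
    haveI := IsArtinianRing.isMaximal_of_isPrime (P.map (Ideal.Quotient.mk I))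
    refine ⟨hc ▸ Ideal.comap_isMaximal_of_surjective _ Ideal.Quotient.mk_surjective, ?_⟩
    obtain ⟨t, ht⟩ : (P.map (Ideal.Quotient.mk I)).FG := IsNoetherian.noetherian _
    classical
    choose g hg using fun x : R ⧸ I => Ideal.Quotient.mk_surjective (I := I) x
    have hspan : P = Ideal.span (g '' (t : Set (R ⧸ I))) ⊔ I := by
      have h1 := congrArg (Ideal.comap (Ideal.Quotient.mk I)) (show (Ideal.span (g '' (t : Set (R ⧸ I)))).map (Ideal.Quotient.mk I) = P.map (Ideal.Quotient.mk I) by
        rw [Ideal.map_span, ← Set.image_comp, show Ideal.Quotient.mk I ∘ g = id from funext hg, Set.image_id]; exact ht)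
      rw [hc, Ideal.comap_map_of_surjective _ Ideal.Quotient.mk_surjective, ← RingHom.ker_eq_comap_bot, Ideal.mk_ker] at h1
      exact h1.symm
    rw [hspan]
    exact Submodule.FG.sup ⟨t.image g, by rw [Finset.coe_image]⟩ hI
  rw [isArtinianRing_iff_isNoetherianRing_krullDimLE_zero]
  refine ⟨IsNoetherianRing.of_prime fun Q hQ => ?_, Ring.krullDimLE_zero_iff.mpr fun Q hQ => ?_⟩
  · rw [← Ideal.map_comap_of_surjective _ (Ideal.Quotient.mk_surjective (I := I ^ n)) Q]
    exact (hcase Q hQ).2.map _
  · rw [← Ideal.map_comap_of_surjective _ (Ideal.Quotient.mk_surjective (I := I ^ n)) Q]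
    exact ((hcase Q hQ).1).map_of_surjective_of_ker_le Ideal.Quotient.mk_surjective (by
      rw [Ideal.mk_ker]; exact fun x hx => by rw [Ideal.mem_comap, Ideal.Quotient.eq_zero_iff_mem.mpr hx]; exact zero_mem _)

end Groth.Agent.S14020
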