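import Groth.Statements.S14023
import Groth.Agent.ARSysLib.Basic
import Mathlib.CategoryTheory.Adjunction.Evaluation
import Mathlib.CategoryTheory.Preadditive.Injective.Basic
import Mathlib.CategoryTheory.Limits.Shapes.FiniteProducts
-- import your own Groth.Agent.* helpers here

set_option autoImplicit false
open CategoryTheory CategoryTheory.Limits Opposite
universe v u
open ARSys

namespace Groth.Agent.S14023

/-- For an abelian category A, the category of inverse systems (A_n)_n indexed by ℕ, i.e. of functors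
ℕᵒᵖ ⥤ A, has enough injectives if and only if A has enough injectives. (The second assertion of the
published proposition, describing the injective systems, is not part of this row.) -/
theorem result
    (A : Type u) [Category.{v} A] [Abelian A] :
    EnoughInjectives (ℕᵒᵖ ⥤ A) ↔ EnoughInjectives A := by
  constructor
  · intro hE
    refine ⟨fun M => ?_⟩
    let P : InjectivePresentation ((Functor.const ℕᵒᵖ).obj M : ℕᵒᵖ ⥤ A) :=
      (EnoughInjectives.presentation ((Functor.const ℕᵒᵖ).obj M)).some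
    haveI hsub : ∀ a b : ℕᵒᵖ, Finite (a ⟶ b) := fun a b => by
      haveI : Subsingleton (a ⟶ b) := ⟨fun f g => Quiver.Hom.unop_inj (Subsingleton.elim _ _)⟩
      infer_instance
    haveI : ∀ a b : ℕᵒᵖ, HasCoproductsOfShape (a ⟶ b) A := fun a b => inferInstance
    haveI : (evaluationLeftAdjoint A (op 0 : ℕᵒᵖ)).PreservesMonomorphisms := ⟨fun {X Y} f hf => by
      haveI : ∀ n : ℕᵒᵖ, Mono (((evaluationLeftAdjoint A (op 0 : ℕᵒᵖ)).map f).app n) := fun n => by
        haveI : Subsingleton ((op 0 : ℕᵒᵖ) ⟶ n) := ⟨fun f g => Quiver.Hom.unop_inj (Subsingleton.elim _ _)⟩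
        let q : ∀ Z : A, (∐ fun _ : (op 0 : ℕᵒᵖ) ⟶ n => Z) ⟶ Z := fun Z => Sigma.desc fun _ => 𝟙 Z
        haveI : Mono (q X) := by
          rcases isEmpty_or_nonempty ((op 0 : ℕᵒᵖ) ⟶ n) with h | ⟨⟨i⟩⟩
          · refine Preadditive.mono_of_cancel_zero _ fun {T} g _ => ?_
            have hz : 𝟙 (∐ fun _ : (op 0 : ℕᵒᵖ) ⟶ n => X) = 0 := Limits.Sigma.hom_ext _ _ fun b => h.elim b
            rw [← Category.comp_id g, hz, comp_zero]
          · haveI : IsSplitMono (q X) := IsSplitMono.mk' ⟨Sigma.ι (fun _ : (op 0 : ℕᵒᵖ) ⟶ n => X) i,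
              Limits.Sigma.hom_ext _ _ fun b => by simp [q, Subsingleton.elim b i]⟩
            infer_instance
        have e : ((evaluationLeftAdjoint A (op 0 : ℕᵒᵖ)).map f).app n ≫ q Y = q X ≫ f :=
          Limits.Sigma.hom_ext _ _ fun b => by simp [q, evaluationLeftAdjoint]
        haveI := hf
        refine Preadditive.mono_of_cancel_zero _ fun {T} g hg => ?_
        refine (cancel_mono (q X)).1 ((cancel_mono f).1 ?_)
        erw [Category.assoc, ← e, ← Category.assoc, hg, zero_comp, zero_comp, zero_comp]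
      exact NatTrans.mono_of_mono_app _⟩
    haveI := P.mono
    haveI : Mono (P.f.app (op 0)) := ARSysLib.mono_app P.f 0
    exact ⟨⟨P.J.obj (op 0), (evaluationAdjunctionRight A (op 0 : ℕᵒᵖ)).map_injective _ P.injective,
      P.f.app (op 0), inferInstance⟩⟩
  · intro hE
    refine ⟨fun X => ?_⟩
    let J : ℕ → A := fun n => Injective.under (X.obj (op n))
    let I : ℕᵒᵖ ⥤ A :=
      { obj := fun n => ∏ᶜ fun k : {k : ℕ // k ≤ n.unop} => J k.1
        map := fun {a b} φ => Pi.lift fun k : {k : ℕ // k ≤ b.unop} =>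
          Pi.π (fun k : {k : ℕ // k ≤ a.unop} => J k.1) ⟨k.1, k.2.trans (leOfHom φ.unop)⟩
        map_id := fun a => by ext k; simp only [Pi.lift_π, Category.id_comp]
        map_comp := fun φ ψ => by ext k; simp only [Pi.lift_π, Category.assoc, limit.lift_π, Fan.mk_π_app] }
    haveI : ∀ n : ℕ, Finite {k : ℕ // k ≤ n} := fun n => (Set.finite_le_nat n).to_subtype
    let π : ∀ {n k : ℕ} (_ : k ≤ n), I.obj (op n) ⟶ J k := fun {n k} h =>
      Pi.π (fun k : {k : ℕ // k ≤ n} => J k.1) ⟨k, h⟩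
    have hπ : ∀ {n m k : ℕ} (hnm : n ≤ m) (h : k ≤ n), ARSys.tr I hnm ≫ π h = π (h.trans hnm) :=
      fun hnm h => Pi.lift_π _ _
    let lft : ∀ {B : ℕᵒᵖ ⥤ A} (_ : ∀ k, B.obj (op k) ⟶ J k), B ⟶ I := fun {B} g =>
      ARSysLib.mkHom (Y := I) (fun n => Pi.lift fun k : {k : ℕ // k ≤ n} => ARSys.tr B k.2 ≫ g k.1) fun a b hab => by
        refine Pi.hom_ext _ _ fun k => ?_
        show (_ ≫ Pi.lift _) ≫ _ = (_ ≫ ARSys.tr I hab) ≫ π k.2
        rw [Category.assoc, Category.assoc, Pi.lift_π, hπ]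
        show _ = Pi.lift _ ≫ Pi.π (fun k : {k : ℕ // k ≤ b} => J k.1) ⟨k.1, k.2.trans hab⟩
        rw [Pi.lift_π, ARSysLib.tr_comp_assoc]
    have hlft : ∀ {B : ℕᵒᵖ ⥤ A} (g : ∀ k, B.obj (op k) ⟶ J k) {n k : ℕ} (h : k ≤ n),
        (lft g).app (op n) ≫ π h = ARSys.tr B h ≫ g k := by
      intro B g n k h
      exact Pi.lift_π _ _
    haveI hI : Injective I := ⟨fun {B B'} g f hf => by
      haveI := hf
      haveI : ∀ k : ℕ, Mono (f.app (op k)) := fun k => ARSysLib.mono_app f k
      refine ⟨lft fun k => Injective.factorThru (g.app (op k) ≫ π le_rfl) (f.app (op k)), ?_⟩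
      refine ARSysLib.natTrans_ext fun n => Pi.hom_ext _ _ fun k => ?_
      let g' : ∀ k, B'.obj (op k) ⟶ J k := fun k => Injective.factorThru (g.app (op k) ≫ π le_rfl) (f.app (op k))
      change (f.app (op n) ≫ (lft g').app (op n)) ≫ π k.2 = g.app (op n) ≫ π k.2
      rw [Category.assoc, hlft, ← Category.assoc, ← ARSysLib.tr_nat, Category.assoc, Injective.comp_factorThru,
        ← Category.assoc, ARSysLib.tr_nat, Category.assoc, hπ]⟩
    let i := lft (B := X) fun k => Injective.ι (X.obj (op k))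
    haveI : ∀ n, Mono (i.app n) := fun n => by
      obtain ⟨n⟩ := n
      have e : i.app (op n) ≫ π (le_refl n) = Injective.ι (X.obj (op n)) := by
        exact (hlft (fun k => Injective.ι (X.obj (op k))) (le_refl n)).trans (by rw [ARSysLib.tr_refl, Category.id_comp])
      exact mono_of_mono_fac e
    haveI : Mono i := NatTrans.mono_of_mono_app _
    exact ⟨⟨I, hI, i, inferInstance⟩⟩

end Groth.Agent.S14023
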