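import Groth.Statements.S14027
import Mathlib
-- import your own Groth.Agent.* helpers here

set_option autoImplicit false
open CategoryTheory CategoryTheory.Limits Opposite
universe v u
open CohSite

namespace Groth.Agent.S14027

/-- Let C be a site with topology J and U an object of C such that every object has at most one morphism
to U (a subobject of the terminal object). For abelian sheaves, let j^* be restriction to the
localized site C/U and j_! its left adjoint (extension by zero), which exists under the stated
sheafification and Kan-extension hypotheses. Then for every sheaf F on C/U the unit morphism F ⟶ j^*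
j_! F is an isomorphism. -/
theorem result
    {C : Type u} [Category.{v} C] (J : GrothendieckTopology C) (U : C)
    (hU : ∀ V : C, Subsingleton (V ⟶ U))
    [HasWeakSheafify J AddCommGrpCat.{max u v}]
    [∀ (P : (Over U)ᵒᵖ ⥤ AddCommGrpCat.{max u v}), (Over.forget U).op.HasLeftKanExtension P]
    (F : Sheaf (J.over U) AddCommGrpCat.{max u v}) :
    IsIso (((Over.forget U).sheafAdjunctionContinuous AddCommGrpCat.{max u v} (J.over U) J).unit.app F) := by
  haveI : (Over.forget U).Full := ⟨fun {X Y} g =>
    ⟨Over.homMk g ((hU X.left).elim _ _), rfl⟩⟩
  haveI : (Over.forget U).Faithful := inferInstance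
  haveI : ∀ (P : (Over U)ᵒᵖ ⥤ AddCommGrpCat.{max u v}), (Over.forget U).op.HasPointwiseRightKanExtension P :=
    fun _ _ => inferInstanceAs (Limits.HasLimit _)
  let H := (Over.forget U).sheafPushforwardCocontinuous AddCommGrpCat.{max u v} (J.over U) J
  let t : Adjunction.Triple ((Over.forget U).sheafPullback AddCommGrpCat.{max u v} (J.over U) J)
      ((Over.forget U).sheafPushforwardContinuous AddCommGrpCat.{max u v} (J.over U) J) H :=
    ⟨(Over.forget U).sheafAdjunctionContinuous _ _ _, (Over.forget U).sheafAdjunctionCocontinuous _ _ _⟩
  haveI : IsIso ((Over.forget U).op.ranAdjunction AddCommGrpCat.{max u v}).counit := inferInstance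
  let ff : ((Over.forget U).op.ran : ((Over U)ᵒᵖ ⥤ AddCommGrpCat.{max u v}) ⥤ _).FullyFaithful :=
    ((Over.forget U).op.ranAdjunction AddCommGrpCat.{max u v}).fullyFaithfulROfIsIsoCounit
  let hH : H.FullyFaithful := Functor.FullyFaithful.ofCompFaithful (G := sheafToPresheaf J AddCommGrpCat.{max u v})
    (((fullyFaithfulSheafToPresheaf (J.over U) AddCommGrpCat.{max u v}).comp ff).ofIso
      ((Over.forget U).sheafPushforwardCocontinuousCompSheafToPresheafIso AddCommGrpCat.{max u v} (J.over U) J).symm)
  haveI := (t.fullyFaithfulEquiv.symm hH).full
  haveI := (t.fullyFaithfulEquiv.symm hH).faithful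
  infer_instance

end Groth.Agent.S14027
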