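import Groth.Statements.S14029
import Mathlib
-- import your own Groth.Agent.* helpers here

set_option autoImplicit false
open CategoryTheory CategoryTheory.Limits Opposite
universe v u
open CohSite

namespace Groth.Agent.S14029

/-- Let (C, J) be a site and U an object such that every object has at most one morphism to U; assume
extension by the empty set j_! from sheaves of sets on the localized site C/U to sheaves of sets on
C exists (through sheafification on C and left Kan extensions along C/U → C). If V is weakly
contractible in C — every epimorphism of sheaves of sets on C is surjective on sections over V —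
then for any morphism a : V ⟶ U the object V → U of C/U is weakly contractible in C/U: every
epimorphism of sheaves of sets on C/U is surjective on sections over it. Hence C/U has enough weakly
contractible objects when C does. -/
theorem result
    {C : Type u} [Category.{v} C] (J : GrothendieckTopology C) (U : C)
    (hU : ∀ W : C, Subsingleton (W ⟶ U))
    [HasWeakSheafify J (Type (max u v))]
    [∀ (P : (Over U)ᵒᵖ ⥤ Type (max u v)), (Over.forget U).op.HasLeftKanExtension P]
    (V : C) (hV : (∀ (A B : Sheaf J (Type (max u v))) (ψ : A ⟶ B), Epi ψ → Function.Surjective (ψ.hom.app (op V)))) (a : V ⟶ U) :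
    ∀ (A B : Sheaf (J.over U) (Type (max u v))) (ψ : A ⟶ B), Epi ψ →
      Function.Surjective (ψ.hom.app (op (Over.mk a))) := by
  haveI : (Over.forget U).Full := ⟨fun {X Y} g =>
    ⟨Over.homMk g ((hU X.left).elim _ _), rfl⟩⟩
  haveI : (Over.forget U).Faithful := inferInstance
  haveI : ∀ (P : (Over U)ᵒᵖ ⥤ (Type (max u v))), (Over.forget U).op.HasPointwiseRightKanExtension P :=
    fun _ _ => inferInstanceAs (Limits.HasLimit _)
  let H := (Over.forget U).sheafPushforwardCocontinuous (Type (max u v)) (J.over U) J
  let t : Adjunction.Triple ((Over.forget U).sheafPullback (Type (max u v)) (J.over U) J)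
      ((Over.forget U).sheafPushforwardContinuous (Type (max u v)) (J.over U) J) H :=
    ⟨(Over.forget U).sheafAdjunctionContinuous _ _ _, (Over.forget U).sheafAdjunctionCocontinuous _ _ _⟩
  haveI : IsIso ((Over.forget U).op.ranAdjunction (Type (max u v))).counit := inferInstance
  let ff : ((Over.forget U).op.ran : ((Over U)ᵒᵖ ⥤ (Type (max u v))) ⥤ _).FullyFaithful :=
    ((Over.forget U).op.ranAdjunction (Type (max u v))).fullyFaithfulROfIsIsoCounit
  let hH : H.FullyFaithful := Functor.FullyFaithful.ofCompFaithful (G := sheafToPresheaf J (Type (max u v)))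
    (((fullyFaithfulSheafToPresheaf (J.over U) (Type (max u v))).comp ff).ofIso
      ((Over.forget U).sheafPushforwardCocontinuousCompSheafToPresheafIso (Type (max u v)) (J.over U) J).symm)
  haveI := (t.fullyFaithfulEquiv.symm hH).full
  haveI := (t.fullyFaithfulEquiv.symm hH).faithful
  intro A B ψ hψ b
  let L := (Over.forget U).sheafPullback (Type (max u v)) (J.over U) J
  let adj := (Over.forget U).sheafAdjunctionContinuous (Type (max u v)) (J.over U) J
  haveI := adj.leftAdjoint_preservesColimits
  haveI : Epi (L.map ψ) := inferInstance
  haveI : IsIso adj.unit := inferInstance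
  obtain ⟨z, hz⟩ := hV _ _ (L.map ψ) inferInstance ((adj.unit.app B).hom.app (Opposite.op (Over.mk a)) b)
  haveI : ∀ X, IsIso ((adj.unit.app X).hom.app (Opposite.op (Over.mk a))) := fun X =>
    inferInstanceAs (IsIso ((sheafToPresheaf (J.over U) (Type (max u v)) ⋙ (evaluation _ _).obj (Opposite.op (Over.mk a))).map (adj.unit.app X)))
  obtain ⟨x, rfl⟩ := ((isIso_iff_bijective _).1 (this A)).2 z
  refine ⟨x, ((isIso_iff_bijective _).1 (this B)).1 ?_⟩
  refine Eq.trans ?_ hz
  exact (ConcreteCategory.congr_hom (NatTrans.congr_app (congrArg (fun t => t.hom) (adj.unit.naturality ψ)) (Opposite.op (Over.mk a))) x)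

end Groth.Agent.S14029
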