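import Groth.Statements.S14032
import Mathlib

set_option autoImplicit false
universe u v
open W4c1frobunstiva

namespace Groth.Agent.S14032

open TensorProduct in
theorem result (R : Type u) [CommRing R]
    [IsNoetherianRing R] (M : Type v) [AddCommGroup M] [Module R M] (r : ℕ) :
    W4c1frobunstiva.IsNRFree R M r ↔
      Nonempty (Module.Basis (Fin r) (R ⧸ nilradical R) ((R ⧸ nilradical R) ⊗[R] M)) := by
  set n := nilradical R with hn
  have hker : ∀ x : M, (1 : R ⧸ n) ⊗ₜ[R] x = 0 → x ∈ n • (⊤ : Submodule R M) := by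
    intro x hx
    have := congrArg (TensorProduct.quotTensorEquivQuotSMul M n) hx
    rw [TensorProduct.quotTensorEquivQuotSMul_mk_one_tmul, map_zero] at this
    exact (Submodule.Quotient.mk_eq_zero _).mp this
  have hsurj : ∀ y : (R ⧸ n) ⊗[R] M, ∃ x : M, (1 : R ⧸ n) ⊗ₜ[R] x = y := by
    intro y
    induction y using TensorProduct.induction_on with
    | zero => exact ⟨0, by simp⟩
    | tmul a x =>
      obtain ⟨a, rfl⟩ := Ideal.Quotient.mk_surjective a
      refine ⟨a • x, ?_⟩
      rw [TensorProduct.tmul_smul, TensorProduct.smul_tmul']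
      congr 1
      rw [Algebra.smul_def, mul_one]
      rfl
    | add a b ha hb =>
      obtain ⟨x, hx⟩ := ha
      obtain ⟨y, hy⟩ := hb
      exact ⟨x + y, by rw [TensorProduct.tmul_add, hx, hy]⟩
  have hsc : ∀ (a : R) (x : M), (1 : R ⧸ n) ⊗ₜ[R] (a • x) = Ideal.Quotient.mk n a • ((1 : R ⧸ n) ⊗ₜ[R] x) := by
    intro a x
    rw [TensorProduct.tmul_smul]
    rfl
  constructor
  · rintro ⟨m, hspan, hrel⟩
    refine ⟨Module.Basis.mk (v := fun i => (1 : R ⧸ n) ⊗ₜ[R] m i) ?_ ?_⟩
    · rw [Fintype.linearIndependent_iff]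
      intro g hg i
      choose a ha using fun i => Ideal.Quotient.mk_surjective (g i)
      have h0 : (1 : R ⧸ n) ⊗ₜ[R] (∑ i, a i • m i) = 0 := by
        rw [TensorProduct.tmul_sum, ← hg]
        exact Finset.sum_congr rfl fun j _ => by rw [hsc, ha]
      have h1 := hker _ h0
      rw [← hspan] at h1
      obtain ⟨e, he, hsum⟩ : ∃ e : Fin r → R, (∀ i, e i ∈ n) ∧ ∑ i, e i • m i = ∑ i, a i • m i := by
        obtain ⟨c, hc, hcs⟩ := (Submodule.mem_ideal_smul_span_iff_exists_sum n m _).mp h1
        exact ⟨c, hc, by rw [Finsupp.sum_fintype] at hcs; exact hcs; simp⟩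
      have h2 : ∑ i, (a i - e i) • m i = 0 := by
        simp_rw [sub_smul]; rw [Finset.sum_sub_distrib, hsum, sub_self]
      rw [← ha i, Ideal.Quotient.eq_zero_iff_mem]
      have := n.add_mem (hrel _ h2 i : a i - e i ∈ n) (he i)
      simpa using this
    · rintro y -
      obtain ⟨x, rfl⟩ := hsurj y
      have hx : x ∈ Submodule.span R (Set.range m) := hspan ▸ Submodule.mem_top
      obtain ⟨c, rfl⟩ := (Submodule.mem_span_range_iff_exists_fun R).mp hx
      rw [TensorProduct.tmul_sum]
      refine Submodule.sum_mem _ fun i _ => ?_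
      rw [hsc]
      exact Submodule.smul_mem _ _ (Submodule.subset_span ⟨i, rfl⟩)
  · rintro ⟨b⟩
    choose m hm using fun i => hsurj (b i)
    refine ⟨m, ?_, ?_⟩
    · have hnil : IsNilpotent n := IsNoetherianRing.isNilpotent_nilradical R
      obtain ⟨k, hk⟩ := hnil
      have hsum : ∀ x : M, x ∈ Submodule.span R (Set.range m) ⊔ n • (⊤ : Submodule R M) := by
        intro x
        choose c hc using fun i => Ideal.Quotient.mk_surjective (b.repr ((1 : R ⧸ n) ⊗ₜ[R] x) i)
        have h0 : (1 : R ⧸ n) ⊗ₜ[R] (x - ∑ i, c i • m i) = 0 := by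
          rw [TensorProduct.tmul_sub, TensorProduct.tmul_sum, sub_eq_zero]
          conv_lhs => rw [← b.sum_repr ((1 : R ⧸ n) ⊗ₜ[R] x)]
          exact Finset.sum_congr rfl fun j _ => by rw [hsc, hc, hm]
        have := hker _ h0
        have h1 : ∑ i, c i • m i ∈ Submodule.span R (Set.range m) :=
          Submodule.sum_mem _ fun i _ => Submodule.smul_mem _ _ (Submodule.subset_span ⟨i, rfl⟩)
        have := Submodule.add_mem_sup h1 this
        simpa using this
      have hpow : ∀ j : ℕ, (⊤ : Submodule R M) ≤ Submodule.span R (Set.range m) ⊔ n ^ j • (⊤ : Submodule R M) := by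
        intro j
        induction j with
        | zero => simp
        | succ j ih =>
          refine ih.trans (sup_le le_sup_left ?_)
          calc n ^ j • (⊤ : Submodule R M) ≤ n ^ j • (Submodule.span R (Set.range m) ⊔ n • ⊤) :=
                Submodule.smul_mono le_rfl (fun x _ => hsum x)
            _ ≤ _ := by
                rw [Submodule.smul_sup, ← Submodule.mul_smul, ← pow_succ]
                exact sup_le (Submodule.smul_le_right.trans le_sup_left) le_sup_right
      have := hpow k
      rw [hk] at this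
      simpa using this
    · intro a ha i
      have h0 : ∑ i, Ideal.Quotient.mk n (a i) • b i = 0 := by
        have : (1 : R ⧸ n) ⊗ₜ[R] (∑ i, a i • m i) = 0 := by rw [ha]; simp
        rw [TensorProduct.tmul_sum] at this
        rw [← this]
        exact Finset.sum_congr rfl fun j _ => by rw [hsc, hm]
      have := Fintype.linearIndependent_iff.mp b.linearIndependent _ h0 i
      rw [Ideal.Quotient.eq_zero_iff_mem] at this
      exact this

end Groth.Agent.S14032
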