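import Groth.Statements.S14043
import Mathlib
-- import your own Groth.Agent.* helpers here

set_option autoImplicit false
universe u v
open W4c1frobunstiva

namespace Groth.Agent.S14043

/-- Let R be a commutative Noetherian ring, M an R-module that is NR-free of rank r — generated by some
r elements all of whose linear relations have nilpotent coefficients — and m, m' two generating
families of M, each indexed by the same finite set of size r. Then some invertible r × r matrix T
over R expresses m' in terms of m, m'_j = Σ_i T_{ji} m_i; reducing modulo the nilradical n, such a T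
induces the change-of-basis matrix between the bases of M/nM given by the images of m and m' (an
r-element generating family of M is itself an NR-basis), so only the existence of an invertible T is
asserted here. (T is not unique.) -/
theorem result (R : Type u) [CommRing R]
    [IsNoetherianRing R] (M : Type v) [AddCommGroup M] [Module R M] (r : ℕ)
    (hM : W4c1frobunstiva.IsNRFree R M r) (m m' : Fin r → M)
    (hm : Submodule.span R (Set.range m) = ⊤) (hm' : Submodule.span R (Set.range m') = ⊤) :
    ∃ T : Matrix (Fin r) (Fin r) R, IsUnit T ∧ ∀ j, m' j = ∑ i, T j i • m i := by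
  classical
  obtain ⟨b, hb, hrel⟩ := hM
  have coeffs : ∀ (u v : Fin r → M), Submodule.span R (Set.range v) = ⊤ → ∃ A : Matrix (Fin r) (Fin r) R, ∀ j, u j = ∑ i, A j i • v i := by
    intro u v hv
    choose A hA using fun j => (Submodule.mem_span_range_iff_exists_fun R).mp (hv ▸ Submodule.mem_top : u j ∈ Submodule.span R (Set.range v))
    exact ⟨Matrix.of A, fun j => (hA j).symm⟩
  have comb : ∀ (A B : Matrix (Fin r) (Fin r) R) (u v w : Fin r → M), (∀ j, u j = ∑ i, A j i • v i) →
      (∀ j, v j = ∑ i, B j i • w i) → ∀ j, u j = ∑ i, (A * B) j i • w i := by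
    intro A B u v w h1 h2 j
    rw [h1 j]
    simp only [h2, Finset.smul_sum, smul_smul, Matrix.mul_apply, Finset.sum_smul]
    exact Finset.sum_comm
  have unit : ∀ (u : Fin r → M), Submodule.span R (Set.range u) = ⊤ → ∀ (A B : Matrix (Fin r) (Fin r) R),
      (∀ j, b j = ∑ i, A j i • u i) → (∀ j, u j = ∑ i, B j i • b i) → IsUnit A.det ∧ IsUnit B.det := by
    intro u _ A B hA hB
    have h := comb A B b u b hA hB
    have hn : ∀ j i, IsNilpotent ((A * B - 1) j i) := fun j => hrel (fun i => (A * B - 1) j i) (by
      simp only [Matrix.sub_apply, sub_smul, Finset.sum_sub_distrib, ← h j]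
      simp [Matrix.one_apply])
    have hq : (Ideal.Quotient.mk (nilradical R)) (A * B).det = 1 := by
      rw [RingHom.map_det, RingHom.mapMatrix_apply, show (A * B).map (Ideal.Quotient.mk (nilradical R)) = 1 from ?_, Matrix.det_one]
      ext j i
      rw [Matrix.map_apply, ← sub_add_cancel ((A * B) j i) ((1 : Matrix (Fin r) (Fin r) R) j i), map_add,
        Ideal.Quotient.eq_zero_iff_mem.mpr (mem_nilradical.mpr (show IsNilpotent ((A * B) j i - (1 : Matrix (Fin r) (Fin r) R) j i) from hn j i)), zero_add]
      by_cases hji : j = i <;> simp [Matrix.one_apply, hji]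
    have hu : IsUnit (A * B).det := by
      have hnil : IsNilpotent ((A * B).det - 1) := mem_nilradical.mp (Ideal.Quotient.eq_zero_iff_mem.mp (by rw [map_sub, hq, map_one, sub_self]))
      have := hnil.isUnit_add_one
      rwa [sub_add_cancel] at this
    rw [Matrix.det_mul] at hu
    exact IsUnit.mul_iff.mp hu
  obtain ⟨A, hA⟩ := coeffs b m hm
  obtain ⟨B, hB⟩ := coeffs m b hb
  obtain ⟨A', hA'⟩ := coeffs b m' hm'
  obtain ⟨B', hB'⟩ := coeffs m' b hb
  refine ⟨B' * A, ?_, comb B' A m' b m hB' hA⟩
  rw [Matrix.isUnit_iff_isUnit_det, Matrix.det_mul]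
  exact (unit m' hm' A' B' hA' hB').2.mul (unit m hm A B hA hB).1

end Groth.Agent.S14043
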