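import Groth.Statements.S14046
import Mathlib

set_option autoImplicit false
universe u v w
open W4c1frobunstiva

namespace Groth.Agent.S14046

open TensorProduct in
/-- Let R → A be a homomorphism of commutative rings and I, J ideals of A with I ∩ J = 0 — so that A is
the fibre product of A/I and A/J over A/(I + J), i.e. Spec A is the union of the two closed
subschemes in the strong sense — and suppose A/(I + J) is flat over R. Then this persists under
every base change: for every commutative R-algebra R', the ideals generated by I and J in R' ⊗_R A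
again meet in 0. (This is the ideal-theoretic, affine form of the base-change step; the exact
sequence of unit sheaves deduced from it in the published statement — restriction of units to a
closed subscheme being surjective locally — is not restated. Without flatness of A/(I + J) the
conclusion fails: for A = k[x, y]/(xy) over R = k[u] with u ↦ x + y, I = (x) and J = (y), the base
change to R/(u) gives k[x]/(x²), in which both ideals become (x).) -/
theorem result (R : Type u) (A : Type v)
    [CommRing R] [CommRing A] [Algebra R A] (I J : Ideal A) (hIJ : I ⊓ J = ⊥)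
    [Module.Flat R (A ⧸ (I ⊔ J))] (R' : Type w) [CommRing R'] [Algebra R R'] :
    I.map (Algebra.TensorProduct.includeRight : A →ₐ[R] R' ⊗[R] A) ⊓
      J.map (Algebra.TensorProduct.includeRight : A →ₐ[R] R' ⊗[R] A) = ⊥ := by
  let qI : A →ₐ[R] A ⧸ I := Ideal.Quotient.mkₐ R I
  let qJ : A →ₐ[R] A ⧸ J := Ideal.Quotient.mkₐ R J
  let g : A →ₗ[R] (A ⧸ I) × (A ⧸ J) := qI.toLinearMap.prod qJ.toLinearMap
  let pI : (A ⧸ I) →ₗ[R] A ⧸ (I ⊔ J) := (Ideal.Quotient.factorₐ R (le_sup_left : I ≤ I ⊔ J)).toLinearMap
  let pJ : (A ⧸ J) →ₗ[R] A ⧸ (I ⊔ J) := (Ideal.Quotient.factorₐ R (le_sup_right : J ≤ I ⊔ J)).toLinearMap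
  let f : (A ⧸ I) × (A ⧸ J) →ₗ[R] A ⧸ (I ⊔ J) := pI.coprod (-pJ)
  have hg : Function.Injective g := by
    rw [injective_iff_map_eq_zero]
    intro a ha
    have h1 := Ideal.Quotient.eq_zero_iff_mem.1 (congrArg Prod.fst ha)
    have h2 := Ideal.Quotient.eq_zero_iff_mem.1 (congrArg Prod.snd ha)
    have : a ∈ I ⊓ J := ⟨h1, h2⟩
    rwa [hIJ] at this
  have hf : Function.Surjective f := fun z => by
    obtain ⟨a, rfl⟩ := Ideal.Quotient.mk_surjective z
    exact ⟨(Ideal.Quotient.mk I a, 0), by simp [f, pI]⟩
  have hex : Function.Exact g f := by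
    rintro ⟨x, y⟩
    obtain ⟨a, rfl⟩ := Ideal.Quotient.mk_surjective x
    obtain ⟨b, rfl⟩ := Ideal.Quotient.mk_surjective y
    constructor
    · intro h
      have h' : Ideal.Quotient.mk (I ⊔ J) (a - b) = 0 := by
        rw [map_sub, ← h]; simp [f, pI, pJ, sub_eq_add_neg]
      obtain ⟨i, hi, j, hj, hij⟩ := Submodule.mem_sup.1 (Ideal.Quotient.eq_zero_iff_mem.1 h')
      refine ⟨a - i, Prod.ext (Ideal.Quotient.eq.2 (by simpa using hi)) (Ideal.Quotient.eq.2 ?_)⟩
      rwa [show a - i - b = j by linear_combination -hij]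
    · rintro ⟨c, hc⟩
      rw [← hc]
      simp [f, g, pI, pJ, qI, qJ]
  have hinj := LinearMap.lTensor_injective_of_exact_of_flat f hf g hg hex R'
  have hI : I.map (Algebra.TensorProduct.includeRight : A →ₐ[R] R' ⊗[R] A) =
      RingHom.ker (Algebra.TensorProduct.map (AlgHom.id R R') qI) := by
    rw [Algebra.TensorProduct.lTensor_ker _ Ideal.Quotient.mk_surjective]
    congr 1; exact (Ideal.Quotient.mkₐ_ker R I).symm
  have hJ : J.map (Algebra.TensorProduct.includeRight : A →ₐ[R] R' ⊗[R] A) =
      RingHom.ker (Algebra.TensorProduct.map (AlgHom.id R R') qJ) := by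
    rw [Algebra.TensorProduct.lTensor_ker _ Ideal.Quotient.mk_surjective]
    congr 1; exact (Ideal.Quotient.mkₐ_ker R J).symm
  refine (Submodule.eq_bot_iff _).2 fun x hx => hinj ?_
  obtain ⟨hxI, hxJ⟩ := hx
  rw [SetLike.mem_coe, hI, RingHom.mem_ker] at hxI
  rw [SetLike.mem_coe, hJ, RingHom.mem_ker] at hxJ
  rw [map_zero]
  apply (TensorProduct.prodRight R R R' (A ⧸ I) (A ⧸ J)).injective
  rw [map_zero]
  have e : ∀ t : R' ⊗[R] A, TensorProduct.prodRight R R R' (A ⧸ I) (A ⧸ J) (g.lTensor R' t) =
      (Algebra.TensorProduct.map (AlgHom.id R R') qI t, Algebra.TensorProduct.map (AlgHom.id R R') qJ t) := by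
    intro t
    induction t using TensorProduct.induction_on with
    | zero => simp only [map_zero]; rfl
    | tmul a b => simp [g]
    | add a b ha hb => simp [ha, hb]
  rw [e, hxI, hxJ]; rfl

end Groth.Agent.S14046
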