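import Groth.Statements.S14051
import Mathlib

set_option autoImplicit false
set_option linter.style.haveILetI false
universe u
open CAlg

namespace Groth.Agent.S14051

/-- Let A be a commutative ℕ-graded algebra over a base ring R which is generated by A_1 as an
A_0-algebra, written as A_{n+1} = A_1 · A_n for every n, and let M be a graded A-module: an A-module
with R-submodules M_n giving a direct-sum decomposition and A_i · M_j ⊆ M_{i+j}. If M is spanned
over A by a set of homogeneous elements all of degree at most n₀, then for every n ≥ n₀ and every k
≥ 0 the degree-(n+k) part of M is A_k · M_n. -/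
theorem result
    (R : Type u) [CommRing R] (A : Type u) [CommRing A] [Algebra R A]
    (𝒜 : ℕ → Submodule R A) [GradedAlgebra 𝒜]
    (hA : ∀ n : ℕ, 𝒜 (n + 1) = 𝒜 1 * 𝒜 n)
    (M : Type u) [AddCommGroup M] [Module R M] [Module A M] [IsScalarTower R A M]
    (ℳ : ℕ → Submodule R M) [DirectSum.Decomposition ℳ] [SetLike.GradedSMul 𝒜 ℳ]
    (s : Set M) (n₀ : ℕ) (hs : ∀ y ∈ s, ∃ d : ℕ, d ≤ n₀ ∧ y ∈ ℳ d)
    (hspan : Submodule.span A s = ⊤)
    (n k : ℕ) (hn : n₀ ≤ n) :
    ℳ (n + k) = 𝒜 k • ℳ n := by
  classical
  have hmul : ∀ k m : ℕ, 𝒜 (k + m) = 𝒜 k * 𝒜 m := by
    intro k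
    induction k with
    | zero =>
      intro m
      refine le_antisymm (fun x hx => ?_) (Submodule.mul_le.mpr fun x hx y hy => by
        have := SetLike.mul_mem_graded hx hy; exact this)
      rw [zero_add] at hx
      rw [← one_mul x]
      exact Submodule.mul_mem_mul (SetLike.one_mem_graded 𝒜) hx
    | succ k ih =>
      intro m
      rw [hA k, mul_assoc, ← ih m, show k + 1 + m = k + m + 1 by omega, hA (k + m)]
  refine le_antisymm ?_ (Submodule.smul_le.mpr fun a ha y hy => ?_)
  · intro x hx
    have key : ∀ z : M, z ∈ Submodule.span A s → ((DirectSum.decompose ℳ z (n + k) : ℳ (n + k)) : M) ∈ 𝒜 k • ℳ n := by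
      intro z hz
      have haux : ∀ z ∈ Submodule.span A s, ∀ a : A, ((DirectSum.decompose ℳ (a • z) (n + k) : ℳ (n + k)) : M) ∈ 𝒜 k • ℳ n := by
        intro z hz
        induction hz using Submodule.span_induction with
        | zero => intro a; simp
        | add u v _ _ hu hv =>
          intro a
          rw [smul_add, DirectSum.decompose_add, DirectSum.add_apply, Submodule.coe_add]
          exact add_mem (hu a) (hv a)
        | smul c u _ hu => intro a; rw [smul_smul]; exact hu _
        | mem y hy =>
          intro a
          obtain ⟨d, hd, hyd⟩ := hs y hy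
          induction a using DirectSum.Decomposition.inductionOn 𝒜 with
          | zero => simp
          | add a b ha hb =>
            rw [add_smul, DirectSum.decompose_add, DirectSum.add_apply, Submodule.coe_add]
            exact add_mem ha hb
          | @homogeneous j a =>
            have hm : (a : A) • y ∈ ℳ (j + d) := SetLike.GradedSMul.smul_mem a.2 hyd
            by_cases hjd : j + d = n + k
            · rw [hjd] at hm
              rw [DirectSum.decompose_of_mem_same ℳ hm]
              have ha : (a : A) ∈ 𝒜 k * 𝒜 (n - d) := by
                rw [← hmul, show k + (n - d) = j by omega]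
                exact a.2
              refine Submodule.mul_induction_on ha ?_ ?_
              · intro u hu v hv
                rw [mul_smul]
                refine Submodule.smul_mem_smul hu ?_
                have := SetLike.GradedSMul.smul_mem (B := ℳ) hv hyd
                rwa [show (n - d) +ᵥ d = n by simp only [vadd_eq_add]; omega] at this
              · intro u v hu hv
                rw [add_smul]; exact add_mem hu hv
            · rw [DirectSum.decompose_of_mem_ne ℳ hm hjd]; exact zero_mem _
      simpa using haux z hz 1
    have := key x (hspan ▸ trivial)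
    rwa [DirectSum.decompose_of_mem_same ℳ hx] at this
  · have := SetLike.GradedSMul.smul_mem (B := ℳ) ha hy
    rw [vadd_eq_add, add_comm] at this
    exact this

end Groth.Agent.S14051
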