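import Groth.Statements.S14053
import Mathlib.RingTheory.GradedAlgebra.Basic
import Mathlib.RingTheory.MvPolynomial.Basic
import Mathlib.LinearAlgebra.FreeModule.Finite.Basic
import Mathlib.LinearAlgebra.Dimension.Free
import Mathlib.LinearAlgebra.Basis.VectorSpace
import Mathlib.Tactic.Linarith
import Mathlib.Tactic.Ring
import Mathlib.Algebra.Order.BigOperators.Group.Finset

set_option autoImplicit false
universe u
open CAlg

namespace Groth.Agent.S14053

/-- Let k be a field and R a commutative ℕ-graded k-algebra with R_0 = k · 1 which is generated as a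
k-algebra by R_1, R_2 and R_3, each a finite-dimensional k-vector space, of dimensions d_1, d_2,
d_3. Then for every natural number e ≥ 5 d_1 + 4 d_2 + 3 d_3 the (6e)-th Veronese subring of R is
generated in degree one over k: R_{6em} = (R_{6e})^m for every m > 0. -/
theorem result
    (k : Type u) [Field k] (R : Type u) [CommRing R] [Algebra k R]
    (ℛ : ℕ → Submodule k R) [GradedAlgebra ℛ]
    (h0 : ℛ 0 = 1)
    (hgen : Algebra.adjoin k ((ℛ 1 : Set R) ∪ (ℛ 2 : Set R) ∪ (ℛ 3 : Set R)) = ⊤)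
    [Module.Finite k (ℛ 1)] [Module.Finite k (ℛ 2)] [Module.Finite k (ℛ 3)]
    (e : ℕ) (he : 5 * Module.finrank k (ℛ 1) + 4 * Module.finrank k (ℛ 2) + 3 * Module.finrank k (ℛ 3) ≤ e)
    (m : ℕ) (hm : 0 < m) :
    ℛ (m * (6 * e)) = ℛ (6 * e) ^ m := by
  classical
  let B₁ := Module.finBasis k (ℛ 1)
  let B₂ := Module.finBasis k (ℛ 2)
  let B₃ := Module.finBasis k (ℛ 3)
  let ι := Fin (Module.finrank k (ℛ 1)) ⊕ Fin (Module.finrank k (ℛ 2)) ⊕ Fin (Module.finrank k (ℛ 3))
  let g : ι → R := Sum.elim (fun i => (B₁ i : R)) (Sum.elim (fun i => (B₂ i : R)) (fun i => (B₃ i : R)))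
  let w : ι → ℕ := Sum.elim (fun _ => 1) (Sum.elim (fun _ => 2) (fun _ => 3))
  let K : ι → ℕ := Sum.elim (fun _ => 6) (Sum.elim (fun _ => 3) (fun _ => 2))
  have hgw : ∀ i, g i ∈ ℛ (w i) := by rintro (i | i | i) <;> exact Subtype.coe_prop _
  have hKw : ∀ i, w i * K i = 6 := by rintro (i | i | i) <;> rfl
  have hspan : ∀ j, ∀ x ∈ ℛ j, (∀ y : ℛ j, (y : R) ∈ Algebra.adjoin k (Set.range g)) →
      x ∈ Algebra.adjoin k (Set.range g) := fun j x hx h => h ⟨x, hx⟩
  have hadj : Algebra.adjoin k (Set.range g) = ⊤ := by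
    rw [eq_top_iff, ← hgen]
    refine Algebra.adjoin_le ?_
    have key : ∀ {j : ℕ} {ν : Type} [Fintype ν] (B : Module.Basis ν k (ℛ j)),
        (∀ i, (B i : R) ∈ Set.range g) → ∀ x ∈ ℛ j, x ∈ Algebra.adjoin k (Set.range g) := by
      intro j ν _ B hB x hx
      have h := congrArg (fun y : ℛ j => (y : R)) (B.sum_repr ⟨x, hx⟩)
      simp only [Submodule.coe_sum, Submodule.coe_smul] at h
      rw [← h]
      exact sum_mem fun i _ => Subalgebra.smul_mem _ (Algebra.subset_adjoin (hB i)) _
    rintro x ((hx | hx) | hx)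
    · exact key B₁ (fun i => ⟨.inl i, rfl⟩) x hx
    · exact key B₂ (fun i => ⟨.inr (.inl i), rfl⟩) x hx
    · exact key B₃ (fun i => ⟨.inr (.inr i), rfl⟩) x hx
  have hmon : ∀ a : ι → ℕ, ∏ i, g i ^ a i ∈ ℛ (∑ i, a i * w i) := fun a =>
    SetLike.prod_mem_graded ℛ (fun i => a i * w i) _ fun i _ => by
      simpa using SetLike.pow_mem_graded (a i) (hgw i)
  have hdecomp : ∀ n, ∀ x ∈ ℛ n,
      x ∈ Submodule.span k {y | ∃ a : ι → ℕ, (∑ i, a i * w i) = n ∧ y = ∏ i, g i ^ a i} := by
    intro n x hx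
    have hxa : x ∈ Algebra.adjoin k (Set.range g) := hadj ▸ Algebra.mem_top
    rw [Algebra.adjoin_range_eq_range_aeval] at hxa
    obtain ⟨P, rfl⟩ := hxa
    rw [AlgHom.toRingHom_eq_coe, RingHom.coe_coe] at hx ⊢
    rw [← DirectSum.decompose_of_mem_same ℛ hx]
    rw [P.as_sum, map_sum, DirectSum.decompose_sum, DFinsupp.finsetSum_apply, AddSubmonoidClass.coe_finsetSum]
    refine sum_mem fun a _ => ?_
    have hterm : MvPolynomial.aeval g (MvPolynomial.monomial a (MvPolynomial.coeff a P)) =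
        MvPolynomial.coeff a P • ∏ i, g i ^ a i := by
      rw [MvPolynomial.aeval_monomial, Algebra.smul_def, Finsupp.prod_fintype _ _ fun i => pow_zero _]
    rw [hterm]
    by_cases hn : (∑ i, a i * w i) = n
    · rw [DirectSum.decompose_of_mem_same ℛ (Submodule.smul_mem _ _ (hn ▸ hmon a))]
      exact Submodule.smul_mem _ _ (Submodule.subset_span ⟨a, hn, rfl⟩)
    · rw [DirectSum.decompose_of_mem_ne ℛ (Submodule.smul_mem _ _ (hmon a)) hn]
      exact zero_mem _
  have hchoose : ∀ (q : ι → ℕ) (c : ℕ), c ≤ ∑ i, q i → ∃ p : ι → ℕ, (∀ i, p i ≤ q i) ∧ ∑ i, p i = c := by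
    intro q c
    induction c with
    | zero => exact fun _ => ⟨fun _ => 0, fun _ => Nat.zero_le _, by simp⟩
    | succ c ih =>
      intro hc
      obtain ⟨p, hp, hpc⟩ := ih (by omega)
      obtain ⟨i, -, hi⟩ : ∃ i ∈ Finset.univ, p i < q i := Finset.exists_lt_of_sum_lt (by omega)
      refine ⟨Function.update p i (p i + 1), fun j => ?_, ?_⟩
      · by_cases hj : j = i
        · subst hj; rw [Function.update_self]; omega
        · rw [Function.update_of_ne hj]; exact hp j
      · rw [Finset.sum_update_of_mem (Finset.mem_univ i), ← hpc,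
          ← Finset.add_sum_erase _ p (Finset.mem_univ i), Finset.sdiff_singleton_eq_erase]
        omega
  have hstep : ∀ M, 0 < M → ℛ ((M + 1) * (6 * e)) ≤ ℛ (M * (6 * e)) * ℛ (6 * e) := by
    intro M hM x hx
    refine Submodule.span_le.2 ?_ (hdecomp _ x hx)
    rintro _ ⟨a, ha, rfl⟩
    let q : ι → ℕ := fun i => a i / K i
    let r : ι → ℕ := fun i => a i % K i
    have hr : ∑ i, r i * w i ≤ e := by
      refine le_trans (le_trans (Finset.sum_le_sum (g := Sum.elim (fun _ => 5) (Sum.elim (fun _ => 4) (fun _ => 3))) fun i _ => ?_) ?_) he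
      · rcases i with i | i | i <;> simp only [r, K, w, Sum.elim_inl, Sum.elim_inr] <;> omega
      · refine le_of_eq ((Fintype.sum_sum_type _).trans ?_)
        rw [Fintype.sum_sum_type]
        simp only [Sum.elim_inl, Sum.elim_inr, Finset.sum_const,
          Finset.card_univ, Fintype.card_fin, smul_eq_mul]
        omega
    have hsum : ∑ i, a i * w i = 6 * ∑ i, q i + ∑ i, r i * w i := by
      rw [Finset.mul_sum, ← Finset.sum_add_distrib]
      refine Finset.sum_congr rfl fun i _ => ?_
      conv_lhs => rw [← Nat.div_add_mod (a i) (K i)]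
      rw [← hKw i]
      ring
    have hq : e ≤ ∑ i, q i := by
      rw [ha] at hsum
      nlinarith
    obtain ⟨p, hp, hpe⟩ := hchoose q e hq
    have hle : ∀ i, K i * p i ≤ a i := fun i =>
      le_trans (Nat.mul_le_mul_left _ (hp i)) (Nat.mul_div_le _ _)
    have hdeg : ∑ i, (K i * p i) * w i = 6 * e := by
      rw [← hpe, Finset.mul_sum]
      refine Finset.sum_congr rfl fun i _ => ?_
      rw [← hKw i]; ring
    have hrest : ∑ i, (a i - K i * p i) * w i = M * (6 * e) := by
      have : ∑ i, (a i - K i * p i) * w i + ∑ i, (K i * p i) * w i = (M + 1) * (6 * e) := by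
        rw [← Finset.sum_add_distrib, ← ha]
        exact Finset.sum_congr rfl fun i _ => by rw [← add_mul, Nat.sub_add_cancel (hle i)]
      rw [hdeg, add_one_mul] at this
      omega
    have heq : ∏ i, g i ^ a i = (∏ i, g i ^ (a i - K i * p i)) * ∏ i, g i ^ (K i * p i) := by
      rw [← Finset.prod_mul_distrib]
      exact Finset.prod_congr rfl fun i _ => by rw [← pow_add, Nat.sub_add_cancel (hle i)]
    rw [SetLike.mem_coe, heq]
    exact Submodule.mul_mem_mul (hrest ▸ hmon _) (hdeg ▸ hmon _)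
  induction m with
  | zero => omega
  | succ M ih =>
    rcases Nat.eq_zero_or_pos M with hM | hM
    · subst hM; rw [zero_add, one_mul, pow_one]
    · rw [pow_succ, ← ih hM]
      refine le_antisymm (hstep M hM) (Submodule.mul_le.2 fun u hu v hv => ?_)
      rw [add_one_mul]
      exact SetLike.mul_mem_graded hu hv

end Groth.Agent.S14053
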