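import Groth.Statements.S14071
import Groth.Agent.Misc9.ArtinFam
import Groth.Agent.Misc9.S1S2
-- import your own Groth.Agent.* helpers here

set_option autoImplicit false
universe u
open FamCyc

namespace Groth.Agent.S14071

/-- Let A be an Artinian local ring with maximal ideal m and B a Noetherian A-algebra which satisfies
(S₁), whose reduction B_red satisfies (S₂), and such that for every prime q of B of height at most 1
the local ring B_q is flat over A and the fibre ring B_q / m B_q is reduced. Then B/mB (the fibre
over the reduction of A) is reduced; in particular it equals B_red and satisfies (S₂). -/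
theorem result {A : Type u} [CommRing A] [IsArtinianRing A] [IsLocalRing A]
    (B : Type u) [CommRing B] [Algebra A B] [IsNoetherianRing B]
    (hS1 : LocCoh.HasSk 1 B B) (hS2 : LocCoh.HasSk 2 (B ⧸ nilradical B) (B ⧸ nilradical B))
    (hcodim : ∀ (q : Ideal B) [q.IsPrime], q.height ≤ 1 →
      Module.Flat A (Localization.AtPrime q) ∧ IsReduced (EGA4.FibLocRing A B q)) :
    IsReduced (B ⧸ (IsLocalRing.maximalIdeal A).map (algebraMap A B)) := by
  have H : Misc9.ArtinFam.Good (A := A) B :=
    { flat := fun q _ h => (hcodim q h).1
      red := fun q _ h z hz => by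
        have hmax : q.comap (algebraMap A B) = IsLocalRing.maximalIdeal A :=
          IsLocalRing.eq_maximalIdeal (IsArtinianRing.isMaximal_of_isPrime _)
        have := (hcodim q h).2
        change IsReduced (Localization.AtPrime q ⧸ (q.comap (algebraMap A B)).map (algebraMap A (Localization.AtPrime q))) at this
        rw [hmax] at this
        exact Ideal.Quotient.eq_zero_iff_mem.1 (IsReduced.eq_zero _ (hz.map (Ideal.Quotient.mk _)))
      ass := fun q hq x _ hx => Misc9.S1S2.ass_of_hasSk_one hS1 q hq x hx
      socle := fun q _ => Misc9.S1S2.socle_of_hasSk_two hS2 q }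
  exact Misc9.ArtinFam.isReduced_quotient H

end Groth.Agent.S14071
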