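import Groth.Statements.S14072
import Groth.Agent.Misc9.ArtinFam
import Groth.Agent.Misc9.S1S2
-- import your own Groth.Agent.* helpers here

set_option autoImplicit false
universe u
open FamCyc

namespace Groth.Agent.S14072

/-- Let A be an Artinian local ring with maximal ideal m and B a Noetherian A-algebra which satisfies
(S₁), whose reduction B_red satisfies (S₂), and such that for every prime q of B of height at most 1
the local ring B_q is flat over A and the fibre ring B_q / m B_q is reduced. Then B is flat over A
(and its fibre B/mB is reduced and satisfies (S₂)). (The published statement concludes flatness with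
(R₀)+(S₂) fibres at every point where B_red satisfies (S₂), and adds that this locus is open; its
proof treats the case where B_red satisfies (S₂) everywhere, which is the case stated here.) -/
theorem result {A : Type u} [CommRing A] [IsArtinianRing A] [IsLocalRing A]
    (B : Type u) [CommRing B] [Algebra A B] [IsNoetherianRing B]
    (hS1 : LocCoh.HasSk 1 B B) (hS2 : LocCoh.HasSk 2 (B ⧸ nilradical B) (B ⧸ nilradical B))
    (hcodim : ∀ (q : Ideal B) [q.IsPrime], q.height ≤ 1 →
      Module.Flat A (Localization.AtPrime q) ∧ IsReduced (EGA4.FibLocRing A B q)) :
    Module.Flat A B := by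
  have H : Misc9.ArtinFam.Good (A := A) B :=
    { flat := fun q _ h => (hcodim q h).1
      red := fun q _ h z hz => by
        have hmax : q.comap (algebraMap A B) = IsLocalRing.maximalIdeal A :=
          IsLocalRing.eq_maximalIdeal (IsArtinianRing.isMaximal_of_isPrime _)
        have := (hcodim q h).2
        change IsReduced (Localization.AtPrime q ⧸ (q.comap (algebraMap A B)).map (algebraMap A (Localization.AtPrime q))) at this
        rw [hmax] at this
        exact Ideal.Quotient.eq_zero_iff_mem.1 (IsReduced.eq_zero _ (hz.map (Ideal.Quotient.mk _)))
      ass := fun q hq x _ hx => Misc9.S1S2.ass_of_hasSk_one hS1 q hq x hx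
      socle := fun q _ => Misc9.S1S2.socle_of_hasSk_two hS2 q }
  exact Misc9.ArtinFam.flat H

end Groth.Agent.S14072
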