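import Groth.Statements.S14085
import Mathlib
-- import your own Groth.Agent.* helpers here

set_option autoImplicit false
universe u
open FlatMor

namespace Groth.Agent.S14085

/-- Let R be a ring, A and B flat R-algebras, I an ideal of A and B → A/I an injective finite flat map
of R-algebras. Then the fibre product ring B ×_{A/I} A, realised as the subalgebra of B × A of pairs
with equal image in A/I, is flat over R. (This is the affine statement behind flatness over the base
of the pushout of a closed immersion along a finite flat morphism.) -/
theorem result (R A B : Type u) [CommRing R] [CommRing A] [CommRing B]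
    [Algebra R A] [Algebra R B] [Module.Flat R A] [Module.Flat R B] (I : Ideal A)
    [Algebra B (A ⧸ I)] [IsScalarTower R B (A ⧸ I)] [Module.Finite B (A ⧸ I)] [Module.Flat B (A ⧸ I)]
    (hinj : Function.Injective (algebraMap B (A ⧸ I))) :
    Module.Flat R ↥(AlgHom.equalizer ((IsScalarTower.toAlgHom R B (A ⧸ I)).comp (AlgHom.fst R B A))
          ((Ideal.Quotient.mkₐ R I).comp (AlgHom.snd R B A))) := by
  haveI : Module.Flat R (A ⧸ I) := Module.Flat.trans R B (A ⧸ I)
  let f : (B × A) →ₗ[R] (A ⧸ I) := ((IsScalarTower.toAlgHom R B (A ⧸ I)).comp (AlgHom.fst R B A)).toLinearMap - ((Ideal.Quotient.mkₐ R I).comp (AlgHom.snd R B A)).toLinearMap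
  have hf : Function.Surjective f := by
    intro y
    obtain ⟨a, rfl⟩ := Ideal.Quotient.mk_surjective y
    exact ⟨(0, -a), by simp [f]⟩
  haveI hflat : Module.Flat R (LinearMap.ker f) := by
    rw [Module.Flat.iff_lTensor_preserves_injective_linearMap]
    intro V W _ _ _ _ g hg
    have h1 : Function.Injective ((LinearMap.ker f).subtype.rTensor V) := by
      have h := LinearMap.lTensor_injective_of_exact_of_flat f hf (LinearMap.ker f).subtype
        (LinearMap.ker f).subtype_injective (LinearMap.exact_subtype_ker_map f) V
      exact (LinearMap.lTensor_inj_iff_rTensor_inj V _).1 h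
    have h2 : Function.Injective (g.lTensor (B × A)) := by
      have hc : (TensorProduct.prodLeft R R B A W).toLinearMap ∘ₗ g.lTensor (B × A) =
          (g.lTensor B).prodMap (g.lTensor A) ∘ₗ (TensorProduct.prodLeft R R B A V).toLinearMap :=
        TensorProduct.ext' fun x v => by obtain ⟨b, a⟩ := x; simp
      refine Function.Injective.of_comp (f := (TensorProduct.prodLeft R R B A W).toLinearMap) ?_
      rw [← LinearMap.coe_comp, hc, LinearMap.coe_comp, LinearMap.coe_prodMap]
      exact ((Module.Flat.lTensor_preserves_injective_linearMap g hg).prodMap (Module.Flat.lTensor_preserves_injective_linearMap g hg)).comp (LinearEquiv.injective _)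
    have e : ((LinearMap.ker f).subtype.rTensor W).comp (g.lTensor (LinearMap.ker f)) =
        (g.lTensor (B × A)).comp ((LinearMap.ker f).subtype.rTensor V) := by
      rw [LinearMap.rTensor_comp_lTensor, LinearMap.lTensor_comp_rTensor]
    refine Function.Injective.of_comp (f := (LinearMap.ker f).subtype.rTensor W) ?_
    rw [← LinearMap.coe_comp, e, LinearMap.coe_comp]
    exact h2.comp h1
  let E := AlgHom.equalizer ((IsScalarTower.toAlgHom R B (A ⧸ I)).comp (AlgHom.fst R B A)) ((Ideal.Quotient.mkₐ R I).comp (AlgHom.snd R B A))
  have he : Subalgebra.toSubmodule E = LinearMap.ker f := Submodule.ext fun x => by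
    simp [E, f, sub_eq_zero]
  exact Module.Flat.of_linearEquiv (LinearEquiv.ofEq _ _ he)

end Groth.Agent.S14085
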