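import Groth.Statements.S14088
import Mathlib

set_option autoImplicit false
set_option linter.style.haveILetI false
universe u
open ArSing

namespace Groth.Agent.S14088

/-- The identity behind the torus-equivariant classes h_i = h_0 + i τ of the coordinate hyperplanes of a
projective space of binary forms, stated in an arbitrary commutative ring: for n ≤ m, (h_0 ⋯
h_(n-1))^2 · h_n ⋯ h_(m-1) equals the sum over s = 0, …, n of (-1)^s s! (n choose s) (m choose s)
τ^s h_0 ⋯ h_(m+n-s-1), where h_i = h + i τ. (The published statement is in the equivariant Chow ring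
of that projective space; only the relations h_i = h_j + (j - i) τ are used, so it holds in any
commutative ring.) -/
theorem result (A : Type u) [CommRing A] (h τ : A) (n m : ℕ) (hnm : n ≤ m) :
    (∏ i ∈ Finset.range n, (h + (i : A) * τ) ^ 2) * ∏ i ∈ Finset.Ico n m, (h + (i : A) * τ) =
      ∑ s ∈ Finset.range (n + 1), (-1 : A) ^ s * (Nat.factorial s : A) * (Nat.choose n s : A) *
        (Nat.choose m s : A) * τ ^ s * ∏ i ∈ Finset.range (m + n - s), (h + (i : A) * τ) := by
  classical
  set Q : ℕ → A := fun N => ∏ i ∈ Finset.range N, (h + (i : A) * τ) with hQ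
  have key : ∀ n : ℕ, Q n * Q m = ∑ s ∈ Finset.range (n + 1), (-1 : A) ^ s * (Nat.factorial s : A) *
      (Nat.choose n s : A) * (Nat.choose m s : A) * τ ^ s * Q (m + n - s) := by
    intro n
    induction n with
    | zero => simp [hQ]
    | succ n ih =>
      set c : ℕ → A := fun s => (-1 : A) ^ s * (Nat.factorial s : A) *
        (Nat.choose n s : A) * (Nat.choose m s : A) * τ ^ s with hc
      have step : ∀ s ∈ Finset.range (n + 1), (h + (n : A) * τ) * (c s * Q (m + n - s))
          = c s * Q (m + (n + 1) - s) + (-1 : A) ^ (s + 1) * (Nat.factorial (s + 1) : A) *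
            (Nat.choose n s : A) * (Nat.choose m (s + 1) : A) * τ ^ (s + 1) * Q (m + (n + 1) - (s + 1)) := by
        intro s hs
        rw [Finset.mem_range] at hs
        by_cases hsm : s ≤ m
        · have e1 : m + (n + 1) - s = (m + n - s) + 1 := by omega
          have e2 : m + (n + 1) - (s + 1) = m + n - s := by omega
          have e3 : (Nat.factorial (s + 1) : A) * (Nat.choose m (s + 1) : A)
              = (Nat.factorial s : A) * ((Nat.choose m s : A) * ((m - s : ℕ) : A)) := by
            rw [← Nat.cast_mul, ← Nat.cast_mul, ← Nat.cast_mul, ← Nat.choose_succ_right_eq,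
              Nat.factorial_succ]
            push_cast; ring
          rw [e1, e2]
          have eQ : Q (m + n - s + 1) = Q (m + n - s) * (h + ((m + n - s : ℕ) : A) * τ) := Finset.prod_range_succ _ _
          have e4 : ((m + n - s : ℕ) : A) = (n : A) + ((m - s : ℕ) : A) := by
            rw [← Nat.cast_add]; congr 1; omega
          rw [eQ, e4]
          simp only [hc, pow_succ]
          linear_combination (-1 : A) ^ s * (-1) * (-1) * τ ^ s * τ * (Nat.choose n s : A) * Q (m + n - s) * e3
        · have h0 : Nat.choose m s = 0 := Nat.choose_eq_zero_of_lt (by omega)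
          have h1 : Nat.choose m (s + 1) = 0 := Nat.choose_eq_zero_of_lt (by omega)
          simp [hc, h0, h1]
      have hl : Q (n + 1) * Q m = (h + (n : A) * τ) * (Q n * Q m) := by
        rw [show Q (n + 1) = Q n * (h + (n : A) * τ) from Finset.prod_range_succ _ _]; ring
      rw [hl, ih, Finset.mul_sum, Finset.sum_congr rfl step, Finset.sum_add_distrib]
      rw [Finset.sum_range_succ' _ (n + 1)]
      rw [Finset.sum_range_succ' (fun s => c s * Q (m + (n + 1) - s)) n]
      have hlast : ∑ s ∈ Finset.range n, c (s + 1) * Q (m + (n + 1) - (s + 1))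
          = ∑ s ∈ Finset.range (n + 1), c (s + 1) * Q (m + (n + 1) - (s + 1)) := by
        rw [Finset.sum_range_succ]
        simp [hc, Nat.choose_succ_self]
      rw [hlast]
      simp only [Nat.choose_succ_succ, hc]
      rw [show ∀ a b z : A, a + z + b = (a + b) + z from fun a b z => by ring]
      rw [← Finset.sum_add_distrib]
      congr 1
      · refine Finset.sum_congr rfl fun s _ => ?_
        push_cast
        ring
      · simp
  rw [← key n]
  simp only [hQ]
  rw [Finset.prod_pow, sq, mul_assoc, Finset.prod_range_mul_prod_Ico _ hnm]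

end Groth.Agent.S14088
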