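import Groth.Statements.S1409
import Mathlib.Algebra.Colimit.Ring
import Mathlib.RingTheory.Flat.FaithfullyFlat.Algebra
import Mathlib.RingTheory.Ideal.GoingDown
import Mathlib.RingTheory.Ideal.MinimalPrime.Localization

set_option autoImplicit false
universe u
open FlatMor

namespace Groth.Agent.S1409

theorem exists_mul_pow_eq_zero {R : Type u} [CommRing R] {P : Ideal R} (hP : P ∈ minimalPrimes R) {x : R}
    (hx : x ∈ P) : ∃ y ∉ P, ∃ n : ℕ, y * x ^ n = 0 := by
  haveI := hP.1.1
  have h := IsLocalization.AtPrime.radical_map_of_mem_minimalPrimes (A := Localization.AtPrime P) P ⊥ hP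
  have h2 : algebraMap R (Localization.AtPrime P) x ∈ (Ideal.map (algebraMap R (Localization.AtPrime P)) ⊥).radical := by
    rw [h]
    exact Ideal.mem_map_of_mem _ hx
  obtain ⟨n, hn⟩ := h2
  rw [Ideal.map_bot, Submodule.mem_bot, ← map_pow, IsLocalization.map_eq_zero_iff P.primeCompl] at hn
  obtain ⟨⟨y, hy⟩, hy'⟩ := hn
  exact ⟨y, hy, n, hy'⟩

/-- Let (R_i) be a directed system of commutative rings whose transition maps are faithfully flat, with
colimit R. Then, counting in the extended natural numbers, the minimal primes of R are exactly as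
numerous as the supremum over i of the count of minimal primes of R_i. -/
theorem result {ι : Type u} [Preorder ι] [IsDirected ι (· ≤ ·)] [Nonempty ι] (G : ι → Type u) [∀ i, CommRing (G i)]
    (f : ∀ i j, i ≤ j → G i →+* G j) [DirectedSystem G fun i j h => f i j h]
    (hf : ∀ i j (h : i ≤ j), letI := (f i j h).toAlgebra
      Module.FaithfullyFlat (G i) (G j)) :
    (minimalPrimes (Ring.DirectLimit G fun i j h => ⇑(f i j h))).encard = ⨆ i, (minimalPrimes (G i)).encard := by
  classical
  let R := Ring.DirectLimit G fun i j h => ⇑(f i j h)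
  let o : ∀ i, G i →+* R := fun i => Ring.DirectLimit.of G (fun i j h => ⇑(f i j h)) i
  have hof : ∀ i j (h : i ≤ j) (x : G i), o j (f i j h x) = o i x := fun i j h x => Ring.DirectLimit.of_f h x
  have hmap : ∀ i j (h : i ≤ j) (I : Ideal (G i)), (I.map (f i j h)).comap (f i j h) = I := fun i j h I => by
    letI := (f i j h).toAlgebra
    haveI := hf i j h
    exact Ideal.comap_map_eq_self_of_faithfullyFlat I
  -- elements of an extended ideal come from some level
  have hlev : ∀ i (I : Ideal (G i)) (z : R), z ∈ I.map (o i) →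
      ∃ j, ∃ h : i ≤ j, ∃ w ∈ I.map (f i j h), o j w = z := by
    intro i I z hz
    induction hz using Submodule.span_induction with
    | mem z hz =>
      obtain ⟨w, hw, rfl⟩ := hz
      exact ⟨i, le_rfl, f i i le_rfl w, Ideal.mem_map_of_mem _ hw, hof i i le_rfl w⟩
    | zero => exact ⟨i, le_rfl, 0, zero_mem _, map_zero _⟩
    | add a b _ _ ha hb =>
      obtain ⟨j, hj, w, hw, rfl⟩ := ha
      obtain ⟨j', hj', w', hw', rfl⟩ := hb
      obtain ⟨k, hk, hk'⟩ := exists_ge_ge j j'
      refine ⟨k, hj.trans hk, f j k hk w + f j' k hk' w', add_mem ?_ ?_, by rw [map_add, hof, hof]⟩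
      · have := Ideal.mem_map_of_mem (f j k hk) hw
        rw [Ideal.map_map] at this
        rwa [show (f j k hk).comp (f i j hj) = f i k (hj.trans hk) from
          RingHom.ext fun x => DirectedSystem.map_map (f := fun i j h => f i j h) hj hk x] at this
      · have := Ideal.mem_map_of_mem (f j' k hk') hw'
        rw [Ideal.map_map] at this
        rwa [show (f j' k hk').comp (f i j' hj') = f i k (hj'.trans hk') from
          RingHom.ext fun x => DirectedSystem.map_map (f := fun i j h => f i j h) hj' hk' x] at this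
    | smul c a _ ha =>
      obtain ⟨j, hj, w, hw, rfl⟩ := ha
      obtain ⟨j', c', rfl⟩ := Ring.DirectLimit.exists_of c
      obtain ⟨k, hk, hk'⟩ := exists_ge_ge j j'
      refine ⟨k, hj.trans hk, f j' k hk' c' * f j k hk w, Ideal.mul_mem_left _ _ ?_, ?_⟩
      · have := Ideal.mem_map_of_mem (f j k hk) hw
        rw [Ideal.map_map] at this
        rwa [show (f j k hk).comp (f i j hj) = f i k (hj.trans hk) from
          RingHom.ext fun x => DirectedSystem.map_map (f := fun i j h => f i j h) hj hk x] at this
      · rw [map_mul, hof, hof]; rfl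
  have hsurj : ∀ i (q : Ideal (G i)), q.IsPrime → ∃ P : Ideal R, P.IsPrime ∧ P.comap (o i) = q := by
    intro i q hq
    rw [← Ideal.comap_map_eq_self_iff_of_isPrime]
    refine le_antisymm (fun x hx => ?_) Ideal.le_comap_map
    obtain ⟨j, hj, w, hw, hwz⟩ := hlev i q _ hx
    have h0 : o j (w - f i j hj x) = 0 := by rw [map_sub, hwz, hof, sub_self]
    obtain ⟨k, hk, hk0⟩ := Ring.DirectLimit.of.zero_exact (f' := fun i j h => f i j h) h0
    rw [map_sub, sub_eq_zero] at hk0
    have h1 : f i k (hj.trans hk) x ∈ q.map (f i k (hj.trans hk)) := by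
      rw [show f i k (hj.trans hk) x = f j k hk (f i j hj x) from
        (DirectedSystem.map_map (f := fun i j h => f i j h) hj hk x).symm, ← hk0,
        show f i k (hj.trans hk) = (f j k hk).comp (f i j hj) from
          (RingHom.ext fun y => DirectedSystem.map_map (f := fun i j h => f i j h) hj hk y).symm,
        ← Ideal.map_map]
      exact Ideal.mem_map_of_mem _ hw
    have := hmap i k (hj.trans hk) q
    rw [← this]
    exact h1
  have hmin : ∀ i, ∀ P ∈ minimalPrimes R, P.comap (o i) ∈ minimalPrimes (G i) := by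
    intro i P hP
    haveI := hP.1.1
    refine ⟨⟨inferInstance, bot_le⟩, fun q hq hle => ?_⟩
    haveI := hq.1
    intro x hx
    obtain ⟨y, hy, n, hyn⟩ := exists_mul_pow_eq_zero hP hx
    obtain ⟨j, y', rfl⟩ := Ring.DirectLimit.exists_of y
    obtain ⟨k, hik, hjk⟩ := exists_ge_ge i j
    have h0 : o k (f j k hjk y' * f i k hik x ^ n) = 0 := by rw [map_mul, map_pow, hof, hof]; exact hyn
    obtain ⟨l, hkl, hl⟩ := Ring.DirectLimit.of.zero_exact (f' := fun i j h => f i j h) h0
    have hil := hik.trans hkl
    letI := (f i l hil).toAlgebra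
    haveI : Module.FaithfullyFlat (G i) (G l) := hf i l hil
    haveI : Algebra.HasGoingDown (G i) (G l) := Algebra.HasGoingDown.of_flat
    haveI : (P.comap (o l)).LiesOver (P.comap (o i)) := ⟨by
      ext z
      show o i z ∈ P ↔ o l (f i l hil z) ∈ P
      rw [hof]⟩
    obtain ⟨Q, hQle, hQp, hQo⟩ := (P.comap (o l)).exists_ideal_le_liesOver_of_le (p := q) (q := P.comap (o i)) hle
    have h3 : f k l hkl (f j k hjk y') * f k l hkl (f i k hik x) ^ n ∈ Q := by
      rw [← map_pow, ← map_mul, hl]; exact zero_mem _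
    rcases hQp.mem_or_mem h3 with h | h
    · exfalso
      have := hQle h
      rw [Ideal.mem_comap, hof, hof] at this
      exact hy this
    · have h4 := hQp.mem_of_pow_mem _ h
      rw [DirectedSystem.map_map (f := fun i j h => f i j h) hik hkl x] at h4
      rw [Ideal.LiesOver.over (P := Q) (p := q)]
      exact h4
  refine le_antisymm ?_ (iSup_le fun i => ?_)
  · refine ENat.forall_natCast_le_iff_le.1 fun n hn => ?_
    obtain ⟨T, hT, hTn⟩ := Set.exists_subset_encard_eq hn
    have hTfin : T.Finite := Set.finite_of_encard_eq_coe hTn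
    have key : ∀ S : Finset (Ideal R), ∃ i, Set.InjOn (fun P : Ideal R => P.comap (o i)) S := by
      intro S
      have hsep : ∀ d : Ideal R × Ideal R, ∃ i, d.1 ≠ d.2 → ∀ j, i ≤ j → d.1.comap (o j) ≠ d.2.comap (o j) := by
        intro d
        by_cases hd : d.1 = d.2
        · exact ⟨Classical.arbitrary ι, fun h => absurd hd h⟩
        obtain ⟨z, hz⟩ : ∃ z, ¬ (z ∈ d.1 ↔ z ∈ d.2) := by
          by_contra h; push Not at h; exact hd (Ideal.ext h)
        obtain ⟨i, z', rfl⟩ := Ring.DirectLimit.exists_of z
        refine ⟨i, fun _ j hij he => hz ?_⟩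
        rw [show Ring.DirectLimit.of G _ i z' = o j (f i j hij z') from (hof i j hij z').symm, ← Ideal.mem_comap,
          he, Ideal.mem_comap]
      choose g hg using hsep
      obtain ⟨i, hi⟩ := ((S ×ˢ S).image g).exists_le
      refine ⟨i, fun P hP Q hQ he => ?_⟩
      by_contra hne
      exact hg (P, Q) hne i (hi _ (Finset.mem_image.2 ⟨(P, Q), Finset.mem_product.2 ⟨hP, hQ⟩, rfl⟩)) he
    obtain ⟨i, hi⟩ := key hTfin.toFinset
    rw [Set.Finite.coe_toFinset] at hi
    refine le_iSup_of_le i ?_
    rw [← hTn, ← hi.encard_image]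
    exact Set.encard_le_encard (Set.image_subset_iff.2 fun P hP => hmin i P (hT hP))
  · refine le_trans (Set.encard_le_encard (t := (fun P : Ideal R => P.comap (o i)) '' minimalPrimes R) fun q hq => ?_)
      (Set.encard_image_le _ _)
    obtain ⟨P, hP, hPq⟩ := hsurj i q hq.1.1
    obtain ⟨P', hP', hle⟩ := Ideal.exists_minimalPrimes_le (I := (⊥ : Ideal R)) (J := P) bot_le
    refine ⟨P', hP', le_antisymm ?_ (hq.2 ⟨?_, bot_le⟩ ?_)⟩
    · exact (Ideal.comap_mono hle).trans hPq.le
    · haveI := hP'.1.1; infer_instance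
    · exact (Ideal.comap_mono hle).trans hPq.le

end Groth.Agent.S1409
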