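import Groth.Statements.S14091
import Mathlib
-- import your own Groth.Agent.* helpers here

set_option autoImplicit false
universe u
open ArSing

open Polynomial
namespace Groth.Agent.S14091

open Polynomial in
/-- Over an algebraically closed field k, a finite local k-algebra B whose cotangent space m/m^2 has
dimension at most one over the residue field is isomorphic, as a k-algebra, to k[t]/(t^n) with n =
dim_k B (curvilinear pointed algebras of degree n have a single isomorphism class). -/
theorem result (k B : Type u) [Field k] [IsAlgClosed k]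
    [CommRing B] [IsLocalRing B] [Algebra k B] [Module.Finite k B]
    (hcurv : Module.finrank (IsLocalRing.ResidueField B) (IsLocalRing.CotangentSpace B) ≤ 1) :
    Nonempty (B ≃ₐ[k] (Polynomial k ⧸ Ideal.span {(X : Polynomial k) ^ Module.finrank k B})) := by
  classical
  haveI : IsArtinianRing B := isArtinian_of_tower k inferInstance
  haveI : IsNoetherianRing B := inferInstance
  obtain ⟨π, hπ⟩ : ∃ π, IsLocalRing.maximalIdeal B = Ideal.span {π} :=
    (IsLocalRing.finrank_cotangentSpace_le_one_iff.1 hcurv).1
  obtain ⟨N, hN⟩ := IsArtinianRing.isNilpotent_jacobson_bot (R := B)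
  rw [IsLocalRing.jacobson_eq_maximalIdeal _ bot_ne_top, hπ, Ideal.span_singleton_pow, Ideal.zero_eq_bot, Ideal.span_singleton_eq_bot] at hN
  have hres : Function.Surjective (algebraMap k (IsLocalRing.ResidueField B)) := by
    haveI : Module.Finite k (IsLocalRing.ResidueField B) := Module.Finite.of_surjective (IsScalarTower.toAlgHom k B (IsLocalRing.ResidueField B)).toLinearMap IsLocalRing.residue_surjective
    exact (IsAlgClosed.algebraMap_bijective_of_isIntegral (k := k) (K := IsLocalRing.ResidueField B)).2
  have hstep : ∀ n, ∀ b : B, ∃ f : Polynomial k, ∃ b', b = Polynomial.aeval π f + π ^ n * b' := by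
    intro n
    induction n with
    | zero => exact fun b => ⟨0, b, by simp⟩
    | succ n ih =>
      intro b
      obtain ⟨f, b', rfl⟩ := ih b
      obtain ⟨c, hc⟩ := hres (IsLocalRing.residue B b')
      have h1 : b' - algebraMap k B c ∈ IsLocalRing.maximalIdeal B := by
        rw [← Ideal.Quotient.eq]
        exact hc.symm
      rw [hπ, Ideal.mem_span_singleton] at h1
      obtain ⟨d, hd⟩ := h1
      exact ⟨f + C c * X ^ n, d, by simp only [map_add, map_mul, map_pow, Polynomial.aeval_C, Polynomial.aeval_X]; linear_combination π ^ n * hd⟩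
  let φ : Polynomial k →ₐ[k] B := Polynomial.aeval π
  have hsurj : Function.Surjective φ := fun b => by
    obtain ⟨f, b', hb⟩ := hstep N b
    exact ⟨f, by rw [hb, hN, zero_mul, add_zero]⟩
  obtain ⟨g, hg⟩ := (IsPrincipalIdealRing.principal (RingHom.ker φ)).1
  have hdvd : g ∣ X ^ N := by
    have h0 : (X : Polynomial k) ^ N ∈ RingHom.ker φ := RingHom.mem_ker.2 (by rw [map_pow]; simp [φ, hN])
    rw [hg] at h0
    exact Ideal.mem_span_singleton.1 h0
  obtain ⟨j, -, hj⟩ := (dvd_prime_pow Polynomial.prime_X N).1 hdvd
  have hker : RingHom.ker φ = Ideal.span {(X : Polynomial k) ^ j} := by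
    rw [hg]; exact Ideal.span_singleton_eq_span_singleton.2 hj
  let e : (Polynomial k ⧸ Ideal.span {(X : Polynomial k) ^ j}) ≃ₐ[k] B :=
    (Ideal.quotientEquivAlgOfEq k hker.symm).trans (Ideal.quotientKerAlgEquivOfSurjective hsurj)
  have hrank : Module.finrank k B = j := by
    rw [← e.toLinearEquiv.finrank_eq, finrank_quotient_span_eq_natDegree, Polynomial.natDegree_X_pow]
  rw [hrank]
  exact ⟨e.symm⟩

end Groth.Agent.S14091
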