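import Groth.Statements.S14100
import Mathlib.Algebra.Homology.DerivedCategory.TStructure
import Mathlib.Algebra.Homology.DerivedCategory.FullyFaithful
import Mathlib.CategoryTheory.Triangulated.TStructure.TruncLTGE

set_option autoImplicit false
universe w v u
open DCoh

namespace Groth.Agent.S14100

open CategoryTheory Limits Pretriangulated DerivedCategory DerivedCategory.TStructure

variable {C : Type u} [Category.{v} C] [Abelian C] [HasDerivedCategory.{w} C]

theorem eq_zero_of_heart {X Y : DerivedCategory C} (f : X ⟶ Y) (a : ℤ) [X.IsGE a] [X.IsLE a]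
    [Y.IsGE a] [Y.IsLE a] (hf : (homologyFunctor C a).map f = 0) : f = 0 := by
  obtain ⟨A, ⟨eA⟩⟩ := exists_iso_singleFunctor_obj_of_isGE_of_isLE X a
  obtain ⟨B, ⟨eB⟩⟩ := exists_iso_singleFunctor_obj_of_isGE_of_isLE Y a
  obtain ⟨g, hg⟩ := (singleFunctor C a).map_surjective (eA.inv ≫ f ≫ eB.hom)
  have h0 : (homologyFunctor C a).map ((singleFunctor C a).map g) = 0 := by
    rw [hg, Functor.map_comp, Functor.map_comp, hf, zero_comp, comp_zero]
  have e := NatIso.naturality_1 (singleFunctorCompHomologyFunctorIso C a) g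
  have hg0 : g = 0 := by
    refine e.symm.trans ?_
    rw [Functor.comp_map, h0, zero_comp, comp_zero]
  rw [hg0, Functor.map_zero] at hg
  have : f = eA.hom ≫ (eA.inv ≫ f ≫ eB.hom) ≫ eB.inv := by simp
  rw [this, ← hg, zero_comp, comp_zero]

theorem exists_factor {X Y : DerivedCategory C} (f : X ⟶ Y) (b : ℤ) [X.IsLE b] [Y.IsLE b]
    (hf : (homologyFunctor C b).map f = 0) :
    ∃ g : X ⟶ (t.truncLT b).obj Y, g ≫ (t.truncLTι b).app Y = f := by
  haveI : ((t.truncGE b).obj X).IsGE b := inferInstanceAs (t.IsGE ((t.truncGE b).obj X) b)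
  haveI : ((t.truncGE b).obj Y).IsGE b := inferInstanceAs (t.IsGE ((t.truncGE b).obj Y) b)
  haveI : ((t.truncGE b).obj X).IsLE b := inferInstanceAs (t.IsLE ((t.truncGE b).obj X) b)
  haveI : ((t.truncGE b).obj Y).IsLE b := inferInstanceAs (t.IsLE ((t.truncGE b).obj Y) b)
  haveI : Epi ((homologyFunctor C b).map ((t.truncGEπ b).app X)) := by
    refine (HomologySequence.epi_homologyMap_mor₂_iff _ (t.triangleLTGE_distinguished b X) b (b + 1)).2 ?_
    haveI : ((t.truncLT b).obj X).IsLE (b - 1) := inferInstanceAs (t.IsLE ((t.truncLT b).obj X) (b - 1))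
    exact (isZero_of_isLE ((t.truncLT b).obj X) (b - 1) (b + 1) (by omega)).eq_of_tgt _ _
  have hπ : (t.truncGE b).map f = 0 := by
    refine eq_zero_of_heart _ b ?_
    rw [← cancel_epi ((homologyFunctor C b).map ((t.truncGEπ b).app X)), comp_zero, ← Functor.map_comp,
      t.truncGEπ_naturality b f, Functor.map_comp, hf, zero_comp]
  obtain ⟨g, hg⟩ := Triangle.coyoneda_exact₂ _ (t.triangleLTGE_distinguished b Y) f (by
    show f ≫ (t.truncGEπ b).app Y = 0
    rw [← t.truncGEπ_naturality b f, hπ, comp_zero])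
  exact ⟨g, hg.symm⟩

theorem map_ι_injective {X : DerivedCategory C} (b q : ℤ) (h : q ≤ b) :
    Mono ((homologyFunctor C q).map ((t.truncLTι b).app X)) := by
  refine (HomologySequence.mono_homologyMap_mor₁_iff _ (t.triangleLTGE_distinguished b X) (q - 1) q).2 ?_
  haveI : ((t.truncGE b).obj X).IsGE b := inferInstanceAs (t.IsGE ((t.truncGE b).obj X) b)
  exact (isZero_of_isGE ((t.truncGE b).obj X) b (q - 1) (by omega)).eq_of_src _ _

theorem main (n : ℕ) : ∀ (a : ℤ) (K : ℕ ⥤ DerivedCategory C)
    (_ : ∀ i : ℕ, i ≤ n + 1 → (K.obj i).IsGE a)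
    (_ : ∀ i : ℕ, i ≤ n + 1 → (K.obj i).IsLE (a + n))
    (_ : ∀ i : ℕ, i ≤ n → ∀ q : ℤ, (homologyFunctor C q).map (K.map (homOfLE (Nat.le_succ i))) = 0),
    K.map (homOfLE (Nat.zero_le (n + 1))) = 0 := by
  induction n with
  | zero =>
    intro a K hGE hLE hzero
    haveI := hGE 0 (by omega)
    haveI := hGE 1 le_rfl
    haveI : (K.obj 0).IsLE a := by simpa using hLE 0 (by omega)
    haveI : (K.obj 1).IsLE a := by simpa using hLE 1 le_rfl
    exact eq_zero_of_heart _ a (hzero 0 le_rfl a)
  | succ n ih =>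
    intro a K hGE hLE hzero
    let b : ℤ := a + n + 1
    have hb : a + ((n + 1 : ℕ) : ℤ) = b := by simp [b]; omega
    haveI : (K.obj 0).IsLE b := hb ▸ hLE 0 (by omega)
    haveI : (K.obj 1).IsLE b := hb ▸ hLE 1 (by omega)
    obtain ⟨g, hg⟩ := exists_factor (K.map (homOfLE (Nat.le_succ 0))) b (hzero 0 (by omega) b)
    let s : ℕ ⥤ ℕ := Monotone.functor (f := fun i => i + 1) (fun i j h => Nat.add_le_add_right h 1)
    let K' := s ⋙ K ⋙ t.truncLT b
    have h1 : ∀ i : ℕ, i ≤ n + 1 → (K'.obj i).IsGE a := fun i hi => by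
      haveI : t.IsGE (K.obj (i + 1)) a := hGE (i + 1) (by omega)
      exact inferInstanceAs (t.IsGE ((t.truncLT b).obj (K.obj (i + 1))) a)
    have h2 : ∀ i : ℕ, i ≤ n + 1 → (K'.obj i).IsLE (a + n) := fun i _ =>
      t.isLE_truncLT_obj (K.obj (i + 1)) b (a + n) (by omega)
    have h3 : ∀ i : ℕ, i ≤ n → ∀ q : ℤ, (homologyFunctor C q).map (K'.map (homOfLE (Nat.le_succ i))) = 0 := by
      intro i hi q
      by_cases hq : q ≤ b
      · haveI := map_ι_injective (X := K.obj (i + 1 + 1)) b q hq
        show (homologyFunctor C q).map ((t.truncLT b).map (K.map (homOfLE (Nat.le_succ (i + 1))))) = 0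
        rw [← cancel_mono ((homologyFunctor C q).map ((t.truncLTι b).app (K.obj (i + 1 + 1)))), zero_comp,
          ← Functor.map_comp]
        have := (t.truncLTι b).naturality (K.map (homOfLE (Nat.le_succ (i + 1))))
        show (homologyFunctor C q).map ((t.truncLT b).map (K.map (homOfLE (Nat.le_succ (i + 1)))) ≫ _) = 0
        rw [this, Functor.map_comp]
        show _ ≫ (homologyFunctor C q).map (K.map (homOfLE (Nat.le_succ (i + 1)))) = 0
        rw [hzero (i + 1) (by omega) q, comp_zero]
      · haveI := h2 (i + 1) (by omega)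
        exact (isZero_of_isLE (K'.obj (i + 1)) (a + n) q (by omega)).eq_of_tgt _ _
    have hK' := ih a K' h1 h2 h3
    have hnat := (t.truncLTι b).naturality (K.map (homOfLE (show 1 ≤ n + 1 + 1 by omega)))
    rw [← homOfLE_comp (show 0 ≤ 1 by omega) (show 1 ≤ n + 1 + 1 by omega), K.map_comp]
    rw [show K.map (homOfLE (show 0 ≤ 1 by omega)) = g ≫ (t.truncLTι b).app (K.obj 1) from hg.symm,
      Category.assoc]
    refine (congrArg (g ≫ ·) hnat.symm).trans ?_
    rw [show (t.truncLT b).map (K.map (homOfLE (show 1 ≤ n + 1 + 1 by omega))) = 0 from hK', zero_comp]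
    exact comp_zero

open CategoryTheory in
/-- Let C be an abelian category, a an integer and n a natural number, and let K_0 → K_1 → ⋯ → K_{n+1}
be composable morphisms in the derived category of C such that each K_i has cohomology concentrated
in degrees a, …, a+n and each map K_i → K_{i+1} induces zero on every cohomology object. Then the
composite K_0 → K_{n+1} is zero. (The chain is given as a functor from the ordered set of natural
numbers; only its values on 0, …, n+1 matter.) -/
theorem result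
    (C : Type u) [Category.{v} C] [Abelian C] [HasDerivedCategory.{w} C]
    (a : ℤ) (n : ℕ) (K : ℕ ⥤ DerivedCategory C)
    (hGE : ∀ i : ℕ, i ≤ n + 1 → (K.obj i).IsGE a)
    (hLE : ∀ i : ℕ, i ≤ n + 1 → (K.obj i).IsLE (a + n))
    (hzero : ∀ i : ℕ, i ≤ n → ∀ q : ℤ,
      (DerivedCategory.homologyFunctor C q).map (K.map (homOfLE (Nat.le_succ i))) = 0) :
    K.map (homOfLE (Nat.zero_le (n + 1))) = 0 := by
  exact main n a K hGE hLE hzero

end Groth.Agent.S14100
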