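import Groth.Statements.S14103
import Mathlib.AlgebraicGeometry.Fiber
import Groth.Agent.HensPair.CatFormula

set_option autoImplicit false
universe u
open CategoryTheory CategoryTheory.Limits AlgebraicGeometry Opposite TopologicalSpace
open CInt

namespace Groth.Agent.S14103

/-- Let f : X → S be a morphism of locally Noetherian schemes and Y a closed subset of X. The
codimension of Y in X relative to f, namely the infimum over the points y of Y of the Krull
dimension of the local ring at y of the fibre of f through y, is at most the codimension of Y in X,
the infimum over y ∈ Y of the Krull dimension of O_{X,y}. -/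
theorem result {X S : Scheme.{u}} [IsLocallyNoetherian X] [IsLocallyNoetherian S]
    (f : X ⟶ S) (Y : Set ↥X) (hY : IsClosed Y) :
    (⨅ y : Y, ringKrullDim ↑(CInt.fiberStalk f y.1)) ≤ ⨅ y : Y, ringKrullDim ↑(X.presheaf.stalk y.1) := by
  refine le_iInf fun y => iInf_le_of_le y ?_
  rw [ringKrullDim_stalk_eq_coheight, ringKrullDim_stalk_eq_coheight]
  refine WithBot.coe_le_coe.mpr ?_
  let e := f.fiberι (f.base y.1)
  have hmono : StrictMono fun a => e a := fun a b hab => by
    refine lt_of_le_not_ge (e.isEmbedding.isInducing.specializes_iff.mpr hab.le) fun h => ?_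
    exact hab.not_ge (e.isEmbedding.isInducing.specializes_iff.mp h)
  refine (Order.coheight_le_coheight_apply_of_strictMono _ hmono (f.asFiber y.1)).trans ?_
  show Order.coheight (e (f.asFiber y.1)) ≤ _
  rw [show e (f.asFiber y.1) = y.1 from f.fiberι_asFiber y.1]

end Groth.Agent.S14103
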