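import Groth.Statements.S14106
import Groth.Agent.HensPair.SmoothDim
import Groth.Agent.HensPair.CatFormula
import Groth.Agent.HensPair.EquidimStalk
import Groth.Agent.S14103

set_option autoImplicit false
universe u
open CategoryTheory CategoryTheory.Limits AlgebraicGeometry Opposite TopologicalSpace
open CInt

namespace Groth.Agent.S14106

/-- Let S be a locally Noetherian scheme, f : X → S a smooth morphism and i : Y → X a closed immersion
whose composite with f is smooth. Then the codimension of the image of i relative to f (the infimum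
over its points y of the Krull dimension of the local ring at y of the fibre of f through y) equals
its codimension in X (the infimum over the same points of the Krull dimension of O_{X,y}). -/
theorem result {X Y S : Scheme.{u}} [IsLocallyNoetherian X]
    [IsLocallyNoetherian S] (f : X ⟶ S) [Smooth f] (i : Y ⟶ X) [IsClosedImmersion i] [Smooth (i ≫ f)] :
    (⨅ y : Set.range i.base, ringKrullDim ↑(CInt.fiberStalk f y.1)) =
      ⨅ y : Set.range i.base, ringKrullDim ↑(X.presheaf.stalk y.1) := by
  open Groth.Agent.HensPair in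
  refine le_antisymm (Groth.Agent.S14103.result f (Set.range i.base) i.isClosedEmbedding.isClosed_range) (le_iInf ?_)
  rintro ⟨_, a, rfl⟩
  let j := i ≫ f
  obtain ⟨η, hηa, hηmax⟩ := Groth.Agent.Equidim.AffineCrit.exists_maximal_above a
  obtain ⟨n, V, hiaV, hV⟩ := SmoothDim.exists_const_nhd f (i a)
  obtain ⟨e, W, haW, hW⟩ := SmoothDim.exists_const_nhd j a
  have hjmax : ∀ s : S, s ⤳ f (i η) → s = f (i η) := fun s hs => by
    obtain ⟨p, hp, hps⟩ := Flat.generalizingMap j (show s ⤳ j η from hs)
    rw [← hps, hηmax p hp]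
    rfl
  obtain ⟨m, d, k, hm, hd, hk, hle, he⟩ := CatFormula.dims f (i η)
  obtain ⟨m', d', k', -, -, hk', -, he'⟩ := CatFormula.dims f (i a)
  rw [hV _ ((hηa.map i.continuous).mem_open V.isOpen hiaV)] at he
  rw [hV _ hiaV] at he'
  have hTη : FlatMor.fibreDimAt j η = (FibreTrdeg.T j η : ℕ) :=
    FibreTrdeg.fibreDimAt_eq_T_of_maximal j η fun p _ hp => hηmax p (specializes_iff_mem_closure.mpr hp)
  rw [hW η (hηa.mem_open W.isOpen haW), EquidimStalk.T_comp i f η] at hTη
  have hTa := FibreTrdeg.T_le_fibreDimAt j a
  rw [hW a haW, EquidimStalk.T_comp i f a] at hTa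
  have h1 : n = k + FibreTrdeg.T f (i η) := by exact_mod_cast he
  have h2 : n = k' + FibreTrdeg.T f (i a) := by exact_mod_cast he'
  have h3 : e = FibreTrdeg.T f (i η) := by exact_mod_cast hTη
  have h4 : FibreTrdeg.T f (i a) ≤ e := by exact_mod_cast hTa
  have h5 : d = 0 := by
    rw [ringKrullDim_stalk_eq_coheight, Order.coheight_eq_zero.mpr fun s hs => le_of_eq (hjmax s hs)] at hd
    exact_mod_cast hd.symm
  refine iInf_le_of_le ⟨i η, η, rfl⟩ ?_
  show ringKrullDim _ ≤ ringKrullDim _
  rw [hm]
  refine le_of_le_of_eq (Nat.cast_le.mpr (by omega : m ≤ k')) hk'.symm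

end Groth.Agent.S14106
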