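import Groth.Statements.S1412
import Groth.Agent.FlatMor.AbsFlat

set_option autoImplicit false
universe u
open FlatMor

namespace Groth.Agent.S1412

open AlgebraicGeometry CategoryTheory Limits in
/-- A morphism of schemes f : X → Y is weakly étale (flat with flat diagonal) if and only if for every
point x of X the local ring map O_{Y, f(x)} → O_{X, x} is weakly étale, that is, flat and with flat
multiplication map O_{X,x} ⊗_{O_{Y, f(x)}} O_{X,x} → O_{X,x}. -/
theorem result {X Y : Scheme.{u}} (f : X ⟶ Y) :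
    WeaklyEtale f ↔ ∀ x : X, (f.stalkMap x).hom.Flat ∧
      (letI := (f.stalkMap x).hom.toAlgebra
       (Algebra.TensorProduct.lmul' (S := ↑(X.presheaf.stalk x)) (↑(Y.presheaf.stalk (f x)))).toRingHom.Flat) := by
  have hflatStalk : ∀ {Z : Scheme.{u}} (z : Z), Flat (Z.fromSpecStalk z) := fun {Z} z => by
    obtain ⟨U, hU, hz, -⟩ := exists_isAffineOpen_mem_and_subset (U := ⊤) (TopologicalSpace.Opens.mem_top z)
    rw [← hU.fromSpecStalk_eq_fromSpecStalk hz, IsAffineOpen.fromSpecStalk]
    haveI : Flat (Spec.map (Z.presheaf.germ U z hz)) := by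
      rw [HasRingHomProperty.Spec_iff (P := @Flat)]
      letI := Z.presheaf.algebra_section_stalk ⟨z, hz⟩
      haveI := hU.isLocalization_stalk ⟨z, hz⟩
      exact (IsLocalization.flat (Z.presheaf.stalk z)
        (hU.primeIdealOf ⟨z, hz⟩).asIdeal.primeCompl : Module.Flat Γ(Z, U) (Z.presheaf.stalk z))
    infer_instance
  refine ⟨fun h x => ?_, fun h => ?_⟩
  · haveI := hflatStalk (f x)
    haveI := hflatStalk x
    haveI : WeaklyEtale (Y.fromSpecStalk (f x)) := {}
    haveI : WeaklyEtale (X.fromSpecStalk x) := {}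
    haveI : WeaklyEtale (Spec.map (f.stalkMap x) ≫ Y.fromSpecStalk (f x)) := by
      rw [Scheme.SpecMap_stalkMap_fromSpecStalk]; infer_instance
    haveI := WeaklyEtale.of_comp (Spec.map (f.stalkMap x)) (Y.fromSpecStalk (f x))
    have hA := Groth.Agent.FlatMor.AbsFlat.weaklyEtale_of_scheme (f.stalkMap x)
    exact ⟨hA.flat, hA.flat_lmul'⟩
  · haveI hf : Flat f := (Flat.iff_flat_stalkMap f).mpr fun x => (h x).1
    refine ⟨hf, (Flat.iff_flat_stalkMap _).mpr fun x => ?_⟩
    let s := Spec.map (f.stalkMap x)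
    let t := Y.fromSpecStalk (f x)
    let a := X.fromSpecStalk x
    have hst : s ≫ t = a ≫ f := Scheme.SpecMap_stalkMap_fromSpecStalk f
    haveI : WeaklyEtale s := Groth.Agent.FlatMor.AbsFlat.weaklyEtale_SpecMap _
      (letI := (f.stalkMap x).hom.toAlgebra; ⟨(h x).1, (h x).2⟩)
    haveI : Flat a := hflatStalk x
    let i := pullback.map s s (s ≫ t) (s ≫ t) (𝟙 _) (𝟙 _) t (by simp) (by simp)
    haveI : IsIso i := by
      refine ⟨pullback.lift (pullback.fst _ _) (pullback.snd _ _) ?_, ?_, ?_⟩
      · rw [← cancel_mono t, Category.assoc, Category.assoc]; exact pullback.condition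
      · apply pullback.hom_ext <;> simp [i, pullback.lift_fst, pullback.lift_snd, pullback.lift_fst_assoc, pullback.lift_snd_assoc]
      · apply pullback.hom_ext <;> simp [i, pullback.lift_fst, pullback.lift_snd, pullback.lift_fst_assoc, pullback.lift_snd_assoc]
    let j := pullback.map (s ≫ t) (s ≫ t) f f a a (𝟙 _)
      ((Category.comp_id _).trans hst) ((Category.comp_id _).trans hst)
    haveI : Flat j := MorphismProperty.pullbackMap (P := @Flat) ‹Flat a› ‹Flat a› hst hst
    have hsq : pullback.diagonal s ≫ i ≫ j = a ≫ pullback.diagonal f := by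
      apply pullback.hom_ext <;>
        simp [i, j, pullback.lift_fst, pullback.lift_snd, pullback.lift_fst_assoc, pullback.lift_snd_assoc]
    haveI : Flat (a ≫ pullback.diagonal f) := hsq ▸ inferInstance
    let p : ↥(Spec (X.presheaf.stalk x)) := IsLocalRing.closedPoint (X.presheaf.stalk x)
    have hp : a p = x := Scheme.fromSpecStalk_closedPoint
    have h2 := Flat.stalkMap (a ≫ pullback.diagonal f) p
    rw [Scheme.Hom.stalkMap_comp] at h2
    replace h2 : RingHom.Flat ((a.stalkMap p).hom.comp ((pullback.diagonal f).stalkMap (a p)).hom) := h2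
    have h3 := Flat.stalkMap a p
    rw [← hp]
    algebraize [(a.stalkMap p).hom, ((pullback.diagonal f).stalkMap (a p)).hom,
      (a.stalkMap p).hom.comp ((pullback.diagonal f).stalkMap (a p)).hom]
    haveI : IsLocalHom (algebraMap ↑(X.presheaf.stalk (a p)) ↑((Spec (X.presheaf.stalk x)).presheaf.stalk p)) :=
      inferInstanceAs (IsLocalHom (a.stalkMap p).hom)
    haveI := Module.FaithfullyFlat.of_flat_of_isLocalHom (A := ↑(X.presheaf.stalk (a p)))
      (B := ↑((Spec (X.presheaf.stalk x)).presheaf.stalk p))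
    exact Groth.Agent.FlatMor.AbsFlat.flat_of_faithfullyFlat_comp _ _
      ↑((Spec (X.presheaf.stalk x)).presheaf.stalk p)

end Groth.Agent.S1412
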