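import Groth.Statements.S14128
import Groth.Agent.RegularLocal.Basic
import Mathlib.RingTheory.Regular.RegularSequence
import Mathlib.Algebra.Homology.ShortComplex.ModuleCat
import Mathlib.RingTheory.FiniteLength
import Mathlib.RingTheory.Flat.Basic
import Mathlib.RingTheory.Nakayama

set_option autoImplicit false
universe u
open CategoryTheory CategoryTheory.Limits
open LocAlg

namespace Groth.Agent.S14128


open Pointwise

theorem exists_pow_smul_mem {R : Type u} [CommRing R] [IsLocalRing R]
    (S : ShortComplex (ModuleCat.{u} R)) (hfl : IsFiniteLength R S.homology) {x : R}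
    (hx : x ∈ IsLocalRing.maximalIdeal R) (z : S.X₂) (hz : S.g.hom z = 0) :
    ∃ N y, x ^ N • z = S.f.hom y := by
  let H := LinearMap.ker S.g.hom ⧸ LinearMap.range S.moduleCatToCycles
  have hH : IsFiniteLength R H := LinearEquiv.isFiniteLength S.moduleCatHomologyIso.toLinearEquiv hfl
  obtain ⟨hN, hA⟩ := isFiniteLength_iff_isNoetherian_isArtinian.mp hH
  let f : ℕ →o (Submodule R H)ᵒᵈ := ⟨fun n => OrderDual.toDual (x ^ n • (⊤ : Submodule R H)), fun a b hab => by
    show (x ^ b • (⊤ : Submodule R H)) ≤ x ^ a • ⊤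
    obtain ⟨c, rfl⟩ := Nat.exists_eq_add_of_le hab
    rw [pow_add, mul_smul]
    exact smul_mono_right _ le_top⟩
  obtain ⟨n, hn⟩ := IsArtinian.monotone_stabilizes f
  have h1 : (x ^ n • ⊤ : Submodule R H) = x ^ (n + 1) • ⊤ := hn (n + 1) (Nat.le_add_right n 1)
  have h2 : (x ^ n • ⊤ : Submodule R H) = ⊥ := by
    refine Submodule.eq_bot_of_le_smul_of_le_jacobson_bot (Ideal.span {x}) _ (IsNoetherian.noetherian _) ?_
      (by rw [IsLocalRing.jacobson_eq_maximalIdeal ⊥ bot_ne_top, Ideal.span_singleton_le_iff_mem]; exact hx)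
    rw [Submodule.ideal_span_singleton_smul, ← mul_smul, ← pow_succ', ← h1]
  have h3 : x ^ n • (Submodule.Quotient.mk (⟨z, hz⟩ : LinearMap.ker S.g.hom) : H) ∈
      (x ^ n • ⊤ : Submodule R H) := Submodule.smul_mem_pointwise_smul _ _ _ Submodule.mem_top
  rw [h2, Submodule.mem_bot, ← Submodule.Quotient.mk_smul, Submodule.Quotient.mk_eq_zero] at h3
  obtain ⟨y, hy⟩ := h3
  exact ⟨n, y, (congrArg Subtype.val hy).symm⟩

theorem smul_right {R : Type u} [CommRing R] {A B : Type u} [AddCommGroup A] [Module R A]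
    [AddCommGroup B] [Module R B] (f : A →ₗ[R] B) (g : B → Prop) (x : R)
    (hg : ∀ b, g (x • b) → g b) (hstep : ∀ b, g b → ∀ a, x • b = f a → ∃ a', b = f a')
    (N : ℕ) : ∀ b, g b → (∀ c, g c → ∀ r : R, g (r • c)) → ∀ a, x ^ N • b = f a → ∃ a', b = f a' := by
  induction N with
  | zero => intro b _ _ a ha; exact ⟨a, by rwa [pow_zero, one_smul] at ha⟩
  | succ N ih =>
    intro b hb hlin a ha
    rw [pow_succ', mul_smul] at ha
    obtain ⟨a', ha'⟩ := hstep (x ^ N • b) (hlin b hb _) a ha
    exact ih b hb hlin a' ha'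

theorem exact_of_kill {R : Type u} [CommRing R] {rs : List R} :
    ∀ (F : ℕ → Type u) [∀ i, AddCommGroup (F i)] [∀ i, Module R (F i)] (d : ∀ i, F i →ₗ[R] F (i + 1)),
      (∀ i z, d (i + 1) (d i z) = 0) → (∀ i, RingTheory.Sequence.IsWeaklyRegular (F i) rs) →
      (∀ x ∈ rs, ∀ z, d 0 z = 0 → ∃ N : ℕ, x ^ N • z = 0) →
      (∀ x ∈ rs, ∀ i z, d (i + 1) z = 0 → ∃ (N : ℕ) (y : F i), x ^ N • z = d i y) →
      (0 < rs.length → ∀ z, d 0 z = 0 → z = 0) ∧
        ∀ i, i + 1 < rs.length → ∀ z, d (i + 1) z = 0 → ∃ y, d i y = z := by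
  induction rs with
  | nil => intros; simp
  | cons x rs ih =>
    intro F _ _ d hd hreg hk0 hk
    have hx : ∀ i, IsSMulRegular (F i) x := fun i => ((RingTheory.Sequence.isWeaklyRegular_cons_iff _ x rs).mp (hreg i)).1
    have hmk : ∀ i (z : F i), (Submodule.Quotient.mk z : QuotSMulTop x (F i)) = 0 → ∃ t, x • t = z := by
      intro i z hz
      rw [Submodule.Quotient.mk_eq_zero, Submodule.mem_smul_pointwise_iff_exists] at hz
      obtain ⟨t, _, ht⟩ := hz
      exact ⟨t, ht⟩
    have hmk' : ∀ i (t : F i), (Submodule.Quotient.mk (x • t) : QuotSMulTop x (F i)) = 0 := fun i t =>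
      (Submodule.Quotient.mk_eq_zero _).mpr (Submodule.smul_mem_pointwise_smul t x _ Submodule.mem_top)
    have hcyc : ∀ i (w : F (i + 1)) (z : F i), d i z = x • w → d (i + 1) w = 0 := fun i w z h =>
      hx _ (show x • d (i + 1) w = x • 0 by rw [← map_smul, ← h, hd, smul_zero])
    obtain ⟨g0, gs⟩ := ih (fun i => QuotSMulTop x (F i)) (fun i => QuotSMulTop.map x (d i))
      (fun i z => by
        obtain ⟨z, rfl⟩ := Submodule.mkQ_surjective _ z
        rw [Submodule.mkQ_apply, QuotSMulTop.map_apply_mk, QuotSMulTop.map_apply_mk, hd, Submodule.Quotient.mk_zero])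
      (fun i => ((RingTheory.Sequence.isWeaklyRegular_cons_iff _ x rs).mp (hreg i)).2)
      (fun y hy z hz => by
        obtain ⟨z, rfl⟩ := Submodule.mkQ_surjective _ z
        rw [Submodule.mkQ_apply, QuotSMulTop.map_apply_mk] at hz
        obtain ⟨w, hw⟩ := hmk _ _ hz
        obtain ⟨N, v, hv⟩ := hk y (List.mem_cons_of_mem _ hy) 0 w (hcyc 0 w z hw.symm)
        obtain ⟨M, hM⟩ := hk0 y (List.mem_cons_of_mem _ hy) (y ^ N • z - x • v) (by
          rw [map_sub, map_smul, map_smul, ← hw, smul_comm, hv, sub_self])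
        refine ⟨M + N, ?_⟩
        rw [smul_sub, sub_eq_zero, ← mul_smul, ← pow_add, smul_comm] at hM
        rw [Submodule.mkQ_apply, ← Submodule.Quotient.mk_smul, hM]
        exact hmk' _ _)
      (fun y hy i z hz => by
        obtain ⟨z, rfl⟩ := Submodule.mkQ_surjective _ z
        rw [Submodule.mkQ_apply, QuotSMulTop.map_apply_mk] at hz
        obtain ⟨w, hw⟩ := hmk _ _ hz
        obtain ⟨N, v, hv⟩ := hk y (List.mem_cons_of_mem _ hy) (i + 1) w (hcyc (i + 1) w z hw.symm)
        obtain ⟨M, u', hM⟩ := hk y (List.mem_cons_of_mem _ hy) i (y ^ N • z - x • v) (by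
          rw [map_sub, map_smul, map_smul, ← hw, smul_comm, hv, sub_self])
        refine ⟨M + N, Submodule.Quotient.mk u', ?_⟩
        rw [smul_sub, sub_eq_iff_eq_add, ← mul_smul, ← pow_add, smul_comm (y ^ M) x v] at hM
        rw [Submodule.mkQ_apply, ← Submodule.Quotient.mk_smul, hM, QuotSMulTop.map_apply_mk,
          Submodule.Quotient.mk_add, hmk', add_zero])
    refine ⟨fun _ z hz => ?_, fun i hi z hz => ?_⟩
    · obtain ⟨N, hN⟩ := hk0 x List.mem_cons_self z hz
      exact (hx 0).pow N (hN.trans (smul_zero _).symm)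
    · have hstep : ∀ w, d (i + 1) w = 0 → ∀ a, x • w = d i a → ∃ a', w = d i a' := by
        intro w _ a ha
        have hz' : QuotSMulTop.map x (d i) (Submodule.Quotient.mk a) = 0 := by
          rw [QuotSMulTop.map_apply_mk, ← ha, hmk']
        simp only [List.length_cons] at hi
        cases i with
        | zero =>
          obtain ⟨t, ht⟩ := hmk _ _ (g0 (by omega) _ hz')
          exact ⟨t, hx _ (by show x • w = x • d 0 t; rw [ha, ← map_smul, ht])⟩
        | succ j =>
          obtain ⟨ub, hu⟩ := gs j (by omega) _ hz'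
          obtain ⟨u', rfl⟩ := Submodule.mkQ_surjective _ ub
          rw [Submodule.mkQ_apply, QuotSMulTop.map_apply_mk, eq_comm, Submodule.Quotient.eq,
            ← Submodule.Quotient.mk_eq_zero] at hu
          obtain ⟨t, ht⟩ := hmk _ _ hu
          refine ⟨t, hx _ (show x • w = x • d (j + 1) t from ?_)⟩
          rw [ha, ← map_smul, ht, map_sub, hd, sub_zero]
      obtain ⟨N, y, hy⟩ := hk x List.mem_cons_self i z hz
      obtain ⟨a', ha'⟩ := smul_right (d i) (fun b => d (i + 1) b = 0) x
        (fun b hb => hx _ (show x • d (i + 1) b = x • 0 by rw [← map_smul, hb, smul_zero])) hstep N z hz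
        (fun c hc r => by rw [map_smul, hc, smul_zero]) y hy
      exact ⟨a', ha'.symm⟩

/-- Let R be a regular local ring of Krull dimension g and M = (M^0 → M^1 → ⋯ → M^g) a perfect complex
over R, here a cochain complex of finitely generated free R-modules indexed by ℕ with M^i = 0 for i
> g, such that every cohomology module H^i(M) has finite length. Then H^i(M) = 0 for all i < g, so
that M has cohomology at most in degree g. -/
theorem result (R : Type u) [CommRing R]
    [IsRegularLocalRing R] (g : ℕ) (hg : ringKrullDim R = g) (M : CochainComplex (ModuleCat.{u} R) ℕ)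
    (hbd : ∀ i, g < i → IsZero (M.X i)) (hfree : ∀ i, Module.Free R (M.X i) ∧ Module.Finite R (M.X i))
    (hfl : ∀ i, IsFiniteLength R (M.homology i)) (i : ℕ) (hi : i < g) :
    IsZero (M.homology i) := by
  obtain ⟨l, hlen, hl⟩ := RegularLocal.Basic.exists_list_of_fg
    (IsNoetherian.noetherian (IsLocalRing.maximalIdeal R))
  have hlg : l.length = g := by
    have h := (isRegularLocalRing_iff R).mp inferInstance
    rw [hg, ← hlen] at h
    exact_mod_cast h
  have hreg : RingTheory.Sequence.IsWeaklyRegular R l :=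
    (RegularLocal.Basic.isRegular_of_generators l hl hlen.le).1
  have hregF : ∀ j, RingTheory.Sequence.IsWeaklyRegular (M.X j) l := fun j => by
    haveI := (hfree j).1
    exact ((TensorProduct.rid R (M.X j)).isWeaklyRegular_congr l).mp hreg.isWeaklyRegular_lTensor
  have hd : ∀ j z, (M.d (j + 1) (j + 1 + 1)).hom ((M.d j (j + 1)).hom z) = 0 := fun j z => by
    rw [← LinearMap.comp_apply, ← ModuleCat.hom_comp, M.d_comp_d]; rfl
  have hmem : ∀ x ∈ l, x ∈ IsLocalRing.maximalIdeal R := fun x hx => hl ▸ Ideal.subset_span hx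
  obtain ⟨h0, hs⟩ := exact_of_kill (rs := l) (fun j => M.X j) (fun j => (M.d j (j + 1)).hom) hd hregF
    (fun x hx z hz => by
      have hp : (ComplexShape.up ℕ).prev 0 = 0 := CochainComplex.prev_nat_zero
      obtain ⟨N, y, hy⟩ := exists_pow_smul_mem (M.sc' 0 0 1)
        ((LinearEquiv.isFiniteLength (M.homologyIsoSc' 0 0 1 hp (by simp)).toLinearEquiv (hfl 0))) (hmem x hx) z hz
      refine ⟨N, hy.trans ?_⟩
      show (M.d 0 0).hom y = 0
      rw [M.shape 0 0 (by simp)]; rfl)
    (fun x hx j z hz => exists_pow_smul_mem (M.sc' j (j + 1) (j + 1 + 1))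
      ((LinearEquiv.isFiniteLength (M.homologyIsoSc' j (j + 1) (j + 1 + 1) (by simp) (by simp)).toLinearEquiv
        (hfl (j + 1)))) (hmem x hx) z hz)
  rw [← M.exactAt_iff_isZero_homology]
  cases i with
  | zero =>
    rw [M.exactAt_iff' 0 0 1 CochainComplex.prev_nat_zero (by simp), ShortComplex.moduleCat_exact_iff]
    intro z hz
    exact ⟨0, (map_zero _).trans (h0 (hlg ▸ hi) z hz).symm⟩
  | succ j =>
    rw [M.exactAt_iff' j (j + 1) (j + 1 + 1) (by simp) (by simp), ShortComplex.moduleCat_exact_iff]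
    exact fun z hz => hs j (hlg ▸ hi) z hz

end Groth.Agent.S14128
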