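import Groth.Statements.S1413
import Groth.Agent.FlatMor.AbsFlat

set_option autoImplicit false
universe u
open FlatMor

namespace Groth.Agent.S1413

open AlgebraicGeometry CategoryTheory Limits in
/-- Let X → Y → Z be morphisms with X → Y flat and surjective and with the diagonal of X over Z flat.
Then the diagonal of Y over Z is flat. -/
theorem result {X Y Z : Scheme.{u}} (f : X ⟶ Y) (g : Y ⟶ Z) [Flat f] [Surjective f] [Flat (pullback.diagonal (f ≫ g))] :
    Flat (pullback.diagonal g) := by
  let ff := pullback.map (f ≫ g) (f ≫ g) g g f f (𝟙 Z) (by simp) (by simp)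
  have hsq : pullback.diagonal (f ≫ g) ≫ ff = f ≫ pullback.diagonal g := by
    apply pullback.hom_ext <;> simp [ff, pullback.lift_fst, pullback.lift_snd, pullback.lift_fst_assoc, pullback.lift_snd_assoc]
  haveI : Flat ff := MorphismProperty.pullbackMap (P := @Flat) ‹Flat f› ‹Flat f› rfl rfl
  haveI h1 : Flat (f ≫ pullback.diagonal g) := hsq ▸ inferInstance
  refine (Flat.iff_flat_stalkMap _).mpr fun y => ?_
  obtain ⟨x, rfl⟩ := f.surjective y
  have h2 := Flat.stalkMap (f ≫ pullback.diagonal g) x
  rw [Scheme.Hom.stalkMap_comp] at h2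
  replace h2 : RingHom.Flat ((f.stalkMap x).hom.comp ((pullback.diagonal g).stalkMap (f x)).hom) := h2
  have h3 := Flat.stalkMap f x
  algebraize [(f.stalkMap x).hom, ((pullback.diagonal g).stalkMap (f x)).hom,
    (f.stalkMap x).hom.comp ((pullback.diagonal g).stalkMap (f x)).hom]
  haveI : IsLocalHom (algebraMap ↑(Y.presheaf.stalk (f x)) ↑(X.presheaf.stalk x)) :=
    inferInstanceAs (IsLocalHom (f.stalkMap x).hom)
  haveI := Module.FaithfullyFlat.of_flat_of_isLocalHom (A := ↑(Y.presheaf.stalk (f x)))
    (B := ↑(X.presheaf.stalk x))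
  exact Groth.Agent.FlatMor.AbsFlat.flat_of_faithfullyFlat_comp _ _ ↑(X.presheaf.stalk x)

end Groth.Agent.S1413
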