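import Groth.Statements.S14175
import Mathlib

set_option autoImplicit false
universe u v w
open GalCoh

namespace Groth.Agent.S14175

/-- Let G be a finite cyclic group generated by t, let m be a natural number dividing the order of G,
and let ρ be a linear representation of G on a module V over a commutative ring k such that m·V = 0
and every element of G whose m-th power is the identity acts trivially on V. Then evaluating a
crossed homomorphism at t induces a bijection from the first cohomology of G with values in V
(crossed homomorphisms f, i.e. f(gh) = ρ(g)f(h) + f(g), modulo the principal ones g ↦ ρ(g)x − x)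
onto the coinvariants V_G (the quotient of V by the span of all ρ(g)v − v): the class of f(t) in V_G
vanishes exactly when f is principal, and every class of V_G is the class of f(t) for some crossed
homomorphism f. The bijection depends on the choice of the generator t. -/
theorem result
    {k : Type u} {G : Type v} {V : Type w} [CommRing k] [Group G] [Finite G]
    [AddCommGroup V] [Module k V] (ρ : Representation k G V)
    (t : G) (ht : ∀ g : G, g ∈ Subgroup.zpowers t)
    (m : ℕ) (hm : m ∣ Nat.card G) (htors : ∀ v : V, m • v = 0)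
    (htriv : ∀ g : G, g ^ m = 1 → ∀ v : V, ρ g v = v) :
    (∀ f : G → V, (∀ g h : G, f (g * h) = ρ g (f h) + f g) →
        (Representation.Coinvariants.mk ρ (f t) = 0 ↔ ∃ x : V, ∀ g : G, f g = ρ g x - x)) ∧
    (∀ v : V, ∃ f : G → V, (∀ g h : G, f (g * h) = ρ g (f h) + f g) ∧
        Representation.Coinvariants.mk ρ (f t) = Representation.Coinvariants.mk ρ v) := by
  obtain ⟨q, hq⟩ := hm
  have hn : orderOf t = Nat.card G := orderOf_eq_card_of_forall_mem_zpowers ht
  have hpow : ∀ g : G, ∃ i : ℕ, t ^ i = g := fun g => by
    have h1 : g ∈ Submonoid.powers t :=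
      (mem_powers_iff_mem_zpowers).2 (ht g)
    exact h1
  have hmul : ∀ (g h : G) (x : V), ρ (g * h) x = ρ g (ρ h x) := fun g h x => by
    rw [map_mul]; rfl
  have hone : ∀ x : V, ρ 1 x = x := fun x => by rw [map_one]; rfl
  refine ⟨fun f hf => ⟨fun h0 => ?_, ?_⟩, fun v => ?_⟩
  · have hmem := (Representation.Coinvariants.mk_eq_zero ρ).1 h0
    have hrange : Representation.Coinvariants.ker ρ ≤ LinearMap.range (ρ t - LinearMap.id) := by
      refine Submodule.span_le.2 ?_
      rintro _ ⟨⟨g, x⟩, rfl⟩
      obtain ⟨i, rfl⟩ := hpow g
      induction i with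
      | zero => exact ⟨0, by simp⟩
      | succ i ih =>
        obtain ⟨y, hy⟩ := ih
        refine ⟨ρ (t ^ i) x + y, ?_⟩
        simp only [LinearMap.sub_apply, LinearMap.id_coe, id_eq] at hy ⊢
        rw [map_add, ← hmul, ← pow_succ']
        have : ρ t y = y + (ρ (t ^ i) x - x) := by rw [← hy]; abel
        rw [this]; abel
    obtain ⟨x, hx⟩ := hrange hmem
    simp only [LinearMap.sub_apply, LinearMap.id_coe, id_eq] at hx
    refine ⟨x, fun g => ?_⟩
    obtain ⟨i, rfl⟩ := hpow g
    induction i with
    | zero =>
      have h := hf 1 1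
      rw [mul_one, hone] at h
      have h' : f 1 = 0 := by
        have := h
        exact left_eq_add.1 (h.trans (add_comm _ _))
      rw [pow_zero, h', hone, sub_self]
    | succ i ih =>
      rw [pow_succ', hf, ih, ← hx, map_sub, hmul]
      abel
  · rintro ⟨x, hx⟩
    rw [hx t]
    exact (Representation.Coinvariants.mk_eq_zero ρ).2
      (Representation.Coinvariants.sub_mem_ker t x)
  · let S : ℕ → V := fun i => ∑ j ∈ Finset.range i, ρ (t ^ j) v
    have hS : ∀ a b : ℕ, S (a + b) = S a + ρ (t ^ a) (S b) := fun a b => by
      simp only [S, Finset.sum_range_add, map_sum, pow_add, hmul]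
    have htq : ∀ x : V, ρ (t ^ q) x = x := fun x => htriv _ (by
      rw [← pow_mul, mul_comm, ← hq, ← hn, pow_orderOf_eq_one]) x
    have hSq : ∀ j : ℕ, S (q * j) = j • S q := fun j => by
      induction j with
      | zero => simp [S]
      | succ j ih =>
        have hfix : ∀ y : V, ρ (t ^ (q * j)) y = y := fun y => htriv _ (by
          rw [← pow_mul, mul_assoc, mul_comm j m, ← mul_assoc, mul_comm q m, ← hq, pow_mul,
            ← hn, pow_orderOf_eq_one, one_pow]) y
        rw [Nat.mul_succ, hS, ih, hfix, succ_nsmul]
    have hSn : S (Nat.card G) = 0 := by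
      rw [hq, mul_comm, hSq, htors]
    have hSmul : ∀ j : ℕ, S (orderOf t * j) = 0 := fun j => by
      induction j with
      | zero => simp [S]
      | succ j ih => rw [Nat.mul_succ, hS, ih, hn, hSn, map_zero, add_zero]
    have hSmod : ∀ a : ℕ, S a = S (a % orderOf t) := fun a => by
      conv_lhs => rw [← Nat.mod_add_div a (orderOf t)]
      rw [hS, hSmul, map_zero, add_zero]
    have hSeq : ∀ a b : ℕ, t ^ a = t ^ b → S a = S b := fun a b hab => by
      rw [hSmod a, hSmod b, pow_eq_pow_iff_modEq.1 hab]
    choose kk hk using hpow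
    refine ⟨fun g => S (kk g), fun g h => ?_, ?_⟩
    · show S (kk (g * h)) = ρ g (S (kk h)) + S (kk g)
      rw [hSeq (kk (g * h)) (kk g + kk h) (by rw [pow_add, hk, hk, hk]), hS, hk, add_comm]
    · show Representation.Coinvariants.mk ρ (S (kk t)) = _
      rw [hSeq (kk t) 1 (by rw [hk, pow_one])]
      simp [S]

end Groth.Agent.S14175
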