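import Groth.Statements.S14178
import Mathlib.FieldTheory.KummerExtension
import Mathlib.RingTheory.DedekindDomain.Factorization
import Mathlib.RingTheory.ClassGroup.Basic

set_option autoImplicit false
universe u v w
open scoped nonZeroDivisors
open EtAlg

namespace Groth.Agent.S14178

/-- Let A be a Dedekind domain with fraction field K, let n be a natural number invertible in A such
that K contains a primitive n-th root of unity, let f be a nonzero element of K and I an invertible
fractional ideal of A with (f) = I^n whose class in the ideal class group of A has order exactly n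
(the divisor of f is n times a divisor whose class has order n), and let L = K(α) be a field
extension of K generated by a single element α with α^n = f. Then L is Galois over K of degree n
with cyclic Galois group. (The published statement is for an integral smooth curve over a perfect
field containing a primitive n-th root of unity, with the Picard group of the curve in place of the
class group; this row states it for any Dedekind domain.) -/
theorem result
    {A : Type u} {K : Type v} {L : Type w} [CommRing A] [IsDedekindDomain A]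
    [Field K] [Algebra A K] [IsFractionRing A K]
    [Field L] [Algebra K L]
    (n : ℕ) (hn : IsUnit (n : A)) (ζ : K) (hζ : IsPrimitiveRoot ζ n) (f : K) (hf : f ≠ 0)
    (I : (FractionalIdeal A⁰ K)ˣ) (hI : FractionalIdeal.spanSingleton A⁰ f = (I : FractionalIdeal A⁰ K) ^ n)
    (hord : orderOf (ClassGroup.mk K I) = n)
    (α : L) (hα : α ^ n = algebraMap K L f) (hgen : IntermediateField.adjoin K {α} = ⊤) :
    IsGalois K L ∧ IsCyclic (L ≃ₐ[K] L) ∧ Module.finrank K L = n := by
  classical
  have hn0 : n ≠ 0 := by
    rintro rfl
    rw [Nat.cast_zero, isUnit_zero_iff] at hn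
    exact zero_ne_one hn
  have hnpos : 0 < n := Nat.pos_of_ne_zero hn0
  have : NeZero n := ⟨hn0⟩
  have haev : Polynomial.aeval α (Polynomial.X ^ n - Polynomial.C f) = 0 := by
    rw [map_sub, map_pow, Polynomial.aeval_X, Polynomial.aeval_C, hα, sub_self]
  have hint : IsIntegral K α := ⟨_, Polynomial.monic_X_pow_sub_C f hn0, haev⟩
  have : FiniteDimensional K L := by
    have h1 := IntermediateField.adjoin.finiteDimensional hint
    rw [hgen] at h1
    exact Module.Finite.equiv (IntermediateField.topEquiv (F := K) (E := L)).toLinearEquiv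
  set e := Module.finrank K L with he
  have hdeg : (minpoly K α).natDegree = e := by
    rw [← IntermediateField.adjoin.finrank hint, hgen, IntermediateField.finrank_top']
  have hα0 : α ≠ 0 := by
    intro h
    rw [h, zero_pow hn0] at hα
    exact (map_ne_zero _).2 hf hα.symm
  have hζL := hζ.map_of_injective (algebraMap K L).injective
  have hsplit : ((minpoly K α).map (algebraMap K L)).Splits := by
    refine (X_pow_sub_C_splits_of_isPrimitiveRoot hζL hα).of_dvd
      (Polynomial.X_pow_sub_C_ne_zero hnpos _) ?_
    have := Polynomial.map_dvd (algebraMap K L) (minpoly.dvd K α haev)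
    rwa [Polynomial.map_sub, Polynomial.map_pow, Polynomial.map_X, Polynomial.map_C] at this
  have hprod : ∀ s : Multiset L, (∀ z ∈ s, z ^ n = α ^ n) →
      ∃ c : K, c ≠ 0 ∧ s.prod = algebraMap K L c * α ^ Multiset.card s := by
    intro s
    induction s using Multiset.induction_on with
    | empty => exact fun _ => ⟨1, one_ne_zero, by simp⟩
    | cons z s ih =>
      intro h
      obtain ⟨c, hc, hs⟩ := ih fun w hw => h w (Multiset.mem_cons_of_mem hw)
      have hz : (z / α) ^ n = 1 := by
        rw [div_pow, h z (Multiset.mem_cons_self _ _), div_self (pow_ne_zero _ hα0)]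
      obtain ⟨i, -, hi⟩ := hζL.eq_pow_of_pow_eq_one hz
      refine ⟨ζ ^ i * c, mul_ne_zero (pow_ne_zero _ (hζ.ne_zero hn0)) hc, ?_⟩
      rw [Multiset.prod_cons, hs, Multiset.card_cons, map_mul, map_pow, hi, pow_succ]
      field_simp
  obtain ⟨c, hc0, hc⟩ := hprod ((minpoly K α).map (algebraMap K L)).roots (by
    intro z hz
    rw [Polynomial.mem_roots ((minpoly.monic hint).map _).ne_zero] at hz
    have h1 := Polynomial.eval_eq_zero_of_dvd_of_eval_eq_zero
      (Polynomial.map_dvd (algebraMap K L) (minpoly.dvd K α haev)) hz
    rw [Polynomial.eval_map, Polynomial.eval₂_sub, Polynomial.eval₂_X_pow, Polynomial.eval₂_C,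
      sub_eq_zero] at h1
    rw [h1, hα])
  have hcard : Multiset.card ((minpoly K α).map (algebraMap K L)).roots = e := by
    rw [← hsplit.natDegree_eq_card_roots, Polynomial.natDegree_map, hdeg]
  have hcoe := hsplit.coeff_zero_eq_prod_roots_of_monic ((minpoly.monic hint).map _)
  rw [hc, hcard, Polynomial.coeff_map, Polynomial.natDegree_map, hdeg] at hcoe
  set g := (minpoly K α).coeff 0 / ((-1) ^ e * c) with hg
  have hαe : α ^ e = algebraMap K L g := by
    rw [hg, map_div₀, map_mul, map_pow, map_neg, map_one, eq_div_iff
      (mul_ne_zero (pow_ne_zero _ (by simp)) ((map_ne_zero _).2 hc0)), hcoe]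
    ring
  have hge : g ^ n = f ^ e := (algebraMap K L).injective (by
    rw [map_pow, map_pow, ← hαe, ← hα, ← pow_mul, ← pow_mul, mul_comm])
  have hg0 : g ≠ 0 := by
    intro h
    rw [h, map_zero] at hαe
    exact pow_ne_zero _ hα0 hαe
  have hIg : FractionalIdeal.spanSingleton A⁰ g = (I : FractionalIdeal A⁰ K) ^ e := by
    have h1 : FractionalIdeal.spanSingleton A⁰ g ≠ 0 := by
      rwa [Ne, FractionalIdeal.spanSingleton_eq_zero_iff]
    have h2 : (I : FractionalIdeal A⁰ K) ^ e ≠ 0 := pow_ne_zero _ I.ne_zero
    have h3 : FractionalIdeal.spanSingleton A⁰ g ^ n = ((I : FractionalIdeal A⁰ K) ^ e) ^ n := by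
      rw [FractionalIdeal.spanSingleton_pow, hge, ← FractionalIdeal.spanSingleton_pow, hI,
        ← pow_mul, ← pow_mul, mul_comm]
    rw [← FractionalIdeal.finprod_heightOneSpectrum_factorization' K h1,
      ← FractionalIdeal.finprod_heightOneSpectrum_factorization' K h2]
    refine finprod_congr fun v => ?_
    have h4 := congrArg (FractionalIdeal.count K v) h3
    rw [FractionalIdeal.count_pow, FractionalIdeal.count_pow] at h4
    rw [mul_left_cancel₀ (Int.natCast_ne_zero.2 hn0) h4]
  have hdvd : n ∣ e := by
    rw [← hord, orderOf_dvd_iff_pow_eq_one, ← map_pow, ClassGroup.mk_eq_one_iff]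
    rw [Units.val_pow_eq_pow_val, ← hIg]
    exact ⟨⟨g, by simp [FractionalIdeal.coe_spanSingleton]⟩⟩
  have hle : e ≤ n := by
    rw [← hdeg, ← Polynomial.natDegree_X_pow_sub_C (n := n) (r := f)]
    exact Polynomial.natDegree_le_of_dvd (minpoly.dvd K α haev) (Polynomial.X_pow_sub_C_ne_zero hnpos f)
  have hen : e = n := le_antisymm hle (Nat.le_of_dvd Module.finrank_pos hdvd)
  have hζ' : (primitiveRoots (Module.finrank K L) K).Nonempty :=
    ⟨ζ, by rw [mem_primitiveRoots Module.finrank_pos, ← he, hen]; exact hζ⟩
  have hα' : α ^ Module.finrank K L = algebraMap K L f := by rw [← he, hen, hα]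
  have hirr := irreducible_X_pow_sub_C_of_root_adjoin_eq_top hα' hgen
  have hsf := isSplittingField_X_pow_sub_C_of_root_adjoin_eq_top hζ' hα' hgen
  have : NeZero (Module.finrank K L) := ⟨Module.finrank_pos.ne'⟩
  exact ⟨isGalois_of_isSplittingField_X_pow_sub_C hζ' hirr L,
    isCyclic_of_isSplittingField_X_pow_sub_C hζ' hirr L, hen⟩

end Groth.Agent.S14178
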