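import Groth.Statements.S14181
import Mathlib

set_option autoImplicit false
universe u
open CategoryTheory
open GalCoh

namespace Groth.Agent.S14181

/-- Let G be a group with a finite normal subgroup P, k a commutative ring and A a k-linear
representation of G such that multiplication by the order of P is a bijection of A. Then the
inflation map on 1-cocycles (crossed homomorphisms) Z¹(G/P, A^P) → Z¹(G, A) has a k-linear left
inverse. (The published statement is for the inertia group of a Galois cover of smooth curves at a
point, its normal Sylow p-subgroup P and a module of n-torsion with n prime to p; the argument uses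
only that the order of P acts invertibly, which is the hypothesis taken here.) -/
theorem result
    {k G : Type u} [CommRing k] [Group G] (A : Rep.{u} k G) (P : Subgroup G) [P.Normal] [Finite P]
    (hP : Function.Bijective fun a : A => (Nat.card P : k) • a) :
    ∃ r : ModuleCat.of k (groupCohomology.cocycles₁ A) ⟶
        ModuleCat.of k (groupCohomology.cocycles₁ (A.quotientToInvariants P)),
      (groupCohomology.mapCocycles₁ (QuotientGroup.mk' P) (Rep.ofHom (A.ρ.quotientToInvariants_lift P)) :
          ModuleCat.of k (groupCohomology.cocycles₁ (A.quotientToInvariants P)) ⟶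
            ModuleCat.of k (groupCohomology.cocycles₁ A)) ≫ r = 𝟙 _ := by
  classical
  cases nonempty_fintype P
  let N : A →ₗ[k] A := ∑ p : P, A.ρ (p : G)
  let e : A ≃ₗ[k] A := LinearEquiv.ofBijective ((Nat.card P : k) • (LinearMap.id : A →ₗ[k] A)) hP
  let avg : A →ₗ[k] A := e.symm.toLinearMap ∘ₗ N
  have hNap : ∀ v, N v = ∑ p : P, A.ρ (p : G) v := fun v => LinearMap.sum_apply _ _ _
  have hNP : ∀ (q : P) (v : A), A.ρ (q : G) (N v) = N v := fun q v => by
    rw [hNap, map_sum]
    refine Fintype.sum_equiv (Equiv.mulLeft q) _ _ fun p => ?_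
    rw [← Module.End.mul_apply, ← map_mul]; rfl
  have hNG : ∀ (g : G) (v : A), A.ρ g (N v) = N (A.ρ g v) := fun g v => by
    rw [hNap, hNap, map_sum]
    refine Fintype.sum_equiv ((MulAut.conjNormal (H := P) g).toEquiv) _ _ fun p => ?_
    rw [← Module.End.mul_apply, ← Module.End.mul_apply, ← map_mul, ← map_mul]
    congr 1
    congr 1
    show g * p = g * p * g⁻¹ * g
    group
  have hse : ∀ (g : G) (w : A), A.ρ g (e.symm w) = e.symm (A.ρ g w) := fun g w => by
    apply e.injective
    rw [e.apply_symm_apply]
    show (Nat.card P : k) • A.ρ g (e.symm w) = _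
    rw [← map_smul]
    exact congrArg (A.ρ g) (e.apply_symm_apply w)
  have havgG : ∀ (g : G) (v : A), A.ρ g (avg v) = avg (A.ρ g v) := fun g v => by
    show A.ρ g (e.symm (N v)) = e.symm (N (A.ρ g v))
    rw [hse, hNG]
  have havgP : ∀ v : A, avg v ∈ Representation.invariants (A.ρ.comp P.subtype) := fun v q => by
    show A.ρ (q : G) (e.symm (N v)) = e.symm (N v)
    rw [hse, hNP]
  have havgfix : ∀ v : A, (∀ q : P, A.ρ (q : G) v = v) → avg v = v := fun v hv => by
    apply e.injective
    show e (e.symm (N v)) = (Nat.card P : k) • v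
    rw [e.apply_symm_apply, hNap, Finset.sum_congr rfl fun p _ => hv p, Finset.sum_const, Finset.card_univ,
      ← Nat.card_eq_fintype_card, ← Nat.cast_smul_eq_nsmul k]
  have hcoc : ∀ (f : groupCohomology.cocycles₁ A) (g h : G), f (g * h) = A.ρ g (f h) + f g :=
    fun f => (groupCohomology.mem_cocycles₁_iff (f : G → A)).1 f.2
  have hzero : ∀ (f : groupCohomology.cocycles₁ A) (p : P), avg (f (p : G)) = 0 := fun f p => by
    show e.symm (N (f (p : G))) = 0
    rw [hNap]
    have h : ∀ q : P, A.ρ (q : G) (f (p : G)) = f ((q * p : P) : G) - f (q : G) := fun q => by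
      rw [Subgroup.coe_mul, hcoc f]; abel
    rw [Finset.sum_congr rfl fun q _ => h q, Finset.sum_sub_distrib,
      Fintype.sum_equiv (Equiv.mulRight p) (fun q : P => f ((q * p : P) : G)) (fun q : P => f (q : G)) fun q => rfl,
      sub_self, map_zero]
  let F : groupCohomology.cocycles₁ A → (G ⧸ P) → A.quotientToInvariants P :=
    fun f x => ⟨avg (f x.out), havgP _⟩
  have hwd : ∀ (f : groupCohomology.cocycles₁ A) (g : G),
      avg (f (QuotientGroup.mk (s := P) g).out) = avg (f g) := by
    intro f g
    obtain ⟨p, hp⟩ := QuotientGroup.mk_out_eq_mul P g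
    rw [hp, hcoc f, map_add, ← havgG, hzero, map_zero, zero_add]
  have hF : ∀ f, F f ∈ groupCohomology.cocycles₁ (A.quotientToInvariants P) := fun f => by
    rw [groupCohomology.mem_cocycles₁_iff]
    intro x y
    induction x using QuotientGroup.induction_on with
    | H a =>
    induction y using QuotientGroup.induction_on with
    | H b =>
      refine Subtype.ext ?_
      show avg (f (QuotientGroup.mk (s := P) a * QuotientGroup.mk b).out) =
        A.ρ a (avg (f (QuotientGroup.mk (s := P) b).out)) + avg (f (QuotientGroup.mk (s := P) a).out)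
      rw [← QuotientGroup.mk_mul, hwd, hwd, hwd, hcoc f, map_add, havgG]
  let R : groupCohomology.cocycles₁ A →ₗ[k] groupCohomology.cocycles₁ (A.quotientToInvariants P) :=
    { toFun := fun f => ⟨F f, hF f⟩
      map_add' := fun a b => Subtype.ext (funext fun x => Subtype.ext (map_add avg _ _))
      map_smul' := fun c a => Subtype.ext (funext fun x => Subtype.ext (map_smul avg _ _)) }
  refine ⟨ModuleCat.ofHom R, ModuleCat.hom_ext (LinearMap.ext fun f => Subtype.ext (funext fun x => Subtype.ext ?_))⟩
  show avg ((f (QuotientGroup.mk (s := P) x.out)) : A) = ((f x : A.quotientToInvariants P) : A)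
  rw [QuotientGroup.out_eq']
  exact havgfix _ fun q => (f x).2 q

end Groth.Agent.S14181
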