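import Groth.Statements.S14188
import Mathlib

set_option autoImplicit false
set_option backward.isDefEq.respectTransparency false
set_option backward.isDefEq.respectTransparency.types false
universe u
open CategoryTheory CategoryTheory.Limits AlgebraicGeometry
open FlatMor

namespace Groth.Agent.S14188

/-- Let T be an integral scheme with generic point η, let Y and Z be schemes flat over T with Z
separated over T, and let ψ : Y_η → Z be a T-morphism from the generic fibre Y_η = Y ×_T Spec
O_{T,η} (equivalently, an η-morphism Y_η → Z_η). Let gr : Y_η → Y ×_T Z be the graph of ψ, the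
morphism whose components are the projection Y_η → Y and ψ, and let Γ ⊆ Y ×_T Z be the
scheme-theoretic image of gr (the schematic closure of the graph). Then ψ extends to a T-morphism φ
: Y → Z, meaning that the composite Y_η → Y → Z is ψ, if and only if the composite of the inclusion
Γ → Y ×_T Z with the first projection is an isomorphism Γ ≅ Y. -/
theorem result (T Y Z : Scheme.{u}) [IsIntegral T]
    (pY : Y ⟶ T) (pZ : Z ⟶ T) [Flat pY] [Flat pZ] [IsSeparated pZ]
    (ψ : pullback pY (T.fromSpecStalk (genericPoint T)) ⟶ Z)
    (hψ : ψ ≫ pZ = pullback.fst pY (T.fromSpecStalk (genericPoint T)) ≫ pY)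
    (gr : pullback pY (T.fromSpecStalk (genericPoint T)) ⟶ pullback pY pZ)
    (hgr₁ : gr ≫ pullback.fst pY pZ = pullback.fst pY (T.fromSpecStalk (genericPoint T)))
    (hgr₂ : gr ≫ pullback.snd pY pZ = ψ) :
    (∃ φ : Y ⟶ Z, φ ≫ pZ = pY ∧ pullback.fst pY (T.fromSpecStalk (genericPoint T)) ≫ φ = ψ) ↔
      IsIso (gr.imageι ≫ pullback.fst pY pZ) := by
  let pf := pullback.fst pY (T.fromSpecStalk (genericPoint T))
  constructor
  · rintro ⟨φ, hφ, hφψ⟩
    let G : Y ⟶ pullback pY pZ := pullback.lift (𝟙 Y) φ (by rw [Category.id_comp, hφ])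
    have hG : G ≫ pullback.fst pY pZ = 𝟙 Y := pullback.lift_fst _ _ _
    haveI : IsClosedImmersion G := by
      haveI : IsClosedImmersion (G ≫ pullback.fst pY pZ) := hG.symm ▸ inferInstance
      exact IsClosedImmersion.of_comp G (pullback.fst pY pZ)
    have hgr : gr = pf ≫ G := by
      apply pullback.hom_ext
      · rw [hgr₁, Category.assoc, hG, Category.comp_id]
      · rw [hgr₂, Category.assoc, pullback.lift_snd, hφψ]
    haveI : QuasiCompact (T.fromSpecStalk (genericPoint T)) := by
      haveI : Subsingleton ↥(Spec (T.presheaf.stalk (genericPoint T))) :=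
        inferInstanceAs (Subsingleton (PrimeSpectrum T.functionField))
      exact ⟨fun U _ _ => Set.Subsingleton.isCompact Set.subsingleton_of_subsingleton⟩
    haveI : IsDominant (T.fromSpecStalk (genericPoint T)) := by
      refine ⟨dense_iff_closure_eq.mpr ?_⟩
      refine Set.eq_univ_of_univ_subset ?_
      rw [← genericPoint_spec T]
      exact closure_mono (Set.singleton_subset_iff.mpr ⟨_, Scheme.fromSpecStalk_closedPoint⟩)
    haveI : IsSchemeTheoreticallyDominant (T.fromSpecStalk (genericPoint T)) := .of_isDominant _
    have hle : G.ker ≤ gr.imageι.ker := by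
      rw [show gr.imageι.ker = gr.ker from Scheme.IdealSheafData.ker_subschemeι _, hgr]
      exact Scheme.Hom.le_ker_comp pf G
    let e := IsClosedImmersion.lift G gr.imageι hle
    have he : e ≫ G = gr.imageι := IsClosedImmersion.lift_fac _ _ _
    have he' : gr.imageι ≫ pullback.fst pY pZ = e := by
      rw [← he, Category.assoc, hG, Category.comp_id]
    rw [he']
    haveI : IsClosedImmersion (e ≫ G) := he.symm ▸ inferInstance
    haveI : IsClosedImmersion e := IsClosedImmersion.of_comp e G
    rw [IsClosedImmersion.isIso_iff_ker_eq_bot]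
    have hpf : gr.toImage ≫ e = pf := by
      rw [← he', Scheme.Hom.toImage_imageι_assoc, hgr₁]
    haveI : IsSchemeTheoreticallyDominant pf := inferInstance
    rw [eq_bot_iff, ← pf.ker_eq_bot, ← hpf]
    exact Scheme.Hom.le_ker_comp gr.toImage e
  · intro h
    let ι := gr.imageι
    have h1 : gr.toImage ≫ ι ≫ pullback.fst pY pZ = pf := by
      rw [Scheme.Hom.toImage_imageι_assoc, hgr₁]
    refine ⟨inv (ι ≫ pullback.fst pY pZ) ≫ ι ≫ pullback.snd pY pZ, ?_, ?_⟩
    · rw [Category.assoc, Category.assoc, ← pullback.condition, ← Category.assoc ι,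
        IsIso.inv_hom_id_assoc]
    · rw [show pullback.fst pY (T.fromSpecStalk (genericPoint T)) = pf from rfl, ← h1,
        Category.assoc, IsIso.hom_inv_id_assoc, Scheme.Hom.toImage_imageι_assoc, hgr₂]

end Groth.Agent.S14188
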