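import Groth.Statements.S14205
import Groth.Agent.Br8.Period

set_option autoImplicit false
universe u v
open scoped TensorProduct
open Brauer

namespace Groth.Agent.S14205

/-- Let A be a finite-dimensional central simple algebra over a field k with period p: p is the least
positive integer for which the p-fold tensor power of A over k is a full matrix algebra over k. Then
for every r ≥ 1 the r-fold tensor power of A has period p / gcd(p, r) (the order of the r-th
multiple of an element of order p). -/
theorem result (k : Type u) [Field k] (A : Type v) [Ring A] [Algebra k A]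
    [Algebra.IsCentral k A] [IsSimpleRing A] [FiniteDimensional k A] (p : ℕ)
    (hp : CSAGal.IsPeriod k A p) (r : ℕ) (hr : 0 < r) :
    CSAGal.IsPeriod k (CSAGal.tpow k A r) (p / Nat.gcd p r) := by
  have hA := Groth.Agent.Br8.isCSA (k := k) A
  obtain ⟨hp0, hord⟩ := (Groth.Agent.Br8.period_iff hA p).mp hp
  rw [Groth.Agent.Br8.period_iff (Groth.Agent.Br8.isCSA_tpow A hA r), Groth.Agent.Br8.cl_tpow hA r,
    orderOf_pow' _ hr.ne', hord]
  exact ⟨Nat.div_pos (Nat.le_of_dvd hp0 (Nat.gcd_dvd_left p r)) (Nat.gcd_pos_of_pos_left _ hp0), rfl⟩

end Groth.Agent.S14205
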