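import Groth.Statements.S14211
import Groth.Agent.Br8.Quat
-- import your own Groth.Agent.* helpers here

set_option autoImplicit false
universe u v
open scoped TensorProduct
open Brauer

namespace Groth.Agent.S14211

/-- Let k be a field in which 2 ≠ 0 and A a finite-dimensional central simple k-algebra. Then A has
period 2 and index 2 (its Severi–Brauer variety has type (2, 2, 2m)) if and only if A is isomorphic
over k to a matrix algebra M_m(Q), m ≥ 1, over a quaternion algebra Q = (a, b)_k (the k-algebra with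
basis 1, i, j, ij, i² = a, j² = b, ij = −ji) which is a division ring; moreover such a quaternion
algebra is unique up to k-isomorphism. -/
theorem result (k : Type u) [Field k] (h2 : (2 : k) ≠ 0)
    (A : Type v) [Ring A] [Algebra k A] [Algebra.IsCentral k A] [IsSimpleRing A]
    [FiniteDimensional k A] :
    ((CSAGal.IsPeriod k A 2 ∧ CSAGal.IsIndex k A 2) ↔
      ∃ (a b : k) (m : ℕ), 0 < m ∧ (∀ x : QuaternionAlgebra k a 0 b, x ≠ 0 → IsUnit x) ∧
        Nonempty (A ≃ₐ[k] Matrix (Fin m) (Fin m) (QuaternionAlgebra k a 0 b))) ∧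
    (∀ (a b a' b' : k) (m m' : ℕ),
      (∀ x : QuaternionAlgebra k a 0 b, x ≠ 0 → IsUnit x) →
      (∀ x : QuaternionAlgebra k a' 0 b', x ≠ 0 → IsUnit x) →
      Nonempty (A ≃ₐ[k] Matrix (Fin m) (Fin m) (QuaternionAlgebra k a 0 b)) →
      Nonempty (A ≃ₐ[k] Matrix (Fin m') (Fin m') (QuaternionAlgebra k a' 0 b')) →
      Nonempty (QuaternionAlgebra k a 0 b ≃ₐ[k] QuaternionAlgebra k a' 0 b')) := by
  refine ⟨Groth.Agent.Br8.quat_iff h2 (Groth.Agent.Br8.isCSA A), ?_⟩
  rintro a b a' b' m m' hu hu' ⟨e⟩ ⟨e'⟩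
  letI : DivisionRing (QuaternionAlgebra k a 0 b) :=
    DivisionRing.ofIsUnitOrEqZero fun x => (em (x = 0)).elim Or.inr (fun h => Or.inl (hu x h))
  letI : DivisionRing (QuaternionAlgebra k a' 0 b') :=
    DivisionRing.ofIsUnitOrEqZero fun x => (em (x = 0)).elim Or.inr (fun h => Or.inl (hu' x h))
  have hm : ∀ (c d : k) (n : ℕ), Nonempty (A ≃ₐ[k] Matrix (Fin n) (Fin n) (QuaternionAlgebra k c 0 d)) →
      Nonempty (Fin n) := fun c d n ⟨f⟩ => by
    by_contra hn
    rw [not_nonempty_iff] at hn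
    exact not_subsingleton A f.injective.subsingleton
  haveI := hm _ _ _ ⟨e⟩
  haveI := hm _ _ _ ⟨e'⟩
  exact (Groth.Agent.CSA.MatrixUnique.unique (e.symm.trans e')).1

end Groth.Agent.S14211
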