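import Groth.Statements.S14253
import Groth.Agent.Misc9.PerfUH
import Groth.Agent.UnivHomeo.Affine
import Mathlib.AlgebraicGeometry.Morphisms.IsIso
-- import your own Groth.Agent.* helpers here

set_option autoImplicit false
universe u
open CategoryTheory AlgebraicGeometry
open PerfSch

namespace Groth.Agent.S14253

/-- A universal homeomorphism f : X ⟶ Y between perfect schemes of prime characteristic p (on every open
of X and of Y, p = 0 in the ring of sections and the p-th power map is bijective) is an isomorphism. -/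
theorem result (p : ℕ) [Fact p.Prime] {X Y : Scheme.{u}} (f : X ⟶ Y)
    (hX : PerfSch.IsPerfect p X) (hY : PerfSch.IsPerfect p Y) (hf : FlatMor.IsUnivHomeo f) : IsIso f := by
  have hp : p.Prime := Fact.out
  have := Groth.Agent.UnivHomeo.isIntegralHom_of_univHomeo hf
  show MorphismProperty.isomorphisms Scheme f
  rw [IsZariskiLocalAtTarget.iff_of_iSup_eq_top (P := MorphismProperty.isomorphisms Scheme) _ (iSup_affineOpens_eq_top Y)]
  intro U
  have : IsAffine (U.1 : Scheme) := U.2
  have hU' : IsAffine ((f ⁻¹ᵁ U.1 : X.Opens) : Scheme) := U.2.preimage f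
  rw [HasAffineProperty.iff_of_isAffine (P := MorphismProperty.isomorphisms Scheme)]
  refine ⟨hU', ?_⟩
  have hres : FlatMor.IsUnivHomeo (f ∣_ U.1) :=
    MorphismProperty.of_isPullback (P := MorphismProperty.universally (topologically fun f => IsHomeomorph f))
      (isPullback_morphismRestrict f U.1).flip hf
  have hS : FlatMor.IsUnivHomeo (Spec.map (f ∣_ U.1).appTop) :=
    ((MorphismProperty.universally (topologically fun f => IsHomeomorph f)).arrow_mk_iso_iff
      (arrowIsoSpecΓOfIsAffine (f ∣_ U.1))).mp hres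
  have key : ∀ {Z : Scheme.{u}} (hZ : PerfSch.IsPerfect p Z) (W : Z.Opens),
      (p : Γ((W : Scheme), ⊤)) = 0 ∧ Function.Bijective fun a : Γ((W : Scheme), ⊤) ↦ a ^ p := fun {Z} hZ W ↦ by
    let e := W.topIso.commRingCatIsoToRingEquiv
    obtain ⟨h0, hb⟩ := hZ W
    refine ⟨e.injective (by rw [map_natCast, h0, map_zero]), ?_⟩
    have : (fun a ↦ a ^ p) = e.symm ∘ (fun a ↦ a ^ p) ∘ e := by
      funext a
      simp [map_pow]
    rw [this]
    exact e.symm.bijective.comp (hb.comp e.bijective)
  rw [ConcreteCategory.isIso_iff_bijective]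
  exact Groth.Agent.Misc9.PerfUH.bijective_of_perfect (f ∣_ U.1).appTop.hom hp (key hY U.1).1 (key hY U.1).2
    (key hX (f ⁻¹ᵁ U.1)).2.1 hS

end Groth.Agent.S14253
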