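import Groth.Statements.S14256
import Mathlib.FieldTheory.IsPerfectClosure
import Mathlib.RingTheory.IntegralClosure.IsIntegralClosure.Basic
-- import your own Groth.Agent.* helpers here

set_option autoImplicit false
universe u
open FrobAlg

namespace Groth.Agent.S14256

/-- Let p be a prime, φ : A → B a map of commutative rings of characteristic p, i : A → A' and j : B →
B' perfect closures (A', B' perfect rings of characteristic p, every element of A' resp. B' has a
p^n-th power in the image of i resp. j, the kernels of i and j consist of nilpotent elements), and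
φ' : A' → B' the induced map, φ' ∘ i = j ∘ φ. Then φ is integral if and only if φ' is integral. (The
published statement is that a morphism of schemes over the prime field is integral exactly when its
perfection is; this row is its affine case, to which the published proof reduces.) -/
theorem result (p : ℕ) [Fact p.Prime]
    {A B A' B' : Type u} [CommRing A] [CommRing B] [CommRing A'] [CommRing B']
    [CharP A p] [CharP B p] [CharP A' p] [CharP B' p] [PerfectRing A' p] [PerfectRing B' p]
    (φ : A →+* B) (i : A →+* A') (j : B →+* B') [IsPerfectClosure i p] [IsPerfectClosure j p]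
    (φ' : A' →+* B') (hφ : φ'.comp i = j.comp φ) : φ.IsIntegral ↔ φ'.IsIntegral := by
  have hp : p.Prime := Fact.out
  have iint : ∀ {C C' : Type u} [CommRing C] [CommRing C'] [CharP C p] [CharP C' p] [PerfectRing C' p]
      (k : C →+* C') [IsPerfectClosure k p], k.IsIntegral := by
    intro C C' _ _ _ _ _ k _ x
    obtain ⟨n, y, hy⟩ := IsPRadical.pow_mem k p x
    letI := k.toAlgebra
    exact IsIntegral.of_pow (pow_pos hp.pos n) (hy ▸ isIntegral_algebraMap)
  constructor
  · intro h
    exact RingHom.IsIntegral.tower_top i φ' (hφ ▸ RingHom.IsIntegral.trans φ j h (iint j))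
  · intro h b
    obtain ⟨P, hP, hPb⟩ := (hφ ▸ RingHom.IsIntegral.trans i φ' (iint i) h : (j.comp φ).IsIntegral) (j b)
    rw [← Polynomial.hom_eval₂] at hPb
    obtain ⟨n, hn⟩ := mem_pNilradical.mp (IsPRadical.ker_le j p hPb)
    exact ⟨P ^ (p ^ n), hP.pow _, by rw [Polynomial.eval₂_pow, hn]⟩

end Groth.Agent.S14256
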