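import Groth.Statements.S14262
import Mathlib.RingTheory.Flat.EquationalCriterion
-- import your own Groth.Agent.* helpers here

set_option autoImplicit false
universe u
open FrobAlg

namespace Groth.Agent.S14262

/-- Let p be a prime, A a perfect ring of characteristic p and f ∈ A. The radical of the principal ideal
(f) — equivalently the ideal generated by all p^n-th roots of f, n ≥ 0 — is a flat A-module. -/
theorem result (p : ℕ) [Fact p.Prime] (A : Type u) [CommRing A]
    [CharP A p] [PerfectRing A p] (f : A) :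
    Module.Flat A ((Ideal.span {f}).radical) := by
  have hp := (Fact.out : p.Prime)
  haveI : ExpChar A p := ExpChar.prime hp
  set φ := (frobeniusEquiv A p).symm with hφ
  set g : ℕ → A := fun n => φ^[n] f with hg
  have gpow : ∀ n, g n ^ p ^ n = f := fun n => iterate_frobeniusEquiv_symm_pow_p_pow A p f n
  have gs : ∀ n, g (n + 1) ^ p = g n := fun n => by
    simp only [hg, Function.iterate_succ_apply', hφ, frobeniusEquiv_symm_pow_p]
  have gmem : ∀ n, g n ∈ (Ideal.span {f}).radical := fun n =>
    ⟨p ^ n, by rw [gpow n]; exact Ideal.mem_span_singleton_self f⟩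
  have zero : ∀ c n, c * g n = 0 → c * g (n + 1) = 0 := fun c n h => by
    apply injective_pow_p A p
    rw [mul_pow, gs, zero_pow hp.ne_zero, ← Nat.sub_add_cancel hp.one_le, pow_succ, mul_assoc, h, mul_zero]
  have up : ∀ (x : A) n m, n ≤ m → g n ∣ x → g m ∣ x := by
    intro x n m hnm hx
    refine dvd_trans ?_ hx
    induction hnm with
    | refl => rfl
    | @step k _ ih => exact dvd_trans (by rw [← gs k]; exact dvd_pow_self _ hp.ne_zero) ih
  have div : ∀ x ∈ (Ideal.span {f}).radical, ∃ n, g n ∣ x := by
    rintro x ⟨k, hk⟩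
    refine ⟨k, ?_⟩
    obtain ⟨b, hb⟩ : f ∣ x ^ p ^ k := (Ideal.mem_span_singleton.mp hk).trans (pow_dvd_pow x (Nat.lt_pow_self hp.one_lt).le)
    refine ⟨φ^[k] b, ?_⟩
    apply (iterateFrobeniusEquiv A p k).injective
    simp only [iterateFrobeniusEquiv_def, mul_pow, gpow, hφ, iterate_frobeniusEquiv_symm_pow_p_pow, hb]
  refine Module.Flat.of_forall_isTrivialRelation fun {l c x} h => ?_
  choose N hN using fun i => div (x i).1 (x i).2
  choose b hb using fun i => up _ _ _ (Finset.le_sup (f := N) (Finset.mem_univ i)) (hN i)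
  set n := Finset.univ.sup N
  refine ⟨1, fun i _ => b i * g (n + 1) ^ (p - 1), fun _ => ⟨g (n + 1), gmem _⟩, fun i => ?_, fun _ => ?_⟩
  · ext
    simp only [Fin.sum_univ_one, Submodule.coe_smul, smul_eq_mul]
    rw [hb i, mul_assoc, ← pow_succ, Nat.sub_add_cancel hp.one_le, gs, mul_comm]
  · have h0 : (∑ i, c i * b i) * g n = 0 := by
      have h' := congrArg (Subtype.val) h
      simp only [AddSubmonoidClass.coe_finset_sum, Submodule.coe_smul, smul_eq_mul, ZeroMemClass.coe_zero] at h'
      rw [Finset.sum_mul, ← h']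
      exact Finset.sum_congr rfl fun i _ => by rw [hb i]; ring
    have h1 := zero _ _ h0
    rw [show p - 1 = (p - 2) + 1 by have := hp.two_le; omega]
    calc ∑ i, c i * (b i * g (n + 1) ^ (p - 2 + 1)) = ((∑ i, c i * b i) * g (n + 1)) * g (n + 1) ^ (p - 2) := by
          rw [Finset.sum_mul, Finset.sum_mul]; exact Finset.sum_congr rfl fun i _ => by ring
      _ = 0 := by rw [h1, zero_mul]

end Groth.Agent.S14262
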