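import Groth.Statements.S14271
import Mathlib
import Groth.Agent.ModStalk.UnitStalk
import Groth.Agent.ModStalk.AssPoint

set_option autoImplicit false
set_option backward.isDefEq.respectTransparency false
set_option linter.style.haveILetI false
universe u
open FlatPur

namespace Groth.Agent.S14271

open AlgebraicGeometry CategoryTheory CategoryTheory.Limits in
/-- Let X be a scheme and U an open subscheme whose inclusion is quasi-compact, such that for every
point z of X outside U the maximal ideal of O_{X,z} contains an element that is regular (a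
nonzerodivisor) on that local ring. Then for every separated X-scheme Y the restriction map from
X-sections of Y to U-sections of Y is injective: two sections of Y -> X that agree on U are equal. -/
theorem result (X : Scheme.{u}) (U : X.Opens) [QuasiCompact U.ι]
    (hZ : ∀ z : X, z ∉ U → ∃ a ∈ IsLocalRing.maximalIdeal (X.presheaf.stalk z), IsSMulRegular (X.presheaf.stalk z) a)
    (Y : Scheme.{u}) (f : Y ⟶ X) [IsSeparated f] (s₁ s₂ : X ⟶ Y) (h₁ : s₁ ≫ f = 𝟙 X) (h₂ : s₂ ≫ f = 𝟙 X)
    (hU : U.ι ≫ s₁ = U.ι ≫ s₂) : s₁ = s₂ := by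
  let i := pullback.fst (pullback.lift s₁ s₂ (h₁.trans h₂.symm)) (pullback.diagonal f)
  have hi : i ≫ s₁ = i ≫ s₂ := by
    have h := pullback.condition (f := pullback.lift s₁ s₂ (h₁.trans h₂.symm)) (g := pullback.diagonal f)
    have e1 := congrArg (· ≫ pullback.fst f f) h
    have e2 := congrArg (· ≫ pullback.snd f f) h
    simp at e1 e2
    exact e1.trans e2.symm
  let j : (U : Scheme) ⟶ pullback (pullback.lift s₁ s₂ (h₁.trans h₂.symm)) (pullback.diagonal f) :=
    pullback.lift U.ι (U.ι ≫ s₁) (by
      apply pullback.hom_ext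
      · simp
      · simpa using hU.symm)
  have hle : i.ker ≤ U.ι.ker := by
    conv_rhs => rw [show U.ι = j ≫ i from (pullback.lift_fst _ _ _).symm]
    exact Scheme.Hom.le_ker_comp j i
  suffices hbot : i.ker = ⊥ by
    haveI : IsIso i := IsClosedImmersion.isIso_iff_ker_eq_bot.mpr hbot
    exact (cancel_epi i).mp hi
  refine eq_bot_iff.mpr fun V => ?_
  intro s hs
  have hs' : U.ι.app V.1 s = 0 := by
    have := hle V hs
    rwa [Scheme.Hom.ker_apply, RingHom.mem_ker] at this
  have hgermU : ∀ (w : X) (hw : w ∈ V.1), w ∈ U → X.presheaf.germ V.1 w hw s = 0 := by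
    intro w hw hwU
    obtain ⟨u, rfl⟩ : w ∈ Set.range U.ι := by rw [Scheme.Opens.range_ι]; exact hwU
    apply (ConcreteCategory.bijective_of_isIso (U.ι.stalkMap u)).1
    rw [Scheme.Hom.germ_stalkMap_apply, hs', map_zero, map_zero]
  show s = 0
  refine TopCat.Presheaf.section_ext X.sheaf V.1 s 0 fun w hw => ?_
  show X.presheaf.germ V.1 w hw s = X.presheaf.germ V.1 w hw 0
  rw [map_zero]
  by_contra hne
  obtain ⟨y, -, hy, m, hm⟩ := ModStalk.exists_isWeakAssPoint V.2 (Coh.structureModule X) ⟨w, hw⟩
    (ModStalk.toUnit s) (by rwa [Ne, ModStalk.germ_toUnit_eq_zero_iff])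
  have hyU : y.1 ∉ U := fun h => hy ((ModStalk.germ_toUnit_eq_zero_iff _ _ _).mpr (hgermU y.1 y.2 h))
  obtain ⟨a, ha, hreg⟩ := hZ y.1 hyU
  rw [← hm] at ha
  obtain ⟨n, hn⟩ := ha
  have hn0 : a ^ n • m = 0 := hn
  have hm0 : m = 0 := by
    apply (ModStalk.unitStalkEquiv y.1).symm.injective.eq_iff.mp
    rw [map_zero]
    apply (hreg.pow n).right_eq_zero_of_smul
    show a ^ n • (ModStalk.unitStalkEquiv y.1).symm m = 0
    rw [← map_smul, hn0, map_zero]
  apply (IsLocalRing.maximalIdeal.isMaximal (X.presheaf.stalk y.1)).ne_top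
  rw [← hm, hm0]
  simp

end Groth.Agent.S14271
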