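import Groth.Statements.S14309
import Mathlib

set_option autoImplicit false
set_option maxHeartbeats 800000
set_option linter.style.haveILetI false
universe u v w x y
open CAlg

namespace Groth.Agent.S14309

/-- Let R be a commutative ring; A, B, C commutative R-algebras; i : A → B and j : A → C jointly
injective R-algebra maps; c a non-zero-divisor of B; u : C → B/(c) a ring map with u ∘ j equal to i
followed by reduction modulo c; ζ in A with i ζ = c and j ζ = 0; η : R[X_σ, Z] → A an R-algebra map
with η(Z) = ζ; a : R[Y_τ] → B a surjective R-algebra map; η_Z : R[X_σ, Z] → R[Y_τ] a surjective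
R-algebra map with a ∘ η_Z = i ∘ η. Fix c̃ in R[Y_τ] with a(c̃) = c, a family (p_h) generating the
kernel of the composite R[X_σ] → R[X_σ, Z] → A → C, a family (q'_h) generating the kernel of a
together with lifts q_h along η_Z, a family (v_h) generating the kernel of η_Z, and elements g'_h of
R[Y_τ] with η_Z(p_h) + g'_h c̃ in the ideal (q'_h), together with lifts g_h along η_Z. Then the
kernel of η is the ideal generated by the elements Z q_h, Z v_h and p_h + Z g_h. (The published
statement is for the rings of cycle classes, with coefficients ℤ[1/6], of a smooth quotient stack, a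
smooth closed substack whose normal bundle has top Chern class c a non-zero-divisor, and the open
complement; this row states the ring-theoretic content for any such square of commutative rings in
which A embeds in B × C.) -/
theorem result
    {R : Type u} [CommRing R] {A : Type v} {B : Type w} {C : Type x}
    [CommRing A] [CommRing B] [CommRing C] [Algebra R A] [Algebra R B] [Algebra R C]
    (i : A →ₐ[R] B) (j : A →ₐ[R] C)
    (hinj : ∀ t : A, i t = 0 → j t = 0 → t = 0)
    (c : B) (hc : c ∈ nonZeroDivisors B) (u : C →+* B ⧸ Ideal.span ({c} : Set B))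
    (hu : ∀ t : A, u (j t) = Ideal.Quotient.mk (Ideal.span ({c} : Set B)) (i t))
    (ζ : A) (hiζ : i ζ = c) (hjζ : j ζ = 0)
    {σ τ ιp ιq ιv : Type y}
    (η : MvPolynomial (Option σ) R →ₐ[R] A) (hη : η (MvPolynomial.X none) = ζ)
    (a : MvPolynomial τ R →ₐ[R] B) (ha : Function.Surjective a)
    (ηZ : MvPolynomial (Option σ) R →ₐ[R] MvPolynomial τ R)
    (hcomm : ∀ t, a (ηZ t) = i (η t)) (hηZ : Function.Surjective ηZ)
    (cZ : MvPolynomial τ R) (hcZ : a cZ = c)
    (p : ιp → MvPolynomial σ R)
    (hp : Ideal.span (Set.range p) =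
      RingHom.ker ((j.comp η).comp (MvPolynomial.rename (Option.some : σ → Option σ))))
    (q' : ιq → MvPolynomial τ R) (hq' : Ideal.span (Set.range q') = RingHom.ker a)
    (q : ιq → MvPolynomial (Option σ) R) (hq : ∀ h, ηZ (q h) = q' h)
    (v : ιv → MvPolynomial (Option σ) R) (hv : Ideal.span (Set.range v) = RingHom.ker ηZ)
    (g' : ιp → MvPolynomial τ R)
    (hg' : ∀ h, ηZ (MvPolynomial.rename (Option.some : σ → Option σ) (p h)) + g' h * cZ ∈
      Ideal.span (Set.range q'))
    (g : ιp → MvPolynomial (Option σ) R) (hg : ∀ h, ηZ (g h) = g' h) :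
    RingHom.ker η = Ideal.span
      (Set.range (fun h : ιq => MvPolynomial.X none * q h) ∪
        Set.range (fun h : ιv => MvPolynomial.X none * v h) ∪
        Set.range (fun h : ιp =>
          MvPolynomial.rename (Option.some : σ → Option σ) (p h) + MvPolynomial.X none * g h)) := by
  classical
  set X₀ : MvPolynomial (Option σ) R := MvPolynomial.X none with hX
  set ren := MvPolynomial.rename (R := R) (Option.some : σ → Option σ) with hren
  set G : Ideal (MvPolynomial (Option σ) R) := Ideal.span
      (Set.range (fun h : ιq => X₀ * q h) ∪ Set.range (fun h : ιv => X₀ * v h) ∪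
        Set.range (fun h : ιp => ren (p h) + X₀ * g h)) with hG
  have hiX : ∀ F, i (η (X₀ * F)) = c * a (ηZ F) := fun F => by rw [map_mul, map_mul, hη, hiζ, hcomm]
  have hjX : ∀ F, j (η (X₀ * F)) = 0 := fun F => by rw [map_mul, map_mul, hη, hjζ, zero_mul]
  have haq : ∀ m ∈ Ideal.span (Set.range q'), a m = 0 := fun m hm => by rw [hq'] at hm; exact hm
  refine le_antisymm (fun f hf => ?_) (Ideal.span_le.mpr ?_)
  · let kill : MvPolynomial (Option σ) R →ₐ[R] MvPolynomial σ R := MvPolynomial.aeval (fun o => o.elim 0 MvPolynomial.X)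
    have hdec : f - ren (kill f) ∈ Ideal.span {X₀} := by
      have e : (Ideal.Quotient.mkₐ R (Ideal.span {X₀})).comp (ren.comp kill) = Ideal.Quotient.mkₐ R (Ideal.span {X₀}) := by
        apply MvPolynomial.algHom_ext
        intro o
        rw [AlgHom.comp_apply, AlgHom.comp_apply]
        cases o with
        | none =>
          rw [show kill (MvPolynomial.X none) = 0 from MvPolynomial.aeval_X _ _, map_zero, map_zero]
          rw [Ideal.Quotient.mkₐ_eq_mk]
          exact (Ideal.Quotient.eq_zero_iff_mem.mpr (Ideal.mem_span_singleton_self X₀)).symm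
        | some s =>
          rw [show kill (MvPolynomial.X (some s)) = MvPolynomial.X s from MvPolynomial.aeval_X _ _, hren, MvPolynomial.rename_X]
      have e2 := AlgHom.congr_fun e f
      rw [AlgHom.comp_apply, AlgHom.comp_apply, Ideal.Quotient.mkₐ_eq_mk] at e2
      exact Ideal.Quotient.eq.mp e2.symm
    obtain ⟨f₁, hf₁⟩ := Ideal.mem_span_singleton'.mp hdec
    have hf0 : kill f ∈ Ideal.span (Set.range p) := by
      rw [hp, RingHom.mem_ker]
      show j (η (ren (kill f))) = 0
      rw [show ren (kill f) = f - X₀ * f₁ by linear_combination hf₁, map_sub, map_sub, show η f = 0 from hf, map_zero, hjX, sub_zero]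
    have hW : ∀ f0 ∈ Ideal.span (Set.range p), ∃ w, ren f0 + X₀ * w ∈ G := by
      intro f0 h0
      induction h0 using Submodule.span_induction with
      | mem x hx =>
        obtain ⟨h, rfl⟩ := hx
        exact ⟨g h, Ideal.subset_span (Or.inr ⟨h, rfl⟩)⟩
      | zero => exact ⟨0, by simp⟩
      | add x y _ _ hx hy =>
        obtain ⟨w, hw⟩ := hx; obtain ⟨w', hw'⟩ := hy
        exact ⟨w + w', by convert G.add_mem hw hw' using 1; rw [map_add]; ring⟩
      | smul r x _ hx =>
        obtain ⟨w, hw⟩ := hx
        exact ⟨ren r * w, by convert G.mul_mem_left (ren r) hw using 1; rw [smul_eq_mul, map_mul]; ring⟩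
    have hGker : G ≤ RingHom.ker η := by
      refine Ideal.span_le.mpr ?_
      rintro x ((⟨h, rfl⟩ | ⟨h, rfl⟩) | ⟨h, rfl⟩) <;> refine hinj _ ?_ ?_
      · rw [hiX, hq, haq _ (Ideal.subset_span ⟨h, rfl⟩), mul_zero]
      · exact hjX _
      · rw [hiX, show ηZ (v h) = 0 from RingHom.mem_ker.mp (hv ▸ Ideal.subset_span ⟨h, rfl⟩), map_zero, mul_zero]
      · exact hjX _
      · have e := haq _ (hg' h)
        rw [map_add, map_mul, hcZ] at e
        rw [map_add, map_add, hiX, hg, ← hcomm]
        linear_combination e
      · rw [map_add, map_add, hjX, add_zero]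
        have : p h ∈ RingHom.ker ((j.comp η).comp ren) := hp ▸ Ideal.subset_span ⟨h, rfl⟩
        exact this
    obtain ⟨w, hw⟩ := hW _ hf0
    set F := f₁ - w with hF
    have hfF : f = (ren (kill f) + X₀ * w) + X₀ * F := by rw [hF]; linear_combination -hf₁
    have hF0 : ηZ F ∈ Ideal.span (Set.range q') := by
      rw [hq', RingHom.mem_ker]
      have h1 : η f = η (ren (kill f) + X₀ * w) + η (X₀ * F) := by rw [← map_add, ← hfF]
      rw [show η f = 0 from hf, show η (ren (kill f) + X₀ * w) = 0 from hGker hw, zero_add] at h1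
      have h2 := congrArg i h1.symm
      rw [hiX, map_zero, mul_comm] at h2
      exact (mem_nonZeroDivisors_iff_right.mp hc) _ h2
    have hF1 : F ∈ Ideal.span (Set.range q) ⊔ Ideal.span (Set.range v) := by
      have e : Ideal.map ηZ.toRingHom (Ideal.span (Set.range q)) = Ideal.span (Set.range q') := by
        rw [Ideal.map_span, ← Set.range_comp]
        congr 2
        funext h; exact hq h
      have h3 : F ∈ Ideal.comap ηZ.toRingHom (Ideal.map ηZ.toRingHom (Ideal.span (Set.range q))) := by
        rw [Ideal.mem_comap, e]; exact hF0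
      rw [Ideal.comap_map_of_surjective' ηZ.toRingHom hηZ] at h3
      have hk : RingHom.ker ηZ.toRingHom = Ideal.span (Set.range v) := hv.symm
      rwa [hk] at h3
    have hXG : ∀ x ∈ Ideal.span (Set.range q) ⊔ Ideal.span (Set.range v), X₀ * x ∈ G := by
      intro x hx
      have : Ideal.span (Set.range q) ⊔ Ideal.span (Set.range v) ≤ Submodule.colon G {X₀} := by
        refine sup_le (Ideal.span_le.mpr ?_) (Ideal.span_le.mpr ?_) <;> rintro _ ⟨h, rfl⟩ <;>
          rw [SetLike.mem_coe, Submodule.mem_colon_singleton, smul_eq_mul, mul_comm]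
        · exact Ideal.subset_span (Or.inl (Or.inl ⟨h, rfl⟩))
        · exact Ideal.subset_span (Or.inl (Or.inr ⟨h, rfl⟩))
      have h := this hx
      rwa [Submodule.mem_colon_singleton, smul_eq_mul, mul_comm] at h
    show f ∈ G
    rw [hfF]
    exact G.add_mem hw (hXG F hF1)
  · rintro x ((⟨h, rfl⟩ | ⟨h, rfl⟩) | ⟨h, rfl⟩) <;> refine hinj _ ?_ ?_
    · rw [hiX, hq, haq _ (Ideal.subset_span ⟨h, rfl⟩), mul_zero]
    · exact hjX _
    · rw [hiX, show ηZ (v h) = 0 from RingHom.mem_ker.mp (hv ▸ Ideal.subset_span ⟨h, rfl⟩), map_zero, mul_zero]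
    · exact hjX _
    · have e := haq _ (hg' h)
      rw [map_add, map_mul, hcZ] at e
      rw [map_add, map_add, hiX, hg, ← hcomm]
      linear_combination e
    · rw [map_add, map_add, hjX, add_zero]
      have : p h ∈ RingHom.ker ((j.comp η).comp ren) := hp ▸ Ideal.subset_span ⟨h, rfl⟩
      exact this

end Groth.Agent.S14309
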