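import Groth.Statements.S1432
import Mathlib

set_option autoImplicit false
set_option backward.isDefEq.respectTransparency false
set_option backward.isDefEq.respectTransparency.types false
universe u
open FlatMor

namespace Groth.Agent.S1432

open AlgebraicGeometry CategoryTheory Limits in
/-- For a quasi-compact morphism f : X → Y, being a closed immersion is equivalent to the following
lifting property: for each injective ring map A → B and each commutative square with Spec B → X on
top and Spec A → Y at the bottom there is a lift Spec A → X making both triangles commute. -/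
theorem result {X Y : Scheme.{u}} (f : X ⟶ Y) [QuasiCompact f] :
    IsClosedImmersion f ↔ ∀ (A B : Type u) [CommRing A] [CommRing B] (φ : A →+* B), Function.Injective φ →
      ∀ (a : Spec (CommRingCat.of B) ⟶ X) (b : Spec (CommRingCat.of A) ⟶ Y), Spec.map (CommRingCat.ofHom φ) ≫ b = a ≫ f →
        ∃ l : Spec (CommRingCat.of A) ⟶ X, Spec.map (CommRingCat.ofHom φ) ≫ l = a ∧ l ≫ f = b := by
  constructor
  · intro hf A B _ _ φ hφ a b w
    let σ := pullback.snd f b
    let a' : Spec (CommRingCat.of B) ⟶ pullback f b :=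
      pullback.lift a (Spec.map (CommRingCat.ofHom φ)) w.symm
    haveI : IsIso σ := by
      refine IsClosedImmersion.isIso_of_injective_of_isAffine ?_
      have h1 : σ.appTop ≫ a'.appTop =
          (Spec.map (CommRingCat.ofHom φ)).appTop := by
        rw [← Scheme.Hom.comp_appTop]; congr 1
        exact pullback.lift_snd _ _ _
      have h2 : Function.Injective (Spec.map (CommRingCat.ofHom φ)).appTop.hom := by
        have e := Scheme.ΓSpecIso_naturality (CommRingCat.ofHom φ)
        intro p q hpq
        apply (Scheme.ΓSpecIso (CommRingCat.of A)).commRingCatIsoToRingEquiv.injective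
        apply hφ
        have e1 := congrArg (fun m => m.hom p) e
        have e2 := congrArg (fun m => m.hom q) e
        exact e1.symm.trans ((congrArg _ hpq).trans e2)
      intro p q hpq
      apply h2
      rw [← h1]
      exact congrArg a'.appTop.hom hpq
    refine ⟨inv σ ≫ pullback.fst f b, ?_, ?_⟩
    · have : Spec.map (CommRingCat.ofHom φ) ≫ inv σ = a' := by
        rw [IsIso.comp_inv_eq]; exact (pullback.lift_snd _ _ _).symm
      rw [reassoc_of% this, pullback.lift_fst]
    · rw [Category.assoc, pullback.condition, IsIso.inv_hom_id_assoc]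
  · intro h
    wlog hY : IsAffine Y generalizing X Y
    · rw [IsZariskiLocalAtTarget.iff_of_openCover (P := @IsClosedImmersion) Y.affineCover]
      intro i
      refine this (pullback.snd f (Y.affineCover.f i)) ?_ inferInstance
      intro A B _ _ φ hφ a b w
      obtain ⟨l, hl, hl'⟩ := h A B φ hφ (a ≫ pullback.fst _ _) (b ≫ Y.affineCover.f i)
        (by rw [reassoc_of% w, Category.assoc, pullback.condition])
      refine ⟨pullback.lift l b hl', ?_, pullback.lift_snd _ _ _⟩
      apply pullback.hom_ext
      · rw [Category.assoc, pullback.lift_fst, hl]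
      · rw [Category.assoc, pullback.lift_snd, w]
    haveI : Mono f := by
      refine ⟨fun {T} u v huv => ?_⟩
      refine T.affineCover.hom_ext _ _ fun i => ?_
      obtain ⟨C, hC⟩ : ∃ C : CommRingCat.{u}, T.affineCover.X i = Spec C := ⟨_, rfl⟩
      let u' : Spec C ⟶ X := eqToHom hC.symm ≫ T.affineCover.f i ≫ u
      let v' : Spec C ⟶ X := eqToHom hC.symm ≫ T.affineCover.f i ≫ v
      have huv' : u' ≫ f = v' ≫ f := by simp [u', v', huv]
      let φ : (C : Type u) →+* C × C := (RingHom.id C).prod (RingHom.id C)
      let F := coprodSpec C C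
      let a : Spec (CommRingCat.of (C × C)) ⟶ X := inv F ≫ coprod.desc u' v'
      have hF1 : coprod.inl ≫ F ≫ Spec.map (CommRingCat.ofHom φ) = 𝟙 _ := by
        rw [coprodSpec_inl_assoc, ← Spec.map_comp, ← Spec.map_id]; congr 1
      have hF2 : coprod.inr ≫ F ≫ Spec.map (CommRingCat.ofHom φ) = 𝟙 _ := by
        rw [coprodSpec_inr_assoc, ← Spec.map_comp, ← Spec.map_id]; congr 1
      obtain ⟨l, hl, -⟩ := h C (C × C) φ (fun p q e => (Prod.ext_iff.mp e).1) a (u' ≫ f) (by
        rw [← cancel_epi F, show F ≫ a ≫ f = coprod.desc u' v' ≫ f by simp [a]; rfl]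
        apply coprod.hom_ext
        · rw [reassoc_of% hF1, coprod.inl_desc_assoc]
        · rw [reassoc_of% hF2, coprod.inr_desc_assoc, huv'])
      have h1 : F ≫ Spec.map (CommRingCat.ofHom φ) ≫ l = coprod.desc u' v' := by
        rw [hl]; simp [a]; rfl
      have e1 := coprod.inl ≫= h1
      have e2 := coprod.inr ≫= h1
      rw [reassoc_of% hF1, coprod.inl_desc] at e1
      rw [reassoc_of% hF2, coprod.inr_desc] at e2
      have e3 : u' = v' := e1.symm.trans e2
      exact (cancel_epi (eqToHom hC.symm)).mp e3
    haveI : CompactSpace X := QuasiCompact.compactSpace_of_compactSpace f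
    haveI : MorphismProperty.IsMultiplicative (@IsLocalIso : MorphismProperty Scheme.{u}) := by
      rw [IsLocalIso.eq_sourceLocalClosure_isOpenImmersion]; infer_instance
    haveI : IsZariskiLocalAtSource (@IsLocalIso : MorphismProperty Scheme.{u}) := by
      rw [IsLocalIso.eq_sourceLocalClosure_isOpenImmersion]; infer_instance
    obtain ⟨X', p, hp, hp', hX'⟩ := X.exists_hom_isAffine_of_isZariskiLocalAtSource (@IsLocalIso : MorphismProperty Scheme.{u})
    have hpinj : Function.Injective p.appTop.hom := by
      rw [injective_iff_map_eq_zero]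
      intro s hs
      refine TopCat.Presheaf.section_ext X.sheaf ⊤ s 0 fun x hx => ?_
      obtain ⟨x', rfl⟩ := p.surjective x
      obtain ⟨U, hxU, hU⟩ := hp'.exists_isOpenImmersion x'
      haveI : IsIso (p.stalkMap x') := by
        have := Scheme.Hom.stalkMap_comp U.ι p ⟨x', hxU⟩
        haveI : IsIso (p.stalkMap (U.ι ⟨x', hxU⟩) ≫ U.ι.stalkMap ⟨x', hxU⟩) := this ▸ inferInstance
        exact IsIso.of_isIso_comp_right (p.stalkMap (U.ι ⟨x', hxU⟩)) (U.ι.stalkMap ⟨x', hxU⟩)
      apply ((ConcreteCategory.isIso_iff_bijective (p.stalkMap x')).mp inferInstance).1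
      show (p.stalkMap x').hom _ = (p.stalkMap x').hom _
      rw [map_zero, map_zero]
      exact ((Scheme.Hom.germ_stalkMap_apply p ⊤ x' trivial s).trans (congrArg _ hs)).trans (map_zero _)
    let K : Ideal Γ(Y, ⊤) := RingHom.ker f.appTop.hom
    let qK := CommRingCat.ofHom (Ideal.Quotient.mk K)
    let β : CommRingCat.of (Γ(Y, ⊤) ⧸ K) ⟶ Γ(X, ⊤) := CommRingCat.ofHom (RingHom.kerLift f.appTop.hom)
    have hβ : qK ≫ β = f.appTop := by ext; rfl
    let b : Spec (CommRingCat.of (Γ(Y, ⊤) ⧸ K)) ⟶ Y := Spec.map qK ≫ Y.isoSpec.inv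
    let g : X ⟶ Spec (CommRingCat.of (Γ(Y, ⊤) ⧸ K)) := X.toSpecΓ ≫ Spec.map β
    have hgb : g ≫ b = f := by
      simp only [g, b, Category.assoc]
      rw [← Spec.map_comp_assoc, hβ, ← Scheme.toSpecΓ_naturality_assoc]
      simp [Scheme.isoSpec]
    let φ : Γ(Y, ⊤) ⧸ K →+* Γ(X', ⊤) := (β ≫ p.appTop).hom
    have hφ : Function.Injective φ := hpinj.comp (RingHom.kerLift_injective f.appTop.hom)
    obtain ⟨l, -, hl⟩ := h _ _ φ hφ (X'.isoSpec.inv ≫ p) b (by
      rw [show CommRingCat.ofHom φ = β ≫ p.appTop from rfl, Spec.map_comp, Category.assoc,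
        Category.assoc, ← hgb, ← cancel_epi X'.isoSpec.hom]
      simp only [g, Iso.hom_inv_id_assoc, Category.assoc]
      simp only [Scheme.isoSpec, asIso_hom]
      rw [← Scheme.toSpecΓ_naturality_assoc])
    haveI : IsClosedImmersion (Spec.map qK) := IsClosedImmersion.spec_of_surjective _ Ideal.Quotient.mk_surjective
    haveI : IsClosedImmersion b := inferInstanceAs (IsClosedImmersion (Spec.map qK ≫ Y.isoSpec.inv))
    have h1 : g ≫ l = 𝟙 X := by rw [← cancel_mono f, Category.assoc, hl, hgb, Category.id_comp]
    have h2 : l ≫ g = 𝟙 _ := by rw [← cancel_mono b, Category.assoc, hgb, hl, Category.id_comp]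
    haveI : IsIso g := ⟨l, h1, h2⟩
    exact hgb ▸ inferInstance

end Groth.Agent.S1432
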