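import Groth.Statements.S14351
import Mathlib
-- import your own Groth.Agent.* helpers here

set_option autoImplicit false
universe u
open CAlg

namespace Groth.Agent.S14351

theorem flat_aux (R S T : Type u) [CommRing R] [CommRing S] [CommRing T]
    [Algebra R S] [Algebra S T] [Algebra R T] [IsScalarTower R S T] [Module.FaithfullyFlat S T]
    [Module.FaithfullyFlat R T] : Module.Flat R S := by
  rw [Module.Flat.iff_lTensor_preserves_injective_linearMap]
  intro N P _ _ _ _ f hf
  have hT := Module.Flat.lTensor_preserves_injective_linearMap (M := T) f hf
  suffices Function.Injective (f.baseChange S) from this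
  rw [← Module.FaithfullyFlat.lTensor_injective_iff_injective S T]
  have key : ∀ z, TensorProduct.AlgebraTensorModule.cancelBaseChange R S T T P
      (LinearMap.lTensor T (f.baseChange S) z) =
      LinearMap.lTensor T f (TensorProduct.AlgebraTensorModule.cancelBaseChange R S T T N z) := by
    intro z
    induction z with
    | zero => simp
    | add a b ha hb => simp [ha, hb]
    | tmul t w =>
      induction w with
      | zero => simp
      | add a b ha hb => rw [TensorProduct.tmul_add]; simp only [map_add, ha, hb]
      | tmul s n => simp
  intro a b hab
  refine (TensorProduct.AlgebraTensorModule.cancelBaseChange R S T T N).injective (hT ?_)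
  rw [← key, ← key, hab]


/-- For ring maps A → B → C with C faithfully flat over B and C faithfully flat over A, the ring B is
faithfully flat over A. -/
theorem result (A B C : Type u) [CommRing A] [CommRing B]
    [CommRing C] [Algebra A B] [Algebra B C] [Algebra A C] [IsScalarTower A B C]
    [Module.FaithfullyFlat B C] [Module.FaithfullyFlat A C] : Module.FaithfullyFlat A B := by
  haveI hflat : Module.Flat A B := flat_aux A B C
  refine Module.FaithfullyFlat.of_comap_surjective fun P => ?_
  obtain ⟨Q, hQ⟩ := PrimeSpectrum.comap_surjective_of_faithfullyFlat (B := C) P
  exact ⟨PrimeSpectrum.comap (algebraMap B C) Q, by rw [← PrimeSpectrum.comap_comp_apply, ← IsScalarTower.algebraMap_eq]; exact hQ⟩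

end Groth.Agent.S14351
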