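import Groth.Statements.S14358
import Mathlib
-- import your own Groth.Agent.* helpers here

set_option autoImplicit false
universe u
open CAlg

namespace Groth.Agent.S14358

/-- Let A be a Noetherian integral domain with fraction field K and let r ∈ K. Then r belongs to A if
and only if, for every nonzero g ∈ A and every associated prime p of the A-module A/(g), the element
r belongs to the local ring A_p inside K, i.e. s r = a in K for some a ∈ A and some s ∈ A outside p. -/
theorem result (A K : Type u)
    [CommRing A] [IsDomain A] [IsNoetherianRing A] [Field K] [Algebra A K] [IsFractionRing A K]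
    (r : K) :
    r ∈ Set.range (algebraMap A K) ↔
      ∀ g : A, g ≠ 0 → ∀ p ∈ associatedPrimes A (A ⧸ Ideal.span {g}),
        ∃ a s : A, s ∉ p ∧ algebraMap A K s * r = algebraMap A K a := by
  constructor
  · rintro ⟨a, rfl⟩ g _ p hp
    exact ⟨a, 1, fun h => hp.isPrime.ne_top ((Ideal.eq_top_iff_one p).mpr h), by rw [map_one, one_mul]⟩
  · intro h
    obtain ⟨b, g, rfl⟩ := IsLocalization.exists_mk'_eq (nonZeroDivisors A) r
    have hg : (g : A) ≠ 0 := nonZeroDivisors.ne_zero g.2
    by_cases hb : (Ideal.Quotient.mk (Ideal.span {(g : A)}) b) = 0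
    · rw [Ideal.Quotient.eq_zero_iff_mem, Ideal.mem_span_singleton'] at hb
      obtain ⟨c, hc⟩ := hb
      exact ⟨c, IsLocalization.eq_mk'_iff_mul_eq.mpr (by rw [← map_mul, hc])⟩
    · obtain ⟨p, hp, hle⟩ := exists_le_isAssociatedPrime_of_isNoetherianRing A (Ideal.Quotient.mk (Ideal.span {(g : A)}) b) hb
      obtain ⟨a, s, hs, e⟩ := h g hg p hp
      refine absurd (hle ?_) hs
      rw [Submodule.mem_colon_singleton, Submodule.mem_bot, Algebra.smul_def]
      change Ideal.Quotient.mk _ s * Ideal.Quotient.mk _ b = 0
      rw [← map_mul, Ideal.Quotient.eq_zero_iff_mem, Ideal.mem_span_singleton']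
      refine ⟨a, IsFractionRing.injective A K ?_⟩
      rw [map_mul, map_mul, ← e, mul_assoc, IsLocalization.mk'_spec]

end Groth.Agent.S14358
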