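import Groth.Statements.S14359
import Mathlib
import Groth.Agent.S10957

set_option autoImplicit false
set_option linter.style.haveILetI false
universe u
open CAlg

namespace Groth.Agent.S14359

/-- Let A be a Noetherian integrally closed integral domain and b a nonzero element of A. Then every
associated prime of the A-module A/(b) has height one, so that A/(b) has no embedded associated
primes. -/
theorem result
    (A : Type u) [CommRing A] [IsDomain A] [IsNoetherianRing A] [IsIntegrallyClosed A]
    (b : A) (hb : b ≠ 0) (p : Ideal A) (hp : p ∈ associatedPrimes A (A ⧸ Ideal.span {b})) :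
    p.height = 1 := by
  obtain ⟨hpp, x0, hx0⟩ := isAssociatedPrime_iff.mp hp
  obtain ⟨x, rfl⟩ := Ideal.Quotient.mk_surjective x0
  have hmem : ∀ z, z ∈ p ↔ z * x ∈ Ideal.span ({b} : Set A) := by
    intro z
    rw [hx0, Submodule.mem_colon_singleton, Submodule.mem_bot, Algebra.smul_def, Ideal.Quotient.algebraMap_eq, ← map_mul, Ideal.Quotient.eq_zero_iff_mem]
  let L := Localization.AtPrime p
  haveI : IsNoetherianRing L := IsLocalization.isNoetherianRing p.primeCompl L inferInstance
  haveI : IsIntegrallyClosed L := isIntegrallyClosed_of_isLocalization L p.primeCompl p.primeCompl_le_nonZeroDivisors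
  have hinj : Function.Injective (algebraMap A L) := IsLocalization.injective L p.primeCompl_le_nonZeroDivisors
  have hbL : algebraMap A L b ≠ 0 := fun h => hb (hinj (by rw [h, map_zero]))
  have hass : IsLocalRing.maximalIdeal L ∈ associatedPrimes L (L ⧸ Ideal.span ({algebraMap A L b} : Set L)) := by
    refine isAssociatedPrime_iff.mpr ⟨(IsLocalRing.maximalIdeal.isMaximal L).isPrime, Ideal.Quotient.mk _ (algebraMap A L x), ?_⟩
    ext w
    rw [Submodule.mem_colon_singleton, Submodule.mem_bot, ← Ideal.Quotient.mk_eq_mk, ← Submodule.Quotient.mk_smul, Submodule.Quotient.mk_eq_zero, smul_eq_mul]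
    obtain ⟨⟨z, s⟩, hw⟩ := IsLocalization.surj p.primeCompl w
    simp only at hw
    have hs : IsUnit (algebraMap A L s) := IsLocalization.map_units L s
    rw [show Ideal.span ({algebraMap A L b} : Set L) = Ideal.map (algebraMap A L) (Ideal.span {b}) by rw [Ideal.map_span, Set.image_singleton]]
    rw [← Ideal.mul_unit_mem_iff_mem _ hs, hw, ← Ideal.mul_unit_mem_iff_mem (Ideal.map (algebraMap A L) (Ideal.span {b})) hs, mul_right_comm, hw, ← map_mul,
      IsLocalization.algebraMap_mem_map_algebraMap_iff p.primeCompl L, ← Localization.AtPrime.map_eq_maximalIdeal,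
      IsLocalization.algebraMap_mem_map_algebraMap_iff p.primeCompl L]
    constructor
    · rintro ⟨t, ht, htz⟩
      exact ⟨t, ht, by rw [← mul_assoc]; exact (hmem _).mp htz⟩
    · rintro ⟨t, ht, htz⟩
      exact ⟨t, ht, (hmem _).mpr (by rw [mul_assoc]; exact htz)⟩
  haveI := Groth.Agent.S10957.result L (algebraMap A L b) hbL hass
  have h1 : ringKrullDim L = 1 := IsPrincipalIdealRing.ringKrullDim_eq_one L (IsDiscreteValuationRing.not_isField L)
  rw [IsLocalization.AtPrime.ringKrullDim_eq_height p L] at h1
  exact_mod_cast h1

end Groth.Agent.S14359
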