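import Groth.Statements.S14361
import Mathlib.AlgebraicGeometry.Morphisms.FlatDescent
import Mathlib.AlgebraicGeometry.Morphisms.QuasiSeparated
import Mathlib.AlgebraicGeometry.Geometrically.Irreducible
import Mathlib.AlgebraicGeometry.Geometrically.Connected
import Mathlib.AlgebraicGeometry.Limits
import Mathlib.AlgebraicGeometry.IdealSheaf.Basic
import Mathlib.AlgebraicGeometry.Noetherian
import Mathlib.Algebra.Category.Ring.FilteredColimits
import Mathlib.RingTheory.Regular.IsSMulRegular
import Mathlib.Algebra.Module.Submodule.Pointwise

set_option autoImplicit false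
universe u
open AlgebraicGeometry
open SchImage

namespace Groth.Agent.S14361

open CategoryTheory AlgebraicGeometry

/-- Let π : X → Y be a morphism of schemes with X reduced. Then the scheme-theoretic image of π is
computed affine-locally: on every affine open U of Y, the ideal of the kernel ideal sheaf of π (the
largest quasi-coherent ideal sheaf contained in the componentwise kernels) equals the ideal of those
sections over U which pull back to zero on π⁻¹(U). (The published statement allows, as an
alternative to X being reduced, that π be quasi-compact; this row is the reduced case and assumes no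
quasi-compactness.) -/
theorem result (X Y : Scheme.{u}) [IsReduced X]
    (π : X ⟶ Y) (U : Y.affineOpens) :
    π.ker.ideal U = RingHom.ker (π.app U).hom := by
  let I : Y.IdealSheafData := ⟨fun U ↦ RingHom.ker (π.app U).hom, ?_, _, rfl⟩
  · exact congr($(Scheme.IdealSheafData.ofIdeals_ideal I).ideal U)
  intro V s
  apply le_antisymm
  · refine Ideal.map_le_iff_le_comap.mpr fun x hx ↦ ?_
    change (π.app (Y.basicOpen s)).hom _ = 0
    have e := congr($(π.naturality (homOfLE (Y.basicOpen_le s)).op).hom x)
    simp only [CommRingCat.hom_comp, RingHom.coe_comp, Function.comp_apply] at e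
    rw [RingHom.mem_ker] at hx
    rw [hx, map_zero] at e
    exact e
  · intro x hx
    have := V.2.isLocalization_basicOpen s
    obtain ⟨x, ⟨_, n, rfl⟩, rfl⟩ := IsLocalization.exists_mk'_eq (.powers s) x
    refine (IsLocalization.mk'_mem_map_algebraMap_iff _ _ _ _ _).mpr ⟨s, ⟨1, pow_one s⟩, ?_⟩
    replace hx : (π.app (Y.basicOpen s)).hom _ = 0 := hx
    change (π.app V).hom _ = 0
    have h0 : (π.app (Y.basicOpen s)).hom (algebraMap Γ(Y, V) _ x) = 0 := by
      rw [← IsLocalization.mk'_spec' _ x (⟨s ^ n, n, rfl⟩ : Submonoid.powers s), map_mul]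
      erw [hx]; rw [mul_zero]
    have e := congr($(π.naturality (homOfLE (Y.basicOpen_le s)).op).hom x)
    simp only [CommRingCat.hom_comp, RingHom.coe_comp, Function.comp_apply] at e
    apply eq_zero_of_basicOpen_eq_bot
    rw [← Scheme.preimage_basicOpen, eq_bot_iff]
    intro z hz
    have hz1 : π z ∈ Y.basicOpen s ⊓ Y.basicOpen x := by rw [← Y.basicOpen_mul]; exact hz
    have : z ∈ X.basicOpen ((π.app (Y.basicOpen s)).hom (algebraMap Γ(Y, V) _ x)) := by
      rw [← Scheme.preimage_basicOpen]
      change π z ∈ Y.basicOpen _
      rw [RingHom.algebraMap_toAlgebra, Scheme.basicOpen_res]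
      exact hz1
    rw [h0, Scheme.basicOpen_zero] at this
    exact this

end Groth.Agent.S14361
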