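import Groth.Statements.S14362
import Mathlib.AlgebraicGeometry.Morphisms.Integral
import Mathlib.AlgebraicGeometry.Morphisms.QuasiCompact
import Mathlib.AlgebraicGeometry.Geometrically.Irreducible
import Mathlib.AlgebraicGeometry.IdealSheaf.Basic
import Mathlib.RingTheory.Ideal.GoingUp
import Mathlib.Topology.KrullDimension
import Mathlib.RingTheory.KrullDimension.Basic
import Mathlib.RingTheory.Spectrum.Prime.RingHom
import Mathlib.RingTheory.TensorProduct.Maps

set_option autoImplicit false
universe u
open AlgebraicGeometry
open SchImage

namespace Groth.Agent.S14362

/-- Let π : X → Y be a morphism of schemes with X reduced. Then the closed subset underlying the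
scheme-theoretic image of π, i.e. the support of its kernel ideal sheaf, is the closure of the image
of π. (The published statement allows, as an alternative to X being reduced, that π be
quasi-compact; this row is the reduced case and assumes no quasi-compactness.) -/
theorem result (X Y : Scheme.{u}) [IsReduced X]
    (π : X ⟶ Y) :
    (π.ker.support : Set Y) = closure (Set.range π) := by
  apply subset_antisymm
  · let Z : TopologicalSpace.Closeds Y := ⟨closure (Set.range π), isClosed_closure⟩
    have hle : Scheme.IdealSheafData.vanishingIdeal Z ≤ π.ker := by
      refine Scheme.IdealSheafData.le_ofIdeals_iff.mpr fun U t ht => ?_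
      rw [RingHom.mem_ker]
      apply eq_zero_of_basicOpen_eq_bot
      rw [← Scheme.preimage_basicOpen, eq_bot_iff]
      intro x hx
      have hz : π x ∈ (Scheme.IdealSheafData.vanishingIdeal Z).support := by
        rw [← SetLike.mem_coe, Scheme.IdealSheafData.coe_support_vanishingIdeal]
        exact subset_closure ⟨x, rfl⟩
      have := ((Scheme.IdealSheafData.coe_support_inter _ U).le ⟨hz, Y.basicOpen_le t hx⟩).1
      exact ((Scheme.mem_zeroLocus_iff _ _ _).mp this t ht hx).elim
    intro y hy
    have := Scheme.IdealSheafData.support_antitone hle hy
    rwa [← SetLike.mem_coe, Scheme.IdealSheafData.coe_support_vanishingIdeal] at this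
  · exact (π.ker.support).isClosed.closure_subset_iff.mpr π.range_subset_ker_support

end Groth.Agent.S14362
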