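import Groth.Statements.S14363
import Mathlib
-- import your own Groth.Agent.* helpers here

set_option autoImplicit false
universe u
open CAlg

namespace Groth.Agent.S14363

/-- Let A be a Noetherian ring and 0 → M' → M → M'' → 0 a short exact sequence of A-modules. If a prime
p of A is an associated prime of M'' and is not in the support of M', then p is an associated prime
of M. -/
theorem result (A : Type u) [CommRing A] [IsNoetherianRing A]
    (M' M M'' : Type u) [AddCommGroup M'] [Module A M'] [AddCommGroup M] [Module A M]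
    [AddCommGroup M''] [Module A M'']
    (f : M' →ₗ[A] M) (g : M →ₗ[A] M'') (hf : Function.Injective f) (hg : Function.Surjective g)
    (hfg : Function.Exact f g)
    (p : PrimeSpectrum A) (hp : p.asIdeal ∈ associatedPrimes A M'') (hsupp : p ∉ Module.support A M') :
    p.asIdeal ∈ associatedPrimes A M := by
  classical
  obtain ⟨hp', m'', hm''⟩ := (isAssociatedPrime_iff (I := p.asIdeal) (M := M'')).1 hp
  obtain ⟨m, rfl⟩ := hg m''
  -- generators of p
  obtain ⟨t, ht⟩ := (IsNoetherian.noetherian p.asIdeal : p.asIdeal.FG)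
  have hk : ∀ a ∈ t, ∃ c : A, c ∉ p.asIdeal ∧ c • (a • m) = 0 := by
    intro a ha
    have hap : a ∈ p.asIdeal := ht ▸ Ideal.subset_span ha
    rw [hm''] at hap
    have h0 : g (a • m) = 0 := by
      rw [map_smul]
      simpa [Submodule.mem_colon_singleton] using hap
    obtain ⟨x, hx⟩ := (hfg _).1 h0
    obtain ⟨c, hc, hcx⟩ := (Module.notMem_support_iff'.1 hsupp) x
    exact ⟨c, hc, by rw [← hx, ← map_smul, hcx, map_zero]⟩
  choose c hc1 hc2 using hk
  let C := ∏ a ∈ t.attach, c a.1 a.2
  have hC : C ∉ p.asIdeal := fun h => by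
    obtain ⟨a, -, ha⟩ := (Ideal.IsPrime.prod_mem_iff (hp := p.2)).1 h
    exact hc1 _ _ ha
  refine (isAssociatedPrime_iff (I := p.asIdeal) (M := M)).2 ⟨hp', C • m, le_antisymm ?_ ?_⟩
  · rw [← ht, Ideal.span_le]
    intro a ha
    rw [SetLike.mem_coe, Submodule.mem_colon_singleton]
    obtain ⟨d, hd⟩ := Finset.dvd_prod_of_mem (fun a : {x // x ∈ t} => c a.1 a.2) (Finset.mem_attach t ⟨a, ha⟩)
    have : C • (a • m) = 0 := by rw [show C = d * c a ha from hd.trans (mul_comm _ _), mul_smul, hc2 a ha, smul_zero]
    rw [smul_comm]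
    simpa using this
  · intro r hr
    rw [Submodule.mem_colon_singleton] at hr
    have hr0 : r • C • m = 0 := by simpa using hr
    have : r * C ∈ p.asIdeal := by
      rw [hm'', Submodule.mem_colon_singleton]
      show (r * C) • g m ∈ (⊥ : Submodule A M'')
      rw [← map_smul, mul_smul, hr0, map_zero]
      exact Submodule.zero_mem _
    exact (p.2.mem_or_mem this).resolve_right hC

end Groth.Agent.S14363
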