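import Groth.Statements.S14388
import Groth.Agent.TruncFactor.Basic

set_option autoImplicit false
open CategoryTheory CategoryTheory.Limits
universe w v u
open CohDer

namespace Groth.Agent.S14388

/-- Let A be an abelian category, D(A) its derived category with the canonical t-structure and
truncation functors τ_{≥a}, τ_{<b}, and write τ_[a,b] = τ_{≥a} ∘ τ_{<b+1}, so that τ_[q,q] K is
H^q(K) placed in degree q. Let f : K → K' be a morphism in D(A) and q an integer such that the
induced maps H^(q-1)(K) → H^(q-1)(K') and H^q(K) → H^q(K') are both zero. Then there is a unique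
morphism L : τ_[q,q] K → τ_[q-1,q-1] K' such that τ_[q-1,q](f) : τ_[q-1,q] K → τ_[q-1,q] K' is the
composite of the canonical projection τ_[q-1,q] K → τ_[q,q] K, the morphism L, and the canonical
inclusion τ_[q-1,q-1] K' → τ_[q-1,q] K'. (Under τ_[n,n] ≅ H^n(−)[−n] the morphism L corresponds to a
morphism L_f[−q] : H^q(K)[−q] → H^(q-1)(K')[1−q].) -/
theorem result {C : Type u} [Category.{v} C] [Abelian C]
    [HasDerivedCategory.{w} C] {K K' : DerivedCategory C} (f : K ⟶ K') (q : ℤ)
    (h₁ : (DerivedCategory.homologyFunctor C (q - 1)).map f = 0)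
    (h₂ : (DerivedCategory.homologyFunctor C q).map f = 0) :
    ∃! L : ((DerivedCategory.TStructure.t (C := C)).truncGELT q (q + 1)).obj K ⟶
        ((DerivedCategory.TStructure.t (C := C)).truncGELT (q - 1) q).obj K',
      ((DerivedCategory.TStructure.t (C := C)).truncGELT (q - 1) (q + 1)).map f =
        ((DerivedCategory.TStructure.t (C := C)).natTransTruncGEOfLE (q - 1) q (sub_one_lt q).le).app
            (((DerivedCategory.TStructure.t (C := C)).truncLT (q + 1)).obj K) ≫ L ≫
          ((DerivedCategory.TStructure.t (C := C)).truncGE (q - 1)).map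
            (((DerivedCategory.TStructure.t (C := C)).natTransTruncLTOfLE q (q + 1) (lt_add_one q).le).app K') := by
  let t := (DerivedCategory.TStructure.t (C := C))
  let H := fun i : ℤ => DerivedCategory.homologyFunctor C i
  let W := (t.truncLT (q + 1)).obj K
  let W' := (t.truncLT (q + 1)).obj K'
  let M := (t.truncGE (q - 1)).obj W
  let M' := (t.truncGE (q - 1)).obj W'
  let B := (t.truncGE q).obj W
  let A' := (t.truncGE (q - 1)).obj ((t.truncLT q).obj K')
  let π : M ⟶ B := (t.natTransTruncGEOfLE (q - 1) q (sub_one_lt q).le).app W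
  let ι : A' ⟶ M' := (t.truncGE (q - 1)).map ((t.natTransTruncLTOfLE q (q + 1) (lt_add_one q).le).app K')
  let g : M ⟶ M' := (t.truncGELT (q - 1) (q + 1)).map f
  haveI hM : M.IsLE q := (inferInstance : t.IsLE ((t.truncGE (q - 1)).obj ((t.truncLT (q + 1)).obj K)) q)
  haveI hB : B.IsLE q := (inferInstance : t.IsLE ((t.truncGE q).obj ((t.truncLT (q + 1)).obj K)) q)
  haveI hBg : B.IsGE q := (inferInstance : t.IsGE ((t.truncGE q).obj ((t.truncLT (q + 1)).obj K)) q)
  haveI hM' : M'.IsGE (q - 1) := (inferInstance : t.IsGE ((t.truncGE (q - 1)).obj ((t.truncLT (q + 1)).obj K')) (q - 1))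
  haveI hA : A'.IsGE (q - 1) := (inferInstance : t.IsGE ((t.truncGE (q - 1)).obj ((t.truncLT q).obj K')) (q - 1))
  haveI hA' : A'.IsLE (q - 1) := (inferInstance : t.IsLE ((t.truncGE (q - 1)).obj ((t.truncLT q).obj K')) (q - 1))
  haveI hM'' : M'.IsLE q := (inferInstance : t.IsLE ((t.truncGE (q - 1)).obj ((t.truncLT (q + 1)).obj K')) q)
  haveI hπ : IsIso ((H q).map π) := by
    haveI := Groth.Agent.TruncFactor.isIso_truncGEπ W (q - 1) q (by omega)
    haveI := Groth.Agent.TruncFactor.isIso_truncGEπ W q q le_rfl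
    have e : (H q).map ((t.truncGEπ (q - 1)).app W) ≫ (H q).map π = (H q).map ((t.truncGEπ q).app W) := by
      rw [← Functor.map_comp]
      exact congrArg (H q).map (t.π_natTransTruncGEOfLE_app (q - 1) q (sub_one_lt q).le W)
    haveI : IsIso ((H q).map ((t.truncGEπ (q - 1)).app W) ≫ (H q).map π) := by rw [e]; infer_instance
    exact IsIso.of_isIso_comp_left ((H q).map ((t.truncGEπ (q - 1)).app W)) _
  haveI hι : IsIso ((H (q - 1)).map ι) := by
    haveI := Groth.Agent.TruncFactor.isIso_truncLTι K' q (q - 1) (by omega)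
    haveI := Groth.Agent.TruncFactor.isIso_truncLTι K' (q + 1) (q - 1) (by omega)
    haveI := Groth.Agent.TruncFactor.isIso_truncGEπ ((t.truncLT q).obj K') (q - 1) (q - 1) le_rfl
    haveI := Groth.Agent.TruncFactor.isIso_truncGEπ W' (q - 1) (q - 1) le_rfl
    let η := (t.natTransTruncLTOfLE q (q + 1) (lt_add_one q).le).app K'
    have e1 : (H (q - 1)).map η ≫ (H (q - 1)).map ((t.truncLTι (q + 1)).app K') = (H (q - 1)).map ((t.truncLTι q).app K') := by
      rw [← Functor.map_comp]
      exact congrArg (H (q - 1)).map (t.natTransTruncLTOfLE_ι_app q (q + 1) (lt_add_one q).le K')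
    haveI : IsIso ((H (q - 1)).map η ≫ (H (q - 1)).map ((t.truncLTι (q + 1)).app K')) := by rw [e1]; infer_instance
    haveI : IsIso ((H (q - 1)).map η) := IsIso.of_isIso_comp_right _ ((H (q - 1)).map ((t.truncLTι (q + 1)).app K'))
    have e2 : (H (q - 1)).map ((t.truncGEπ (q - 1)).app ((t.truncLT q).obj K')) ≫ (H (q - 1)).map ι =
        (H (q - 1)).map η ≫ (H (q - 1)).map ((t.truncGEπ (q - 1)).app W') := by
      rw [← Functor.map_comp, ← Functor.map_comp]
      exact congrArg (H (q - 1)).map ((t.truncGEπ (q - 1)).naturality η).symm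
    haveI : IsIso ((H (q - 1)).map ((t.truncGEπ (q - 1)).app ((t.truncLT q).obj K')) ≫ (H (q - 1)).map ι) := by
      rw [e2]; infer_instance
    exact IsIso.of_isIso_comp_left ((H (q - 1)).map ((t.truncGEπ (q - 1)).app ((t.truncLT q).obj K'))) _
  have hg : ∀ i, q - 1 ≤ i → i ≤ q → (H i).map f = 0 → (H i).map g = 0 := by
    intro i hi hi' h
    haveI := Groth.Agent.TruncFactor.isIso_truncLTι K' (q + 1) i (by omega)
    haveI := Groth.Agent.TruncFactor.isIso_truncGEπ W (q - 1) i hi
    haveI := Groth.Agent.TruncFactor.isIso_truncGEπ W' (q - 1) i hi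
    have e1 : (H i).map ((t.truncLT (q + 1)).map f) = 0 := by
      rw [← cancel_mono ((H i).map ((t.truncLTι (q + 1)).app K')), zero_comp, ← Functor.map_comp]
      refine (congrArg (H i).map ((t.truncLTι (q + 1)).naturality f)).trans ?_
      exact ((H i).map_comp _ _).trans ((congrArg (_ ≫ ·) h).trans comp_zero)
    rw [← cancel_epi ((H i).map ((t.truncGEπ (q - 1)).app W)), comp_zero, ← Functor.map_comp]
    refine (congrArg (H i).map ((t.truncGEπ (q - 1)).naturality ((t.truncLT (q + 1)).map f)).symm).trans ?_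
    exact ((H i).map_comp _ _).trans ((congrArg (· ≫ _) e1).trans zero_comp)
  obtain ⟨F, u, v, hF⟩ := Pretriangulated.distinguished_cocone_triangle₁ π
  obtain ⟨Z, u', v', hZ⟩ := Pretriangulated.distinguished_cocone_triangle ι
  have hFle : F.IsLE (q - 1) := by
    rw [DerivedCategory.isLE_iff]
    intro i hi
    haveI : Mono ((H i).map π) := by
      by_cases hiq : i = q
      · subst hiq; infer_instance
      · exact (DerivedCategory.isZero_of_isLE M q i (by omega)).mono _
    haveI : Epi ((H (i - 1)).map π) := by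
      by_cases hiq : i - 1 = q
      · rw [hiq]; infer_instance
      · exact IsZero.epi (by
          by_cases hlt : i - 1 < q
          · exact DerivedCategory.isZero_of_isGE B q (i - 1) hlt
          · exact DerivedCategory.isZero_of_isLE B q (i - 1) (by omega)) _
    exact (DerivedCategory.HomologySequence.exact₁ _ hF (i - 1) i (by omega)).isZero_of_both_zeros
      ((DerivedCategory.HomologySequence.epi_homologyMap_mor₂_iff _ hF (i - 1) i (by omega)).1 (inferInstanceAs (Epi ((H (i - 1)).map π))))
      ((DerivedCategory.HomologySequence.mono_homologyMap_mor₂_iff _ hF i).1 (inferInstanceAs (Mono ((H i).map π))))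
  have hZge : Z.IsGE q := by
    rw [DerivedCategory.isGE_iff]
    intro i hi
    haveI : Epi ((H i).map ι) := by
      by_cases hiq : i = q - 1
      · subst hiq; infer_instance
      · exact (DerivedCategory.isZero_of_isGE M' (q - 1) i (by omega)).epi _
    haveI : Mono ((H (i + 1)).map ι) := by
      by_cases hiq : i + 1 = q - 1
      · rw [hiq]; infer_instance
      · exact IsZero.mono (by
          by_cases hlt : i + 1 < q - 1
          · exact DerivedCategory.isZero_of_isGE A' (q - 1) (i + 1) hlt
          · exact DerivedCategory.isZero_of_isLE A' (q - 1) (i + 1) (by omega)) _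
    exact (DerivedCategory.HomologySequence.exact₃ _ hZ i (i + 1) rfl).isZero_of_both_zeros
      ((DerivedCategory.HomologySequence.epi_homologyMap_mor₁_iff _ hZ i).1 (inferInstanceAs (Epi ((H i).map ι))))
      ((DerivedCategory.HomologySequence.mono_homologyMap_mor₁_iff _ hZ i (i + 1) rfl).1 (inferInstanceAs (Mono ((H (i + 1)).map ι))))
  obtain ⟨g', hg'⟩ : ∃ g' : B ⟶ M', g = π ≫ g' := Pretriangulated.Triangle.yoneda_exact₂ _ hF g
    (Groth.Agent.TruncFactor.eq_zero_of_homology (q - 1) hFle hM' _ (by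
      show (H (q - 1)).map (u ≫ g) = 0
      rw [Functor.map_comp, hg (q - 1) le_rfl (by omega) h₁, comp_zero]))
  have hg'0 : (H q).map g' = 0 := by
    rw [← cancel_epi ((H q).map π), comp_zero, ← Functor.map_comp, ← hg']
    exact hg q (by omega) le_rfl h₂
  obtain ⟨L, hL⟩ : ∃ L : B ⟶ A', g' = L ≫ ι := Pretriangulated.Triangle.coyoneda_exact₂ _ hZ g'
    (Groth.Agent.TruncFactor.eq_zero_of_homology q hB hZge _ (by
      show (H q).map (g' ≫ u') = 0
      rw [Functor.map_comp, hg'0, zero_comp]))
  refine ⟨L, hg'.trans (congrArg (π ≫ ·) hL), fun L' hL' => ?_⟩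
  change B ⟶ A' at L'
  replace hL' : g = π ≫ L' ≫ ι := hL'
  have h0 : π ≫ (L' - L) ≫ ι = 0 := by
    rw [Preadditive.sub_comp, Preadditive.comp_sub]
    exact sub_eq_zero.2 (hL'.symm.trans (hg'.trans (congrArg (π ≫ ·) hL)))
  have h1 : (L' - L) ≫ ι = 0 := by
    obtain ⟨ω, hω⟩ := Pretriangulated.Triangle.yoneda_exact₃ _ hF ((L' - L) ≫ ι) h0
    haveI := hFle
    refine hω.trans ?_
    exact (congrArg (v ≫ ·) (t.zero_of_isLE_of_isGE ω (q - 2) (q - 1) (by omega)
      (t.isLE_shift F (q - 1) 1 (q - 2) (by omega)) hM')).trans comp_zero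
  obtain ⟨χ, hχ⟩ := Pretriangulated.Triangle.coyoneda_exact₂ _ (Pretriangulated.inv_rot_of_distTriang _ hZ) (L' - L) h1
  haveI := hZge
  have hχ0 : χ = 0 := t.zero_of_isLE_of_isGE χ q (q + 1) (by omega) hB (t.isGE_shift Z q (-1) (q + 1) (by omega))
  exact sub_eq_zero.1 (hχ.trans ((congrArg (· ≫ _) hχ0).trans zero_comp))

end Groth.Agent.S14388
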