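import Groth.Statements.S14405
import Mathlib.Algebra.Polynomial.Eval.Degree
import Mathlib.Algebra.Polynomial.Degree.Lemmas
import Mathlib.Algebra.Polynomial.Div
import Mathlib.Tactic.ComputeDegree
import Mathlib.Tactic.FieldSimp

set_option autoImplicit false
open Polynomial
open HilbNum

namespace Groth.Agent.S14405

theorem anti : ∀ (d : ℕ) (Q : Polynomial ℚ), Q ≠ 0 → Q.natDegree = d →
    ∃ P : Polynomial ℚ, P.natDegree = d + 1 ∧ ∀ x : ℚ, P.eval x - P.eval (x - 1) = Q.eval x := by
  intro d
  induction d using Nat.strong_induction_on with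
  | _ d ih =>
    intro Q hQ hd
    let a : ℚ := Q.leadingCoeff / (d + 1)
    have ha : a ≠ 0 := div_ne_zero (Polynomial.leadingCoeff_ne_zero.2 hQ) (by positivity)
    let G : Polynomial ℚ := Polynomial.C a * ((Polynomial.X ^ (d + 1)) - (Polynomial.X - Polynomial.C 1) ^ (d + 1))
    have hXp : ∀ j, ((Polynomial.X - Polynomial.C 1 : Polynomial ℚ) ^ (d + 1)).coeff j =
        (-1 : ℚ) ^ (d + 1 - j) * ((d + 1).choose j) := fun j => by
      rw [sub_eq_add_neg, ← Polynomial.C_neg, Polynomial.coeff_X_add_C_pow]
    have hGc : ∀ j, d < j → (Q - G).coeff j = 0 := fun j hj => by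
      have hQj : Q.coeff j = 0 := Polynomial.coeff_eq_zero_of_natDegree_lt (hd ▸ hj)
      simp only [G, Polynomial.coeff_sub, hQj, Polynomial.coeff_C_mul, Polynomial.coeff_X_pow, hXp, zero_sub, neg_eq_zero]
      rcases eq_or_ne j (d + 1) with rfl | hne
      · simp
      · rw [if_neg hne, Nat.choose_eq_zero_of_lt (by omega : d + 1 < j)]; simp
    have hGd : (Q - G).coeff d = 0 := by
      simp only [G, Polynomial.coeff_sub, Polynomial.coeff_C_mul, Polynomial.coeff_X_pow, hXp]
      rw [if_neg (by omega : d ≠ d + 1), show d + 1 - d = 1 by omega, pow_one, Nat.choose_succ_self_right,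
        ← hd, ← Polynomial.leadingCoeff, hd]
      simp only [a]
      have : ((d : ℚ) + 1) ≠ 0 := by positivity
      push_cast
      field_simp
      ring
    have hev : ∀ x : ℚ, (Polynomial.C a * Polynomial.X ^ (d + 1)).eval x -
        (Polynomial.C a * Polynomial.X ^ (d + 1)).eval (x - 1) = G.eval x := fun x => by
      simp [G]; ring
    have hdeg : (Polynomial.C a * Polynomial.X ^ (d + 1)).natDegree = d + 1 := Polynomial.natDegree_C_mul_X_pow _ _ ha
    rcases eq_or_ne (Q - G) 0 with h0 | h0
    · exact ⟨_, hdeg, fun x => by rw [hev, sub_eq_zero.1 h0]⟩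
    have hlt : (Q - G).natDegree < d := by
      by_contra hge
      push Not at hge
      refine h0 (Polynomial.leadingCoeff_eq_zero.1 ?_)
      rcases eq_or_lt_of_le hge with h | h
      · rw [Polynomial.leadingCoeff, ← h, hGd]
      · rw [Polynomial.leadingCoeff, hGc _ h]
    obtain ⟨P, hP, hPe⟩ := ih _ hlt (Q - G) h0 rfl
    refine ⟨Polynomial.C a * Polynomial.X ^ (d + 1) + P, ?_, fun x => ?_⟩
    · rw [Polynomial.natDegree_add_eq_left_of_natDegree_lt (by rw [hdeg, hP]; omega), hdeg]
    · have h1 := hev x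
      have h2 := hPe x
      rw [Polynomial.eval_sub] at h2
      rw [Polynomial.eval_add, Polynomial.eval_add]
      linarith


/-- Let φ be a function from the integers to the rationals and Q a nonzero polynomial with rational
coefficients of degree d such that φ(m) - φ(m-1) = Q(m) for every integer m. Then there is a
polynomial P with rational coefficients, of degree d + 1, such that φ(m) = P(m) for every integer m.
(The explicit form of P in the binomial basis is not part of this statement.) -/
theorem result (φ : ℤ → ℚ) (d : ℕ) (Q : ℚ[X]) (hQ : Q ≠ 0)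
    (hd : Q.natDegree = d) (h : ∀ m : ℤ, φ m - φ (m - 1) = Q.eval (m : ℚ)) :
    ∃ P : ℚ[X], P.natDegree = d + 1 ∧ ∀ m : ℤ, φ m = P.eval (m : ℚ) := by
  obtain ⟨P, hPd, hP⟩ := anti d Q hQ hd
  refine ⟨P + Polynomial.C (φ 0 - P.eval 0), by rw [Polynomial.natDegree_add_C, hPd], fun m => ?_⟩
  induction m using Int.induction_on with
  | zero => simp
  | succ i ih =>
    have h1 := h ((i : ℤ) + 1)
    have h2 := hP ((i : ℚ) + 1)
    simp only [add_sub_cancel_right, Polynomial.eval_add, Polynomial.eval_C] at h1 h2 ih ⊢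
    push_cast at h1 h2 ih ⊢
    linarith
  | pred i ih =>
    have h1 := h (-(i : ℤ))
    have h2 := hP (-(i : ℚ))
    simp only [Polynomial.eval_add, Polynomial.eval_C] at h1 h2 ih ⊢
    push_cast at h1 h2 ih ⊢
    linarith

end Groth.Agent.S14405
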