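import Groth.Statements.S14410
import Mathlib.Topology.Sheaves.Flasque
import Mathlib.Topology.Sheaves.AddCommGrpCat

set_option autoImplicit false
universe u
open CategoryTheory TopologicalSpace
open CohTop

namespace Groth.Agent.S14410

/-- Let X be a topological space and 0 → F₁ → F₂ → F₃ → 0 a short exact sequence of sheaves of abelian
groups on X. If F₁ and F₃ are flasque (every restriction map is surjective), then F₂ is flasque.
(The published statement is for O_X-modules on a ringed space and is an equivalence; this row states
the implication from the outer terms to the middle term, for the underlying abelian sheaves.) -/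
theorem result (X : TopCat.{u})
    (S : ShortComplex (TopCat.Sheaf AddCommGrpCat.{u} X)) (hS : S.ShortExact)
    [S.X₁.IsFlasque] [S.X₃.IsFlasque] : S.X₂.IsFlasque := by
  constructor
  intro U V i
  rw [AddCommGrpCat.epi_iff_surjective]
  intro y
  obtain ⟨z₃, hz₃⟩ := (AddCommGrpCat.epi_iff_surjective (S.X₃.obj.map i)).1 inferInstance (S.g.hom.app V y)
  obtain ⟨z, hz⟩ := (AddCommGrpCat.epi_iff_surjective _).1 (TopCat.Sheaf.IsFlasque.epi_of_shortExact hS (U := U.unop)) z₃
  have hg : S.g.hom.app V (y - S.X₂.obj.map i z) = 0 := by
    rw [map_sub, NatTrans.naturality_apply S.g.hom i z, ← hz₃]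
    erw [hz]
    exact sub_self _
  obtain ⟨w, hw⟩ := TopCat.Sheaf.sections_exact_of_left_exact hS.1 hS.2 (y - S.X₂.obj.map i z) hg
  obtain ⟨w', hw'⟩ := (AddCommGrpCat.epi_iff_surjective (S.X₁.obj.map i)).1 inferInstance w
  refine ⟨z + S.f.hom.app U w', ?_⟩
  rw [map_add, ← NatTrans.naturality_apply S.f.hom i w', hw']
  erw [hw]
  exact add_sub_cancel _ _

end Groth.Agent.S14410
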