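import Groth.Statements.S14414
import Groth.Agent.TorBal.LES

set_option autoImplicit false
universe u
open CategoryTheory CategoryTheory.Limits
open CAlg

namespace Groth.Agent.S14414

/-- Let R be a commutative ring and N an R-module of projective dimension at most q, in the sense that
Ext^i_R(N, N′) = 0 for all i > q and all N′ (equivalently, N has a projective resolution of length
at most q). Then for every R-module M and every i > q, Tor_i^R(M, N) — the value at N of the i-th
left derived functor of M ⊗_R (-) — is zero. -/
theorem result (R : Type u) [CommRing R]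
    (M N : ModuleCat.{u} R) (q : ℕ) [HasProjectiveDimensionLE N q] (i : ℕ) (hi : q < i) :
    IsZero (((CategoryTheory.Tor (ModuleCat.{u} R) i).obj M).obj N) := by
  induction q generalizing N i with
  | zero =>
    obtain ⟨i, rfl⟩ : ∃ k, i = k + 1 := ⟨i - 1, by omega⟩
    haveI : Projective N := projective_iff_hasProjectiveDimensionLT_one.2 ‹_›
    exact CategoryTheory.isZero_Tor_succ_of_projective (C := ModuleCat.{u} R) M N i
  | succ q ih =>
    obtain ⟨i, rfl⟩ : ∃ k, i = k + 1 := ⟨i - 1, by omega⟩
    let S : ShortComplex (ModuleCat.{u} R) := ShortComplex.mk _ _ (kernel.condition (Projective.π N))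
    have hS : S.ShortExact :=
      { exact := ShortComplex.exact_of_f_is_kernel _ (kernelIsKernel (Projective.π N))
        mono_f := inferInstanceAs (Mono (kernel.ι (Projective.π N)))
        epi_g := inferInstanceAs (Epi (Projective.π N)) }
    haveI : Projective S.X₂ := inferInstanceAs (Projective (Projective.over N))
    haveI : HasProjectiveDimensionLE S.X₁ q := (hS.hasProjectiveDimensionLT_X₃_iff q this).1 ‹_›
    exact (TorBal.tor_exact₃ M hS i).isZero_X₂ ((CategoryTheory.isZero_Tor_succ_of_projective (C := ModuleCat.{u} R) M S.X₂ i).eq_of_src _ _)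
      ((ih S.X₁ i (by omega)).eq_of_tgt _ _)

end Groth.Agent.S14414
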