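import Groth.Statements.S14416
import Mathlib
-- import your own Groth.Agent.* helpers here

set_option autoImplicit false
universe u
open scoped TensorProduct
open CAlg

open TensorProduct
namespace Groth.Agent.S14416

/-- Let B → A be a ring map with A a finitely generated B-module such that for every prime ideal p of B
the fibre κ(p) ⊗_B A has dimension at most one over the residue field κ(p). Then B → A is
surjective. In scheme language: a finite morphism whose degree at every point of the target is 0 or
1 is a closed immersion. (The published statement assumes the two schemes Noetherian; that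
hypothesis plays no role and is dropped here.) -/
theorem result
    (B A : Type u) [CommRing B] [CommRing A] [Algebra B A] [Module.Finite B A]
    (h : ∀ p : PrimeSpectrum B,
      Module.finrank p.asIdeal.ResidueField (p.asIdeal.ResidueField ⊗[B] A) ≤ 1) :
    Function.Surjective (algebraMap B A) := by
  classical
  let L : Submodule B A := LinearMap.range (Algebra.linearMap B A)
  suffices L = ⊤ from fun a => (this.symm ▸ Submodule.mem_top : a ∈ L)
  haveI : Module.Finite B (A ⧸ L) := Module.Finite.of_surjective L.mkQ L.mkQ_surjective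
  suffices Subsingleton (A ⧸ L) from Submodule.Quotient.subsingleton_iff.1 this
  rw [← Module.support_eq_empty_iff (R := B), Set.eq_empty_iff_forall_notMem]
  intro p hp
  haveI := p.2
  let κ := p.asIdeal.ResidueField
  have hN : Nontrivial (κ ⊗[B] (A ⧸ L)) := (Module.mem_support_iff_nontrivial_residueField_tensorProduct (M := A ⧸ L) p).1 hp
  obtain ⟨v, hv⟩ := finrank_le_one_iff.1 (h p)
  obtain ⟨c, hc⟩ := hv 1
  have h1 : L.mkQ.lTensor κ (1 : κ ⊗[B] A) = 0 := by
    rw [Algebra.TensorProduct.one_def, LinearMap.lTensor_tmul, show L.mkQ (1 : A) = 0 from (Submodule.Quotient.mk_eq_zero L).2 ⟨1, map_one (algebraMap B A)⟩, TensorProduct.tmul_zero]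
  have hlin : ∀ (r : κ) (w : κ ⊗[B] A), L.mkQ.lTensor κ (r • w) = r • L.mkQ.lTensor κ w := fun r w =>
    map_smul (L.mkQ.baseChange κ) r w
  have hsurj : Function.Surjective (L.mkQ.lTensor κ) := LinearMap.lTensor_surjective κ L.mkQ_surjective
  refine not_subsingleton (κ ⊗[B] (A ⧸ L)) (subsingleton_of_forall_eq 0 fun z => ?_)
  obtain ⟨w, rfl⟩ := hsurj z
  by_cases hc0 : c = 0
  · rw [hc0, zero_smul] at hc
    rw [← one_mul w, ← hc, zero_mul, map_zero]
  · obtain ⟨d, hd⟩ := hv w
    rw [← hd, show v = c⁻¹ • (1 : κ ⊗[B] A) by rw [← hc, inv_smul_smul₀ hc0], hlin, hlin, h1, smul_zero, smul_zero]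

end Groth.Agent.S14416
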