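import Groth.Statements.S14420
import Groth.Agent.CMLocal.SOP

set_option autoImplicit false
universe u
open CategoryTheory
open LocCoh

namespace Groth.Agent.S14420

section
open CategoryTheory.Abelian IsLocalRing RingTheory.Sequence Groth.Agent.CMLocal.SOP
open scoped Pointwise

variable {A : Type u} [CommRing A] [IsLocalRing A] [IsNoetherianRing A]

theorem ext_vanish (N : Type u) [AddCommGroup N] [Module A N] [Module.Finite A N] (r : ℕ)
    (hN : ∀ q : PrimeSpectrum A, Module.annihilator A N ≤ q.asIdeal → Order.coheight q ≤ r)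
    (hann : Module.annihilator A N ≤ maximalIdeal A) :
    ∀ (i : ℕ) (M : Type u) [AddCommGroup M] [Module A M] [Module.Finite A M] (d : ℕ),
      DepthGE (ModuleCat.of A M) d → i + r < d →
      Subsingleton (Abelian.Ext (ModuleCat.of A N) (ModuleCat.of A M) i) := by
  classical
  intro i
  induction i using Nat.strong_induction_on with
  | _ i ih =>
    intro M _ _ _ d hd hlt
    obtain ⟨x, hxN, hreg⟩ : ∃ x ∈ Module.annihilator A N, IsSMulRegular M x := by
      by_contra hex
      have hfin := associatedPrimes.finite A M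
      have hsub : (Module.annihilator A N : Set A) ⊆ ⋃ p ∈ (hfin.toFinset : Set (Ideal A)), (p : Set A) := fun x hx => by
        rw [hfin.coe_toFinset, biUnion_associatedPrimes_eq_zero_divisors A M]
        by_contra hno
        refine hex ⟨x, hx, fun a b hab => ?_⟩
        by_contra hne
        exact hno ⟨a - b, sub_ne_zero.2 hne, by rw [smul_sub]; exact sub_eq_zero.2 hab⟩
      obtain ⟨p, hp, hle⟩ := (Ideal.subset_union_prime (f := fun p : Ideal A => p) ⊥ ⊥
        (fun i hi _ _ => (hfin.mem_toFinset.1 hi).isPrime)).1 hsub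
      have hp' := hfin.mem_toFinset.1 hp
      have h1 := le_coheight d M hd ⟨p, hp'.isPrime⟩ hp'
      have h2 := hN ⟨p, hp'.isPrime⟩ hle
      have := ENat.coe_le_coe.1 (h1.trans h2)
      omega
    have hxid : x • 𝟙 (ModuleCat.of A N) = 0 :=
      ModuleCat.hom_ext (LinearMap.ext fun z => by
        change x • z = 0
        exact Module.mem_annihilator.1 hxN z)
    refine subsingleton_of_forall_eq 0 fun α => ?_
    have h0 : α.comp (Ext.mk₀ (x • 𝟙 (ModuleCat.of A M))) (add_zero i) = 0 := by
      have h1 : α.comp (Ext.mk₀ (x • 𝟙 (ModuleCat.of A M))) (add_zero i) = x • α := by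
        rw [Ext.mk₀_smul, Ext.comp_smul, Ext.comp_mk₀_id]
      have h2 : (Ext.mk₀ (x • 𝟙 (ModuleCat.of A N))).comp α (zero_add i) = x • α := by
        rw [Ext.mk₀_smul, Ext.smul_comp, Ext.mk₀_id_comp]
      rw [h1, ← h2, hxid, Ext.mk₀_zero, Ext.zero_comp]
    cases i with
    | zero =>
      obtain ⟨g, rfl⟩ := (Ext.mk₀_bijective _ _).2 α
      have hg : g = 0 := by
        refine ModuleCat.hom_ext (LinearMap.ext fun z => hreg ?_)
        change x • g.hom z = x • (0 : M)
        rw [smul_zero, ← map_smul, Module.mem_annihilator.1 hxN z, map_zero]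
      rw [hg, Ext.mk₀_zero]
    | succ i =>
      have hS : ((ModuleCat.of A M).smulShortComplex x).ShortExact := hreg.smulShortComplex_shortExact
      obtain ⟨γ, hγ⟩ := Ext.covariant_sequence_exact₁ (ModuleCat.of A N) hS α h0 rfl
      obtain ⟨d, rfl⟩ : ∃ d', d = d' + 1 := ⟨d - 1, by omega⟩
      have hs := ih i (Nat.lt_succ_self i) (QuotSMulTop x M) d
        (depthGE_quot (M := ModuleCat.of A M) (hann hxN) hreg hd) (by omega)
      rw [← hγ, show γ = 0 from @Subsingleton.elim _ hs γ 0]
      apply Ext.zero_comp

end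

/-- Let A be a Noetherian local ring and M, N nonzero finitely generated A-modules. Then Ext^i_A(N, M) =
0 for all i < depth M − dim Supp N. Here depth M = d and the Krull dimension of the support of N = r
are given as natural numbers and the conclusion is stated for every i with i + r < d. -/
theorem result (A : Type u) [CommRing A] [IsNoetherianRing A]
    [IsLocalRing A] (M N : Type u) [AddCommGroup M] [Module A M] [AddCommGroup N] [Module A N]
    [Module.Finite A M] [Module.Finite A N] [Nontrivial M] [Nontrivial N]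
    (d r i : ℕ) (hd : LocCoh.depth A M = d) (hr : Module.supportDim A N = r) (hi : i + r < d) :
    Subsingleton (Abelian.Ext (ModuleCat.of A N) (ModuleCat.of A M) i) := by
  have hdep : Groth.Agent.CMLocal.SOP.DepthGE (ModuleCat.of A M) d := by
    intro j hj
    rw [LocCoh.depth, LocCoh.idealDepth, if_neg (fun h => Submodule.top_ne_ideal_smul_of_le_jacobson_annihilator
      (IsLocalRing.maximalIdeal_le_jacobson _) h.symm)] at hd
    obtain ⟨rs, hrs, hlen⟩ : ∃ rs : List A, (RingTheory.Sequence.IsWeaklyRegular M rs ∧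
        ∀ r ∈ rs, r ∈ IsLocalRing.maximalIdeal A) ∧ j < rs.length := by
      by_contra! hcon
      have : (d : ℕ∞) ≤ (j : ℕ∞) := hd ▸ iSup₂_le fun rs hrs => by exact_mod_cast hcon rs hrs
      have := ENat.coe_le_coe.1 this
      omega
    exact Groth.Agent.CMLocal.SOP.depthGE_of_list rs (ModuleCat.of A M) hrs.1 hrs.2 j hlen
  have hann : Module.annihilator A N ≤ IsLocalRing.maximalIdeal A :=
    IsLocalRing.le_maximalIdeal (fun h => not_subsingleton N (Module.annihilator_eq_top_iff.1 h))
  refine ext_vanish N r (fun q hq => ?_) hann i M d hdep hi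
  rw [Module.supportDim_eq_ringKrullDim_quotient_annihilator, ringKrullDim_quotient] at hr
  have h1 : Order.krullDim (Set.Ici q) ≤ Order.krullDim (PrimeSpectrum.zeroLocus (Module.annihilator A N : Set A)) :=
    Order.krullDim_le_of_strictMono (fun s => ⟨s.1, fun a ha => s.2 (hq ha)⟩) fun s t h => h
  rw [hr, ← Order.coheight_eq_krullDim_Ici] at h1
  exact WithBot.coe_le_coe.1 h1

end Groth.Agent.S14420
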