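import Groth.Statements.S14421
import Mathlib

set_option autoImplicit false
universe u v
open CategoryTheory
open HomAlg

namespace Groth.Agent.S14421

open CategoryTheory CategoryTheory.Limits

/-- Let φ : K → J be a morphism of cochain complexes of modules over a ring which is surjective in
degree p − 1. Then the map induced on cohomology in degree p is surjective if and only if the map
induced on cocycles in degree p is surjective. (Stated for cochain complexes indexed by the
integers; the published statement is for three-term complexes in degrees p − 1, p, p + 1, which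
embed as such complexes.) -/
theorem result {R : Type u} [Ring R]
    (K J : CochainComplex (ModuleCat.{v} R) ℤ) (φ : K ⟶ J) (p : ℤ) [Epi (φ.f (p - 1))] :
    Epi (HomologicalComplex.homologyMap φ p) ↔ Epi (HomologicalComplex.cyclesMap φ p) := by
  constructor
  · intro h
    rw [epi_iff_surjective_up_to_refinements]
    intro T z
    obtain ⟨T₁, π₁, hπ₁, a, ha⟩ := surjective_up_to_refinements_of_epi
      (HomologicalComplex.homologyMap φ p) (z ≫ J.homologyπ p)
    obtain ⟨T₂, π₂, hπ₂, b, hb⟩ := surjective_up_to_refinements_of_epi (K.homologyπ p) a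
    have h0 : (π₂ ≫ π₁ ≫ z - b ≫ HomologicalComplex.cyclesMap φ p) ≫ J.homologyπ p = 0 := by
      rw [Preadditive.sub_comp, Category.assoc, Category.assoc, ha, Category.assoc,
        ← HomologicalComplex.homologyπ_naturality, reassoc_of% hb, sub_self]
    have hex : (ShortComplex.mk (J.toCycles (p - 1) p) (J.homologyπ p)
        (J.toCycles_comp_homologyπ (p - 1) p)).Exact :=
      ShortComplex.exact_of_g_is_cokernel _ (J.homologyIsCokernel (p - 1) p (by simp))
    obtain ⟨T₃, π₃, hπ₃, c, hc⟩ := hex.exact_up_to_refinements _ h0
    dsimp at c hc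
    obtain ⟨T₄, π₄, hπ₄, d, hd⟩ := surjective_up_to_refinements_of_epi (φ.f (p - 1)) c
    refine ⟨T₄, π₄ ≫ π₃ ≫ π₂ ≫ π₁, inferInstance, π₄ ≫ π₃ ≫ b + d ≫ K.toCycles (p - 1) p, ?_⟩
    rw [Preadditive.add_comp]
    simp only [Category.assoc, show K.toCycles (p - 1) p ≫ HomologicalComplex.cyclesMap φ p =
      φ.f (p - 1) ≫ J.toCycles (p - 1) p by simp [← cancel_mono (J.iCycles p)]]
    rw [← reassoc_of% hd, ← hc, Preadditive.comp_sub, Preadditive.comp_sub]
    simp
  · intro h
    haveI : Epi (K.homologyπ p ≫ HomologicalComplex.homologyMap φ p) := by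
      rw [HomologicalComplex.homologyπ_naturality]; exact epi_comp _ _
    exact epi_of_epi (K.homologyπ p) _

end Groth.Agent.S14421
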