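import Groth.Statements.S14424
import Groth.Agent.IdealDepth.CM
import Mathlib.RingTheory.Ideal.Height

set_option autoImplicit false
universe u
open LocCoh

namespace Groth.Agent.S14424

/-- Let R be a Noetherian ring. Then R is Cohen–Macaulay (every localization at a prime ideal is a
Cohen–Macaulay local ring) if and only if for every proper ideal a of R the a-depth of R equals the
height (codimension) of a. (The published statement defines a Cohen–Macaulay ring by its
localizations at maximal ideals; this row uses all prime ideals, an equivalent definition because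
Cohen–Macaulayness passes to localizations.) -/
theorem result (R : Type u) [CommRing R] [IsNoetherianRing R] :
    LocCoh.IsCohenMacaulayRing R ↔ ∀ a : Ideal R, a ≠ ⊤ → LocCoh.idealDepth a R = a.height := by
  open Groth.Agent.IdealDepth in
  have hd : ∀ p : PrimeSpectrum R,
      LocCoh.depth (Localization.AtPrime p.asIdeal) (LocalizedModule p.asIdeal.primeCompl R) =
        LocCoh.depth (Localization.AtPrime p.asIdeal) (Localization.AtPrime p.asIdeal) := fun p =>
    congr _ (LinearEquiv.extendScalarsOfIsLocalization p.asIdeal.primeCompl _
      (IsLocalizedModule.iso p.asIdeal.primeCompl (Algebra.linearMap R (Localization.AtPrime p.asIdeal))))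
  constructor
  · intro hR a ha
    rw [idealDepth_eq_iInf, Ideal.height_eq_inf_minimalPrimes]
    have hp : ∀ p : PrimeSpectrum R, LocCoh.depth (Localization.AtPrime p.asIdeal)
        (LocalizedModule p.asIdeal.primeCompl R) = p.asIdeal.height := fun p => by
      have h := (hR.isCohenMacaulayLocalRing_localization p.asIdeal).supportDim_eq_depth
      rw [Module.supportDim_self_eq_ringKrullDim,
        IsLocalization.AtPrime.ringKrullDim_eq_height p.asIdeal] at h
      rw [hd]
      exact (WithBot.coe_inj.1 h).symm
    refine le_antisymm (le_iInf₂ fun J hJ => ?_) (le_iInf₂ fun p hpa => ?_)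
    · exact (iInf₂_le (⟨J, hJ.isPrime⟩ : PrimeSpectrum R) hJ.1.2).trans (hp _).le
    · obtain ⟨J, hJ, hJp⟩ := Ideal.exists_minimalPrimes_le hpa
      exact (iInf₂_le J hJ).trans ((Ideal.height_mono hJp).trans (hp p).ge)
  · intro h
    refine ⟨fun p hpp => { supportDim_eq_depth := ?_ }⟩
    refine le_antisymm ?_ depth_le_supportDim
    have h1 := h p hpp.ne_top
    rw [Module.supportDim_self_eq_ringKrullDim, IsLocalization.AtPrime.ringKrullDim_eq_height p, ← h1,
      WithBot.coe_le_coe, ← hd ⟨p, hpp⟩]
    exact idealDepth_le_depth p le_rfl

end Groth.Agent.S14424
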