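import Groth.Statements.S14427
import Groth.Agent.LocalAlg.Homogeneous
import Mathlib.LinearAlgebra.Dual.Lemmas
import Mathlib.LinearAlgebra.FiniteDimensional.Lemmas
import Mathlib.LinearAlgebra.Dimension.Constructions

set_option autoImplicit false
universe u
open CAlgX

namespace Groth.Agent.S14427

/-- Let k be a field and Λ a set of n ≥ 3 nonzero vectors of k^3 which are pairwise linearly
independent, i.e. n distinct k-rational points of the projective plane. Then the space of
homogeneous forms of degree n − 1 in k[x_0, x_1, x_2] vanishing at every point of Λ — the global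
sections of I_Λ(n − 1) — has dimension C(n+1, 2) − n over k, the same for all such Λ. (The published
statement is over an algebraically closed field; this row allows any field and k-rational points,
which is all its argument uses.) -/
theorem result (k : Type u) [Field k] (n : ℕ) (hn : 3 ≤ n)
    (Λ : Finset (Fin 3 → k)) (hcard : Λ.card = n) (h0 : ∀ v ∈ Λ, v ≠ 0)
    (hdist : ∀ v ∈ Λ, ∀ w ∈ Λ, v ≠ w → LinearIndependent k ![v, w]) :
    Module.finrank k ↥(MvPolynomial.homogeneousSubmodule (Fin 3) k (n - 1) ⊓ ⨅ v ∈ Λ, LinearMap.ker (MvPolynomial.aeval v).toLinearMap) = Nat.choose (n + 1) 2 - n := by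
  classical
  obtain ⟨n, rfl⟩ : ∃ m, n = m + 1 := ⟨n - 1, by omega⟩
  show Module.finrank k ↥(MvPolynomial.homogeneousSubmodule (Fin 3) k n ⊓ _) = _
  set H := MvPolynomial.homogeneousSubmodule (Fin 3) k n
  let E : H →ₗ[k] (Λ → k) :=
    LinearMap.pi fun v => (MvPolynomial.aeval (v : Fin 3 → k)).toLinearMap ∘ₗ H.subtype
  have hker : (H ⊓ ⨅ v ∈ Λ, LinearMap.ker (MvPolynomial.aeval v).toLinearMap) = (LinearMap.ker E).map H.subtype := by
    ext p
    simp only [Submodule.mem_inf, Submodule.mem_iInf, LinearMap.mem_ker, AlgHom.toLinearMap_apply,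
      Submodule.mem_map]
    constructor
    · rintro ⟨hp, hp'⟩
      exact ⟨⟨p, hp⟩, funext fun v => hp' v.1 v.2, rfl⟩
    · rintro ⟨⟨q, hq⟩, hq', rfl⟩
      exact ⟨hq, fun v hv => congrFun hq' ⟨v, hv⟩⟩
  have hsurj : Function.Surjective E := by
    intro c
    have hsep : ∀ v : Λ, ∃ p : H, E p = Pi.single v 1 := by
      intro v
      have hl : ∀ w : Λ, w ≠ v → ∃ ℓ : (Fin 3 → k) →ₗ[k] k, ℓ w = 0 ∧ ℓ v ≠ 0 := by
        intro w hw
        have hnot : (v : Fin 3 → k) ∉ Submodule.span k {(w : Fin 3 → k)} := by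
          intro h
          obtain ⟨a, ha⟩ := Submodule.mem_span_singleton.1 h
          exact (linearIndependent_fin2.1
            (hdist v v.2 w w.2 fun e => hw (Subtype.ext e.symm))).2 a (by simpa using ha)
        obtain ⟨ℓ, hℓ, hmap⟩ := Submodule.exists_dual_map_eq_bot_of_notMem hnot inferInstance
        refine ⟨ℓ, ?_, hℓ⟩
        exact (Submodule.mem_bot k).1 (hmap ▸ Submodule.mem_map_of_mem (Submodule.mem_span_singleton_self _))
      choose ℓ hℓ0 hℓ1 using hl
      let q : MvPolynomial (Fin 3) k := ∏ w : {w : Λ // w ≠ v},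
        ∑ i, MvPolynomial.C (ℓ w.1 w.2 (Pi.single i 1)) * MvPolynomial.X i
      have hq : q ∈ H := by
        have h := MvPolynomial.IsHomogeneous.prod (Finset.univ : Finset {w : Λ // w ≠ v})
          (fun w => ∑ i, MvPolynomial.C (ℓ w.1 w.2 (Pi.single i 1)) * MvPolynomial.X i) (fun _ => 1)
          (fun w _ => MvPolynomial.IsHomogeneous.sum _ _ _ fun i _ => MvPolynomial.IsHomogeneous.C_mul (MvPolynomial.isHomogeneous_X k i) _)
        have hc : ∑ _w : {w : Λ // w ≠ v}, 1 = n := by
          rw [Finset.sum_const, Finset.card_univ, smul_eq_mul, mul_one,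
            Fintype.card_subtype_compl, Fintype.card_coe, Fintype.card_subtype_eq, hcard]
          simp
        rw [hc] at h
        exact h
      have hev : ∀ u : Λ, E ⟨q, hq⟩ u = ∏ w : {w : Λ // w ≠ v}, ℓ w.1 w.2 u := by
        intro u
        show MvPolynomial.aeval (u : Fin 3 → k) q = _
        simp only [q, map_prod, map_sum, map_mul, MvPolynomial.aeval_C, MvPolynomial.aeval_X]
        refine Finset.prod_congr rfl fun w _ => ?_
        conv_rhs => rw [pi_eq_sum_univ' (u : Fin 3 → k)]
        simp [mul_comm]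
      have hne : E ⟨q, hq⟩ v ≠ 0 := by
        rw [hev]; exact Finset.prod_ne_zero_iff.2 fun w _ => hℓ1 w.1 w.2
      refine ⟨(E ⟨q, hq⟩ v)⁻¹ • ⟨q, hq⟩, funext fun u => ?_⟩
      rw [map_smul, Pi.smul_apply, smul_eq_mul]
      by_cases hu : u = v
      · subst hu; rw [inv_mul_cancel₀ hne, Pi.single_eq_same]
      · rw [Pi.single_eq_of_ne hu, hev u]
        exact mul_eq_zero_of_right _ (Finset.prod_eq_zero (Finset.mem_univ ⟨u, hu⟩) (hℓ0 u hu))
    choose p hp using hsep
    refine ⟨∑ v, c v • p v, ?_⟩
    simp only [map_sum, map_smul, hp]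
    funext u
    simp [Finset.sum_apply, Pi.single_apply]
  rw [hker, Submodule.finrank_map_subtype_eq]
  have h1 := LinearMap.finrank_range_add_finrank_ker E
  rw [LinearMap.range_eq_top.2 hsurj, finrank_top, Module.finrank_fintype_fun_eq_card, Fintype.card_coe, hcard,
    Groth.Agent.LocalAlg.Homogeneous.finrank_homogeneousSubmodule] at h1
  have h2 : (3 + n - 1).choose n = (n + 1 + 1).choose 2 := by
    rw [show 3 + n - 1 = n + 2 by omega, Nat.choose_symm_add]
  omega

end Groth.Agent.S14427
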