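import Groth.Statements.S14428
import Groth.Agent.LocalAlg.Homogeneous
import Mathlib.LinearAlgebra.Dual.Lemmas
import Mathlib.LinearAlgebra.FiniteDimensional.Lemmas
import Mathlib.LinearAlgebra.Dimension.Constructions

set_option autoImplicit false
universe u
open CAlgX

namespace Groth.Agent.S14428

/-- Let k be a field, n ≥ 3, and let Λ and Λ' be two sets of n nonzero, pairwise linearly independent
vectors of k^3 (n distinct k-rational points of the projective plane each), neither lying on a line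
(no nonzero linear form vanishes on all of Λ, resp. Λ'). If the spaces of homogeneous forms of
degree n − 1 vanishing on Λ and on Λ' coincide, then Λ and Λ' define the same set of points of the
plane: the assignment Λ ↦ H^0(P^2, I_Λ(n − 1)), with values in a Grassmannian, is injective on
non-collinear sets. (The published statement is over an algebraically closed field; this row allows
any field and k-rational points, which is all its argument uses.) -/
theorem result (k : Type u) [Field k] (n : ℕ) (hn : 3 ≤ n)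
    (Λ Λ' : Finset (Fin 3 → k)) (hcard : Λ.card = n) (hcard' : Λ'.card = n)
    (h0 : ∀ v ∈ Λ, v ≠ 0) (h0' : ∀ v ∈ Λ', v ≠ 0)
    (hdist : ∀ v ∈ Λ, ∀ w ∈ Λ, v ≠ w → LinearIndependent k ![v, w])
    (hdist' : ∀ v ∈ Λ', ∀ w ∈ Λ', v ≠ w → LinearIndependent k ![v, w])
    (hline : ¬ ∃ ℓ : (Fin 3 → k) →ₗ[k] k, ℓ ≠ 0 ∧ ∀ v ∈ Λ, ℓ v = 0)
    (hline' : ¬ ∃ ℓ : (Fin 3 → k) →ₗ[k] k, ℓ ≠ 0 ∧ ∀ v ∈ Λ', ℓ v = 0)
    (heq : (MvPolynomial.homogeneousSubmodule (Fin 3) k (n - 1) ⊓ ⨅ v ∈ Λ, LinearMap.ker (MvPolynomial.aeval v).toLinearMap) = (MvPolynomial.homogeneousSubmodule (Fin 3) k (n - 1) ⊓ ⨅ v ∈ Λ', LinearMap.ker (MvPolynomial.aeval v).toLinearMap)) :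
    (∀ v ∈ Λ, ∃ w ∈ Λ', ∃ c : k, v = c • w) ∧ (∀ w ∈ Λ', ∃ v ∈ Λ, ∃ c : k, w = c • v) := by
  classical
  obtain ⟨n, rfl⟩ : ∃ m, n = m + 1 := ⟨n - 1, by omega⟩
  have main : ∀ (Λ Λ' : Finset (Fin 3 → k)), Λ.card = n + 1 → (∀ v ∈ Λ, v ≠ 0) →
      (∀ w ∈ Λ', w ≠ 0) → (∀ v ∈ Λ, ∀ w ∈ Λ, v ≠ w → LinearIndependent k ![v, w]) →
      (¬ ∃ ℓ : (Fin 3 → k) →ₗ[k] k, ℓ ≠ 0 ∧ ∀ v ∈ Λ, ℓ v = 0) →
      (MvPolynomial.homogeneousSubmodule (Fin 3) k n ⊓
        ⨅ v ∈ Λ, LinearMap.ker (MvPolynomial.aeval v).toLinearMap) ≤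
      (MvPolynomial.homogeneousSubmodule (Fin 3) k n ⊓
        ⨅ v ∈ Λ', LinearMap.ker (MvPolynomial.aeval v).toLinearMap) →
      ∀ w ∈ Λ', ∃ v ∈ Λ, ∃ c : k, w = c • v := by
    intro Λ Λ' hcard h0 h0' hdist hline heq w hw
    by_contra hcon
    simp only [not_exists, not_and] at hcon
    obtain ⟨v₀, hv₀⟩ : Λ.Nonempty := Finset.card_pos.1 (by omega)
    have hspan2 : ∀ P : Submodule k (Fin 3 → k), Module.finrank k P ≤ 2 →
        ∀ z, z ∉ P → ∃ ℓ : (Fin 3 → k) →ₗ[k] k, ℓ z ≠ 0 ∧ ∀ y ∈ P, ℓ y = 0 := by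
      intro P _ z hz
      obtain ⟨ℓ, hℓ, hmap⟩ := Submodule.exists_dual_map_eq_bot_of_notMem hz inferInstance
      exact ⟨ℓ, hℓ, fun y hy => (Submodule.mem_bot k).1 (hmap ▸ Submodule.mem_map_of_mem hy)⟩
    obtain ⟨v₁, hv₁, hne, hw1⟩ : ∃ v₁ ∈ Λ, v₁ ≠ v₀ ∧ w ∉ Submodule.span k {v₀, v₁} := by
      by_contra hc
      simp only [not_exists, not_and, not_not] at hc
      let P := Submodule.span k ({v₀, w} : Set (Fin 3 → k))
      have hP : P ≠ ⊤ := by
        intro h
        have h3 : Module.finrank k P ≤ 2 :=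
          (finrank_span_le_card ({v₀, w} : Set (Fin 3 → k))).trans (by
            rw [Set.toFinset_insert, Set.toFinset_singleton]
            exact (Finset.card_insert_le _ _).trans (by simp))
        rw [h, finrank_top, Module.finrank_fintype_fun_eq_card, Fintype.card_fin] at h3
        omega
      obtain ⟨ℓ, hℓ, hmap⟩ := Submodule.exists_dual_map_eq_bot_of_lt_top (lt_top_iff_ne_top.2 hP) inferInstance
      refine hline ⟨ℓ, hℓ, fun v hv => ?_⟩
      have hmem : v ∈ P := by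
        by_cases hvv : v = v₀
        · exact hvv ▸ Submodule.subset_span (by simp)
        obtain ⟨a, b, hab⟩ := Submodule.mem_span_pair.1 (hc v hv hvv)
        have hb : b ≠ 0 := by
          intro hb
          rw [hb, zero_smul, add_zero] at hab
          exact hcon v₀ hv₀ a hab.symm
        refine Submodule.mem_span_pair.2 ⟨-(b⁻¹ * a), b⁻¹, ?_⟩
        rw [← hab, smul_add, smul_smul, smul_smul, inv_mul_cancel₀ hb, one_smul, neg_smul, neg_add_cancel_left]
      exact (Submodule.mem_bot k).1 (hmap ▸ Submodule.mem_map_of_mem hmem)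
    obtain ⟨ℓ₀, hℓ₀w, hℓ₀⟩ := hspan2 _ ((finrank_span_le_card ({v₀, v₁} : Set (Fin 3 → k))).trans (by
      rw [Set.toFinset_insert, Set.toFinset_singleton]
      exact (Finset.card_insert_le _ _).trans (by simp))) w hw1
    have hl : ∀ v ∈ Λ, ∃ ℓ : (Fin 3 → k) →ₗ[k] k, ℓ w ≠ 0 ∧ ℓ v = 0 := by
      intro v hv
      obtain ⟨ℓ, hℓ, h⟩ := hspan2 (Submodule.span k {v}) (by
        rw [finrank_span_singleton (h0 v hv)]; omega) w (fun h => by
          obtain ⟨a, ha⟩ := Submodule.mem_span_singleton.1 h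
          exact hcon v hv a ha.symm)
      exact ⟨ℓ, hℓ, h v (Submodule.mem_span_singleton_self v)⟩
    choose ℓ hℓw hℓv using hl
    let toPoly : ((Fin 3 → k) →ₗ[k] k) → MvPolynomial (Fin 3) k := fun L =>
      ∑ i, MvPolynomial.C (L (Pi.single i 1)) * MvPolynomial.X i
    have hev : ∀ L u, MvPolynomial.aeval u (toPoly L) = L u := by
      intro L u
      simp only [toPoly, map_sum, map_mul, MvPolynomial.aeval_C, MvPolynomial.aeval_X]
      conv_rhs => rw [pi_eq_sum_univ' u]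
      simp [mul_comm]
    let R := (Λ.erase v₀).erase v₁
    let q : MvPolynomial (Fin 3) k := toPoly ℓ₀ *
      ∏ v : R, toPoly (ℓ v.1 (Finset.mem_of_mem_erase (Finset.mem_of_mem_erase v.2)))
    have hq : q ∈ MvPolynomial.homogeneousSubmodule (Fin 3) k n := by
      have hlin : ∀ L, (toPoly L).IsHomogeneous 1 := fun L =>
        MvPolynomial.IsHomogeneous.sum _ _ _ fun i _ => MvPolynomial.IsHomogeneous.C_mul (MvPolynomial.isHomogeneous_X k i) _
      have h := (hlin ℓ₀).mul (MvPolynomial.IsHomogeneous.prod Finset.univ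
        (fun v : R => toPoly (ℓ v.1 (Finset.mem_of_mem_erase (Finset.mem_of_mem_erase v.2)))) (fun _ => 1)
        fun v _ => hlin _)
      have hc : 1 + ∑ _v : R, 1 = n := by
        rw [Finset.sum_const, Finset.card_univ, smul_eq_mul, mul_one, Fintype.card_coe,
          Finset.card_erase_of_mem (Finset.mem_erase.2 ⟨hne, hv₁⟩), Finset.card_erase_of_mem hv₀, hcard]
        omega
      rw [hc] at h
      exact h
    have hmem : q ∈ MvPolynomial.homogeneousSubmodule (Fin 3) k n ⊓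
        ⨅ v ∈ Λ, LinearMap.ker (MvPolynomial.aeval v).toLinearMap := by
      refine ⟨hq, ?_⟩
      simp only [Submodule.mem_iInf, LinearMap.mem_ker, AlgHom.toLinearMap_apply, SetLike.mem_coe]
      intro v hv
      simp only [q, map_mul, map_prod, hev]
      by_cases h1 : v = v₀ ∨ v = v₁
      · rw [hℓ₀ v (Submodule.subset_span (by simpa using h1)), zero_mul]
      · rw [not_or] at h1
        exact mul_eq_zero_of_right _ (Finset.prod_eq_zero
          (Finset.mem_univ ⟨v, Finset.mem_erase.2 ⟨h1.2, Finset.mem_erase.2 ⟨h1.1, hv⟩⟩⟩) (hℓv v hv))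
    have hq0 := (heq hmem).2
    simp only [Submodule.mem_iInf, LinearMap.mem_ker, AlgHom.toLinearMap_apply, SetLike.mem_coe] at hq0
    have := hq0 w hw
    simp only [q, map_mul, map_prod, hev] at this
    exact mul_ne_zero hℓ₀w (Finset.prod_ne_zero_iff.2 fun v _ => hℓw _ _) this
  simp only [Nat.add_sub_cancel] at heq
  exact ⟨main Λ' Λ hcard' h0' h0 hdist' hline' heq.ge, main Λ Λ' hcard h0 h0' hdist hline heq.le⟩

end Groth.Agent.S14428
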