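import Groth.Statements.S14436
import Mathlib.RingTheory.Smooth.Field
import Mathlib.RingTheory.Etale.Kaehler
import Mathlib.RingTheory.Kaehler.Polynomial
import Mathlib.RingTheory.TensorProduct.Free

set_option autoImplicit false
universe u
open CAlg

namespace Groth.Agent.S14436

/-- Let L/K be a finitely generated field extension which is separable in the sense that it has a
transcendence basis a_1, …, a_n over which L is a (finite) separable extension of K(a_1, …, a_n).
Then dim_L Ω_{L/K} = n, the transcendence degree of L over K. -/
theorem result (K L : Type u) [Field K] [Field L] [Algebra K L]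
    (hfg : ∃ s : Finset L, IntermediateField.adjoin K (s : Set L) = ⊤)
    (n : ℕ) (a : Fin n → L) (ha : IsTranscendenceBasis K a)
    (hsep : Algebra.IsSeparable ↥(IntermediateField.adjoin K (Set.range a)) L) :
    Module.finrank L (Ω[L⁄K]) = n := by
  classical
  open scoped IntermediateField.algebraAdjoinAdjoin in
  let P := MvPolynomial (Fin n) K
  let A := Algebra.adjoin K (Set.range a)
  let F := IntermediateField.adjoin K (Set.range a)
  let _ : Algebra P L := (MvPolynomial.aeval a).toRingHom.toAlgebra
  have : IsScalarTower K P L := IsScalarTower.of_algebraMap_eq fun r =>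
    ((MvPolynomial.aeval a).commutes r).symm
  let _ : Algebra P A := ha.1.aevalEquiv.toAlgHom.toRingHom.toAlgebra
  have : IsScalarTower P A L := IsScalarTower.of_algebraMap_eq fun p =>
    (ha.1.algebraMap_aevalEquiv p).symm
  have : IsScalarTower A F L := IsScalarTower.of_algebraMap_eq fun _ => rfl
  have : Algebra.FormallyEtale P A :=
    Algebra.FormallyEtale.of_equiv
      (AlgEquiv.ofRingEquiv (f := ha.1.aevalEquiv.toRingEquiv) fun p => rfl : P ≃ₐ[P] A)
  have : Algebra.FormallyEtale A F := Algebra.FormallyEtale.of_isLocalization (nonZeroDivisors A)
  have : Algebra.FormallyEtale F L := Algebra.FormallyEtale.of_isSeparable F L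
  have : Algebra.FormallyEtale A L := Algebra.FormallyEtale.comp A F L
  have : Algebra.FormallyEtale P L := Algebra.FormallyEtale.comp P A L
  rw [← (KaehlerDifferential.tensorKaehlerEquivOfFormallyEtale K P L).finrank_eq,
    Module.finrank_eq_card_basis
      (Algebra.TensorProduct.basis L (KaehlerDifferential.mvPolynomialBasis K (Fin n))),
    Fintype.card_fin]

end Groth.Agent.S14436
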