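import Groth.Statements.S14437
import Mathlib.RingTheory.Kaehler.Basic
import Mathlib.RingTheory.Ideal.Cotangent
import Mathlib.LinearAlgebra.FiniteDimensional.Lemmas

set_option autoImplicit false
universe u
open CAlg TensorProduct

namespace Groth.Agent.S14437

/-- Let k be a field and A → B a local homomorphism of Noetherian local k-algebras with residue fields k
(k → A/m_A and k → B/m_B bijective) — for instance the local rings at a closed point x and at its
image y under a morphism of schemes of finite type over an algebraically closed k. Then dim_k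
(Ω_{B/A} ⊗_B B/m_B) + rank(m_A/m_A² → m_B/m_B²) = dim_k (m_B/m_B²): the fibre at x of the sheaf of
relative differentials is dual to the kernel of the tangent map T_x X → T_y Y. (The published
statement is the canonical isomorphism (Ω_{X/Y})_(x)^∨ ≅ ker(df_x); stated here as the resulting
equality of dimensions. Its second assertion, dim (Ω_{X/Y})_(x) ≥ r when the fibre has an
r-dimensional component through x, is not included.) -/
theorem result (k : Type u) [Field k]
    (A B : Type u) [CommRing A] [CommRing B] [IsLocalRing A] [IsLocalRing B] [IsNoetherianRing A] [IsNoetherianRing B]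
    [Algebra k A] [Algebra k B] [Algebra A B] [IsScalarTower k A B]
    (hle : IsLocalRing.maximalIdeal A ≤ Ideal.comap (IsScalarTower.toAlgHom k A B) (IsLocalRing.maximalIdeal B))
    (hA : Function.Bijective (algebraMap k (IsLocalRing.ResidueField A)))
    (hB : Function.Bijective (algebraMap k (IsLocalRing.ResidueField B))) :
    Module.finrank (IsLocalRing.ResidueField B) (TensorProduct B (IsLocalRing.ResidueField B) (Ω[B⁄A])) +
      Module.finrank k ↥(LinearMap.range (Ideal.mapCotangent (IsLocalRing.maximalIdeal A) (IsLocalRing.maximalIdeal B)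
        (IsScalarTower.toAlgHom k A B) hle)) =
      Module.finrank k (IsLocalRing.CotangentSpace B) := by
  classical
  let κ := IsLocalRing.ResidueField B
  let 𝔪 := IsLocalRing.maximalIdeal B
  let φ := IsScalarTower.toAlgHom k A B
  choose cB hcB using fun b : B => hB.2 (IsLocalRing.residue B b)
  have hres : ∀ c : k, algebraMap k κ c = IsLocalRing.residue B (algebraMap k B c) := fun c => rfl
  have hcm : ∀ b : B, b - algebraMap k B (cB b) ∈ 𝔪 := fun b => by
    rw [← IsLocalRing.residue_eq_zero_iff, map_sub, ← hres, hcB, sub_self]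
  let C := IsLocalRing.CotangentSpace B
  have hsmul : ∀ (b : B) (v : C), b • v = cB b • v := fun b v => by
    conv_lhs => rw [← sub_add_cancel b (algebraMap k B (cB b))]
    rw [add_smul, algebraMap_smul]
    have : (b - algebraMap k B (cB b)) • v = 0 := Ideal.Cotangent.smul_eq_zero_of_mem (hcm b) v
    rw [this, zero_add]
  let R₀ : Submodule k C := LinearMap.range
    (Ideal.mapCotangent (IsLocalRing.maximalIdeal A) 𝔪 φ hle)
  let R' : Submodule B C :=
    { R₀.toAddSubmonoid with smul_mem' := fun b v hv => by rw [hsmul]; exact R₀.smul_mem _ hv }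
  let Q := C ⧸ R'
  let π : C →ₗ[B] Q := R'.mkQ
  let δ₀ : B → C := fun b => Ideal.toCotangent 𝔪 ⟨b - algebraMap k B (cB b), hcm b⟩
  have hcinj : Function.Injective (algebraMap k κ) := hB.1
  have cB_add : ∀ x y, cB (x + y) = cB x + cB y := fun x y => hcinj (by
    rw [map_add, hcB, hcB, hcB, map_add])
  have cB_mul : ∀ x y, cB (x * y) = cB x * cB y := fun x y => hcinj (by
    rw [map_mul, hcB, hcB, hcB, map_mul])
  have cB_alg : ∀ c : k, cB (algebraMap k B c) = c := fun c => hcinj (by rw [hcB, ← hres])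
  have δ_add : ∀ x y, δ₀ (x + y) = δ₀ x + δ₀ y := fun x y => by
    simp only [δ₀, ← map_add]
    congr 1
    exact Subtype.ext (by simp only [Submodule.coe_add, cB_add, map_add]; ring)
  have δ_mul : ∀ x y, δ₀ (x * y) = x • δ₀ y + y • δ₀ x := fun x y => by
    rw [hsmul y (δ₀ x), ← algebraMap_smul B (cB y) (δ₀ x)]
    simp only [δ₀, ← map_smul, ← map_add]
    congr 1
    exact Subtype.ext (by
      simp only [Submodule.coe_add, Submodule.coe_smul, smul_eq_mul, cB_mul, map_mul]; ring)
  have δA : ∀ a : A, π (δ₀ (algebraMap A B a)) = 0 := fun a => by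
    obtain ⟨c, hc⟩ := hA.2 (IsLocalRing.residue A a)
    have hac : a - algebraMap k A c ∈ IsLocalRing.maximalIdeal A := by
      rw [← IsLocalRing.residue_eq_zero_iff, map_sub, ← hc]; exact sub_self _
    have hb : algebraMap A B (a - algebraMap k A c) ∈ 𝔪 := hle hac
    have hc' : cB (algebraMap A B a) = c := hcinj (by
      rw [hcB, hres, eq_comm, ← sub_eq_zero, ← map_sub, IsLocalRing.residue_eq_zero_iff,
        IsScalarTower.algebraMap_apply k A B, ← map_sub, ← neg_sub, map_neg]
      exact 𝔪.neg_mem hb)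
    refine (Submodule.Quotient.mk_eq_zero R').2 ⟨Ideal.toCotangent _ ⟨_, hac⟩, ?_⟩
    rw [Ideal.mapCotangent_toCotangent]
    congr 1
    exact Subtype.ext (by simp [φ, hc', IsScalarTower.algebraMap_apply k A B])
  let δ : Derivation A B Q := Derivation.mk'
    { toFun := fun b => π (δ₀ b)
      map_add' := fun x y => by rw [δ_add, map_add]
      map_smul' := fun a x => by
        rw [Algebra.smul_def, δ_mul, map_add, map_smul, map_smul, δA, smul_zero, add_zero,
          algebraMap_smul, RingHom.id_apply] }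
    (fun x y => by
      show π (δ₀ (x * y)) = x • π (δ₀ y) + y • π (δ₀ x)
      rw [δ_mul, map_add, map_smul, map_smul])
  let α : Ω[B⁄A] →ₗ[B] Q := δ.liftKaehlerDifferential
  have hαD : ∀ b, α (KaehlerDifferential.D A B b) = π (δ₀ b) := fun b => δ.liftKaehlerDifferential_comp_D b
  have hm1 : ∀ x ∈ 𝔪, x • (1 : κ) = 0 := fun x hx => by
    rw [Algebra.smul_def, mul_one]; exact (IsLocalRing.residue_eq_zero_iff x).2 hx
  let ψ₀ : 𝔪 →ₗ[B] κ ⊗[B] Ω[B⁄A] :=
    { toFun := fun x => 1 ⊗ₜ KaehlerDifferential.D A B x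
      map_add' := fun x y => by rw [Submodule.coe_add, map_add, TensorProduct.tmul_add]
      map_smul' := fun b x => by
        rw [Submodule.coe_smul, smul_eq_mul, Derivation.leibniz, TensorProduct.tmul_add,
          TensorProduct.tmul_smul, ← TensorProduct.smul_tmul _ (1 : κ), hm1 x x.2,
          TensorProduct.zero_tmul, add_zero, RingHom.id_apply] }
  let ψ₁ : C →ₗ[B] κ ⊗[B] Ω[B⁄A] := Ideal.Cotangent.lift ψ₀ fun x y => by
    show (1 : κ) ⊗ₜ[B] KaehlerDifferential.D A B ((x : B) * y) = 0
    rw [Derivation.leibniz, TensorProduct.tmul_add, ← TensorProduct.smul_tmul,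
      ← TensorProduct.smul_tmul, hm1 x x.2, hm1 y y.2, TensorProduct.zero_tmul, TensorProduct.zero_tmul, add_zero]
  have hψ₁ : ∀ x : 𝔪, ψ₁ (Ideal.toCotangent 𝔪 x) = 1 ⊗ₜ KaehlerDifferential.D A B x := fun x => rfl
  let ψ : Q →ₗ[B] κ ⊗[B] Ω[B⁄A] := R'.liftQ ψ₁ (by
    rintro v ⟨w, rfl⟩
    obtain ⟨x, rfl⟩ := Ideal.toCotangent_surjective _ w
    rw [LinearMap.mem_ker, Ideal.mapCotangent_toCotangent, hψ₁]
    show (1 : κ) ⊗ₜ[B] KaehlerDifferential.D A B (algebraMap A B (x : A)) = 0
    rw [Derivation.map_algebraMap, TensorProduct.tmul_zero])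
  have hψπ : ∀ v, ψ (π v) = ψ₁ v := fun v => rfl
  have hαψ : ∀ w : Ω[B⁄A], ψ (α w) = 1 ⊗ₜ w := by
    intro w
    have hw : w ∈ Submodule.span B (Set.range (KaehlerDifferential.D A B)) := by
      rw [KaehlerDifferential.span_range_derivation]; trivial
    induction hw using Submodule.span_induction with
    | mem z hz =>
      obtain ⟨b, rfl⟩ := hz
      rw [hαD, hψπ, hψ₁]
      show (1 : κ) ⊗ₜ[B] KaehlerDifferential.D A B (b - algebraMap k B (cB b)) = _
      rw [map_sub, IsScalarTower.algebraMap_apply k A B, Derivation.map_algebraMap, sub_zero]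
    | zero => rw [map_zero, map_zero, TensorProduct.tmul_zero]
    | add u v _ _ hu hv => rw [map_add, map_add, hu, hv, TensorProduct.tmul_add]
    | smul b v _ hv => rw [map_smul, map_smul, hv, TensorProduct.tmul_smul]
  have hQ : ∀ x ∈ 𝔪, ∀ q : Q, x • q = 0 := fun x hx q => by
    obtain ⟨v, rfl⟩ := Submodule.mkQ_surjective R' q
    rw [← map_smul]
    have : x • v = 0 := Ideal.Cotangent.smul_eq_zero_of_mem hx v
    rw [this, map_zero]
  let β : κ →ₗ[B] (Ω[B⁄A] →ₗ[B] Q) := Submodule.liftQ 𝔪 (LinearMap.toSpanSingleton B _ α) (by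
    intro x hx
    rw [LinearMap.mem_ker, LinearMap.toSpanSingleton_apply]
    exact LinearMap.ext fun w => hQ x hx _)
  let τ : κ ⊗[B] Ω[B⁄A] →ₗ[B] Q := TensorProduct.lift β
  have hτ : ∀ w : Ω[B⁄A], τ (1 ⊗ₜ w) = α w := fun w => by
    show ((1 : B) • α) w = α w
    rw [one_smul]
  have hbij : Function.Bijective ψ := by
    refine ⟨Function.LeftInverse.injective (g := τ) fun q => ?_, fun z => ?_⟩
    · obtain ⟨v, rfl⟩ := Submodule.mkQ_surjective R' q
      obtain ⟨x, rfl⟩ := Ideal.toCotangent_surjective 𝔪 v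
      have e1 : ψ (R'.mkQ (Ideal.toCotangent 𝔪 x)) =
          1 ⊗ₜ KaehlerDifferential.D A B x := hψ₁ x
      rw [e1, hτ, hαD]
      have hc0 : cB (x : B) = 0 := hcinj (by
        rw [hcB, map_zero]; exact (IsLocalRing.residue_eq_zero_iff _).2 x.2)
      show π (Ideal.toCotangent 𝔪 _) = _
      congr 2
      exact Subtype.ext (show (x : B) - algebraMap k B (cB (x : B)) = x by rw [hc0, map_zero, sub_zero])
    · induction z using TensorProduct.induction_on with
      | zero => exact ⟨0, map_zero ψ⟩
      | tmul c w =>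
        obtain ⟨b, rfl⟩ := IsLocalRing.residue_surjective c
        refine ⟨α (b • w), ?_⟩
        rw [hαψ, ← TensorProduct.smul_tmul, Algebra.smul_def, mul_one]
        rfl
      | add u v hu hv =>
        obtain ⟨p, rfl⟩ := hu
        obtain ⟨q, rfl⟩ := hv
        exact ⟨p + q, map_add ψ p q⟩
  let e : (C ⧸ R'.restrictScalars k) ≃ₗ[k] κ ⊗[B] Ω[B⁄A] :=
    (Submodule.Quotient.restrictScalarsEquiv k R').trans
      ((LinearEquiv.ofBijective ψ hbij).restrictScalars k)
  have : Module.Finite k C := by
    have : Module.Finite k κ := Module.Finite.equiv (LinearEquiv.ofBijective (Algebra.linearMap k κ) hB)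
    have : IsScalarTower k κ C := IsScalarTower.of_algebraMap_smul fun c v => by
      rw [IsScalarTower.algebraMap_apply k B κ, algebraMap_smul, algebraMap_smul]
    exact Module.Finite.trans κ C
  have hk : Module.finrank κ (κ ⊗[B] Ω[B⁄A]) = Module.finrank k (κ ⊗[B] Ω[B⁄A]) :=
    congrArg Cardinal.toNat (rank_eq_of_equiv_equiv (R := k) (R' := κ) (algebraMap k κ)
      (AddEquiv.refl (κ ⊗[B] Ω[B⁄A])) hB fun r m => (algebraMap_smul κ r m).symm).symm
  show Module.finrank κ (κ ⊗[B] Ω[B⁄A]) + Module.finrank k R₀ = Module.finrank k C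
  rw [hk, ← e.finrank_eq]
  exact Submodule.finrank_quotient_add_finrank R₀

end Groth.Agent.S14437
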