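import Groth.Statements.S14442
import Mathlib.RingTheory.GradedAlgebra.Homogeneous.Ideal
import Mathlib.Algebra.GradedMonoid

set_option autoImplicit false
universe u
open GrNak

namespace Groth.Agent.S14442

/-- Let R be a commutative ℕ-graded ring with irrelevant ideal R_+ = ⊕_{i>0} R_i, M an ℕ-graded R-module
and N a graded submodule of M (closed under taking homogeneous components). If M = R_+ M + N then N
= M. (The published statement is for finitely generated ℤ-graded modules over a graded quotient of a
polynomial ring, whose degrees are then bounded below; stated here for non-negatively graded modules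
over any ℕ-graded commutative ring, where the same lowest-degree argument applies without finite
generation.) -/
theorem result {R : Type u} [CommRing R] {σ : Type u} [SetLike σ R] [AddSubmonoidClass σ R]
    (𝒜 : ℕ → σ) [GradedRing 𝒜]
    {M : Type u} [AddCommGroup M] [Module R M] {τ : Type u} [SetLike τ M] [AddSubmonoidClass τ M]
    (ℳ : ℕ → τ) [DirectSum.Decomposition ℳ] [SetLike.GradedSMul 𝒜 ℳ]
    (N : Submodule R M) (hN : ∀ x ∈ N, ∀ i : ℕ, (DirectSum.decompose ℳ x i : M) ∈ N)
    (h : (HomogeneousIdeal.irrelevant 𝒜).toIdeal • (⊤ : Submodule R M) ⊔ N = ⊤) :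
    N = ⊤ := by
  classical
  have key : ∀ i, ∀ x : M, x ∈ ℳ i → x ∈ N := by
    intro i
    induction i using Nat.strong_induction_on with
    | _ i ih =>
      intro x hx
      have hxt : x ∈ (HomogeneousIdeal.irrelevant 𝒜).toIdeal • (⊤ : Submodule R M) ⊔ N := by rw [h]; exact Submodule.mem_top
      obtain ⟨y, hy, z, hz, rfl⟩ := Submodule.mem_sup.1 hxt
      rw [← DirectSum.decompose_of_mem_same ℳ hx, DirectSum.decompose_add, DirectSum.add_apply,
        AddMemClass.coe_add]
      refine add_mem ?_ (hN z hz i)
      clear hx hxt
      refine Submodule.smul_induction_on (p := fun y => (DirectSum.decompose ℳ y i : M) ∈ N) hy ?_ ?_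
      · intro a ha m _
        rw [← DirectSum.sum_support_decompose 𝒜 a, ← DirectSum.sum_support_decompose ℳ m, Finset.sum_smul]
        rw [DirectSum.decompose_sum, DFinsupp.finset_sum_apply, AddSubmonoidClass.coe_finset_sum]
        refine Submodule.sum_mem _ fun j _ => ?_
        rw [Finset.smul_sum, DirectSum.decompose_sum, DFinsupp.finset_sum_apply, AddSubmonoidClass.coe_finset_sum]
        refine Submodule.sum_mem _ fun k _ => ?_
        have hmem : (DirectSum.decompose 𝒜 a j : R) • (DirectSum.decompose ℳ m k : M) ∈ ℳ (j + k) :=
          vadd_eq_add j k ▸ SetLike.GradedSMul.smul_mem (A := 𝒜) (B := ℳ) (i := j) (j := k) (SetLike.coe_mem _) (SetLike.coe_mem _)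
        rcases eq_or_ne (j + k) i with hji | hji
        · subst hji
          rw [DirectSum.decompose_of_mem_same ℳ hmem]
          rcases Nat.eq_zero_or_pos j with hj | hj
          · subst hj
            have h0 : (DirectSum.decompose 𝒜 a 0 : R) = 0 := (HomogeneousIdeal.mem_irrelevant_iff 𝒜 a).1 ha
            rw [h0, zero_smul]
            exact zero_mem _
          · exact N.smul_mem _ (ih k (by omega) _ (SetLike.coe_mem _))
        · rw [DirectSum.decompose_of_mem_ne ℳ hmem hji]
          exact zero_mem _
      · intro u v hu hv
        rw [DirectSum.decompose_add, DirectSum.add_apply, AddMemClass.coe_add]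
        exact add_mem hu hv
  rw [eq_top_iff]
  intro x _
  rw [← DirectSum.sum_support_decompose ℳ x]
  exact Submodule.sum_mem _ fun i _ => key i _ (SetLike.coe_mem _)

end Groth.Agent.S14442
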