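import Groth.Statements.S14446
import Groth.Agent.H7.AlgSt.Basic

set_option autoImplicit false
set_option backward.isDefEq.respectTransparency false
open CategoryTheory
universe v₂ u₂ v₃ u₃ v u
open Stk

namespace Groth.Agent.S14446

/-- Let C be a category with a Grothendieck topology J and 𝒳, 𝒴 categories over C which are equivalent
in the 2-category of categories over C. Then 𝒳 is a prestack in groupoids for J — fibred in
groupoids, with restriction from functors C/U → 𝒳 over C to functors R → 𝒳 over C fully faithful for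
every covering sieve R on every object U — if and only if 𝒴 is. (The published statement concerns
fibred categories in general; this row is its case for categories fibred in groupoids, with the
prestack condition in sieve form.) -/
theorem result {C : Type u} [Category.{v} C] (J : GrothendieckTopology C)
    {𝒳 : BasedCategory.{v₂, u₂} C} {𝒴 : BasedCategory.{v₃, u₃} C} (F : 𝒳 ⥤ᵇ 𝒴) (hF : FibCat.IsEquivOver F) :
    Stk.IsPrestack J 𝒳 ↔ Stk.IsPrestack J 𝒴 := by
  have hg : FibCat.IsFibGrpd 𝒳.p ↔ FibCat.IsFibGrpd 𝒴.p :=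
    ⟨Groth.Agent.LeadFibCat.isFibGrpd_of_equiv hF, Groth.Agent.LeadFibCat.isFibGrpd_of_equiv' hF⟩
  obtain ⟨G, hG, -⟩ := Groth.Agent.LeadFibCat.equiv_inv hF
  rw [Groth.Agent.H7.Stk.Glue.prestack_iff, Groth.Agent.H7.Stk.Glue.prestack_iff]
  constructor
  · rintro ⟨h, hh⟩
    exact ⟨hg.1 h, fun U R hR => Groth.Agent.H7.Stk.Glue.homGlue_of_ff (hg.1 h) h G
      (Groth.Agent.LeadFibCat.equiv_props hG).1 (Groth.Agent.LeadFibCat.equiv_props hG).2.1 (hh R hR)⟩
  · rintro ⟨h, hh⟩
    exact ⟨hg.2 h, fun U R hR => Groth.Agent.H7.Stk.Glue.homGlue_of_ff (hg.2 h) h F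
      (Groth.Agent.LeadFibCat.equiv_props hF).1 (Groth.Agent.LeadFibCat.equiv_props hF).2.1 (hh R hR)⟩


end Groth.Agent.S14446
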