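import Groth.Statements.S14457
import Mathlib
import Groth.Agent.Az8.Etale
-- import your own Groth.Agent.* helpers here

set_option autoImplicit false
open Polynomial
universe u
open CAlg

namespace Groth.Agent.S14457

open Polynomial in
/-- Let A be a commutative ring, a an element of A and n ≥ 1 an integer. The A-algebra A[T]/(T^n − a) is
etale exactly when either n = 1 or the product n·a is a unit of A. (The exponent n is a positive
integer here; for n = 0 the quotient is (A/(1 − a))[T] and the equivalence fails.) -/
theorem result (A : Type u) [CommRing A] (a : A) (n : ℕ) (hn : 1 ≤ n) :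
    Algebra.Etale A (AdjoinRoot ((X : A[X]) ^ n - C a)) ↔ n = 1 ∨ IsUnit ((n : A) * a) := by
  classical
  have hmon : ((X : A[X]) ^ n - C a).Monic := monic_X_pow_sub_C a (by omega)
  constructor
  · intro het
    by_contra hc
    push Not at hc
    obtain ⟨hn1, hu⟩ := hc
    obtain ⟨p, hp, hle⟩ := Ideal.exists_le_maximal (Ideal.span {(n : A) * a}) (by rwa [Ne, Ideal.span_singleton_eq_top])
    have hmem : (n : A) * a ∈ p := hle (Ideal.mem_span_singleton_self _)
    let K := AlgebraicClosure p.ResidueField
    let φ : A →+* K := (algebraMap p.ResidueField K).comp (algebraMap A p.ResidueField)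
    have h0 : (n : K) * φ a = 0 := by
      rw [← map_natCast φ n, ← map_mul]
      simp [φ, Ideal.algebraMap_residueField_eq_zero.mpr hmem]
    obtain ⟨z, hz⟩ := IsAlgClosed.exists_pow_nat_eq (φ a) (show 0 < n by omega)
    have hd : (n : K) * z ^ (n - 1) = 0 := by
      rcases mul_eq_zero.mp h0 with h | h
      · rw [h, zero_mul]
      · rw [h] at hz
        rw [eq_zero_of_pow_eq_zero hz, zero_pow (by omega), mul_zero]
    letI : Algebra A (DualNumber K) := ((algebraMap K (DualNumber K)).comp φ).toAlgebra
    have key : ∀ c : K, (Polynomial.aeval (algebraMap K (DualNumber K) z + c • DualNumber.eps)) ((X : A[X]) ^ n - C a) = 0 := by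
      intro c
      rw [map_sub, map_pow, aeval_X, aeval_C]
      apply TrivSqZeroExt.ext
      · simp [RingHom.algebraMap_toAlgebra, hz, TrivSqZeroExt.fst_pow, TrivSqZeroExt.algebraMap_eq_inl]
      · simp [RingHom.algebraMap_toAlgebra, TrivSqZeroExt.snd_pow, TrivSqZeroExt.algebraMap_eq_inl]
        rcases mul_eq_zero.mp hd with h | h
        · exact Or.inl h
        · exact Or.inr (Or.inl (pow_eq_zero_iff'.mp h))
    haveI : Algebra.Etale A (AdjoinRoot ((X : A[X]) ^ n - C a)) := het
    let f : DualNumber K →+* K := (TrivSqZeroExt.fstHom K K K).toRingHom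
    have hker : IsNilpotent (RingHom.ker f) := by
      refine ⟨2, ?_⟩
      rw [Submodule.pow_succ, Submodule.pow_one, Ideal.zero_eq_bot, eq_bot_iff, Ideal.mul_le]
      intro x hx y hy
      have hx' : x.fst = 0 := hx
      have hy' : y.fst = 0 := hy
      rw [Ideal.mem_bot]
      apply TrivSqZeroExt.ext <;> simp [hx', hy']
    have he := Algebra.FormallyUnramified.lift_unique_of_ringHom (R := A) (A := AdjoinRoot ((X : A[X]) ^ n - C a)) f hker
      (AdjoinRoot.liftAlgHom _ (Algebra.ofId A (DualNumber K)) _ (key 0)) (AdjoinRoot.liftAlgHom _ (Algebra.ofId A (DualNumber K)) _ (key 1)) (by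
        apply AdjoinRoot.ringHom_ext
        · ext x; simp [f]
        · simp [f, TrivSqZeroExt.algebraMap_eq_inl])
    have := congrArg TrivSqZeroExt.snd (AlgHom.congr_fun he (AdjoinRoot.root _))
    simp [TrivSqZeroExt.algebraMap_eq_inl] at this
  · intro h
    apply Groth.Agent.Az8.etale_adjoinRoot hmon
    rw [derivative_sub, derivative_X_pow, derivative_C, sub_zero, map_mul, aeval_C, map_pow, aeval_X]
    rcases h with rfl | h
    · simp
    · have hu := h.map (algebraMap A (AdjoinRoot ((X : A[X]) ^ n - C a)))
      have e : (AdjoinRoot.root ((X : A[X]) ^ n - C a)) ^ n = algebraMap A _ a := by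
        have := AdjoinRoot.eval₂_root ((X : A[X]) ^ n - C a)
        rwa [eval₂_sub, eval₂_X_pow, eval₂_C, sub_eq_zero] at this
      rw [map_mul, ← e, ← pow_sub_one_mul (show n ≠ 0 by omega) (AdjoinRoot.root ((X : A[X]) ^ n - C a)), ← mul_assoc] at hu
      exact isUnit_of_mul_isUnit_left hu

end Groth.Agent.S14457
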