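import Groth.Statements.S14478
import Mathlib.LinearAlgebra.Dual.Lemmas
import Mathlib.LinearAlgebra.Projection

set_option autoImplicit false
universe u
open CharCyc

namespace Groth.Agent.S14478

theorem common {k V : Type*} [Field k] [AddCommGroup V] [Module k V] [FiniteDimensional k V] (L U : Submodule k V)
    (h : Module.finrank k L = Module.finrank k U) : ∃ W : Submodule k V, IsCompl L W ∧ IsCompl U W := by
  obtain ⟨d, hd⟩ : ∃ d, Module.finrank k L + d = Module.finrank k V := ⟨_, Nat.add_sub_cancel' L.finrank_le⟩
  induction d generalizing L U with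
  | zero =>
    have hL : L = ⊤ := Submodule.eq_top_of_finrank_eq (by omega)
    have hU : U = ⊤ := Submodule.eq_top_of_finrank_eq (by omega)
    subst hL hU
    exact ⟨⊥, isCompl_top_bot, isCompl_top_bot⟩
  | succ d ih =>
    have hLt : L ≠ ⊤ := fun e => by rw [e, finrank_top] at hd; omega
    have hUt : U ≠ ⊤ := fun e => by rw [e, finrank_top] at h; omega
    obtain ⟨v, hvL, hvU⟩ : ∃ v, v ∉ L ∧ v ∉ U := by
      obtain ⟨a, -, ha⟩ := SetLike.exists_of_lt hLt.lt_top
      obtain ⟨b, -, hb⟩ := SetLike.exists_of_lt hUt.lt_top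
      by_cases haU : a ∈ U
      · by_cases hbL : b ∈ L
        · exact ⟨a + b, fun hh => ha ((L.add_mem_iff_left hbL).1 hh), fun hh => hb ((U.add_mem_iff_right haU).1 hh)⟩
        · exact ⟨b, hbL, hb⟩
      · exact ⟨a, ha, haU⟩
    have hv : v ≠ 0 := fun e => hvL (e ▸ L.zero_mem)
    have hf : ∀ M : Submodule k V, v ∉ M → Module.finrank k (M ⊔ Submodule.span k {v} : Submodule k V) = Module.finrank k M + 1 := fun M hM => by
      have := Submodule.finrank_sup_add_finrank_inf_eq M (Submodule.span k {v})
      rw [((Submodule.disjoint_span_singleton' hv).2 hM).eq_bot, finrank_bot, finrank_span_singleton hv] at this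
      omega
    obtain ⟨W, h1, h2⟩ := ih (L ⊔ Submodule.span k {v}) (U ⊔ Submodule.span k {v}) (by rw [hf L hvL, hf U hvU, h]) (by rw [hf L hvL]; omega)
    have go : ∀ M : Submodule k V, v ∉ M → IsCompl (M ⊔ Submodule.span k {v}) W → IsCompl M (Submodule.span k {v} ⊔ W) := fun M hM hc =>
      ⟨((Submodule.disjoint_span_singleton' hv).2 hM).disjoint_sup_right_of_disjoint_sup_left hc.disjoint,
        codisjoint_iff.2 (by rw [← sup_assoc]; exact hc.sup_eq_top)⟩
    exact ⟨Submodule.span k {v} ⊔ W, go L hvL h1, go U hvU h2⟩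

theorem rn {k A B : Type*} [Field k] [AddCommGroup A] [Module k A] [FiniteDimensional k A] [AddCommGroup B] [Module k B] (T : Submodule k A) (f : A →ₗ[k] B) :
    Module.finrank k (LinearMap.range (f ∘ₗ T.subtype)) + Module.finrank k (LinearMap.ker (f ∘ₗ T.subtype)) = Module.finrank k T :=
  LinearMap.finrank_range_add_finrank_ker _

set_option maxHeartbeats 1000000 in

/-- Let V be a finite-dimensional vector space over a field k, let W = V × V^∨ with V^∨ the dual space,
and let T ⊆ W be a subspace with dim T = dim V; put V₁ = V ∩ T, where V sits in W as V × 0. Then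
there is a complement V₂ of V₁ in V with the following property: for every injective linear map A₁ :
V₁ → V₁^∨, the map A : V → V^∨ extending A₁ by zero along the decompositions V = V₁ ⊕ V₂ and V^∨ =
V₁^∨ ⊕ V₂^∨ (so A v = A₁(p v) ∘ p, with p : V → V₁ the projection along V₂) has graph Γ ⊆ W with Γ ∩
T = 0. -/
theorem result (k V : Type u) [Field k] [AddCommGroup V] [Module k V]
    [FiniteDimensional k V] (T : Submodule k (V × Module.Dual k V))
    (hT : Module.finrank k T = Module.finrank k V) :
    ∃ (V₂ : Submodule k V) (h : IsCompl (T.comap (LinearMap.inl k V (Module.Dual k V))) V₂),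
      ∀ A₁ : T.comap (LinearMap.inl k V (Module.Dual k V)) →ₗ[k]
          Module.Dual k (T.comap (LinearMap.inl k V (Module.Dual k V))),
        Function.Injective A₁ →
          LinearMap.graph ((Submodule.projectionOnto _ V₂ h).dualMap ∘ₗ A₁ ∘ₗ
              Submodule.projectionOnto _ V₂ h) ⊓ T = ⊥ := by
  classical
  let W : Submodule k (Module.Dual k V) := T.map (LinearMap.snd k V (Module.Dual k V))
  have hdim : Module.finrank k (T.comap (LinearMap.inl k V (Module.Dual k V))) + Module.finrank k W = Module.finrank k V := by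
    let g := (LinearMap.snd k V (Module.Dual k V)).comp T.subtype
    have hr : LinearMap.range g = W := by rw [LinearMap.range_comp, Submodule.range_subtype]
    let e : T.comap (LinearMap.inl k V (Module.Dual k V)) ≃ₗ[k] LinearMap.ker g :=
      { toFun := fun l => ⟨⟨(l.1, 0), l.2⟩, rfl⟩
        invFun := fun t => ⟨t.1.1.1, show (t.1.1.1, (0 : Module.Dual k V)) ∈ T by
          have h : t.1.1.2 = 0 := t.2
          rw [← h]; exact t.1.2⟩
        left_inv := fun l => rfl
        right_inv := fun t => by
          have h : t.1.1.2 = 0 := t.2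
          exact Subtype.ext (Subtype.ext (Prod.ext rfl h.symm))
        map_add' := fun _ _ => Subtype.ext (Subtype.ext (Prod.ext rfl (add_zero (0 : Module.Dual k V)).symm))
        map_smul' := fun c _ => Subtype.ext (Subtype.ext (Prod.ext rfl (smul_zero c).symm)) }
    have h1 : Module.finrank k (LinearMap.range g) + Module.finrank k (LinearMap.ker g) = Module.finrank k T := rn T _
    have h2 := e.finrank_eq
    clear_value e
    have h3 : Module.finrank k W = Module.finrank k (LinearMap.range g) := by rw [hr]
    generalize Module.finrank k (T.comap (LinearMap.inl k V (Module.Dual k V))) = nL at *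
    generalize Module.finrank k (LinearMap.ker g) = nk at *
    generalize Module.finrank k (LinearMap.range g) = nr at *
    omega
  have hU : Module.finrank k (T.comap (LinearMap.inl k V (Module.Dual k V))) = Module.finrank k W.dualCoannihilator := by
    have := Subspace.finrank_add_finrank_dualCoannihilator_eq W
    omega
  obtain ⟨V₂, h, hUc⟩ := common (T.comap (LinearMap.inl k V (Module.Dual k V))) W.dualCoannihilator hU
  refine ⟨V₂, h, fun A₁ hA => ?_⟩
  rw [Submodule.eq_bot_iff]
  rintro ⟨v, φ⟩ ⟨hg, hT'⟩
  rw [SetLike.mem_coe, LinearMap.mem_graph_iff] at hg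
  simp only at hg
  have hφW : φ ∈ W := ⟨(v, φ), hT', rfl⟩
  have hφ0 : φ = 0 := LinearMap.ext fun x => by
    obtain ⟨u, hu, w, hw, rfl⟩ := Submodule.mem_sup.1 (hUc.sup_eq_top ▸ Submodule.mem_top : x ∈ _)
    rw [map_add, (Submodule.mem_dualCoannihilator u).1 hu φ hφW, hg]
    simp [Submodule.projectionOnto_apply_right h ⟨w, hw⟩]
  have hAl : A₁ (Submodule.projectionOnto _ V₂ h v) = 0 := LinearMap.ext fun l => by
    have h1 := LinearMap.congr_fun hg (l : V)
    rw [hφ0] at h1
    simpa [Submodule.projectionOnto_apply_left] using h1.symm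
  have hv2 : v ∈ V₂ := (Submodule.projectionOnto_apply_eq_zero_iff h).1 (hA (hAl.trans (map_zero A₁).symm))
  have hvL : v ∈ T.comap (LinearMap.inl k V (Module.Dual k V)) := show (v, (0 : Module.Dual k V)) ∈ T from hφ0 ▸ hT'
  exact Prod.ext (Submodule.disjoint_def.1 h.disjoint v hvL hv2) hφ0

end Groth.Agent.S14478
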