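import Groth.Statements.S14479
import Mathlib.LinearAlgebra.Matrix.BilinearForm
import Mathlib.LinearAlgebra.BilinearForm.Properties
import Mathlib.LinearAlgebra.Matrix.NonsingularInverse
import Mathlib.LinearAlgebra.Dimension.Free
import Mathlib.Algebra.CharP.Basic

set_option autoImplicit false
universe u
open CharCyc

namespace Groth.Agent.S14479

theorem exists_of_matrix {k V : Type u} [Field k] [AddCommGroup V] [Module k V] {n : Type} [Fintype n] [DecidableEq n]
    (b : Module.Basis n k V) (M : Matrix n n k) (h : (M + M.transpose).det ≠ 0) :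
    ∃ B : LinearMap.BilinForm k V, (B + B.flip).Nondegenerate := by
  refine ⟨Matrix.toBilin b M, ?_⟩
  have he : Matrix.toBilin b M + (Matrix.toBilin b M).flip = Matrix.toBilin b (M + M.transpose) := by
    rw [map_add]
    congr 1
    apply (LinearMap.BilinForm.toMatrix b).injective
    ext i j
    rw [LinearMap.BilinForm.toMatrix_toBilin, LinearMap.BilinForm.toMatrix_apply, Matrix.transpose_apply]
    show Matrix.toBilin b M (b j) (b i) = M j i
    rw [← LinearMap.BilinForm.toMatrix_apply b, LinearMap.BilinForm.toMatrix_toBilin]
  rw [he]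
  exact (Matrix.Nondegenerate.toBilin (Matrix.nondegenerate_of_det_ne_zero h) b)


/-- Let V be a finite-dimensional vector space over a field k. If dim V is even or the characteristic of
k is different from 2, there is a bilinear form B on V such that the bilinear form (v, w) ↦ B(v, w)
+ B(w, v) (B plus its transpose, as a map V → V^∨) is nondegenerate. -/
theorem result (k V : Type u) [Field k] [AddCommGroup V] [Module k V]
    [FiniteDimensional k V] (h : Even (Module.finrank k V) ∨ ringChar k ≠ 2) :
    ∃ B : LinearMap.BilinForm k V, (B + B.flip).Nondegenerate := by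
  classical
  rcases h with ⟨m, hm⟩ | h2
  · let b := (Module.finBasisOfFinrankEq k V hm).reindex finSumFinEquiv.symm
    refine exists_of_matrix b (Matrix.fromBlocks 0 1 0 0) ?_
    rw [Matrix.fromBlocks_transpose, Matrix.fromBlocks_add]
    simp only [Matrix.transpose_zero, Matrix.transpose_one, add_zero, zero_add]
    intro h
    have h1 := congrArg Matrix.det (show (Matrix.fromBlocks 0 1 1 0 : Matrix (Fin m ⊕ Fin m) (Fin m ⊕ Fin m) k) * Matrix.fromBlocks 0 1 1 0 = 1 by
      rw [Matrix.fromBlocks_multiply]; simp [Matrix.fromBlocks_one])
    rw [Matrix.det_mul, h, zero_mul, Matrix.det_one] at h1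
    exact zero_ne_one h1
  · refine exists_of_matrix (Module.finBasis k V) 1 ?_
    rw [Matrix.transpose_one, show (1 : Matrix (Fin (Module.finrank k V)) (Fin (Module.finrank k V)) k) + 1 = (2 : k) • 1 by rw [two_smul],
      Matrix.det_smul, Matrix.det_one, mul_one]
    exact pow_ne_zero _ (Ring.two_ne_zero h2)

end Groth.Agent.S14479
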