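import Groth.Statements.S14480
import Groth.Agent.HensPair.FieldDim

set_option autoImplicit false
universe u
open CategoryTheory AlgebraicGeometry
open CharCyc

namespace Groth.Agent.S14480

/-- Let k be a field, let π : C → X be a morphism between k-schemes of finite type, and let n be a
natural number. For j ≥ 0 let B_j ⊆ X be the set of points x whose fibre π⁻¹(x) has dimension at
least j (so B_0 is the image of π). Then dim C ≤ n if and only if, for every j, the closure of B_j
in X has dimension at most n − j. Dimensions are topological Krull dimensions with the empty space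
of dimension ⊥, and the inequality is written additively as dim cl(B_j) + j ≤ n. -/
theorem result (k : Type u) [Field k] (C X : Scheme.{u})
    (q : X ⟶ Spec (CommRingCat.of k)) (π : C ⟶ X)
    [LocallyOfFiniteType q] [CompactSpace X] [LocallyOfFiniteType π] [CompactSpace C] (n : ℕ) :
    topologicalKrullDim C ≤ n ↔
      ∀ j : ℕ, topologicalKrullDim (closure {x : X | (j : WithBot ℕ∞) ≤ topologicalKrullDim (π.fiber x)}) +
        (j : WithBot ℕ∞) ≤ n := by
  open Groth.Agent.HensPair in
  haveI : IsLocallyNoetherian X := LocallyOfFiniteType.isLocallyNoetherian q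
  haveI : IsLocallyNoetherian C := LocallyOfFiniteType.isLocallyNoetherian (π ≫ q)
  haveI : AlgebraicGeometry.IsNoetherian C := {}
  constructor
  · intro h j
    let A : Set C := {a | (j : WithBot ℕ∞) ≤ FlatMor.fibreDimAt π a}
    let B : Set X := {x : X | (j : WithBot ℕ∞) ≤ topologicalKrullDim (π.fiber x)}
    have hBA : B ⊆ π.base '' A := fun x hx => by
      obtain ⟨s, hs⟩ := Order.le_krullDim_iff.mp hx
      obtain ⟨c, hc, hle⟩ := Groth.Agent.Equidim.exists_le_fibreDimAt π s
      exact ⟨c, by show (j : WithBot ℕ∞) ≤ _; rw [← hs]; exact hle, hc⟩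
    have hA : IsClosed A := by
      refine isOpen_compl_iff.mp (isOpen_iff_forall_mem_open.mpr fun x hx => ?_)
      exact ⟨{z | FlatMor.fibreDimAt π z ≤ FlatMor.fibreDimAt π x}, fun z hz hz' => hx (show (j : WithBot ℕ∞) ≤ FlatMor.fibreDimAt π x from le_trans (show (j : WithBot ℕ∞) ≤ FlatMor.fibreDimAt π z from hz') hz),
        Groth.Agent.Equidim.isOpen_fibreDimAt_le π _, le_refl (FlatMor.fibreDimAt π x)⟩
    haveI : TopologicalSpace.NoetherianSpace ↥A := Topology.IsInducing.noetherianSpace Topology.IsInducing.subtypeVal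
    haveI : QuasiSober ↥A := hA.isClosedEmbedding_subtypeVal.quasiSober
    have hfin := TopologicalSpace.NoetherianSpace.finite_irreducibleComponents (α := ↥A)
    have hcover : ∀ η ∈ closure B, ∃ ζ : C, ζ ∈ A ∧ π.base ζ ⤳ η ∧ π.base ζ ∈ closure B ∨ (ζ ∈ A ∧ π.base ζ ⤳ η) := by
      intro η hη
      have hsub : closure B ⊆ ⋃ Z ∈ irreducibleComponents ↥A, closure (π.base '' (Subtype.val '' Z)) := by
        refine closure_minimal (fun x hx => ?_) (hfin.isClosed_biUnion fun _ _ => isClosed_closure)
        obtain ⟨a, ha, rfl⟩ := hBA hx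
        exact Set.mem_iUnion₂.mpr ⟨_, irreducibleComponent_mem_irreducibleComponents (⟨a, ha⟩ : ↥A),
          subset_closure ⟨a, ⟨_, mem_irreducibleComponent, rfl⟩, rfl⟩⟩
      obtain ⟨Z, hZ, hηZ⟩ := Set.mem_iUnion₂.mp (hsub hη)
      let z := hZ.1.genericPoint
      refine ⟨z.1, Or.inr ⟨z.2, specializes_iff_mem_closure.mpr ?_⟩⟩
      have hc : closure ({z} : Set ↥A) = Z := by
        rw [hZ.1.genericPoint_closure_eq, (isClosed_of_mem_irreducibleComponents Z hZ).closure_eq]
      refine closure_minimal ?_ isClosed_closure hηZ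
      rintro _ ⟨_, ⟨w, hw, rfl⟩, rfl⟩
      exact (((specializes_iff_mem_closure.mpr (hc.ge hw)).map continuous_subtype_val).map π.continuous).mem_closure
    have hbound : ∀ η : X, η ∈ closure B → FibreTrdeg.T q η + j ≤ n := by
      intro η hη
      obtain ⟨ζ, h1⟩ := hcover η hη
      obtain ⟨hζA, hζη⟩ : ζ ∈ A ∧ π.base ζ ⤳ η := by
        rcases h1 with ⟨a, b, -⟩ | h1
        exacts [⟨a, b⟩, h1]
      obtain ⟨g, -, hgmax, hdim⟩ := FibreTrdeg.exists_maximal_dim π ζ
      let a := π.fiberι (π ζ) g
      have hπa : π a = π ζ := (π.range_fiberι (π ζ)).subset ⟨g, rfl⟩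
      have hTa : ((j : ℕ) : WithBot ℕ∞) ≤ (FibreTrdeg.T π a : ℕ) := by
        rw [← FibreTrdeg.fibreDimAt_eq_T_of_maximal π a fun z hz hcl =>
          FibreComp.maximal_image π (π ζ) g hgmax z (hz.trans hπa) hcl]
        exact le_trans hζA hdim
      have hmono : ((FibreTrdeg.T q η : ℕ) : WithBot ℕ∞) ≤ (FibreTrdeg.T q (π ζ) : ℕ) := by
        rw [← FieldDim.dim_closure q η, ← FieldDim.dim_closure q (π ζ)]
        exact Groth.Agent.Equidim.dim_le_of_range (φ := fun w : ↥(closure ({η} : Set X)) => w.1)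
          Topology.IsInducing.subtypeVal Topology.IsEmbedding.subtypeVal fun w =>
          ⟨⟨w.1, (hζη.trans (specializes_iff_mem_closure.mpr w.2)).mem_closure⟩, rfl⟩
      have h3 := (DimMore.T_le_dim (π ≫ q) a).trans h
      rw [JacobsonDim.T_add π q a, hπa] at h3
      have h4 : FibreTrdeg.T q (π ζ) + FibreTrdeg.T π a ≤ n := by exact_mod_cast h3
      have h5 : j ≤ FibreTrdeg.T π a := by exact_mod_cast hTa
      have h6 : FibreTrdeg.T q η ≤ FibreTrdeg.T q (π ζ) := by exact_mod_cast hmono
      omega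
    show topologicalKrullDim ↥(closure B) + (j : WithBot ℕ∞) ≤ n
    haveI : QuasiSober ↥(closure B) := isClosed_closure.isClosedEmbedding_subtypeVal.quasiSober
    rcases (closure B).eq_empty_or_nonempty with he | ⟨η₀, hη₀⟩
    · haveI : IsEmpty ↥(closure B) := Set.isEmpty_coe_sort.mpr he
      have hbot : topologicalKrullDim ↥(closure B) = ⊥ := Order.krullDim_eq_bot_iff.mpr ⟨fun W => by
        obtain ⟨w, -⟩ := W.isIrreducible.nonempty
        exact isEmptyElim w⟩
      rw [hbot, WithBot.bot_add]; exact bot_le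
    have hj : j ≤ n := le_trans (Nat.le_add_left _ _) (hbound η₀ hη₀)
    refine le_trans (add_le_add (Groth.Agent.Equidim.dim_le_of_components (c := ((n - j : ℕ) : WithBot ℕ∞)) fun W hW => ?_) le_rfl) ?_
    · let w := hW.1.genericPoint
      have hc : closure ({w} : Set ↥(closure B)) = W := by
        rw [hW.1.genericPoint_closure_eq, (isClosed_of_mem_irreducibleComponents W hW).closure_eq]
      refine le_trans (Groth.Agent.Equidim.dim_le_of_range (φ := fun v : ↥W => (v.1.1 : X))
        (Topology.IsInducing.subtypeVal.comp Topology.IsInducing.subtypeVal) Topology.IsEmbedding.subtypeVal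
        (T := ↥(closure ({w.1} : Set X))) fun v =>
        ⟨⟨v.1.1, ((specializes_iff_mem_closure.mpr (hc.ge v.2)).map continuous_subtype_val).mem_closure⟩, rfl⟩) ?_
      rw [FieldDim.dim_closure q]
      have := hbound w.1 w.2
      exact_mod_cast (by omega : FibreTrdeg.T q w.1 ≤ n - j)
    · exact_mod_cast (by omega : n - j + j ≤ n)
  · intro h
    refine FieldDim.dim_le_of_maximal (π ≫ q) _ fun ξ _ => ?_
    rw [JacobsonDim.T_add π q ξ]
    have hmem : π ξ ∈ {x : X | ((FibreTrdeg.T π ξ : ℕ) : WithBot ℕ∞) ≤ topologicalKrullDim (π.fiber x)} :=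
      (FibreTrdeg.T_le_fibreDimAt π ξ).trans (Groth.Agent.Equidim.fibreDimAt_le_dim π ξ)
    refine le_trans ?_ (h (FibreTrdeg.T π ξ))
    push_cast
    refine add_le_add ?_ le_rfl
    rw [← FieldDim.dim_closure q (π ξ)]
    exact Groth.Agent.Equidim.dim_le_of_range (φ := fun v : ↥(closure ({π ξ} : Set X)) => (v.1 : X))
      Topology.IsInducing.subtypeVal Topology.IsEmbedding.subtypeVal fun v =>
      ⟨⟨v.1, closure_mono (Set.singleton_subset_iff.mpr hmem) v.2⟩, rfl⟩

end Groth.Agent.S14480
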