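import Groth.Statements.S14491
import Mathlib.Algebra.Homology.DerivedCategory.TStructure

set_option autoImplicit false
universe w v u
open DerTri

namespace Groth.Agent.S14491

open CategoryTheory Pretriangulated in
/-- In the derived category D(C) of an abelian category C, let E ⟶ F ⟶ G be two morphisms with E
concentrated in non-positive degrees and G concentrated in non-negative degrees for the canonical
t-structure. If two morphisms G ⟶ E⟦1⟧ both complete E ⟶ F ⟶ G to a distinguished triangle, then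
they are equal. (The published statement is phrased with the morphism G⟦-1⟧ ⟶ E of the triangle
G⟦-1⟧ ⟶ E ⟶ F ⟶ G; this row uses the equivalent connecting morphism G ⟶ E⟦1⟧ of the rotated
triangle.) -/
theorem result {C : Type u} [Category.{v} C] [Abelian C]
    [HasDerivedCategory.{w} C] {E F G : DerivedCategory C} (u : E ⟶ F) (v : F ⟶ G)
    [E.IsLE 0] [G.IsGE 0] (w w' : G ⟶ E⟦(1 : ℤ)⟧)
    (hw : Triangle.mk u v w ∈ distTriang (DerivedCategory C))
    (hw' : Triangle.mk u v w' ∈ distTriang (DerivedCategory C)) :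
    w = w' := by
  obtain ⟨c, hc₁, hc₂⟩ : ∃ c : G ⟶ G, v ≫ c = v ∧ w = c ≫ w' := by
    obtain ⟨c, h₁, h₂⟩ := complete_distinguished_triangle_morphism _ _ hw hw' (𝟙 E) (𝟙 F)
      ((Category.comp_id u).trans (Category.id_comp u).symm)
    exact ⟨c, h₁.trans (Category.id_comp v),
      ((congrArg (w ≫ ·) ((shiftFunctor _ (1 : ℤ)).map_id E)).trans (Category.comp_id w)).symm.trans h₂⟩
  obtain ⟨d, hd⟩ := Triangle.yoneda_exact₃ _ hw (c - 𝟙 G) (by
    show v ≫ (c - 𝟙 G) = 0
    rw [Preadditive.comp_sub, hc₁, Category.comp_id, sub_self])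
  haveI : DerivedCategory.TStructure.t.IsLE (E⟦(1 : ℤ)⟧) (-1) :=
    DerivedCategory.TStructure.t.isLE_shift E 0 1 (-1) (by norm_num)
  have hd0 : d = 0 := DerivedCategory.TStructure.t.zero (X := E⟦(1 : ℤ)⟧) (Y := G) d (-1) 0 (by norm_num)
  have : c = 𝟙 G := sub_eq_zero.1 (hd.trans ((congrArg (_ ≫ ·) hd0).trans Limits.comp_zero))
  rw [hc₂, this]
  exact Category.id_comp _

end Groth.Agent.S14491
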