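import Groth.Statements.S14496
import Groth.Agent.IndCof.Basic
import Groth.Agent.IndCof.Divisible

set_option autoImplicit false
universe v
open IndCof

namespace Groth.Agent.S14496

open Groth.Agent.IndCof.Basic Groth.Agent.IndCof.Divisible

open CategoryTheory CategoryTheory.Limits in
/-- Let C be a small abelian category all of whose objects are Artinian and killed by some power of a
prime p, and A an ind-object of C of cofinite type. Let N be such that p^n A = p^N A for all n ≥ N,
so that the divisible part A_div = ⋂ p^n A equals p^N A. Then A_div is of cofinite type and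
divisible (multiplication by p on it is an epimorphism; integers prime to p act invertibly on every
ind-object here, so this is divisibility by all positive integers); it is the largest divisible
sub-object of A; and A / A_div is the largest quotient of A lying in C: every epimorphism from A
onto an object isomorphic to an object of C vanishes on A_div. (The row takes the stabilization
index N as a hypothesis instead of forming the intersection; that A / A_div itself lies in C is the
statement about A / p^N A and is not repeated here.) -/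
theorem result {C : Type v} [SmallCategory C] [Abelian C]
    (hart : ∀ X : C, IsArtinianObject X) (p : ℕ) (hp : p.Prime)
    (htor : ∀ X : C, ∃ n : ℕ, (p ^ n) • 𝟙 X = 0)
    (A : Ind C) (hA : ∀ n : ℕ, (Ind.yoneda (C := C)).essImage (kernel ((p ^ n) • 𝟙 A))) (N : ℕ)
    (hN : ∀ n : ℕ, N ≤ n → imageSubobject ((p ^ n) • 𝟙 A) = imageSubobject ((p ^ N) • 𝟙 A)) :
    (∀ n : ℕ, (Ind.yoneda (C := C)).essImage
        (kernel ((p ^ n) • 𝟙 ((imageSubobject ((p ^ N) • 𝟙 A) : Subobject A) : Ind C)))) ∧
      Epi (p • 𝟙 ((imageSubobject ((p ^ N) • 𝟙 A) : Subobject A) : Ind C)) ∧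
      (∀ D : Subobject A, Epi (p • 𝟙 (D : Ind C)) → D ≤ imageSubobject ((p ^ N) • 𝟙 A)) ∧
      (∀ (Q : Ind C) (q : A ⟶ Q), Epi q → (Ind.yoneda (C := C)).essImage Q →
        (imageSubobject ((p ^ N) • 𝟙 A)).arrow ≫ q = 0) := by
  have ht : ∀ X : C, ∃ m : ℕ, 0 < m ∧ m • 𝟙 X = 0 := fun X =>
    let ⟨k, hk⟩ := htor X
    ⟨p ^ k, pow_pos hp.pos k, hk⟩
  have hA' := cofinite_of_pow p hp htor A hA
  refine ⟨fun n => ?_, ?_, fun D hD => ?_, fun Q q _ hQ => ?_⟩
  · let g := p ^ N • 𝟙 A
    have hK : ∀ j : ℕ, 0 < j → InC (kernel (j • 𝟙 (kernel g))) := fun j _ =>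
      inC_kernel (hA N) (hA N) _
    have h1 := cokernel_cofinite hart ht hK hA' (kernel.ι g) (p ^ n) (pow_pos hp.pos n)
    let e : cokernel (kernel.ι g) ≅ (imageSubobject g : Ind C) :=
      Abelian.coimageIsoImage' g ≪≫ (imageSubobjectIso g).symm
    refine h1.of_iso (kernel.mapIso _ _ e e ?_)
    simp [Preadditive.comp_nsmul, Preadditive.nsmul_comp]
  · have h : imageSubobject ((p ^ N * p) • 𝟙 A) = imageSubobject (p ^ N • 𝟙 A) := by
      rw [← pow_succ]; exact hN (N + 1) (by omega)
    exact epi_smul_imageSubobject _ p h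
  · haveI : Epi ((p ^ N) • 𝟙 (D : Ind C)) := by
      have : ∀ j : ℕ, Epi ((p ^ j) • 𝟙 (D : Ind C)) := by
        intro j
        induction j with
        | zero => rw [pow_zero, one_smul]; infer_instance
        | succ j ih =>
          rw [show (p ^ (j + 1)) • 𝟙 (D : Ind C) = ((p ^ j) • 𝟙 (D : Ind C)) ≫ (p • 𝟙 (D : Ind C)) by
            simp [Preadditive.comp_nsmul, ← mul_smul, pow_succ, mul_comm]]
          infer_instance
      exact this N
    exact le_imageSubobject_of_epi_smul D _
  · obtain ⟨T, ⟨e⟩⟩ := hQ
    obtain ⟨k, hk⟩ := htor T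
    have h1 : (p ^ k) • q = 0 := hom_zero_of_test _ fun T' x => by
      have := smul_hom_eq_zero hk e.hom
      have h2 : (p ^ k) • q = q ≫ e.inv ≫ ((p ^ k) • e.hom) := by
        simp [Preadditive.comp_nsmul]
      rw [h2, this]; simp
    have h2 := hN (max N k) (le_max_left _ _)
    haveI : IsIso (Subobject.ofLE _ _ h2.le) := ⟨⟨Subobject.ofLE _ _ h2.ge, by simp, by simp⟩⟩
    rw [← cancel_epi (factorThruImageSubobject ((p ^ max N k) • 𝟙 A) ≫ Subobject.ofLE _ _ h2.le),
      comp_zero, Category.assoc, ← Category.assoc (Subobject.ofLE _ _ h2.le), Subobject.ofLE_arrow,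
      ← Category.assoc, imageSubobject_arrow_comp, Preadditive.nsmul_comp, Category.id_comp]
    exact smul_eq_zero_of_dvd h1 (pow_dvd_pow p (le_max_right N k))

end Groth.Agent.S14496
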