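import Groth.Statements.S14497
import Groth.Agent.IndCof.Divisible

set_option autoImplicit false
universe v u
open IndCof

namespace Groth.Agent.S14497

open Groth.Agent.IndCof.Divisible

open CategoryTheory CategoryTheory.Limits in
/-- Let B be an object of an abelian category and consider the inverse system, indexed by the positive
integers ordered by divisibility, with every term equal to B and transition map from the m-th to the
n-th term (n ∣ m) given by multiplication by m/n. This system is Mittag-Leffler, i.e. for every n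
the images in the n-th term of the transition maps are eventually constant, if and only if B has a
divisible sub-object B' (multiplication by every positive integer is an epimorphism of B') with B/B'
killed by some positive integer. Moreover such a B' is the largest divisible sub-object of B. -/
theorem result
    {V : Type u} [Category.{v} V] [Abelian V] (B : V) :
    ((∀ n : ℕ, 0 < n → ∃ m : ℕ, 0 < m ∧ n ∣ m ∧ ∀ m' : ℕ, 0 < m' → m ∣ m' →
        imageSubobject ((m' / n) • 𝟙 B) = imageSubobject ((m / n) • 𝟙 B)) ↔
      ∃ B' : Subobject B, (∀ k : ℕ, 0 < k → Epi (k • 𝟙 (B' : V))) ∧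
        ∃ M : ℕ, 0 < M ∧ M • 𝟙 (cokernel B'.arrow) = 0) ∧
    (∀ B' : Subobject B, (∀ k : ℕ, 0 < k → Epi (k • 𝟙 (B' : V))) →
      (∃ M : ℕ, 0 < M ∧ M • 𝟙 (cokernel B'.arrow) = 0) →
      ∀ D : Subobject B, (∀ k : ℕ, 0 < k → Epi (k • 𝟙 (D : V))) → D ≤ B') := by
  refine ⟨⟨fun h => ?_, ?_⟩, ?_⟩
  · obtain ⟨m, hm, -, hst⟩ := h 1 one_pos
    refine ⟨imageSubobject (m • 𝟙 B), fun k hk => epi_smul_imageSubobject m k ?_,
      m, hm, smul_cokernel_image m⟩
    simpa using hst (m * k) (Nat.mul_pos hm hk) (dvd_mul_right m k)
  · rintro ⟨B', hdiv, M, hM, hkill⟩ n hn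
    refine ⟨n * M, Nat.mul_pos hn hM, dvd_mul_right n M, fun m' hm' hdvd => ?_⟩
    obtain ⟨c, rfl⟩ := hdvd
    have hMc : 0 < M * c := by
      rcases Nat.eq_zero_or_pos c with rfl | hc
      · simp at hm'
      · exact Nat.mul_pos hM hc
    rw [mul_assoc, Nat.mul_div_cancel_left _ hn, Nat.mul_div_cancel_left _ hn]
    have key : ∀ j : ℕ, 0 < j → j • 𝟙 (cokernel B'.arrow) = 0 → imageSubobject (j • 𝟙 B) = B' :=
      fun j hj hj0 =>
        haveI := hdiv j hj
        le_antisymm (imageSubobject_smul_le B' j hj0) (le_imageSubobject_of_epi_smul B' j)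
    rw [key M hM hkill, key (M * c) hMc (by rw [mul_comm, mul_smul, hkill, smul_zero])]
  · rintro B' - ⟨M, hM, hkill⟩ D hD
    haveI := hD M hM
    exact (le_imageSubobject_of_epi_smul D M).trans (imageSubobject_smul_le B' M hkill)

end Groth.Agent.S14497
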