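import Groth.Statements.S14506
import Mathlib

set_option autoImplicit false
open IntTh

namespace Groth.Agent.S14506

/-- A formal power series f(t) ∈ ℚ⟦t⟧ satisfies, for every n ≥ 0, that the coefficient of t^n in
f(t)^(n+1) is 1, if and only if f(t)·(e^t − 1) = t·e^t, that is f(t) = t/(1 − e^(−t)) = 1 + t/2 +
t²/12 − ⋯. (The published statement is the existence and uniqueness of the Todd class of vector
bundles normalised by multiplicativity, td(O) = 1 and the Riemann–Roch identity for the structure
sheaf of every projective space; this row is the power-series fact its proof establishes: the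
normalisation forces exactly these coefficient conditions on the one-variable series.) -/
theorem result (f : PowerSeries ℚ) :
    (∀ n : ℕ, PowerSeries.coeff n (f ^ (n + 1)) = 1) ↔
      f * (PowerSeries.exp ℚ - 1) = PowerSeries.X * PowerSeries.exp ℚ := by
  classical
  let E : PowerSeries ℚ := PowerSeries.exp ℚ
  let u : PowerSeries ℚ := PowerSeries.mk fun m => ((Nat.factorial (m + 1) : ℕ) : ℚ)⁻¹
  have hu : PowerSeries.X * u = E - 1 := by
    ext m
    cases m with
    | zero => simp [E]
    | succ m => simp [E, u, PowerSeries.coeff_succ_X_mul, PowerSeries.coeff_exp, PowerSeries.coeff_one]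
  have hu0 : PowerSeries.constantCoeff u ≠ 0 := by simp [u, ← PowerSeries.coeff_zero_eq_constantCoeff_apply]
  have hE1 : E - 1 ≠ 0 := by
    rw [← hu]
    exact mul_ne_zero PowerSeries.X_ne_zero fun h => hu0 (by rw [h, map_zero])
  let g : PowerSeries ℚ := E * u⁻¹
  have hg : g * (E - 1) = PowerSeries.X * E := by
    rw [← hu, show g * (PowerSeries.X * u) = PowerSeries.X * E * (u⁻¹ * u) by simp only [g]; ring,
      PowerSeries.inv_mul_cancel u hu0, mul_one]
  have hall : ∀ f' : PowerSeries ℚ, f' * (E - 1) = PowerSeries.X * E → ∀ n : ℕ, PowerSeries.coeff n (f' ^ (n + 1)) = 1 := by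
    intro f' hf'
    let D := PowerSeries.derivative ℚ
    have hDE : D (E - 1) = E := by rw [map_sub]; simp [D, E, PowerSeries.derivative_exp]
    have hode : PowerSeries.X * D f' = f' + PowerSeries.X * f' - f' ^ 2 := by
      refine mul_right_cancel₀ hE1 ?_
      have h1 := congrArg D hf'
      rw [Derivation.leibniz, hDE, Derivation.leibniz, show D PowerSeries.X = 1 from PowerSeries.derivative_X,
        show D E = E from PowerSeries.derivative_exp ℚ] at h1
      simp only [smul_eq_mul] at h1
      linear_combination PowerSeries.X * h1 + (f' - PowerSeries.X - 1) * hf'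
    intro n
    induction n with
    | zero =>
      have h0 := congrArg (PowerSeries.coeff 1) hf'
      have he : f' * (E - 1) = PowerSeries.X * (f' * u) := by rw [← hu]; ring
      rw [he, PowerSeries.coeff_succ_X_mul, PowerSeries.coeff_succ_X_mul, PowerSeries.coeff_zero_eq_constantCoeff_apply, PowerSeries.coeff_zero_eq_constantCoeff_apply, map_mul] at h0
      have u1 : PowerSeries.constantCoeff u = 1 := by
        rw [← PowerSeries.coeff_zero_eq_constantCoeff_apply]; simp only [u, PowerSeries.coeff_mk]; norm_num
      rw [u1, mul_one, show PowerSeries.constantCoeff E = 1 from PowerSeries.constantCoeff_exp] at h0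
      simpa using h0
    | succ n ih =>
      have h2 : PowerSeries.X * D (f' ^ (n + 1)) =
          ((n + 1 : ℕ) : PowerSeries ℚ) * (f' ^ (n + 1) + PowerSeries.X * f' ^ (n + 1) - f' ^ (n + 2)) := by
        rw [Derivation.leibniz_pow, Nat.add_sub_cancel, smul_eq_mul, nsmul_eq_mul,
          show PowerSeries.X * (((n + 1 : ℕ) : PowerSeries ℚ) * (f' ^ n * D f')) = ((n + 1 : ℕ) : PowerSeries ℚ) * f' ^ n * (PowerSeries.X * D f') by ring,
          hode]
        ring
      have h3 := congrArg (PowerSeries.coeff (n + 1)) h2
      rw [← map_natCast (PowerSeries.C (R := ℚ)), PowerSeries.coeff_C_mul, map_sub, map_add,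
        PowerSeries.coeff_succ_X_mul, PowerSeries.coeff_succ_X_mul, PowerSeries.coeff_derivative, ih] at h3
      have hn : ((n + 1 : ℕ) : ℚ) ≠ 0 := Nat.cast_ne_zero.2 (Nat.succ_ne_zero n)
      push_cast at h3 hn
      exact mul_left_cancel₀ hn (by linear_combination h3)
  constructor
  · intro hf
    suffices h : f = g by rw [h]; exact hg
    ext n
    induction n using Nat.strong_induction_on with
    | _ n ih =>
      have hgn := hall g hg
      have hdiv : PowerSeries.X ^ n ∣ f - g := PowerSeries.X_pow_dvd_iff.2 fun m hm => by rw [map_sub, ih m hm, sub_self]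
      obtain ⟨w, hw⟩ := hdiv
      have h := congrArg (PowerSeries.coeff n) (geom_sum₂_mul f g (n + 1))
      rw [map_sub, hf, hgn, sub_self, hw, ← mul_assoc, mul_comm _ (PowerSeries.X ^ n), mul_assoc,
        show (PowerSeries.coeff n) (PowerSeries.X ^ n * ((∑ i ∈ Finset.range (n + 1), f ^ i * g ^ (n + 1 - 1 - i)) * w)) =
          PowerSeries.constantCoeff ((∑ i ∈ Finset.range (n + 1), f ^ i * g ^ (n + 1 - 1 - i)) * w) by
        simpa using PowerSeries.coeff_X_pow_mul ((∑ i ∈ Finset.range (n + 1), f ^ i * g ^ (n + 1 - 1 - i)) * w) n 0,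
        map_mul, map_sum] at h
      have f0 : PowerSeries.constantCoeff f = 1 := by simpa using hf 0
      have g0 : PowerSeries.constantCoeff g = 1 := by simpa using hgn 0
      simp [f0, g0] at h
      have hw0 : PowerSeries.constantCoeff w = 0 := h.resolve_left (by positivity)
      rw [← sub_eq_zero, ← map_sub, hw]
      simpa [hw0] using PowerSeries.coeff_X_pow_mul w n 0
  · exact hall f

end Groth.Agent.S14506
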