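import Groth.Statements.S14509
import Mathlib
import Groth.Agent.S14506

set_option autoImplicit false
open IntTh

namespace Groth.Agent.S14509

/-- Let f(t) ∈ ℚ⟦t⟧ be the Todd series, characterised by f(t)·(e^t − 1) = t·e^t, i.e. f(t) = t/(1 −
e^(−t)). Then for every m ∈ ℤ and n ∈ ℕ the coefficient of t^n in e^(mt)·f(t)^(n+1) is the binomial
coefficient C(m+n, n), understood as the polynomial (m+n)(m+n−1)⋯(m+1)/n! in m (so for all integers
m). (The published statement is the Hirzebruch–Riemann–Roch formula χ(E) = ∫ ch(E)·td for vector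
bundles on projective n-space; this row is the identity of formal power series to which its proof
reduces it for E = O(m): the degree-n part of ch(O(m))·td(P^n) = e^(mζ)(ζ/(1 − e^(−ζ)))^(n+1)
against χ(P^n, O(m)) = C(m+n, n).) -/
theorem result (f : PowerSeries ℚ)
    (hf : f * (PowerSeries.exp ℚ - 1) = PowerSeries.X * PowerSeries.exp ℚ) (m : ℤ) (n : ℕ) :
    PowerSeries.coeff n (PowerSeries.rescale (m : ℚ) (PowerSeries.exp ℚ) * f ^ (n + 1)) =
      ((Ring.choose (m + n : ℤ) n : ℤ) : ℚ) := by
  let E : PowerSeries ℚ := PowerSeries.exp ℚ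
  let D := PowerSeries.derivative ℚ
  have hE1 : E - 1 ≠ 0 := fun h => by
    have := congrArg (PowerSeries.coeff 1) h
    simp [E, PowerSeries.coeff_exp, PowerSeries.coeff_one] at this
  have hDE : D (E - 1) = E := by rw [map_sub]; simp [D, E, PowerSeries.derivative_exp]
  have hode : PowerSeries.X * D f = f + PowerSeries.X * f - f ^ 2 := by
    refine mul_right_cancel₀ hE1 ?_
    have h1 := congrArg D hf
    rw [Derivation.leibniz, hDE, Derivation.leibniz, show D PowerSeries.X = 1 from PowerSeries.derivative_X,
      show D E = E from PowerSeries.derivative_exp ℚ] at h1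
    simp only [smul_eq_mul] at h1
    linear_combination PowerSeries.X * h1 + (f - PowerSeries.X - 1) * hf
  have hf0 : PowerSeries.constantCoeff f = 1 := by
    simpa using (Groth.Agent.S14506.result f).2 hf 0
  let e : PowerSeries ℚ := PowerSeries.rescale (m : ℚ) E
  have hDe : D e = PowerSeries.C (m : ℚ) * e := by
    ext j
    rw [PowerSeries.coeff_C_mul, PowerSeries.coeff_derivative, PowerSeries.coeff_rescale, PowerSeries.coeff_rescale,
      show PowerSeries.coeff (j + 1) E = _ from PowerSeries.coeff_exp _, show PowerSeries.coeff j E = _ from PowerSeries.coeff_exp _]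
    simp only [Algebra.algebraMap_self, RingHom.id_apply, Nat.factorial_succ, Nat.cast_mul, Nat.cast_succ]
    field_simp
    ring
  have key : ∀ j : ℕ, (j.factorial : ℚ) * PowerSeries.coeff j (e * f ^ (j + 1)) =
      (((descPochhammer ℤ j).eval ((m : ℤ) + j) : ℤ) : ℚ) := by
    intro j
    induction j with
    | zero => simp [e, E, hf0]; rw [← PowerSeries.coeff_zero_eq_constantCoeff_apply, PowerSeries.coeff_rescale]; simp
    | succ j ih =>
      have h2 : PowerSeries.X * D (e * f ^ (j + 1)) = PowerSeries.C (m : ℚ) * (PowerSeries.X * (e * f ^ (j + 1))) +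
          ((j + 1 : ℕ) : PowerSeries ℚ) * (e * f ^ (j + 1) + PowerSeries.X * (e * f ^ (j + 1)) - e * f ^ (j + 1 + 1)) := by
        rw [Derivation.leibniz, hDe, Derivation.leibniz_pow, Nat.add_sub_cancel]
        simp only [smul_eq_mul, nsmul_eq_mul]
        linear_combination e * ((j + 1 : ℕ) : PowerSeries ℚ) * f ^ j * hode
      have h3 := congrArg (PowerSeries.coeff (j + 1)) h2
      rw [← map_natCast (PowerSeries.C (R := ℚ))] at h3
      simp only [D, map_add, map_sub, PowerSeries.coeff_C_mul, PowerSeries.coeff_succ_X_mul, PowerSeries.coeff_derivative] at h3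
      rw [descPochhammer_succ_left, Polynomial.eval_mul, Polynomial.eval_X, Polynomial.eval_comp, Polynomial.eval_sub,
        Polynomial.eval_X, Polynomial.eval_one, show (m : ℤ) + ((j + 1 : ℕ) : ℤ) - 1 = m + j by push_cast; ring,
        Int.cast_mul, ← ih, Nat.factorial_succ]
      push_cast at h3 ⊢
      linear_combination (j.factorial : ℚ) * h3
  have h := key n
  have hd := Ring.descPochhammer_eq_factorial_smul_choose ((m : ℤ) + n) n
  rw [← Polynomial.eval_eq_smeval] at hd
  have hd' : (descPochhammer ℤ n).eval ((m : ℤ) + n) = (n.factorial : ℤ) * Ring.choose ((m : ℤ) + n) n := by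
    rw [← nsmul_eq_mul, ← hd]
  rw [hd'] at h
  push_cast at h
  exact mul_left_cancel₀ (Nat.cast_ne_zero.2 (Nat.factorial_ne_zero n)) h

end Groth.Agent.S14509
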