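import Groth.Statements.S14511
import Mathlib

set_option autoImplicit false
set_option linter.style.haveILetI false
universe u
open CAlgX

namespace Groth.Agent.S14511

/-- Let R be a commutative ring and P ∈ R[x_1, …, x_r] a polynomial of total degree at most r. Then the
coefficient of the monomial x_1 ⋯ x_r in P equals Σ_J (−1)^{|J|} P(δ_J), the sum over all subsets J
⊆ {1, …, r} (the empty one included), where δ_J is the point with coordinate −1 at the indices in J
and 0 at the others. -/
theorem result (R : Type u) [CommRing R] (r : ℕ)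
    (P : MvPolynomial (Fin r) R) (hP : P.totalDegree ≤ r) :
    MvPolynomial.coeff (∑ i : Fin r, Finsupp.single i 1) P =
      ∑ J : Finset (Fin r), (-1 : R) ^ J.card * MvPolynomial.eval (fun j => if j ∈ J then (-1 : R) else 0) P := by
  classical
  conv_rhs => arg 2; ext J; rw [MvPolynomial.eval_eq', Finset.mul_sum]
  rw [Finset.sum_comm]
  have hone : ∀ j, (∑ i : Fin r, Finsupp.single i (1 : ℕ)) j = 1 := fun j => by
    rw [Finsupp.finsetSum_apply]; simp [Finsupp.single_apply]
  have key : ∀ d ∈ P.support, (∑ J : Finset (Fin r), (-1 : R) ^ J.card * (P.coeff d * ∏ j, (if j ∈ J then (-1 : R) else 0) ^ d j))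
      = if d = ∑ i : Fin r, Finsupp.single i 1 then P.coeff d else 0 := by
    intro d hd
    have hdeg : ∑ j, d j ≤ r := by
      refine le_trans (le_of_eq ?_) (le_trans (MvPolynomial.le_totalDegree hd) hP)
      rw [Finsupp.sum_fintype]
      intro i; rfl
    have hprod : (∑ J : Finset (Fin r), (-1 : R) ^ J.card * ∏ j, (if j ∈ J then (-1 : R) else 0) ^ d j)
        = ∏ j : Fin r, (-(-1 : R) ^ d j + (0 : R) ^ d j) := by
      rw [Finset.prod_add, Finset.powerset_univ]
      refine Finset.sum_congr rfl fun J _ => ?_
      rw [Finset.prod_neg, ← Finset.prod_sdiff (Finset.subset_univ J), mul_assoc, mul_comm (∏ x ∈ J, (-1 : R) ^ d x)]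
      congr 2
      · exact Finset.prod_congr rfl fun x hx => by rw [if_neg (Finset.mem_sdiff.mp hx).2]
      · exact Finset.prod_congr rfl fun x hx => by rw [if_pos hx]
    simp only [mul_left_comm _ (P.coeff d)]
    rw [← Finset.mul_sum, hprod]
    split_ifs with h
    · rw [Finset.prod_eq_one, mul_one]
      intro j _
      rw [h, hone j]
      ring
    · obtain ⟨j, hj⟩ : ∃ j, d j = 0 := by
        by_contra hc
        push Not at hc
        apply h
        ext j
        rw [hone j]
        by_contra hj
        have : ∑ _j : Fin r, 1 < ∑ j, d j := Finset.sum_lt_sum (fun i _ => Nat.one_le_iff_ne_zero.mpr (hc i)) ⟨j, Finset.mem_univ _, by have := hc j; omega⟩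
        simp at this
        omega
      rw [Finset.prod_eq_zero (Finset.mem_univ j), mul_zero]
      rw [hj]
      ring
  rw [Finset.sum_congr rfl key, Finset.sum_ite_eq']
  split_ifs with h
  · rfl
  · exact MvPolynomial.notMem_support_iff.mp h

end Groth.Agent.S14511
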