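import Groth.Statements.S14519
import Groth.Agent.Misc9.BiratIsolated
import Groth.Agent.ModStalk.SmoothField
import Groth.Agent.WQ8.RegularUFD
-- import your own Groth.Agent.* helpers here

set_option autoImplicit false
set_option backward.isDefEq.respectTransparency false
universe u
open CategoryTheory CategoryTheory.Limits AlgebraicGeometry
open Curves

namespace Groth.Agent.S14519

/-- Let k be an algebraically closed field and f : X → Y a birational morphism over k between smooth
curves (X, Y integral, separated, of finite type and smooth over k, of dimension one; f sends the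
generic point of X to that of Y and the induced map of function fields K(Y) → K(X) is bijective).
Then f is an open immersion. -/
theorem result (k : Type u) [Field k] [IsAlgClosed k]
    (X Y : Scheme.{u}) [X.Over (Spec (CommRingCat.of k))] [Y.Over (Spec (CommRingCat.of k))]
    [IsIntegral X] [IsSeparated (X ↘ (Spec (CommRingCat.of k)))] [LocallyOfFiniteType (X ↘ (Spec (CommRingCat.of k)))] [QuasiCompact (X ↘ (Spec (CommRingCat.of k)))] [Smooth (X ↘ (Spec (CommRingCat.of k)))] (hdimX : topologicalKrullDim X = 1)
    [IsIntegral Y] [IsSeparated (Y ↘ (Spec (CommRingCat.of k)))] [LocallyOfFiniteType (Y ↘ (Spec (CommRingCat.of k)))] [QuasiCompact (Y ↘ (Spec (CommRingCat.of k)))] [Smooth (Y ↘ (Spec (CommRingCat.of k)))] (hdimY : topologicalKrullDim Y = 1)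
    (f : X ⟶ Y) (hf : f ≫ (Y ↘ (Spec (CommRingCat.of k))) = (X ↘ (Spec (CommRingCat.of k))))
    (e : f (genericPoint X) = genericPoint Y)
    (hbir : Function.Bijective (Y.presheaf.stalkSpecializes (specializes_of_eq e) ≫ f.stalkMap (genericPoint X)).hom) :
    IsOpenImmersion f := by
  let pY := Y ↘ (Spec (CommRingCat.of k))
  have hN : Pi1.IsNormalScheme Y := fun y => by
    haveI := ModStalk.isRegularLocalRing_stalk_of_smooth pY y
    obtain ⟨h1, h2⟩ := WQ8.ufd_of_regular (Y.presheaf.stalk y)
    exact ⟨h1, inferInstance⟩
  haveI : LocallyOfFiniteType (f ≫ pY) := by rw [hf]; infer_instance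
  haveI : LocallyOfFiniteType f := locallyOfFiniteType_of_comp f pY
  haveI : QuasiCompact (f ≫ pY) := by rw [hf]; infer_instance
  haveI : QuasiCompact f := QuasiCompact.of_comp f pY
  haveI : IsSeparated (f ≫ pY) := by rw [hf]; infer_instance
  haveI : IsSeparated f := IsSeparated.of_comp f pY
  haveI : JacobsonSpace Y := LocallyOfFiniteType.jacobsonSpace pY
  haveI : IsLocallyNoetherian X := LocallyOfFiniteType.isLocallyNoetherian (X ↘ (Spec (CommRingCat.of k)))
  haveI : CompactSpace X := QuasiCompact.compactSpace_of_compactSpace (X ↘ (Spec (CommRingCat.of k)))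
  haveI : IsNoetherian X := {}
  haveI : IsIso (Y.presheaf.stalkSpecializes (specializes_of_eq e)) :=
    (Y.presheaf.stalkCongr (Inseparable.of_eq e.symm)).isIso_hom
  haveI hb : IsIso (Y.presheaf.stalkSpecializes (specializes_of_eq e) ≫ f.stalkMap (genericPoint X)) := (ConcreteCategory.isIso_iff_bijective _).2 hbir
  have hb2 : IsIso (f.stalkMap (genericPoint X)) := IsIso.of_isIso_comp_left (Y.presheaf.stalkSpecializes (specializes_of_eq e)) _
  exact (Misc9.BiratIsolated.openImmersion hN f e hb2 (Misc9.BiratIsolated.finite_fibres f hdimX hdimY e)).1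

end Groth.Agent.S14519
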