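import Groth.Statements.S1452
import Groth.Agent.HensPoint.GeomUniScheme

set_option autoImplicit false
universe u
open FlatMor

namespace Groth.Agent.S1452

open AlgebraicGeometry CategoryTheory Limits in
/-- Let f : X → Y and g : Y → Z with Y integral and the local ring of Y at y = f x geometrically
unibranch; assume g ∘ f is étale on an open neighbourhood of x and some generization of x maps to
the generic point of Y. Then f is étale on an open neighbourhood of x and g is étale on an open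
neighbourhood of y. -/
theorem result {X Y Z : Scheme.{u}} (f : X ⟶ Y) (g : Y ⟶ Z) [IsIntegral Y] (x : X)
    (hY : CAlg2.IsGeomUnibranch (Y.presheaf.stalk (f x))) (het : ∃ U : X.Opens, x ∈ U ∧ Etale (U.ι ≫ f ≫ g))
    (hsp : ∃ x' : X, x' ⤳ x ∧ f x' = genericPoint ↑Y) :
    (∃ U : X.Opens, x ∈ U ∧ Etale (U.ι ≫ f)) ∧ ∃ V : Y.Opens, f x ∈ V ∧ Etale (V.ι ≫ g) := by
  obtain ⟨W, hxW, hW⟩ := het
  have h1 : LocallyOfFiniteType (W.ι ≫ f) := by
    have : LocallyOfFiniteType ((W.ι ≫ f) ≫ g) := by rw [Category.assoc]; infer_instance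
    exact locallyOfFiniteType_of_comp (W.ι ≫ f) g
  have h2 : FormallyUnramified (W.ι ≫ f) := by
    have : FormallyUnramified ((W.ι ≫ f) ≫ g) := by rw [Category.assoc]; infer_instance
    exact FormallyUnramified.of_comp (W.ι ≫ f) g
  obtain ⟨x', hx', hfx'⟩ := hsp
  have hx'W : x' ∈ W := hx'.mem_open W.2 hxW
  have hu := FormallyUnramified.stalkMap (W.ι ≫ f) ⟨x, hxW⟩
  obtain ⟨U, hxU, hU⟩ := Groth.Agent.HensPoint.GeomUniScheme.exists_etale_nhd (W.ι ≫ f) ⟨x, hxW⟩ hY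
    ⟨⟨x', hx'W⟩, W.ι.isOpenEmbedding.isInducing.specializes_iff.mp hx', hfx'⟩ hu
  let U' : X.Opens := W.ι ''ᵁ U
  have hU' : Etale (U'.ι ≫ f) := by
    have e : U'.ι ≫ f = (W.ι.isoImage U).inv ≫ U.ι ≫ W.ι ≫ f := by
      rw [← Scheme.Hom.isoImage_inv_ι_assoc]
    rw [e]
    infer_instance
  have hU'W : U' ≤ W := fun z ⟨w, _, hw⟩ => hw ▸ w.2
  refine ⟨⟨U', ⟨⟨x, hxW⟩, hxU, rfl⟩, hU'⟩, ?_⟩
  have hopen := (U'.ι ≫ f).isOpenMap
  let V : Y.Opens := ⟨Set.range (U'.ι ≫ f), hopen.isOpen_range⟩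
  refine ⟨V, ⟨⟨x, ⟨⟨x, hxW⟩, hxU, rfl⟩⟩, rfl⟩, ?_⟩
  let e : (U' : Scheme) ⟶ V := IsOpenImmersion.lift V.ι (U'.ι ≫ f) (by
    rw [Scheme.Opens.range_ι]; exact le_refl _)
  have he : e ≫ V.ι = U'.ι ≫ f := IsOpenImmersion.lift_fac _ _ _
  have : Etale (e ≫ V.ι) := he ▸ hU'
  have hes : Etale e := Etale.of_comp e V.ι
  have hsurj : Surjective e := ⟨fun v => by
    obtain ⟨u, hu⟩ := v.2
    exact ⟨u, Subtype.ext (by rw [← hu, ← he]; rfl)⟩⟩
  refine AlgSpTopo.etaleLocal_etale.descend e (V.ι ≫ g) hes hsurj ?_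
  rw [← Category.assoc, he, Category.assoc]
  rw [← X.homOfLE_ι hU'W, Category.assoc]
  infer_instance

end Groth.Agent.S1452
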