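import Groth.Statements.S14577
import Groth.Agent.HopfRep.Rigidity

set_option autoImplicit false
universe u
open CategoryTheory MonoidalCategory CartesianMonoidalCategory MonObj GrpObj AlgebraicGeometry CategoryTheory.Limits
open AlgGrp

namespace Groth.Agent.S14577

/-- Let k be a field, X a quasi-compact separated k-scheme with O(X) = k, Y a separated, reduced and
irreducible locally Noetherian k-scheme, Z a separated k-scheme, and x₀, y₀ rational points of X, Y.
If a k-morphism f : X × Y → Z satisfies f(x, y₀) = f(x₀, y₀) identically (as morphisms from X), then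
f(x, y) = f(x₀, y) identically on X × Y. (The published statement does not ask Y to be reduced; the
final density step of its proof uses that the infinitesimal neighbourhoods of y₀ are schematically
dense in Y, which holds when Y is moreover reduced, so Y is taken reduced, hence integral, here.) -/
theorem result (k : Type u) [Field k]
    (X Y Z : Over (Spec (CommRingCat.of k))) [QuasiCompact X.hom] [IsSeparated X.hom]
    (hX : Function.Bijective ((Scheme.ΓSpecIso (CommRingCat.of k)).inv ≫ X.hom.appTop).hom)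
    [IsSeparated Y.hom] [IsLocallyNoetherian Y.left] [IrreducibleSpace ↥Y.left] [IsReduced Y.left] [IsSeparated Z.hom]
    (x₀ : 𝟙_ (Over (Spec (CommRingCat.of k))) ⟶ X) (y₀ : 𝟙_ (Over (Spec (CommRingCat.of k))) ⟶ Y) (f : X ⊗ Y ⟶ Z)
    (hf : (X ◁ y₀) ≫ f = toUnit _ ≫ lift x₀ y₀ ≫ f) :
    f = snd X Y ≫ lift (toUnit Y ≫ x₀) (𝟙 Y) ≫ f := by
  let z₀ := (CartesianMonoidalCategory.lift x₀ y₀ ≫ f).left (IsLocalRing.closedPoint k)
  obtain ⟨_, ⟨W, hW, rfl⟩, hzW, -⟩ := Z.left.isBasis_affineOpens.exists_subset_of_mem_open (Set.mem_univ z₀) isOpen_univ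
  have : QuasiSeparated X.hom := inferInstance
  let yp := y₀.left (IsLocalRing.closedPoint k)
  have : Subsingleton ↥(Spec (CommRingCat.of k)) := inferInstanceAs (Subsingleton (PrimeSpectrum k))
  have hfib : ∀ z, (CartesianMonoidalCategory.snd X Y).left z = yp → f.left z = z₀ := by
    intro z hz
    obtain ⟨w, hw, -⟩ := Scheme.exists_preimage_of_isPullback
      (HopfRep.Torsor.isPullback_left (HopfRep.Orbit.isPullback_whiskerLeft (T := X) y₀)) z
      (IsLocalRing.closedPoint k) hz
    rw [← hw, ← HopfRep.GrpTop.left_comp_apply, hf, HopfRep.GrpTop.left_comp_apply]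
    exact congrArg _ (Subsingleton.elim (α := ↥(Spec (CommRingCat.of k))) _ _)
  refine HopfRep.Rigidity.eq_of_integral hX x₀ yp W hW _ _ (fun z hz => ?_) (fun z hz => ?_) (by simp [comp_lift_assoc])
  · rw [hfib z hz]; exact hzW
  · rw [HopfRep.GrpTop.left_comp_apply, hz]
    have e : y₀ ≫ CartesianMonoidalCategory.lift (toUnit Y ≫ x₀) (𝟙 Y) ≫ f = CartesianMonoidalCategory.lift x₀ y₀ ≫ f := by
      rw [comp_lift_assoc, Category.comp_id, comp_toUnit_assoc, toUnit_unique (toUnit _) (𝟙 _), Category.id_comp]
    show (y₀ ≫ CartesianMonoidalCategory.lift (toUnit Y ≫ x₀) (𝟙 Y) ≫ f).left (IsLocalRing.closedPoint k) ∈ W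
    rw [e]; exact hzW

end Groth.Agent.S14577
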