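import Groth.Statements.S1458
import Mathlib

set_option autoImplicit false
universe u
open FlatMor

namespace Groth.Agent.S1458

open TensorProduct in
set_option maxHeartbeats 1000000 in
/-- Let A → B be a finite ring map of finite presentation. Then there are a finitely presented A-algebra
A_u and an idempotent e_u of B ⊗_A A_u such that for every A-algebra A' and every idempotent e of B
⊗_A A' there is an A-algebra map A_u → A' whose induced map B ⊗ A_u → B ⊗ A' sends e_u to e. -/
theorem result {A B : Type u} [CommRing A] [CommRing B] [Algebra A B] [Module.Finite A B] [Algebra.FinitePresentation A B] :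
    ∃ (Au : Type u) (_ : CommRing Au) (_ : Algebra A Au) (eu : B ⊗[A] Au), Algebra.FinitePresentation A Au ∧ IsIdempotentElem eu ∧
      ∀ (A' : Type u) [CommRing A'] [Algebra A A'] (e : B ⊗[A] A'), IsIdempotentElem e →
        ∃ φ : Au →ₐ[A] A', Algebra.TensorProduct.map (AlgHom.id A B) φ eu = e := by
  haveI : Module.FinitePresentation A B :=
    Module.FinitePresentation.of_finite_of_finitePresentation A B
  obtain ⟨n, s, hs⟩ := Module.Finite.exists_fin (R := A) (M := B)
  let π : (Fin n → A) →ₗ[A] B := Fintype.linearCombination A s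
  have hπ : Function.Surjective π := by
    rw [← LinearMap.range_eq_top, Fintype.range_linearCombination]; exact hs
  obtain ⟨m, r, hr⟩ := Submodule.fg_iff_exists_fin_generating_family.mp
    (Module.FinitePresentation.fg_ker π hπ)
  choose c hc using fun ij : Fin n × Fin n => hπ (s ij.1 * s ij.2)
  let P := MvPolynomial (Fin n ⊕ Fin m) A
  let x : Fin n → P := fun i => MvPolynomial.X (Sum.inl i)
  let z : Fin m → P := fun l => MvPolynomial.X (Sum.inr l)
  let F : Fin n → P := fun k => (∑ ij : Fin n × Fin n, MvPolynomial.C (c ij k) * (x ij.1 * x ij.2))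
    - x k - ∑ l, MvPolynomial.C (r l k) * z l
  let I : Ideal P := Ideal.span (Set.range F)
  let q : P →ₐ[A] P ⧸ I := Ideal.Quotient.mkₐ A I
  let eu : B ⊗[A] (P ⧸ I) := ∑ i, s i ⊗ₜ q (x i)
  have key : ∀ (A' : Type u) [CommRing A'] [Algebra A A'] (v : Fin n → A') (w : Fin m → A'),
      (∀ k, ∑ ij : Fin n × Fin n, algebraMap A A' (c ij k) * (v ij.1 * v ij.2) - v k
        - ∑ l, algebraMap A A' (r l k) * w l = 0) →
      IsIdempotentElem (∑ i, s i ⊗ₜ[A] v i) := by
    intro A' _ _ v w h
    show (∑ i, s i ⊗ₜ[A] v i) * (∑ i, s i ⊗ₜ[A] v i) = _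
    rw [Finset.sum_mul_sum, ← Fintype.sum_prod_type']
    have e1 : ∀ k, v k = ∑ ij : Fin n × Fin n, algebraMap A A' (c ij k) * (v ij.1 * v ij.2)
        - ∑ l, algebraMap A A' (r l k) * w l := fun k => by linear_combination -(h k)
    conv_rhs => arg 2; ext k; rw [e1 k, TensorProduct.tmul_sub, TensorProduct.tmul_sum,
      TensorProduct.tmul_sum]
    rw [Finset.sum_sub_distrib]
    have e2 : ∑ k, ∑ l, s k ⊗ₜ[A] (algebraMap A A' (r l k) * w l) = 0 := by
      rw [Finset.sum_comm]
      refine Finset.sum_eq_zero fun l _ => ?_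
      simp_rw [← Algebra.smul_def, ← TensorProduct.smul_tmul]
      rw [← TensorProduct.sum_tmul]
      have hl : r l ∈ LinearMap.ker π := hr ▸ Submodule.subset_span ⟨l, rfl⟩
      rw [show ∑ k, r l k • s k = 0 from hl, TensorProduct.zero_tmul]
    rw [e2, sub_zero, Finset.sum_comm]
    refine Finset.sum_congr rfl fun ij _ => ?_
    simp_rw [← Algebra.smul_def, ← TensorProduct.smul_tmul]
    rw [← TensorProduct.sum_tmul, Algebra.TensorProduct.tmul_mul_tmul]
    rw [show ∑ k, c ij k • s k = s ij.1 * s ij.2 from hc ij]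
  haveI : Algebra.FinitePresentation A (P ⧸ I) :=
    Algebra.FinitePresentation.quotient (Submodule.fg_span (Set.finite_range F))
  refine ⟨P ⧸ I, inferInstance, inferInstance, eu, inferInstance, ?_, ?_⟩
  · refine key _ (fun i => q (x i)) (fun l => q (z l)) fun k => ?_
    have h0 : q (F k) = 0 := Ideal.Quotient.eq_zero_iff_mem.mpr (Ideal.subset_span ⟨k, rfl⟩)
    simp only [F, map_sub, map_sum, map_mul] at h0
    have hC : ∀ a, q (MvPolynomial.C a) = algebraMap A (P ⧸ I) a := fun a => q.commutes a
    simp only [hC] at h0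
    exact h0
  intro A' _ _ e he
  let e0 := TensorProduct.piScalarRight A A A' (Fin n)
  obtain ⟨t, ht⟩ := LinearMap.rTensor_surjective A' hπ e
  have hdec : ∀ t : (Fin n → A) ⊗[A] A', ∃ v : Fin n → A', π.rTensor A' t = ∑ i, s i ⊗ₜ[A] v i ∧
      t = ∑ i, Pi.single i 1 ⊗ₜ[A] v i := by
    intro t
    induction t using TensorProduct.induction_on with
    | zero => exact ⟨0, by simp, by simp⟩
    | tmul f a =>
      refine ⟨fun i => f i • a, ?_, ?_⟩
      · simp [π, Fintype.linearCombination_apply, TensorProduct.sum_tmul, TensorProduct.smul_tmul]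
      · simp_rw [← TensorProduct.smul_tmul, ← TensorProduct.sum_tmul]
        congr 1; ext j; simp [Pi.single_apply, Finset.sum_ite_eq]
    | add t t' ht ht' =>
      obtain ⟨v, h1, h2⟩ := ht
      obtain ⟨v', h1', h2'⟩ := ht'
      exact ⟨v + v', by simp [h1, h1', TensorProduct.tmul_add, Finset.sum_add_distrib],
        by simp [TensorProduct.tmul_add, Finset.sum_add_distrib, ← h2, ← h2']⟩
  obtain ⟨v, hv, -⟩ := hdec t
  have hev : e = ∑ i, s i ⊗ₜ[A] v i := ht.symm.trans hv
  -- the relation module tensored with A' surjects onto the kernel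
  let g : Fin n → A' := fun k => ∑ ij : Fin n × Fin n, algebraMap A A' (c ij k) * (v ij.1 * v ij.2) - v k
  have hg : π.rTensor A' (∑ k, Pi.single k 1 ⊗ₜ[A] g k) = 0 := by
    rw [map_sum]
    have : e * e - e = 0 := by rw [he.eq]; exact sub_self e
    rw [hev, Finset.sum_mul_sum, ← Fintype.sum_prod_type'] at this
    simp only [g, TensorProduct.tmul_sub, TensorProduct.tmul_sum, map_sub, map_sum,
      LinearMap.rTensor_tmul, π, Fintype.linearCombination_apply_single, one_smul,
      Finset.sum_sub_distrib]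
    rw [Finset.sum_comm, ← this]
    congr 1
    refine Finset.sum_congr rfl fun ij _ => ?_
    simp_rw [← Algebra.smul_def, ← TensorProduct.smul_tmul]
    rw [← TensorProduct.sum_tmul, Algebra.TensorProduct.tmul_mul_tmul,
      show ∑ k, c ij k • s k = s ij.1 * s ij.2 from hc ij]
  let ρ : (Fin m → A) →ₗ[A] (Fin n → A) := Fintype.linearCombination A r
  have hex : Function.Exact ρ π :=
    LinearMap.exact_iff.mpr (by rw [Fintype.range_linearCombination]; exact hr.symm)
  obtain ⟨u, hu⟩ := (rTensor_exact A' hex hπ _).mp hg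
  have hw : ∀ u : (Fin m → A) ⊗[A] A', ∃ w : Fin m → A', ρ.rTensor A' u =
      ∑ k, Pi.single k 1 ⊗ₜ[A] (∑ l, algebraMap A A' (r l k) * w l) := by
    intro u
    induction u using TensorProduct.induction_on with
    | zero => exact ⟨0, by simp⟩
    | tmul f a =>
      refine ⟨fun l => f l • a, ?_⟩
      simp only [LinearMap.rTensor_tmul, TensorProduct.tmul_sum]
      rw [Finset.sum_comm]
      simp_rw [← Algebra.smul_def, ← TensorProduct.smul_tmul, ← TensorProduct.sum_tmul]
      congr 1; ext j
      simp [ρ, Fintype.linearCombination_apply, Pi.single_apply, Finset.sum_ite_eq, mul_comm]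
    | add t t' ht ht' =>
      obtain ⟨w, h1⟩ := ht
      obtain ⟨w', h1'⟩ := ht'
      exact ⟨w + w', by simp [h1, h1', mul_add, TensorProduct.tmul_add, Finset.sum_add_distrib]⟩
  obtain ⟨w, hw⟩ := hw u
  have hgw : ∀ k, g k = ∑ l, algebraMap A A' (r l k) * w l := by
    intro k
    have := congrArg (fun y => (TensorProduct.lid A A') ((LinearMap.proj k).rTensor A' y))
      (hu.symm.trans hw)
    simpa [Pi.single_apply, ite_smul, apply_ite, TensorProduct.ite_tmul] using this
  let φ0 : P →ₐ[A] A' := MvPolynomial.aeval (Sum.elim v w)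
  refine ⟨Ideal.Quotient.liftₐ I φ0 fun a ha => ?_, ?_⟩
  · refine (Ideal.span_le.mpr ?_ : I ≤ RingHom.ker φ0) ha
    rintro _ ⟨k, rfl⟩
    have h3 := hgw k
    have hC : ∀ a, φ0 (MvPolynomial.C a) = algebraMap A A' a := fun a => φ0.commutes a
    have hl : ∀ i, φ0 (x i) = v i := fun i => MvPolynomial.aeval_X _ _
    have hr' : ∀ i, φ0 (z i) = w i := fun i => MvPolynomial.aeval_X _ _
    simp only [SetLike.mem_coe, RingHom.mem_ker, F, map_sub, map_sum, map_mul, hC, hl, hr']
    exact sub_eq_zero.mpr h3
  · rw [hev]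
    have hl : ∀ i, φ0 (x i) = v i := fun i => MvPolynomial.aeval_X _ _
    rw [map_sum]
    exact Finset.sum_congr rfl fun i _ => by
      rw [Algebra.TensorProduct.map_tmul]
      exact congrArg (fun a => (s i) ⊗ₜ[A] a) (hl i)

end Groth.Agent.S1458
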