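import Groth.Statements.S14580
import Mathlib.AlgebraicGeometry.Morphisms.Proper
import Mathlib.AlgebraicGeometry.Noetherian
import Mathlib.AlgebraicGeometry.PullbackCarrier

set_option autoImplicit false
universe u
open CategoryTheory MonoidalCategory CartesianMonoidalCategory MonObj GrpObj AlgebraicGeometry CategoryTheory.Limits
open AlgGrp

namespace Groth.Agent.S14580

/-- Let k be a field, G a proper k-group scheme of finite type and N ⊆ G the kernel of the affinization
morphism G → Spec O(G), i.e. the fibre over the image of the unit section (the largest anti-affine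
subgroup scheme of G). Then the image of N in G is the connected component of the identity: as N is
smooth, N is the reduced neutral component G⁰_red, which is therefore a smooth connected algebraic
group. -/
theorem result (k : Type u) [Field k]
    (G : Over (Spec (CommRingCat.of k))) [GrpObj G] [IsProper G.hom] (t : ↥((𝟙_ (Over (Spec (CommRingCat.of k)))).left)) :
    Set.range ⇑(pullback.fst G.left.toSpecΓ (η[G].left ≫ G.left.toSpecΓ)).base = connectedComponent ((η[G]).left.base t) := by
  classical
  let X := G.left
  let g := X.toSpecΓ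
  have hco : LocallyOfFiniteType G.hom := inferInstance
  have : IsLocallyNoetherian X := LocallyOfFiniteType.isLocallyNoetherian G.hom
  have : CompactSpace X := QuasiCompact.compactSpace_of_compactSpace G.hom
  have : IsNoetherian X := ⟨⟩
  haveI : Subsingleton ↥(Spec (CommRingCat.of k)) := inferInstanceAs (Subsingleton (PrimeSpectrum k))
  haveI : Subsingleton ↥(𝟙_ (Over (Spec (CommRingCat.of k)))).left := inferInstanceAs (Subsingleton (PrimeSpectrum k))
  let x₀ := η[G].left t
  -- the spectrum of global functions is finite discrete
  have hcomp : g ≫ Spec.map G.hom.appTop = G.hom ≫ (Spec (CommRingCat.of k)).toSpecΓ := (Scheme.toSpecΓ_naturality G.hom).symm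
  have : UniversallyClosed (g ≫ Spec.map G.hom.appTop) := by rw [hcomp]; infer_instance
  have : UniversallyClosed g := .of_comp_of_isSeparated _ (Spec.map G.hom.appTop)
  have hT1 : ∀ p : Spec Γ(X, ⊤), IsClosed ({p} : Set (Spec Γ(X, ⊤))) := fun p => by
    let F := (Scheme.ΓSpecIso (CommRingCat.of k)).inv ≫ G.hom.appTop
    have hint : F.hom.IsIntegral := by
      apply RingHom.isIntegral_respectsIso.2 (e := (Scheme.ΓSpecIso _).symm.commRingCatIsoToRingEquiv)
      exact isIntegral_appTop_of_universallyClosed G.hom
    algebraize [F.hom]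
    let q : PrimeSpectrum Γ(X, ⊤) := p
    have := q.isPrime
    have : (q.asIdeal.comap (algebraMap k Γ(X, ⊤))).IsMaximal := (Ideal.IsPrime.comap _).isMaximal'
    exact (PrimeSpectrum.isClosed_singleton_iff_isMaximal q).2
      (Ideal.isMaximal_of_isIntegral_of_isMaximal_comap q.asIdeal this)
  have : T1Space (Spec Γ(X, ⊤)) := ⟨hT1⟩
  have hsurj : Function.Surjective g := fun p => by
    have hd : closure (Set.range g) = Set.univ := (Scheme.Hom.denseRange g).closure_range
    rw [g.isClosedMap.isClosed_range.closure_eq] at hd
    exact (hd ▸ Set.mem_univ p : p ∈ Set.range g)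
  have : TopologicalSpace.NoetherianSpace (Spec Γ(X, ⊤)) :=
    TopologicalSpace.noetherianSpace_of_surjective (α := X) g g.continuous hsurj
  have : Finite (Spec Γ(X, ⊤)) := by
    refine Set.finite_univ_iff.1 ?_
    have hsing : ∀ p : Spec Γ(X, ⊤), irreducibleComponent p = {p} := fun p => by
      have h := isIrreducible_irreducibleComponent (x := p)
      have hd := h.isGenericPoint_genericPoint isClosed_irreducibleComponent
      have h1 : irreducibleComponent p = {h.genericPoint} := hd.def.symm.trans (hT1 _).closure_eq
      exact h1.trans (congrArg (fun a => ({a} : Set _)) (Set.mem_singleton_iff.1 (h1.le mem_irreducibleComponent)).symm)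
    have hfin : (Set.range fun p : Spec Γ(X, ⊤) => ({p} : Set (Spec Γ(X, ⊤)))).Finite :=
      TopologicalSpace.NoetherianSpace.finite_irreducibleComponents.subset
        (by rintro _ ⟨p, rfl⟩; show ({p} : Set _) ∈ _; rw [← hsing p]; exact irreducibleComponent_mem_irreducibleComponents p)
    rw [← Set.image_univ] at hfin
    exact Set.Finite.of_finite_image hfin Set.singleton_injective.injOn
  -- clopen sets separate
  have hsep : ∀ K : X.Opens, IsClosed (K : Set X) → ∀ x y : X, g x = g y → x ∈ K → y ∈ K := by
    intro K hK x y hxy hxK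
    let K' : X.Opens := ⟨(K : Set X)ᶜ, hK.isOpen_compl⟩
    let U : Bool → X.Opens := fun b => if b then K else K'
    let sf : ∀ b, X.presheaf.obj (Opposite.op (U b)) := fun b => if b then 1 else 0
    have hcov : ⊤ ≤ iSup U := fun z _ => TopologicalSpace.Opens.mem_iSup.2 (by
      by_cases hz : z ∈ K
      exacts [⟨true, hz⟩, ⟨false, hz⟩])
    have hcompat : TopCat.Presheaf.IsCompatible X.presheaf U sf := by
      intro i j
      rcases i with _ | _ <;> rcases j with _ | _
      · rfl
      · have h : U false ⊓ U true = ⊥ := SetLike.coe_injective (Set.compl_inter_self _)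
        have : Subsingleton (X.presheaf.obj (Opposite.op (U false ⊓ U true))) := by rw [h]; infer_instance
        exact Subsingleton.elim _ _
      · have h : U true ⊓ U false = ⊥ := SetLike.coe_injective (Set.inter_compl_self _)
        have : Subsingleton (X.presheaf.obj (Opposite.op (U true ⊓ U false))) := by rw [h]; infer_instance
        exact Subsingleton.elim _ _
      · rfl
    obtain ⟨e₀, he, -⟩ := X.sheaf.existsUnique_gluing' U ⊤ (fun b => homOfLE le_top) hcov sf hcompat
    let e : Γ(X, ⊤) := e₀
    have hK1 : X.basicOpen e ⊓ K = K := by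
      have h := X.basicOpen_res e (homOfLE (le_top : U true ≤ ⊤)).op
      rw [show (X.presheaf.map (homOfLE (le_top : U true ≤ ⊤)).op) e = sf true from he true] at h
      rw [inf_comm]
      exact h.symm.trans (X.basicOpen_of_isUnit isUnit_one)
    have hK0 : K' ⊓ X.basicOpen e = ⊥ := by
      have h := X.basicOpen_res e (homOfLE (le_top : U false ≤ ⊤)).op
      rw [show (X.presheaf.map (homOfLE (le_top : U false ≤ ⊤)).op) e = sf false from he false] at h
      exact h.symm.trans (X.basicOpen_zero _)
    have hx : x ∈ X.basicOpen e := (SetLike.le_def.1 hK1.ge hxK).1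
    have hx : g x ∈ PrimeSpectrum.basicOpen e := (congrArg (x ∈ ·) (X.toSpecΓ_preimage_basicOpen e)).mpr hx
    have hy : y ∈ g ⁻¹ᵁ PrimeSpectrum.basicOpen e := show g y ∈ PrimeSpectrum.basicOpen e from hxy ▸ hx
    have hy : y ∈ X.basicOpen e := (congrArg (y ∈ ·) (X.toSpecΓ_preimage_basicOpen e)).mp hy
    by_contra hyK
    have hmem : y ∈ K' ⊓ X.basicOpen e := ⟨hyK, hy⟩
    rw [hK0] at hmem
    exact hmem
  have hclopen : IsClopen (connectedComponent x₀) := by
    refine ⟨isClosed_connectedComponent, ?_⟩
    have : connectedComponent x₀ = (⋃ s ∈ {s ∈ irreducibleComponents X | ¬ s ⊆ connectedComponent x₀}, s)ᶜ := by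
      ext y
      constructor
      · intro hy hmem
        obtain ⟨s, ⟨hs, hns⟩, hys⟩ := Set.mem_iUnion₂.1 hmem
        exact hns (connectedComponent_eq hy ▸ hs.1.isConnected.subset_connectedComponent hys)
      · intro hy
        by_contra hyc
        exact hy (Set.mem_iUnion₂.2 ⟨_, ⟨irreducibleComponent_mem_irreducibleComponents y,
          fun h => hyc (h mem_irreducibleComponent)⟩, mem_irreducibleComponent⟩)
    rw [this]
    exact ((TopologicalSpace.NoetherianSpace.finite_irreducibleComponents.subset (Set.sep_subset _ _)).isClosed_biUnion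
      fun s hs => isClosed_of_mem_irreducibleComponents s hs.1).isOpen_compl
  ext y
  constructor
  · rintro ⟨z, rfl⟩
    refine hsep ⟨connectedComponent x₀, hclopen.2⟩ hclopen.1 x₀ _ ?_ mem_connectedComponent
    show g x₀ = g _
    rw [← Scheme.Hom.comp_apply, ← Scheme.Hom.comp_apply, Limits.pullback.condition, Scheme.Hom.comp_apply]
    exact congrArg (η[G].left ≫ g) (Subsingleton.elim _ _)
  · intro hy
    have hpre : g y = g x₀ := (isPreconnected_connectedComponent.constant g.continuous.continuousOn
      hy mem_connectedComponent)
    obtain ⟨z, hz, -⟩ := Scheme.Pullback.exists_preimage_pullback (f := g) (g := η[G].left ≫ g) y t hpre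
    exact ⟨z, hz⟩

end Groth.Agent.S14580
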