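import Groth.Statements.S1460
import Mathlib.RingTheory.Extension.Presentation.Core
import Mathlib.Algebra.Category.Ring.Constructions

set_option autoImplicit false
universe u
open FlatMor

namespace Groth.Agent.S1460

open AlgebraicGeometry CategoryTheory Limits in
/-- Let f : X → S be a morphism of finite presentation between affine schemes. Then f is the base change
of a morphism of finite type f₀ : X₀ → S₀ between affine schemes with S₀ of finite type over ℤ. -/
theorem result {X S : Scheme.{u}} (f : X ⟶ S) [IsAffine X] [IsAffine S] [LocallyOfFinitePresentation f] :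
    ∃ (X₀ S₀ : Scheme.{u}) (f₀ : X₀ ⟶ S₀) (g : S ⟶ S₀) (g' : X ⟶ X₀), IsAffine X₀ ∧ IsAffine S₀ ∧ IsPullback g' f f₀ g ∧
      Algebra.FiniteType ℤ Γ(S₀, ⊤) ∧ LocallyOfFiniteType f₀ := by
  letI := f.appTop.hom.toAlgebra
  have hfp : f.appTop.hom.FinitePresentation := (HasRingHomProperty.iff_of_isAffine
    (P := @LocallyOfFinitePresentation)).mp inferInstance
  haveI : Algebra.FinitePresentation Γ(S, ⊤) Γ(X, ⊤) := hfp
  let P := Algebra.Presentation.ofFinitePresentation Γ(S, ⊤) Γ(X, ⊤)
  let B₀ := P.ModelOfHasCoeffs P.Core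
  let e : TensorProduct P.Core Γ(S, ⊤) B₀ ≃ₐ[Γ(S, ⊤)] Γ(X, ⊤) := P.tensorModelOfHasCoeffsEquiv P.Core
  let a : CommRingCat.of P.Core ⟶ Γ(S, ⊤) := CommRingCat.ofHom (algebraMap P.Core Γ(S, ⊤))
  let b : CommRingCat.of P.Core ⟶ CommRingCat.of B₀ := CommRingCat.ofHom (algebraMap P.Core B₀)
  let c : CommRingCat.of B₀ ⟶ Γ(X, ⊤) := CommRingCat.ofHom
    (e.toRingHom.comp Algebra.TensorProduct.includeRight.toRingHom)
  have hpo : IsPushout a b f.appTop c := by
    refine (CommRingCat.isPushout_tensorProduct P.Core Γ(S, ⊤) B₀).of_iso (Iso.refl _) (Iso.refl _)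
      (Iso.refl _) e.toRingEquiv.toCommRingCatIso (by simp [a]) (by simp [b]) ?_ ?_
    · exact CommRingCat.hom_ext (RingHom.ext fun x => e.commutes x)
    · exact CommRingCat.hom_ext (RingHom.ext fun x => rfl)
  refine ⟨Spec (CommRingCat.of B₀), Spec (CommRingCat.of P.Core), Spec.map b,
    S.isoSpec.hom ≫ Spec.map a, X.isoSpec.hom ≫ Spec.map c, inferInstance, inferInstance, ?_, ?_, ?_⟩
  · exact (isPullback_SpecMap_of_isPushout _ _ _ _ hpo.flip).of_iso X.isoSpec.symm (Iso.refl _)
      S.isoSpec.symm (Iso.refl _) (by simp) (by simp [Scheme.isoSpec_inv_naturality]) (by simp) (by simp)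
  · exact Algebra.FiniteType.equiv (inferInstanceAs (Algebra.FiniteType ℤ P.Core))
      (Scheme.ΓSpecIso (CommRingCat.of P.Core)).symm.commRingCatIsoToRingEquiv.toIntAlgEquiv
  · rw [HasRingHomProperty.Spec_iff (P := @LocallyOfFiniteType)]
    exact RingHom.finiteType_algebraMap.mpr inferInstance

end Groth.Agent.S1460
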