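import Groth.Statements.S14611
import Groth.Agent.FlatCx.Cochain

set_option autoImplicit false
universe u
open FlatCx

namespace Groth.Agent.S14611

open CategoryTheory CategoryTheory.Limits in
/-- Let A be a Noetherian ring, Q a cochain complex whose terms are finitely generated projective
A-modules, and d an integer such that H^p(Q) = 0 for every p < d and H^p(Q ⊗_A A/m) = 0 for every p
< d and every maximal ideal m of A. Then Q^d / im(Q^{d-1} → Q^d), the degree-d term of the
truncation τ_{≥ d} Q, is a projective A-module, so that τ_{≥ d} Q is again a complex of projective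
modules. (The published statement also asserts that Q → τ_{≥ d} Q is a quasi-isomorphism when H^p(Q)
= 0 for p < d; this row omits that clause.) -/
theorem result (A : Type u) [CommRing A] [IsNoetherianRing A]
    (Q : CochainComplex (ModuleCat.{u} A) ℤ)
    (hQ : ∀ i, Module.Finite A (Q.X i) ∧ Module.Projective A (Q.X i)) (d : ℤ)
    (h1 : ∀ p < d, IsZero (Q.homology p))
    (h2 : ∀ (m : Ideal A) [m.IsMaximal], ∀ p < d,
      IsZero ((CohIII.tensorObj Q (ModuleCat.of A (A ⧸ m))).homology p)) :
    Module.Projective A (Q.opcycles d) := by
  haveI := fun i => (hQ i).1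
  haveI := fun i => (hQ i).2
  have hfl : Module.Projective A (Q.X d ⧸ LinearMap.range (Q.d (d - 1) d).hom) := by
    let g := (Q.d (d - 1) d).hom
    let f := (Q.d (d - 2) (d - 1)).hom
    haveI : Module.Finite A (Q.X d ⧸ LinearMap.range g) := inferInstance
    haveI : Module.FinitePresentation A (Q.X d ⧸ LinearMap.range g) :=
      Module.finitePresentation_of_finite A _
    haveI : Module.Flat A (Q.X d ⧸ LinearMap.range g) := by
      refine Module.flat_of_localized_maximal (M := Q.X d ⧸ LinearMap.range g) fun m hm => ?_
      haveI := hm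
      haveI : Module.Free (Localization.AtPrime m)
          (LocalizedModule m.primeCompl (Q.X d ⧸ LinearMap.range g)) := by
        refine Groth.Agent.FlatCx.Cochain.free_localized_quotient g m ?_
        rintro _ ⟨hy, v, rfl⟩
        have h3 := (Groth.Agent.FlatCx.Cochain.isZero_homology_iff
          (F := CohIII.tensorObj Q (ModuleCat.of A (A ⧸ m))) (d - 2) (d - 1) d (by omega)
          (by omega)).mp (h2 m (d - 1) (by omega))
        have h4 : (v ⊗ₜ[A] (Ideal.Quotient.mk m 1)) ∈
            LinearMap.range (f.rTensor (A ⧸ m)) := by
          refine h3.ge ?_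
          show (g.rTensor (A ⧸ m)) (v ⊗ₜ[A] (Ideal.Quotient.mk m 1)) = 0
          apply (TensorProduct.tensorQuotEquivQuotSMul (Q.X d) m).injective
          rw [LinearMap.rTensor_tmul, map_zero, TensorProduct.tensorQuotEquivQuotSMul_tmul_mk,
            one_smul]
          exact (Submodule.Quotient.mk_eq_zero _).mpr hy
        obtain ⟨z, hz⟩ := h4
        obtain ⟨u, hu⟩ := Submodule.Quotient.mk_surjective _
          (TensorProduct.tensorQuotEquivQuotSMul (Q.X (d - 2)) m z)
        have hz' : z = u ⊗ₜ[A] (Ideal.Quotient.mk m 1) := by
          apply (TensorProduct.tensorQuotEquivQuotSMul (Q.X (d - 2)) m).injective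
          rw [TensorProduct.tensorQuotEquivQuotSMul_tmul_mk, one_smul, hu]
        rw [hz', LinearMap.rTensor_tmul] at hz
        have h5 := congrArg (TensorProduct.tensorQuotEquivQuotSMul (Q.X (d - 1)) m) hz
        rw [TensorProduct.tensorQuotEquivQuotSMul_tmul_mk,
          TensorProduct.tensorQuotEquivQuotSMul_tmul_mk, one_smul, one_smul,
          Submodule.Quotient.eq] at h5
        have h6 : g (f u - v) ∈ m • LinearMap.range g := by
          have := Submodule.mem_map_of_mem (f := g) h5
          rwa [Submodule.map_smul'', Submodule.map_top] at this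
        have hgf : g (f u) = 0 := by
          show (Q.d (d - 2) (d - 1) ≫ Q.d (d - 1) d).hom u = 0
          rw [Q.d_comp_d]; rfl
        rw [map_sub, hgf, zero_sub] at h6
        exact (neg_mem_iff (x := g v)).mp h6
      exact Module.Flat.trans A (Localization.AtPrime m) _
    exact Module.Flat.projective_of_finitePresentation
  have hp : (ComplexShape.up ℤ).prev d = d - 1 := CochainComplex.prev ℤ d
  have e : Q.opcycles d ≅ ModuleCat.of A (Q.X d ⧸ LinearMap.range (Q.d (d - 1) d).hom) :=
    (Q.sc d).moduleCatOpcyclesIso ≪≫ (LinearEquiv.toModuleIso (Submodule.quotEquivOfEq _ _ (by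
      show LinearMap.range (Q.d ((ComplexShape.up ℤ).prev d) d).hom = _
      rw [hp])))
  exact Module.Projective.of_equiv e.toLinearEquiv.symm

end Groth.Agent.S14611
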