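import Groth.Statements.S14612
import Groth.Agent.FlatCx.Cochain

set_option autoImplicit false
universe u
open FlatCx

namespace Groth.Agent.S14612

open CategoryTheory CategoryTheory.Limits in
/-- Let A be a commutative ring and F a cochain complex of flat A-modules which is bounded above (F^i =
0 for all large i) and whose cohomology H^p(F) vanishes for every p > d. Then the module of
d-cocycles Z^d = ker(F^d → F^{d+1}) is flat over A; hence the truncation τ_{≤ d} F is again a
complex of flat modules (and τ_{≤ d} F → F is a quasi-isomorphism, which is not restated).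
Boundedness cannot be dropped. -/
theorem result (A : Type u) [CommRing A]
    (F : CochainComplex (ModuleCat.{u} A) ℤ) (hF : ∀ i, Module.Flat A (F.X i))
    (hb : ∃ b : ℤ, ∀ i, b < i → IsZero (F.X i)) (d : ℤ) (hac : ∀ p, d < p → IsZero (F.homology p)) :
    Module.Flat A (F.cycles d) := by
  obtain ⟨b, hb⟩ := hb
  haveI : Module.Flat A (LinearMap.ker (F.sc d).g.hom) := by
    show Module.Flat A (LinearMap.ker (F.d d ((ComplexShape.up ℤ).next d)).hom)
    rw [CochainComplex.next ℤ d]
    exact Groth.Agent.FlatCx.Cochain.flat_ker hF b hb d hac d le_rfl
  haveI : Module.Flat A (F.sc d).moduleCatLeftHomologyData.K := this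
  exact Module.Flat.of_linearEquiv (F.sc d).moduleCatCyclesIso.toLinearEquiv

end Groth.Agent.S14612
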