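import Groth.Statements.S14613
import Groth.Agent.FlatCx.Cochain

set_option autoImplicit false
universe u
open FlatCx

namespace Groth.Agent.S14613

open CategoryTheory CategoryTheory.Limits in
/-- Let A be a commutative ring (not necessarily Noetherian), C and D cochain complexes of flat
A-modules that are bounded above (zero in all large degrees), φ : C → D a quasi-isomorphism and M an
arbitrary A-module. Then φ ⊗ id_M : C ⊗_A M → D ⊗_A M, the tensor product taken degreewise, is a
quasi-isomorphism. Boundedness cannot be dropped. -/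
theorem result (A : Type u) [CommRing A]
    (C D : CochainComplex (ModuleCat.{u} A) ℤ)
    (hC : ∀ i, Module.Flat A (C.X i)) (hD : ∀ i, Module.Flat A (D.X i))
    (bC : ∃ b : ℤ, ∀ i, b < i → IsZero (C.X i)) (bD : ∃ b : ℤ, ∀ i, b < i → IsZero (D.X i))
    (φ : C ⟶ D) [QuasiIso φ] (M : ModuleCat.{u} A) :
    QuasiIso (((MonoidalCategory.tensorRight M).mapHomologicalComplex (ComplexShape.up ℤ)).map φ) := by
  obtain ⟨b₁, hb₁⟩ := bC
  obtain ⟨b₂, hb₂⟩ := bD
  have key : ∀ {P Q : CochainComplex (ModuleCat.{u} A) ℤ} (f : P ⟶ Q), QuasiIso f ↔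
      ∀ n, (CochainComplex.mappingCone f).ExactAt n := by
    intro P Q f
    rw [← HomotopyCategory.quotient_obj_mem_subcategoryAcyclic_iff_exactAt,
      ← HomologicalComplex.mem_quasiIso_iff, ← HomotopyCategory.quotient_map_mem_quasiIso_iff,
      HomotopyCategory.quasiIso_eq_trW_subcategoryAcyclic]
    exact (HomotopyCategory.subcategoryAcyclic _).trW_iff_of_distinguished _
      (HomotopyCategory.mappingCone_triangleh_distinguished f)
  have h1 := (key φ).mp inferInstance
  rw [key]
  let K := CochainComplex.mappingCone φ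
  have e : ∀ i, K.X i ≅ C.X (i + 1) ⊞ D.X i := fun i =>
    HomologicalComplex.homotopyCofiber.XIsoBiprod φ i (i + 1) rfl
  have hK : ∀ i, Module.Flat A (K.X i) := fun i =>
    haveI := hC (i + 1)
    haveI := hD i
    haveI : Module.Flat A (ModuleCat.of A (C.X (i + 1) × D.X i) : Type u) := Groth.Agent.FlatCx.Cochain.flat_prod _ _
    Module.Flat.of_linearEquiv (e i ≪≫ ModuleCat.biprodIsoProd _ _).toLinearEquiv
  have hb : ∀ i, max b₁ b₂ < i → IsZero (K.X i) := fun i hi => by
    refine IsZero.of_iso ?_ (e i)
    exact (biprod_isZero_iff _ _).mpr ⟨hb₁ _ (by omega), hb₂ _ (by omega)⟩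
  intro n
  rw [HomologicalComplex.exactAt_iff_isZero_homology]
  refine IsZero.of_iso (Groth.Agent.FlatCx.Cochain.tensor_acyclic hK _ hb (fun p => ?_) M n) ?_
  · exact (h1 p).isZero_homology
  · exact ((HomologicalComplex.homologyFunctor _ _ n).mapIso
      (CochainComplex.mappingCone.mapHomologicalComplexIso φ (MonoidalCategory.tensorRight M))).symm

end Groth.Agent.S14613
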