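import Groth.Statements.S14620
import Groth.Agent.HensPair.Integral

set_option autoImplicit false
universe u
open Hensel

namespace Groth.Agent.S14620

/-- In the strictly henselian case, let f : A → B be a finite local homomorphism of local rings. If A is
strictly henselian (henselian local with separably closed residue field), then so is B. -/
theorem result {A B : Type u} [CommRing A] [IsLocalRing A]
    [CommRing B] [IsLocalRing B] (f : A →+* B) (hf : f.Finite) [IsLocalHom f]
    (hA : EtCoh.IsStrictlyHenselianLocalRing A) : EtCoh.IsStrictlyHenselianLocalRing B := by
  obtain ⟨_, hs⟩ := hA
  algebraize [f]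
  have : IsLocalHom (algebraMap A B) := ‹IsLocalHom f›
  have hh := HensPair.Integral.henselianLocalRing (A := A) (B := B)
  exact ⟨hh, (HensPair.Integral.residue_facts (A := A) (B := B)).1⟩

end Groth.Agent.S14620
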