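import Groth.Statements.S14623
import Mathlib.Algebra.Homology.DerivedCategory.RightDerivedFunctorPlus
import Mathlib.CategoryTheory.Functor.Derived.Adjunction
import Mathlib.CategoryTheory.Adjunction.Restrict
import Mathlib.CategoryTheory.Functor.Derived.PointwiseLeftDerived

set_option autoImplicit false
open CategoryTheory CategoryTheory.Limits
universe w v u
open CohDer

namespace Groth.Agent.S14623

variable {A B : Type u} [Category.{v} A] [Category.{v} B] [Abelian A] [Abelian B] {L : A ⥤ B} {R : B ⥤ A}

theorem quasiIso_map (L : A ⥤ B) [L.Additive] [PreservesFiniteLimits L] [PreservesFiniteColimits L]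
    {X Y : HomotopyCategory.Plus A} {f : X ⟶ Y} (hf : HomotopyCategory.Plus.quasiIso A f) :
    HomotopyCategory.Plus.quasiIso B (L.mapHomotopyCategoryPlus.map f) := by
  rw [HomotopyCategory.Plus.quasiIso_iff] at hf ⊢
  obtain ⟨g, hg⟩ := (HomotopyCategory.quotient A (ComplexShape.up ℤ)).map_surjective (X := X.obj.as) (Y := Y.obj.as) f.hom
  have hf' : HomotopyCategory.quasiIso A _ ((HomotopyCategory.quotient A (ComplexShape.up ℤ)).map g) := hg.symm ▸ hf
  rw [HomotopyCategory.quotient_map_mem_quasiIso_iff, HomologicalComplex.mem_quasiIso_iff] at hf'
  change HomotopyCategory.quasiIso B _ ((L.mapHomotopyCategory (ComplexShape.up ℤ)).map f.hom)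
  rw [← hg]
  change HomotopyCategory.quasiIso B _ ((HomotopyCategory.quotient B _).map ((L.mapHomologicalComplex _).map g))
  rw [HomotopyCategory.quotient_map_mem_quasiIso_iff, HomologicalComplex.mem_quasiIso_iff]
  infer_instance

/-- The adjunction on cochain complexes up to homotopy. -/
noncomputable def adjHC (adj : L ⊣ R) [L.Additive] [R.Additive] :
    L.mapHomotopyCategory (ComplexShape.up ℤ) ⊣ R.mapHomotopyCategory (ComplexShape.up ℤ) :=
  Adjunction.mkOfUnitCounit
    { unit :=
        { app := fun K => (HomotopyCategory.quotient A _).map
            { f := fun n => adj.unit.app (K.as.X n)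
              comm' := fun i j _ => (adj.unit.naturality (K.as.d i j)).symm }
          naturality := fun K K' φ => by
            obtain ⟨g, rfl⟩ := (HomotopyCategory.quotient A _).map_surjective (X := K.as) (Y := K'.as) φ
            refine ((HomotopyCategory.quotient A _).map_comp _ _).symm.trans
              ((congrArg _ ?_).trans ((HomotopyCategory.quotient A _).map_comp _ _))
            ext n
            exact adj.unit.naturality (g.f n) }
      counit :=
        { app := fun K => (HomotopyCategory.quotient B _).map
            { f := fun n => adj.counit.app (K.as.X n)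
              comm' := fun i j _ => (adj.counit.naturality (K.as.d i j)).symm }
          naturality := fun K K' φ => by
            obtain ⟨g, rfl⟩ := (HomotopyCategory.quotient B _).map_surjective (X := K.as) (Y := K'.as) φ
            refine ((HomotopyCategory.quotient B _).map_comp _ _).symm.trans
              ((congrArg _ ?_).trans ((HomotopyCategory.quotient B _).map_comp _ _))
            ext n
            exact adj.counit.naturality (g.f n) }
      left_triangle := by
        ext K
        simp only [NatTrans.comp_app, Functor.whiskerRight_app, Functor.whiskerLeft_app,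
          Functor.associator_hom_app, Category.id_comp]
        refine ((HomotopyCategory.quotient B _).map_comp _ _).symm.trans
          ((congrArg _ ?_).trans ((HomotopyCategory.quotient B _).map_id _))
        ext n
        exact adj.left_triangle_components (K.as.X n)
      right_triangle := by
        ext K
        simp only [NatTrans.comp_app, Functor.whiskerRight_app, Functor.whiskerLeft_app,
          Functor.associator_inv_app, Category.id_comp]
        refine ((HomotopyCategory.quotient A _).map_comp _ _).symm.trans
          ((congrArg _ ?_).trans ((HomotopyCategory.quotient A _).map_id _))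
        ext n
        exact adj.right_triangle_components (K.as.X n) }

/-- The adjunction on bounded below complexes up to homotopy. -/
noncomputable def adjPlus (adj : L ⊣ R) [L.Additive] [R.Additive] :
    L.mapHomotopyCategoryPlus ⊣ R.mapHomotopyCategoryPlus :=
  (adjHC adj).restrictFullyFaithful (HomotopyCategory.plus A).fullyFaithfulι
    (HomotopyCategory.plus B).fullyFaithfulι (Iso.refl _) (Iso.refl _)


/-- Let A and B be abelian categories with enough injectives, L : A ⥤ B an exact additive functor and R
: B ⥤ A an additive right adjoint of L. Then on bounded below derived categories the functor induced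
by L (written as its total right derived functor, L being exact) is left adjoint to the right
derived functor of R; the existence of an adjunction is asserted. -/
theorem result {A B : Type u} [Category.{v} A] [Category.{v} B]
    [Abelian A] [Abelian B] [HasDerivedCategory.{w} A] [HasDerivedCategory.{w} B]
    [EnoughInjectives A] [EnoughInjectives B] {L : A ⥤ B} {R : B ⥤ A} (adj : L ⊣ R)
    [L.Additive] [R.Additive] [PreservesFiniteLimits L] [PreservesFiniteColimits L] :
    Nonempty (L.rightDerivedFunctorPlus ⊣ R.rightDerivedFunctorPlus) := by
  have hinv : (HomotopyCategory.Plus.quasiIso A).IsInvertedBy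
      (L.mapHomotopyCategoryPlus ⋙ DerivedCategory.Plus.Qh) := fun X Y f hf =>
    Localization.inverts DerivedCategory.Plus.Qh (HomotopyCategory.Plus.quasiIso B) _ (quasiIso_map L hf)
  let β := R.rightDerivedFunctorPlusUnit
  haveI : IsIso L.rightDerivedFunctorPlusUnit :=
    Functor.isIso_of_isRightDerivedFunctor_of_inverts _ _ hinv
  let e := asIso L.rightDerivedFunctorPlusUnit
  let α := e.inv
  haveI : L.rightDerivedFunctorPlus.IsLeftDerivedFunctor α (HomotopyCategory.Plus.quasiIso A) :=
    Functor.isLeftDerivedFunctor_of_inverts _ _ e.symm
  haveI : (L.rightDerivedFunctorPlus ⋙ R.rightDerivedFunctorPlus).IsLeftDerivedFunctor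
      ((Functor.associator _ _ _).inv ≫ Functor.whiskerRight α R.rightDerivedFunctorPlus)
      (HomotopyCategory.Plus.quasiIso A) :=
    Functor.isLeftDerivedFunctor_of_inverts _ _
      ((Functor.associator _ _ _).symm ≪≫ Functor.isoWhiskerRight e.symm R.rightDerivedFunctorPlus)
  haveI : (R.rightDerivedFunctorPlus ⋙ L.rightDerivedFunctorPlus).IsRightDerivedFunctor
      (Functor.whiskerRight β L.rightDerivedFunctorPlus ≫ (Functor.associator _ _ _).hom)
      (HomotopyCategory.Plus.quasiIso B) :=
    (HomotopyCategory.Plus.localizerMorphism_derives _).isRightDerivedFunctor_of_isIso _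
      (fun X => by
        haveI : IsIso (β.app ((InjectiveObject.ι B).mapHomotopyCategoryPlus.obj X)) := inferInstance
        rw [NatTrans.comp_app]
        dsimp
        infer_instance)
  exact ⟨(adjPlus adj).derived (HomotopyCategory.Plus.quasiIso A) (HomotopyCategory.Plus.quasiIso B) α β⟩

end Groth.Agent.S14623
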