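import Groth.Statements.S14676
import Mathlib.RingTheory.AdicCompletion.Basic
import Mathlib.Algebra.Polynomial.Identities
import Mathlib.Algebra.Polynomial.Div

set_option autoImplicit false
universe u
open CAlg

namespace Groth.Agent.S14676

/-- Let A be a commutative ring which is separated and complete for the I-adic topology of an ideal I,
let P be any polynomial over A (not assumed monic) and a₀ an element of A such that P(a₀) lies in I
and P'(a₀) is a unit modulo I. Then there is a unique a in A congruent to a₀ modulo I with P(a) = 0. -/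
theorem result (A : Type u) [CommRing A] (I : Ideal A) [IsAdicComplete I A]
    (P : Polynomial A) (a₀ : A) (h₀ : P.eval a₀ ∈ I)
    (h₁ : IsUnit (Ideal.Quotient.mk I (P.derivative.eval a₀))) :
    ∃! a : A, a - a₀ ∈ I ∧ P.IsRoot a := by
  obtain ⟨ū, hū⟩ := h₁.exists_left_inv
  obtain ⟨u, rfl⟩ := Ideal.Quotient.mk_surjective ū
  have hmem : u * P.derivative.eval a₀ - 1 ∈ I :=
    Ideal.Quotient.eq.mp (by simpa using hū)
  have hder : ∀ a : A, a - a₀ ∈ I → 1 - P.derivative.eval a * u ∈ I := fun a ha => by
    have h := I.add_mem (I.neg_mem hmem)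
      (I.mul_mem_left (-u) (Ideal.mem_of_dvd _ (Polynomial.sub_dvd_eval_sub a a₀ P.derivative) ha))
    convert h using 1; ring
  let X : ℕ → A := fun n => Nat.rec a₀ (fun _ a => a - u * P.eval a) n
  have hX : ∀ n, X n - a₀ ∈ I ∧ P.eval (X n) ∈ I ^ (n + 1) := by
    intro n
    induction n with
    | zero => simp [X, h₀]
    | succ n ih =>
      have hP : P.eval (X n) ∈ I := Ideal.pow_le_self (Nat.succ_ne_zero n) ih.2
      refine ⟨?_, ?_⟩
      · have h := I.sub_mem ih.1 (I.mul_mem_left u hP)
        change X n - u * P.eval (X n) - a₀ ∈ I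
        convert h using 1; ring
      · change P.eval (X n - u * P.eval (X n)) ∈ _
        obtain ⟨k, hk⟩ := P.binomExpansion (X n) (-(u * P.eval (X n)))
        rw [← sub_eq_add_neg] at hk
        rw [hk]
        have h : (1 - P.derivative.eval (X n) * u + k * u * u * P.eval (X n)) * P.eval (X n)
            ∈ I ^ (n + 1 + 1) := by
          rw [pow_succ']
          exact Ideal.mul_mem_mul (I.add_mem (hder _ ih.1) (I.mul_mem_left _ hP)) ih.2
        convert h using 1; ring
  have hC : ∀ {a b : ℕ}, a ≤ b → X a - X b ∈ I ^ (a + 1) := by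
    intro a b hab
    induction b, hab using Nat.le_induction with
    | base => simp
    | succ b hab ih =>
      have h2 : u * P.eval (X b) ∈ I ^ (a + 1) :=
        Ideal.mul_mem_left _ _ (Ideal.pow_le_pow_right (by omega) (hX b).2)
      have h := Ideal.add_mem _ ih h2
      change X a - (X b - u * P.eval (X b)) ∈ _
      convert h using 1; ring
  obtain ⟨l, hl⟩ := IsPrecomplete.prec (inferInstance : IsPrecomplete I A) (f := X)
    (fun {a b} hab => SModEq.sub_mem.mpr (by
      rw [smul_eq_mul, Ideal.mul_top]; exact Ideal.pow_le_pow_right (Nat.le_succ a) (hC hab)))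
  have hl' : ∀ n, X n - l ∈ I ^ n := fun n => by
    have := SModEq.sub_mem.mp (hl n)
    rwa [smul_eq_mul, Ideal.mul_top] at this
  have hl0 : l - a₀ ∈ I := by
    have h := I.sub_mem (hX 1).1 (pow_one I ▸ hl' 1)
    convert h using 1; ring
  have hlr : P.eval l = 0 := IsHausdorff.haus (inferInstance : IsHausdorff I A) _ fun n => by
    rw [SModEq.zero, smul_eq_mul, Ideal.mul_top]
    have h := Ideal.sub_mem _ (Ideal.pow_le_pow_right (Nat.le_succ n) (hX n).2)
      (Ideal.mem_of_dvd _ (Polynomial.sub_dvd_eval_sub (X n) l P) (hl' n))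
    convert h using 1; ring
  refine ⟨l, ⟨hl0, hlr⟩, fun b ⟨hb, hbr⟩ => ?_⟩
  obtain ⟨k, hk⟩ := P.binomExpansion l (b - l)
  rw [add_sub_cancel, hlr, show P.eval b = 0 from hbr] at hk
  have hbl : b - l ∈ I := by
    have h := I.sub_mem hb hl0
    convert h using 1; ring
  have hu : IsUnit ((P.derivative.eval l + k * (b - l)) * u) := by
    have h1 : (P.derivative.eval l + k * (b - l)) * u - 1 ∈ (⊥ : Ideal A).jacobson :=
      IsAdicComplete.le_jacobson_bot I (by
        have h := I.add_mem (I.neg_mem (hder l hl0)) (I.mul_mem_left (k * u) hbl)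
        convert h using 1; ring)
    simpa using Ideal.mem_jacobson_bot.mp h1 1
  have hz : (P.derivative.eval l + k * (b - l)) * u * (b - l) = 0 := by
    have h0 : P.derivative.eval l * (b - l) + k * (b - l) ^ 2 = 0 := by simpa using hk.symm
    calc _ = u * (P.derivative.eval l * (b - l) + k * (b - l) ^ 2) := by ring
      _ = 0 := by rw [h0, mul_zero]
  exact sub_eq_zero.mp (hu.mul_right_eq_zero.mp hz)

end Groth.Agent.S14676
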