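import Groth.Statements.S14731
import Groth.Agent.SmoothModel.Basic
import Groth.Agent.WQ8.CoeffField
import Mathlib.FieldTheory.IntermediateField.Adjoin.Algebra

set_option autoImplicit false
universe u
open ValPrufer

namespace Groth.Agent.S14731

theorem essFiniteType_of_closure (F : Type) (K : Type u) [Field F] [Field K] [Algebra F K] (s : Finset K)
    (hs : Subfield.closure (↑s : Set K) = ⊤) : Algebra.EssFiniteType F K := by
  have htop : IntermediateField.adjoin F (↑s : Set K) = ⊤ := by
    rw [eq_top_iff]
    intro x _
    have hle : Subfield.closure (↑s : Set K) ≤ (IntermediateField.adjoin F (↑s : Set K)).toSubfield :=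
      Subfield.closure_le.2 (IntermediateField.subset_adjoin _ _)
    exact hle (hs ▸ trivial)
  haveI : Algebra.EssFiniteType F (⊤ : IntermediateField F K) := IntermediateField.essFiniteType_iff.2 ⟨s, htop⟩
  exact Algebra.EssFiniteType.of_surjective
    IntermediateField.topEquiv.toAlgHom IntermediateField.topEquiv.surjective

/-- In characteristic zero, every field K generated as a field by a finite set is the fraction field of
a subring A of K of finite type and smooth over the integers. -/
theorem result
    (K : Type u) [Field K] [CharZero K] (s : Finset K)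
    (hs : Subfield.closure (↑s : Set K) = ⊤) :
    ∃ A : Subring K, Algebra.FiniteType ℤ A ∧ Algebra.Smooth ℤ A ∧ IsFractionRing A K := by
  haveI : Algebra.EssFiniteType ℚ K := essFiniteType_of_closure ℚ K s hs
  haveI : Algebra.FormallySmooth ℤ ℚ := Algebra.FormallySmooth.of_isLocalization (nonZeroDivisors ℤ)
  haveI : Algebra.FormallySmooth ℤ K := Algebra.FormallySmooth.comp ℤ ℚ K
  obtain ⟨A, h1, h2, h3⟩ := Groth.Agent.SmoothModel.exists_smooth_model ℤ K s (↑s) hs Algebra.subset_adjoin
  let e : A ≃+* A.toSubring := RingEquiv.refl A
  let e' : A ≃ₐ[ℤ] A.toSubring := AlgEquiv.ofRingEquiv (f := e) (fun x => by simp)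
  exact ⟨A.toSubring, Algebra.FiniteType.equiv h1 e', Algebra.Smooth.of_equiv e', h3⟩

end Groth.Agent.S14731
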