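import Groth.Statements.S14732
import Groth.Agent.SmoothModel.Basic
import Groth.Agent.WQ8.CoeffField
import Mathlib.FieldTheory.IntermediateField.Adjoin.Algebra

set_option autoImplicit false
universe u
open ValPrufer

namespace Groth.Agent.S14732

/-- In characteristic p > 0, a field K that is finitely generated over its prime subfield F (a field
with p elements) is the fraction field of an integral scheme smooth over F; concretely, there is an
F-subalgebra A of K, of finite type and smooth over F, whose fraction field is K. -/
theorem result
    (K : Type u) [Field K] (p : ℕ) [Fact p.Prime] [CharP K p] (s : Finset K)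
    (hs : Subfield.closure (↑s : Set K) = ⊤) :
    ∃ A : Subalgebra (⊥ : Subfield K) K, Algebra.FiniteType (⊥ : Subfield K) A ∧
      Algebra.Smooth (⊥ : Subfield K) A ∧ IsFractionRing A K := by
  haveI : PerfectField (⊥ : Subfield K) := Groth.Agent.WQ8.perfectField_bot K
  have htop : IntermediateField.adjoin (⊥ : Subfield K) (↑s : Set K) = ⊤ := by
    rw [eq_top_iff]
    intro x _
    have hle : Subfield.closure (↑s : Set K) ≤ (IntermediateField.adjoin (⊥ : Subfield K) (↑s : Set K)).toSubfield :=
      Subfield.closure_le.2 (IntermediateField.subset_adjoin _ _)
    exact hle (hs ▸ trivial)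
  haveI : Algebra.EssFiniteType (⊥ : Subfield K) (⊤ : IntermediateField (⊥ : Subfield K) K) :=
    IntermediateField.essFiniteType_iff.2 ⟨s, htop⟩
  haveI : Algebra.EssFiniteType (⊥ : Subfield K) K := Algebra.EssFiniteType.of_surjective
    IntermediateField.topEquiv.toAlgHom IntermediateField.topEquiv.surjective
  exact Groth.Agent.SmoothModel.exists_smooth_model (⊥ : Subfield K) K s (↑s) hs Algebra.subset_adjoin

end Groth.Agent.S14732
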