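import Groth.Statements.S14743
import Mathlib

set_option autoImplicit false
universe u
open CategoryTheory MonoidalCategory CartesianMonoidalCategory MonObj GrpObj AlgebraicGeometry
open AlgGrp

namespace Groth.Agent.S14743

/-- Over an algebraically closed field k let L, G, B be commutative k-group schemes, i : L → G and π : G
→ B homomorphisms with i the kernel of π, and suppose that every k-morphism B × B → L is constant
(factors through a k-point of L). If π admits a section which is a morphism of k-schemes, then it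
admits a section which is a homomorphism, so the extension splits. (The published statement is for
algebraic groups, that is, of finite type over k; finiteness plays no role and is not assumed here.) -/
theorem result (k : Type u) [Field k] [IsAlgClosed k]
    (L G B : Over (Spec (CommRingCat.of k))) [GrpObj L] [GrpObj G] [GrpObj B]
    [IsCommMonObj L] [IsCommMonObj G] [IsCommMonObj B]
    (i : L ⟶ G) [IsMonHom i] (π : G ⟶ B) [IsMonHom π] (hker : AlgGrp.IsKernel i π)
    (hconst : ∀ f : B ⊗ B ⟶ L, ∃ l : 𝟙_ (Over (Spec (CommRingCat.of k))) ⟶ L, f = toUnit (B ⊗ B) ≫ l)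
    (s : B ⟶ G) (hs : s ≫ π = 𝟙 B) :
    ∃ s' : B ⟶ G, IsMonHom s' ∧ s' ≫ π = 𝟙 B := by
  have hmc : ∀ {T A A' : Over (Spec (CommRingCat.of k))} [GrpObj A] [GrpObj A'] (p q : T ⟶ A) (φ : A ⟶ A') [IsMonHom φ],
      (p * q) ≫ φ = (p ≫ φ) * (q ≫ φ) := fun {T A A'} _ _ p q φ _ => by
    simp [Hom.mul_def, IsMonHom.mul_hom, lift_map_assoc]
  have h1 : ∀ {T A A' : Over (Spec (CommRingCat.of k))} [GrpObj A] [GrpObj A'] (φ : A ⟶ A') [IsMonHom φ],
      (1 : T ⟶ A) ≫ φ = 1 := fun {T A A'} _ _ φ _ => by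
    simp [Hom.one_def, IsMonHom.one_hom]
  have hic : ∀ {T A A' : Over (Spec (CommRingCat.of k))} [GrpObj A] [GrpObj A'] (p : T ⟶ A) (φ : A ⟶ A') [IsMonHom φ],
      p⁻¹ ≫ φ = (p ≫ φ)⁻¹ := fun {T A A'} _ _ p φ _ => by
    apply eq_inv_of_mul_eq_one_left
    rw [← hmc, inv_mul_cancel, h1]
  let s' : B ⟶ G := s * ((1 : B ⟶ B) ≫ s)⁻¹
  have hs' : s' ≫ π = 𝟙 B := by
    rw [hmc _ _ π, hic _ π, Category.assoc, hs, Category.comp_id, inv_one, _root_.mul_one]
  have hs1 : ∀ T : Over (Spec (CommRingCat.of k)), (1 : T ⟶ B) ≫ s' = 1 := fun T => by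
    simp only [s', MonObj.comp_mul, GrpObj.comp_inv, ← Category.assoc, MonObj.comp_one, mul_inv_cancel]
  let f : B ⊗ B ⟶ G := ((fst B B * snd B B) ≫ s') * ((fst B B ≫ s') * (snd B B ≫ s'))⁻¹
  have hf : f ≫ π = toUnit _ ≫ η[B] := by
    rw [← Hom.one_def, hmc _ _ π, hic _ π, hmc _ _ π, Category.assoc, Category.assoc, Category.assoc, hs']
    simp
  obtain ⟨l, hl⟩ := hconst (hker.lift f (toUnit _) hf)
  have e1 : f = toUnit (B ⊗ B) ≫ l ≫ i := by
    conv_lhs => rw [← hker.lift_fst f (toUnit _) hf, hl, Category.assoc]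
  have e2 : l ≫ i = 1 := by
    have h2 := congrArg (fun z => lift (1 : 𝟙_ (Over (Spec (CommRingCat.of k))) ⟶ B) 1 ≫ z) e1
    simp only [f, MonObj.comp_mul, GrpObj.comp_inv, lift_fst_assoc, lift_snd_assoc, hs1, ← Category.assoc] at h2
    rw [lift_fst, lift_snd, _root_.mul_one, hs1, _root_.mul_one, inv_one, _root_.mul_one] at h2
    rw [toUnit_unique (lift (1 : 𝟙_ (Over (Spec (CommRingCat.of k))) ⟶ B) 1 ≫ toUnit (B ⊗ B)) (𝟙 _), Category.id_comp] at h2
    exact h2.symm
  have e3 : (fst B B * snd B B) ≫ s' = (fst B B ≫ s') * (snd B B ≫ s') := by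
    rw [← mul_inv_eq_one]
    show f = 1
    rw [e1, e2, MonObj.comp_one]
  refine ⟨s', ⟨?_, ?_⟩, hs'⟩
  · have := hs1 (𝟙_ (Over (Spec (CommRingCat.of k))))
    simpa [Hom.one_def] using this
  · simpa [Hom.mul_def, lift_fst_comp_snd_comp] using e3

end Groth.Agent.S14743
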