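import Groth.Statements.S14745
import Mathlib

set_option autoImplicit false
universe u v w
open CAlg

namespace Groth.Agent.S14745

/-- Let k be a field of characteristic zero, A a commutative k-algebra on which a finite group Γ acts by
k-algebra automorphisms, and I the ideal of A generated by a set of Γ-invariant elements. Then the
Γ-invariants of A map onto the Γ-invariants of A/I: every element of A whose class modulo I is
Γ-invariant is congruent modulo I to a Γ-invariant element. (The published statement takes A
finitely generated and finitely many invariant generators; neither finiteness is used.) -/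
theorem result (k : Type u) [Field k] [CharZero k]
    (A : Type v) [CommRing A] [Algebra k A] (Γ : Type w) [Group Γ] [Finite Γ]
    [MulSemiringAction Γ A] [SMulCommClass Γ k A]
    (S : Set A) (hS : ∀ f ∈ S, ∀ γ : Γ, γ • f = f) (a : A) (ha : ∀ γ : Γ, γ • a - a ∈ Ideal.span S) :
    ∃ b : A, (∀ γ : Γ, γ • b = b) ∧ a - b ∈ Ideal.span S := by
  classical
  cases nonempty_fintype Γ
  have hI : ∀ (γ : Γ) (x : A), x ∈ Ideal.span S → γ • x ∈ Ideal.span S := fun γ x hx => by
    induction hx using Submodule.span_induction with
    | mem y hy => rw [hS y hy γ]; exact Ideal.subset_span hy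
    | zero => rw [smul_zero]; exact zero_mem _
    | add y z _ _ h1 h2 => rw [smul_add]; exact add_mem h1 h2
    | smul c y _ h1 => rw [smul_eq_mul, smul_mul']; exact Ideal.mul_mem_left _ _ h1
  let c : k := (Fintype.card Γ : k)⁻¹
  refine ⟨c • ∑ γ : Γ, γ • a, fun γ => ?_, ?_⟩
  · rw [smul_comm γ c, Finset.smul_sum]
    congr 1
    exact Fintype.sum_equiv (Equiv.mulLeft γ) _ _ fun g => by simp [mul_smul]
  · have e : a - c • ∑ γ : Γ, γ • a = - (c • ∑ γ : Γ, (γ • a - a)) := by
      rw [Finset.sum_sub_distrib, Finset.sum_const, Finset.card_univ, smul_sub, ← Nat.cast_smul_eq_nsmul k, smul_smul,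
        inv_mul_cancel₀ (Nat.cast_ne_zero.2 Fintype.card_ne_zero), one_smul]
      abel
    rw [e, Algebra.smul_def]
    exact neg_mem (Ideal.mul_mem_left _ _ (sum_mem fun γ _ => ha γ))

end Groth.Agent.S14745
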