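import Groth.Statements.S1478
import Groth.Agent.ModStalk.OmegaSect

set_option autoImplicit false
universe u
open FlatMor

namespace Groth.Agent.S1478

open AlgebraicGeometry CategoryTheory Limits in
/-- For separated morphisms (where the sheaf of differentials is literally the conormal sheaf of the
closed diagonal): a separated morphism f : X → S is formally unramified if and only if Ω_{X/S}, the
conormal sheaf of the diagonal, is the zero O_X-module. -/
theorem result {X S : Scheme.{u}} (f : X ⟶ S) [IsSeparated f] :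
    FormallyUnramified f ↔ IsZero (Omega.sheaf f) := by
  constructor
  · intro hf
    have key : ∀ (U : X.Opens) (V : S.Opens), IsAffineOpen U → IsAffineOpen V → U ≤ f ⁻¹ᵁ V →
        Subsingleton Γ(Omega.sheaf f, U) := by
      intro U V hU hV h
      letI := (f.appLE V U h).hom.toAlgebra
      have : Algebra.FormallyUnramified Γ(S, V) Γ(X, U) := FormallyUnramified.formallyUnramified_appLE f hV hU h
      have : Subsingleton (CommRingCat.KaehlerDifferential (f.appLE V U h)) :=
        (Algebra.FormallyUnramified.subsingleton_kaehlerDifferential : Subsingleton Ω[Γ(X, U)⁄Γ(S, V)])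
      exact (Groth.Agent.ModStalk.toSect_bijective f hV hU h).2.subsingleton
    rw [IsZero.iff_id_eq_zero]
    refine Scheme.Modules.hom_ext _ _ fun U => ?_
    ext s
    refine Groth.Agent.ModStalk.eq_of_germ_eq _ _ _ fun x hx => ?_
    obtain ⟨_, ⟨V, hV, rfl⟩, hxV, -⟩ := S.isBasis_affineOpens.exists_subset_of_mem_open (Set.mem_univ (f x)) isOpen_univ
    obtain ⟨_, ⟨W, hW, rfl⟩, hxW, hWle⟩ :=
      X.isBasis_affineOpens.exists_subset_of_mem_open (show x ∈ U ⊓ f ⁻¹ᵁ V from ⟨hx, hxV⟩) (U ⊓ f ⁻¹ᵁ V).2
    have := key W V hW hV (fun z hz => (hWle hz).2)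
    have h0 : ∀ t : Γ(Omega.sheaf f, U), (Omega.sheaf f).presheaf.germ U x hx t = 0 := fun t => by
      rw [← TopCat.Presheaf.germ_res_apply _ (homOfLE (fun z hz => (hWle hz).1 : W ≤ U)) x hxW t,
        Subsingleton.elim (((Omega.sheaf f).presheaf.map (homOfLE _).op) t) 0, map_zero]
    rw [h0, h0]
  · intro hz
    rw [HasRingHomProperty.iff_appLE (P := @FormallyUnramified)]
    intro V U h
    letI := (f.appLE V.1 U.1 h).hom.toAlgebra
    have : Subsingleton Γ(Omega.sheaf f, U.1) := ⟨fun a b => by
      have h0 : ∀ t : Γ(Omega.sheaf f, U.1), t = 0 := fun t =>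
        congrArg (fun φ => Scheme.Modules.Hom.app φ U.1 t) ((IsZero.iff_id_eq_zero _).mp hz)
      rw [h0 a, h0 b]⟩
    exact (⟨(Groth.Agent.ModStalk.toSect_bijective f V.2 U.2 h).1.subsingleton⟩ :
      Algebra.FormallyUnramified Γ(S, V.1) Γ(X, U.1))

end Groth.Agent.S1478
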