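import Groth.Statements.S14788
import Groth.Agent.Cons.Basic
-- import your own Groth.Agent.* helpers here

set_option autoImplicit false
set_option backward.isDefEq.respectTransparency false
universe u
open CategoryTheory CategoryTheory.Limits AlgebraicGeometry
open Subtr

namespace Groth.Agent.S14788

/-- (i) ⇔ (iv): a morphism of schemes f : X ⟶ Y has the lifting property for ordered pairs of points if
and only if, for every pro-constructible subset Z ⊆ Y, the image under f of the closure of f⁻¹(Z) is
the closure of Z. (In the published item (iv) the right-hand side is printed as Z itself; the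
closure is meant, as the case of a non-closed point shows and as the proof uses.) -/
theorem result {X Y : Scheme.{u}} (f : X ⟶ Y) :
    Subtr.IsSSubtrusive f ↔
      ∀ Z : Set Y, ProCons.IsProConstructible Z → f '' closure (f ⁻¹' Z) = closure Z := by
  constructor
  · intro hf Z hZ
    refine Set.Subset.antisymm ?_ fun y hy => ?_
    · exact (image_closure_subset_closure_image f.continuous).trans (closure_mono (Set.image_preimage_subset _ _))
    · obtain ⟨z, hz, hzy⟩ := Cons.Basic.exists_specializes_of_mem_closure hZ hy
      obtain ⟨x, x', hxx, hx, hx'⟩ := hf hzy
      exact ⟨x, hxx.mem_closed isClosed_closure (subset_closure (by show f x' ∈ Z; rw [hx']; exact hz)), hx⟩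
  · intro h y y' hy
    have hs : ProCons.IsProConstructible ({y'} : Set Y) := by
      haveI : QuasiCompact (Y.fromSpecResidueField y') := ⟨fun U _ _ => Set.Subsingleton.isCompact (fun a _ b _ => Subsingleton.elim a b)⟩
      have := Cons.Basic.isProConstructible_range (Y.fromSpecResidueField y')
      rwa [Scheme.range_fromSpecResidueField] at this
    obtain ⟨x, hx, rfl⟩ : y ∈ f '' closure (f ⁻¹' ({y'} : Set Y)) := by
      rw [h _ hs]
      exact specializes_iff_mem_closure.1 hy
    obtain ⟨x', hx', hxx⟩ := Cons.Basic.exists_specializes_of_mem_closure (Cons.Basic.isProConstructible_preimage f hs) hx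
    exact ⟨x, x', hxx, rfl, hx'⟩

end Groth.Agent.S14788
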