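import Groth.Statements.S14797
import Groth.Agent.HensPoint.GeomUniTop
import Mathlib.AlgebraicGeometry.ZariskisMainTheorem
-- import your own Groth.Agent.* helpers here

set_option autoImplicit false
set_option backward.isDefEq.respectTransparency false
universe u
open CategoryTheory CategoryTheory.Limits AlgebraicGeometry
open Subtr

namespace Groth.Agent.S14797

/-- Let g : S' ⟶ S be a quasi-compact universally submersive morphism of schemes and f : X ⟶ S an étale
morphism whose base change X ×_S S' ⟶ S' is finite. Then f is finite. (The published statement
treats the properties universally closed, separated and quasi-compact one at a time as well; this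
row is the finite case. It assumes g universally subtrusive, using it only through universal
submersiveness and, for quasi-compactness, through the constructible topology; for quasi-compact g
universal submersiveness suffices by the same proof.) -/
theorem result {X S S' : Scheme.{u}} (g : S' ⟶ S)
    [QuasiCompact g] (hg : SGA1.UnivSubmersive g) (f : X ⟶ S) [Etale f]
    [IsFinite (pullback.snd f g)] : IsFinite f := by
  let f' := pullback.snd f g
  have hsm : ∀ {T T' : Scheme.{u}} (a : T ⟶ S) (q : T' ⟶ S') (π : T' ⟶ T), IsPullback q π g a →
      Topology.IsQuotientMap π.base := fun a q π hpb => hg q a π hpb.flip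
  -- separated
  let π := pullback.fst (pullback.fst f f ≫ f) g
  have hπ : Topology.IsQuotientMap π.base := hsm _ _ _ (IsPullback.of_hasPullback (pullback.fst f f ≫ f) g).flip
  let za := pullback.lift (π ≫ pullback.fst f f) (pullback.snd (pullback.fst f f ≫ f) g) (by rw [Category.assoc]; exact pullback.condition (f := pullback.fst f f ≫ f) (g := g)) (f := f) (g := g)
  let zb := pullback.lift (π ≫ pullback.snd f f) (pullback.snd (pullback.fst f f ≫ f) g) (by rw [Category.assoc, ← pullback.condition (f := f) (g := f)]; exact pullback.condition (f := pullback.fst f f ≫ f) (g := g)) (f := f) (g := g)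
  let z := pullback.lift za zb (by simp only [za, zb, f', pullback.lift_snd]) (f := f') (g := f')
  haveI : IsSeparated f := by
    haveI : IsSeparated f' := inferInstance
    haveI : IsPreimmersion (pullback.diagonal f) := inferInstance
    refine ⟨IsClosedImmersion.of_isPreimmersion _ (hπ.isClosed_preimage.1 ?_)⟩
    have e : π.base ⁻¹' Set.range (pullback.diagonal f) = Set.range (pullback.snd (pullback.diagonal f') z) := by
      ext t
      constructor
      · rintro ⟨x, hx⟩
        obtain ⟨w, -, hw⟩ := Scheme.Pullback.exists_preimage_pullback (f := pullback.diagonal f) (g := π) x t hx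
        let n := pullback.snd (pullback.diagonal f) π
        have hc := pullback.condition (f := pullback.diagonal f) (g := π)
        have e1 : n ≫ π ≫ pullback.fst f f = pullback.fst (pullback.diagonal f) π := by
          rw [← reassoc_of% hc, pullback.diagonal_fst, Category.comp_id]
        have e2 : n ≫ π ≫ pullback.snd f f = pullback.fst (pullback.diagonal f) π := by
          rw [← reassoc_of% hc, pullback.diagonal_snd, Category.comp_id]
        have hab : n ≫ za = n ≫ zb := by
          apply pullback.hom_ext <;> simp [za, zb, e1, e2]
        let w' := pullback.lift (n ≫ za) n (by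
          apply pullback.hom_ext <;> simp [z, hab]) (f := pullback.diagonal f') (g := z)
        refine ⟨w' w, ?_⟩
        rw [← Scheme.Hom.comp_apply, pullback.lift_snd]
        exact hw
      · rintro ⟨w, rfl⟩
        let m := pullback.snd (pullback.diagonal f') z
        have hc := pullback.condition (f := pullback.diagonal f') (g := z)
        have hab : m ≫ za = m ≫ zb := by
          have h1 := congr($hc ≫ pullback.fst f' f')
          have h2 := congr($hc ≫ pullback.snd f' f')
          simp [z] at h1 h2
          exact h1.symm.trans h2
        have e : m ≫ π = (m ≫ za ≫ pullback.fst f g) ≫ pullback.diagonal f := by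
          apply pullback.hom_ext
          · simp [za]
          · rw [Category.assoc, Category.assoc, pullback.diagonal_snd, Category.comp_id, reassoc_of% hab]
            simp [zb]
        refine ⟨(m ≫ za ≫ pullback.fst f g) w, ?_⟩
        show _ = π (m w)
        rw [← Scheme.Hom.comp_apply, ← e, Scheme.Hom.comp_apply]
    rw [e]
    exact (pullback.snd (pullback.diagonal f') z).isClosedEmbedding.isClosed_range
  haveI : Surjective g := by
    exact ⟨(hsm (𝟙 S) (𝟙 S') g IsPullback.of_id_fst).surjective⟩
  haveI : QuasiCompact f := by
    refine ⟨fun U hUo hUc => ?_⟩
    have := ((f'.isCompact_preimage (g.isCompact_preimage hUc (U := ⟨U, hUo⟩)))).image (pullback.fst f g).continuous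
    have e : (pullback.fst f g).base '' (f' ⁻¹' (g ⁻¹' U)) = f ⁻¹' U := by
      have : f'.base ⁻¹' (g ⁻¹' U) = (pullback.fst f g).base ⁻¹' (f ⁻¹' U) := by
        ext x
        show g (f' x) ∈ U ↔ f (pullback.fst f g x) ∈ U
        rw [← Scheme.Hom.comp_apply, ← Scheme.Hom.comp_apply, pullback.condition]
      rw [this]
      exact Set.image_preimage_eq _ (pullback.fst f g).surjective
    rw [← e]
    exact this
  haveI : UniversallyClosed f := by
    refine ⟨?_⟩
    intro X₁ T i₁ a h hpb' C hC
    have hpb := hpb'.flip
    let πT := pullback.fst a g
    have hπT : Topology.IsQuotientMap πT.base := hsm _ _ _ (IsPullback.of_hasPullback a g).flip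
    rw [← hπT.isClosed_preimage]
    let p := pullback.fst h πT
    let q := pullback.snd h πT
    have w : (p ≫ i₁) ≫ f = (q ≫ pullback.snd a g) ≫ g := by
      rw [Category.assoc, hpb.w, ← Category.assoc, pullback.condition, Category.assoc, pullback.condition, Category.assoc]
    let l := pullback.lift (p ≫ i₁) (q ≫ pullback.snd a g) w
    have big : IsPullback (p ≫ i₁) q f (pullback.snd a g ≫ g) := by
      rw [← pullback.condition (f := a) (g := g)]
      exact (IsPullback.of_hasPullback h πT).paste_horiz hpb
    have small : IsPullback l q f' (pullback.snd a g) := by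
      refine IsPullback.of_right ?_ (pullback.lift_snd _ _ w) (IsPullback.of_hasPullback f g)
      rwa [pullback.lift_fst]
    haveI : UniversallyClosed f' := inferInstance
    have hcl : IsClosedMap q.base := (‹UniversallyClosed f'›).universally_isClosedMap l (pullback.snd a g) q small.flip
    have e : πT.base ⁻¹' (h.base '' C) = q.base '' (p.base ⁻¹' C) := by
      ext t
      constructor
      · rintro ⟨x, hx, hxt⟩
        obtain ⟨w, hw1, hw2⟩ := Scheme.Pullback.exists_preimage_pullback (f := h) (g := πT) x t hxt
        exact ⟨w, by show p w ∈ C; rwa [hw1], hw2⟩
      · rintro ⟨w, hw, rfl⟩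
        refine ⟨p w, hw, ?_⟩
        show _ = πT (q w)
        rw [← Scheme.Hom.comp_apply, pullback.condition, Scheme.Hom.comp_apply]
    rw [e]
    exact hcl _ (hC.preimage p.continuous)
  haveI : IsProper f := {}
  haveI : LocallyQuasiFinite f := HensPoint.GeomUniTop.locallyQuasiFinite f
  exact IsFinite.of_isProper_of_locallyQuasiFinite f

end Groth.Agent.S14797
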