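import Groth.Statements.S14799
import Mathlib

set_option autoImplicit false
open HJFrac

namespace Groth.Agent.S14799

/-- Let 0 < r < n be coprime integers and n/r = b₁ - 1/(b₂ - 1/(⋯ - 1/b_λ)) the Hirzebruch–Jung
expansion (λ ≥ 1, every b_i ≥ 2); let m₁, m₂ be positive integers prime to n with r m₂ + m₁ ≡ 0 mod
n, and let μ₁, …, μ_λ be positive integers with b_i μ_i = μ_{i-1} + μ_{i+1} for 1 ≤ i ≤ λ, where μ₀
= m₂ and μ_{λ+1} = m₁. Then gcd(m₁, μ₁, …, μ_λ, m₂) = gcd(m₁, m₂); equivalently gcd(m₁, m₂) divides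
every μ_i. -/
theorem result (l : ℕ) (hl : 1 ≤ l) (b : ℕ → ℤ)
    (hb : ∀ i, 1 ≤ i → i ≤ l → 2 ≤ b i)
    (n r : ℕ) (hr : 0 < r) (hrn : r < n) (hcop : Nat.Coprime r n)
    (hhj : (n : ℚ) / r = HJFrac.hjVal ((List.range l).map fun i => b (i + 1)))
    (m₁ m₂ : ℕ) (hm₁ : 0 < m₁) (hm₂ : 0 < m₂) (h₁ : Nat.Coprime m₁ n) (h₂ : Nat.Coprime m₂ n)
    (hdvd : (n : ℤ) ∣ r * m₂ + m₁)
    (μ : ℕ → ℤ) (hμ0 : μ 0 = m₂) (hμl : μ (l + 1) = m₁) (hμpos : ∀ i, i ≤ l + 1 → 0 < μ i)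
    (hsys : ∀ i, 1 ≤ i → i ≤ l → b i * μ i = μ (i - 1) + μ (i + 1)) :
    ∀ i, i ≤ l + 1 → ((Nat.gcd m₁ m₂ : ℕ) : ℤ) ∣ μ i := by
  have hone : ∀ L : List ℤ, (∀ x ∈ L, 2 ≤ x) → L ≠ [] → (1 : ℚ) < HJFrac.hjVal L := by
    intro L
    induction L with
    | nil => intro _ h; exact absurd rfl h
    | cons a L ih =>
      intro h _
      have ha : (2 : ℚ) ≤ (a : ℚ) := by exact_mod_cast h a (by simp)
      rcases eq_or_ne L [] with rfl | hL
      · simp only [HJFrac.hjVal, inv_zero]; linarith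
      · have := ih (fun x hx => h x (List.mem_cons_of_mem _ hx)) hL
        have h2 : (HJFrac.hjVal L)⁻¹ < 1 := inv_lt_one_of_one_lt₀ this
        simp only [HJFrac.hjVal]; linarith
  set c := (List.range l).map fun i => b (i + 1) with hc
  have hlen : c.length = l := by simp [hc]
  let X : ℕ → ℚ := fun i => HJFrac.hjVal (c.drop i)
  have hXl : X l = 0 := by simp [X, List.drop_eq_nil_of_le, hlen, HJFrac.hjVal]
  have hXrec : ∀ i, i < l → X i = (b (i + 1) : ℚ) - (X (i + 1))⁻¹ := by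
    intro i hi
    simp only [X]
    rw [List.drop_eq_getElem_cons (by omega : i < c.length)]
    simp [HJFrac.hjVal, hc]
  have hXne : ∀ i, i < l → X i ≠ 0 := by
    intro i hi
    have : 1 < X i := hone _ (fun x hx => by
      obtain ⟨j, hj, rfl⟩ := List.mem_map.mp (List.mem_of_mem_drop hx)
      rw [List.mem_range] at hj
      exact hb _ (by omega) (by omega)) (by
      intro h
      have := congrArg List.length h
      simp [hlen] at this
      omega)
    linarith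
  let ρ : ℕ → ℚ := fun i => Nat.rec (n : ℚ) (fun j acc => acc * (X j)⁻¹) i
  have hρs : ∀ i, ρ (i + 1) = ρ i * (X i)⁻¹ := fun i => rfl
  have hρ1 : ρ 1 = r := by
    rw [show (1:ℕ) = 0 + 1 from rfl, hρs]
    have : X 0 = (n : ℚ) / r := by simp [X, hhj]
    rw [this, inv_div]
    show (n : ℚ) * _ = _
    have : (n : ℚ) ≠ 0 := by exact_mod_cast (by omega : n ≠ 0)
    field_simp
  have hrec : ∀ i, i < l → ρ (i + 2) = b (i + 1) * ρ (i + 1) - ρ i := by
    intro i hi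
    rw [hρs (i + 1)]
    have h1 : ρ (i + 1) * X i = ρ i := by rw [hρs]; field_simp [hXne i hi]
    have h2 := hXrec i hi
    linear_combination ρ (i + 1) * h2 - h1
  have hint : ∀ i, i ≤ l → ∃ z w : ℤ, ρ i = z ∧ ρ (i + 1) = w := by
    intro i
    induction i with
    | zero => intro _; exact ⟨n, r, by simp [ρ], by simpa using hρ1⟩
    | succ i ih =>
      intro hi
      obtain ⟨z, w, hz, hw⟩ := ih (by omega)
      exact ⟨w, b (i + 1) * w - z, hw, by rw [hrec i (by omega), hz, hw]; push_cast; ring⟩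
  have hW : ∀ i, i ≤ l → ρ i * μ (i + 1) - ρ (i + 1) * μ i = (n : ℚ) * μ 1 - r * μ 0 := by
    intro i
    induction i with
    | zero => intro _; rw [show (0:ℕ) + 1 = 1 from rfl, hρ1]; rfl
    | succ i ih =>
      intro hi
      rw [← ih (by omega), hrec i (by omega)]
      have := hsys (i + 1) (by omega) hi
      simp only [Nat.add_sub_cancel] at this
      have hq : (b (i + 1) : ℚ) * μ (i + 1) = μ i + μ (i + 2) := by exact_mod_cast this
      linear_combination -(ρ (i + 1)) * hq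
  have hend : ρ (l + 1) = 0 := by rw [hρs, hXl]; simp
  obtain ⟨z, w, hz, -⟩ := hint l le_rfl
  have hfin := hW l le_rfl
  rw [hend, hz, hμl, hμ0] at hfin
  have hzint : (n : ℤ) * μ 1 = z * m₁ + r * m₂ := by
    have : ((n : ℤ) * μ 1 : ℚ) = ((z * m₁ + r * m₂ : ℤ) : ℚ) := by
      push_cast at hfin ⊢; linear_combination -hfin
    exact_mod_cast this
  have hg1 : ((Nat.gcd m₁ m₂ : ℕ) : ℤ) ∣ m₁ := by exact_mod_cast Nat.gcd_dvd_left m₁ m₂
  have hg2 : ((Nat.gcd m₁ m₂ : ℕ) : ℤ) ∣ m₂ := by exact_mod_cast Nat.gcd_dvd_right m₁ m₂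
  have hμ1 : ((Nat.gcd m₁ m₂ : ℕ) : ℤ) ∣ μ 1 := by
    refine IsCoprime.dvd_of_dvd_mul_left ?_ (hzint ▸ dvd_add (hg1.mul_left z) (hg2.mul_left r))
    exact Nat.Coprime.isCoprime (Nat.Coprime.coprime_dvd_left (Nat.gcd_dvd_left m₁ m₂) h₁)
  have hall : ∀ i, i ≤ l → ((Nat.gcd m₁ m₂ : ℕ) : ℤ) ∣ μ i ∧ ((Nat.gcd m₁ m₂ : ℕ) : ℤ) ∣ μ (i + 1) := by
    intro i
    induction i with
    | zero => intro _; exact ⟨hμ0 ▸ hg2, hμ1⟩
    | succ i ih =>
      intro hi
      obtain ⟨a, b'⟩ := ih (by omega)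
      refine ⟨b', ?_⟩
      have := hsys (i + 1) (by omega) hi
      simp only [Nat.add_sub_cancel] at this
      have h3 : μ (i + 1 + 1) = b (i + 1) * μ (i + 1) - μ i := by linarith
      rw [h3]
      exact dvd_sub (b'.mul_left _) a
  intro i hi
  rcases Nat.lt_or_ge i (l + 1) with h | h
  · exact (hall i (by omega)).1
  · obtain rfl : i = l + 1 := by omega
    exact hμl ▸ hg1

end Groth.Agent.S14799
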