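import Groth.Statements.S14807
import Mathlib
-- import your own Groth.Agent.* helpers here

set_option autoImplicit false
universe u
open CAlg

namespace Groth.Agent.S14807

/-- Let G be a finite abelian group, written additively, and ℓ a prime number. Every sequence (g_n)_{n ≥
0} of elements of G with ℓ^n · g_n = 0 and ℓ · g_{n+1} = g_n for all n is identically zero; in other
words the inverse limit of the subgroups of ℓ^n-torsion elements, with transition maps
multiplication by ℓ, vanishes. -/
theorem result (G : Type u) [AddCommGroup G] [Finite G]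
    (ℓ : ℕ) (hℓ : ℓ.Prime) (g : ℕ → G) (htor : ∀ n : ℕ, ℓ ^ n • g n = 0)
    (hcomp : ∀ n : ℕ, ℓ • g (n + 1) = g n) (n : ℕ) : g n = 0 := by
  classical
  haveI := Fintype.ofFinite G
  let N := Fintype.card G
  have hkill : ∀ m, ℓ ^ N • g m = 0 := by
    intro m
    obtain ⟨a, -, ha⟩ := (Nat.dvd_prime_pow hℓ).mp (addOrderOf_dvd_of_nsmul_eq_zero (htor m))
    have hle : ℓ ^ a ≤ N := ha ▸ addOrderOf_le_card_univ
    have haN : a ≤ N := (Nat.lt_pow_self hℓ.one_lt).le.trans hle
    refine addOrderOf_dvd_iff_nsmul_eq_zero.mp ?_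
    rw [ha]; exact pow_dvd_pow ℓ haN
  have hit : ∀ k, ℓ ^ k • g (n + k) = g n := by
    intro k
    induction k with
    | zero => simp
    | succ k ih => rw [pow_succ, mul_smul, ← add_assoc, hcomp, ih]
  rw [← hit N, hkill]

end Groth.Agent.S14807
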