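import Groth.Statements.S14839
import Groth.Agent.HopfRep.Coalg

set_option autoImplicit false
universe u v
open HopfRep

namespace Groth.Agent.S14839

open TensorProduct in
/-- Over a field K, every simple coalgebra is finite-dimensional. Here a subcoalgebra of C is a subspace
B whose comultiplication lands in the image of B ⊗ B in C ⊗ C, and C is simple when it is nonzero
and its only subcoalgebras are 0 and C. -/
theorem result {K : Type u} {C : Type v} [Field K] [AddCommGroup C]
    [Module K C] [Coalgebra K C] [Nontrivial C]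
    (hsimple : ∀ B : Submodule K C,
      (∀ b ∈ B, CoalgebraStruct.comul (R := K) b ∈ LinearMap.range (TensorProduct.map B.subtype B.subtype)) →
        B = ⊥ ∨ B = ⊤) :
    Module.Finite K C := by
  open Groth.Agent.HopfRep in
  classical
  have htop : Coalg.IsSubcoalg K (⊤ : Submodule K C) := Coalg.isSubcoalg_iff.2
    ⟨Slice.isSubcomod_iff.2 fun _ _ _ => Submodule.mem_top, fun _ _ _ => Submodule.mem_top⟩
  obtain ⟨x, hx⟩ := exists_ne (0 : C)
  let S := Slice.gen K C x
  have hS : HopfRep.IsSubcomod (k := K) (A := C) S := Slice.isSubcomod_gen x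
  have hT : Coalg.span2 S = ⊤ := (hsimple _ (Coalg.isSubcoalg_span2 hS)).resolve_left fun h =>
    hx ((Submodule.eq_bot_iff _).1 h x (Coalg.le_span2 S (Slice.mem_gen_self x)))
  obtain ⟨T, hT'⟩ := (Module.Finite.iff_fg.1 (inferInstance : Module.Finite K S))
  choose F hF using fun s : C => TensorProduct.exists_finset (R := K) (Coalgebra.comul (R := K) s)
  let G : Finset C := T.biUnion fun s => (F s).image Prod.snd
  have hle : Coalg.span2 S ≤ Submodule.span K (G : Set C) := by
    refine iSup_le fun φ => ?_
    rw [← hT', Submodule.map_span, Submodule.span_le]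
    rintro _ ⟨s, hs, rfl⟩
    show Flag.dcontr C φ (Coalgebra.comul (R := K) s) ∈ _
    rw [hF s, map_sum]
    refine Submodule.sum_mem _ fun p hp => ?_
    rw [Flag.dcontr_tmul]
    refine Submodule.smul_mem _ _ (Submodule.subset_span ?_)
    exact Finset.mem_coe.2 (Finset.mem_biUnion.2 ⟨s, hs, Finset.mem_image_of_mem _ hp⟩)
  exact ⟨⟨G, top_le_iff.1 (hT ▸ hle)⟩⟩

end Groth.Agent.S14839
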