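import Groth.Statements.S14841
import Mathlib.LinearAlgebra.TensorProduct.RightExactness
import Mathlib.LinearAlgebra.TensorProduct.Basis
import Mathlib.RingTheory.SimpleModule.Basic
import Mathlib.Algebra.Algebra.Subalgebra.Basic
import Mathlib.LinearAlgebra.FreeModule.Basic
import Mathlib.LinearAlgebra.Dual.Lemmas

set_option autoImplicit false
universe u v w
open HopfRep

namespace Groth.Agent.S14841

open TensorProduct in
/-- Over a field K, let C be a coalgebra and E a simple right C-comodule, and let D be the coefficient
space of E, the least subspace D' of C such that the coaction of E lands in E ⊗ D'. Then D is a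
simple subcoalgebra of C: it is nonzero, its comultiplication lands in the image of D ⊗ D, and any
subcoalgebra of C contained in D is 0 or D. Here a subcoalgebra of C is a subspace B whose
comultiplication lands in the image of B ⊗ B, and a simple subcoalgebra is a nonzero subcoalgebra D
whose only subcoalgebras contained in D are 0 and D. (Stated for right comodules; the published
statement is for left comodules, with D' ⊗ E in place of E ⊗ D'.) -/
theorem result {K : Type u} {C : Type v} [Field K]
    [AddCommGroup C] [Module K C] [Coalgebra K C]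
    {E : Type w} [AddCommGroup E] [Module K E] [HopfRep.Comod K C E]
    (hE : HopfRep.IsSimpleComod K C E) (D : Submodule K C)
    (hD : IsLeast {D' : Submodule K C |
      ∀ e : E, HopfRep.Comod.coact (k := K) (A := C) e ∈ LinearMap.range (LinearMap.lTensor E D'.subtype)} D) :
    D ≠ ⊥ ∧ (∀ b ∈ D, CoalgebraStruct.comul (R := K) b ∈ LinearMap.range (TensorProduct.map D.subtype D.subtype)) ∧
      ∀ B : Submodule K C, B ≤ D → (∀ b ∈ B, CoalgebraStruct.comul (R := K) b ∈ LinearMap.range (TensorProduct.map B.subtype B.subtype)) → B = ⊥ ∨ B = D := by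
  classical
  let ρ : E →ₗ[K] E ⊗[K] C := HopfRep.Comod.coact
  let S : Module.Dual K C → E ⊗[K] C →ₗ[K] E := fun x => (TensorProduct.rid K E).toLinearMap ∘ₗ x.lTensor E
  let T : Module.Dual K C → Module.End K E := fun x => S x ∘ₗ ρ
  let conv : Module.Dual K C → Module.Dual K C → Module.Dual K C := fun x y =>
    LinearMap.mul' K K ∘ₗ TensorProduct.map x y ∘ₗ CoalgebraStruct.comul
  have hSt : ∀ (x : Module.Dual K C) (e : E) (c : C), S x (e ⊗ₜ[K] c) = x c • e := fun x e c => by simp [S]
  have slice : ∀ (W : Submodule K E) (z : E ⊗[K] C), (∀ x, S x z ∈ W) →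
      z ∈ LinearMap.range (W.subtype.rTensor C) := by
    intro W z hz
    rw [← (rTensor_exact C (LinearMap.exact_subtype_mkQ W) W.mkQ_surjective).linearMap_ker_eq, LinearMap.mem_ker]
    refine (TensorProduct.equivFinsuppOfBasisRight (Module.Free.chooseBasis K C)).injective ?_
    rw [map_zero]
    ext i
    have key : ∀ z' : E ⊗[K] C, TensorProduct.equivFinsuppOfBasisRight (Module.Free.chooseBasis K C) (W.mkQ.rTensor C z') i =
        W.mkQ (S ((Module.Free.chooseBasis K C).coord i) z') := by
      intro z'
      induction z' using TensorProduct.induction_on with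
      | zero => simp
      | tmul e c => simp [hSt]
      | add u v hu hv => simp [hu, hv]
    rw [key, Finsupp.zero_apply, Submodule.mkQ_apply, Submodule.Quotient.mk_eq_zero]
    exact hz _
  have sliceR : ∀ (B : Submodule K C) (z : E ⊗[K] C), (∀ x : Module.Dual K C, (∀ b ∈ B, x b = 0) → S x z = 0) →
      z ∈ LinearMap.range (LinearMap.lTensor E B.subtype) := by
    intro B z hz
    rw [← (lTensor_exact E (LinearMap.exact_subtype_mkQ B) B.mkQ_surjective).linearMap_ker_eq, LinearMap.mem_ker]
    refine (TensorProduct.equivFinsuppOfBasisRight (Module.Free.chooseBasis K (C ⧸ B))).injective ?_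
    rw [map_zero]
    ext i
    have key : ∀ z' : E ⊗[K] C, TensorProduct.equivFinsuppOfBasisRight (Module.Free.chooseBasis K (C ⧸ B)) (B.mkQ.lTensor E z') i =
        S ((Module.Free.chooseBasis K (C ⧸ B)).coord i ∘ₗ B.mkQ) z' := by
      intro z'
      induction z' using TensorProduct.induction_on with
      | zero => simp
      | tmul e c => simp [hSt]
      | add u v hu hv => simp [hu, hv]
    rw [key, Finsupp.zero_apply]
    refine hz _ fun b hb => ?_
    simp [(Submodule.Quotient.mk_eq_zero B).mpr hb]
  have Tmul : ∀ x y e, T x (T y e) = T (conv x y) e := by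
    intro x y e
    let Φ : E ⊗[K] (C ⊗[K] C) →ₗ[K] E := (TensorProduct.rid K E).toLinearMap ∘ₗ
      (LinearMap.mul' K K ∘ₗ TensorProduct.map x y).lTensor E
    have h1 : ∀ z : E ⊗[K] C, S (conv x y) z = Φ (CoalgebraStruct.comul.lTensor E z) := by
      intro z
      induction z using TensorProduct.induction_on with
      | zero => simp
      | tmul e c => simp [hSt, Φ, conv]
      | add u v hu hv => simp [hu, hv]
    have h2 : ∀ z : E ⊗[K] C, T x (S y z) = Φ (TensorProduct.assoc K E C C (ρ.rTensor C z)) := by
      intro z
      induction z using TensorProduct.induction_on with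
      | zero => simp
      | tmul e c =>
        simp only [hSt, map_smul, LinearMap.rTensor_tmul, T, LinearMap.comp_apply]
        generalize ρ e = w
        induction w using TensorProduct.induction_on with
        | zero => simp
        | tmul e' c' => simp [hSt, Φ, smul_smul, mul_comm]
        | add u v hu hv => simp [hu, hv, TensorProduct.add_tmul]
      | add u v hu hv => simp [hu, hv]
    show T x (S y (ρ e)) = S (conv x y) (ρ e)
    rw [h1, h2]
    exact congrArg Φ (LinearMap.congr_fun (HopfRep.Comod.coassoc (k := K) (A := C) (V := E)) e)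
  have hinv : ∀ W : Submodule K E, (∀ x, ∀ w ∈ W, T x w ∈ W) → W = ⊥ ∨ W = ⊤ := fun W hW =>
    hE.2 W fun w hw => slice W _ fun x => hW x w hw
  -- the coefficient functionals
  let cf : Module.Dual K E → E →ₗ[K] C := fun φ => (TensorProduct.lid K C).toLinearMap ∘ₗ φ.rTensor C ∘ₗ ρ
  let D0 : Submodule K C := Submodule.span K (Set.range fun q : Module.Dual K E × E => cf q.1 q.2)
  have hD0 : D ≤ D0 := hD.2 fun e => by
    refine sliceR D0 _ fun x hx => ?_
    refine (Module.forall_dual_apply_eq_zero_iff K _).mp fun φ => ?_
    have : ∀ z : E ⊗[K] C, φ (S x z) = x ((TensorProduct.lid K C) (φ.rTensor C z)) := by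
      intro z
      induction z using TensorProduct.induction_on with
      | zero => simp
      | tmul e c => simp [hSt, mul_comm]
      | add u v hu hv => simp [hu, hv]
    rw [this]
    exact hx _ (Submodule.subset_span ⟨(φ, e), rfl⟩)
  have hsub : ∀ b ∈ D, CoalgebraStruct.comul (R := K) b ∈ LinearMap.range (TensorProduct.map D.subtype D.subtype) := by
    intro b hb
    have hb' := hD0 hb
    clear hb
    induction hb' using Submodule.span_induction with
    | mem z hz =>
      obtain ⟨⟨φ, e⟩, rfl⟩ := hz
      let Ψ : E ⊗[K] (C ⊗[K] C) →ₗ[K] C ⊗[K] C := (TensorProduct.lid K (C ⊗[K] C)).toLinearMap ∘ₗ φ.rTensor _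
      have h1 : ∀ z : E ⊗[K] C, CoalgebraStruct.comul ((TensorProduct.lid K C) (φ.rTensor C z)) =
          Ψ (CoalgebraStruct.comul.lTensor E z) := by
        intro z
        induction z using TensorProduct.induction_on with
        | zero => simp
        | tmul e c => simp [Ψ]
        | add u v hu hv => simp [hu, hv]
      show CoalgebraStruct.comul ((TensorProduct.lid K C) (φ.rTensor C (ρ e))) ∈ _
      rw [h1, show CoalgebraStruct.comul.lTensor E (ρ e) = TensorProduct.assoc K E C C (ρ.rTensor C (ρ e)) from
        (LinearMap.congr_fun (HopfRep.Comod.coassoc (k := K) (A := C) (V := E)) e).symm]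
      obtain ⟨z, hz⟩ := hD.1 e
      rw [show ρ e = _ from hz.symm]
      clear hz
      induction z using TensorProduct.induction_on with
      | zero => simp
      | tmul e' d =>
        obtain ⟨z', hz'⟩ := hD.1 e'
        rw [LinearMap.lTensor_tmul, LinearMap.rTensor_tmul, show ρ e' = _ from hz'.symm]
        clear hz'
        induction z' using TensorProduct.induction_on with
        | zero => simp
        | tmul e'' d' =>
          refine ⟨φ e'' • (d' ⊗ₜ[K] d), ?_⟩
          simp [Ψ]
        | add u v hu hv => simp only [map_add, TensorProduct.add_tmul]; exact add_mem hu hv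
      | add u v hu hv => simp only [map_add]; exact add_mem hu hv
    | zero => simp
    | add u v _ _ hu hv => rw [map_add]; exact add_mem hu hv
    | smul a u _ hu => rw [map_smul]; exact Submodule.smul_mem _ a hu
  refine ⟨?_, hsub, fun B hBD hB => ?_⟩
  · intro h0
    haveI := hE.1
    obtain ⟨e, he⟩ := exists_ne (0 : E)
    refine he ?_
    obtain ⟨z, hz⟩ := hD.1 e
    have hz0 : ρ e = 0 := by
      rw [show ρ e = _ from hz.symm, show D.subtype = 0 from LinearMap.ext fun x => (Submodule.eq_bot_iff D).mp h0 _ x.2,
        LinearMap.lTensor_zero, LinearMap.zero_apply]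
    have h := LinearMap.congr_fun (HopfRep.Comod.counit_comp (k := K) (A := C) (V := E)) e
    rw [LinearMap.comp_apply, show HopfRep.Comod.coact e = ρ e from rfl, hz0, map_zero] at h
    have h' := congrArg (TensorProduct.rid K E) h
    simpa using h'.symm
  let Bo : Submodule K (Module.Dual K C) := B.dualAnnihilator
  have hconvR : ∀ x, ∀ y ∈ Bo, conv x y ∈ Bo ∧ conv y x ∈ Bo := by
    intro x y hy
    simp only [Bo, Submodule.mem_dualAnnihilator] at hy ⊢
    constructor <;> intro b hb <;> obtain ⟨z, hz⟩ := hB b hb <;>
      simp only [conv, LinearMap.comp_apply, ← hz] <;> clear hz <;>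
      induction z using TensorProduct.induction_on with
      | zero => simp
      | tmul u v => simp [hy _ u.2, hy _ v.2]
      | add u v hu hv => simp [hu, hv]
  let W : Submodule K E := ⨅ y ∈ Bo, LinearMap.ker (T y)
  have hmemW : ∀ e, e ∈ W ↔ ∀ y ∈ Bo, T y e = 0 := fun e => by simp [W]
  rcases hinv W (fun x w hw => (hmemW _).mpr fun y hy => by
    rw [Tmul]; exact (hmemW _).mp hw _ (hconvR x y hy).2) with hW | hW
  swap
  · exact Or.inr (le_antisymm hBD (hD.2 fun e => sliceR B _ fun x hx =>
      (hmemW e).mp (hW ▸ Submodule.mem_top) x ((Submodule.mem_dualAnnihilator x).mpr hx)))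
  left
  rw [Submodule.eq_bot_iff]
  intro b hb
  let SA : Subalgebra K (Module.End K E) := Algebra.adjoin K (Set.range T)
  haveI := hE.1
  haveI : IsSimpleModule SA E :=
    { eq_bot_or_eq_top := fun U => by
        rcases hinv (U.restrictScalars K) (fun x w hw =>
          U.smul_mem (⟨T x, Algebra.subset_adjoin ⟨x, rfl⟩⟩ : SA) hw) with h | h
        · exact Or.inl ((Submodule.restrictScalars_eq_bot_iff (S := K) (p := U)).mp h)
        · exact Or.inr ((Submodule.restrictScalars_eq_top_iff (S := K) (p := U)).mp h) }
  obtain ⟨s, hs⟩ := Finsupp.mem_span_range_iff_exists_finsupp.mp (hD0 (hBD hb))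
  let v : s.support → E := fun q => (q : Module.Dual K E × E).2
  let g : Bo →ₗ[K] (s.support → E) :=
    { toFun := fun y q => T y (v q)
      map_add' := fun a a' => funext fun q => by simp [T, S, LinearMap.lTensor_add]
      map_smul' := fun a y => funext fun q => by simp [T, S, LinearMap.lTensor_smul] }
  have hN : ∀ t ∈ SA, ∀ u ∈ LinearMap.range g, (fun q => t (u q)) ∈ LinearMap.range g := by
    intro t ht
    induction ht using Algebra.adjoin_induction with
    | mem t ht =>
      obtain ⟨x, rfl⟩ := ht
      rintro _ ⟨y, rfl⟩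
      exact ⟨⟨conv x y, (hconvR x y y.2).1⟩, funext fun q => (Tmul x y (v q)).symm⟩
    | algebraMap a =>
      intro u hu
      rw [show (fun q => (algebraMap K (Module.End K E) a) (u q)) = a • u from funext fun q => by simp]
      exact Submodule.smul_mem _ a hu
    | add t t' _ _ h h' => intro u hu; exact add_mem (h u hu) (h' u hu)
    | mul t t' _ _ h h' => intro u hu; exact h _ (h' u hu)
  let N : Submodule SA (s.support → E) :=
    { (LinearMap.range g).toAddSubmonoid with
      smul_mem' := fun t u hu => hN t.1 t.2 u hu }
  obtain ⟨N', hN'⟩ := exists_isCompl N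
  have hw : N'.projectionOnto N hN'.symm v = 0 := by
    refine Subtype.ext (funext fun q => (Submodule.eq_bot_iff W).mp hW _ ((hmemW _).mpr fun y hy => ?_))
    have h := map_smul (N'.projectionOnto N hN'.symm) (⟨T y, Algebra.subset_adjoin ⟨y, rfl⟩⟩ : SA) v
    have hm : (⟨T y, Algebra.subset_adjoin ⟨y, rfl⟩⟩ : SA) • v ∈ N := ⟨⟨y, hy⟩, rfl⟩
    rw [Submodule.projectionOnto_apply_right hN'.symm ⟨_, hm⟩] at h
    exact (congrFun (congrArg Subtype.val h) q).symm
  obtain ⟨y, hy⟩ : v ∈ LinearMap.range g := (Submodule.projectionOnto_apply_eq_zero_iff hN'.symm).mp hw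
  refine (Module.forall_dual_apply_eq_zero_iff K b).mp fun x => ?_
  have key : ∀ x' : Module.Dual K C, x' b = s.sum fun q a => a * q.1 (T x' q.2) := by
    intro x'
    rw [← hs, map_finsuppSum]
    refine Finsupp.sum_congr fun q _ => ?_
    rw [map_smul, smul_eq_mul]
    congr 1
    show x' ((TensorProduct.lid K C) (q.1.rTensor C (ρ q.2))) = q.1 (S x' (ρ q.2))
    induction ρ q.2 using TensorProduct.induction_on with
    | zero => simp
    | tmul e c => simp [hSt, mul_comm]
    | add u w hu hw => simp [hu, hw]
  rw [key, ← (Submodule.mem_dualAnnihilator _).mp (hconvR x y y.2).1 b hb, key]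
  refine Finsupp.sum_congr fun q hq => ?_
  rw [← Tmul]
  exact congrArg (fun e => s q * q.1 (T x e)) (congrFun hy ⟨q, hq⟩).symm

end Groth.Agent.S14841
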