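import Groth.Statements.S14842
import Groth.Agent.HopfRep.Coalg

set_option autoImplicit false
universe u v
open HopfRep

namespace Groth.Agent.S14842

open TensorProduct in
/-- Over a field K, every simple subcoalgebra D of a coalgebra C is the coefficient space of a simple
comodule. Precisely: there is a subspace E of C contained in D which is a simple subcomodule of the
regular right comodule C (E is nonzero, stable under the coaction, and its only subcomodules are 0
and E) and such that D is the least subspace D' of C with comul(E) inside the image of E ⊗ D'. Here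
a subcoalgebra of C is a subspace B whose comultiplication lands in the image of B ⊗ B, and a simple
subcoalgebra is a nonzero subcoalgebra D whose only subcoalgebras contained in D are 0 and D.
(Stated for right comodules; the published statement is for left comodules.) -/
theorem result {K : Type u} {C : Type v} [Field K]
    [AddCommGroup C] [Module K C] [Coalgebra K C]
    (D : Submodule K C) (hD0 : D ≠ ⊥) (hD : (∀ b ∈ D, CoalgebraStruct.comul (R := K) b ∈ LinearMap.range (TensorProduct.map D.subtype D.subtype)))
    (hDs : ∀ B : Submodule K C, B ≤ D → (∀ b ∈ B, CoalgebraStruct.comul (R := K) b ∈ LinearMap.range (TensorProduct.map B.subtype B.subtype)) → B = ⊥ ∨ B = D) :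
    ∃ E : Submodule K C, E ≤ D ∧ E ≠ ⊥ ∧ HopfRep.IsSubcomod (k := K) (A := C) E ∧
      (∀ E' : Submodule K C, E' ≤ E → HopfRep.IsSubcomod (k := K) (A := C) E' → E' = ⊥ ∨ E' = E) ∧
      IsLeast {D' : Submodule K C |
        ∀ e ∈ E, CoalgebraStruct.comul (R := K) e ∈ LinearMap.range (TensorProduct.map E.subtype D'.subtype)} D := by
  open Groth.Agent.HopfRep in
  classical
  obtain ⟨E, hE, hle⟩ := Coalg.exists_atom_le_subcoalg (B := D) hD hD0
  have hT : Coalg.span2 E = D := (hDs _ (Coalg.span2_le hD hle) (Coalg.isSubcoalg_span2 hE.1)).resolve_left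
    fun h => hE.2.1 (le_bot_iff.1 (h ▸ Coalg.le_span2 E))
  refine ⟨E, hle, hE.2.1, hE.1, fun E' h1 h2 => hE.2.2 E' h2 h1, fun e he => ?_, fun D' hD' => ?_⟩
  · obtain ⟨y, hy⟩ := hE.1 e he
    have hy' : y ∈ LinearMap.range (D.subtype.lTensor E) := by
      refine (Coalg.mem_range_lTensor_iff D y).2 fun φ => ?_
      obtain ⟨ψ, hψ⟩ := LinearMap.exists_extend φ
      have := (Coalg.isSubcoalg_iff.1 hD).2 ψ e (hle he)
      change Flag.dcontr C ψ (HopfRep.Comod.coact (k := K) (A := C) e) ∈ D at this
      rwa [← hy, Coalg.dcontr_rTensor, hψ] at this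
    obtain ⟨z, rfl⟩ := hy'
    refine ⟨z, ?_⟩
    rw [← LinearMap.rTensor_comp_lTensor, LinearMap.comp_apply]
    exact hy
  · rw [← hT]
    refine iSup_le fun φ => ?_
    rintro _ ⟨e, he, rfl⟩
    obtain ⟨y, hy⟩ := hD' e he
    show Flag.dcontr C φ (Coalgebra.comul (R := K) e) ∈ D'
    rw [← hy, ← LinearMap.lTensor_comp_rTensor, LinearMap.comp_apply, Coalg.dcontr_lTensor]
    exact (Flag.dcontr D' φ _).2

end Groth.Agent.S14842
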