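import Groth.Statements.S14843
import Groth.Agent.HopfRep.Coalg

set_option autoImplicit false
universe u v
open HopfRep

namespace Groth.Agent.S14843

open TensorProduct in
/-- Over a field K, a coalgebra C is cosemisimple, i.e. C is the internal direct sum of a family of
simple subcoalgebras, if and only if every right C-comodule is completely reducible (every
subcomodule admits a complementary subcomodule). Here a subcoalgebra of C is a subspace B whose
comultiplication lands in the image of B ⊗ B, and a simple subcoalgebra is a nonzero subcoalgebra D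
whose only subcoalgebras contained in D are 0 and D. (Comodules are quantified in the universe of C;
the published statement is for left comodules, and the equivalence of 'direct sum of simple
subcomodules' with 'every subcomodule is a direct summand' is the standard one.) -/
theorem result {K : Type u} {C : Type v} [Field K]
    [AddCommGroup C] [Module K C] [Coalgebra K C] :
    (∃ (ι : Type v) (D : ι → Submodule K C), iSupIndep D ∧ iSup D = ⊤ ∧ ∀ i,
        D i ≠ ⊥ ∧ (∀ b ∈ D i, CoalgebraStruct.comul (R := K) b ∈ LinearMap.range (TensorProduct.map (D i).subtype (D i).subtype)) ∧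
        ∀ B : Submodule K C, B ≤ D i → (∀ b ∈ B, CoalgebraStruct.comul (R := K) b ∈ LinearMap.range (TensorProduct.map B.subtype B.subtype)) → B = ⊥ ∨ B = D i) ↔
      ∀ (V : Type v) [AddCommGroup V] [Module K V] [HopfRep.Comod K C V],
        HopfRep.IsSemisimpleComod K C V := by
  open Groth.Agent.HopfRep in
  classical
  constructor
  · rintro ⟨ι, D, -, htop, hD⟩ V _ _ _
    refine Coalg.isSemisimple_of_regular (Coalg.isSemisimple_of_atoms (top_le_iff.1 ?_))
    rw [← htop]
    exact iSup_le fun i => Coalg.le_soc (hD i).2.1 (hD i).1 fun X hX hXs => (hD i).2.2 X hX hXs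
  · intro h
    have hC : HopfRep.IsSemisimpleComod K C C := h C
    let ι : Type v := {B : Submodule K C // Coalg.IsSubcoalg K B ∧ B ≠ ⊥ ∧
      ∀ X : Submodule K C, X ≤ B → Coalg.IsSubcoalg K X → X = ⊥ ∨ X = B}
    refine ⟨ι, fun B => B.1, ?_, eq_top_iff.2 ?_, fun B => ⟨B.2.2.1, B.2.1, fun X hX hXs => B.2.2.2 X hX hXs⟩⟩
    · rw [iSupIndep_def]
      intro B
      rw [disjoint_iff]
      by_contra hne
      have hsub : Coalg.IsSubcoalg K (⨆ (B' : ι) (_ : B' ≠ B), B'.1) :=
        Coalg.isSubcoalg_iSup fun B' => Coalg.isSubcoalg_iSup fun _ => B'.2.1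
      have hX := Coalg.isSubcoalg_inf B.2.1 hsub
      rcases B.2.2.2 _ inf_le_left hX with h0 | h0
      · exact hne h0
      have hle : B.1 ≤ ⨆ (B' : ι) (_ : B' ≠ B), B'.1 := inf_eq_left.1 h0
      obtain ⟨S, hS, hSB⟩ := Coalg.exists_atom_le_subcoalg B.2.1 B.2.2.1
      obtain ⟨p, hp, hpm, hpf⟩ := Coalg.exists_proj hC hS.1
      have h1 : (⨆ (B' : ι) (_ : B' ≠ B), B'.1) ≤ LinearMap.ker p := by
        refine iSup₂_le fun B' hB' x hx => ?_
        have hm : p x ∈ B'.1 ⊓ B.1 := ⟨by
          rw [Coalg.eq_lt hp]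
          exact (Coalg.isSubcoalg_iff.1 B'.2.1).2 _ x hx, hSB (hpm x)⟩
        rcases B'.2.2.2 _ inf_le_left (Coalg.isSubcoalg_inf B'.2.1 B.2.1) with h2 | h2
        · exact (Submodule.eq_bot_iff _).1 h2 _ hm
        · rcases B.2.2.2 _ (inf_eq_left.1 h2) B'.2.1 with h3 | h3
          · exact absurd h3 B'.2.2.1
          · exact absurd (Subtype.ext h3) hB'
      refine hS.2.1 ((Submodule.eq_bot_iff _).2 fun x hx => ?_)
      rw [← hpf x hx]
      exact h1 (hle (hSB hx))
    · rw [← Coalg.atoms_of_isSemisimple hC]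
      refine sSup_le fun S hS => (Coalg.le_span2 S).trans ?_
      exact le_iSup (fun B : ι => B.1) ⟨Coalg.span2 S, Coalg.isSubcoalg_span2 hS.1,
        fun h0 => hS.2.1 (le_bot_iff.1 (h0 ▸ Coalg.le_span2 S)), fun X hX hXs => Coalg.span2_min hC hS hX hXs⟩

end Groth.Agent.S14843
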