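import Groth.Statements.S14844
import Mathlib

set_option autoImplicit false
universe u v w w'
open HopfRep

namespace Groth.Agent.S14844

open TensorProduct in
/-- Let R be a commutative ring and C an R-coalgebra, flat over R, which is the internal direct sum of
subcoalgebras D_i (submodules whose comultiplication lands in the image of D_i ⊗ D_i, independent
and with supremum C). Then every right C-comodule V is the internal direct sum of the subcomodules
V_i, where V_i is the preimage under the coaction of the image of V ⊗ D_i in V ⊗ C, and the coaction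
maps V_i into the image of V_i ⊗ D_i, so that the comodule structure of V_i reduces to a
D_i-comodule structure. (The published statement is for a flat sheaf of coalgebras over a base
scheme and left comodules on a scheme over it; this row is the case of an affine base with modules
of global sections, for right comodules.) -/
theorem result {R : Type u} {C : Type v} [CommRing R]
    [AddCommGroup C] [Module R C] [Coalgebra R C] [Module.Flat R C]
    {ι : Type w} (D : ι → Submodule R C)
    (hD : ∀ i, ∀ d ∈ D i, CoalgebraStruct.comul (R := R) d ∈
      LinearMap.range (TensorProduct.map (D i).subtype (D i).subtype))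
    (hind : iSupIndep D) (htop : iSup D = ⊤)
    {V : Type w'} [AddCommGroup V] [Module R V] [HopfRep.Comod R C V] :
    (∀ i, HopfRep.IsSubcomod (k := R) (A := C) ((LinearMap.range (LinearMap.lTensor V (D i).subtype)).comap
        (HopfRep.Comod.coact (k := R) (A := C) (V := V)))) ∧
    iSupIndep (fun i => ((LinearMap.range (LinearMap.lTensor V (D i).subtype)).comap
        (HopfRep.Comod.coact (k := R) (A := C) (V := V)))) ∧
    (⨆ i, ((LinearMap.range (LinearMap.lTensor V (D i).subtype)).comap
        (HopfRep.Comod.coact (k := R) (A := C) (V := V)))) = ⊤ ∧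
    ∀ i, ∀ v ∈ ((LinearMap.range (LinearMap.lTensor V (D i).subtype)).comap
        (HopfRep.Comod.coact (k := R) (A := C) (V := V))),
      HopfRep.Comod.coact (k := R) (A := C) v ∈
        LinearMap.range (TensorProduct.map ((LinearMap.range (LinearMap.lTensor V (D i).subtype)).comap
        (HopfRep.Comod.coact (k := R) (A := C) (V := V))).subtype (D i).subtype) := by
  classical
  have hint : DirectSum.IsInternal D := (DirectSum.isInternal_submodule_iff_iSupIndep_and_iSup_eq_top D).2 ⟨hind, htop⟩
  let e : (DirectSum ι fun i => D i) ≃ₗ[R] C := LinearEquiv.ofBijective (DirectSum.coeLinearMap D) hint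
  let p : ι → C →ₗ[R] C := fun i => (D i).subtype ∘ₗ DirectSum.component R ι (fun i => D i) i ∘ₗ e.symm.toLinearMap
  have hes : ∀ j (d : D j), e.symm (d : C) = DirectSum.lof R ι (fun i => D i) j d := by
    intro j d
    rw [LinearEquiv.symm_apply_eq]
    exact (DirectSum.coeLinearMap_of D j d).symm
  have hp : ∀ i j, ∀ c ∈ D j, p i c = if j = i then c else 0 := by
    intro i j c hc
    show ((DirectSum.component R ι (fun i => D i) i (e.symm ((⟨c, hc⟩ : D j) : C)) : D i) : C) = _
    rw [hes, DirectSum.component.of]
    by_cases h : j = i
    · subst h; simp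
    · simp [h]
  let f : ι → C →ₗ[R] R := fun i => Coalgebra.counit ∘ₗ p i
  let cn : (C →ₗ[R] R) → V ⊗[R] C →ₗ[R] V := fun g => (TensorProduct.rid R V).toLinearMap ∘ₗ g.lTensor V
  let s : ι → V →ₗ[R] V := fun i => cn (f i) ∘ₗ HopfRep.Comod.coact (k := R) (A := C)
  let W : ι → Submodule R V := fun i => ((LinearMap.range (LinearMap.lTensor V (D i).subtype)).comap
     (HopfRep.Comod.coact (k := R) (A := C) (V := V)))
  have hlT : ∀ i, (TensorProduct.lid R C).toLinearMap ∘ₗ (f i).rTensor C ∘ₗ Coalgebra.comul (R := R) (A := C) = p i := by
    intro i
    refine LinearMap.ext fun c => ?_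
    have hc : c ∈ ⨆ j, D j := htop ▸ Submodule.mem_top
    induction hc using Submodule.iSup_induction' with
    | mem j d hd =>
      obtain ⟨y, hy⟩ := hD j d hd
      rw [hp i j d hd, LinearMap.comp_apply, LinearMap.comp_apply, ← hy]
      have h1 : ∀ z : D j ⊗[R] D j, TensorProduct.lid R C ((f i).rTensor C (TensorProduct.map (D j).subtype (D j).subtype z)) =
          if j = i then TensorProduct.lid R C ((Coalgebra.counit (R := R) (A := C)).rTensor C (TensorProduct.map (D j).subtype (D j).subtype z)) else 0 := by
        intro z
        induction z with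
        | zero => simp
        | tmul a b => by_cases h : j = i <;> simp [f, hp i j a a.2, h]
        | add a b ha hb => by_cases h : j = i <;> simp_all
      refine (h1 y).trans ?_
      rw [hy, Coalgebra.rTensor_counit_comul]
      simp
    | zero => simp
    | add a b _ _ ha hb => rw [map_add, map_add, ha, hb]
  have hmain : ∀ i v, (s i).rTensor C (HopfRep.Comod.coact (k := R) (A := C) v) =
      (p i).lTensor V (HopfRep.Comod.coact (k := R) (A := C) v) := by
    intro i v
    rw [← hlT i]
    simp only [LinearMap.lTensor_comp_apply]
    have hca := LinearMap.congr_fun (HopfRep.Comod.coassoc (k := R) (A := C) (V := V)) v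
    simp only [LinearMap.comp_apply, LinearEquiv.coe_coe] at hca
    rw [← hca]
    generalize HopfRep.Comod.coact (k := R) (A := C) v = z
    induction z with
    | zero => simp
    | add a b ha hb => simp only [map_add, ha, hb]
    | tmul a b =>
      simp only [LinearMap.rTensor_tmul, s, LinearMap.comp_apply]
      generalize HopfRep.Comod.coact (k := R) (A := C) a = w
      induction w with
      | zero => simp
      | add a c ha hc => simp only [map_add, TensorProduct.add_tmul, ha, hc]
      | tmul a c => simp [cn, TensorProduct.smul_tmul]
  have hcoact : ∀ i v, HopfRep.Comod.coact (k := R) (A := C) (s i v) =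
      (p i).lTensor V (HopfRep.Comod.coact (k := R) (A := C) v) := by
    intro i v
    have hrT : ∀ c, (TensorProduct.rid R C) ((f i).lTensor C (Coalgebra.comul (R := R) c)) = p i c := by
      intro c
      have hc : c ∈ ⨆ j, D j := htop ▸ Submodule.mem_top
      induction hc using Submodule.iSup_induction' with
      | mem j d hd =>
        obtain ⟨y, hy⟩ := hD j d hd
        rw [hp i j d hd, ← hy]
        have h1 : ∀ z : D j ⊗[R] D j, TensorProduct.rid R C ((f i).lTensor C (TensorProduct.map (D j).subtype (D j).subtype z)) =
            if j = i then TensorProduct.rid R C ((Coalgebra.counit (R := R) (A := C)).lTensor C (TensorProduct.map (D j).subtype (D j).subtype z)) else 0 := by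
          intro z
          induction z with
          | zero => simp
          | tmul a b => by_cases h : j = i <;> simp [f, hp i j b b.2, h]
          | add a b ha hb => by_cases h : j = i <;> simp_all
        refine (h1 y).trans ?_
        rw [hy, Coalgebra.lTensor_counit_comul]
        simp
      | zero => simp
      | add a b _ _ ha hb => rw [map_add, map_add, map_add, map_add, ha, hb]
    have : p i = (TensorProduct.rid R C).toLinearMap ∘ₗ (f i).lTensor C ∘ₗ Coalgebra.comul (R := R) (A := C) :=
      LinearMap.ext fun c => (hrT c).symm
    rw [this]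
    simp only [LinearMap.lTensor_comp_apply]
    have hca := LinearMap.congr_fun (HopfRep.Comod.coassoc (k := R) (A := C) (V := V)) v
    simp only [LinearMap.comp_apply, LinearEquiv.coe_coe] at hca
    rw [← hca]
    simp only [s, LinearMap.comp_apply]
    generalize HopfRep.Comod.coact (k := R) (A := C) v = z
    induction z with
    | zero => simp
    | add a b ha hb => simp only [map_add, ha, hb]
    | tmul a b =>
      simp only [LinearMap.rTensor_tmul, cn, LinearMap.comp_apply, LinearMap.lTensor_tmul, LinearEquiv.coe_coe,
        TensorProduct.rid_tmul, map_smul]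
      generalize HopfRep.Comod.coact (k := R) (A := C) a = w
      induction w with
      | zero => simp
      | add a c ha hc => simp only [map_add, TensorProduct.add_tmul, smul_add, ha, hc]
      | tmul a c => simp [TensorProduct.tmul_smul]
  have hpm : ∀ i c, p i c ∈ D i := fun i c =>
    (DirectSum.component R ι (fun i => D i) i (e.symm c)).2
  have hsW : ∀ i v, s i v ∈ W i := by
    intro i v
    rw [Submodule.mem_comap, hcoact]
    refine ⟨(LinearMap.codRestrict (D i) (p i) (hpm i)).lTensor V (HopfRep.Comod.coact (k := R) (A := C) v), ?_⟩
    rw [← LinearMap.lTensor_comp_apply, LinearMap.subtype_comp_codRestrict]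
  have hsfix : ∀ i j, ∀ v ∈ W j, s i v = if j = i then v else 0 := by
    intro i j v hv
    obtain ⟨y, hy⟩ := hv
    have h1 : ∀ z : V ⊗[R] D j, cn (f i) ((D j).subtype.lTensor V z) =
        if j = i then cn Coalgebra.counit ((D j).subtype.lTensor V z) else 0 := by
      intro z
      induction z with
      | zero => simp
      | tmul a b => by_cases h : j = i <;> simp [cn, f, hp i j b b.2, h]
      | add a b ha hb => by_cases h : j = i <;> simp_all
    show cn (f i) _ = _
    rw [← hy, h1, hy]
    have hc := LinearMap.congr_fun (HopfRep.Comod.counit_comp (k := R) (A := C) (V := V)) v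
    simp only [LinearMap.comp_apply, LinearMap.flip_apply, TensorProduct.mk_apply] at hc
    simp [cn, hc]
  refine ⟨fun i => ?_, ?_, ?_, fun i v hv => ?_⟩
  rotate_left 1
  · show iSupIndep W
    rw [iSupIndep_def]
    intro j
    rw [Submodule.disjoint_def]
    intro v hv hv'
    have h2 : (⨆ (i) (_ : i ≠ j), W i) ≤ LinearMap.ker (s j) :=
      iSup₂_le fun i hi x hx => by rw [LinearMap.mem_ker, hsfix j i x hx, if_neg hi]
    have := LinearMap.mem_ker.1 (h2 hv')
    rwa [hsfix j j v hv, if_pos rfl] at this
  · show ⨆ i, W i = ⊤
    refine eq_top_iff.2 fun v _ => ?_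
    have key : ∀ z : V ⊗[R] C, ∃ t : Finset ι, ∀ t' ⊇ t, ∑ i ∈ t', cn (f i) z = cn Coalgebra.counit z := by
      intro z
      induction z with
      | zero => exact ⟨∅, fun t _ => by simp⟩
      | add a b ha hb =>
        obtain ⟨t1, h1⟩ := ha
        obtain ⟨t2, h2⟩ := hb
        refine ⟨t1 ∪ t2, fun t ht => ?_⟩
        simp only [map_add, Finset.sum_add_distrib]
        rw [h1 t (Finset.union_subset_left ht), h2 t (Finset.union_subset_right ht)]
      | tmul a c =>
        have hc : c ∈ ⨆ j, D j := htop ▸ Submodule.mem_top
        induction hc using Submodule.iSup_induction' with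
        | mem j d hd =>
          refine ⟨{j}, fun t ht => ?_⟩
          rw [Finset.sum_eq_single j]
          · simp [cn, f, hp j j d hd]
          · intro i _ hi
            simp [cn, f, hp i j d hd, Ne.symm hi]
          · intro h; exact absurd (ht (Finset.mem_singleton_self j)) h
        | zero => exact ⟨∅, fun t _ => by simp⟩
        | add c d _ _ hc hd =>
          obtain ⟨t1, h1⟩ := hc
          obtain ⟨t2, h2⟩ := hd
          refine ⟨t1 ∪ t2, fun t ht => ?_⟩
          simp only [TensorProduct.tmul_add, map_add, Finset.sum_add_distrib]
          rw [h1 t (Finset.union_subset_left ht), h2 t (Finset.union_subset_right ht)]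
    obtain ⟨t, ht⟩ := key (HopfRep.Comod.coact (k := R) (A := C) v)
    have hv : ∑ i ∈ t, s i v = v := by
      refine (ht t le_rfl).trans ?_
      have hc := LinearMap.congr_fun (HopfRep.Comod.counit_comp (k := R) (A := C) (V := V)) v
      simp only [LinearMap.comp_apply, LinearMap.flip_apply, TensorProduct.mk_apply] at hc
      simp [cn, hc]
    rw [← hv]
    exact Submodule.sum_mem _ fun i _ => Submodule.mem_iSup_of_mem i (hsW i v)
  · show _ ∈ LinearMap.range (TensorProduct.map (W i).subtype (D i).subtype)
    obtain ⟨y, hy⟩ := hv
    refine ⟨((s i).codRestrict (W i) (hsW i)).rTensor (D i) y, ?_⟩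
    have h1 : ∀ z : V ⊗[R] D i, TensorProduct.map (W i).subtype (D i).subtype (((s i).codRestrict (W i) (hsW i)).rTensor (D i) z) =
        (s i).rTensor C ((D i).subtype.lTensor V z) := by
      intro z
      induction z with
      | zero => simp
      | tmul a b => simp
      | add a b ha hb => simp only [map_add, ha, hb]
    rw [h1, hy, hmain, ← hcoact, hsfix i i v ⟨y, hy⟩, if_pos rfl]
  · intro v hv
    obtain ⟨y, hy⟩ := hv
    refine ⟨((s i).codRestrict (W i) (hsW i)).rTensor C (HopfRep.Comod.coact (k := R) (A := C) v), ?_⟩
    rw [← LinearMap.rTensor_comp_apply]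
    show ((W i).subtype ∘ₗ (s i).codRestrict (W i) (hsW i)).rTensor C _ = _
    rw [LinearMap.subtype_comp_codRestrict, hmain, ← hcoact, hsfix i i v ⟨y, hy⟩, if_pos rfl]

end Groth.Agent.S14844
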