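import Groth.Statements.S14848
import Mathlib

set_option autoImplicit false
set_option linter.style.haveILetI false
universe u v
open McKay

namespace Groth.Agent.S14848

/-- Let K be a field of characteristic zero, L an extension field of K and ξ ∈ L a primitive n-th root
of unity (n ≥ 1) with ξ + ξ⁻¹ ∈ K, say ξ + ξ⁻¹ = 2c with c ∈ K (the character of the natural
two-dimensional representation of the cyclic group of order n takes values in K). Then the cyclic
group of order n is realisable over K as a subgroup of SL(2, K): there is an element of SL(2, K) of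
order n. -/
theorem result {K : Type u} {L : Type v} [Field K] [Field L]
    [CharZero K] [Algebra K L] (n : ℕ) (hn : 1 ≤ n) (ξ : L) (hξ : IsPrimitiveRoot ξ n) (c : K)
    (hc : algebraMap K L (2 * c) = ξ + ξ⁻¹) :
    ∃ M : Matrix.SpecialLinearGroup (Fin 2) K, orderOf M = n := by
  classical
  by_cases h1 : n = 1
  · exact ⟨1, by rw [orderOf_one, h1]⟩
  by_cases h2 : n = 2
  · refine ⟨-1, ?_⟩
    rw [h2]
    refine orderOf_eq_prime (by simp) ?_
    intro h
    have := congrArg (fun M : Matrix.SpecialLinearGroup (Fin 2) K => (M : Matrix (Fin 2) (Fin 2) K) 0 0) h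
    simp at this
    norm_num at this
  let M : Matrix.SpecialLinearGroup (Fin 2) K := ⟨!![0, -1; 1, 2 * c], by simp [Matrix.det_fin_two]⟩
  refine ⟨M, ?_⟩
  have hξ0 : ξ ≠ 0 := hξ.ne_zero (by omega)
  set N : Matrix (Fin 2) (Fin 2) L := (algebraMap K L).mapMatrix (M : Matrix (Fin 2) (Fin 2) K) with hN
  set P : Matrix (Fin 2) (Fin 2) L := !![1, 1; -ξ, -ξ⁻¹] with hP
  set D : Matrix (Fin 2) (Fin 2) L := Matrix.diagonal ![ξ, ξ⁻¹] with hD
  have hNP : N * P = P * D := by
    ext i j
    rw [map_mul] at hc
    fin_cases i <;> fin_cases j <;>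
      simp [hN, hP, hD, M, Matrix.mul_apply, Fin.sum_univ_two, hc] <;> field_simp <;> ring
  have hpow : ∀ m : ℕ, N ^ m * P = P * D ^ m := by
    intro m
    induction m with
    | zero => simp
    | succ m ih => rw [pow_succ, mul_assoc, hNP, ← mul_assoc, ih, mul_assoc, ← pow_succ]
  have hdet : IsUnit P := by
    rw [Matrix.isUnit_iff_isUnit_det, isUnit_iff_ne_zero, hP, Matrix.det_fin_two_of]
    intro h
    have h' : ξ ^ 2 = 1 := by
      have e : ξ = ξ⁻¹ := by linear_combination h
      rw [sq]
      nth_rewrite 2 [e]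
      exact mul_inv_cancel₀ hξ0
    have := Nat.le_of_dvd (by norm_num) (hξ.dvd_of_pow_eq_one 2 h')
    omega
  have hiff : ∀ m : ℕ, M ^ m = 1 ↔ ξ ^ m = 1 := by
    intro m
    have hNm : N ^ m = (algebraMap K L).mapMatrix ((M ^ m : Matrix.SpecialLinearGroup (Fin 2) K) : Matrix (Fin 2) (Fin 2) K) := by
      rw [hN, Matrix.SpecialLinearGroup.coe_pow, map_pow]
    constructor
    · intro h
      have e : P * D ^ m = P * 1 := by rw [← hpow, hNm, h, Matrix.SpecialLinearGroup.coe_one, map_one, one_mul, mul_one]
      have e' := hdet.mul_left_cancel e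
      rw [hD, Matrix.diagonal_pow] at e'
      simpa using congrFun (congrFun e' 0) 0
    · intro h
      have hD1 : D ^ m = 1 := by
        rw [hD, Matrix.diagonal_pow, ← Matrix.diagonal_one]
        congr 1
        funext i
        fin_cases i <;> simp [h, inv_pow]
      have e : N ^ m * P = 1 * P := by rw [hpow, hD1, mul_one, one_mul]
      have e' := hdet.mul_right_cancel e
      rw [hNm, ← map_one (algebraMap K L).mapMatrix] at e'
      apply Subtype.ext
      exact (Matrix.map_injective (algebraMap K L).injective) e'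
  rw [orderOf_eq_iff (by omega)]
  exact ⟨(hiff n).mpr hξ.pow_eq_one, fun m hm hm0 h => hξ.pow_ne_one_of_pos_of_lt (by omega) hm ((hiff m).mp h)⟩

end Groth.Agent.S14848
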