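import Groth.Statements.S14849
import Mathlib.GroupTheory.SpecificGroups.Quaternion
import Mathlib.Algebra.CharP.Algebra
import Mathlib.Tactic.LinearCombination
import Mathlib.Tactic.FinCases
import Mathlib.LinearAlgebra.Matrix.Determinant.Basic
import Mathlib.LinearAlgebra.Matrix.SpecialLinearGroup
import Mathlib.RingTheory.RootsOfUnity.PrimitiveRoots

set_option autoImplicit false
universe u v
open McKay

namespace Groth.Agent.S14849

/-- Let K be a field of characteristic zero, L an extension field of K, n ≥ 2, and ξ ∈ L a primitive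
2n-th root of unity with ξ + ξ⁻¹ = 2c for some c ∈ K. If the Hilbert symbol of -1 and c² - 1 over K
equals 1, i.e. x² - (c² - 1) y² = -1 has a solution in K, then the binary dihedral group of order 4n
(generators σ, τ with τ² = σⁿ = (τσ)²) is isomorphic to a subgroup of SL(2, K). (The published
statement is an equivalence; this row is the direction realising the group from a solution of the
conic.) -/
theorem result {K : Type u} {L : Type v}
    [Field K] [Field L] [CharZero K] [Algebra K L] (n : ℕ) (hn : 2 ≤ n) (ξ : L)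
    (hξ : IsPrimitiveRoot ξ (2 * n)) (c : K) (hc : algebraMap K L (2 * c) = ξ + ξ⁻¹)
    (hsol : ∃ x y : K, x ^ 2 - (c ^ 2 - 1) * y ^ 2 = -1) :
    ∃ f : QuaternionGroup n →* Matrix.SpecialLinearGroup (Fin 2) K, Function.Injective f := by
  classical
  obtain ⟨x, y, hxy⟩ := hsol
  have : NeZero n := ⟨by omega⟩
  have : NeZero (2 * n) := ⟨by omega⟩
  have : CharZero L := charZero_of_injective_algebraMap (algebraMap K L).injective
  set d := c ^ 2 - 1 with hd
  let σ : Matrix.SpecialLinearGroup (Fin 2) K :=
    ⟨!![c, d; 1, c], by rw [Matrix.det_fin_two_of]; linear_combination (-1 : K) * hd⟩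
  let τ : Matrix.SpecialLinearGroup (Fin 2) K :=
    ⟨!![x, -(d * y); y, -x], by rw [Matrix.det_fin_two_of]; linear_combination (-1 : K) * hxy⟩
  set cL := algebraMap K L c with hcL
  set t := ξ - cL with ht
  have hξ0 : ξ ≠ 0 := hξ.ne_zero (by omega)
  have hinv : ξ⁻¹ = cL - t := by
    have : ξ + ξ⁻¹ = 2 * cL := by rw [← hc, map_mul, map_ofNat]
    rw [ht]; linear_combination this
  have ht2 : t * t = algebraMap K L d := by
    have h1 : ξ * (cL - t) = 1 := by rw [← hinv, mul_inv_cancel₀ hξ0]
    rw [hd, map_sub, map_pow, map_one, ← hcL]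
    rw [ht] at h1 ⊢
    linear_combination (-1 : L) * h1
  have ht0 : t ≠ 0 := by
    intro h0
    have h2 : ξ ^ 2 = 1 := by
      have hh : ξ⁻¹ = ξ := by rw [hinv, h0, sub_zero]; rw [ht] at h0; linear_combination (-1 : L) * h0
      rw [sq]; nth_rewrite 1 [← hh]; exact inv_mul_cancel₀ hξ0
    have := Nat.le_of_dvd (by norm_num) ((hξ.pow_eq_one_iff_dvd 2).1 h2)
    omega
  have hpow : ∀ k : ℕ, ∃ p q : K, (σ ^ k).1 = !![p, d * q; q, p] ∧
      algebraMap K L p + algebraMap K L q * t = ξ ^ k ∧
      algebraMap K L p - algebraMap K L q * t = ξ⁻¹ ^ k := by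
    intro k
    induction k with
    | zero => exact ⟨1, 0, by simp [Matrix.one_fin_two], by simp, by simp⟩
    | succ k ih =>
      obtain ⟨p, q, h1, h2, h3⟩ := ih
      refine ⟨p * c + d * q, q * c + p, ?_, ?_, ?_⟩
      · rw [pow_succ, Matrix.SpecialLinearGroup.coe_mul, h1]
        show !![p, d * q; q, p] * !![c, d; 1, c] = _
        ext i j
        fin_cases i <;> fin_cases j <;> simp [Matrix.mul_apply, Fin.sum_univ_two] <;> ring
      · simp only [map_add, map_mul, ← hcL, ← ht2]
        rw [pow_succ, ← h2, ht]; ring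
      · simp only [map_add, map_mul, ← hcL, ← ht2]
        rw [pow_succ, ← h3, hinv]; ring
  have hone : ∀ k : ℕ, σ ^ k = 1 ↔ 2 * n ∣ k := by
    intro k
    obtain ⟨p, q, h1, h2, h3⟩ := hpow k
    rw [← hξ.pow_eq_one_iff_dvd]
    constructor
    · intro h
      rw [h, Matrix.SpecialLinearGroup.coe_one] at h1
      have e0 : p = 1 := by simpa using (congrFun (congrFun h1 0) 0).symm
      have e1 : q = 0 := by simpa using (congrFun (congrFun h1 1) 0).symm
      rw [← h2, e0, e1, map_one, map_zero, zero_mul, add_zero]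
    · intro h
      rw [inv_pow, h, inv_one] at h3
      rw [h] at h2
      have e1 : q = 0 := (algebraMap K L).injective (by
        rw [map_zero]
        have h4 : (2 * t) * algebraMap K L q = 0 := by linear_combination h2 - h3
        exact (mul_eq_zero.1 h4).resolve_left (mul_ne_zero two_ne_zero ht0))
      have e0 : p = 1 := (algebraMap K L).injective (by
        rw [map_one]; rw [e1, map_zero, zero_mul, add_zero] at h2; exact h2)
      ext i j
      rw [h1, e0, e1, Matrix.SpecialLinearGroup.coe_one]
      fin_cases i <;> fin_cases j <;> simp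
  have hσn : (σ ^ n).1 = -1 := by
    obtain ⟨p, q, h1, h2, h3⟩ := hpow n
    have hn1 : ξ ^ n = -1 :=
      (hξ.pow (by omega) (mul_comm 2 n)).eq_neg_one_of_two_right
    rw [inv_pow, hn1, inv_neg, inv_one] at h3
    rw [hn1] at h2
    have e1 : q = 0 := (algebraMap K L).injective (by
      rw [map_zero]
      have h4 : (2 * t) * algebraMap K L q = 0 := by linear_combination h2 - h3
      exact (mul_eq_zero.1 h4).resolve_left (mul_ne_zero two_ne_zero ht0))
    have e0 : p = -1 := (algebraMap K L).injective (by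
      rw [map_neg, map_one]; rw [e1, map_zero, zero_mul, add_zero] at h2; exact h2)
    rw [h1, e0, e1]
    ext i j
    fin_cases i <;> fin_cases j <;> simp
  have hττ : τ * τ = σ ^ n := by
    refine Subtype.ext ?_
    rw [Matrix.SpecialLinearGroup.coe_mul, hσn]
    ext i j
    fin_cases i <;> fin_cases j <;> simp [τ, Matrix.mul_apply, Fin.sum_univ_two] <;>
      (simp only [hd] at hxy ⊢;
       first | linear_combination hxy | linear_combination (-1 : K) * hxy | linear_combination (0 : K) * hxy)
  have hστ : σ * τ * σ = τ := by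
    refine Subtype.ext ?_
    simp only [Matrix.SpecialLinearGroup.coe_mul]
    ext i j
    fin_cases i <;> fin_cases j <;> simp [σ, τ, Matrix.mul_apply, Fin.sum_univ_two] <;> (rw [hd]; ring)
  have hsσ : SemiconjBy τ σ σ⁻¹ := eq_inv_mul_of_mul_eq ((mul_assoc σ τ σ).symm.trans hστ)
  have hord : orderOf σ = 2 * n :=
    Nat.dvd_antisymm (orderOf_dvd_of_pow_eq_one ((hone _).2 dvd_rfl))
      ((hone _).1 (pow_orderOf_eq_one σ))
  let s : ZMod (2 * n) → Matrix.SpecialLinearGroup (Fin 2) K := fun i => σ ^ i.val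
  have sadd : ∀ i j, s (i + j) = s i * s j := fun i j => by
    simp only [s, ← pow_add, ZMod.val_add]
    exact pow_eq_pow_iff_modEq.2 (by rw [hord]; exact Nat.mod_modEq _ _)
  have s0 : s 0 = 1 := by simp [s]
  have sneg : ∀ i, s (-i) = (s i)⁻¹ := fun i =>
    eq_inv_of_mul_eq_one_left (by rw [← sadd, neg_add_cancel, s0])
  have scomm : ∀ i, τ * s i = s (-i) * τ := fun i => by
    rw [sneg]
    have h := SemiconjBy.pow_right hsσ i.val
    rw [inv_pow] at h
    exact h
  have sn : s (n : ZMod (2 * n)) = σ ^ n := by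
    simp only [s, ZMod.val_natCast, Nat.mod_eq_of_lt (show n < 2 * n by omega)]
  let f : QuaternionGroup n → Matrix.SpecialLinearGroup (Fin 2) K
    | .a i => s i
    | .xa i => τ * s i
  have fmul : ∀ g h, f (g * h) = f g * f h := by
    rintro (i | i) (j | j)
    · simp only [f, QuaternionGroup.a_mul_a, sadd]
    · simp only [f, QuaternionGroup.a_mul_xa]
      rw [← mul_assoc, show s i * τ = τ * s (-i) by rw [scomm, neg_neg], mul_assoc, ← sadd,
        neg_add_eq_sub]
    · simp only [f, QuaternionGroup.xa_mul_a, mul_assoc, sadd]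
    · simp only [f, QuaternionGroup.xa_mul_xa]
      rw [mul_assoc, ← mul_assoc (s i) τ, show s i * τ = τ * s (-i) by rw [scomm, neg_neg],
        mul_assoc, ← mul_assoc τ τ, hττ, ← sn, ← sadd, ← sadd, neg_add_eq_sub, add_sub_assoc]
  refine ⟨{ toFun := f, map_one' := by rw [QuaternionGroup.one_def]; exact s0, map_mul' := fmul }, ?_⟩
  rw [injective_iff_map_eq_one]
  rintro (i | i) h
  · change σ ^ i.val = 1 at h
    have := Nat.eq_zero_of_dvd_of_lt ((hone _).1 h) (ZMod.val_lt i)
    rw [(ZMod.val_eq_zero i).1 this, QuaternionGroup.a_zero]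
  · change τ * σ ^ i.val = 1 at h
    exfalso
    have hτ : τ = (σ ^ i.val)⁻¹ := eq_inv_of_mul_eq_one_left h
    have hc' : Commute τ σ := by rw [hτ]; exact ((Commute.refl σ).pow_left _).inv_left
    have h2 : σ = σ⁻¹ := mul_right_cancel ((hc'.eq.symm.trans (hsσ : τ * σ = σ⁻¹ * τ)))
    have h3 : σ ^ 2 = 1 := by rw [sq]; nth_rewrite 1 [h2]; exact inv_mul_cancel σ
    have := Nat.le_of_dvd (by norm_num) ((hone 2).1 h3)
    omega

end Groth.Agent.S14849
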