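import Groth.Statements.S14850
import Groth.Agent.HopfRep.Coalg

set_option autoImplicit false
universe u v
open HopfRep

namespace Groth.Agent.S14850

open TensorProduct in
/-- Over a field K, a nonzero coalgebra C is simple if and only if C is isotypic as a right comodule
over itself, i.e. C is the internal direct sum of the images of a family of injective comodule maps
from one simple right C-comodule E. Here a subcoalgebra of C is a subspace B whose comultiplication
lands in the image of B ⊗ B, and C is simple when its only subcoalgebras are 0 and C. (Stated for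
the right regular comodule; the published statement allows left or right.) -/
theorem result {K : Type u} {C : Type v} [Field K] [AddCommGroup C]
    [Module K C] [Coalgebra K C] [Nontrivial C] :
    (∀ B : Submodule K C, (∀ b ∈ B, CoalgebraStruct.comul (R := K) b ∈ LinearMap.range (TensorProduct.map B.subtype B.subtype)) → B = ⊥ ∨ B = ⊤) ↔
    ∃ (E : Type v) (_ : AddCommGroup E) (_ : Module K E) (_ : HopfRep.Comod K C E),
      HopfRep.IsSimpleComod K C E ∧
      ∃ (ι : Type v) (f : ι → (E →ₗ[K] C)),
        (∀ i, Hoch.IsComodHom C (f i) ∧ Function.Injective (f i)) ∧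
        iSupIndep (fun i => LinearMap.range (f i)) ∧ (⨆ i, LinearMap.range (f i)) = ⊤ := by
  open Groth.Agent.HopfRep in
  classical
  constructor
  · intro hmin
    have htop : Coalg.IsSubcoalg K (⊤ : Submodule K C) := Coalg.isSubcoalg_iff.2
      ⟨Slice.isSubcomod_iff.2 fun _ _ _ => Submodule.mem_top, fun _ _ _ => Submodule.mem_top⟩
    have hC : HopfRep.IsSemisimpleComod K C C :=
      Coalg.isSemisimple_of_atoms (top_le_iff.1 (Coalg.le_soc htop top_ne_bot fun X _ hX => hmin X hX))
    obtain ⟨S₀, hS₀, -⟩ := Coalg.exists_atom_le_subcoalg htop top_ne_bot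
    letI i0 := Slice.restrict S₀ hS₀.1
    have hE : HopfRep.IsSimpleComod K C S₀ := ⟨Submodule.nontrivial_iff_ne_bot.2 hS₀.2.1, fun X hX => by
      rcases hS₀.2.2 _ ((Flag.isSubcomod_restrict_iff S₀ hS₀.1 X).1 hX) (Submodule.map_subtype_le S₀ X) with h | h
      · exact Or.inl (Submodule.map_injective_of_injective S₀.injective_subtype (by rw [h, Submodule.map_bot]))
      · exact Or.inr (Submodule.map_injective_of_injective S₀.injective_subtype (by rw [h, Submodule.map_subtype_top]))⟩
    have hspan : Coalg.span2 S₀ = ⊤ := (hmin _ (Coalg.isSubcoalg_span2 hS₀.1)).resolve_left fun h0 =>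
      hS₀.2.1 (le_bot_iff.1 (h0 ▸ Coalg.le_span2 S₀))
    have hss := (Bridge.isSemisimple_iff K C C).1 hC
    letI := Bridge.module K C C
    haveI := Bridge.scalarTower K C C
    haveI := hss
    obtain ⟨s, hind, hsup, hsimp⟩ := IsSemisimpleModule.exists_sSupIndep_sSup_simples_eq_top (Bridge.Opr K C) C
    let X : s → Submodule K C := fun m => m.1.restrictScalars K
    have hX : ∀ m : s, Coalg.IsAtomSub K (C := C) (X m) := by
      intro m
      have hsub : HopfRep.IsSubcomod (k := K) (A := C) (X m) := Bridge.isSubcomod_restrictScalars m.1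
      have ha : IsAtom (Bridge.toSub (X m) hsub) := by
        rw [show Bridge.toSub (X m) hsub = m.1 from SetLike.ext fun _ => Iff.rfl]
        exact isSimpleModule_iff_isAtom.1 (hsimp m.1 m.2)
      exact ⟨hsub, (Bridge.isAtom_toSub_iff _ hsub).1 ha⟩
    have hf : ∀ m : s, ∃ f : S₀ →ₗ[K] C, (Hoch.IsComodHom C f ∧ Function.Injective f) ∧
        LinearMap.range f = X m := by
      intro m
      obtain ⟨φ, p, hp, he⟩ := Coalg.exists_map_eq hC (fun φ : C →ₗ[K] K => S₀.map (Coalg.lt K φ)) (hX m)
        (fun x _ => by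
          show x ∈ Coalg.span2 S₀
          rw [hspan]
          exact Submodule.mem_top)
        (fun φ => Slice.isSubcomod_map (Coalg.isComodHom_lt φ) hS₀.1)
      have hh : Hoch.IsComodHom C (p ∘ₗ Coalg.lt K φ ∘ₗ S₀.subtype) :=
        Slice.isComodHom_of_slice fun g x => by
          simp only [LinearMap.comp_apply]
          rw [Slice.map_slice (Slice.isComodHom_subtype S₀ hS₀.1), Slice.map_slice (Coalg.isComodHom_lt φ),
            Slice.map_slice hp]
      have hr : LinearMap.range (p ∘ₗ Coalg.lt K φ ∘ₗ S₀.subtype) = X m := by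
        rw [LinearMap.range_comp, LinearMap.range_comp, Submodule.range_subtype, he]
      refine ⟨_, ⟨hh, ?_⟩, hr⟩
      rcases hE.2 _ (Slice.isSubcomod_ker hh) with h | h
      · exact LinearMap.ker_eq_bot.1 h
      · exact absurd (hr.symm.trans (LinearMap.range_eq_bot.2 (LinearMap.ker_eq_top.1 h))) (hX m).2.1
    choose f hf1 hf2 using hf
    refine ⟨S₀, inferInstance, inferInstance, i0, hE, s, f, hf1, ?_, ?_⟩
    · simp only [hf2]
      rw [iSupIndep_def]
      intro m
      rw [Submodule.disjoint_def]
      intro x hx hx'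
      have h1 : (⨆ (m' : s) (_ : m' ≠ m), X m') ≤ (sSup (s \ {m.1})).restrictScalars K :=
        iSup₂_le fun m' hm' y hy =>
          (le_sSup (show m'.1 ∈ s \ {m.1} from ⟨m'.2, fun h => hm' (Subtype.ext h)⟩) : m'.1 ≤ sSup (s \ {m.1})) hy
      exact Submodule.disjoint_def.1 (hind m.2) x hx (h1 hx')
    · simp only [hf2]
      refine eq_top_iff.2 fun x _ => ?_
      have h1 : sSup s ≤ Bridge.toSub (⨆ m : s, X m) (Slice.isSubcomod_iSup fun m => (hX m).1) :=
        sSup_le fun m hm y hy => Submodule.mem_iSup_of_mem (⟨m, hm⟩ : s) hy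
      exact h1 (hsup ▸ Submodule.mem_top)
  · rintro ⟨E, _, _, _, hE, ι, f, hf, -, htop⟩ B hB
    by_cases h0 : B = ⊥
    · exact Or.inl h0
    refine Or.inr (eq_top_iff.2 ?_)
    have hat : ∀ i, Coalg.IsAtomSub K (C := C) (LinearMap.range (f i)) := by
      intro i
      have htE : Coalg.IsAtomSub K (C := C) (⊤ : Submodule K E) :=
        ⟨Slice.isSubcomod_iff.2 fun _ _ _ => Submodule.mem_top, by
          have := hE.1
          exact top_ne_bot, fun X hX _ => hE.2 X hX⟩
      rw [LinearMap.range_eq_map]
      refine (Coalg.atom_map (hf i).1 htE).resolve_left fun h => ?_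
      have := hE.1
      obtain ⟨x, hx⟩ := exists_ne (0 : E)
      exact hx ((hf i).2 (((Submodule.eq_bot_iff _).1 h (f i x) ⟨x, trivial, rfl⟩).trans (map_zero (f i)).symm))
    have hC : HopfRep.IsSemisimpleComod K C C := Coalg.isSemisimple_of_atoms (top_le_iff.1 (by
      rw [← htop]
      exact iSup_le fun i => le_sSup (s := {S : Submodule K C | Coalg.IsAtomSub K (C := C) S}) (hat i)))
    obtain ⟨S', hS', hS'B⟩ := Coalg.exists_atom_le_subcoalg (B := B) hB h0
    obtain ⟨j, p, hp, he⟩ := Coalg.exists_map_eq hC (fun i => LinearMap.range (f i)) hS'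
      (fun x _ => by rw [htop]; exact Submodule.mem_top) (fun i => (hat i).1)
    have hjB : LinearMap.range (f j) ≤ B := Coalg.atom_le_of_map (hat j) hS' hp he hB hS'B
    rw [← htop]
    refine iSup_le fun i => ?_
    rintro _ ⟨x, rfl⟩
    letI := Slice.restrict _ (hat j).1
    let e := LinearEquiv.ofInjective (f j) (hf j).2
    have hg : Hoch.IsComodHom C (f i ∘ₗ e.symm.toLinearMap) := Slice.isComodHom_of_slice fun g y => by
      obtain ⟨y, rfl⟩ := e.surjective y
      have hey : Slice.slice K _ g (e y) = e (Slice.slice K E g y) := Subtype.ext (by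
        rw [Slice.slice_coe _ (hat j).1]
        exact (Slice.map_slice (hf j).1 g y).symm)
      simp only [LinearMap.comp_apply, LinearEquiv.coe_coe]
      rw [hey, e.symm_apply_apply, e.symm_apply_apply, Slice.map_slice (hf i).1]
    have := Coalg.hom_mem hB (hat j).1 hjB _ hg (e x)
    rwa [LinearMap.comp_apply, LinearEquiv.coe_coe, e.symm_apply_apply] at this

end Groth.Agent.S14850
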