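import Groth.Statements.S14851
import Groth.Agent.HopfRep.Coalg
import Mathlib.RingTheory.SimpleModule.Isotypic
import Mathlib.LinearAlgebra.Dual.Lemmas

set_option autoImplicit false
universe u v w w'
open HopfRep

namespace Groth.Agent.S14851

open TensorProduct in
/-- The map E ↦ C(E) from isomorphism classes of simple comodules to simple subcoalgebras is injective,
that is: over a field K, two simple right comodules E, E' over a coalgebra C with the same
coefficient space D (the least subspace D' of C such that the coaction lands in E ⊗ D', resp. E' ⊗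
D') are isomorphic as comodules. (The published statement is made for a cosemisimple coalgebra and
for left comodules; the printed argument for this part uses neither restriction.) -/
theorem result {K : Type u} {C : Type v} [Field K]
    [AddCommGroup C] [Module K C] [Coalgebra K C]
    {E : Type w} [AddCommGroup E] [Module K E] [HopfRep.Comod K C E]
    {E' : Type w'} [AddCommGroup E'] [Module K E'] [HopfRep.Comod K C E']
    (hE : HopfRep.IsSimpleComod K C E) (hE' : HopfRep.IsSimpleComod K C E') (D : Submodule K C)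
    (hD : IsLeast {D' : Submodule K C |
      ∀ e : E, HopfRep.Comod.coact (k := K) (A := C) e ∈ LinearMap.range (LinearMap.lTensor E D'.subtype)} D)
    (hD' : IsLeast {D' : Submodule K C |
      ∀ e : E', HopfRep.Comod.coact (k := K) (A := C) e ∈ LinearMap.range (LinearMap.lTensor E' D'.subtype)} D) :
    ∃ e : E ≃ₗ[K] E', Hoch.IsComodHom C e.toLinearMap := by
  open Groth.Agent.HopfRep in
  classical
  have key : ∀ (φ : E →ₗ[K] K) (e : E),
      Flag.dcontr C φ (HopfRep.Comod.coact (k := K) (A := C) e) ∈ D := fun φ e =>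
    (Coalg.mem_range_lTensor_iff D _).1 (hD.1 e) φ
  let g : (E →ₗ[K] K) → (E →ₗ[K] C) := fun φ => Flag.dcontr C φ ∘ₗ HopfRep.Comod.coact (k := K) (A := C)
  let g' : (E' →ₗ[K] K) → (E' →ₗ[K] C) := fun φ => Flag.dcontr C φ ∘ₗ HopfRep.Comod.coact (k := K) (A := C)
  have hle : D ≤ ⨆ φ, LinearMap.range (g φ) := hD.2 fun e =>
    (Coalg.mem_range_lTensor_iff _ _).2 fun φ => Submodule.mem_iSup_of_mem φ ⟨e, rfl⟩
  have hn' := hE'.1
  obtain ⟨x, hx⟩ := exists_ne (0 : E')
  obtain ⟨ψ, hψ⟩ : ∃ ψ : E' →ₗ[K] K, ψ x ≠ 0 := by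
    by_contra hno
    push Not at hno
    exact hx ((Module.forall_dual_apply_eq_zero_iff K x).1 hno)
  have hinj' : Function.Injective (g' ψ) := Coalg.coeff_injective hE' fun h => hψ (by rw [h]; rfl)
  letI := Bridge.module K C C
  haveI := Bridge.scalarTower K C C
  letI := Bridge.module K C E
  haveI := Bridge.scalarTower K C E
  letI := Bridge.module K C E'
  haveI := Bridge.scalarTower K C E'
  haveI hsE := Bridge.isSimpleModule_of hE
  haveI hsE' := Bridge.isSimpleModule_of hE'
  let G : (E →ₗ[K] K) → (E →ₗ[Bridge.Opr K C] C) := fun φ => Bridge.toLin (g φ) (Coalg.isComodHom_coeff φ)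
  let G' : E' →ₗ[Bridge.Opr K C] C := Bridge.toLin (g' ψ) (Coalg.isComodHom_coeff ψ)
  let s : Set (Submodule (Bridge.Opr K C) C) := {m | ∃ φ, φ ≠ 0 ∧ m = LinearMap.range (G φ)}
  have : ∀ m : s, IsSimpleModule (Bridge.Opr K C) m := by
    rintro ⟨_, φ, hφ, rfl⟩
    exact IsSimpleModule.congr (LinearEquiv.ofInjective (G φ) (Coalg.coeff_injective hE hφ)).symm
  haveI : IsSimpleModule (Bridge.Opr K C) (LinearMap.range G') :=
    IsSimpleModule.congr (LinearEquiv.ofInjective G' hinj').symm
  have hN : LinearMap.range G' ≤ sSup s := by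
    rintro _ ⟨e, rfl⟩
    have hmem : g' ψ e ∈ ⨆ φ, LinearMap.range (g φ) :=
      hle ((Coalg.mem_range_lTensor_iff D _).1 (hD'.1 e) ψ)
    have hsub : (⨆ φ, LinearMap.range (g φ)) ≤ (sSup s).restrictScalars K := by
      refine iSup_le fun φ => ?_
      rintro _ ⟨y, rfl⟩
      by_cases hφ : φ = 0
      · simp [g, hφ, Flag.dcontr]
      · exact le_sSup (show LinearMap.range (G φ) ∈ s from ⟨φ, hφ, rfl⟩) ⟨y, rfl⟩
    exact hsub hmem
  obtain ⟨S, ⟨φ, hφ, rfl⟩, ⟨e⟩⟩ := (LinearMap.range G').linearEquiv_of_le_sSup s hN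
  let E₀ : E ≃ₗ[Bridge.Opr K C] E' := ((LinearEquiv.ofInjective (G φ) (Coalg.coeff_injective hE hφ)).trans
    e.symm).trans (LinearEquiv.ofInjective G' hinj').symm
  exact ⟨E₀.restrictScalars K, Bridge.isComodHom_restrictScalars E₀.toLinearMap⟩

end Groth.Agent.S14851
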