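import Groth.Statements.S14864
import Mathlib.RingTheory.WittVector.Identities
import Mathlib.RingTheory.WittVector.Truncated
import Mathlib.RingTheory.WittVector.Domain
import Mathlib.RingTheory.Ideal.Operations

set_option autoImplicit false
universe u
open CAlg

namespace Groth.Agent.S14864

/-- Let p be a prime and R a commutative ring in which p is nilpotent; write W = W(R) for the p-typical
Witt vectors, I ⊆ W for the kernel of the projection onto the zeroth component, and I_n ⊆ W for the
kernel of the truncation W → W_n(R). The p-adic topology on W equals its I-adic topology — every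
power of the ideal pW contains some power of I and every power of I contains some power of pW — and
this common topology is finer than the V-adic one: every I_n contains some power of pW. -/
theorem result (p : ℕ) [Fact p.Prime] (R : Type u) [CommRing R]
    (hp : IsNilpotent (p : R)) :
    (∀ n : ℕ, ∃ m : ℕ, (RingHom.ker (WittVector.constantCoeff : WittVector p R →+* R)) ^ m ≤ Ideal.span {(p : WittVector p R)} ^ n) ∧
      (∀ n : ℕ, ∃ m : ℕ, Ideal.span {(p : WittVector p R)} ^ m ≤ (RingHom.ker (WittVector.constantCoeff : WittVector p R →+* R)) ^ n) ∧
        ∀ n : ℕ, ∃ m : ℕ, Ideal.span {(p : WittVector p R)} ^ m ≤ RingHom.ker (WittVector.truncate (p := p) (R := R) n) := by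
  obtain ⟨e, he⟩ := hp
  have hI : ∀ x : WittVector p R, x ∈ RingHom.ker (WittVector.constantCoeff : WittVector p R →+* R) →
      ∃ y, x = WittVector.verschiebung y := fun x hx => by
    refine ⟨x.shift 1, ?_⟩
    ext n
    cases n with
    | zero => rw [WittVector.verschiebung_coeff_zero]; exact hx
    | succ n => rw [WittVector.verschiebung_coeff_succ, WittVector.shift_coeff, add_comm]
  refine ⟨fun n => ⟨n + 1, ?_⟩, fun n => ⟨e * n, ?_⟩, fun n => ⟨e * n, ?_⟩⟩
  · suffices h : (RingHom.ker (WittVector.constantCoeff : WittVector p R →+* R)) ^ (n + 1) ≤
        Ideal.span {(p : WittVector p R)} ^ n * RingHom.ker (WittVector.constantCoeff : WittVector p R →+* R) from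
      h.trans Ideal.mul_le_left
    induction n with
    | zero => simp
    | succ n ih =>
      rw [pow_succ (RingHom.ker (WittVector.constantCoeff : WittVector p R →+* R)) (n + 1),
        pow_succ (Ideal.span {(p : WittVector p R)}) n, mul_assoc (Ideal.span {(p : WittVector p R)} ^ n)]
      refine (Ideal.mul_mono_left ih).trans ?_
      rw [mul_assoc]
      refine Ideal.mul_mono_right (Ideal.mul_le.2 fun a ha b hb => ?_)
      obtain ⟨a, rfl⟩ := hI a ha
      obtain ⟨b, rfl⟩ := hI b hb
      have h1 : WittVector.verschiebung a * WittVector.verschiebung b =
          (p : WittVector p R) * WittVector.verschiebung (a * b) := by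
        rw [← WittVector.verschiebung_mul_frobenius, WittVector.frobenius_verschiebung,
          show a * (b * (p : WittVector p R)) = (a * b) * WittVector.frobenius (p : WittVector p R) by
            rw [map_natCast]; ring,
          WittVector.verschiebung_mul_frobenius, mul_comm]
      rw [h1]
      exact Ideal.mul_mem_mul (Ideal.mem_span_singleton_self _)
        (WittVector.verschiebung_coeff_zero (p := p) (a * b))
  · rw [Ideal.span_singleton_pow, Ideal.span_singleton_le_iff_mem, pow_mul]
    refine Ideal.pow_mem_pow ?_ n
    rw [RingHom.mem_ker, map_pow, map_natCast, he]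
  · rw [Ideal.span_singleton_pow, Ideal.span_singleton_le_iff_mem]
    induction n with
    | zero => rw [WittVector.mem_ker_truncate]; intro i hi; omega
    | succ k ih =>
      rw [WittVector.mem_ker_truncate] at ih ⊢
      obtain ⟨y, hy⟩ : ∃ y, (p : WittVector p R) ^ (e * k) = (⇑WittVector.verschiebung)^[k] y :=
        ⟨_, WittVector.eq_iterate_verschiebung ih⟩
      have key : (p : WittVector p R) ^ (e * (k + 1)) =
          (⇑WittVector.verschiebung)^[k] ((p : WittVector p R) ^ e * y) := by
        rw [Nat.mul_succ, pow_add, hy, mul_comm, ← Nat.cast_pow, ← nsmul_eq_mul, ← nsmul_eq_mul]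
        clear hy ih
        induction k with
        | zero => rfl
        | succ j ihj => rw [Function.iterate_succ_apply', Function.iterate_succ_apply', ← ihj, map_nsmul]
      intro i hi
      rw [key]
      rcases Nat.lt_succ_iff_lt_or_eq.1 hi with h | rfl
      · exact WittVector.iterate_verschiebung_coeff_eq_zero _ h
      · have := WittVector.iterate_verschiebung_coeff ((p : WittVector p R) ^ e * y) i 0
        rw [zero_add] at this
        rw [this, WittVector.mul_coeff_zero]
        have h0 : ((p : WittVector p R) ^ e).coeff 0 = 0 := by
          show WittVector.constantCoeff ((p : WittVector p R) ^ e) = 0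
          rw [map_pow, map_natCast, he]
        rw [h0, zero_mul]

end Groth.Agent.S14864
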