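import Groth.Statements.S14855
import Groth.Agent.WittPComp.Core
import Groth.Agent.S14864
import Mathlib

set_option autoImplicit false
universe u
open CAlg

namespace Groth.Agent.S14855

open Groth.Agent.WittPComp

variable {p : ℕ} [Fact p.Prime] {R : Type u} [CommRing R]

local notation "J" k:max => Ideal.span {(p : R) ^ k}

theorem mono_cong {s t m n : ℕ} (h : s ≤ t) (h' : m ≤ n) {x y : WittVector p R} (hxy : Cong (J t) n x y) :
    Cong (J s) m x y := fun i hi =>
  Ideal.span_singleton_le_span_singleton.2 (pow_dvd_pow _ h) (hxy i (lt_of_lt_of_le hi h'))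

theorem cong_add {I : Ideal R} {m : ℕ} {x y x' y' : WittVector p R} (h : Cong I m x y) (h' : Cong I m x' y') :
    Cong I m (x + x') (y + y') := by
  rw [cong_iff, map_add, map_add, map_add, map_add, cong_iff.1 h, cong_iff.1 h']

theorem exists_small (k : ℕ) : ∃ m, ∀ j, m ≤ j → ∀ w : WittVector p R, Cong (J k) k ((p : WittVector p R) ^ j * w) 0 := by
  have hp : IsNilpotent (p : R ⧸ J k) := ⟨k, by
    rw [← map_natCast (Ideal.Quotient.mk (J k)), ← map_pow]
    exact Ideal.Quotient.eq_zero_iff_mem.2 (Ideal.mem_span_singleton_self _)⟩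
  obtain ⟨m, hm⟩ := (Groth.Agent.S14864.result p (R ⧸ J k) hp).2.2 k
  refine ⟨m, fun j hj w => cong_iff.2 ?_⟩
  have : WittVector.truncate (p := p) k ((p : WittVector p (R ⧸ J k)) ^ m) = 0 :=
    RingHom.mem_ker.1 (hm (Ideal.pow_mem_pow (Ideal.mem_span_singleton_self _) m))
  obtain ⟨d, rfl⟩ := Nat.exists_eq_add_of_le hj
  rw [map_mul, map_mul, map_zero, map_zero, map_pow (WittVector.map _), map_natCast, pow_add, map_mul, this, zero_mul, zero_mul]

variable [IsAdicComplete (Ideal.span {(p : R)}) R]

theorem eq_of_cong {x y : WittVector p R} (h : ∀ k, Cong (J k) k x y) : x = y := by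
  ext i
  refine sub_eq_zero.1 (eq_zero_of_forall_mem (p := p) fun j => ?_)
  exact Ideal.span_singleton_le_span_singleton.2 (pow_dvd_pow _ (Nat.le_add_right j (i + 1)))
    (h (j + (i + 1)) i (by omega))

theorem exists_sum (a : ℕ → WittVector p R) :
    ∃ b, ∀ k, ∃ N₀, ∀ N, N₀ ≤ N → Cong (J k) k b (∑ j ∈ Finset.range N, (p : WittVector p R) ^ j * a j) := by
  choose m hm using fun k => exists_small (p := p) (R := R) k
  let S := fun N => ∑ j ∈ Finset.range N, (p : WittVector p R) ^ j * a j
  let M := fun k => (Finset.range (k + 1)).sup m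
  have hM : ∀ k N, M k ≤ N → Cong (J k) k (S (M k)) (S N) := fun k N hN => by
    induction N, hN using Nat.le_induction with
    | base => exact cong_iff.2 rfl
    | succ N hN ih =>
      refine ih.trans ?_
      have h0 : Cong (J k) k ((p : WittVector p R) ^ N * a N) 0 :=
        hm k N ((Finset.le_sup (f := m) (Finset.self_mem_range_succ k)).trans hN) (a N)
      have h1 : Cong (J k) k (S N + 0) (S N + (p : WittVector p R) ^ N * a N) :=
        cong_add (cong_iff.2 rfl) h0.symm
      simpa [S, Finset.sum_range_succ] using h1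
  have hMmono : ∀ {a b : ℕ}, a ≤ b → M a ≤ M b := fun h =>
    Finset.sup_mono (fun x hx => Finset.mem_range.2 (lt_of_lt_of_le (Finset.mem_range.1 hx) (by omega)))
  have hlim : ∀ i, ∃ c : R, ∀ s, (S (M (s + i + 1))).coeff i - c ∈ J s := fun i => by
    obtain ⟨c, hc⟩ := IsPrecomplete.prec (I := Ideal.span {(p : R)}) (inferInstance : IsPrecomplete (Ideal.span {(p : R)}) R)
      (f := fun s => (S (M (s + i + 1))).coeff i) (fun {s t} hst => by
        rw [SModEq.sub_mem, smul_eq_mul, Ideal.mul_top, Ideal.span_singleton_pow]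
        exact mono_cong (s := s) (m := i + 1) (by omega) (by omega) (hM (s + i + 1) (M (t + i + 1)) (hMmono (by omega))) i (by omega))
    refine ⟨c, fun s => ?_⟩
    have := hc s
    rwa [SModEq.sub_mem, smul_eq_mul, Ideal.mul_top, Ideal.span_singleton_pow] at this
  choose c hc using hlim
  refine ⟨WittVector.mk p c, fun k => ⟨M k, fun N hN => ?_⟩⟩
  have h1 : Cong (J k) k (WittVector.mk p c) (S (M k)) := fun i hi => by
    have h2 := hM k (M (k + i + 1)) (hMmono (by omega)) i hi
    have h3 := hc i k
    have h4 := neg_mem (add_mem h2 h3)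
    show c i - (S (M k)).coeff i ∈ J k
    convert h4 using 1
    ring
  exact h1.trans (hM k N hN)

theorem sum_mem_ker {a : ℕ → WittVector p R} (ha : ∀ j, (a j).coeff 0 = 0) {b : WittVector p R}
    (hb : ∀ k, ∃ N₀, ∀ N, N₀ ≤ N → Cong (J k) k b (∑ j ∈ Finset.range N, (p : WittVector p R) ^ j * a j)) :
    b.coeff 0 = 0 := by
  refine eq_zero_of_forall_mem (p := p) fun j => ?_
  obtain ⟨N₀, hN⟩ := hb (j + 1)
  have h := hN N₀ le_rfl 0 (Nat.succ_pos j)
  have h0 : (∑ j ∈ Finset.range N₀, (p : WittVector p R) ^ j * a j).coeff 0 = 0 := by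
    show WittVector.constantCoeff (∑ j ∈ Finset.range N₀, (p : WittVector p R) ^ j * a j) = 0
    rw [map_sum]
    exact Finset.sum_eq_zero fun i _ => by rw [map_mul, WittVector.constantCoeff_apply (x := a i), ha, mul_zero]
  rw [h0, sub_zero] at h
  exact Ideal.span_singleton_le_span_singleton.2 (pow_dvd_pow _ (Nat.le_succ j)) h

theorem precomplete_aux (f a : ℕ → WittVector p R) (ha : ∀ j, f (j + 1) = f j + (p : WittVector p R) ^ j * a j)
    (b : ℕ → WittVector p R)
    (hb : ∀ n k, ∃ N₀, ∀ N, N₀ ≤ N → Cong (J k) k (b n) (∑ j ∈ Finset.range N, (p : WittVector p R) ^ j * a (n + j))) :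
    ∀ n, f n + (p : WittVector p R) ^ n * b n = f 0 + b 0 := by
  intro n
  induction n with
  | zero => simp
  | succ n ih =>
    have hrec : b n = a n + (p : WittVector p R) * b (n + 1) := by
      refine eq_of_cong (p := p) fun k => ?_
      obtain ⟨N₁, h₁⟩ := hb n k
      obtain ⟨N₂, h₂⟩ := hb (n + 1) k
      have e1 := h₁ (max N₁ N₂ + 1) (by omega)
      have e2 : Cong (J k) k (a n + (p : WittVector p R) * b (n + 1))
          (a n + (p : WittVector p R) * ∑ j ∈ Finset.range (max N₁ N₂), (p : WittVector p R) ^ j * a (n + 1 + j)) :=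
        cong_add (cong_iff.2 rfl) ((h₂ (max N₁ N₂) (le_max_right _ _)).mul_left _)
      have e3 : (a n + (p : WittVector p R) * ∑ j ∈ Finset.range (max N₁ N₂), (p : WittVector p R) ^ j * a (n + 1 + j)) =
          ∑ j ∈ Finset.range (max N₁ N₂ + 1), (p : WittVector p R) ^ j * a (n + j) := by
        rw [Finset.sum_range_succ', Finset.mul_sum, pow_zero, one_mul, add_zero, add_comm]
        congr 1
        exact Finset.sum_congr rfl fun j _ => by rw [show n + 1 + j = n + (j + 1) by omega, pow_succ]; ring
      rw [e3] at e2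
      exact e1.trans e2.symm
    rw [← ih, ha, hrec]
    ring

theorem result (p : ℕ) [Fact p.Prime] (R : Type u) [CommRing R]
    [IsAdicComplete (Ideal.span {(p : R)}) R] :
    IsAdicComplete (Ideal.span {(p : WittVector p R)}) (WittVector p R) ∧
      IsAdicComplete (RingHom.ker (WittVector.constantCoeff : WittVector p R →+* R)) (WittVector p R) := by
  let I := RingHom.ker (WittVector.constantCoeff : WittVector p R →+* R)
  have hI : ∀ x : WittVector p R, x ∈ I → ∃ y, x = WittVector.verschiebung y := fun x hx =>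
    ⟨x.shift 1, WittVector.ext fun n => by
      cases n with
      | zero => rw [WittVector.verschiebung_coeff_zero]; exact hx
      | succ n => rw [WittVector.verschiebung_coeff_succ, WittVector.shift_coeff, add_comm]⟩
  have hmul : ∀ a b : WittVector p R, WittVector.verschiebung a * WittVector.verschiebung b =
      (p : WittVector p R) * WittVector.verschiebung (a * b) := fun a b => by
    rw [← WittVector.verschiebung_mul_frobenius, WittVector.frobenius_verschiebung,
      show a * (b * (p : WittVector p R)) = (a * b) * WittVector.frobenius (p : WittVector p R) by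
        rw [map_natCast]; ring,
      WittVector.verschiebung_mul_frobenius, mul_comm]
  have hII : I * I = Ideal.span {(p : WittVector p R)} * I := by
    refine le_antisymm (Ideal.mul_le.2 fun a ha b hb => ?_) (Ideal.mul_le.2 fun a ha b hb => ?_)
    · obtain ⟨a, rfl⟩ := hI a ha
      obtain ⟨b, rfl⟩ := hI b hb
      rw [hmul]
      exact Ideal.mul_mem_mul (Ideal.mem_span_singleton_self _) (WittVector.verschiebung_coeff_zero (p := p) (a * b))
    · obtain ⟨c, rfl⟩ := Ideal.mem_span_singleton.1 ha
      obtain ⟨b, rfl⟩ := hI b hb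
      have h := hmul 1 b
      rw [one_mul] at h
      rw [mul_comm (p : WittVector p R) c, mul_assoc, ← h]
      exact Ideal.mul_mem_left _ _ (Ideal.mul_mem_mul (WittVector.verschiebung_coeff_zero (p := p) (1 : WittVector p R))
        (WittVector.verschiebung_coeff_zero (p := p) b))
  have hpow : ∀ n, I ^ (n + 1) = Ideal.span {(p : WittVector p R)} ^ n * I := fun n => by
    induction n with
    | zero => simp
    | succ n ih => rw [pow_succ, ih, mul_assoc, hII, pow_succ, mul_assoc]
  have hsep : ∀ x : WittVector p R, (∀ n, x ∈ Ideal.span {(p : WittVector p R)} ^ n) → x = 0 := fun x hx =>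
    eq_of_cong (p := p) fun k => by
      obtain ⟨m, hm⟩ := exists_small (p := p) (R := R) k
      obtain ⟨c, rfl⟩ := Ideal.mem_span_singleton.1 (Ideal.span_singleton_pow (p : WittVector p R) m ▸ hx m)
      exact hm m le_rfl c
  refine ⟨{ haus' := fun x hx => hsep x fun n => ?_, prec' := fun f hf => ?_ },
    { haus' := fun x hx => hsep x fun n => ?_, prec' := fun f hf => ?_ }⟩
  · simpa [SModEq.zero] using hx n
  · have h1 : ∀ j, ∃ a, f (j + 1) = f j + (p : WittVector p R) ^ j * a := fun j => by
      have := hf (Nat.le_succ j)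
      rw [SModEq.sub_mem, smul_eq_mul, Ideal.mul_top, Ideal.span_singleton_pow, Ideal.mem_span_singleton] at this
      obtain ⟨c, hc⟩ := this
      exact ⟨-c, by linear_combination -hc⟩
    choose a ha using h1
    choose b hb using fun n => exists_sum (p := p) fun j => a (n + j)
    refine ⟨f 0 + b 0, fun n => ?_⟩
    rw [SModEq.sub_mem, smul_eq_mul, Ideal.mul_top, Ideal.span_singleton_pow, Ideal.mem_span_singleton]
    exact ⟨-b n, by linear_combination (precomplete_aux f a ha b hb n)⟩
  · have := hx (n + 1)
    rw [SModEq.zero, smul_eq_mul, Ideal.mul_top] at this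
    change x ∈ I ^ (n + 1) at this
    rw [hpow] at this
    exact Ideal.mul_le_left this
  · have h1 : ∀ j, ∃ a, a.coeff 0 = 0 ∧ f (j + 1 + 1) = f (j + 1) + (p : WittVector p R) ^ j * a := fun j => by
      have := hf (Nat.le_succ (j + 1))
      rw [SModEq.sub_mem, smul_eq_mul, Ideal.mul_top] at this
      change _ ∈ I ^ (j + 1) at this
      rw [hpow, Ideal.span_singleton_pow, Ideal.mem_span_singleton_mul] at this
      obtain ⟨z, hz, hz'⟩ := this
      refine ⟨-z, ?_, by linear_combination hz'⟩
      show WittVector.constantCoeff (-z) = 0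
      rw [map_neg, RingHom.mem_ker.1 hz, neg_zero]
    choose a ha0 ha using h1
    choose b hb using fun n => exists_sum (p := p) fun j => a (n + j)
    refine ⟨f 1 + b 0, fun n => ?_⟩
    rw [SModEq.sub_mem, smul_eq_mul, Ideal.mul_top]
    change _ ∈ I ^ n
    cases n with
    | zero => rw [pow_zero, Ideal.one_eq_top]; exact Submodule.mem_top
    | succ n =>
      rw [hpow, Ideal.span_singleton_pow, Ideal.mem_span_singleton_mul]
      refine ⟨-b n, ?_, by linear_combination -(precomplete_aux (fun j => f (j + 1)) a ha b hb n)⟩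
      show WittVector.constantCoeff (-b n) = 0
      rw [map_neg, WittVector.constantCoeff_apply, sum_mem_ker (fun j => ha0 (n + j)) (hb n), neg_zero]

end Groth.Agent.S14855
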