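import Groth.Statements.S14856
import Mathlib.RingTheory.WittVector.Basic

set_option autoImplicit false
universe u
open CAlg

namespace Groth.Agent.S14856

/-- Let p be a prime and S a commutative ring in which p is a non-zero-divisor. For a p-typical Witt
vector x over S, a natural number m and an integer s ≥ 1, the power p^s divides each of the Witt
components x_0, …, x_m if and only if p^(n+s) divides the n-th ghost component w_n(x) = x_0^(p^n) +
p x_1^(p^(n-1)) + ⋯ + p^n x_n for every n ≤ m. -/
theorem result (p : ℕ) [Fact p.Prime] (S : Type u) [CommRing S]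
    (hS : ∀ y : S, (p : S) * y = 0 → y = 0) (x : WittVector p S) (m s : ℕ) (hs : 1 ≤ s) :
    (∀ i ≤ m, (p : S) ^ s ∣ x.coeff i) ↔
      (∀ n ≤ m, (p : S) ^ (n + s) ∣ WittVector.ghostComponent n x) := by
  have hp2 : 2 ≤ p := (Fact.out (p := p.Prime)).two_le
  have hg : ∀ n, WittVector.ghostComponent n x =
      ∑ i ∈ Finset.range (n + 1), (p : S) ^ i * x.coeff i ^ p ^ (n - i) := fun n => by
    rw [WittVector.ghostComponent_apply, aeval_wittPolynomial]
  have hterm : ∀ n i, i ≤ n → (p : S) ^ s ∣ x.coeff i →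
      (p : S) ^ (n + s) ∣ (p : S) ^ i * x.coeff i ^ p ^ (n - i) := fun n i hi hd => by
    refine dvd_trans ?_ (mul_dvd_mul_left _ (pow_dvd_pow_of_dvd hd _))
    rw [← pow_mul, ← pow_add]
    refine pow_dvd_pow _ ?_
    have h1 : n - i + 1 ≤ p ^ (n - i) := Nat.lt_pow_self hp2
    nlinarith [Nat.mul_le_mul_left s h1, Nat.mul_le_mul_right (n - i) hs, Nat.sub_add_cancel hi]
  have hcancel : ∀ (n : ℕ) (y : S), (p : S) ^ n * y = 0 → y = 0 := by
    intro n
    induction n with
    | zero => intro y h; simpa using h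
    | succ n ih => intro y h; exact ih y (hS _ (by rw [← mul_assoc, ← pow_succ']; exact h))
  refine ⟨fun h n hn => ?_, fun h i => ?_⟩
  · rw [hg]
    exact Finset.dvd_sum fun i hi => hterm n i (Nat.lt_succ_iff.1 (Finset.mem_range.1 hi))
      (h i ((Nat.lt_succ_iff.1 (Finset.mem_range.1 hi)).trans hn))
  · induction i using Nat.strong_induction_on with
    | _ i ih =>
      intro hi
      have h1 := h i hi
      rw [hg, Finset.sum_range_succ, Nat.sub_self, pow_zero, pow_one] at h1
      have h2 : (p : S) ^ (i + s) ∣ ∑ j ∈ Finset.range i, (p : S) ^ j * x.coeff j ^ p ^ (i - j) :=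
        Finset.dvd_sum fun j hj => hterm i j (Finset.mem_range.1 hj).le
          (ih j (Finset.mem_range.1 hj) ((Finset.mem_range.1 hj).le.trans hi))
      obtain ⟨c, hc⟩ := (dvd_add_right h2).1 h1
      exact ⟨c, sub_eq_zero.1 (hcancel i _ (by rw [mul_sub, hc, pow_add]; ring))⟩

end Groth.Agent.S14856
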