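import Groth.Statements.S14857
import Mathlib.RingTheory.WittVector.Domain
import Mathlib.RingTheory.WittVector.Identities
-- import your own Groth.Agent.* helpers here

set_option autoImplicit false
open CAlg

namespace Groth.Agent.S14857

/-- For a prime p, the Teichmüller representative [p^p] of the element p^p of the p-adic integers is
divisible by p in the ring of p-typical Witt vectors W(ℤ_p). -/
theorem result (p : ℕ) [Fact p.Prime] :
    (p : WittVector p ℤ_[p]) ∣ WittVector.teichmuller p ((p : ℤ_[p]) ^ p) := by
  let y : WittVector p ℤ_[p] := WittVector.teichmuller p (p : ℤ_[p]) - (p : WittVector p ℤ_[p])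
  have h0 : y.coeff 0 = 0 := by
    have := map_sub (WittVector.constantCoeff : WittVector p ℤ_[p] →+* ℤ_[p]) (WittVector.teichmuller p (p : ℤ_[p])) (p : WittVector p ℤ_[p])
    simpa [y] using this
  have hv : WittVector.verschiebung (y.shift 1) = y := by
    have := WittVector.verschiebung_shift y 0 (by intro i hi; obtain rfl : i = 0 := (by omega); exact h0)
    refine this.trans ?_
    ext i
    simp [WittVector.shift_coeff]
  have hsq : (p : WittVector p ℤ_[p]) ∣ y ^ 2 := by
    rw [← hv, sq, ← WittVector.verschiebung_mul_frobenius, WittVector.frobenius_verschiebung]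
    refine ⟨WittVector.verschiebung (y.shift 1 * y.shift 1), ?_⟩
    rw [← mul_assoc, ← nsmul_eq_mul', map_nsmul, nsmul_eq_mul]
  have hp : 2 ≤ p := (Fact.out : p.Prime).two_le
  have h1 : (p : WittVector p ℤ_[p]) ∣ y ^ p := hsq.trans (pow_dvd_pow y hp)
  have h2 : (p : WittVector p ℤ_[p]) ∣ (y + p) ^ p - y ^ p := by
    refine dvd_trans ?_ (sub_dvd_pow_sub_pow _ _ p)
    simp
  have h3 := dvd_add h2 h1
  rw [sub_add_cancel] at h3
  rw [map_pow]
  simpa [y] using h3

end Groth.Agent.S14857
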