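import Groth.Statements.S14859
import Groth.Agent.DispExt.Core

set_option autoImplicit false
universe u v w
open Disp

namespace Groth.Agent.S14859

/-- Let p be a prime, R a commutative ring with p-typical Witt vectors W = W(R), and (P, Q, F, V⁻¹) a
3n-display over R with a normal decomposition P = L ⊕ T, Q = L + I_R·T. Then V⁻¹ ⊕ F : L ⊕ T → P is
a Frobenius-linear isomorphism; stated here in the case where L and T are free with bases (l_i) and
(t_j): the family consisting of the V⁻¹(l_i) and the F(t_j) is a basis of the W-module P, i.e. it is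
linearly independent over W and spans P. -/
theorem result (p : ℕ) [Fact p.Prime] (R : Type u) [CommRing R]
    (P : Type v) [AddCommGroup P] [Module (WittVector p R) P] (D : W4c1extbt610.Display3n p R P)
    (L T : Submodule (WittVector p R) P) (hLT : IsCompl L T)
    (hQ : D.Q = L ⊔ W4c1extbt610.IV p R • T) (hLQ : L ≤ D.Q)
    (ιL ιT : Type w) (bL : Module.Basis ιL (WittVector p R) L) (bT : Module.Basis ιT (WittVector p R) T) :
    LinearIndependent (WittVector p R)
        (Sum.elim (fun i : ιL => D.Vinv ⟨(bL i : P), hLQ (bL i).2⟩) (fun j : ιT => D.F (bT j : P))) ∧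
      Submodule.span (WittVector p R)
        (Set.range (Sum.elim (fun i : ιL => D.Vinv ⟨(bL i : P), hLQ (bL i).2⟩) (fun j : ιT => D.F (bT j : P)))) = ⊤ := by
  set s : ιL ⊕ ιT → P := Sum.elim (fun i : ιL => D.Vinv ⟨(bL i : P), hLQ (bL i).2⟩) (fun j : ιT => D.F (bT j : P)) with hs
  obtain ⟨B, hBl, hBr⟩ : ∃ B : Module.Basis (ιL ⊕ ιT) (WittVector p R) P, (∀ i, B (Sum.inl i) = (bL i : P)) ∧ ∀ j, B (Sum.inr j) = (bT j : P) := by
    refine ⟨(bL.prod bT).map (Submodule.prodEquivOfIsCompl L T hLT), fun i => ?_, fun j => ?_⟩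
    · simp
    · simp
  -- (ιL ⊕ ιT) (WittVector p R) P := (bL.prod bT).map (Submodule.prodEquivOfIsCompl L T hLT)
  have hg : ∀ x, DispExt.g D hLT hQ x ∈ Submodule.span (WittVector p R) (Set.range s) := by
    have h : (⊤ : Submodule (WittVector p R) P) ≤ (Submodule.span (WittVector p R) (Set.range s)).comap (DispExt.g D hLT hQ) := by
      rw [← B.span_eq, Submodule.span_le]
      rintro - ⟨i | j, rfl⟩
      · rw [SetLike.mem_coe, Submodule.mem_comap, hBl, DispExt.g_of_mem D hLT hQ (bL i).2]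
        exact Submodule.subset_span ⟨Sum.inl i, rfl⟩
      · rw [SetLike.mem_coe, Submodule.mem_comap, hBr, DispExt.g_of_mem_T D hLT hQ (bT j).2]
        exact Submodule.subset_span ⟨Sum.inr j, rfl⟩
    exact fun x => h Submodule.mem_top
  have hspan : Submodule.span (WittVector p R) (Set.range s) = ⊤ := by
    rw [eq_top_iff, ← D.span_range_Vinv, Submodule.span_le]
    rintro - ⟨q, rfl⟩
    obtain ⟨l, hl, z, hz, e⟩ := Submodule.mem_sup.1 (hQ ▸ q.2 : (q : P) ∈ L ⊔ W4c1extbt610.IV p R • T)
    have hz' : ∀ z ∈ W4c1extbt610.IV p R • T, ∃ h : z ∈ D.Q, D.Vinv ⟨z, h⟩ ∈ Submodule.span (WittVector p R) (Set.range s) := by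
      intro z hz
      refine Submodule.smul_induction_on hz (fun c hc t ht => ?_) fun a b ha hb => ?_
      · obtain ⟨a, rfl⟩ := DispExt.mem_IV_iff.1 hc
        refine ⟨D.IV_smul_le (Submodule.smul_mem_smul hc Submodule.mem_top), ?_⟩
        rw [D.Vinv_verschiebung_smul, ← DispExt.g_of_mem_T D hLT hQ ht]
        exact Submodule.smul_mem _ _ (hg t)
      · obtain ⟨ha', ea⟩ := ha
        obtain ⟨hb', eb⟩ := hb
        refine ⟨add_mem ha' hb', ?_⟩
        rw [show (⟨a + b, add_mem ha' hb'⟩ : D.Q) = ⟨a, ha'⟩ + ⟨b, hb'⟩ from rfl, map_add]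
        exact add_mem ea eb
    obtain ⟨hzQ, hzV⟩ := hz' z hz
    rw [show q = ⟨l, hLQ hl⟩ + ⟨z, hzQ⟩ from Subtype.ext e.symm, map_add, ← DispExt.g_of_mem D hLT hQ hl]
    exact add_mem (hg l) hzV
  refine ⟨?_, hspan⟩
  haveI := D.finite
  let f : P →ₗ[WittVector p R] P := B.constr ℕ s
  have hf : Function.Surjective f := by
    rw [← LinearMap.range_eq_top, eq_top_iff, ← hspan, Submodule.span_le]
    rintro - ⟨i, rfl⟩
    exact ⟨B i, B.constr_basis ℕ s i⟩
  have hfi := OrzechProperty.injective_of_surjective_endomorphism f hf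
  have := B.linearIndependent.map' f (LinearMap.ker_eq_bot.2 hfi)
  rw [show (⇑f ∘ ⇑B) = s from funext fun i => B.constr_basis ℕ s i] at this
  exact this

end Groth.Agent.S14859
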