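import Groth.Statements.S14870
import Groth.Agent.PLie.Exist

set_option autoImplicit false
universe u v w
open PLie

namespace Groth.Agent.S14870

/-- Let `L` be a Lie algebra over a field of characteristic `p` equipped with a `p`-mapping `φ`, and let
`f : L → L'` be a surjective morphism of Lie algebras onto a Lie algebra with zero centre. Then the
kernel of `f` is stable under `φ`, i.e. it is a `p`-ideal. (The published statement is for
finite-dimensional Lie algebras; no finiteness is assumed in this row.) -/
theorem result
    (k : Type u) [Field k] (p : ℕ) [Fact p.Prime] [CharP k p]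
    (L : Type v) [LieRing L] [LieAlgebra k L] (L' : Type w) [LieRing L'] [LieAlgebra k L']
    (φ : PLie.PMap k p L) (f : L →ₗ⁅k⁆ L') (hf : Function.Surjective f)
    (hz : LieAlgebra.center k L' = ⊥) (x : L) (hx : f x = 0) :
    f (φ x) = 0 := by
  rw [← LieSubmodule.mem_bot (R := k) (L := L') (M := L'), ← hz, LieModule.mem_maxTrivSubmodule]
  intro m
  obtain ⟨n, rfl⟩ := hf m
  have key : ∀ (j : ℕ), f ((LieAlgebra.ad k L x ^ j) n) = (LieAlgebra.ad k L' (f x) ^ j) (f n) := by
    intro j
    induction j with
    | zero => rfl
    | succ j ih => rw [pow_succ', pow_succ', Module.End.mul_apply, Module.End.mul_apply, ← ih,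
        LieAlgebra.ad_apply, LieAlgebra.ad_apply, LieHom.map_lie]
  rw [← lie_skew, ← LieHom.map_lie, ← LieAlgebra.ad_apply k, φ.ad_map, key, hx, map_zero,
    zero_pow (Fact.out : p.Prime).ne_zero, LinearMap.zero_apply, neg_zero]

end Groth.Agent.S14870
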