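import Groth.Statements.S14874
import Groth.Agent.PLie.Ideal

set_option autoImplicit false
universe u v
open PLie

namespace Groth.Agent.S14874

/-- Let `L` be a finite-dimensional Lie algebra over a field of characteristic `p` equipped with a
`p`-mapping `φ`. Let `N` be the nilradical of `L` (the ideal nilpotent as a Lie ring that contains
every such ideal) and `P` its `p`-radical (the largest ideal stable under `φ` all of whose elements
are `p`-nilpotent). Then `N = P` if and only if the centre of `L` is contained in `P`. -/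
theorem result
    (k : Type u) [Field k] (p : ℕ) [Fact p.Prime] [CharP k p]
    (L : Type v) [LieRing L] [LieAlgebra k L] [Module.Finite k L]
    (φ : PLie.PMap k p L)
    (N : LieIdeal k L) (hN : LieRing.IsNilpotent N)
    (hNmax : ∀ I : LieIdeal k L, LieRing.IsNilpotent I → I ≤ N)
    (P : LieIdeal k L) (hPsub : ∀ x ∈ P, φ x ∈ P) (hPnil : ∀ x ∈ P, PLie.IsPNilpotent φ x)
    (hPmax : ∀ J : LieIdeal k L, (∀ x ∈ J, φ x ∈ J) → (∀ x ∈ J, PLie.IsPNilpotent φ x) → J ≤ P) :
    N = P ↔ LieAlgebra.center k L ≤ P := by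
  have hPN : P ≤ N := hNmax P (Groth.Agent.PLie.Ideal.isNilpotent_of_pNilpotent φ P hPnil)
  refine ⟨fun h => h ▸ hNmax _ ?_, fun h => le_antisymm (hPmax N ?_ ?_) hPN⟩
  · rw [LieAlgebra.isNilpotent_iff_forall (R := k)]
    intro y
    refine ⟨1, LinearMap.ext fun z => Subtype.ext ?_⟩
    rw [pow_one, LieAlgebra.ad_apply]
    show ⁅(y : L), (z : L)⁆ = 0
    exact z.2 (y : L)
  · exact fun x hx => Groth.Agent.PLie.Ideal.pmap_mem_nilradical φ N hN hNmax hx
  · intro x hx
    obtain ⟨K, hK⟩ := Groth.Agent.PLie.Ideal.isNilpotent_toEnd hN ⟨x, hx⟩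
    have key : ∀ n : ℕ, LieAlgebra.ad k L (φ.toFun^[n] x) = LieAlgebra.ad k L x ^ p ^ n := by
      intro n
      induction n with
      | zero => simp
      | succ n ih => rw [Function.iterate_succ_apply', φ.ad_map, ih, ← pow_mul, pow_succ]
    have hK' : LieAlgebra.ad k L x ^ K = 0 := hK
    have h0 : LieAlgebra.ad k L (φ.toFun^[K] x) = 0 := by
      rw [key]
      exact pow_eq_zero_of_le (Nat.lt_pow_self (Fact.out : p.Prime).one_lt).le hK'
    obtain ⟨m, hm⟩ := hPnil _ (h (show φ.toFun^[K] x ∈ LieAlgebra.center k L from fun l => by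
      rw [← lie_skew, ← LieAlgebra.ad_apply k, h0, LinearMap.zero_apply, neg_zero]))
    exact ⟨m + K, by rw [Function.iterate_add_apply]; exact hm⟩

end Groth.Agent.S14874
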