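import Groth.Statements.S14879
import Mathlib.LinearAlgebra.Matrix.Permutation
import Mathlib.GroupTheory.Perm.Fin
import Mathlib.GroupTheory.Perm.Sign
import Mathlib.LinearAlgebra.Matrix.Determinant.Basic
import Mathlib.Data.Finset.Sort
import Mathlib.Algebra.BigOperators.Fin

set_option autoImplicit false
universe u
open Finset
open AlgGrp

namespace Groth.Agent.S14879

/-- Let k be a field of characteristic zero, n = p + r with p, r ≥ 1, M an n × n matrix over k, A a set
of p row indices and B a set of r row indices, both listed increasingly. For a permutation π of the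
indices, with permutation matrix P_π, let Y_A(M·P_π) be the minor of M·P_π on the rows A and the
first p columns, and Z_B(M·P_π) the minor on the rows B and the last r columns. Then the sum over
all π of sign(π)·Y_A(M·P_π)·Z_B(M·P_π) equals p!·r!·(−1)^N·det M when B is the complement of A,
where N is the number of pairs (a, b) with a in A, b outside A and b < a, and equals 0 otherwise.
Taking det M = 1 this says that the pairing (f, h) ↦ Σ_π sign(π) f(π) h(π) between the spans of the
left p-minors and of the right r-minors is invariant under left translation by matrices of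
determinant one and pairs Y_A with the signed complementary minor to p!·r!. (The published statement
asserts that the two families of minors are dual bases for this pairing, that is, the value 1 in
place of p!·r!; the p!·r! permutations preserving the two column blocks each contribute the same
signed term, so this row carries that factor, which is 1 only for n = 2.) -/
theorem result (k : Type u) [Field k] [CharZero k]
    (p r : ℕ) (hp : 1 ≤ p) (hr : 1 ≤ r) (M : Matrix (Fin (p + r)) (Fin (p + r)) k)
    (A : Finset (Fin (p + r))) (hA : A.card = p) (B : Finset (Fin (p + r))) (hB : B.card = r) :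
    ∑ π : Equiv.Perm (Fin (p + r)), (((Equiv.Perm.sign π : ℤˣ) : ℤ) : k) *
      ((M * π.permMatrix k).submatrix (A.orderEmbOfFin hA) (Fin.castAdd r)).det *
      ((M * π.permMatrix k).submatrix (B.orderEmbOfFin hB) (Fin.natAdd p)).det =
    if B = Aᶜ then ((p.factorial * r.factorial : ℕ) : k) *
      (-1 : k) ^ ((A ×ˢ Aᶜ).filter (fun ab => ab.2 < ab.1)).card * M.det else 0 := by
  classical
  have hlr : ∀ (i : Fin p) (j : Fin r), Fin.castAdd r i < Fin.natAdd p j := fun i j => by
    simp [Fin.lt_def]; omega
  let a := A.orderEmbOfFin hA
  let b := B.orderEmbOfFin hB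
  let row : Fin (p + r) → Fin (p + r) := Fin.append a b
  let sgn : Equiv.Perm (Fin (p + r)) → k := fun π => (((Equiv.Perm.sign π : ℤˣ) : ℤ) : k)
  have hdet : ∀ {n : ℕ} (X : Matrix (Fin n) (Fin n) k), X.det = ∑ α : Equiv.Perm (Fin n), (((Equiv.Perm.sign α : ℤˣ) : ℤ) : k) * ∏ i, X i (α i) := by
    intro n X
    rw [← Matrix.det_transpose, Matrix.det_apply']
    rfl
  let θ : Equiv.Perm (Fin p) → Equiv.Perm (Fin r) → Equiv.Perm (Fin (p + r)) := fun α β =>
    finSumFinEquiv.permCongr (Equiv.sumCongr α β)
  have hθ : ∀ α β, sgn (θ α β) = (((Equiv.Perm.sign α : ℤˣ) : ℤ) : k) * (((Equiv.Perm.sign β : ℤˣ) : ℤ) : k) := by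
    intro α β
    simp only [sgn, θ, Equiv.Perm.sign_permCongr]
    rw [show Equiv.sumCongr α β = Equiv.Perm.sumCongr α β from rfl, Equiv.Perm.sign_sumCongr]
    simp
  have hθl : ∀ α β i, θ α β (Fin.castAdd r i) = Fin.castAdd r (α i) := fun α β i => by simp [θ]
  have hθr : ∀ α β j, θ α β (Fin.natAdd p j) = Fin.natAdd p (β j) := fun α β j => by simp [θ]
  have hsgn : ∀ π π', sgn (π * π') = sgn π * sgn π' := fun π π' => by simp [sgn]
  have main : (∑ π : Equiv.Perm (Fin (p + r)), sgn π *
      ((M * π.permMatrix k).submatrix a (Fin.castAdd r)).det *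
      ((M * π.permMatrix k).submatrix b (Fin.natAdd p)).det) =
      ((p.factorial * r.factorial : ℕ) : k) * (M.submatrix row id).det := by
    rw [← Equiv.sum_comp (Equiv.inv (Equiv.Perm (Fin (p + r))))]
    have h1 : ∀ σ : Equiv.Perm (Fin (p + r)), M * σ⁻¹.permMatrix k = M.submatrix id σ := fun σ => by
      rw [Equiv.Perm.permMatrix, PEquiv.mul_toMatrix_toPEquiv]
      congr 1
    have h2 : ∀ σ : Equiv.Perm (Fin (p + r)), sgn σ *
        ((M.submatrix id σ).submatrix a (Fin.castAdd r)).det * ((M.submatrix id σ).submatrix b (Fin.natAdd p)).det =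
        ∑ α : Equiv.Perm (Fin p), ∑ β : Equiv.Perm (Fin r), sgn (σ * θ α β) * ∏ q, M (row q) ((σ * θ α β) q) := by
      intro σ
      rw [hdet, hdet, mul_assoc, Finset.sum_mul_sum, Finset.mul_sum]
      refine Finset.sum_congr rfl fun α _ => ?_
      rw [Finset.mul_sum]
      refine Finset.sum_congr rfl fun β _ => ?_
      rw [hsgn, hθ, Fin.prod_univ_add]
      simp only [Equiv.Perm.mul_apply, hθl, hθr, row, Fin.append_left, Fin.append_right, Matrix.submatrix_apply, id_eq]
      ring
    simp only [Equiv.inv_apply, h1, sgn, Equiv.Perm.sign_inv]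
    rw [Finset.sum_congr rfl (fun σ _ => h2 σ), Finset.sum_comm]
    have h3 : ∀ α β, ∑ σ : Equiv.Perm (Fin (p + r)), sgn (σ * θ α β) * ∏ q, M (row q) ((σ * θ α β) q) = (M.submatrix row id).det := by
      intro α β
      rw [hdet]
      exact Fintype.sum_equiv (Equiv.mulRight (θ α β)) _ _ (fun σ => rfl)
    rw [Finset.sum_congr rfl (fun α _ => (Finset.sum_comm).trans (Finset.sum_congr rfl fun β _ => h3 α β))]
    simp [Fintype.card_perm, mul_assoc]
  refine main.trans ?_
  by_cases hBA : B = Aᶜ
  · subst hBA
    rw [if_pos rfl]
    have hal : ∀ i, row (Fin.castAdd r i) ∈ A := fun i => by simp [row, a]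
    have hbr : ∀ j, row (Fin.natAdd p j) ∉ A := fun j => by
      rw [show row (Fin.natAdd p j) = b j by simp [row]]
      exact Finset.mem_compl.mp (Finset.orderEmbOfFin_mem Aᶜ hB j)
    have hinj : Function.Injective row := by
      intro x y hxy
      induction x using Fin.addCases <;> induction y using Fin.addCases
      · simpa [row, a] using hxy
      · exact absurd (hxy ▸ hal _) (hbr _)
      · exact absurd (hxy ▸ hal _) (hbr _)
      · simpa [row, b] using hxy
    let ρ : Equiv.Perm (Fin (p + r)) := Equiv.ofBijective row (Finite.injective_iff_bijective.mp hinj)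
    have hs : sgn ρ = (-1 : k) ^ ((A ×ˢ Aᶜ).filter (fun ab => ab.2 < ab.1)).card := by
      have e : ((A ×ˢ Aᶜ).filter (fun ab => ab.2 < ab.1)).card =
          ((Finset.univ.sigma fun j : Fin (p + r) => Finset.Iio j).filter (fun x => ¬ ρ x.2 < ρ x.1)).card := by
        refine Finset.card_bij' (fun ab _ => ⟨ρ.symm ab.2, ρ.symm ab.1⟩) (fun x _ => (ρ x.2, ρ x.1)) ?_ ?_ ?_ ?_
        · rintro ⟨u, v⟩ h
          simp only [Finset.mem_filter, Finset.mem_product, Finset.mem_compl] at h
          obtain ⟨⟨hu, hv⟩, huv⟩ := h
          simp only [Finset.mem_filter, Finset.mem_sigma, Finset.mem_univ, Finset.mem_Iio, true_and,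
            Equiv.apply_symm_apply]
          refine ⟨?_, huv.not_gt⟩
          obtain ⟨i, rfl⟩ := ρ.surjective u
          obtain ⟨j, rfl⟩ := ρ.surjective v
          simp only [Equiv.symm_apply_apply]
          induction i using Fin.addCases with
          | left i =>
            induction j using Fin.addCases with
            | left j => exact absurd (hal j) hv
            | right j => exact hlr i j
          | right i => exact absurd hu (hbr i)
        · rintro ⟨j, i⟩ h
          simp only [Finset.mem_filter, Finset.mem_sigma, Finset.mem_univ, Finset.mem_Iio, true_and] at h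
          obtain ⟨hij, hρ⟩ := h
          have hlt : ρ j < ρ i := lt_of_le_of_ne (not_lt.mp hρ) fun e => hij.ne (ρ.injective e).symm
          simp only [Finset.mem_filter, Finset.mem_product, Finset.mem_compl]
          refine ⟨?_, hlt⟩
          have el : ∀ i, ρ (Fin.castAdd r i) = a i := fun i => by show row _ = _; simp [row]
          have er : ∀ i, ρ (Fin.natAdd p i) = b i := fun i => by show row _ = _; simp [row]
          induction i using Fin.addCases with
          | left i =>
            induction j using Fin.addCases with
            | left j =>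
              rw [el, el, OrderEmbedding.lt_iff_lt] at hlt
              have := Fin.lt_def.mp hij
              simp only [Fin.val_castAdd] at this
              exact absurd (Fin.lt_def.mpr this) hlt.not_gt
            | right j => exact ⟨hal i, hbr j⟩
          | right i =>
            induction j using Fin.addCases with
            | left j => exact absurd hij (hlr j i).not_gt
            | right j =>
              rw [er, er, OrderEmbedding.lt_iff_lt] at hlt
              have := Fin.lt_def.mp hij
              simp only [Fin.val_natAdd] at this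
              exact absurd (Fin.lt_def.mpr (by omega)) hlt.not_gt
        · intros; simp
        · intros; simp
      simp only [sgn, Equiv.Perm.sign_eq_prod_prod_Iio, Finset.prod_sigma', Units.coe_prod, Int.cast_prod]
      rw [e, ← Finset.prod_const, Finset.prod_filter]
      refine Finset.prod_congr rfl fun x _ => ?_
      split_ifs <;> simp_all
    rw [mul_assoc, ← hs]
    congr 1
    exact Matrix.det_permute ρ M
  · rw [if_neg hBA]
    have hne : ∃ x ∈ A, x ∈ B := by
      by_contra hc
      push Not at hc
      refine hBA (Finset.eq_of_subset_of_card_le (fun x hx => Finset.mem_compl.mpr fun ha => hc x ha hx) ?_)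
      rw [Finset.card_compl, hA, hB, Fintype.card_fin]; omega
    obtain ⟨x, hxA, hxB⟩ := hne
    obtain ⟨i, hi⟩ : ∃ i, a i = x := by
      have : x ∈ Set.range a := by simp [a, hxA]
      exact this
    obtain ⟨j, hj⟩ : ∃ j, b j = x := by
      have : x ∈ Set.range b := by simp [b, hxB]
      exact this
    rw [Matrix.det_zero_of_row_eq (i := Fin.castAdd r i) (j := Fin.natAdd p j) (hlr i j).ne, mul_zero]
    funext q
    simp [row, hi, hj]

end Groth.Agent.S14879
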