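import Groth.Statements.S1489
import Groth.Agent.FormallyEtale.Hom

set_option autoImplicit false
universe u
open FlatMor

namespace Groth.Agent.S1489

open AlgebraicGeometry CategoryTheory Limits in
/-- A morphism f : X → S is étale if and only if it is locally of finite presentation and formally
étale, i.e. has the unique lifting property against first order thickenings of affine schemes (rings
in the same universe). -/
theorem result {X S : Scheme.{u}} (f : X ⟶ S) :
    Etale f ↔ LocallyOfFinitePresentation f ∧ MoreMor.IsFormallyEtaleHom f := by
  rw [Groth.Agent.FormallyEtale.isFormallyEtaleHom_iff]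
  constructor
  · intro hf
    refine ⟨⟨fun {V} hV {U} hU e => ?_⟩, fun U V hU hV e => ?_⟩
    · letI := (f.appLE V U e).hom.toAlgebra
      exact (show Algebra.Etale Γ(S, V) Γ(X, U) from Etale.etale_appLE f hV hU e).finitePresentation
    · letI := (f.appLE V U e).hom.toAlgebra
      exact (show Algebra.Etale Γ(S, V) Γ(X, U) from Etale.etale_appLE f hV hU e).formallyEtale
  · rintro ⟨hp, hfe⟩
    refine ⟨fun {V} hV {U} hU e => ?_⟩
    letI := (f.appLE V U e).hom.toAlgebra
    exact ⟨hfe U V hU hV e, hp.finitePresentation_appLE hV hU e⟩

end Groth.Agent.S1489
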