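import Groth.Statements.S14933
import Groth.Agent.Locus.Basic
import Mathlib.AlgebraicGeometry.Morphisms.Affine

set_option autoImplicit false
universe u
open CategoryTheory CategoryTheory.Limits AlgebraicGeometry
open Variety

namespace Groth.Agent.S14933

open CategoryTheory CategoryTheory.Limits AlgebraicGeometry Opposite TopologicalSpace FrobSch

theorem pushout_induction {A B C P : CommRingCat.{u}} {a : A ⟶ B} {b : A ⟶ C} {i : B ⟶ P} {j : C ⟶ P}
    (h : IsPushout a b i j) (Q : Subring P) (hi : ∀ x, i x ∈ Q) (hj : ∀ x, j x ∈ Q) (t : P) : t ∈ Q := by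
  let i' : B ⟶ CommRingCat.of Q := CommRingCat.ofHom (i.hom.codRestrict Q hi)
  let j' : C ⟶ CommRingCat.of Q := CommRingCat.ofHom (j.hom.codRestrict Q hj)
  have w : a ≫ i' = b ≫ j' := by
    ext x
    exact ConcreteCategory.congr_hom h.w x
  let l := h.desc i' j' w
  have hl : l ≫ CommRingCat.ofHom Q.subtype = 𝟙 P := by
    refine h.hom_ext ?_ ?_
    · rw [IsPushout.inl_desc_assoc, Category.comp_id]; rfl
    · rw [IsPushout.inr_desc_assoc, Category.comp_id]; rfl
  have := ConcreteCategory.congr_hom hl t
  change (l t).1 = t at this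
  rw [← this]
  exact (l t).2

variable {X Y : Scheme.{u}} {g : X ⟶ Y} {F : X.Modules}

theorem der_mul (D : OmegaSh.Der g F) (U : X.Opens) (a b : Γ(X, U)) :
    D.app U (a * b) = a • D.app U b + b • D.app U a := D.d_mul a b

theorem der_one (D : OmegaSh.Der g F) (U : X.Opens) : D.app U 1 = 0 := by
  have h := der_mul D U 1 1
  rw [one_mul, one_smul] at h
  exact right_eq_add.mp h

theorem der_pow (D : OmegaSh.Der g F) (U : X.Opens) (a : Γ(X, U)) (n : ℕ) :
    D.app U (a ^ n) = ((n : Γ(X, U)) * a ^ (n - 1)) • D.app U a := by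
  induction n with
  | zero => simp [der_one]
  | succ n ih =>
    rw [pow_succ', der_mul, ih, smul_smul, ← add_smul]
    congr 1
    rcases n with _ | n
    · simp
    · simp only [Nat.cast_add, Nat.cast_one, add_tsub_cancel_right, pow_succ]
      ring

theorem der_res (D : OmegaSh.Der g F) {U U' : X.Opens} (i : U' ≤ U) (a : Γ(X, U)) :
    D.app U' (X.presheaf.map (homOfLE i).op a) = F.presheaf.map (homOfLE i).op (D.app U a) :=
  D.d_map (homOfLE i).op a

theorem der_base (D : OmegaSh.Der g F) {U : X.Opens} {V : Y.Opens} (e : U ≤ g ⁻¹ᵁ V) (c : Γ(Y, V)) :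
    D.app U (g.appLE V U e c) = 0 := by
  show D.app U (X.presheaf.map (homOfLE e).op (g.app V c)) = 0
  rw [der_res, show D.app (g ⁻¹ᵁ V) (g.app V c) = 0 from D.d_app (X := op V) c, map_zero]

variable {S : Scheme.{u}} {f : X ⟶ S} (p : ℕ) [Fact p.Prime] [IsCharP S p]

theorem der_relFrob (D : OmegaSh.Der f F) (V : (frobTwist f p).Opens) (c : Γ(frobTwist f p, V)) :
    D.app (relFrob f p ⁻¹ᵁ V) ((relFrob f p).app V c) = 0 := by
  haveI : IsCharP X p := IsCharP.of_hom f p
  refine TopCat.Presheaf.section_ext ⟨F.presheaf, F.isSheaf⟩ (relFrob f p ⁻¹ᵁ V) _ 0 fun x hx => ?_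
  obtain ⟨A, A', U, W, hA, hA', hU, hW, eA, eU, eW, eW', hxW, hpo⟩ :=
    Groth.Agent.Locus.Basic.exists_affine_charts (IsPullback.of_hasPullback f (frob S p)) (relFrob f p x)
  let P := frobTwist f p
  let O : X.Opens := relFrob f p ⁻¹ᵁ W
  -- every section over `W` is killed
  let Q : Subring Γ(P, W) :=
    { carrier := {t | D.app O ((relFrob f p).app W t) = 0}
      zero_mem' := by simp
      one_mem' := by simp [der_one, O]
      add_mem' := fun {a b} ha hb => by simp only [Set.mem_setOf_eq, map_add] at *; rw [ha, hb, add_zero]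
      neg_mem' := fun {a} ha => by simp only [Set.mem_setOf_eq, map_neg] at *; rw [ha, neg_zero]
      mul_mem' := fun {a b} ha hb => by
        simp only [Set.mem_setOf_eq, map_mul, O] at *
        rw [der_mul, ha, hb, smul_zero, smul_zero, add_zero] }
  have key : ∀ t, D.app O ((relFrob f p).app W t) = 0 := by
    refine pushout_induction hpo Q (fun a => ?_) (fun b => ?_)
    · show D.app O ((relFrob f p).app W _) = 0
      have e0 : O ≤ (relFrob f p ≫ pullback.fst f (frob S p)) ⁻¹ᵁ U := fun y hy => eW' hy
      have e1 : O ≤ U := by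
        intro y hy
        have := e0 hy
        rwa [relFrob_fst, frob_preimage] at this
      have : (relFrob f p).app W ((pullback.fst f (frob S p)).appLE U W eW' a) =
          (relFrob f p ≫ pullback.fst f (frob S p)).appLE U O e0 a := by
        rw [← Scheme.Hom.appLE_comp_appLE _ _ U W O eW' le_rfl, ConcreteCategory.comp_apply,
          Scheme.Hom.app_eq_appLE]
      rw [this]
      have h2 : (relFrob f p ≫ pullback.fst f (frob S p)).appLE U O e0 a =
          X.presheaf.map (homOfLE e1).op (a ^ p) := by
        simp only [relFrob_fst]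
        show X.presheaf.map (homOfLE _).op ((frob X p).app U a) = _
        rw [frob_app]
        rfl
      rw [h2, der_res, der_pow, natCast_eq_zero_app X p U, zero_mul, zero_smul, map_zero]
    · show D.app O ((relFrob f p).app W _) = 0
      have e0 : O ≤ f ⁻¹ᵁ A' := by
        intro y hy
        have h : relFrob f p ≫ pullback.snd f (frob S p) = f := relFrob_snd f p
        rw [← h]
        exact eW hy
      have : (relFrob f p).app W ((pullback.snd f (frob S p)).appLE A' W eW b) =
          f.appLE A' O e0 b := by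
        rw [← ConcreteCategory.comp_apply, Scheme.Hom.app_eq_appLE, Scheme.Hom.appLE_comp_appLE]
        simp only [relFrob_snd]
        rfl
      rw [this]
      exact der_base D e0 b
  obtain ⟨r, hrV, hxr⟩ := hW.exists_basicOpen_le ⟨relFrob f p x, hx⟩ hxW
  haveI := hW.isLocalization_basicOpen r
  obtain ⟨⟨a, ⟨_, n, rfl⟩⟩, ha⟩ :=
    IsLocalization.surj (Submonoid.powers r) (P.presheaf.map (homOfLE hrV).op c)
  let O' : X.Opens := relFrob f p ⁻¹ᵁ P.basicOpen r
  let φ : Γ(P, P.basicOpen r) →+* Γ(X, O') := ((relFrob f p).app (P.basicOpen r)).hom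
  have hW0 : ∀ t : Γ(P, W), D.app O' (φ (algebraMap Γ(P, W) Γ(P, P.basicOpen r) t)) = 0 := by
    intro t
    have hnat := ConcreteCategory.congr_hom
      ((relFrob f p).naturality (homOfLE (P.basicOpen_le r)).op) t
    refine (congrArg (D.app O') hnat).trans ?_
    exact (D.d_map ((Opens.map (relFrob f p).base).map (homOfLE (P.basicOpen_le r))).op _).trans ((congrArg _ (key t)).trans (map_zero _))
  have h1 := congrArg (fun t => D.app O' (φ t)) ha
  simp only [map_mul] at h1
  rw [der_mul, hW0, hW0, smul_zero, zero_add] at h1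
  have hu : IsUnit (φ (algebraMap Γ(P, W) Γ(P, P.basicOpen r) (r ^ n))) :=
    (IsLocalization.map_units _ (⟨_, n, rfl⟩ : Submonoid.powers r)).map φ
  have h3 : D.app O' (φ (P.presheaf.map (homOfLE hrV).op c)) = 0 := hu.smul_eq_zero.mp h1
  have h4 : F.presheaf.map ((Opens.map (relFrob f p).base).map (homOfLE hrV)).op
      (D.app (relFrob f p ⁻¹ᵁ V) ((relFrob f p).app V c)) = 0 := by
    refine ((D.d_map ((Opens.map (relFrob f p).base).map (homOfLE hrV)).op _).symm).trans ?_
    refine (congrArg (D.app O') ?_).trans h3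
    exact (ConcreteCategory.congr_hom ((relFrob f p).naturality (homOfLE hrV).op) c).symm
  have h5 := congrArg (F.presheaf.germ O' x hxr) h4
  rw [TopCat.Presheaf.germ_res_apply, map_zero] at h5
  refine h5.trans ?_
  exact (map_zero _).symm

/-- Let p be a prime, S a scheme of characteristic p (p is zero in the structure sheaf) and f : X → S a
morphism of schemes, with relative Frobenius F_{X/S} : X → X^(p) = X ×_{S,F_S} S over S. Then the
sheaf of differentials of X over S is also the sheaf of differentials of X over X^(p): if Ω is an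
O_X-module and d : O_X → Ω a universal S-derivation, then d kills every section coming from X^(p),
i.e. there is a derivation O_X → Ω relative to F_{X/S} with the same values as d, and that
derivation is universal among derivations relative to F_{X/S}. -/
theorem result (p : ℕ) [Fact p.Prime]
    {X S : Scheme.{u}} [FrobSch.IsCharP S p] (f : X ⟶ S)
    (Ω : X.Modules) (d : OmegaSh.Der f Ω) (hd : OmegaSh.IsUniversal d) :
    ∃ d' : OmegaSh.Der (FrobSch.relFrob f p) Ω,
      (∀ (U : X.Opens) (s : Γ(X, U)), d'.app U s = d.app U s) ∧ OmegaSh.IsUniversal d' := by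
  let d' : OmegaSh.Der (relFrob f p) Ω :=
    { d := fun {W} => d.d (X := W)
      d_mul := fun {W} a b => d.d_mul a b
      d_map := fun {W W'} i a => d.d_map i a
      d_app := fun {V} c => der_relFrob p d V.unop c }
  refine ⟨d', fun U s => rfl, fun G D => ?_⟩
  let D₀ : OmegaSh.Der f G :=
    { d := fun {W} => D.d (X := W)
      d_mul := fun {W} a b => D.d_mul a b
      d_map := fun {W W'} i a => D.d_map i a
      d_app := fun {O} c => by
        show D.app (f ⁻¹ᵁ O.unop) (f.app O.unop c) = 0
        have e : f ⁻¹ᵁ O.unop ≤ (relFrob f p ≫ pullback.snd f (frob S p)) ⁻¹ᵁ O.unop := by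
          rw [relFrob_snd]
        have he : f.app O.unop c =
            (relFrob f p ≫ pullback.snd f (frob S p)).appLE O.unop (f ⁻¹ᵁ O.unop) e c := by
          simp only [relFrob_snd]
          rw [Scheme.Hom.app_eq_appLE]
        rw [he, ← Scheme.Hom.appLE_comp_appLE _ _ O.unop (pullback.snd f (frob S p) ⁻¹ᵁ O.unop) _ le_rfl e,
          ConcreteCategory.comp_apply]
        exact der_base D _ _ }
  obtain ⟨α, hα, huniq⟩ := hd G D₀
  refine ⟨α, ?_, fun β hβ => huniq β ?_⟩
  · refine PresheafOfModules.Derivation.ext (funext fun W => AddMonoidHom.ext fun a => ?_)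
    exact DFunLike.congr_fun (congrFun (congrArg (fun E : OmegaSh.Der f G => @PresheafOfModules.Derivation.d _ _ _ _ _ _ _ _ _ E) hα) W) a
  · refine PresheafOfModules.Derivation.ext (funext fun W => AddMonoidHom.ext fun a => ?_)
    exact DFunLike.congr_fun (congrFun (congrArg (fun E : OmegaSh.Der (relFrob f p) G => @PresheafOfModules.Derivation.d _ _ _ _ _ _ _ _ _ E) hβ) W) a

end Groth.Agent.S14933
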