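import Groth.Statements.S14957
import Mathlib
-- import your own Groth.Agent.* helpers here

set_option autoImplicit false
set_option backward.isDefEq.respectTransparency false
universe u
open CAlg

open CategoryTheory CategoryTheory.Limits AlgebraicGeometry
namespace Groth.Agent.S14957

/-- Let A be a commutative ring and u : M → M', w : M → N, w' : M' → N', v : N → N' a commutative square
of A-linear maps (w' ∘ u = v ∘ w). The square is cartesian, i.e. the induced map M → N ×_{N'} M' is
bijective, if and only if u induces a bijection from ker w onto ker w' and v induces an injection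
from coker w into coker w'. Here the three conditions are written elementwise. -/
theorem result (A : Type u) [CommRing A]
    (M M' N N' : Type u) [AddCommGroup M] [Module A M] [AddCommGroup M'] [Module A M']
    [AddCommGroup N] [Module A N] [AddCommGroup N'] [Module A N']
    (u : M →ₗ[A] M') (w : M →ₗ[A] N) (w' : M' →ₗ[A] N') (v : N →ₗ[A] N') (hc : w'.comp u = v.comp w) :
    (Function.Injective (w.prod u) ∧ ∀ (x : N) (y : M'), v x = w' y → ∃ m : M, w m = x ∧ u m = y) ↔
    (LinearMap.ker w ⊓ LinearMap.ker u = ⊥ ∧ Submodule.map u (LinearMap.ker w) = LinearMap.ker w' ∧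
      ∀ x : N, v x ∈ LinearMap.range w' → x ∈ LinearMap.range w) := by
  constructor
  · rintro ⟨h1, h2⟩
    refine ⟨?_, le_antisymm ?_ fun y hy => ?_, fun x ⟨y, hy⟩ => ?_⟩
    · rw [eq_bot_iff]
      rintro m ⟨hm1, hm2⟩
      exact h1 (by rw [map_zero]; exact Prod.ext hm1 hm2)
    · rintro _ ⟨m, hm, rfl⟩
      have := LinearMap.congr_fun hc m
      simp only [LinearMap.comp_apply, LinearMap.mem_ker] at this hm ⊢
      rw [this, show w m = 0 from hm, map_zero]
    · obtain ⟨m, hm1, hm2⟩ := h2 0 y (by rw [map_zero, LinearMap.mem_ker.1 hy])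
      exact ⟨m, hm1, hm2⟩
    · obtain ⟨m, hm, -⟩ := h2 x y hy.symm
      exact ⟨m, hm⟩
  · rintro ⟨h1, h2, h3⟩
    refine ⟨(injective_iff_map_eq_zero _).2 fun m hm => ?_, fun x y h => ?_⟩
    · have : m ∈ LinearMap.ker w ⊓ LinearMap.ker u := ⟨congrArg Prod.fst hm, congrArg Prod.snd hm⟩
      rw [h1] at this
      exact this
    · obtain ⟨m, rfl⟩ := h3 x ⟨y, h.symm⟩
      have hy : y - u m ∈ LinearMap.ker w' := by
        have := LinearMap.congr_fun hc m
        simp only [LinearMap.comp_apply] at this
        rw [LinearMap.mem_ker, map_sub, this, h, sub_self]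
      rw [← h2] at hy
      obtain ⟨m', hm', e⟩ := hy
      exact ⟨m + m', by rw [map_add, LinearMap.mem_ker.1 hm', add_zero], by rw [map_add, e, add_sub_cancel]⟩

end Groth.Agent.S14957
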