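import Groth.Statements.S14964
import Mathlib.RingTheory.Ideal.Maps
import Mathlib.LinearAlgebra.Span.Basic
import Mathlib.RingTheory.Ideal.Operations

set_option autoImplicit false
universe u v w
open EtAlg

namespace Groth.Agent.S14964

/-- Let f : A → A' be a homomorphism of commutative rings, M an A-module and M' an A'-module together
with an A-linear map u : M → M' whose image generates M' over A' (so M' is a quotient of A' ⊗_A M).
Let I be an ideal of A such that the ideal of A' generated by f(I) consists of the elements f(i), i
∈ I. Then f(I) M' = u(I M) as subsets of M'; in particular u(I M) is an A'-submodule. -/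
theorem result (A : Type u) [CommRing A] (A' : Type v) [CommRing A'] [Algebra A A']
    (M : Type w) [AddCommGroup M] [Module A M] (M' : Type w) [AddCommGroup M'] [Module A' M'] [Module A M'] [IsScalarTower A A' M']
    (u : M →ₗ[A] M') (hu : Submodule.span A' (Set.range u) = ⊤)
    (I : Ideal A) (hI : ∀ a ∈ Ideal.map (algebraMap A A') I, ∃ i ∈ I, algebraMap A A' i = a) :
    ((Ideal.map (algebraMap A A') I) • (⊤ : Submodule A' M')).restrictScalars A = Submodule.map u (I • (⊤ : Submodule A M)) := by
  let J := Ideal.map (algebraMap A A') I
  apply le_antisymm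
  · intro x hx
    have hx' : x ∈ J • Submodule.span A' (Set.range u) := by rw [hu]; exact hx
    have key : ∀ m ∈ Submodule.span A' (Set.range u), ∀ a ∈ J, a • m ∈ Submodule.map u (I • ⊤) := fun m hm => by
      refine Submodule.span_induction (p := fun m _ => ∀ a ∈ J, a • m ∈ Submodule.map u (I • ⊤)) ?_ ?_ ?_ ?_ hm
      · rintro _ ⟨v, rfl⟩ a ha
        obtain ⟨i, hi, rfl⟩ := hI a ha
        exact ⟨i • v, Submodule.smul_mem_smul hi trivial, by rw [map_smul, algebraMap_smul]⟩
      · intro a _; rw [smul_zero]; exact zero_mem _
      · intro v w _ _ hv hw a ha; rw [smul_add]; exact add_mem (hv a ha) (hw a ha)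
      · intro c v _ hv a ha; rw [smul_smul]; exact hv _ (J.mul_mem_right _ ha)
    exact Submodule.smul_induction_on hx' (fun a ha m hm => key m hm a ha) (fun v w hv hw => add_mem hv hw)
  · rintro _ ⟨m, hm, rfl⟩
    refine Submodule.smul_induction_on hm (fun i hi v _ => ?_) (fun v w hv hw => ?_)
    · show u (i • v) ∈ J • (⊤ : Submodule A' M')
      rw [map_smul, ← algebraMap_smul A' i (u v)]
      exact Submodule.smul_mem_smul (Ideal.mem_map_of_mem _ hi) trivial
    · rw [map_add]; exact add_mem hv hw

end Groth.Agent.S14964
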