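import Groth.Statements.S14966
import Mathlib.RingTheory.Ideal.Maps
import Mathlib.Algebra.Algebra.Bilinear
import Mathlib.RingTheory.Ideal.Quotient.Operations

set_option autoImplicit false
universe u
open EtAlg

namespace Groth.Agent.S14966

/-- Let A → A' be an injective homomorphism of commutative rings and let I ⊆ A be the conductor, i.e.
the annihilator of the A-module A'/A. Then the conductor square formed by A → A/I, A → A', A/I →
A'/IA' and A' → A'/IA' is a fibre product square of rings with A' → A'/IA' surjective: A = A/I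
×_{A'/IA'} A'. (The published Lemma is for the conductor square of a finite modification of schemes;
this row is the underlying statement for one injective ring map, which needs no finiteness.) -/
theorem result (A A' : Type u) [CommRing A] [CommRing A'] [Algebra A A']
    (hinj : Function.Injective (algebraMap A A')) :
    EtMil.IsFibreSquare A (A ⧸ Module.annihilator A (A' ⧸ LinearMap.range (Algebra.linearMap A A'))) A'
      (A' ⧸ Ideal.map (algebraMap A A') (Module.annihilator A (A' ⧸ LinearMap.range (Algebra.linearMap A A')))) := by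
  set c := Module.annihilator A (A' ⧸ LinearMap.range (Algebra.linearMap A A')) with hc
  have hann : ∀ i ∈ c, ∀ a' : A', ∃ a : A, algebraMap A A' a = algebraMap A A' i * a' := fun i hi a' => by
    have h := Module.mem_annihilator.mp hi (Submodule.Quotient.mk a')
    rw [← Submodule.Quotient.mk_smul, Submodule.Quotient.mk_eq_zero] at h
    obtain ⟨a, ha⟩ := h
    exact ⟨a, ha.trans (Algebra.smul_def i a')⟩
  have hmap : ∀ y ∈ Ideal.map (algebraMap A A') c, ∃ i ∈ c, algebraMap A A' i = y := fun y hy => by
    refine Submodule.span_induction (p := fun y _ => ∃ i ∈ c, algebraMap A A' i = y) ?_ ⟨0, zero_mem _, map_zero _⟩ ?_ ?_ hy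
    · rintro _ ⟨i, hi, rfl⟩; exact ⟨i, hi, rfl⟩
    · rintro a b - - ⟨i, hi, rfl⟩ ⟨j, hj, rfl⟩; exact ⟨i + j, add_mem hi hj, map_add _ _ _⟩
    · rintro a' b - ⟨i, hi, rfl⟩
      obtain ⟨k, hk⟩ := hann i hi a'
      refine ⟨k, Module.mem_annihilator.mpr fun z => ?_, by rw [hk, smul_eq_mul, mul_comm]⟩
      obtain ⟨z, rfl⟩ := Submodule.Quotient.mk_surjective _ z
      rw [← Submodule.Quotient.mk_smul, Submodule.Quotient.mk_eq_zero]
      obtain ⟨w, hw⟩ := hann i hi (a' * z)
      exact ⟨w, hw.trans (by rw [Algebra.smul_def, hk, mul_assoc])⟩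
  refine ⟨Ideal.Quotient.mk_surjective, fun b a' h => ?_⟩
  obtain ⟨b, rfl⟩ := Ideal.Quotient.mk_surjective b
  have h' : Ideal.Quotient.mk (Ideal.map (algebraMap A A') c) (algebraMap A A' b) =
      Ideal.Quotient.mk (Ideal.map (algebraMap A A') c) a' := h
  obtain ⟨i, hi, hi'⟩ := hmap _ (Ideal.Quotient.eq.mp h')
  refine ⟨b - i, ⟨?_, ?_⟩, fun y hy => hinj ?_⟩
  · show Ideal.Quotient.mk c (b - i) = Ideal.Quotient.mk c b
    rw [Ideal.Quotient.eq]; simpa using c.neg_mem hi
  · rw [map_sub, hi', sub_sub_cancel]
  · rw [hy.2, map_sub, hi', sub_sub_cancel]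

end Groth.Agent.S14966
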