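import Groth.Statements.S14994
import Mathlib

set_option autoImplicit false
universe u
open CAlg

namespace Groth.Agent.S14994

/-- Let A be a Noetherian integrally closed domain, M a finitely generated torsion-free A-module, N a
submodule of M and ι : M → M** the canonical map to the double dual. Write N** → M** for the double
dual of the inclusion N → M. Then every m ∈ M whose image ι(m) lies in the image of N** is a torsion
element modulo N: some nonzero a ∈ A satisfies a·m ∈ N. In other words the preimage of N** under ι
is contained in the saturation of N in M (the preimage of the torsion submodule of M/N), and the two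
coincide when M/N is torsion-free. (The published statement asserts equality of the preimage with
the saturation for every N; for N = xA inside M = A = k[x] the saturation is all of M while N** has
image xA = N under the identification M** = M, so only the inclusion stated here holds, and it is
the inclusion later used, for saturated N, where the two sides agree.) -/
theorem result (A : Type u) [CommRing A] [IsDomain A]
    [IsNoetherianRing A] [IsIntegrallyClosed A]
    (M : Type u) [AddCommGroup M] [Module A M] [Module.Finite A M] [NoZeroSMulDivisors A M]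
    (N : Submodule A M) :
    (LinearMap.range N.subtype.dualMap.dualMap).comap (Module.Dual.eval A M) ≤
      (Submodule.torsion A (M ⧸ N)).comap N.mkQ := by
  classical
  intro m hm
  obtain ⟨Ψ, hΨ⟩ := Submodule.mem_comap.1 hm
  have hvan : ∀ φ : Module.Dual A M, (∀ x ∈ N, φ x = 0) → φ m = 0 := by
    intro φ hφ
    have h := LinearMap.congr_fun hΨ φ
    rw [Module.Dual.eval_apply] at h
    rw [← h]
    show Ψ (φ ∘ₗ N.subtype) = 0
    rw [show φ ∘ₗ N.subtype = 0 from LinearMap.ext fun x => hφ x x.2, map_zero]
  rw [Submodule.mem_comap]
  by_contra hnt
  let K := FractionRing A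
  let Q := LocalizedModule (nonZeroDivisors A) (M ⧸ N)
  let ι : (M ⧸ N) →ₗ[A] Q := LocalizedModule.mkLinearMap (nonZeroDivisors A) (M ⧸ N)
  have hι : ι (N.mkQ m) ≠ 0 := by
    intro h
    obtain ⟨s, hs⟩ := (IsLocalizedModule.eq_zero_iff (nonZeroDivisors A) ι).1 h
    exact hnt ⟨s, hs⟩
  obtain ⟨g, hg⟩ : ∃ g : Module.Dual K Q, g (ι (N.mkQ m)) ≠ 0 := by
    by_contra h
    push Not at h
    exact hι ((Module.forall_dual_apply_eq_zero_iff K _).1 h)
  let ψ : M →ₗ[A] K := g.restrictScalars A ∘ₗ ι ∘ₗ N.mkQ
  obtain ⟨S, hS⟩ := Module.finite_def.1 (inferInstance : Module.Finite A M)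
  obtain ⟨b, hb⟩ := IsLocalization.exist_integer_multiples_of_finset (nonZeroDivisors A) (S.image ψ)
  have hrange : ∀ x, ((b : A) • ψ x : K) ∈ LinearMap.range (Algebra.linearMap A K) := by
    intro x
    have hx : x ∈ Submodule.span A (S : Set M) := hS ▸ Submodule.mem_top
    induction hx using Submodule.span_induction with
    | mem y hy => exact hb _ (Finset.mem_image_of_mem _ hy)
    | zero => simp
    | add y z _ _ hy hz => rw [map_add, smul_add]; exact add_mem hy hz
    | smul a y _ hy => rw [map_smul, smul_comm]; exact Submodule.smul_mem _ a hy
  let e := LinearEquiv.ofInjective (Algebra.linearMap A K) (IsFractionRing.injective A K)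
  let φ : Module.Dual A M := e.symm.toLinearMap ∘ₗ (((b : A) • ψ).codRestrict _ hrange)
  have hφ : ∀ x, algebraMap A K (φ x) = (b : A) • ψ x := fun x => by
    have := congrArg Subtype.val (e.apply_symm_apply ⟨_, hrange x⟩)
    exact this
  have h0 := hvan φ fun x hx => IsFractionRing.injective A K (by
    rw [hφ, map_zero]
    show (b : A) • g (ι (N.mkQ x)) = 0
    rw [show N.mkQ x = 0 from (Submodule.Quotient.mk_eq_zero N).2 hx, map_zero, map_zero, smul_zero])
  have h1 := hφ m
  rw [h0, map_zero, Algebra.smul_def, eq_comm, mul_eq_zero] at h1
  exact h1.elim (fun h => nonZeroDivisors.coe_ne_zero b (IsFractionRing.injective A K (h.trans (map_zero _).symm))) hg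

end Groth.Agent.S14994
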