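import Groth.Statements.S15004
import Mathlib

set_option autoImplicit false
universe u v
open Harb

namespace Groth.Agent.S15004

/-- Let C be a finite family of d curves, recorded as an incidence relation between a type of points and
a finite index type, such that any two distinct curves of the family meet in exactly h points; for a
point p write r_p for the number of curves of the family through p. Then for every curve C_i of the
family, Σ_{p ∈ C_i} (r_p − 1) = h (d − 1), the sum being finitely supported. (The published
statement is for a transversal arrangement of curves on a geometrically ruled surface with invariant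
e, all numerically equivalent to a C₀ + b f, where any two of the curves meet transversally in h =
2ab − a²e points; only this common pairwise intersection count enters the proof, and this row states
the identity for an abstract incidence relation.) -/
theorem result (P : Type u) (ι : Type v) [Fintype ι]
    (inc : P → ι → Prop) (h : ℕ)
    (hfin : ∀ i j : ι, i ≠ j → {p : P | inc p i ∧ inc p j}.Finite)
    (hcount : ∀ i j : ι, i ≠ j → {p : P | inc p i ∧ inc p j}.ncard = h) (i : ι) :
    ∑ᶠ p ∈ {p : P | inc p i}, (Nat.card {j : ι // inc p j} - 1) = h * (Fintype.card ι - 1) := by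
  classical
  let S : Set P := ⋃ j ∈ (Finset.univ.erase i), {p | inc p i ∧ inc p j}
  have hS : S.Finite := Set.Finite.biUnion (Finset.finite_toSet _) fun j hj =>
    hfin i j (Finset.mem_erase.mp hj).1.symm
  have hmul : ∀ p, inc p i → Nat.card {j : ι // inc p j} - 1 = ((Finset.univ.erase i).filter (inc p)).card := by
    intro p hp
    rw [Nat.card_eq_fintype_card, Fintype.card_subtype, Finset.filter_erase, Finset.card_erase_of_mem (by simp [hp])]
  calc ∑ᶠ p ∈ {p : P | inc p i}, (Nat.card {j : ι // inc p j} - 1)
      = ∑ p ∈ hS.toFinset, (Nat.card {j : ι // inc p j} - 1) := by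
        refine finsum_mem_eq_sum_of_inter_support_eq _ ?_
        ext p
        constructor
        · rintro ⟨hp, hne⟩
          refine ⟨?_, hne⟩
          rw [Function.mem_support, hmul p hp, ← Nat.pos_iff_ne_zero, Finset.card_pos] at hne
          obtain ⟨j, hj⟩ := hne
          rw [Finset.mem_filter] at hj
          exact Finset.mem_coe.mpr (hS.mem_toFinset.mpr (Set.mem_iUnion₂.mpr ⟨j, hj.1, hp, hj.2⟩))
        · rintro ⟨hp, hne⟩
          obtain ⟨j, -, hpi, -⟩ := Set.mem_iUnion₂.mp (hS.mem_toFinset.mp (Finset.mem_coe.mp hp))
          exact ⟨hpi, hne⟩
    _ = ∑ p ∈ hS.toFinset, ((Finset.univ.erase i).filter (inc p)).card := by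
        refine Finset.sum_congr rfl fun p hp => hmul p ?_
        obtain ⟨j, -, hpi, -⟩ := Set.mem_iUnion₂.mp (hS.mem_toFinset.mp hp)
        exact hpi
    _ = ∑ j ∈ Finset.univ.erase i, (hS.toFinset.filter fun p => inc p j).card :=
        Finset.sum_card_bipartiteAbove_eq_sum_card_bipartiteBelow _
    _ = ∑ j ∈ Finset.univ.erase i, h := by
        refine Finset.sum_congr rfl fun j hj => ?_
        have hij := (Finset.mem_erase.mp hj).1.symm
        rw [← hcount i j hij, Set.ncard_eq_toFinset_card _ (hfin i j hij)]
        congr 1
        ext p
        simp only [Finset.mem_filter, Set.Finite.mem_toFinset, Set.mem_setOf_eq]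
        constructor
        · rintro ⟨hp, hpj⟩
          obtain ⟨j', -, hpi, -⟩ := Set.mem_iUnion₂.mp hp
          exact ⟨hpi, hpj⟩
        · exact fun hp => ⟨Set.mem_iUnion₂.mpr ⟨j, hj, hp⟩, hp.2⟩
    _ = h * (Fintype.card ι - 1) := by
        rw [Finset.sum_const, Finset.card_erase_of_mem (Finset.mem_univ i), Finset.card_univ, smul_eq_mul, mul_comm]

end Groth.Agent.S15004
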