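import Groth.Statements.S15005
import Groth.Agent.HarbCount.Basic

set_option autoImplicit false
universe u v
open Harb

namespace Groth.Agent.S15005

/-- Let C be a finite family of d curves, recorded as an incidence relation between a type of points and
a finite index type, such that any two distinct curves of the family meet in exactly h points; let
t_k be the number of k-fold points (points lying on exactly k curves of the family). Then f₂ − f₁ =
Σ_{k ≥ 2} k(k − 1) t_k equals h d(d − 1), where f_i = Σ_{k ≥ 2} k^i t_k. (The published statement is
for a transversal arrangement of curves on a geometrically ruled surface with invariant e, all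
numerically equivalent to a C₀ + b f, where any two of the curves meet transversally in h = 2ab −
a²e points; only this common pairwise intersection count enters the proof, and this row states the
identity for an abstract incidence relation.) -/
theorem result (P : Type u) (ι : Type v) [Fintype ι]
    (inc : P → ι → Prop) (h : ℕ)
    (hfin : ∀ i j : ι, i ≠ j → {p : P | inc p i ∧ inc p j}.Finite)
    (hcount : ∀ i j : ι, i ≠ j → {p : P | inc p i ∧ inc p j}.ncard = h) :
    ∑ k ∈ Finset.Icc 2 (Fintype.card ι), k * (k - 1) * Nat.card {p : P // Nat.card {j : ι // inc p j} = k} =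
      h * (Fintype.card ι * (Fintype.card ι - 1)) := by
  classical
  obtain ⟨S, hS, hsum⟩ := Groth.Agent.HarbCount.count_pairs P ι inc h hfin hcount
  rw [← hsum]
  let k : P → ℕ := fun p => Nat.card {j : ι // inc p j}
  have hmaps : ∀ p ∈ S, k p ∈ Finset.Icc 2 (Fintype.card ι) := fun p hp => by
    refine Finset.mem_Icc.mpr ⟨(hS p).mp hp, ?_⟩
    rw [show k p = Fintype.card {j : ι // inc p j} from Nat.card_eq_fintype_card]
    exact Fintype.card_subtype_le _
  rw [← Finset.sum_fiberwise_of_maps_to hmaps (fun p => Nat.card {j : ι // inc p j} * (Nat.card {j : ι // inc p j} - 1))]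
  refine Finset.sum_congr rfl fun c hc => ?_
  have hset : {p : P | Nat.card {j : ι // inc p j} = c} = ↑(S.filter fun p => k p = c) := by
    ext p
    simp only [Set.mem_setOf_eq, Finset.coe_filter, k]
    exact ⟨fun h => ⟨(hS p).mpr (h ▸ (Finset.mem_Icc.mp hc).1), h⟩, fun h => h.2⟩
  rw [show Nat.card {p : P // Nat.card {j : ι // inc p j} = c} = (S.filter fun p => k p = c).card from by
    rw [← Nat.card_eq_finsetCard]
    exact Nat.card_congr (Equiv.setCongr hset)]
  rw [Finset.sum_congr rfl (g := fun _ => c * (c - 1)) fun p hp => by
    rw [← (Finset.mem_filter.mp hp).2]]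
  rw [Finset.sum_const, smul_eq_mul]
  ring

end Groth.Agent.S15005
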