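import Groth.Statements.S15006
import Groth.Agent.HarbCount.Basic

set_option autoImplicit false
universe u v
open Harb

namespace Groth.Agent.S15006

/-- Let C be a finite family of d ≥ 2 curves, recorded as an incidence relation between a type of points
and a finite index type, such that any two distinct curves of the family meet in exactly h ≥ 1
points and no point lies on every curve of the family. Then f₀ ≥ d: the number of multiple points
(points lying on at least two of the curves) is at least the number of curves. (The published
statement is for a transversal arrangement of d ≥ 4 curves on a geometrically ruled surface with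
invariant e ≥ 4, all numerically equivalent to a C₀ + b f with a ≥ 1 and b ≥ ae and with no point
common to all of them, satisfying in addition either a ≥ 2, or a = 1 with some four of the curves
having no point in common, where any two of the curves meet transversally in h = 2ab − a²e ≥ 1
points; only d ≥ 2, h ≥ 1 and the absence of a common point enter the proof, and this row states the
bound for an abstract incidence relation.) -/
theorem result (P : Type u) (ι : Type v) [Fintype ι]
    (inc : P → ι → Prop) (h : ℕ) (hh : 0 < h) (hd : 2 ≤ Fintype.card ι)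
    (hfin : ∀ i j : ι, i ≠ j → {p : P | inc p i ∧ inc p j}.Finite)
    (hcount : ∀ i j : ι, i ≠ j → {p : P | inc p i ∧ inc p j}.ncard = h)
    (hnone : ∀ p : P, ∃ i : ι, ¬ inc p i) :
    Fintype.card ι ≤ Nat.card {p : P // 2 ≤ Nat.card {j : ι // inc p j}} := by
  classical
  obtain ⟨S, hS, -⟩ := Groth.Agent.HarbCount.count_pairs P ι inc h hfin hcount
  have hk : ∀ p, Nat.card {j : ι // inc p j} = (Finset.univ.filter (inc p)).card := fun p => by
    rw [Nat.card_eq_fintype_card, Fintype.card_subtype]
  have hmem : ∀ p i j, i ≠ j → inc p i → inc p j → p ∈ S := fun p i j hij hi hj => by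
    rw [hS, hk]
    exact Finset.one_lt_card.mpr ⟨i, by simp [hi], j, by simp [hj], hij⟩
  have hcap : ∀ i j, i ≠ j → (S.filter fun p => inc p i ∧ inc p j).card = h := fun i j hij => by
    rw [← hcount i j hij, ← Set.ncard_coe_finset]
    congr 1
    ext p
    simp only [Finset.coe_filter, Set.mem_setOf_eq]
    exact ⟨fun hp => hp.2, fun hp => ⟨hmem p i j hij hp.1 hp.2, hp⟩⟩
  have hgt : ∀ i, h < (S.filter fun p => inc p i).card := by
    intro i
    haveI : Nontrivial ι := Fintype.one_lt_card_iff_nontrivial.mp hd
    obtain ⟨j, hj⟩ := exists_ne i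
    by_contra hle
    have hall : ∀ l, l ≠ i → (S.filter fun p => inc p i ∧ inc p l) = S.filter fun p => inc p i := fun l hl =>
      Finset.eq_of_subset_of_card_le (fun p hp => by
        rw [Finset.mem_filter] at hp ⊢; exact ⟨hp.1, hp.2.1⟩) (by rw [hcap i l hl.symm]; omega)
    obtain ⟨p, hp⟩ : (S.filter fun p => inc p i ∧ inc p j).Nonempty :=
      Finset.card_pos.mp (by rw [hcap i j hj.symm]; exact hh)
    have hpi : p ∈ S.filter fun p => inc p i := by rw [← hall j hj]; exact hp
    obtain ⟨l, hl⟩ := hnone p
    by_cases hli : l = i
    · exact hl (hli ▸ (Finset.mem_filter.mp hpi).2)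
    · rw [← hall l hli] at hpi
      exact hl (Finset.mem_filter.mp hpi).2.2
  let v : ι → (S → ℚ) := fun i p => if inc p.1 i then 1 else 0
  have hindep : LinearIndependent ℚ v := by
    rw [Fintype.linearIndependent_iff]
    intro g hg
    have hGram : ∀ i j, ∑ p : S, v i p * v j p = ((S.filter fun p => inc p i ∧ inc p j).card : ℚ) := by
      intro i j
      rw [Finset.card_filter, Nat.cast_sum, Finset.univ_eq_attach, ← Finset.sum_attach S (fun p => ((if inc p i ∧ inc p j then 1 else 0 : ℕ) : ℚ))]
      refine Finset.sum_congr rfl fun p _ => ?_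
      show (if inc p.1 i then (1 : ℚ) else 0) * (if inc p.1 j then 1 else 0) = _
      by_cases h1 : inc p.1 i <;> by_cases h2 : inc p.1 j <;> simp [h1, h2]
    have h0 : ∑ i, ∑ j, g i * g j * ((S.filter fun p => inc p i ∧ inc p j).card : ℚ) = 0 := by
      simp only [← hGram, Finset.mul_sum]
      calc ∑ i, ∑ j, ∑ p : S, g i * g j * (v i p * v j p)
          = ∑ p : S, ∑ i, ∑ j, g i * g j * (v i p * v j p) := by
            rw [Finset.sum_comm (γ := S)]
            exact Finset.sum_congr rfl fun i _ => Finset.sum_comm
        _ = ∑ p : S, (∑ i, g i * v i p) ^ 2 := by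
            refine Finset.sum_congr rfl fun p _ => ?_
            rw [sq, Finset.sum_mul_sum]
            exact Finset.sum_congr rfl fun i _ => Finset.sum_congr rfl fun j _ => by ring
        _ = 0 := by
            refine Finset.sum_eq_zero fun p _ => ?_
            have := congrFun hg p
            simp only [Finset.sum_apply, Pi.smul_apply, smul_eq_mul, Pi.zero_apply] at this
            rw [this]; ring
    have h1 : (h : ℚ) * (∑ i, g i) ^ 2 + ∑ i, g i ^ 2 * (((S.filter fun p => inc p i).card : ℚ) - h) = 0 := by
      rw [← h0, sq, Finset.sum_mul_sum, Finset.mul_sum, ← Finset.sum_add_distrib]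
      refine Finset.sum_congr rfl fun i _ => ?_
      rw [Finset.mul_sum, ← Finset.add_sum_erase _ _ (Finset.mem_univ i),
        ← Finset.add_sum_erase (Finset.univ) (fun j => g i * g j * _) (Finset.mem_univ i)]
      have e : ∑ j ∈ Finset.univ.erase i, g i * g j * ((S.filter fun p => inc p i ∧ inc p j).card : ℚ) =
          ∑ j ∈ Finset.univ.erase i, (h : ℚ) * (g i * g j) := Finset.sum_congr rfl fun j hj => by
        rw [hcap i j (Finset.mem_erase.mp hj).1.symm]; ring
      rw [e]
      simp only [and_self]
      ring
    have hpos : ∀ i, 0 < ((S.filter fun p => inc p i).card : ℚ) - h := fun i => sub_pos.mpr (by exact_mod_cast hgt i)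
    have hnn : ∀ i ∈ Finset.univ, 0 ≤ g i ^ 2 * (((S.filter fun p => inc p i).card : ℚ) - h) :=
      fun i _ => mul_nonneg (sq_nonneg _) (hpos i).le
    intro i
    have hz : ∑ i, g i ^ 2 * (((S.filter fun p => inc p i).card : ℚ) - h) = 0 :=
      le_antisymm (by nlinarith [sq_nonneg (∑ i, g i), (Nat.cast_nonneg h : (0 : ℚ) ≤ h), h1])
        (Finset.sum_nonneg hnn)
    have := (Finset.sum_eq_zero_iff_of_nonneg hnn).mp hz i (Finset.mem_univ i)
    rcases mul_eq_zero.mp this with h2 | h2
    · exact pow_eq_zero_iff (by norm_num) |>.mp h2
    · exact absurd h2 (hpos i).ne'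
  have hle := hindep.fintype_card_le_finrank
  rw [Module.finrank_fintype_fun_eq_card, Fintype.card_coe] at hle
  refine hle.trans (le_of_eq ?_)
  rw [← Nat.card_eq_finsetCard]
  exact Nat.card_congr (Equiv.subtypeEquivRight fun p => hS p)

end Groth.Agent.S15006
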