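import Groth.Statements.S15007
import Groth.Agent.HarbCount.Basic

set_option autoImplicit false
universe u v
open Harb

namespace Groth.Agent.S15007

/-- Let C be a finite family of d ≥ 2 curves, recorded as an incidence relation between a type of points
and a finite index type, such that any two distinct curves of the family meet in exactly h ≥ 1
points and no point lies on every curve of the family. Then f₀ ≥ h + 2: the number of multiple
points (points lying on at least two of the curves) is at least h + 2. (The published claim reads f₀
≥ 2ab − a²e + 2 for a transversal arrangement of d ≥ 4 curves on a geometrically ruled surface with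
invariant e ≥ 4, all numerically equivalent to a C₀ + b f with a ≥ 1 and b ≥ ae and with no point
common to all of them, satisfying in addition either a ≥ 2, or a = 1 with some four of the curves
having no point in common, where any two of the curves meet transversally in h = 2ab − a²e ≥ 1
points; only d ≥ 2, h ≥ 1 and the absence of a common point enter the proof, and this row states the
bound for an abstract incidence relation.) -/
theorem result (P : Type u) (ι : Type v) [Fintype ι]
    (inc : P → ι → Prop) (h : ℕ) (hh : 0 < h) (hd : 2 ≤ Fintype.card ι)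
    (hfin : ∀ i j : ι, i ≠ j → {p : P | inc p i ∧ inc p j}.Finite)
    (hcount : ∀ i j : ι, i ≠ j → {p : P | inc p i ∧ inc p j}.ncard = h)
    (hnone : ∀ p : P, ∃ i : ι, ¬ inc p i) :
    h + 2 ≤ Nat.card {p : P // 2 ≤ Nat.card {j : ι // inc p j}} := by
  classical
  obtain ⟨S, hS, -⟩ := Groth.Agent.HarbCount.count_pairs P ι inc h hfin hcount
  have hk : ∀ p, Nat.card {j : ι // inc p j} = (Finset.univ.filter (inc p)).card := fun p => by
    rw [Nat.card_eq_fintype_card, Fintype.card_subtype]
  have hmem : ∀ p i j, i ≠ j → inc p i → inc p j → p ∈ S := fun p i j hij hi hj => by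
    rw [hS, hk]
    exact Finset.one_lt_card.mpr ⟨i, by simp [hi], j, by simp [hj], hij⟩
  have hcap : ∀ i j, i ≠ j → (S.filter fun p => inc p i ∧ inc p j).card = h := fun i j hij => by
    rw [← hcount i j hij, ← Set.ncard_coe_finset]
    congr 1
    ext p
    simp only [Finset.coe_filter, Set.mem_setOf_eq]
    exact ⟨fun hp => hp.2, fun hp => ⟨hmem p i j hij hp.1 hp.2, hp⟩⟩
  have hgt : ∀ i, h < (S.filter fun p => inc p i).card := by
    intro i
    haveI : Nontrivial ι := Fintype.one_lt_card_iff_nontrivial.mp hd
    obtain ⟨j, hj⟩ := exists_ne i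
    by_contra hle
    have hall : ∀ l, l ≠ i → (S.filter fun p => inc p i ∧ inc p l) = S.filter fun p => inc p i := fun l hl =>
      Finset.eq_of_subset_of_card_le (fun p hp => by
        rw [Finset.mem_filter] at hp ⊢; exact ⟨hp.1, hp.2.1⟩) (by rw [hcap i l hl.symm]; omega)
    obtain ⟨p, hp⟩ : (S.filter fun p => inc p i ∧ inc p j).Nonempty :=
      Finset.card_pos.mp (by rw [hcap i j hj.symm]; exact hh)
    have hpi : p ∈ S.filter fun p => inc p i := by rw [← hall j hj]; exact hp
    obtain ⟨l, hl⟩ := hnone p
    by_cases hli : l = i
    · exact hl (hli ▸ (Finset.mem_filter.mp hpi).2)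
    · rw [← hall l hli] at hpi
      exact hl (Finset.mem_filter.mp hpi).2.2
  haveI : Nontrivial ι := Fintype.one_lt_card_iff_nontrivial.mp hd
  obtain ⟨i, j, hij⟩ := exists_pair_ne ι
  obtain ⟨a, ha, haA⟩ := Finset.exists_mem_notMem_of_card_lt_card (s := S.filter fun p => inc p i ∧ inc p j)
    (t := S.filter fun p => inc p i) (by rw [hcap i j hij]; exact hgt i)
  obtain ⟨b, hb, hbA⟩ := Finset.exists_mem_notMem_of_card_lt_card (s := S.filter fun p => inc p i ∧ inc p j)
    (t := S.filter fun p => inc p j) (by rw [hcap i j hij]; exact hgt j)
  have hab : a ≠ b := fun e => by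
    subst e
    rw [Finset.mem_filter] at ha hb
    exact haA (Finset.mem_filter.mpr ⟨ha.1, ha.2, hb.2⟩)
  have hsub : insert a (insert b (S.filter fun p => inc p i ∧ inc p j)) ⊆ S := by
    refine Finset.insert_subset (Finset.mem_filter.mp ha).1 (Finset.insert_subset (Finset.mem_filter.mp hb).1 (Finset.filter_subset _ _))
  have hle := Finset.card_le_card hsub
  rw [Finset.card_insert_of_notMem (by simp only [Finset.mem_insert]; exact fun h => h.elim hab haA),
    Finset.card_insert_of_notMem hbA, hcap i j hij] at hle
  refine hle.trans (le_of_eq ?_)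
  rw [← Nat.card_eq_finsetCard]
  exact Nat.card_congr (Equiv.subtypeEquivRight fun p => hS p)

end Groth.Agent.S15007
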