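import Groth.Statements.S15017
import Mathlib

set_option autoImplicit false
open TFCurv

namespace Groth.Agent.S15017

/-- Let Γ be a numerical semigroup (a submonoid of (ℕ, +) with finite complement), Γ ≠ ℕ, with conductor
c (every n ≥ c lies in Γ, c − 1 does not). If Γ is symmetric (for x < c, x is a gap exactly when c −
1 − x ∈ Γ) and has multiplicity greater than 2 (neither 1 nor 2 lies in Γ), then Γ is generated by
its elements smaller than c: every minimal generator of Γ is less than the conductor. -/
theorem result (Γ : AddSubmonoid ℕ) (c : ℕ) (hc : ∀ n : ℕ, c ≤ n → n ∈ Γ) (hc0 : c ≠ 0) (hc1 : c - 1 ∉ Γ) (hsymm : ∀ x : ℕ, x < c → (x ∉ Γ ↔ c - 1 - x ∈ Γ)) (he : (1 : ℕ) ∉ Γ ∧ (2 : ℕ) ∉ Γ) : AddSubmonoid.closure {γ : ℕ | γ ∈ Γ ∧ γ < c} = Γ := by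
  refine le_antisymm (AddSubmonoid.closure_le.2 fun x hx => hx.1) fun x hx => ?_
  have h0 : (0 : ℕ) ∈ Γ := Γ.zero_mem
  set T := AddSubmonoid.closure {γ : ℕ | γ ∈ Γ ∧ γ < c} with hT
  have hlt : ∀ y, y ∈ Γ → y < c → y ∈ T := fun y hy hyc => AddSubmonoid.subset_closure ⟨hy, hyc⟩
  suffices h : ∀ y, c ≤ y → y ∈ T by
    rcases lt_or_ge x c with h' | h'
    · exact hlt x hx h'
    · exact h x h'
  have hc3 : 3 ≤ c := by
    by_contra hh
    exact he.2 (hc 2 (by omega))
  -- c - 2 and c - 3 are in Γ, since 1 and 2 are gaps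
  have hc2 : c - 1 - 1 ∈ Γ := (hsymm 1 (by omega)).1 he.1
  have hc3' : c - 1 - 2 ∈ Γ := (hsymm 2 (by omega)).1 he.2
  classical
  obtain ⟨e, ⟨heΓ, he0⟩, hemin⟩ : ∃ e, (e ∈ Γ ∧ e ≠ 0) ∧ ∀ z, z ∈ Γ → z ≠ 0 → e ≤ z := by
    have hex : ∃ z, z ∈ Γ ∧ z ≠ 0 := ⟨c, hc c le_rfl, hc0⟩
    exact ⟨Nat.find hex, Nat.find_spec hex, fun z hz hz0 => Nat.find_min' hex ⟨hz, hz0⟩⟩
  intro y
  induction y using Nat.strong_induction_on with
  | _ y ih =>
    intro hy
    have he3 : 3 ≤ e := by
      rcases (show e = 1 ∨ e = 2 ∨ 3 ≤ e by omega) with h | h | h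
      · exact absurd (h ▸ heΓ) he.1
      · exact absurd (h ▸ heΓ) he.2
      · exact h
    have hec : e ≤ c := hemin c (hc c le_rfl) hc0
    have hec' : e < c := by
      rcases lt_or_eq_of_le hec with h | h
      · exact h
      · exfalso
        have := hemin _ hc2 (by omega)
        omega
    by_cases hbig : c + e ≤ y
    · have := T.add_mem (ih (y - e) (by omega) (by omega)) (hlt e heΓ hec')
      rwa [Nat.sub_add_cancel (by omega)] at this
    · by_cases hd : y - e ∈ Γ
      · by_cases hlt' : y - e < c
        · have := T.add_mem (hlt _ hd hlt') (hlt e heΓ hec')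
          rwa [Nat.sub_add_cancel (by omega)] at this
        · omega
      · -- y - e is a gap, so its mirror is in Γ
        have hm := (hsymm (y - e) (by omega)).1 hd
        have hfrob : ∀ w, w ∈ Γ → w ≤ c - 1 → c - 1 - w ∉ Γ := by
          intro w hw hwc h'
          exact hc1 (by simpa [Nat.add_sub_cancel' hwc] using Γ.add_mem hw h')
        by_contra hyT
        have hgap : ∀ w, w ∈ Γ → w ≠ 0 → w < c → y - w < c → w ≤ y → y - w ∉ Γ := by
          intro w hw hw0 hwc hyw hwy h'
          apply hyT
          have := T.add_mem (hlt _ h' hyw) (hlt w hw hwc)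
          rwa [Nat.sub_add_cancel hwy] at this
        have hmir : ∀ w, w ∈ Γ → w ≠ 0 → w < c → y - w < c → w ≤ y → c - 1 - (y - w) ∈ Γ :=
          fun w hw hw0 hwc hyw hwy => (hsymm (y - w) hyw).1 (hgap w hw hw0 hwc hyw hwy)
        have hje : y = c - 1 + e := by
          have a1 := hmir e heΓ he0 hec' (by omega) (by omega)
          rcases Nat.eq_zero_or_pos (c - 1 - (y - e)) with h | h
          · omega
          · have := hemin _ a1 (by omega)
            omega
        have hdvd : ∀ w, w ∈ Γ → w < c → e ∣ w := by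
          intro w
          induction w using Nat.strong_induction_on with
          | _ w ihw =>
            intro hw hwc
            rcases Nat.eq_zero_or_pos w with h | h
            · simp [h]
            · have hew := hemin w hw (by omega)
              rcases lt_or_ge (y - w) c with h' | h'
              · have a2 := hmir w hw (by omega) hwc h' (by omega)
                rw [show c - 1 - (y - w) = w - e by omega] at a2
                have := ihw (w - e) (by omega) a2 (by omega)
                have h3 := Nat.dvd_add this (dvd_refl e)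
                rwa [Nat.sub_add_cancel hew] at h3
              · omega
        have h1 := Nat.dvd_sub (hdvd _ hc2 (by omega)) (hdvd _ hc3' (by omega))
        rw [show c - 1 - 1 - (c - 1 - 2) = 1 by omega] at h1
        have := Nat.le_of_dvd one_pos h1
        omega

end Groth.Agent.S15017
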