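import Groth.Statements.S15018
import Mathlib.Tactic.Push

set_option autoImplicit false
open TFCurv

namespace Groth.Agent.S15018

/-- Let Γ be a numerical semigroup (a submonoid of (ℕ, +) with finite complement), Γ ≠ ℕ, with conductor
c (every n ≥ c lies in Γ, c − 1 does not). Then Γ is symmetric (for x < c, x is a gap exactly when c
− 1 − x ∈ Γ) if and only if there is exactly one gap n of Γ such that Γ ∪ {n} is again stable under
adding elements of Γ, i.e. n + γ ∈ Γ for every nonzero γ ∈ Γ. -/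
theorem result (Γ : AddSubmonoid ℕ) (c : ℕ) (hc : ∀ n : ℕ, c ≤ n → n ∈ Γ) (hc0 : c ≠ 0) (hc1 : c - 1 ∉ Γ) : (∀ x : ℕ, x < c → (x ∉ Γ ↔ c - 1 - x ∈ Γ)) ↔ ∃! n : ℕ, n ∉ Γ ∧ ∀ γ : ℕ, γ ∈ Γ → γ ≠ 0 → n + γ ∈ Γ := by
  constructor
  · intro h
    refine ⟨c - 1, ⟨hc1, fun γ _ hne => hc _ (by omega)⟩, ?_⟩
    rintro n ⟨hn, hall⟩
    have hnc : n < c := by by_contra hge; exact hn (hc n (by omega))
    by_contra hne
    have h1 := (h n hnc).1 hn
    have := hall _ h1 (by omega)
    rw [show n + (c - 1 - n) = c - 1 by omega] at this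
    exact hc1 this
  · rintro ⟨m, ⟨hm, hmall⟩, huniq⟩ x hx
    have hm' : c - 1 = m := huniq (c - 1) ⟨hc1, fun γ _ hne => hc _ (by omega)⟩
    constructor
    · intro hxΓ
      -- climb from `x` to a gap that is stable
      have key : ∀ d x : ℕ, x ∉ Γ → c - x ≤ d → ∃ γ ∈ Γ, x + γ = c - 1 := by
        intro d
        induction d with
        | zero => intro x hx hd; exact absurd (hc x (by omega)) hx
        | succ d ih =>
          intro x hx hd
          by_cases hst : ∀ γ : ℕ, γ ∈ Γ → γ ≠ 0 → x + γ ∈ Γ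
          · exact ⟨0, Γ.zero_mem, by rw [add_zero, hm', huniq x ⟨hx, hst⟩]⟩
          · push Not at hst
            obtain ⟨γ, hγ, hγ0, hxγ⟩ := hst
            have hlt : x + γ < c := by by_contra hge; exact hxγ (hc _ (by omega))
            obtain ⟨δ, hδ, he⟩ := ih (x + γ) hxγ (by omega)
            exact ⟨γ + δ, Γ.add_mem hγ hδ, by omega⟩
      obtain ⟨γ, hγ, he⟩ := key (c - x) x hxΓ le_rfl
      rwa [show c - 1 - x = γ by omega]
    · intro h hxΓ
      have := Γ.add_mem hxΓ h
      rw [show x + (c - 1 - x) = c - 1 by omega] at this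
      exact hc1 this

end Groth.Agent.S15018
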