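import Groth.Statements.S15019
import Mathlib

set_option autoImplicit false
open TFCurv

namespace Groth.Agent.S15019

/-- Let Γ be a numerical semigroup (a submonoid of (ℕ, +) with finite complement), Γ ≠ ℕ, with conductor
c (every n ≥ c lies in Γ, c − 1 does not), let e be its multiplicity (the least nonzero element of
Γ), and let S ⊆ ℕ be a Γ-module in normal form: 0 ∈ S and γ + s ∈ S for all γ ∈ Γ, s ∈ S. Then the
set of gaps n of S with S ∪ {n} again a Γ-module (n + γ ∈ S for every nonzero γ ∈ Γ) has at most e −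
1 elements, and so does the set of nonzero s ∈ S with S ∖ {s} again a Γ-module (s − γ ∉ S for every
nonzero γ ∈ Γ with γ ≤ s). -/
theorem result (Γ : AddSubmonoid ℕ) (c : ℕ) (hc : ∀ n : ℕ, c ≤ n → n ∈ Γ) (hc0 : c ≠ 0) (hc1 : c - 1 ∉ Γ) (e : ℕ) (he : e ∈ Γ) (he0 : e ≠ 0) (hemin : ∀ γ : ℕ, γ ∈ Γ → γ ≠ 0 → e ≤ γ) (S : Set ℕ) (hS0 : (0 : ℕ) ∈ S) (hS : ∀ γ : ℕ, γ ∈ Γ → ∀ s : ℕ, s ∈ S → γ + s ∈ S) : {n : ℕ | n ∉ S ∧ ∀ γ : ℕ, γ ∈ Γ → γ ≠ 0 → n + γ ∈ S}.encard ≤ ((e - 1 : ℕ) : ℕ∞) ∧ {s : ℕ | s ∈ S ∧ s ≠ 0 ∧ ∀ γ : ℕ, γ ∈ Γ → γ ≠ 0 → γ ≤ s → s - γ ∉ S}.encard ≤ ((e - 1 : ℕ) : ℕ∞) := by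
  classical
  have hmult : ∀ (j : ℕ), j * e ∈ Γ := fun j => by
    induction j with
    | zero => simp
    | succ j ih => rw [Nat.succ_mul]; exact Γ.add_mem ih he
  have card : ∀ (T : Set ℕ), (∀ a ∈ T, a % e ≠ 0) → Set.InjOn (· % e) T → T.encard ≤ ((e - 1 : ℕ) : ℕ∞) := by
    intro T hT hinj
    calc T.encard = ((· % e) '' T).encard := hinj.encard_image.symm
      _ ≤ (↑(Finset.Ico 1 e) : Set ℕ).encard := Set.encard_le_encard fun x ⟨a, ha, hx⟩ => by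
          subst hx
          have := hT a ha
          have := Nat.mod_lt a (Nat.pos_of_ne_zero he0)
          simp; omega
      _ = _ := by rw [Set.encard_coe_eq_coe_finsetCard, Nat.card_Ico]
  refine ⟨card _ ?_ ?_, card _ ?_ ?_⟩
  · intro a ha h
    exact ha.1 (by simpa [Nat.div_mul_cancel (Nat.dvd_of_mod_eq_zero h)] using hS _ (hmult (a / e)) 0 hS0)
  · intro a ha b hb hab
    by_contra hne
    rcases lt_or_gt_of_ne hne with hlt | hlt
    · obtain ⟨j, hj⟩ := Nat.dvd_iff_mod_eq_zero.2 (Nat.sub_mod_eq_zero_of_mod_eq hab.symm)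
      have hj0 : j * e ≠ 0 := by rw [mul_comm]; omega
      exact hb.1 (by have := ha.2 _ (hmult j) hj0; rwa [mul_comm, ← hj, Nat.add_sub_cancel' hlt.le] at this)
    · obtain ⟨j, hj⟩ := Nat.dvd_iff_mod_eq_zero.2 (Nat.sub_mod_eq_zero_of_mod_eq hab)
      have hj0 : j * e ≠ 0 := by rw [mul_comm]; omega
      exact ha.1 (by have := hb.2 _ (hmult j) hj0; rwa [mul_comm, ← hj, Nat.add_sub_cancel' hlt.le] at this)
  · intro a ha h
    exact ha.2.2 a (by simpa [Nat.div_mul_cancel (Nat.dvd_of_mod_eq_zero h)] using hmult (a / e)) ha.2.1 le_rfl (by rw [Nat.sub_self]; exact hS0)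
  · intro a ha b hb hab
    by_contra hne
    rcases lt_or_gt_of_ne hne with hlt | hlt
    · obtain ⟨j, hj⟩ := Nat.dvd_iff_mod_eq_zero.2 (Nat.sub_mod_eq_zero_of_mod_eq hab.symm)
      refine hb.2.2 (j * e) (hmult j) (by rw [mul_comm]; omega) (by rw [mul_comm]; omega) ?_
      rw [mul_comm, ← hj, Nat.sub_sub_self hlt.le]; exact ha.1
    · obtain ⟨j, hj⟩ := Nat.dvd_iff_mod_eq_zero.2 (Nat.sub_mod_eq_zero_of_mod_eq hab)
      refine ha.2.2 (j * e) (hmult j) (by rw [mul_comm]; omega) (by rw [mul_comm]; omega) ?_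
      rw [mul_comm, ← hj, Nat.sub_sub_self hlt.le]; exact hb.1

end Groth.Agent.S15019
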