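import Groth.Statements.S15021
import Mathlib.Tactic.Abel

set_option autoImplicit false
open TFCurv

namespace Groth.Agent.S15021

/-- Let Γ be a numerical semigroup (a submonoid of (ℕ, +) with finite complement), Γ ≠ ℕ, with conductor
c (every n ≥ c lies in Γ, c − 1 does not). Every subset S of ℕ containing Γ is stable under adding
elements of Γ (so that the diagram of Γ-modules is a full cube on the gaps) if and only if every
nonzero element of Γ is at least c, i.e. Γ consists of 0 and all integers from c on. -/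
theorem result (Γ : AddSubmonoid ℕ) (c : ℕ) (hc : ∀ n : ℕ, c ≤ n → n ∈ Γ) (hc0 : c ≠ 0) (hc1 : c - 1 ∉ Γ) : (∀ S : Set ℕ, (↑Γ : Set ℕ) ⊆ S → ∀ γ : ℕ, γ ∈ Γ → ∀ s : ℕ, s ∈ S → γ + s ∈ S) ↔ ∀ γ : ℕ, γ ∈ Γ → γ ≠ 0 → c ≤ γ := by
  constructor
  · intro h γ hγ hne
    by_contra hlt
    have hs : c - 1 - γ ∉ Γ := fun hm => hc1 (by have := Γ.add_mem hγ hm; rwa [show γ + (c - 1 - γ) = c - 1 by omega] at this)
    have := h ((Γ : Set ℕ) ∪ {c - 1 - γ}) Set.subset_union_left γ hγ (c - 1 - γ) (Or.inr rfl)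
    rw [show γ + (c - 1 - γ) = c - 1 by omega] at this
    rcases this with h1 | h1
    · exact hc1 h1
    · simp only [Set.mem_singleton_iff] at h1; omega
  · intro h S hS γ hγ s hs
    rcases eq_or_ne γ 0 with rfl | hne
    · simpa using hs
    · exact hS (hc _ (by have := h γ hγ hne; omega))

end Groth.Agent.S15021
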