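import Groth.Statements.S15047
import Groth.Agent.Adeq.FFDescent

set_option autoImplicit false
universe u
open TensorProduct
open Desc

namespace Groth.Agent.S15047

/-- Let A → A' be a faithfully flat homomorphism of commutative rings and M, N any A-modules. An
A'-linear map f : A' ⊗_A M → A' ⊗_A N whose two base changes to A' ⊗_A A' (along a ↦ a ⊗ 1 and a ↦ 1
⊗ a) coincide is the base change of a unique A-linear map h : M → N. Since (A' ⊗_A A') ⊗_A M is
generated over A' ⊗_A A' by the elements 1 ⊗ m, the agreement of the two base changes is stated on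
these generators: for every m, the two images of f (1 ⊗ m) in (A' ⊗_A A') ⊗_A N agree. Equivalently,
the sequence Hom_A(M, N) → Hom_{A'}(A' ⊗ M, A' ⊗ N) ⇉ Hom_{A' ⊗ A'}(A' ⊗ A' ⊗ M, A' ⊗ A' ⊗ N) is an
equalizer diagram. -/
theorem result (A A' : Type u) [CommRing A] [CommRing A'] [Algebra A A']
    [Module.FaithfullyFlat A A'] (M N : Type u) [AddCommGroup M] [Module A M] [AddCommGroup N] [Module A N]
    (f : A' ⊗[A] M →ₗ[A'] A' ⊗[A] N)
    (hf : ∀ m : M,
      LinearMap.rTensor N (Algebra.TensorProduct.includeLeft : A' →ₐ[A] A' ⊗[A] A').toLinearMap (f (1 ⊗ₜ[A] m)) =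
        LinearMap.rTensor N (Algebra.TensorProduct.includeRight : A' →ₐ[A] A' ⊗[A] A').toLinearMap (f (1 ⊗ₜ[A] m))) :
    ∃! h : M →ₗ[A] N, h.baseChange A' = f := by
  have hinj : Function.Injective (TensorProduct.mk A A' N 1) := Module.FaithfullyFlat.tensorProduct_mk_injective (A := A) (B := A') N
  have hl : ∀ v : A' ⊗[A] N, TensorProduct.assoc A A' A' N
      (LinearMap.rTensor N (Algebra.TensorProduct.includeLeft : A' →ₐ[A] A' ⊗[A] A').toLinearMap v) =
        (TensorProduct.mk A A' N 1).lTensor A' v := by
    intro v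
    induction v using TensorProduct.induction_on with
    | zero => simp
    | tmul c n => simp
    | add a b ha hb => simp only [map_add, ha, hb]
  have hr : ∀ v : A' ⊗[A] N, TensorProduct.assoc A A' A' N
      (LinearMap.rTensor N (Algebra.TensorProduct.includeRight : A' →ₐ[A] A' ⊗[A] A').toLinearMap v) =
        TensorProduct.mk A A' (A' ⊗[A] N) 1 v := by
    intro v
    induction v using TensorProduct.induction_on with
    | zero => simp
    | tmul c n => simp
    | add a b ha hb => simp only [map_add, ha, hb]
  have hex : ∀ m : M, ∃ n : N, TensorProduct.mk A A' N 1 n = f (1 ⊗ₜ[A] m) := by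
    intro m
    refine (Groth.Agent.Adeq.amitsur_exact A A' N (f (1 ⊗ₜ[A] m))).1 ?_
    rw [LinearMap.sub_apply, sub_eq_zero, ← hl, ← hr, hf m]
  choose h hh using hex
  let hL : M →ₗ[A] N :=
    { toFun := h
      map_add' := fun a b => hinj (by rw [map_add, hh, hh, hh, TensorProduct.tmul_add, map_add])
      map_smul' := fun r a => hinj (by
        rw [RingHom.id_apply, map_smul, hh, hh, TensorProduct.tmul_smul, LinearMap.map_smul_of_tower]) }
  refine ⟨hL, ?_, fun g hg => ?_⟩
  · ext m
    exact hh m
  · ext m
    apply hinj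
    rw [show hL m = h m from rfl, hh, ← hg]
    simp

end Groth.Agent.S15047
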