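import Groth.Statements.S15058
import Mathlib.RingTheory.FormalGroup.Basic
import Mathlib.RingTheory.PowerSeries.Substitution

set_option autoImplicit false
universe u
open FmlGrp

namespace Groth.Agent.S15058

open PowerSeries in
theorem dvd_coeff {R : Type*} [CommRing R] {f : PowerSeries R} {n : ℕ} (h : (PowerSeries.X : PowerSeries R) ^ n ∣ f) {m : ℕ} (hm : m < n) : coeff m f = 0 :=
  X_pow_dvd_iff.1 h m hm

theorem monomial_diff {R : Type*} [CommRing R] {n : ℕ} (g g' : PowerSeries R) (hg : g.constantCoeff = 0) (hg' : g'.constantCoeff = 0)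
    (h : (PowerSeries.X : PowerSeries R) ^ n ∣ g - g') (a b : ℕ) (hab : ¬ (a = 0 ∧ b = 1)) :
    (PowerSeries.X : PowerSeries R) ^ (n + 1) ∣ PowerSeries.X ^ a * g ^ b - PowerSeries.X ^ a * g' ^ b := by
  rw [← mul_sub]
  rcases Nat.eq_zero_or_pos b with rfl | hb
  · simp
  rcases Nat.eq_zero_or_pos a with rfl | ha
  · rw [pow_zero, one_mul, ← geom_sum₂_mul g g' b, pow_succ']
    refine mul_dvd_mul (Finset.dvd_sum fun i hi => ?_) h
    rw [PowerSeries.X_dvd_iff, map_mul, map_pow, map_pow, hg, hg']
    rcases Nat.eq_zero_or_pos i with rfl | hi0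
    · simp [zero_pow (show b - 1 ≠ 0 by omega)]
    · simp [zero_pow hi0.ne']
  · rw [pow_succ']
    exact mul_dvd_mul (dvd_pow_self _ ha.ne') (h.trans (sub_dvd_pow_sub_pow g g' b))

theorem contracts_core {R : Type*} [CommRing R] (F : MvPowerSeries (Fin 2) R) (j : Fin 2) (hF : MvPowerSeries.coeff (Finsupp.single j 1) F = 1)
    (v : PowerSeries R → Fin 2 → PowerSeries R) (hvj : ∀ g, v g j = g) (hvo : ∀ g i, i ≠ j → v g i = PowerSeries.X)
    (hv : ∀ g : PowerSeries R, g.constantCoeff = 0 → MvPowerSeries.HasSubst (v g))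
    (g : PowerSeries R) (hg : g.constantCoeff = 0) (g' : PowerSeries R) (hg' : g'.constantCoeff = 0) (n : ℕ)
    (h : (PowerSeries.X : PowerSeries R) ^ n ∣ g - g') :
    (PowerSeries.X : PowerSeries R) ^ (n + 1) ∣ (F.subst (v g) : PowerSeries R) - F.subst (v g') - (g - g') := by
  classical
  rw [PowerSeries.X_pow_dvd_iff]
  intro m hm
  rw [map_sub, map_sub, PowerSeries.coeff_def (n := m) (s := Finsupp.single () m) (by simp), MvPowerSeries.coeff_subst (hv g hg), MvPowerSeries.coeff_subst (hv g' hg'),
    ← finsum_sub_distrib (MvPowerSeries.coeff_subst_finite (hv g hg) F _) (MvPowerSeries.coeff_subst_finite (hv g' hg') F _),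
    finsum_eq_single _ (Finsupp.single j 1) ?_]
  · simp [Finsupp.prod_single_index, hvj, hF]
  · intro d hd
    rw [← smul_sub, ← map_sub, Finsupp.prod_fintype _ _ (fun i => pow_zero _), Finsupp.prod_fintype _ _ (fun i => pow_zero _)]
    have key : (PowerSeries.X : PowerSeries R) ^ (n + 1) ∣ (∏ i, v g i ^ d i) - ∏ i, v g' i ^ d i := by
      obtain ⟨i, hi, huniv⟩ : ∃ i, i ≠ j ∧ ∀ e : Fin 2, e = i ∨ e = j := by
        fin_cases j
        · exact ⟨1, by decide, by decide⟩
        · exact ⟨0, by decide, by decide⟩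
      have hu : (Finset.univ : Finset (Fin 2)) = {i, j} := Finset.ext fun e => by simpa using huniv e
      rw [hu, Finset.prod_pair hi, Finset.prod_pair hi, hvj, hvj, hvo g i hi, hvo g' i hi]
      refine monomial_diff g g' hg hg' h _ _ fun hh => hd (Finsupp.ext fun e => ?_)
      rcases huniv e with rfl | rfl
      · simp [hh.1, Ne.symm hi]
      · simp [hh.2]
    have := dvd_coeff key hm
    rw [PowerSeries.coeff_def (n := m) (s := Finsupp.single () m) (by simp)] at this
    rw [this, smul_zero]

theorem contracts {R : Type*} [CommRing R] (F : MvPowerSeries (Fin 2) R) (hF : MvPowerSeries.coeff (Finsupp.single 1 1) F = 1)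
    (v : PowerSeries R → Fin 2 → PowerSeries R) (hvj : ∀ g, v g 1 = g) (hvo : ∀ g, v g 0 = PowerSeries.X)
    (hv : ∀ g : PowerSeries R, g.constantCoeff = 0 → MvPowerSeries.HasSubst (v g))
    (g : PowerSeries R) (hg : g.constantCoeff = 0) : ∀ (g' : PowerSeries R), g'.constantCoeff = 0 → ∀ (n : ℕ),
    (PowerSeries.X : PowerSeries R) ^ n ∣ g - g' →
    (PowerSeries.X : PowerSeries R) ^ (n + 1) ∣ (F.subst (v g) : PowerSeries R) - F.subst (v g') - (g - g') :=
  contracts_core F 1 hF v hvj (fun g i hi => by fin_cases i <;> first | exact hvo g | exact absurd rfl hi) hv g hg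

theorem contracts' {R : Type*} [CommRing R] (F : MvPowerSeries (Fin 2) R) (hF : MvPowerSeries.coeff (Finsupp.single 0 1) F = 1)
    (v : PowerSeries R → Fin 2 → PowerSeries R) (hvj : ∀ g, v g 0 = g) (hvo : ∀ g, v g 1 = PowerSeries.X)
    (hv : ∀ g : PowerSeries R, g.constantCoeff = 0 → MvPowerSeries.HasSubst (v g))
    (g : PowerSeries R) (hg : g.constantCoeff = 0) : ∀ (g' : PowerSeries R), g'.constantCoeff = 0 → ∀ (n : ℕ),
    (PowerSeries.X : PowerSeries R) ^ n ∣ g - g' →
    (PowerSeries.X : PowerSeries R) ^ (n + 1) ∣ (F.subst (v g) : PowerSeries R) - F.subst (v g') - (g - g') :=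
  contracts_core F 0 hF v hvj (fun g i hi => by fin_cases i <;> first | exact hvo g | exact absurd rfl hi) hv g hg

theorem const_zero {R : Type*} [CommRing R] (F : MvPowerSeries (Fin 2) R) (hF : MvPowerSeries.constantCoeff F = 0)
    (v : PowerSeries R → Fin 2 → PowerSeries R) (hv : ∀ g : PowerSeries R, g.constantCoeff = 0 → MvPowerSeries.HasSubst (v g))
    (g : PowerSeries R) (hg : g.constantCoeff = 0) (hv0 : ∀ i, (v g i).constantCoeff = 0) :
    PowerSeries.constantCoeff (F.subst (v g) : PowerSeries R) = 0 :=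
  MvPowerSeries.constantCoeff_subst_eq_zero (hv g hg) hv0 hF

theorem exists_root {R : Type*} [CommRing R] (Φ : PowerSeries R → PowerSeries R)
    (hΦ : ∀ g : PowerSeries R, g.constantCoeff = 0 → ∀ g' : PowerSeries R, g'.constantCoeff = 0 → ∀ n : ℕ, (PowerSeries.X : PowerSeries R) ^ n ∣ g - g' → (PowerSeries.X : PowerSeries R) ^ (n + 1) ∣ Φ g - Φ g' - (g - g'))
    (h0 : ∀ g : PowerSeries R, g.constantCoeff = 0 → (Φ g).constantCoeff = 0) :
    ∃ g : PowerSeries R, g.constantCoeff = 0 ∧ Φ g = 0 := by
  let s : ℕ → PowerSeries R := fun n => Nat.rec 0 (fun _ g => g - Φ g) n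
  have hs0 : ∀ n, (s n).constantCoeff = 0 := fun n => by
    induction n with
    | zero => exact map_zero _
    | succ n ih => show PowerSeries.constantCoeff (s n - Φ (s n)) = 0; rw [map_sub, ih, h0 _ ih, sub_zero]
  have hd : ∀ n, (PowerSeries.X : PowerSeries R) ^ (n + 1) ∣ Φ (s n) := fun n => by
    induction n with
    | zero => rw [pow_one, PowerSeries.X_dvd_iff]; exact h0 _ (hs0 0)
    | succ n ih =>
      have := hΦ (s n) (hs0 n) (s (n + 1)) (hs0 (n + 1)) (n + 1) (by show _ ∣ s n - (s n - Φ (s n)); rw [sub_sub_cancel]; exact ih)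
      have e : Φ (s n) - Φ (s (n + 1)) - (s n - (s n - Φ (s n))) = - Φ (s (n + 1)) := by ring
      exact (dvd_neg).1 (e ▸ this)
  let g : PowerSeries R := PowerSeries.mk fun m => PowerSeries.coeff m (s m)
  have hcl : ∀ n, (PowerSeries.X : PowerSeries R) ^ (n + 1) ∣ g - s n := fun n => by
    rw [PowerSeries.X_pow_dvd_iff]
    intro m hm
    rw [map_sub, PowerSeries.coeff_mk, sub_eq_zero]
    induction n, (Nat.lt_succ_iff.1 hm) using Nat.le_induction with
    | base => rfl
    | succ k hk ih =>
      show _ = PowerSeries.coeff m (s k - Φ (s k))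
      rw [map_sub, dvd_coeff (hd k) (by omega), sub_zero]
      exact ih (by omega)
  have hg0 : g.constantCoeff = 0 := by
    rw [← PowerSeries.coeff_zero_eq_constantCoeff_apply, PowerSeries.coeff_mk, PowerSeries.coeff_zero_eq_constantCoeff_apply]
    exact hs0 0
  refine ⟨g, hg0, PowerSeries.ext fun m => ?_⟩
  have h1 := (pow_dvd_pow (PowerSeries.X : PowerSeries R) (by omega : m + 1 ≤ m + 1 + 1)).trans (hΦ g hg0 (s m) (hs0 m) (m + 1) (hcl m))
  have h2 := dvd_add (dvd_add h1 (hcl m)) (hd m)
  have e : Φ g - Φ (s m) - (g - s m) + (g - s m) + Φ (s m) = Φ g := by ring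
  rw [map_zero]
  exact dvd_coeff (e ▸ h2) (by omega)


/-- Let R be a commutative ring and F(X,Y) ∈ R[[X,Y]] a one-dimensional formal group law (zero constant
term, linear part X + Y, associative). Then there is a power series g(X) ∈ R[[X]] with zero constant
term which is a two-sided inverse for F, F(X, g(X)) = 0 = F(g(X), X), and it is unique: every power
series with zero constant term which is a right inverse or a left inverse equals g. (The published
text proves this for formal group laws of any finite dimension with coefficients in a complete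
Noetherian local ring; the argument is a formal degree-by-degree construction, and this row states
the one-dimensional case over an arbitrary commutative ring.) -/
theorem result (R : Type u) [CommRing R] (F : FormalGroup R) :
    ∃ g : PowerSeries R, g.constantCoeff = 0 ∧
      F.toPowerSeries.subst ![PowerSeries.X, g] = (0 : PowerSeries R) ∧
      F.toPowerSeries.subst ![g, PowerSeries.X] = (0 : PowerSeries R) ∧
      ∀ k : PowerSeries R, k.constantCoeff = 0 →
        (F.toPowerSeries.subst ![PowerSeries.X, k] = (0 : PowerSeries R) ∨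
          F.toPowerSeries.subst ![k, PowerSeries.X] = (0 : PowerSeries R)) → k = g := by
  have hs : ∀ g : PowerSeries R, g.constantCoeff = 0 → MvPowerSeries.HasSubst (![PowerSeries.X, g] : Fin 2 → PowerSeries R) := fun g hg =>
    MvPowerSeries.hasSubst_of_constantCoeff_zero fun i => by
      fin_cases i
      · exact PowerSeries.constantCoeff_X
      · exact hg
  have hs' : ∀ g : PowerSeries R, g.constantCoeff = 0 → MvPowerSeries.HasSubst (![g, PowerSeries.X] : Fin 2 → PowerSeries R) := fun g hg =>
    MvPowerSeries.hasSubst_of_constantCoeff_zero fun i => by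
      fin_cases i
      · exact hg
      · exact PowerSeries.constantCoeff_X
  obtain ⟨g, hg0, hg⟩ := exists_root (fun g => F.toPowerSeries.subst ![PowerSeries.X, g])
    (fun g hg => contracts F.toPowerSeries F.lin_coeff_Y (fun g => ![PowerSeries.X, g]) (fun g => rfl) (fun g => rfl) hs g hg)
    (fun g hg => const_zero F.toPowerSeries F.zero_constantCoeff (fun g => ![PowerSeries.X, g]) hs g hg (fun i => by fin_cases i <;> first | exact PowerSeries.constantCoeff_X | exact hg))
  obtain ⟨k, hk0, hk⟩ := exists_root (fun g => F.toPowerSeries.subst ![g, PowerSeries.X])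
    (fun g hg => contracts' F.toPowerSeries F.lin_coeff_X (fun g => ![g, PowerSeries.X]) (fun g => rfl) (fun g => rfl) hs' g hg)
    (fun g hg => const_zero F.toPowerSeries F.zero_constantCoeff (fun g => ![g, PowerSeries.X]) hs' g hg (fun i => by fin_cases i <;> first | exact PowerSeries.constantCoeff_X | exact hg))
  let P := F.Point Unit
  let pt : ∀ h : PowerSeries R, h.constantCoeff = 0 → P := fun h hh => ⟨h, PowerSeries.HasSubst.of_constantCoeff_zero' hh⟩
  let x : P := pt PowerSeries.X PowerSeries.constantCoeff_X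
  have huniq : ∀ a b : P, a + x = 0 → x + b = 0 → a = b := fun a b ha hb => by
    rw [← _root_.add_zero a, ← hb, ← _root_.add_assoc, ha, _root_.zero_add]
  have heq : k = g := congrArg Subtype.val (huniq (pt k hk0) (pt g hg0) (Subtype.ext hk) (Subtype.ext hg))
  subst heq
  refine ⟨k, hk0, hg, hk, fun h hh hor => ?_⟩
  rcases hor with hor | hor
  · exact (congrArg Subtype.val (huniq (pt k hk0) (pt h hh) (Subtype.ext hk) (Subtype.ext hor))).symm
  · exact congrArg Subtype.val (huniq (pt h hh) (pt k hk0) (Subtype.ext hor) (Subtype.ext hg))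

end Groth.Agent.S15058
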