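import Groth.Statements.S15083
import Mathlib
-- import your own Groth.Agent.* helpers here

set_option autoImplicit false
universe u
open MovLem

namespace Groth.Agent.S15083

/-- Let K be a field and r ≥ 1. For every element A of the special linear group SL_{r+1}(K) there is an
algebraic path in SL_{r+1} from the identity to A defined over K: a matrix M of determinant 1 with
entries in the polynomial ring K[y] such that M(0) is the identity matrix and M(1) = A. (The
published statement takes K to be the function field of SL_{r+1} over the ground field, A its
generic point viewed as a K-rational point, and the parameter space to be the projective line minus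
the point 1, with endpoints 0 and ∞; this row gives the path for an arbitrary K-point A on the
affine line with endpoints 0 and 1, which is what the published construction provides before
composing with the coordinate change y ↦ y/(y − 1).) -/
theorem result
    (K : Type u) [Field K] (r : ℕ) (hr : 1 ≤ r)
    (A : Matrix.SpecialLinearGroup (Fin (r + 1)) K) :
    ∃ M : Matrix.SpecialLinearGroup (Fin (r + 1)) (Polynomial K),
      Matrix.SpecialLinearGroup.map (Polynomial.evalRingHom (0 : K)) M = 1 ∧
      Matrix.SpecialLinearGroup.map (Polynomial.evalRingHom (1 : K)) M = A := by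
  haveI : Nontrivial (Fin (r + 1)) := Fin.nontrivial_iff_two_le.mpr (by omega)
  let Q : Matrix.SpecialLinearGroup (Fin (r + 1)) K → Prop := fun A => ∃ M : Matrix.SpecialLinearGroup (Fin (r + 1)) (Polynomial K),
      Matrix.SpecialLinearGroup.map (Polynomial.evalRingHom (0 : K)) M = 1 ∧
      Matrix.SpecialLinearGroup.map (Polynomial.evalRingHom (1 : K)) M = A
  have hmul : ∀ A B, Q A → Q B → Q (A * B) := by
    rintro A B ⟨M, h0, h1⟩ ⟨N, g0, g1⟩
    exact ⟨M * N, by rw [map_mul, h0, g0, one_mul], by rw [map_mul, h1, g1]⟩
  have ht : ∀ (i j : Fin (r + 1)) (hij : i ≠ j) (a : K), Q (Matrix.SpecialLinearGroup.transvection hij a) := by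
    intro i j hij a
    refine ⟨Matrix.SpecialLinearGroup.transvection hij (Polynomial.C a * Polynomial.X), ?_, ?_⟩ <;>
    · apply Subtype.ext
      ext s t
      by_cases h : i = s ∧ j = t <;> by_cases h' : s = t <;>
        simp_all [Matrix.SpecialLinearGroup.transvection_coe, Matrix.SpecialLinearGroup.map_apply_coe, Matrix.single_apply, Matrix.one_apply]
  refine Matrix.SpecialLinearGroup.diagonal_transvection_induction' Q A (fun i j hij c hc => ?_) ht hmul
  have e : Matrix.SpecialLinearGroup.diag2n hij c hc =
      Matrix.SpecialLinearGroup.transvection hij c * (Matrix.SpecialLinearGroup.transvection hij.symm (-c⁻¹) *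
      (Matrix.SpecialLinearGroup.transvection hij c * (Matrix.SpecialLinearGroup.transvection hij (-1) *
      (Matrix.SpecialLinearGroup.transvection hij.symm 1 * (Matrix.SpecialLinearGroup.transvection hij (-1) * 1))))) := by
    have key : ∀ (a b : Fin (r + 1)) (hab : a ≠ b) (x : K) (M : Matrix (Fin (r + 1)) (Fin (r + 1)) K) (s t : Fin (r + 1)),
        ((Matrix.SpecialLinearGroup.transvection hab x).1 * M) s t = if s = a then M s t + x * M b t else M s t := by
      intro a b hab x M s t
      by_cases h : s = a
      · subst h; rw [if_pos rfl]; exact Matrix.transvection_mul_apply_same s b t x M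
      · rw [if_neg h]; exact Matrix.transvection_mul_apply_of_ne a b s t h x M
    apply Subtype.ext
    ext s t
    simp only [Matrix.SpecialLinearGroup.coe_mul, key, Matrix.SpecialLinearGroup.coe_one, Matrix.SpecialLinearGroup.diag2n_coe, Matrix.diagonal_apply, Matrix.one_apply]
    have hji := hij.symm
    by_cases hsi : s = i
    · subst hsi
      by_cases h1 : s = t
      · subst h1; simp [hij, hji, hc]
      · by_cases h2 : j = t
        · subst h2; simp [hij, hji, hc]
        · simp [hij, hji, hc, h1, h2]
    · by_cases hsj : s = j
      · subst hsj
        by_cases h1 : s = t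
        · subst h1; simp [hij, hji, hc]
        · by_cases h2 : i = t
          · subst h2; simp [hij, hji, hc]
          · simp [hij, hji, hc, h1, h2]
      · simp [hsi, hsj]
  rw [e]
  exact hmul _ _ (ht _ _ _ _) (hmul _ _ (ht _ _ _ _) (hmul _ _ (ht _ _ _ _) (hmul _ _ (ht _ _ _ _) (hmul _ _ (ht _ _ _ _) (hmul _ _ (ht _ _ _ _) ⟨1, map_one _, map_one _⟩)))))

end Groth.Agent.S15083
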