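import Groth.Statements.S15115
import Groth.Agent.HopfRep.Integral

set_option autoImplicit false
universe u
open HopfRep

namespace Groth.Agent.S15115

open TensorProduct in
/-- Let k be an algebraically closed field, H a finite-dimensional commutative Hopf algebra over k all
of whose finite-dimensional comodules are semisimple (a finite linearly reductive group scheme G
over k), A a commutative k-algebra, and M an A-module with an H-coaction that is A-linear (G acts on
M by A-module maps, A carrying the trivial action). Let A' be a commutative A-algebra and N = A' ⊗_A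
M its base change, exhibited by an A-linear map φ : M → N, with the induced coaction: A'-linear and
compatible with φ. Then invariants commute with this base change: writing M^G for the A-submodule of
coinvariant elements of M, the natural map A' ⊗_A M^G → N, a' ⊗ m ↦ a' φ(m), is injective and its
image is exactly the set of coinvariant elements of N. (The published statement is the isomorphism
ρ^* π_* F → π'_* σ^* F for a tame Deligne–Mumford stack with coarse moduli space π and any base
change ρ of the coarse space; this row is the statement about invariants to which its proof reduces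
it, for modules that need not be finitely generated.) -/
theorem result (k : Type u) [Field k] [IsAlgClosed k]
    (H : Type u) [CommRing H] [HopfAlgebra k H] [Module.Finite k H] (hred : HopfRep.IsLinearlyReductive k H)
    (A : Type u) [CommRing A] [Algebra k A]
    (M : Type u) [AddCommGroup M] [Module k M] [Module A M] [IsScalarTower k A M] [HopfRep.Comod k H M]
    (hlin : ∀ (a : A) (m : M), HopfRep.Comod.coact (k := k) (A := H) (a • m) = a • HopfRep.Comod.coact (k := k) (A := H) m)
    (A' : Type u) [CommRing A'] [Algebra k A'] [Algebra A A'] [IsScalarTower k A A']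
    (N : Type u) [AddCommGroup N] [Module k N] [Module A N] [Module A' N]
    [IsScalarTower k A N] [IsScalarTower A A' N] [IsScalarTower k A' N] [HopfRep.Comod k H N]
    (φ : M →ₗ[A] N) (hφ : IsBaseChange A' φ)
    (hcomp : ∀ m : M, HopfRep.Comod.coact (k := k) (A := H) (φ m) =
      LinearMap.rTensor H (φ.restrictScalars k) (HopfRep.Comod.coact (k := k) (A := H) m))
    (hlinN : ∀ (a' : A') (n : N), HopfRep.Comod.coact (k := k) (A := H) (a' • n) = a' • HopfRep.Comod.coact (k := k) (A := H) n)
    (P : Submodule A M) (hP : (P : Set M) = (HopfRep.fixedPts k H M : Set M)) :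
    Function.Injective (TensorProduct.lift (((Algebra.lsmul A A N : A' →ₐ[A] Module.End A N).toLinearMap).compl₂ (φ ∘ₗ P.subtype))) ∧
      Set.range (TensorProduct.lift (((Algebra.lsmul A A N : A' →ₐ[A] Module.End A N).toLinearMap).compl₂ (φ ∘ₗ P.subtype))) =
        (HopfRep.fixedPts k H N : Set N) := by
  obtain ⟨β, hβ⟩ := Groth.Agent.HopfRep.Integral.exists_integral hred
  let T := TensorProduct.lift (((Algebra.lsmul A A N : A' →ₐ[A] Module.End A N).toLinearMap).compl₂ (φ ∘ₗ P.subtype))
  have hT : ∀ (a' : A') (p : P), T (a' ⊗ₜ p) = a' • φ p := fun a' p => rfl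
  have hcomp' : Hoch.IsComodHom H (φ.restrictScalars k) := LinearMap.ext hcomp
  have hsm : ∀ (a : A) (m : M), Groth.Agent.HopfRep.Slice.slice k M β (a • m) =
      a • Groth.Agent.HopfRep.Slice.slice k M β m := by
    intro a m
    rw [Groth.Agent.HopfRep.Slice.slice_apply, hlin, Groth.Agent.HopfRep.Slice.slice_apply]
    generalize HopfRep.Comod.coact (k := k) (A := H) m = z
    induction z with
    | zero => simp
    | add p q hp hq => simp [hp, hq]
    | tmul p q => simp [TensorProduct.smul_tmul', smul_comm a]
  have hsmN : ∀ (a : A') (m : N), Groth.Agent.HopfRep.Slice.slice k N β (a • m) =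
      a • Groth.Agent.HopfRep.Slice.slice k N β m := by
    intro a m
    rw [Groth.Agent.HopfRep.Slice.slice_apply, hlinN, Groth.Agent.HopfRep.Slice.slice_apply]
    generalize HopfRep.Comod.coact (k := k) (A := H) m = z
    induction z with
    | zero => simp
    | add p q hp hq => simp [hp, hq]
    | tmul p q => simp [TensorProduct.smul_tmul', smul_comm a]
  have hmem : ∀ m, m ∈ P ↔ m ∈ HopfRep.fixedPts k H M := fun m => Set.ext_iff.1 hP m
  let Q : M →ₗ[A] P :=
    { toFun := fun m => ⟨Groth.Agent.HopfRep.Slice.slice k M β m,
        (hmem _).2 (Groth.Agent.HopfRep.Integral.slice_mem hβ m)⟩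
      map_add' := fun a b => Subtype.ext (map_add _ a b)
      map_smul' := fun a m => Subtype.ext (hsm a m) }
  have hQ : Q ∘ₗ P.subtype = LinearMap.id := LinearMap.ext fun p =>
    Subtype.ext (Groth.Agent.HopfRep.Integral.slice_of_fixed hβ ((hmem _).1 p.2))
  have hT' : ∀ z, T z = hφ.equiv (P.subtype.lTensor A' z) := by
    intro z
    induction z with
    | zero => simp
    | add p q hp hq => simp [hp, hq]
    | tmul a p => simp [hT, IsBaseChange.equiv_tmul]
  refine ⟨fun z z' h => ?_, ?_⟩
  · change T z = T z' at h
    rw [hT', hT'] at h
    have h' := congrArg (Q.lTensor A') (hφ.equiv.injective h)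
    rwa [← LinearMap.lTensor_comp_apply, ← LinearMap.lTensor_comp_apply, hQ, LinearMap.lTensor_id_apply,
      LinearMap.lTensor_id_apply] at h'
  ext n
  refine ⟨?_, fun hn => ?_⟩
  · rintro ⟨z, rfl⟩
    induction z with
    | zero => simp
    | add p q hp hq => rw [map_add]; exact Submodule.add_mem _ hp hq
    | tmul a p =>
      show HopfRep.Comod.coact (k := k) (A := H) (a • φ p) = (a • φ p) ⊗ₜ[k] (1 : H)
      have e := Groth.Agent.HopfRep.Integral.map_fixed hcomp' ((hmem _).1 p.2)
      rw [hlinN, show HopfRep.Comod.coact (k := k) (A := H) (φ p) = φ p ⊗ₜ[k] (1 : H) from e,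
        TensorProduct.smul_tmul']
  · suffices h : ∀ n, ∃ z, T z = Groth.Agent.HopfRep.Slice.slice k N β n by
      obtain ⟨z, hz⟩ := h n
      exact ⟨z, hz.trans (Groth.Agent.HopfRep.Integral.slice_of_fixed hβ hn)⟩
    intro n
    induction n using hφ.inductionOn with
    | zero => exact ⟨0, by simp⟩
    | tmul m =>
      refine ⟨1 ⊗ₜ Q m, ?_⟩
      rw [hT, one_smul]
      exact Groth.Agent.HopfRep.Slice.map_slice hcomp' β m
    | smul a n ih =>
      obtain ⟨z, hz⟩ := ih
      refine ⟨a • z, ?_⟩
      rw [hsmN, ← hz, hT', hT', ← map_smul]
      congr 1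
      clear hz
      induction z with
      | zero => simp
      | add p q hp hq => simp only [smul_add, map_add, hp, hq]
      | tmul b p => simp [TensorProduct.smul_tmul']
    | add p q hp hq =>
      obtain ⟨z, hz⟩ := hp
      obtain ⟨z', hz'⟩ := hq
      exact ⟨z + z', by rw [map_add, hz, hz', map_add]⟩

end Groth.Agent.S15115
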