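import Groth.Statements.S15125
import Mathlib.RingTheory.AdjoinRoot
import Mathlib.RingTheory.Filtration
import Mathlib.FieldTheory.SeparableClosure
import Mathlib.RingTheory.Localization.Submodule
import Mathlib.FieldTheory.RatFunc.AsPolynomial
import Mathlib.RingTheory.EssentialFiniteness
import Mathlib.Algebra.Polynomial.FieldDivision
-- import your own Groth.Agent.* helpers here

set_option autoImplicit false
universe u
open scoped TensorProduct
open Fields

namespace Groth.Agent.S15125

/-- Let L be a finitely generated field extension of K, and I ⊆ L ⊗_K L the kernel of multiplication L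
⊗_K L → L. An element x of L has the property that x ⊗ 1 and 1 ⊗ x have the same image in the I-adic
completion of L ⊗_K L if and only if x is separable algebraic over K. Equivalently, the equaliser of
the two natural maps from L to that completion is the separable algebraic closure of K in L. -/
theorem result
    (K L : Type u) [Field K] [Field L] [Algebra K L]
    (hfg : (⊤ : IntermediateField K L).FG) (x : L) :
    AdicCompletion.of (KaehlerDifferential.ideal K L) (L ⊗[K] L) (x ⊗ₜ[K] (1 : L)) =
        AdicCompletion.of (KaehlerDifferential.ideal K L) (L ⊗[K] L) ((1 : L) ⊗ₜ[K] x) ↔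
      x ∈ separableClosure K L := by
  classical
  haveI : Algebra.EssFiniteType K L := IntermediateField.fg_top_iff.mp hfg
  haveI : IsNoetherianRing (L ⊗[K] L) := Algebra.EssFiniteType.isNoetherianRing L (L ⊗[K] L)
  set δ : L ⊗[K] L := x ⊗ₜ[K] (1 : L) - (1 : L) ⊗ₜ[K] x with hδ
  let μ : L ⊗[K] L →ₐ[K] L := Algebra.TensorProduct.lmul' K
  have hstep : AdicCompletion.of (KaehlerDifferential.ideal K L) (L ⊗[K] L) (x ⊗ₜ[K] (1 : L)) =
        AdicCompletion.of (KaehlerDifferential.ideal K L) (L ⊗[K] L) ((1 : L) ⊗ₜ[K] x) ↔
      ∃ s : L ⊗[K] L, μ s ≠ 0 ∧ s * δ = 0 := by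
    rw [← sub_eq_zero, ← map_sub]
    have h1 : AdicCompletion.of (KaehlerDifferential.ideal K L) (L ⊗[K] L) δ = 0 ↔
        δ ∈ (⨅ i : ℕ, KaehlerDifferential.ideal K L ^ i • ⊤ : Submodule (L ⊗[K] L) (L ⊗[K] L)) := by
      rw [Submodule.mem_iInf]
      constructor
      · intro h i
        have h2 := congrArg (fun f => f.1 i) h
        simp only [AdicCompletion.of_apply, Submodule.mkQ_apply] at h2
        exact (Submodule.Quotient.mk_eq_zero _).mp h2
      · intro h
        refine AdicCompletion.ext fun i => ?_
        rw [AdicCompletion.of_apply, Submodule.mkQ_apply]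
        exact (Submodule.Quotient.mk_eq_zero _).mpr (h i)
    rw [h1, Ideal.mem_iInf_smul_pow_eq_bot_iff]
    constructor
    · rintro ⟨⟨r, hr⟩, hrδ⟩
      refine ⟨1 - r, ?_, ?_⟩
      · rw [map_sub, map_one, show μ r = 0 from hr, sub_zero]
        exact one_ne_zero
      · rw [sub_mul, one_mul, sub_eq_zero]
        exact hrδ.symm
    · rintro ⟨s, hs, hsδ⟩
      refine ⟨⟨1 - ((μ s)⁻¹ ⊗ₜ[K] (1 : L)) * s, ?_⟩, ?_⟩
      · show μ _ = 0
        rw [map_sub, map_one, map_mul, Algebra.TensorProduct.lmul'_apply_tmul, mul_one,
          inv_mul_cancel₀ hs, sub_self]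
      · show (1 - ((μ s)⁻¹ ⊗ₜ[K] (1 : L)) * s) * δ = δ
        rw [sub_mul, one_mul, mul_assoc, hsδ, mul_zero, sub_zero]
  rw [hstep, mem_separableClosure_iff]
  constructor
  · rintro ⟨s, hs, hsδ⟩
    -- descend to `E = K(x)`
    let E := IntermediateField.adjoin K ({x} : Set L)
    let g : E := IntermediateField.AdjoinSimple.gen K x
    let b := Module.Free.chooseBasis E L
    let pr : Module.Free.ChooseBasisIndex E L → L →ₗ[K] E := fun i => (b.coord i).restrictScalars K
    let PR : Module.Free.ChooseBasisIndex E L → Module.Free.ChooseBasisIndex E L →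
        L ⊗[K] L →ₗ[K] E ⊗[K] E := fun i j => TensorProduct.map (pr i) (pr j)
    let incl : E ⊗[K] E →ₐ[K] L ⊗[K] L := Algebra.TensorProduct.map E.val E.val
    let δ' : E ⊗[K] E := g ⊗ₜ[K] (1 : E) - (1 : E) ⊗ₜ[K] g
    have hmul : ∀ i j (t : L ⊗[K] L), PR i j (t * δ) = PR i j t * δ' := by
      intro i j t
      induction t using TensorProduct.induction_on with
      | zero => simp
      | tmul l m =>
        have e1 : pr i (l * x) = pr i l * g := by
          show b.coord i (l * x) = b.coord i l * g
          rw [show l * x = g • l by rw [mul_comm]; rfl, map_smul, smul_eq_mul, mul_comm]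
        have e2 : pr j (m * x) = pr j m * g := by
          show b.coord j (m * x) = b.coord j m * g
          rw [show m * x = g • m by rw [mul_comm]; rfl, map_smul, smul_eq_mul, mul_comm]
        simp only [PR, δ', hδ, mul_sub, Algebra.TensorProduct.tmul_mul_tmul, mul_one, map_sub,
          TensorProduct.map_tmul, e1, e2]
      | add t t' ht ht' => rw [add_mul, map_add, map_add, ht, ht', add_mul]
    have hexp : ∀ t : L ⊗[K] L, ∃ F : Finset (Module.Free.ChooseBasisIndex E L), ∀ G, F ⊆ G →
        μ t = ∑ i ∈ G, ∑ j ∈ G, μ (incl (PR i j t)) * (b i * b j) := by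
      intro t
      induction t using TensorProduct.induction_on with
      | zero => exact ⟨∅, fun G _ => by simp⟩
      | tmul l m =>
        refine ⟨(b.repr l).support ∪ (b.repr m).support, fun G hG => ?_⟩
        have hl : ∀ (y : L), (b.repr y).support ⊆ G → y = ∑ i ∈ G, (b.repr y i : L) * b i := by
          intro y hy
          conv_lhs => rw [← b.linearCombination_repr y]
          rw [Finsupp.linearCombination_apply, Finsupp.sum_of_support_subset _ hy _ (by simp)]
          rfl
        simp only [PR, incl, μ, TensorProduct.map_tmul, Algebra.TensorProduct.map_tmul,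
          Algebra.TensorProduct.lmul'_apply_tmul]
        conv_lhs => rw [hl l (Finset.union_subset_left hG), hl m (Finset.union_subset_right hG),
          Finset.sum_mul_sum]
        refine Finset.sum_congr rfl fun i _ => Finset.sum_congr rfl fun j _ => ?_
        show (b.repr l i : L) * b i * ((b.repr m j : L) * b j) = (b.repr l i : L) * (b.repr m j : L) * (b i * b j)
        ring
      | add t t' ht ht' =>
        obtain ⟨F, hF⟩ := ht
        obtain ⟨F', hF'⟩ := ht'
        refine ⟨F ∪ F', fun G hG => ?_⟩
        rw [map_add, hF G (Finset.union_subset_left hG), hF' G (Finset.union_subset_right hG)]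
        simp only [map_add, add_mul, Finset.sum_add_distrib]
    obtain ⟨F, hF⟩ := hexp s
    obtain ⟨a, ha, haδ⟩ : ∃ a : E ⊗[K] E, Algebra.TensorProduct.lmul' K a ≠ 0 ∧ a * δ' = 0 := by
      by_contra hc
      push Not at hc
      apply hs
      rw [hF F subset_rfl]
      refine Finset.sum_eq_zero fun i _ => Finset.sum_eq_zero fun j _ => ?_
      have h0 : Algebra.TensorProduct.lmul' K (PR i j s) = 0 := by
        by_contra h0
        exact hc _ h0 (by rw [← hmul, hsδ, map_zero])
      have hcomp : ∀ w : E ⊗[K] E, μ (incl w) = ((Algebra.TensorProduct.lmul' K w : E) : L) := by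
        intro w
        induction w using TensorProduct.induction_on with
        | zero => simp
        | tmul u v => simp [μ, incl]
        | add u v hu hv => rw [map_add, map_add, hu, hv, map_add]; rfl
      rw [hcomp, h0]
      simp
    by_cases halg : IsIntegral K x
    · by_contra hnsep
      let pb := IntermediateField.adjoin.powerBasis halg
      let p : Polynomial E := (minpoly K x).map (algebraMap K E)
      have hgen : pb.gen = g := rfl
      have hmin : minpoly K pb.gen = minpoly K x := by
        rw [hgen, ← minpoly.algebraMap_eq (algebraMap E L).injective g]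
        rfl
      let φ : E →ₐ[K] AdjoinRoot p := pb.lift (AdjoinRoot.root p) (by
        rw [hmin, ← Polynomial.aeval_map_algebraMap E, AdjoinRoot.aeval_eq, AdjoinRoot.mk_self])
      have hφg : φ g = AdjoinRoot.root p := pb.lift_gen _ _
      let Φ : E ⊗[K] E →ₐ[K] AdjoinRoot p :=
        Algebra.TensorProduct.lift (IsScalarTower.toAlgHom K E (AdjoinRoot p)) φ (fun _ _ => Commute.all _ _)
      have hp0 : p.eval g = 0 := by
        rw [Polynomial.eval_map, ← Polynomial.aeval_def, ← hgen, ← hmin]
        exact minpoly.aeval K pb.gen
      let ev : AdjoinRoot p →ₐ[E] E := AdjoinRoot.liftAlgHom p (AlgHom.id E E) g hp0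
      have hev1 : ∀ u : E, ev (AdjoinRoot.of p u) = u := fun u => ev.commutes u
      have hev2 : ev (AdjoinRoot.root p) = g := by
        show AdjoinRoot.lift (AlgHom.id E E).toRingHom g hp0 (AdjoinRoot.root p) = g
        exact AdjoinRoot.lift_root _
      have hev : (ev.restrictScalars K).comp Φ = Algebra.TensorProduct.lmul' K := by
        refine Algebra.TensorProduct.ext ?_ ?_
        · ext u
          simp [Φ, hev1, AdjoinRoot.algebraMap_eq]
        · refine pb.algHom_ext ?_
          simp [Φ, hev2, hgen, hφg]
      obtain ⟨f, hf⟩ := AdjoinRoot.mk_surjective (Φ a)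
      have h0 : AdjoinRoot.mk p (f * (Polynomial.C g - Polynomial.X)) = 0 := by
        rw [map_mul, map_sub, hf, AdjoinRoot.mk_C, AdjoinRoot.mk_X]
        have h1 := congrArg Φ haδ
        rw [map_mul, map_zero] at h1
        have h2 : Φ δ' = AdjoinRoot.of p g - AdjoinRoot.root p := by
          simp [Φ, δ', hφg, AdjoinRoot.algebraMap_eq]
        rwa [h2] at h1
      have hder : (Polynomial.derivative p).eval g = 0 := by
        have hd : Polynomial.derivative (minpoly K x) = 0 := by
          by_contra hd
          exact hnsep ((Polynomial.separable_iff_derivative_ne_zero (minpoly.irreducible halg)).mpr hd)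
        simp [p, Polynomial.derivative_map, hd]
      have hdvd : (Polynomial.X - Polynomial.C g) ^ 2 ∣ p := by
        have hpne : p ≠ 0 := (Polynomial.map_ne_zero_iff (algebraMap K E).injective).mpr (minpoly.ne_zero halg)
        exact (Polynomial.le_rootMultiplicity_iff hpne).mp
          ((Polynomial.one_lt_rootMultiplicity_iff_isRoot hpne).mpr ⟨hp0, hder⟩)
      obtain ⟨w, hw⟩ := hdvd.trans (AdjoinRoot.mk_eq_zero.mp h0)
      have hf0 : f = (Polynomial.X - Polynomial.C g) * (-w) :=
        mul_right_cancel₀ (Polynomial.X_sub_C_ne_zero g) (by linear_combination -hw)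
      apply ha
      rw [← hev, AlgHom.comp_apply, AlgHom.restrictScalars_apply, ← hf, hf0]
      simp [hev1, hev2]
    · have htr : Transcendental K x := halg ∘ IsAlgebraic.isIntegral
      let e : RatFunc K ≃ₐ[K] E := RatFunc.algEquivOfTranscendental x htr
      let ψ : Polynomial K →ₐ[K] RatFunc E :=
        (IsScalarTower.toAlgHom K (Polynomial E) (RatFunc E)).comp
          (Polynomial.mapAlgHom (Algebra.ofId K E))
      have hψ : Function.Injective ψ :=
        (IsFractionRing.injective (Polynomial E) (RatFunc E)).comp
          (Polynomial.map_injective _ (algebraMap K E).injective)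
      let φ : E →ₐ[K] RatFunc E :=
        (RatFunc.liftAlgHom ψ (nonZeroDivisors_le_comap_nonZeroDivisors_of_injective ψ hψ)).comp
          e.symm.toAlgHom
      have he : ∀ q : Polynomial K, e (algebraMap (Polynomial K) (RatFunc K) q) = Polynomial.aeval g q := by
        intro q
        apply Subtype.ext
        rw [show e (algebraMap (Polynomial K) (RatFunc K) q) = _ from
          RatFunc.algEquivOfTranscendental_algebraMap x htr q]
      have hφ : ∀ q : Polynomial K, φ (Polynomial.aeval g q) = ψ q := by
        intro q
        rw [← he q]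
        simp [φ, RatFunc.liftAlgHom_apply]
      have hg0 : ∀ q : Polynomial K, q ≠ 0 → Polynomial.aeval g q ≠ 0 := by
        intro q hq h
        rw [← he q, map_eq_zero] at h
        exact hq (IsFractionRing.injective (Polynomial K) (RatFunc K) (h.trans (map_zero _).symm))
      let Φ : E ⊗[K] E →ₐ[K] RatFunc E :=
        Algebra.TensorProduct.lift (IsScalarTower.toAlgHom K E (RatFunc E)) φ (fun _ _ => Commute.all _ _)
      have hrep : ∀ t : E ⊗[K] E, ∃ (h : Polynomial K) (G : Polynomial E), h ≠ 0 ∧
          Φ t * ψ h = algebraMap (Polynomial E) (RatFunc E) G ∧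
          Algebra.TensorProduct.lmul' K t * Polynomial.aeval g h = G.eval g := by
        intro t
        induction t using TensorProduct.induction_on with
        | zero => exact ⟨1, 0, one_ne_zero, by simp, by simp⟩
        | tmul u v =>
          obtain ⟨q, hq⟩ : ∃ q : RatFunc K, e q = v := ⟨e.symm v, e.apply_symm_apply v⟩
          have hden : q.denom ≠ 0 := q.denom_ne_zero
          have hv : v * Polynomial.aeval g q.denom = Polynomial.aeval g q.num := by
            rw [← hq, ← he, ← he, ← map_mul]
            congr 1
            have h := q.num_div_denom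
            rw [div_eq_iff (RatFunc.algebraMap_ne_zero hden)] at h
            exact h.symm
          refine ⟨q.denom, Polynomial.C u * q.num.map (algebraMap K E), hden, ?_, ?_⟩
          · have h2 := congrArg φ hv
            rw [map_mul, hφ, hφ] at h2
            simp only [Φ, Algebra.TensorProduct.lift_tmul, mul_assoc, h2]
            rw [map_mul]
            rfl
          · rw [Algebra.TensorProduct.lmul'_apply_tmul, mul_assoc, hv, Polynomial.eval_mul, Polynomial.eval_C,
              Polynomial.eval_map, Polynomial.aeval_def]
        | add t t' ht ht' =>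
          obtain ⟨h, G, hh, h1, h2⟩ := ht
          obtain ⟨h', G', hh', h1', h2'⟩ := ht'
          refine ⟨h * h', G * h'.map (algebraMap K E) + G' * h.map (algebraMap K E), mul_ne_zero hh hh', ?_, ?_⟩
          · rw [map_add, map_mul, map_add, map_mul, map_mul,
              show algebraMap (Polynomial E) (RatFunc E) (h'.map (algebraMap K E)) = ψ h' from rfl,
              show algebraMap (Polynomial E) (RatFunc E) (h.map (algebraMap K E)) = ψ h from rfl]
            linear_combination ψ h' * h1 + ψ h * h1'
          · rw [map_add, map_mul, Polynomial.eval_add, Polynomial.eval_mul, Polynomial.eval_mul,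
              Polynomial.eval_map, Polynomial.eval_map, ← Polynomial.aeval_def, ← Polynomial.aeval_def]
            linear_combination Polynomial.aeval g h' * h2 + Polynomial.aeval g h * h2'
      obtain ⟨h, G, hh, hG1, hG2⟩ := hrep a
      exfalso
      have h1 := congrArg Φ haδ
      rw [map_mul, map_zero] at h1
      have h2 : Φ δ' = algebraMap (Polynomial E) (RatFunc E) (Polynomial.C g - Polynomial.X) := by
        have h3 : φ g = ψ Polynomial.X := by rw [← hφ, Polynomial.aeval_X]
        rw [map_sub]
        simp [Φ, δ', h3, ψ]
      rw [h2] at h1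
      have h3 : Φ a = 0 := (mul_eq_zero.mp h1).resolve_right (RatFunc.algebraMap_ne_zero (by
        rw [← neg_sub, neg_ne_zero]
        exact Polynomial.X_sub_C_ne_zero g))
      rw [h3, zero_mul] at hG1
      have hG : G = 0 := IsFractionRing.injective (Polynomial E) (RatFunc E) (hG1.symm.trans (map_zero _).symm)
      rw [hG, Polynomial.eval_zero, mul_eq_zero] at hG2
      exact hG2.elim ha (hg0 h hh)
  · intro hsep
    let p : Polynomial K := minpoly K x
    let P : Polynomial (L ⊗[K] L) := p.map (algebraMap K (L ⊗[K] L))
    obtain ⟨c, hc⟩ := Polynomial.X_sub_C_dvd_sub_C_eval (p := P) (a := (1 : L) ⊗ₜ[K] x)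
    have hr : P.eval ((1 : L) ⊗ₜ[K] x) = 0 := by
      rw [Polynomial.eval_map, ← Polynomial.aeval_def,
        show (1 : L) ⊗ₜ[K] x = Algebra.TensorProduct.includeRight (R := K) (A := L) x from rfl,
        Polynomial.aeval_algHom_apply, minpoly.aeval, map_zero]
    have hl : P.eval (x ⊗ₜ[K] (1 : L)) = 0 := by
      rw [Polynomial.eval_map, ← Polynomial.aeval_def,
        show x ⊗ₜ[K] (1 : L) = Algebra.TensorProduct.includeLeft (R := K) (S := K) (B := L) x from rfl,
        Polynomial.aeval_algHom_apply, minpoly.aeval, map_zero]
    rw [hr, map_zero, sub_zero] at hc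
    refine ⟨c.eval (x ⊗ₜ[K] (1 : L)), ?_, ?_⟩
    · have hmap := congrArg (Polynomial.map μ.toRingHom) hc
      rw [Polynomial.map_mul, Polynomial.map_sub, Polynomial.map_X, Polynomial.map_C, Polynomial.map_map,
        show μ.toRingHom.comp (algebraMap K (L ⊗[K] L)) = algebraMap K L from μ.comp_algebraMap] at hmap
      have hx1 : μ.toRingHom ((1 : L) ⊗ₜ[K] x) = x := by simp [μ]
      rw [hx1] at hmap
      have hd := congrArg (fun q : Polynomial L => (Polynomial.derivative q).eval x) hmap
      simp only [Polynomial.derivative_mul, Polynomial.derivative_sub, Polynomial.derivative_X,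
        Polynomial.derivative_C, sub_zero, one_mul, Polynomial.eval_add, Polynomial.eval_mul,
        Polynomial.eval_sub, Polynomial.eval_X, Polynomial.eval_C, sub_self, zero_mul, add_zero,
        Polynomial.derivative_map] at hd
      rw [Polynomial.eval_map, ← Polynomial.aeval_def] at hd
      have e : μ (c.eval (x ⊗ₜ[K] (1 : L))) = (c.map μ.toRingHom).eval x := by
        rw [Polynomial.eval_map]
        conv_rhs => rw [show x = μ.toRingHom (x ⊗ₜ[K] (1 : L)) by simp [μ], Polynomial.eval₂_at_apply]
        rfl
      rw [e, ← hd]
      exact hsep.aeval_derivative_ne_zero (minpoly.aeval K x)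
    · have h := congrArg (Polynomial.eval (x ⊗ₜ[K] (1 : L))) hc
      rw [hl, Polynomial.eval_mul, Polynomial.eval_sub, Polynomial.eval_X, Polynomial.eval_C] at h
      rw [mul_comm]
      exact h.symm

end Groth.Agent.S15125
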