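import Groth.Statements.S15126
import Mathlib

set_option autoImplicit false
universe u
open Formal

namespace Groth.Agent.S15126

/-- Affine case. Let k be a field, n > 0, and R a commutative algebra over the power series ring
k[[z_1,…,z_n]]; for a commutative k-algebra Q regard Q[[z_1,…,z_n]] as a k[[z]]-algebra
coefficientwise. Then the functor Q ↦ Hom_{k[[z]]-alg}(R, Q[[z]]) on commutative k-algebras is
corepresentable: there exist a commutative k-algebra P and a k[[z]]-algebra homomorphism u : R →
P[[z]] such that every k[[z]]-algebra homomorphism R → Q[[z]] arises from u by applying a unique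
k-algebra homomorphism P → Q coefficientwise. If moreover R is countably generated as a
k[[z]]-algebra, P may be taken countably generated over k. (The published statement is for an adic
formal scheme Y over the formal disc Spf k[[z]], asserting that the sheaf of sections of Y over the
disc is a scheme, affine over the fibre of Y at the origin, and of pro-finite type when Y is; this
row is the case Y = Spf R, to which the published argument reduces, stated for the underlying
algebra R; k is algebraically closed there, which is not used.) -/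
theorem result
    (k : Type u) [Field k] (n : ℕ) (hn : 0 < n)
    (R : Type u) [CommRing R] [Algebra (MvPowerSeries (Fin n) k) R] :
    ∃ (P : Type u) (_ : CommRing P) (_ : Algebra k P)
      (u : R →ₐ[MvPowerSeries (Fin n) k] MvPowerSeries (Fin n) P),
      (∀ (Q : Type u) [CommRing Q] [Algebra k Q]
          (f : R →ₐ[MvPowerSeries (Fin n) k] MvPowerSeries (Fin n) Q),
          ∃! g : P →ₐ[k] Q,
            (MvPowerSeries.map (σ := Fin n) (g : P →+* Q)).comp (u : R →+* MvPowerSeries (Fin n) P) =
              (f : R →+* MvPowerSeries (Fin n) Q)) ∧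
      ((∃ s : Set R, s.Countable ∧ Algebra.adjoin (MvPowerSeries (Fin n) k) s = ⊤) →
        ∃ t : Set P, t.Countable ∧ Algebra.adjoin k t = ⊤) := by
  let V := R × (Fin n →₀ ℕ)
  let Γ := MvPolynomial V k
  let F : R → MvPowerSeries (Fin n) Γ := fun r d => MvPolynomial.X (r, d)
  let C : MvPowerSeries (Fin n) k →+* MvPowerSeries (Fin n) Γ :=
    MvPowerSeries.map (algebraMap k Γ)
  let rels : Set Γ :=
    (Set.range fun p : (R × R) × (Fin n →₀ ℕ) =>
      MvPowerSeries.coeff p.2 (F (p.1.1 + p.1.2) - (F p.1.1 + F p.1.2))) ∪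
    (Set.range fun p : (R × R) × (Fin n →₀ ℕ) =>
      MvPowerSeries.coeff p.2 (F (p.1.1 * p.1.2) - (F p.1.1 * F p.1.2))) ∪
    (Set.range fun p : MvPowerSeries (Fin n) k × (Fin n →₀ ℕ) =>
      MvPowerSeries.coeff p.2 (F (algebraMap _ R p.1) - C p.1))
  let I : Ideal Γ := Ideal.span rels
  let π : Γ →ₐ[k] Γ ⧸ I := Ideal.Quotient.mkₐ k I
  let Φ : MvPowerSeries (Fin n) Γ →+* MvPowerSeries (Fin n) (Γ ⧸ I) :=
    MvPowerSeries.map (π : Γ →+* Γ ⧸ I)
  have hzero : ∀ x : Γ, x ∈ rels → π x = 0 := fun x hx =>
    Ideal.Quotient.eq_zero_iff_mem.mpr (Ideal.subset_span hx)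
  have heq : ∀ a b : MvPowerSeries (Fin n) Γ, (∀ d, MvPowerSeries.coeff d (a - b) ∈ rels) →
      Φ a = Φ b := fun a b h => by
    rw [← sub_eq_zero, ← map_sub]
    ext d
    rw [MvPowerSeries.coeff_map, map_zero]
    exact hzero _ (h d)
  have hadd : ∀ r s, Φ (F (r + s)) = Φ (F r) + Φ (F s) := fun r s => by
    rw [← map_add]; exact heq _ _ fun d => Or.inl (Or.inl ⟨((r, s), d), rfl⟩)
  have hmul : ∀ r s, Φ (F (r * s)) = Φ (F r) * Φ (F s) := fun r s => by
    rw [← map_mul]; exact heq _ _ fun d => Or.inl (Or.inr ⟨((r, s), d), rfl⟩)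
  have halg : ∀ c, Φ (F (algebraMap _ R c)) =
      algebraMap (MvPowerSeries (Fin n) k) (MvPowerSeries (Fin n) (Γ ⧸ I)) c := fun c => by
    rw [heq _ (C c) fun d => Or.inr ⟨(c, d), rfl⟩, MvPowerSeries.algebraMap_apply'']
    ext d
    simp only [Φ, C, MvPowerSeries.coeff_map]
    exact π.commutes _
  let u : R →ₐ[MvPowerSeries (Fin n) k] MvPowerSeries (Fin n) (Γ ⧸ I) :=
    { toFun := fun r => Φ (F r)
      map_one' := by simpa using halg 1
      map_mul' := hmul
      map_zero' := by simpa using halg 0
      map_add' := hadd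
      commutes' := halg }
  refine ⟨Γ ⧸ I, inferInstance, inferInstance, u, ?_, ?_⟩
  · intro Q _ _ f
    let g₀ : Γ →ₐ[k] Q := MvPolynomial.aeval fun p : V => MvPowerSeries.coeff p.2 (f p.1)
    have hF : ∀ r, MvPowerSeries.map (g₀ : Γ →+* Q) (F r) = f r := fun r => by
      ext d
      rw [MvPowerSeries.coeff_map]
      exact MvPolynomial.aeval_X _ (r, d)
    have hker : ∀ x ∈ I, g₀ x = 0 := by
      intro x hx
      refine (Ideal.span_le (I := RingHom.ker (g₀ : Γ →+* Q))).mpr ?_ hx
      rintro _ ((⟨⟨⟨r, s⟩, d⟩, rfl⟩ | ⟨⟨⟨r, s⟩, d⟩, rfl⟩) | ⟨⟨c, d⟩, rfl⟩) <;>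
        rw [SetLike.mem_coe, RingHom.mem_ker, ← MvPowerSeries.coeff_map, map_sub]
      · rw [map_add, hF, hF, hF, map_add, sub_self, map_zero]
      · rw [map_mul, hF, hF, hF, map_mul, sub_self, map_zero]
      · have : MvPowerSeries.map (g₀ : Γ →+* Q) (C c) = algebraMap _ _ c := by
          rw [MvPowerSeries.algebraMap_apply'']
          ext e
          simp only [C, MvPowerSeries.coeff_map]
          exact g₀.commutes _
        rw [hF, this, f.commutes, sub_self, map_zero]
    let g : Γ ⧸ I →ₐ[k] Q := Ideal.Quotient.liftₐ I g₀ hker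
    refine ⟨g, ?_, fun g' hg' => ?_⟩
    · refine RingHom.ext fun r => ?_
      show MvPowerSeries.map (g : Γ ⧸ I →+* Q) (Φ (F r)) = f r
      rw [← hF r]
      ext d
      rfl
    · refine Ideal.Quotient.algHom_ext _ (MvPolynomial.algHom_ext fun p => ?_)
      have h := congrArg (MvPowerSeries.coeff p.2) (RingHom.congr_fun hg' p.1)
      refine Eq.trans ?_ (MvPolynomial.aeval_X _ p).symm
      exact h
  · rintro ⟨s, hs, hgen⟩
    refine ⟨(fun p : R × (Fin n →₀ ℕ) => MvPowerSeries.coeff p.2 (u p.1)) '' (s ×ˢ Set.univ),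
      (hs.prod Set.countable_univ).image _, ?_⟩
    set P' := Algebra.adjoin k
      ((fun p : R × (Fin n →₀ ℕ) => MvPowerSeries.coeff p.2 (u p.1)) '' (s ×ˢ Set.univ))
    have hall : ∀ r : R, ∀ d, MvPowerSeries.coeff d (u r) ∈ P' := by
      intro r
      have hr : r ∈ Algebra.adjoin (MvPowerSeries (Fin n) k) s := hgen ▸ trivial
      induction hr using Algebra.adjoin_induction with
      | mem x hx => exact fun d => Algebra.subset_adjoin ⟨(x, d), ⟨hx, trivial⟩, rfl⟩
      | algebraMap c =>
        intro d
        rw [AlgHom.commutes, MvPowerSeries.algebraMap_apply'', MvPowerSeries.coeff_map]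
        exact Subalgebra.algebraMap_mem _ _
      | add x y _ _ hx hy =>
        intro d
        rw [map_add, map_add]
        exact add_mem (hx d) (hy d)
      | mul x y _ _ hx hy =>
        intro d
        rw [map_mul, MvPowerSeries.coeff_mul]
        exact sum_mem fun e _ => mul_mem (hx _) (hy _)
    refine top_le_iff.mp fun x hxtop => ?_
    clear hxtop
    obtain ⟨x, rfl⟩ := Ideal.Quotient.mkₐ_surjective k I x
    induction x using MvPolynomial.induction_on with
    | C c => exact (π.commutes c).symm ▸ Subalgebra.algebraMap_mem _ _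
    | add p q hp hq => rw [map_add]; exact add_mem hp hq
    | mul_X p v hp => rw [map_mul]; exact mul_mem hp (hall v.1 v.2)

end Groth.Agent.S15126
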