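import Groth.Statements.S15131
import Groth.Agent.Misc9.SF.Limits
-- import your own Groth.Agent.* helpers here

set_option autoImplicit false
universe u v
open CategoryTheory
open ArtFun

namespace Groth.Agent.S15131

/-- Let k be a field and F a functor on local Artinian k-algebras with residue field k with F(k) a
single point, satisfying (H1) (the comparison map of A₁ ×_A A₂ is surjective when A₂ → A is a small
extension) and (H2) (it is bijective when A = k and A₂ = k[ε]). If the tangent space F(k[ε]) is a
single point then F is the one-point functor: every F(A) has exactly one element. (The converse is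
clear.) -/
theorem result
    {k : Type u} [Field k] (F : ArtFun.Art k k ⥤ Type v)
    (h0 : ArtFun.H0 F) (h1 : ArtFun.Hbar F) (h2 : ArtFun.Heps F)
    (ht : Subsingleton (ArtFun.TangentSpace F)) (A : ArtFun.Art k k) :
    Nonempty (F.obj A) ∧ Subsingleton (F.obj A) := by
  refine ⟨h0.1.map (F.map (⟨Algebra.ofId k A, AlgHom.ext fun c => A.res.commutes c⟩ : ArtFun.Art.base k k ⟶ A)), ?_⟩
  refine Misc9.SF.surjective_induction (fun A B _ => Subsingleton (F.obj A) → Subsingleton (F.obj B))
    (fun A B e he hA => ⟨fun x y => ?_⟩) (fun A B μ hμ hA => ⟨fun x y => ?_⟩) (fun A M B p q hp hq hA => hp (hq hA))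
    (ArtFun.Art.toBase A) A.res_surjective h0.2
  · obtain ⟨g, hg, -⟩ := Misc9.SF.exists_inverse e ((Misc9.SF.isIso_iff e).1 he)
    rw [← Misc9.SF.map_id' F x, ← Misc9.SF.map_id' F y, ← hg, ← Misc9.SF.map_map, ← Misc9.SF.map_map, hA.elim (F.map e x) (F.map e y)]
  · obtain ⟨T⟩ := Misc9.SF.nonempty_tor μ hμ
    obtain ⟨θ, hθ⟩ := T.transitive h1 hμ (y := x) (y' := y) (hA.elim _ _)
    obtain ⟨x₀⟩ := h0.1
    rw [ht.elim θ (F.map ArtFun.Art.baseToDual x₀)] at hθ
    exact T.rel_unique h2 (T.rel_zero h0.2 x₀ x) hθ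

end Groth.Agent.S15131
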