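import Groth.Statements.S15134
import Groth.Agent.Misc9.SF.Torsor
import Groth.Agent.Misc9.SF.Limits
-- import your own Groth.Agent.* helpers here

set_option autoImplicit false
universe u v
open CategoryTheory
open ArtFun

namespace Groth.Agent.S15134

/-- Let k be a field and F a functor on local Artinian k-algebras with residue field k with F(k) a
point. If F satisfies (H2') — the comparison map F(A₁ ×_k A₂) → F(A₁) × F(A₂) is bijective for every
pair of objects — then F satisfies condition (L): for every small extension f : B → A with kernel J,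
writing P = B ×_k B, Q = A ×_k A, r : P → Q for the map induced by f, and C = P/K with K the ideal
of P consisting of the pairs (b, b) with b ∈ J, every element of F(Q) whose two images in F(A) agree
lifts along F(C) → F(Q). Here P and Q are pinned as fibre products over k, K is described through
the two projections, and the two inequalities on K (it lies in the maximal ideal of P and is killed
by r), which always hold, are taken as hypotheses so that the quotient object and the factored map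
can be named. -/
theorem result
    {k : Type u} [Field k] (F : ArtFun.Art k k ⥤ Type v) (h0 : ArtFun.H0 F)
    (h2' : ∀ ⦃P A' A'' : ArtFun.Art k k⦄ (p' : P ⟶ A') (p'' : P ⟶ A'')
      (h : ArtFun.Art.IsFibreProd p' p'' (ArtFun.Art.toBase A') (ArtFun.Art.toBase A'')),
      Function.Bijective (ArtFun.cmp F h))
    ⦃B A : ArtFun.Art k k⦄ (f : B ⟶ A) (hf : ArtFun.Art.IsSmallExt f)
    ⦃P : ArtFun.Art k k⦄ (p₁ p₂ : P ⟶ B)
    (hP : ArtFun.Art.IsFibreProd p₁ p₂ (ArtFun.Art.toBase B) (ArtFun.Art.toBase B))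
    ⦃Q : ArtFun.Art k k⦄ (q₁ q₂ : Q ⟶ A)
    (hQ : ArtFun.Art.IsFibreProd q₁ q₂ (ArtFun.Art.toBase A) (ArtFun.Art.toBase A))
    (r : P ⟶ Q) (hr₁ : r ≫ q₁ = p₁ ≫ f) (hr₂ : r ≫ q₂ = p₂ ≫ f)
    (hK : Ideal.span {z : P | p₁ z = p₂ z ∧ f (p₁ z) = 0} ≤ IsLocalRing.maximalIdeal P)
    (hKr : Ideal.span {z : P | p₁ z = p₂ z ∧ f (p₁ z) = 0} ≤ RingHom.ker r.toAlgHom)
    (y : F.obj Q) (hy : F.map q₁ y = F.map q₂ y) :
    ∃ z : F.obj (ArtFun.Art.quot P (Ideal.span {z : P | p₁ z = p₂ z ∧ f (p₁ z) = 0}) hK),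
      F.map (ArtFun.Art.quotFactor hK r hKr) z = y := by
  obtain ⟨a, ha⟩ : ∃ a, F.map q₁ y = a := ⟨_, rfl⟩
  obtain ⟨ι, hι, hι'⟩ := Misc9.SF.fp_exists_lift hQ (𝟙 A) (𝟙 A) rfl
  have hy' : F.map ι a = y := by
    refine Misc9.SF.cmp_inj (h2' q₁ q₂ hQ).1 ?_ ?_
    · rw [Misc9.SF.map_map, hι, Misc9.SF.map_id', ha]
    · rw [Misc9.SF.map_map, hι', Misc9.SF.map_id', ← hy, ha]
  choose s hs using hf.1
  choose d hd₁ hd₂ using fun b : B => hP.surj b b rfl
  let K : Ideal P := Ideal.span {z : P | p₁ z = p₂ z ∧ f (p₁ z) = 0}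
  have hwd : ∀ b, f b = 0 → d b ∈ K := fun b hb => Ideal.subset_span ⟨(hd₁ b).trans (hd₂ b).symm, by rw [hd₁, hb]⟩
  have hd' : ∀ b c, d (b + c) = d b + d c := fun b c =>
    hP.inj _ _ (by rw [hd₁, map_add, hd₁, hd₁]) (by rw [hd₂, map_add, hd₂, hd₂])
  have hdm : ∀ b c, d (b * c) = d b * d c := fun b c =>
    hP.inj _ _ (by rw [hd₁, map_mul, hd₁, hd₁]) (by rw [hd₂, map_mul, hd₂, hd₂])
  have hdc : ∀ c, d (algebraMap k B c) = algebraMap k P c := fun c =>
    hP.inj _ _ (by rw [hd₁, AlgHom.commutes]) (by rw [hd₂, AlgHom.commutes])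
  let δ₀ : B →ₐ[k] P :=
    { toFun := d
      map_one' := by simpa using hdc 1
      map_mul' := hdm
      map_zero' := by simpa using hdc 0
      map_add' := hd'
      commutes' := hdc }
  have hker : ∀ b ∈ RingHom.ker f.toAlgHom, (Ideal.Quotient.mkₐ k K).comp δ₀ b = 0 := fun b hb =>
    Ideal.Quotient.eq_zero_iff_mem.2 (hwd b hb)
  let e : (B ⧸ RingHom.ker f.toAlgHom) ≃ₐ[k] A := Ideal.quotientKerAlgEquivOfSurjective hf.1
  let σ₀ : A →ₐ[k] P ⧸ K := (Ideal.Quotient.liftₐ _ _ hker).comp e.symm.toAlgHom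
  have hσ₀ : ∀ b, σ₀ (f b) = Ideal.Quotient.mk K (d b) := fun b => by
    change Ideal.Quotient.liftₐ _ _ hker (e.symm (f b)) = _
    rw [show e.symm (f b) = Ideal.Quotient.mk _ b from e.symm_apply_apply (Ideal.Quotient.mk _ b)]
    rfl
  let σ : A ⟶ ArtFun.Art.quot P K hK := ArtFun.Art.homMk σ₀ (AlgHom.ext fun x => by
    obtain ⟨b, rfl⟩ := hf.1 x
    change (ArtFun.Art.quot P K hK).res (σ₀ (f b)) = A.res (f b)
    rw [hσ₀]
    show P.res (d b) = _
    rw [ArtFun.Art.res_app, ← ArtFun.Art.res_app p₁ (d b), hd₁])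
  refine ⟨F.map σ a, ?_⟩
  rw [Misc9.SF.map_map, ← hy']
  refine congrArg (fun g => F.map g a) (Misc9.SF.fp_hom_ext hQ (Misc9.SF.hom_ext' fun x => ?_) (Misc9.SF.hom_ext' fun x => ?_))
  · obtain ⟨b, rfl⟩ := hf.1 x
    change q₁ (ArtFun.Art.quotFactor hK r hKr (σ₀ (f b))) = (ι ≫ q₁) (f b)
    rw [hι, hσ₀]
    change q₁ (r (d b)) = f b
    rw [← ArtFun.Art.comp_apply, hr₁, ArtFun.Art.comp_apply, hd₁]
  · obtain ⟨b, rfl⟩ := hf.1 x
    change q₂ (ArtFun.Art.quotFactor hK r hKr (σ₀ (f b))) = (ι ≫ q₂) (f b)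
    rw [hι', hσ₀]
    change q₂ (r (d b)) = f b
    rw [← ArtFun.Art.comp_apply, hr₂, ArtFun.Art.comp_apply, hd₂]

end Groth.Agent.S15134
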