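import Groth.Statements.S15135
-- import your own Groth.Agent.* helpers here

set_option autoImplicit false
universe u v
open Deform

namespace Groth.Agent.S15135

/-- For R-modules M ⊆ N, the first-order embedded deformations of M in N are in canonical bijection with
Hom_R(M, N/M). Writing N ⊗ k[ε] = N ⊕ εN as N × N (the pair (x, y) standing for x + εy), such a
deformation is an R-submodule L of N × N which is stable under multiplication by ε (if (x, y) ∈ L
then (0, x) ∈ L), reduces to M (x ∈ M exactly when (x, y) ∈ L for some y) and is flat over the dual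
numbers, flatness being stated elementwise as: (0, y) ∈ L only if y ∈ M (for a submodule reducing to
M this is the equality of the kernel and the image of ε on L, i.e. flatness over k[ε] when R is an
algebra over a field k). To φ : M → N/M corresponds the submodule of all (x, y) with x ∈ M and y ≡
φ(x) mod M. The first clause says this rule defines exactly one submodule for each φ; the second
says that a submodule has the three properties precisely when its membership is given by this rule
for some φ. (The published statement is a linear isomorphism t_G ≅ Hom_R(M, N/M) for the functor G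
of flat deformations of M inside N ⊗ A over local Artinian algebras A; this row states only the
underlying bijection, and the obstruction half is not stated here.) -/
theorem result
    (R : Type u) [CommRing R] (N : Type v) [AddCommGroup N] [Module R N] (M : Submodule R N) :
    (∀ φ : M →ₗ[R] (N ⧸ M), ∃! L : Submodule R (N × N),
        ∀ x y : N, (x, y) ∈ L ↔ ∃ h : x ∈ M, Submodule.Quotient.mk y = φ ⟨x, h⟩) ∧
    (∀ L : Submodule R (N × N),
      ((∀ x y : N, (x, y) ∈ L → ((0 : N), x) ∈ L) ∧
        (∀ x : N, x ∈ M ↔ ∃ y : N, (x, y) ∈ L) ∧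
        (∀ y : N, ((0 : N), y) ∈ L → y ∈ M)) ↔
      ∃ φ : M →ₗ[R] (N ⧸ M), ∀ x y : N, (x, y) ∈ L ↔ ∃ h : x ∈ M, Submodule.Quotient.mk y = φ ⟨x, h⟩) := by
  refine ⟨fun φ => ?_, fun L => ⟨?_, ?_⟩⟩
  · let L : Submodule R (N × N) :=
      { carrier := {p | ∃ h : p.1 ∈ M, Submodule.Quotient.mk p.2 = φ ⟨p.1, h⟩}
        add_mem' := by
          rintro ⟨x, y⟩ ⟨x', y'⟩ ⟨h, e⟩ ⟨h', e'⟩
          refine ⟨add_mem h h', ?_⟩
          show Submodule.Quotient.mk (y + y') = φ (⟨x, h⟩ + ⟨x', h'⟩)
          rw [map_add, Submodule.Quotient.mk_add]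
          exact congrArg₂ (· + ·) e e'
        zero_mem' := ⟨zero_mem M, by
          show Submodule.Quotient.mk 0 = φ 0
          rw [map_zero]; rfl⟩
        smul_mem' := by
          rintro c ⟨x, y⟩ ⟨h, e⟩
          refine ⟨M.smul_mem c h, ?_⟩
          show Submodule.Quotient.mk (c • y) = φ (c • ⟨x, h⟩)
          rw [map_smul, Submodule.Quotient.mk_smul]
          exact congrArg (c • ·) e }
    refine ⟨L, fun x y => Iff.rfl, fun L' hL' => ?_⟩
    ext ⟨x, y⟩
    exact hL' x y
  · rintro ⟨h1, h2, h3⟩
    have hwd : ∀ x y y', (x, y) ∈ L → (x, y') ∈ L →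
        (Submodule.Quotient.mk y : N ⧸ M) = Submodule.Quotient.mk y' := by
      intro x y y' hy hy'
      rw [Submodule.Quotient.eq]
      apply h3
      simpa using L.sub_mem hy hy'
    choose g hg using fun x : M => (h2 x).1 x.2
    refine ⟨{ toFun := fun x => Submodule.Quotient.mk (g x), map_add' := ?_, map_smul' := ?_ }, ?_⟩
    · intro x x'
      rw [← Submodule.Quotient.mk_add]
      exact hwd _ _ _ (hg _) (by simpa using L.add_mem (hg x) (hg x'))
    · intro c x
      rw [RingHom.id_apply, ← Submodule.Quotient.mk_smul]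
      exact hwd _ _ _ (hg _) (by simpa using L.smul_mem c (hg x))
    · intro x y
      refine ⟨fun h => ⟨(h2 x).2 ⟨y, h⟩, hwd x _ _ h (hg ⟨x, _⟩)⟩, fun ⟨hx, e⟩ => ?_⟩
      have e' : y - g ⟨x, hx⟩ ∈ M := (Submodule.Quotient.eq M).1 e
      obtain ⟨w, hw⟩ := (h2 _).1 e'
      have := L.add_mem (h1 _ _ hw) (hg ⟨x, hx⟩)
      simpa using this
  · rintro ⟨φ, hφ⟩
    refine ⟨fun x y h => ?_, fun x => ⟨fun hx => ?_, ?_⟩, fun y h => ?_⟩
    · obtain ⟨hx, -⟩ := (hφ x y).1 h
      rw [hφ]
      refine ⟨zero_mem M, ?_⟩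
      rw [(Submodule.Quotient.mk_eq_zero M).2 hx]
      exact (map_zero φ).symm
    · obtain ⟨y, hy⟩ := Submodule.Quotient.mk_surjective M (φ ⟨x, hx⟩)
      exact ⟨y, (hφ x y).2 ⟨hx, hy⟩⟩
    · rintro ⟨y, hy⟩
      exact ((hφ x y).1 hy).1
    · obtain ⟨h0, e⟩ := (hφ 0 y).1 h
      rw [show (⟨0, h0⟩ : M) = 0 from rfl, map_zero] at e
      exact (Submodule.Quotient.mk_eq_zero M).1 e

end Groth.Agent.S15135
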