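import Groth.Statements.S15163
import Mathlib

set_option autoImplicit false
open Matrix
open BddFin

namespace Groth.Agent.S15163

theorem trace_le_two (M : Matrix (Fin 2) (Fin 2) ℤ) (hdet : M.det = 1) (n : ℕ) (hn : 0 < n) (h : M ^ n = 1) :
    |M.trace| ≤ 2 := by
  by_contra hc
  push Not at hc
  have hrec : ∀ k, (M ^ (k + 2)).trace = M.trace * (M ^ (k + 1)).trace - (M ^ k).trace := by
    intro k
    have hCH : M * M = M.trace • M - M.det • (1 : Matrix (Fin 2) (Fin 2) ℤ) := by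
      ext i j
      rw [Matrix.sub_apply, Matrix.smul_apply, Matrix.smul_apply]
      fin_cases i <;> fin_cases j <;> simp [Matrix.mul_apply, Fin.sum_univ_two, Matrix.trace_fin_two, Matrix.det_fin_two] <;> ring
    rw [pow_add, sq, hCH, hdet, one_smul, mul_sub, mul_smul_comm, mul_one, ← pow_succ, Matrix.trace_sub, Matrix.trace_smul, smul_eq_mul]
  have hgrow : ∀ k, |(M ^ k).trace| < |(M ^ (k + 1)).trace| ∧ 2 ≤ |(M ^ k).trace| := by
    intro k
    induction k with
    | zero => simp [Matrix.trace_fin_two] at hc ⊢; omega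
    | succ k ih =>
      refine ⟨?_, by omega⟩
      rw [hrec k]
      have h1 := abs_sub_abs_le_abs_sub (M.trace * (M ^ (k + 1)).trace) (M ^ k).trace
      have h2 : 3 * |(M ^ (k + 1)).trace| ≤ |M.trace * (M ^ (k + 1)).trace| := by
        rw [abs_mul]; exact mul_le_mul_of_nonneg_right (by omega) (abs_nonneg _)
      omega
  obtain ⟨m, rfl⟩ := Nat.exists_eq_succ_of_ne_zero hn.ne'
  have := hgrow m
  rw [h] at this
  simp [Matrix.trace_fin_two] at this
  omega

theorem eq_one_of_trace_two (M : Matrix (Fin 2) (Fin 2) ℤ) (hdet : M.det = 1) (ht : M.trace = 2) (n : ℕ) (hn : 0 < n)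
    (h : M ^ n = 1) : M = 1 := by
  have hsq : (M - 1) * (M - 1) = 0 := by
    rw [Matrix.det_fin_two] at hdet
    rw [Matrix.trace_fin_two] at ht
    ext i j
    fin_cases i <;> fin_cases j <;> simp [Matrix.mul_apply, Fin.sum_univ_two] <;> grind
  have hp : ∀ k : ℕ, M ^ k = 1 + k • (M - 1) := by
    intro k
    induction k with
    | zero => simp
    | succ k ih =>
      have e : M ^ (k + 1) = (1 + k • (M - 1)) * (1 + (M - 1)) := by rw [pow_succ, ih, add_sub_cancel]
      rw [e, mul_add, mul_one, add_mul, one_mul, smul_mul_assoc, hsq, smul_zero, add_zero, add_assoc, ← succ_nsmul]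
  rw [hp, add_eq_left] at h
  ext i j
  have e := congrFun (congrFun h i) j
  rw [Matrix.smul_apply, Matrix.sub_apply, Matrix.zero_apply, nsmul_eq_mul, mul_eq_zero] at e
  exact sub_eq_zero.mp (e.resolve_left (by exact_mod_cast hn.ne'))

/-- Let Γ be a finite subgroup of GL_2(ℤ) and d > 6 an integer. Suppose some vector w of (ℤ/dℤ)², with
m·w ≠ 0 for all 0 < m < d, is fixed by the reduction modulo d of every element of Γ. Then some
non-zero vector of ℤ² is fixed by all of Γ. -/
theorem result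
    (Γ : Subgroup (Matrix.GeneralLinearGroup (Fin 2) ℤ)) [Finite Γ] (d : ℕ) (hd : 6 < d)
    (w : Fin 2 → ZMod d) (hw : ∀ m : ℕ, 0 < m → m < d → m • w ≠ 0)
    (hfix : ∀ γ ∈ Γ, ((γ : Matrix (Fin 2) (Fin 2) ℤ).map (Int.castRingHom (ZMod d))) *ᵥ w = w) :
    ∃ v : Fin 2 → ℤ, v ≠ 0 ∧ ∀ γ ∈ Γ, (γ : Matrix (Fin 2) (Fin 2) ℤ) *ᵥ v = v := by
  classical
  haveI : NeZero d := ⟨by omega⟩
  have hu : ∀ γ ∈ Γ, (γ : Matrix (Fin 2) (Fin 2) ℤ) = 1 ∨ ((γ : Matrix (Fin 2) (Fin 2) ℤ).det = -1 ∧ (γ : Matrix (Fin 2) (Fin 2) ℤ).trace = 0) := by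
    intro γ hγ
    set M : Matrix (Fin 2) (Fin 2) ℤ := ↑γ with hM
    obtain ⟨n, hn, hpow⟩ : ∃ n, 0 < n ∧ M ^ n = 1 := by
      refine ⟨Nat.card Γ, Nat.card_pos, ?_⟩
      have e : (⟨γ, hγ⟩ : Γ) ^ Nat.card Γ = 1 := pow_card_eq_one'
      have e' := congrArg (fun g : Γ => ((g : Matrix.GeneralLinearGroup (Fin 2) ℤ) : Matrix (Fin 2) (Fin 2) ℤ)) e
      simp only [SubmonoidClass.coe_pow, Units.val_pow_eq_pow_val, OneMemClass.coe_one, Units.val_one] at e'
      exact e'
    have hdvd : (d : ℤ) ∣ (M - 1).det := by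
      set R : Matrix (Fin 2) (Fin 2) (ZMod d) := (Int.castRingHom (ZMod d)).mapMatrix (M - 1) with hR
      have hw0 : R *ᵥ w = 0 := by
        rw [hR, map_sub, map_one, Matrix.sub_mulVec, Matrix.one_mulVec, sub_eq_zero]
        exact hfix γ hγ
      have e : R.det • w = 0 := by
        have := congrArg (fun v => R.adjugate *ᵥ v) hw0
        rwa [Matrix.mulVec_mulVec, Matrix.adjugate_mul, Matrix.smul_mulVec, Matrix.one_mulVec, Matrix.mulVec_zero] at this
      have hz : R.det = 0 := by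
        by_contra hne
        have hpos : 0 < (R.det).val := Nat.pos_of_ne_zero (fun h => hne ((ZMod.val_eq_zero _).mp h))
        apply hw _ hpos (ZMod.val_lt _)
        rw [← Nat.cast_smul_eq_nsmul (ZMod d), ZMod.natCast_val, ZMod.cast_id]
        exact e
      rw [hR, ← RingHom.map_det] at hz
      exact (ZMod.intCast_zmod_eq_zero_iff_dvd _ _).mp hz
    have hdu : M.det = 1 ∨ M.det = -1 := Int.isUnit_iff.mp ((Matrix.isUnit_iff_isUnit_det _).mp γ.isUnit)
    have hformula : (M - 1).det = M.det - M.trace + 1 := by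
      simp [Matrix.det_fin_two, Matrix.trace_fin_two]; ring
    rcases hdu with h1 | h1
    · left
      have ht := abs_le.mp (trace_le_two M h1 n hn hpow)
      have h0 : (M - 1).det = 0 := Int.eq_zero_of_abs_lt_dvd hdvd (by rw [hformula, h1, abs_lt]; omega)
      exact eq_one_of_trace_two M h1 (by omega) n hn hpow
    · right
      refine ⟨h1, ?_⟩
      have hs : (M * M).det = 1 := by rw [Matrix.det_mul, h1]; rfl
      have hp2 : (M * M) ^ n = 1 := by rw [← sq, ← pow_mul, mul_comm, pow_mul, hpow, one_pow]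
      have ht := (abs_le.mp (trace_le_two (M * M) hs n hn hp2)).2
      have e : (M * M).trace = M.trace ^ 2 + 2 := by
        rw [Matrix.det_fin_two] at h1
        simp [Matrix.trace_fin_two, Matrix.mul_apply, Fin.sum_univ_two]
        linear_combination -2 * h1
      rw [e] at ht
      have h3 : M.trace ^ 2 = 0 := le_antisymm (by omega) (sq_nonneg _)
      exact pow_eq_zero_iff (by norm_num) |>.mp h3
  by_cases hall : ∀ γ ∈ Γ, (γ : Matrix (Fin 2) (Fin 2) ℤ) = 1
  · refine ⟨![1, 0], fun h => by simpa using congrFun h 0, fun γ hγ => by rw [hall γ hγ, Matrix.one_mulVec]⟩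
  push Not at hall
  obtain ⟨γ₀, hγ₀, hne⟩ := hall
  obtain ⟨hdet, htr⟩ := (hu γ₀ hγ₀).resolve_left hne
  set M : Matrix (Fin 2) (Fin 2) ℤ := ↑γ₀ with hM
  have hsq : M * M = 1 := by
    rw [Matrix.det_fin_two] at hdet
    rw [Matrix.trace_fin_two] at htr
    ext i j
    fin_cases i <;> fin_cases j <;> simp [Matrix.mul_apply, Fin.sum_univ_two] <;> grind
  have hne1 : M + 1 ≠ 0 := by
    intro h
    rw [eq_neg_of_add_eq_zero_left h] at hdet
    simp [Matrix.det_fin_two] at hdet
  obtain ⟨i, j, hij⟩ : ∃ i j, (M + 1) i j ≠ 0 := by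
    by_contra h; push Not at h; exact hne1 (Matrix.ext h)
  refine ⟨(M + 1) *ᵥ Pi.single j 1, fun h => hij (by simpa [Matrix.mulVec_single] using congrFun h i), fun γ hγ => ?_⟩
  rcases hu γ hγ with h1 | ⟨h1, -⟩
  · rw [h1, Matrix.one_mulVec]
  · have e1 : (γ : Matrix (Fin 2) (Fin 2) ℤ) = M := by
      have e := (hu (γ₀ * γ) (Γ.mul_mem hγ₀ hγ)).resolve_right (fun h2 => by
        rw [Units.val_mul, Matrix.det_mul, h1, ← hM, hdet] at h2
        exact absurd h2.1 (by norm_num))
      rw [Units.val_mul, ← hM] at e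
      calc (γ : Matrix (Fin 2) (Fin 2) ℤ) = M * M * γ := by rw [hsq, one_mul]
        _ = M := by rw [mul_assoc, e, mul_one]
    rw [e1, Matrix.mulVec_mulVec, mul_add, hsq, mul_one, add_comm]

end Groth.Agent.S15163
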