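import Groth.Statements.S15164
import Mathlib

set_option autoImplicit false
set_option linter.style.haveILetI false
universe u v
open BddFin

namespace Groth.Agent.S15164

/-- Let K be a field of characteristic p > 2, V a finite-dimensional K-vector space and q a quadratic
form on V that does not represent zero (q x = 0 only for x = 0). Then the group of K-linear
automorphisms of V preserving q has no element of order p: if g preserves q and g ^ p = 1 then g =
1. (Non-degeneracy of q, also assumed in the published statement, follows from anisotropy since 2 is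
invertible, so it is not repeated here.) -/
theorem result
    (K : Type u) [Field K] (p : ℕ) [Fact p.Prime] [CharP K p] (hp : p ≠ 2)
    (V : Type v) [AddCommGroup V] [Module K V] [FiniteDimensional K V]
    (q : QuadraticForm K V) (hq : q.Anisotropic)
    (g : V ≃ₗ[K] V) (hg : ∀ x : V, q (g x) = q x) (hgp : g ^ p = 1) : g = 1 := by
  set N : V →ₗ[K] V := g.toLinearMap - LinearMap.id with hN
  have hg1 : ∀ x, g x = x + N x := fun x => by simp [hN]
  by_contra hne
  have hN0 : N ≠ 0 := by
    intro h
    apply hne
    ext x
    rw [hg1 x, h, LinearMap.zero_apply, add_zero]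
    rfl
  haveI : CharP (Module.End K V) p ∨ Subsingleton V := by
    rcases subsingleton_or_nontrivial V with h | h
    · exact Or.inr h
    · exact Or.inl (charP_of_injective_algebraMap (FaithfulSMul.algebraMap_injective K (Module.End K V)) p)
  have hNp : (N : Module.End K V) ^ p = 0 := by
    rcases this with h | h
    · haveI := h
      have h1 : (g.toLinearMap : Module.End K V) ^ p = 1 := by
        have : ∀ k : ℕ, ((g ^ k : V ≃ₗ[K] V).toLinearMap : Module.End K V) = (g.toLinearMap : Module.End K V) ^ k := by
          intro k
          induction k with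
          | zero => rfl
          | succ k ih => rw [pow_succ, pow_succ, ← ih]; rfl
        rw [← this, hgp]; rfl
      show ((g.toLinearMap : Module.End K V) - 1) ^ p = 0
      rw [sub_pow_char_of_commute p (Commute.one_right _), h1, one_pow, sub_self]
    · haveI := h
      exact LinearMap.ext fun x => Subsingleton.elim _ _
  obtain ⟨x, hx1, hx2⟩ : ∃ x, N x ≠ 0 ∧ N (N x) = 0 := by
    obtain ⟨x, hx⟩ : ∃ x, N x ≠ 0 := by
      by_contra h; push Not at h; exact hN0 (LinearMap.ext h)
    classical
    have hex : ∃ k, ((N : Module.End K V) ^ k) (N x) = 0 := ⟨p, by rw [hNp]; rfl⟩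
    have hk0 : Nat.find hex ≠ 0 := by
      intro h0
      exact hx (by have := Nat.find_spec hex; rwa [h0, pow_zero] at this)
    obtain ⟨j, hj⟩ := Nat.exists_eq_succ_of_ne_zero hk0
    refine ⟨((N : Module.End K V) ^ j) x, ?_, ?_⟩
    · intro h
      apply Nat.find_min hex (show j < Nat.find hex by omega)
      rw [← h, ← Module.End.mul_apply, ← Module.End.mul_apply, ← pow_succ, ← pow_succ']
    · have := Nat.find_spec hex
      rw [hj] at this
      rw [← this, ← Module.End.mul_apply, ← Module.End.mul_apply, ← Module.End.mul_apply]
      congr 1
      simp only [pow_succ, mul_assoc, (Commute.refl N).pow_left _ |>.eq]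
  set y := N x with hy
  have hgy : g y = y := by rw [hg1 y, hx2, add_zero]
  have e1 : q (x + y) = q x := by rw [← hg1]; exact hg x
  have e2 : q (x + (2 : K) • y) = q x := by
    have : g (g x) = x + (2 : K) • y := by
      rw [hg1 x, map_add, hgy, hg1 x, two_smul, add_assoc]
    rw [← this, hg, hg]
  rw [QuadraticMap.map_add (f := ⇑q)] at e1 e2
  rw [QuadraticMap.map_smul, QuadraticMap.polar_smul_right, smul_eq_mul, smul_eq_mul] at e2
  have h2 : (2 : K) ≠ 0 := Ring.two_ne_zero (by rwa [ringChar.eq K p])
  have h4 : (2 : K) * q y = 0 := by linear_combination e2 - 2 * e1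
  exact hx1 (hq y ((mul_eq_zero.mp h4).resolve_left h2))

end Groth.Agent.S15164
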