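import Groth.Statements.S15169
import Groth.Agent.Alg.DegreeP

set_option autoImplicit false
universe u v
open BddFin

namespace Groth.Agent.S15169
open Groth.Agent.Alg

/-- (1) ⇒ (2): let K be a field with char K = p > 0 and A a central division K-algebra with dim_K A = p
^ 2. If some element of A is not separable over K, then there are v, u in A with v ^ p and u ^ p in
K and v * u - u * v = 1 which generate A as a K-algebra. -/
theorem result
    (K : Type u) [Field K] (p : ℕ) [Fact p.Prime] [CharP K p]
    (A : Type v) [DivisionRing A] [Algebra K A] [Algebra.IsCentral K A] [FiniteDimensional K A]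
    (hA : Module.finrank K A = p ^ 2) (h : ∃ v : A, ¬ IsSeparable K v) :
    ∃ v u : A, v ^ p ∈ (algebraMap K A).range ∧ u ^ p ∈ (algebraMap K A).range ∧ v * u - u * v = 1 ∧
      Algebra.adjoin K {v, u} = ⊤ := by
  obtain ⟨v, hv⟩ := h
  obtain ⟨h1, h2⟩ := DegreeP.pow_mem_of_not_isSeparable K p hA hv
  obtain ⟨u, hu⟩ := DegreeP.exists_ad_eq_one K p h1 h2
  exact ⟨v, u, h2, DegreeP.pow_mem_of_ad_eq_one K p hA h1 hu, hu, DegreeP.adjoin_eq_top K p hA h1 hu⟩

end Groth.Agent.S15169
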