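import Groth.Statements.S1517
import Mathlib

set_option autoImplicit false
universe u
open Brauer

namespace Groth.Agent.S1517

/-- Let A be a ring with no nontrivial two-sided ideals and M a nonzero right ideal, viewed as a right
A-module with endomorphism ring A'. Then every A'-linear endomorphism of M is right multiplication
by exactly one element of A; that is, the natural map from A to the bicommutant of M is a bijection. -/
theorem result (A : Type u) [Ring A] [IsSimpleRing A]
    (M : Submodule Aᵐᵒᵖ A) (hM : M ≠ ⊥)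
    (g : Module.End (Module.End Aᵐᵒᵖ M) M) :
    ∃! a : A, ∀ m : M, (g m : A) = (m : A) * a := by
  classical
  let S : Set A := {z | ∃ (a : A) (m : M), z = a * (m : A)}
  have hright : ∀ (m : A), m ∈ M → ∀ r : A, m * r ∈ M := fun m hm r => M.smul_mem (MulOpposite.op r) hm
  let J : TwoSidedIdeal A := TwoSidedIdeal.mk' (AddSubgroup.closure S)
    (zero_mem _) (fun ha hb => add_mem ha hb) (fun ha => neg_mem ha)
    (fun {x y} hy => by
      induction hy using AddSubgroup.closure_induction with
      | mem z hz => obtain ⟨a, m, rfl⟩ := hz; exact AddSubgroup.subset_closure ⟨x * a, m, (mul_assoc _ _ _).symm⟩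
      | zero => simp
      | add a b _ _ ha hb => rw [mul_add]; exact add_mem ha hb
      | neg a _ ha => rw [mul_neg]; exact neg_mem ha)
    (fun {x y} hx => by
      induction hx using AddSubgroup.closure_induction with
      | mem z hz =>
        obtain ⟨a, m, rfl⟩ := hz
        exact AddSubgroup.subset_closure ⟨a, ⟨_, hright _ m.2 y⟩, mul_assoc _ _ _⟩
      | zero => simp
      | add a b _ _ ha hb => rw [add_mul]; exact add_mem ha hb
      | neg a _ ha => rw [neg_mul]; exact neg_mem ha)
  have hJ : ∀ z, z ∈ J ↔ z ∈ AddSubgroup.closure S := fun z => TwoSidedIdeal.mem_mk' ..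
  have htop : (1 : A) ∈ AddSubgroup.closure S := by
    obtain ⟨m₀, hm₀, hne⟩ := Submodule.exists_mem_ne_zero_of_ne_bot hM
    have hmem : m₀ ∈ J := (hJ _).2 (AddSubgroup.subset_closure ⟨1, ⟨m₀, hm₀⟩, (one_mul _).symm⟩)
    rcases eq_bot_or_eq_top J with h | h
    · rw [h] at hmem; exact absurd ((TwoSidedIdeal.mem_bot _).1 hmem) hne
    · exact (hJ _).1 (h ▸ trivial)
  let L : M → Module.End Aᵐᵒᵖ M := fun x =>
    { toFun := fun m => ⟨(x : A) * m, hright _ x.2 m⟩
      map_add' := fun a b => Subtype.ext (mul_add _ _ _)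
      map_smul' := fun r a => Subtype.ext (mul_assoc _ _ _).symm }
  have hcomm : ∀ x m : M, (g ⟨(x : A) * m, hright _ x.2 m⟩ : A) = x * (g m : A) := fun x m =>
    congrArg Subtype.val (g.map_smul (L x) m)
  have key : ∀ z ∈ AddSubgroup.closure S, ∃ a : A, ∀ n : M, ∀ hn : (n : A) * z ∈ M, (g ⟨_, hn⟩ : A) = n * a := by
    intro z hz
    induction hz using AddSubgroup.closure_induction with
    | mem z hz =>
      obtain ⟨a, m, rfl⟩ := hz
      refine ⟨a * (g m : A), fun n hn => ?_⟩
      have := hcomm ⟨_, hright _ n.2 a⟩ m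
      simp only [mul_assoc] at this ⊢
      exact this
    | zero =>
      refine ⟨0, fun n hn => ?_⟩
      rw [show (⟨_, hn⟩ : M) = 0 from Subtype.ext (mul_zero _), map_zero, mul_zero]; rfl
    | add a b _ _ ha hb =>
      obtain ⟨u, hu⟩ := ha
      obtain ⟨v, hv⟩ := hb
      refine ⟨u + v, fun n hn => ?_⟩
      rw [show (⟨_, hn⟩ : M) = ⟨(n : A) * a, hright _ n.2 a⟩ + ⟨(n : A) * b, hright _ n.2 b⟩ from
        Subtype.ext (mul_add _ _ _), map_add, mul_add]
      exact congrArg₂ (· + ·) (hu n _) (hv n _)
    | neg a _ ha =>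
      obtain ⟨u, hu⟩ := ha
      refine ⟨-u, fun n hn => ?_⟩
      rw [show (⟨_, hn⟩ : M) = -⟨(n : A) * a, hright _ n.2 a⟩ from Subtype.ext (mul_neg _ _), map_neg, mul_neg]
      exact congrArg Neg.neg (hu n _)
  obtain ⟨a, ha⟩ := key 1 htop
  have hga : ∀ m : M, (g m : A) = (m : A) * a := fun m => by
    have := ha m (by rw [mul_one]; exact m.2)
    simpa [mul_one] using this
  refine ⟨a, hga, fun b hb => ?_⟩
  have hz : ∀ z ∈ AddSubgroup.closure S, z * b = z * a := by
    intro z hz
    induction hz using AddSubgroup.closure_induction with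
    | mem z hz => obtain ⟨c, m, rfl⟩ := hz; rw [mul_assoc, mul_assoc, ← hb m, ← hga m]
    | zero => simp
    | add a b _ _ ha hb => rw [add_mul, add_mul, ha, hb]
    | neg a _ ha => rw [neg_mul, neg_mul, ha]
  simpa using hz 1 htop

end Groth.Agent.S1517
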