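import Groth.Statements.S15172
import Mathlib.RingTheory.Artinian.Module
import Mathlib.RingTheory.Artinian.Ring
import Mathlib.Algebra.Star.SelfAdjoint
import Mathlib.Algebra.Star.Module
import Mathlib.RingTheory.FiniteType
import Mathlib.Algebra.Polynomial.Roots
import Mathlib.LinearAlgebra.Lagrange
import Mathlib.Algebra.CharP.Defs
import Mathlib.RingTheory.GradedAlgebra.Homogeneous.Ideal
import Mathlib.RingTheory.GradedAlgebra.Basic

set_option autoImplicit false
universe u v
open Polynomial
open BddFin

namespace Groth.Agent.S15172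

/-- Let L be a field of characteristic p > 0 and s a finite subset of L containing 0 and closed under
addition (a finite additive subgroup). Then the polynomial f = ∏_{a ∈ s} (X - a) is additive: f (x +
y) = f x + f y for all x, y in any commutative L-algebra (equivalently, as an identity of
polynomials in two variables). -/
theorem result
    (L : Type u) [Field L] (p : ℕ) [Fact p.Prime] [CharP L p] (s : Finset L) (h0 : (0 : L) ∈ s)
    (hadd : ∀ a ∈ s, ∀ b ∈ s, a + b ∈ s) (R : Type v) [CommRing R] [Algebra L R] (x y : R) :
    aeval (x + y) (∏ a ∈ s, (X - C a)) = aeval x (∏ a ∈ s, (X - C a)) + aeval y (∏ a ∈ s, (X - C a)) := by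
  classical
  let f : L[X] := ∏ a ∈ s, (X - C a)
  let F : L[X][X] := f.map C
  let G : L[X][X] := F.comp (X + C X) - C f
  have hf : f.Monic := monic_prod_of_monic _ _ fun a _ => monic_X_sub_C a
  have hdeg : f.natDegree = s.card := by
    rw [natDegree_prod _ _ fun a _ => X_sub_C_ne_zero a]; simp
  have hpos : 0 < s.card := Finset.card_pos.mpr ⟨0, h0⟩
  have hshift : ∀ a ∈ s, f.comp (X + C a) = f := fun a ha => by
    simp only [f, prod_comp, sub_comp, X_comp, C_comp]
    refine (Finset.prod_bij (fun b _ => a + b) (fun b hb => hadd a ha b hb)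
      (fun b _ c _ h => add_left_cancel h) (fun c hc => ?_) (fun b _ => by rw [C_add]; ring)).symm
    have hsurj : Finset.image (fun b => a + b) s = s := by
      refine Finset.eq_of_subset_of_card_le (fun z hz => ?_) ?_
      · obtain ⟨b, hb, rfl⟩ := Finset.mem_image.mp hz
        exact hadd a ha b hb
      · rw [Finset.card_image_of_injective _ (add_right_injective a)]
    obtain ⟨b, hb, hbc⟩ := Finset.mem_image.mp (hsurj.symm ▸ hc)
    exact ⟨b, hb, hbc⟩
  have hG : G - F = 0 := by
    refine eq_zero_of_degree_lt_of_eval_finset_eq_zero (s.map ⟨fun a => C a, C_injective⟩) ?_ ?_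
    · rw [Finset.card_map]
      have hF : F.Monic := hf.map C
      have hFd : F.natDegree = s.card := by rw [natDegree_map_eq_of_injective C_injective, hdeg]
      have h1 : (F.comp (X + C (X : L[X]))).Monic := hF.comp_X_add_C X
      have h2 : (F.comp (X + C (X : L[X]))).natDegree = s.card := by
        rw [natDegree_comp, natDegree_X_add_C, mul_one, hFd]
      have h3 : (F.comp (X + C (X : L[X])) - F).degree < s.card := by
        refine (degree_sub_lt_left ?_ h1.ne_zero ?_).trans_le ?_
        · rw [degree_eq_natDegree h1.ne_zero, degree_eq_natDegree hF.ne_zero, h2, hFd]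
        · rw [h1.leadingCoeff, hF.leadingCoeff]
        · rw [degree_eq_natDegree h1.ne_zero, h2]
      rw [show G - F = (F.comp (X + C X) - F) - C f by ring]
      exact (degree_sub_le _ _).trans_lt (max_lt h3 (degree_C_le.trans_lt (by exact_mod_cast hpos)))
    · intro z hz
      obtain ⟨a, ha, rfl⟩ := Finset.mem_map.mp hz
      change eval (C a) (G - F) = 0
      have hfa : eval a f = 0 := by
        simp only [f, eval_prod]; exact Finset.prod_eq_zero ha (by simp)
      simp only [G, F, eval_sub, eval_comp, eval_add, eval_X, eval_C]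
      rw [eval_map, eval_map, eval₂_hom, hfa, ← comp, add_comm, hshift a ha]
      simp
  have h2 := congrArg (fun P : L[X][X] => eval₂ (aeval (R := L) x).toRingHom y P) hG
  simp only [G, F, eval₂_sub, eval₂_comp, eval₂_add, eval₂_X, eval₂_C, eval₂_zero, eval₂_map] at h2
  have hc : ((aeval (R := L) x).toRingHom.comp C) = algebraMap L R := by ext r; simp
  rw [hc] at h2
  simp only [AlgHom.toRingHom_eq_coe, RingHom.coe_coe, aeval_X, sub_eq_zero] at h2
  rw [sub_eq_iff_eq_add, add_comm y x] at h2
  rw [aeval_def, aeval_def, aeval_def] at *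
  rw [h2]; ring

end Groth.Agent.S15172
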