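import Groth.Statements.S15224
import Mathlib

set_option autoImplicit false
open Finset
open W4c2rk2extmaps

namespace Groth.Agent.S15224

/-- In a commutative ℚ-algebra R let y be an element and put c_k = y^k / k! for every k. Then for k ≥ 2,
Σ_{i=1}^{k-1} (-1)^(i-1) c_i c_(k-i) + (-1)^(k-1) c_k = c_k. (The published statement concerns the
Chern classes of a specific vector bundle on a Jacobian, which are of the form c_k = (4θ)^k / k!;
the printed argument establishes the identity for every sequence of this form in a commutative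
ℚ-algebra, which is the form stated here.) -/
theorem result (R : Type*) [CommRing R] [Algebra ℚ R] (y : R)
    (c : ℕ → R) (hc : ∀ k : ℕ, c k = ((Nat.factorial k : ℚ)⁻¹) • y ^ k)
    (k : ℕ) (hk : 2 ≤ k) :
    (∑ i ∈ Finset.Ico 1 k, (-1 : R) ^ (i - 1) * c i * c (k - i)) + (-1 : R) ^ (k - 1) * c k = c k := by
  have hprod : ∀ i ∈ Finset.range (k + 1), c i * c (k - i) = (k.choose i : R) * c k := by
    intro i hi
    have hik : i ≤ k := Nat.lt_succ_iff.mp (Finset.mem_range.mp hi)
    rw [hc, hc, hc, smul_mul_smul_comm, ← pow_add, Nat.add_sub_cancel' hik, mul_smul_comm,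
      ← map_natCast (algebraMap ℚ R), ← Algebra.smul_def, smul_smul, Nat.cast_choose ℚ hik]
    congr 1
    field_simp
  have halt : ∑ i ∈ Finset.range (k + 1), (-1 : R) ^ i * (k.choose i : R) = 0 := by
    have h := congrArg (Int.cast : ℤ → R) (Int.alternating_sum_range_choose_of_ne (n := k) (by omega))
    push_cast at h
    exact h
  have hsplit : ∀ g : ℕ → R, ∑ i ∈ Finset.range (k + 1), g i = g 0 + ∑ i ∈ Finset.Ico 1 k, g i + g k := by
    intro g
    rw [Finset.sum_range_succ, Finset.range_eq_Ico, Finset.sum_eq_sum_Ico_succ_bot (by omega)]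
  rw [hsplit] at halt
  simp only [pow_zero, Nat.choose_zero_right, Nat.choose_self, Nat.cast_one, mul_one] at halt
  have hsum : ∑ i ∈ Finset.Ico 1 k, (-1 : R) ^ (i - 1) * c i * c (k - i) =
      -(∑ i ∈ Finset.Ico 1 k, (-1 : R) ^ i * (k.choose i : R)) * c k := by
    rw [neg_mul, Finset.sum_mul, ← Finset.sum_neg_distrib]
    refine Finset.sum_congr rfl fun i hi => ?_
    obtain ⟨h1, h2⟩ := Finset.mem_Ico.mp hi
    rw [mul_assoc, hprod i (Finset.mem_range.mpr (by omega))]
    obtain ⟨j, rfl⟩ : ∃ j, i = j + 1 := ⟨i - 1, by omega⟩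
    rw [Nat.add_sub_cancel, pow_succ]
    ring
  obtain ⟨j, rfl⟩ : ∃ j, k = j + 1 := ⟨k - 1, by omega⟩
  rw [hsum, Nat.add_sub_cancel]
  rw [pow_succ] at halt
  linear_combination (-(c (j + 1))) * halt

end Groth.Agent.S15224
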