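import Groth.Statements.S15229
import Mathlib

set_option autoImplicit false
open Finset
open W4c2rk2extmaps

namespace Groth.Agent.S15229

/-- In a commutative ℚ-algebra R let θ, η be elements and g a natural number, and put c_k = (4θ)^k / k!.
Suppose θ^(g+1) = 0 and that η satisfies the relation η^(g+1) = Σ_{i=1}^{g+1} (-1)^(i-1) c_i
η^(g+1-i). Then η^(g+k) θ^(g-k) = c_k η^g θ^(g-k) for every 1 ≤ k ≤ g. (The published statement
concerns the first Chern class η of the tautological line bundle on a projective bundle P(U) over a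
g-dimensional Jacobian, with c_k the Chern classes of U, which are (4θ)^k / k!; there θ^(g+1)
vanishes for dimension reasons and the displayed relation is the projective-bundle relation, and the
printed argument derives the identity from exactly these three inputs, which is the form stated
here.) -/
theorem result (R : Type*) [CommRing R] [Algebra ℚ R]
    (θ η : R) (g : ℕ) (c : ℕ → R) (hc : ∀ k : ℕ, c k = ((Nat.factorial k : ℚ)⁻¹) • ((4 : R) * θ) ^ k)
    (hθ : θ ^ (g + 1) = 0)
    (hrel : η ^ (g + 1) = ∑ i ∈ Finset.Ico 1 (g + 2), (-1 : R) ^ (i - 1) * c i * η ^ (g + 1 - i))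
    (k : ℕ) (hk1 : 1 ≤ k) (hkg : k ≤ g) :
    η ^ (g + k) * θ ^ (g - k) = c k * η ^ g * θ ^ (g - k) := by
  classical
  have hc' : ∀ i, c i = algebraMap ℚ R ((Nat.factorial i : ℚ)⁻¹ * 4 ^ i) * θ ^ i := fun i => by
    rw [hc, Algebra.smul_def, mul_pow, map_mul, map_pow, map_ofNat, mul_assoc]
  have hcc : ∀ i j, c i * c j = ((i + j).choose i : R) * c (i + j) := fun i j => by
    rw [hc', hc', hc', pow_add, ← map_natCast (algebraMap ℚ R), ← mul_assoc (algebraMap ℚ R _),
      ← map_mul, Nat.cast_add_choose]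
    have : (((i + j).factorial : ℚ) / ((i.factorial : ℚ) * (j.factorial : ℚ))) * (((i + j).factorial : ℚ)⁻¹ * 4 ^ (i + j)) =
        ((i.factorial : ℚ)⁻¹ * 4 ^ i) * ((j.factorial : ℚ)⁻¹ * 4 ^ j) := by
      have h1 : ((i + j).factorial : ℚ) ≠ 0 := Nat.cast_ne_zero.2 (Nat.factorial_ne_zero _)
      field_simp
      ring
    rw [← pow_add (4 : ℚ), this, map_mul (algebraMap ℚ R) ((i.factorial : ℚ)⁻¹ * 4 ^ i)]
    ring
  have hzero : ∀ i m, g < i + m → c i * θ ^ m = 0 := fun i m h => by
    obtain ⟨d, hd⟩ : ∃ d, i + m = g + 1 + d := ⟨i + m - (g + 1), by omega⟩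
    rw [hc', mul_assoc, ← pow_add, hd, pow_add, hθ, zero_mul, mul_zero]
  induction k using Nat.strong_induction_on with
  | _ k ih =>
    have hterm : ∀ i ∈ Finset.Ico 1 (g + 2),
        ((-1 : R) ^ (i - 1) * c i * η ^ (g + 1 - i)) * η ^ (k - 1) * θ ^ (g - k) =
        (if i ≤ k then (-1 : R) ^ (i - 1) * (k.choose i : R) else 0) * (c k * η ^ g * θ ^ (g - k)) := by
      intro i hi
      obtain ⟨hi1, hi2⟩ := Finset.mem_Ico.1 hi
      by_cases hik : i ≤ k
      · rw [if_pos hik]
        obtain ⟨j, rfl⟩ : ∃ j, k = i + j := ⟨k - i, by omega⟩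
        have e1 : η ^ (g + 1 - i) * η ^ (i + j - 1) = η ^ (g + j) := by rw [← pow_add]; congr 1; omega
        have e2 : θ ^ (g - j) = θ ^ i * θ ^ (g - (i + j)) := by rw [← pow_add]; congr 1; omega
        have hj : η ^ (g + j) * θ ^ (g - j) = c j * η ^ g * θ ^ (g - j) := by
          rcases Nat.eq_zero_or_pos j with h | h
          · subst h; simp [hc]
          · exact ih j (by omega) h (by omega)
        calc (-1 : R) ^ (i - 1) * c i * η ^ (g + 1 - i) * η ^ (i + j - 1) * θ ^ (g - (i + j))
            = (-1 : R) ^ (i - 1) * algebraMap ℚ R ((Nat.factorial i : ℚ)⁻¹ * 4 ^ i) * (η ^ (g + j) * θ ^ (g - j)) := by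
              rw [← e1, e2, hc']; ring
          _ = (-1 : R) ^ (i - 1) * (c i * c j) * η ^ g * θ ^ (g - (i + j)) := by rw [hj, e2, hc' i]; ring
          _ = _ := by rw [hcc]; ring
      · rw [if_neg hik, zero_mul,
          show (-1 : R) ^ (i - 1) * c i * η ^ (g + 1 - i) * η ^ (k - 1) * θ ^ (g - k) =
            (-1 : R) ^ (i - 1) * η ^ (g + 1 - i) * η ^ (k - 1) * (c i * θ ^ (g - k)) by ring,
          hzero i (g - k) (by omega), mul_zero]
    have hsum : ∑ i ∈ Finset.Ico 1 (g + 2), (if i ≤ k then (-1 : R) ^ (i - 1) * (k.choose i : R) else 0) = 1 := by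
      rw [← Finset.sum_filter, show (Finset.Ico 1 (g + 2)).filter (· ≤ k) = Finset.Ico 1 (k + 1) from
        Finset.ext fun x => by simp; omega, Finset.sum_Ico_eq_sum_range, Nat.add_sub_cancel]
      have h := congrArg (fun x : ℤ => (x : R)) (Int.alternating_sum_range_choose_of_ne (show k ≠ 0 by omega))
      simp only [Finset.sum_range_succ', pow_zero, Nat.choose_zero_right, Int.cast_add, Int.cast_sum,
        Int.cast_mul, Int.cast_pow, Int.cast_neg, Int.cast_one, Nat.cast_one, mul_one, Int.cast_natCast, Int.cast_zero] at h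
      rw [← sub_eq_zero, ← neg_eq_zero, neg_sub, ← h, sub_eq_add_neg, add_comm _ (1 : R), ← Finset.sum_neg_distrib]
      congr 1
      refine Finset.sum_congr rfl fun i _ => ?_
      rw [Nat.add_sub_cancel_left, add_comm 1 i, pow_succ]
      ring
    calc η ^ (g + k) * θ ^ (g - k)
        = η ^ (g + 1) * η ^ (k - 1) * θ ^ (g - k) := by rw [← pow_add]; congr 2; omega
      _ = ∑ i ∈ Finset.Ico 1 (g + 2), (if i ≤ k then (-1 : R) ^ (i - 1) * (k.choose i : R) else 0) * (c k * η ^ g * θ ^ (g - k)) := by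
          rw [hrel, Finset.sum_mul, Finset.sum_mul]
          exact Finset.sum_congr rfl hterm
      _ = _ := by rw [← Finset.sum_mul, hsum, one_mul]

end Groth.Agent.S15229
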