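import Groth.Statements.S15231
import Groth.Agent.PseudoCoh.TensorKProj
import Groth.Agent.PseudoCoh.BaseChange
import Mathlib.RingTheory.FiniteLength

set_option autoImplicit false
universe u
open CategoryTheory CategoryTheory.Limits
attribute [local instance] HasDerivedCategory.standard
open DRing

namespace Groth.Agent.S15231

open CategoryTheory CategoryTheory.Limits DerivedCategory Groth.Agent.PseudoCoh
open scoped TensorProduct

attribute [local instance] HasDerivedCategory.standard

lemma exact_rTensor_of_extend {A S : Type u} [CommRing A] [CommRing S] [inst : Algebra A S] {E : DRing.Cx A} {i j k : ℤ}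
    (hij : i + 1 = j) (hjk : j + 1 = k) (h : ((Fc (algebraMap A S)).obj E).ExactAt j) :
    Function.Exact ((E.d i j).hom.rTensor S) ((E.d j k).hom.rTensor S) := by
  suffices key : ∀ (ψ : A →+* S) (a : Algebra A S), a = ψ.toAlgebra → ((Fc ψ).obj E).ExactAt j →
      (letI := a; Function.Exact ((E.d i j).hom.rTensor S) ((E.d j k).hom.rTensor S)) from
    key (algebraMap A S) inst (Algebra.algebra_ext _ _ fun _ => rfl) h
  rintro ψ a rfl h
  rw [HomologicalComplex.exactAt_iff' _ i j k (by simp; omega) (by simp; omega),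
    ShortComplex.ShortExact.moduleCat_exact_iff_function_exact] at h
  letI := ψ.toAlgebra
  have h' : Function.Exact ((E.d i j).hom.lTensor S) ((E.d j k).hom.lTensor S) := h
  exact (LinearMap.rTensor_exact_iff_lTensor_exact S).2 h'

lemma exact_rTensor_congr {A : Type u} [CommRing A] {X Y Z M N : Type u} [AddCommGroup X] [Module A X] [AddCommGroup Y]
    [Module A Y] [AddCommGroup Z] [Module A Z] [AddCommGroup M] [Module A M] [AddCommGroup N] [Module A N]
    (e : M ≃ₗ[A] N) (f : X →ₗ[A] Y) (g : Y →ₗ[A] Z) (h : Function.Exact (f.rTensor M) (g.rTensor M)) :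
    Function.Exact (f.rTensor N) (g.rTensor N) := by
  refine (Function.Exact.iff_of_ladder_linearEquiv (e₁ := e.lTensor X) (e₂ := e.lTensor Y) (e₃ := e.lTensor Z) ?_ ?_).2 h
  · exact TensorProduct.ext' fun x m => rfl
  · exact TensorProduct.ext' fun x m => rfl

lemma exact_rTensor_ext {A : Type u} [CommRing A] {P : DRing.Cx A} (hflat : ∀ j, Module.Flat A (P.X j))
    {M₁ M₂ M₃ : Type u} [AddCommGroup M₁] [Module A M₁] [AddCommGroup M₂] [Module A M₂] [AddCommGroup M₃] [Module A M₃]
    (ι : M₁ →ₗ[A] M₂) (q : M₂ →ₗ[A] M₃) (he : Function.Exact ι q) (hi : Function.Injective ι) (hq : Function.Surjective q)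
    {h i j : ℤ} (f : P.X h →ₗ[A] P.X i) (g : P.X i →ₗ[A] P.X j) (hfg : g ∘ₗ f = 0)
    (h₁ : Function.Exact (f.rTensor M₁) (g.rTensor M₁)) (h₃ : Function.Exact (f.rTensor M₃) (g.rTensor M₃)) :
    Function.Exact (f.rTensor M₂) (g.rTensor M₂) := by
  haveI := hflat i; haveI := hflat j
  have comm : ∀ {X Y : Type u} [AddCommGroup X] [Module A X] [AddCommGroup Y] [Module A Y] (φ : X →ₗ[A] Y)
      {M N : Type u} [AddCommGroup M] [Module A M] [AddCommGroup N] [Module A N] (ψ : M →ₗ[A] N) (z : X ⊗[A] M),
      φ.rTensor N (ψ.lTensor X z) = ψ.lTensor Y (φ.rTensor M z) := fun φ _ _ _ _ _ _ ψ z =>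
    (LinearMap.congr_fun (LinearMap.rTensor_comp_lTensor _ φ ψ) z).trans
      (LinearMap.congr_fun (LinearMap.lTensor_comp_rTensor _ φ ψ) z).symm
  intro x
  refine ⟨fun hx => ?_, ?_⟩
  · obtain ⟨y', hy'⟩ := (h₃ (q.lTensor _ x)).1 (by rw [comm, hx, map_zero])
    obtain ⟨y, rfl⟩ := LinearMap.lTensor_surjective _ hq y'
    obtain ⟨z, hz⟩ := (lTensor_exact (P.X i) he hq (x - f.rTensor M₂ y)).1 (by rw [map_sub, ← comm, hy', sub_self])
    obtain ⟨w, hw⟩ := (h₁ z).1 (Module.Flat.lTensor_preserves_injective_linearMap ι hi (by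
      rw [map_zero, ← comm, hz, map_sub, hx, ← LinearMap.rTensor_comp_apply, hfg, LinearMap.rTensor_zero,
        LinearMap.zero_apply, sub_zero]))
    refine ⟨y + ι.lTensor _ w, ?_⟩
    rw [map_add, comm, hw, hz]
    abel
  · rintro ⟨y, rfl⟩
    rw [← LinearMap.rTensor_comp_apply, hfg, LinearMap.rTensor_zero, LinearMap.zero_apply]

/-- Let R be a Noetherian local commutative ring with residue field κ, let P be any object of D(R) and
a, b integers. Suppose that H^i(P ⊗^L_R κ) = 0 for every i outside [a, b] (over the field κ this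
says exactly that P ⊗^L_R κ has tor amplitude in [a, b] as an object of D(κ)). Then for every
R-module N of finite length, H^i(P ⊗^L_R N) = 0 for every i outside [a, b]. The derived base change
to κ and the derived tensor products with R-modules are the total left derived functors on D(R),
assumed to exist for every R-module (as they do). -/
theorem result (R : Type u) [CommRing R] [IsNoetherianRing R]
    [IsLocalRing R] [DRing.HasLBaseChange (IsLocalRing.residue R)] [∀ M : ModuleCat.{u} R, DRing.HasLTensor R M]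
    (P : Dual.D R) (a b : ℤ)
    (h : ∀ i : ℤ, (i < a ∨ b < i) →
      Subsingleton (Dual.HD (IsLocalRing.ResidueField R) ((DRing.LBaseChange (IsLocalRing.residue R)).obj P) i))
    (N : Type u) [AddCommGroup N] [Module R N] (hN : IsFiniteLength R N) (i : ℤ) (hi : i < a ∨ b < i) :
    Subsingleton (Dual.HD R ((DRing.LTensor R (ModuleCat.of R N)).obj P) i) := by
  obtain ⟨K, hK, hproj, ⟨e⟩⟩ := Groth.Agent.KProjRes.exists_kProjective_iso P
  haveI := hK
  have hflat : ∀ j, Module.Flat R (K.X j) := fun j => by
    haveI := hproj j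
    haveI : Module.Projective R (K.X j) := (IsProjective.iff_projective (K.X j)).2 inferInstance
    exact Module.Flat.of_projective
  obtain ⟨l, hl⟩ : ∃ l, l + 1 = i := ⟨i - 1, sub_add_cancel _ 1⟩
  have hκ : Function.Exact ((K.d l i).hom.rTensor (IsLocalRing.ResidueField R))
      ((K.d i (i + 1)).hom.rTensor (IsLocalRing.ResidueField R)) := by
    refine exact_rTensor_of_extend hl rfl ?_
    show ((Fc (IsLocalRing.residue R)).obj K).ExactAt i
    rw [HomologicalComplex.exactAt_iff_isZero_homology]
    haveI := h i hi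
    exact (ModuleCat.isZero_of_subsingleton ((DerivedCategory.homologyFunctor (ModuleCat.{u} (IsLocalRing.ResidueField R)) i).obj
        ((DRing.LBaseChange (IsLocalRing.residue R)).obj P))).of_iso
      (((DerivedCategory.homologyFunctorFactors (ModuleCat.{u} (IsLocalRing.ResidueField R)) i).app _).symm ≪≫
        (DerivedCategory.homologyFunctor (ModuleCat.{u} (IsLocalRing.ResidueField R)) i).mapIso
          ((Groth.Agent.KProjRes.lBaseChangeIso _ K).symm ≪≫ (DRing.LBaseChange _).mapIso e))
  have key : Function.Exact ((K.d l i).hom.rTensor N) ((K.d i (i + 1)).hom.rTensor N) := by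
    induction hN with
    | of_subsingleton => exact fun y => ⟨fun _ => ⟨0, Subsingleton.elim _ _⟩, fun _ => Subsingleton.elim _ _⟩
    | @of_simple_quotient M _ _ S hS hfl ih =>
      obtain ⟨I, hI, ⟨ε⟩⟩ := isSimpleModule_iff_quot_maximal.1 hS
      obtain rfl := IsLocalRing.eq_maximalIdeal hI
      let ε' : (M ⧸ S) ≃ₗ[R] IsLocalRing.ResidueField R :=
        ε.trans { AddEquiv.refl _ with map_smul' := fun r x => rfl }
      exact exact_rTensor_ext hflat _ _ (LinearMap.exact_subtype_mkQ S) S.injective_subtype (Submodule.mkQ_surjective S)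
        (K.d l i).hom (K.d i (i + 1)).hom (congrArg ModuleCat.Hom.hom (K.d_comp_d l i (i + 1))) ih
        (exact_rTensor_congr ε'.symm (K.d l i).hom (K.d i (i + 1)).hom hκ)
  obtain ⟨et⟩ := nonempty_lTensorIso (ModuleCat.of R N) K
  have hx : (((MonoidalCategory.tensorRight (ModuleCat.of R N)).mapHomologicalComplex (ComplexShape.up ℤ)).obj K).ExactAt i := by
    rw [HomologicalComplex.exactAt_iff' _ l i (i + 1) (by simp; omega) (by simp),
      ShortComplex.ShortExact.moduleCat_exact_iff_function_exact]
    exact key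
  exact ModuleCat.subsingleton_of_isZero (hx.isZero_homology.of_iso
    ((DerivedCategory.homologyFunctor (ModuleCat.{u} R) i).mapIso ((DRing.LTensor R (ModuleCat.of R N)).mapIso e.symm ≪≫ et) ≪≫
      (DerivedCategory.homologyFunctorFactors (ModuleCat.{u} R) i).app _))

end Groth.Agent.S15231
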