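import Groth.Statements.S15232
import Groth.Agent.PseudoCoh.Residue
import Groth.Agent.PseudoCoh.Criteria

set_option autoImplicit false
universe u
open CategoryTheory CategoryTheory.Limits
attribute [local instance] HasDerivedCategory.standard
open DRing

namespace Groth.Agent.S15232

open CategoryTheory CategoryTheory.Limits DerivedCategory DerivedCategory.TStructure

attribute [local instance] HasDerivedCategory.standard

lemma projective_extend {A B : Type u} [CommRing A] [CommRing B] (φ : A →+* B) {E : DRing.Cx A}
    (hfp : DRing.TermwiseFiniteProjective E) (i : ℤ) : Module.Projective B (((PseudoCoh.Fc φ).obj E).X i) := by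
  letI := φ.toAlgebra
  haveI := (hfp i).2
  exact (inferInstance : Module.Projective B (TensorProduct A B (E.X i)))

/-- Let R be a Noetherian commutative ring and I an ideal contained in the Jacobson radical of R, and
assume the derived base change D(R) → D(R/I) exists. Let P be a pseudo-coherent object of D(R) and
a, b integers. If P ⊗^L_R R/I has tor amplitude in [a, b] as an object of D(R/I), then P has tor
amplitude in [a, b] as an object of D(R). Tor amplitude is taken in the flat-representative form
(isomorphic in the derived category to a complex of flat modules vanishing outside [a, b]). -/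
theorem result (R : Type u) [CommRing R] [IsNoetherianRing R]
    (I : Ideal R) (hI : I ≤ Ideal.jacobson (⊥ : Ideal R)) [DRing.HasLBaseChange (Ideal.Quotient.mk I)]
    (P : Dual.D R) (hP : DRing.IsPseudoCoherent' R P) (a b : ℤ)
    (h : DRing.HasTorAmplitudeIn (R ⧸ I) a b ((DRing.LBaseChange (Ideal.Quotient.mk I)).obj P)) :
    DRing.HasTorAmplitudeIn R a b P := by
  obtain ⟨E, c, hc, hff, ⟨e⟩⟩ := id hP
  have hfp : DRing.TermwiseFiniteProjective E := fun i => by
    obtain ⟨h1, h2⟩ := hff i
    exact ⟨h1, inferInstance⟩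
  have hEp : ∀ i, Projective (E.X i) := fun i =>
    haveI := (hfp i).2
    (IsProjective.iff_projective (E.X i)).1 inferInstance
  haveI := PseudoCoh.isKProjective_of_le hc hEp
  let π := Ideal.Quotient.mk I
  let Q := (PseudoCoh.Fc π).obj E
  have hQb : ∀ i, c < i → IsZero (Q.X i) := fun i hi => (ModuleCat.extendScalars.{u, u, u} π).map_isZero (hc i hi)
  have hQp : ∀ i, Projective (Q.X i) := fun i => by
    haveI h0 := projective_extend π hfp i
    exact (IsProjective.iff_projective (Q.X i)).1 (projective_extend π hfp i)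
  have hQflat : ∀ i, Module.Flat (R ⧸ I) (Q.X i) := fun i =>
    @Module.Flat.of_projective _ _ _ _ _ (projective_extend π hfp i)
  let eQ : DRing.toD Q ≅ (DRing.LBaseChange π).obj P :=
    (KProjRes.lBaseChangeIso π E).symm ≪≫ (DRing.LBaseChange π).mapIso e
  obtain ⟨a₀, ha₀⟩ : ∃ a₀, a₀ + 1 = a := ⟨a - 1, sub_add_cancel _ 1⟩
  have hcok := PseudoCoh.flat_coker_of_torAmplitude ha₀ hQb hQp eQ h
  have hlo : ∀ i, i < a → Q.ExactAt i := fun i hi => PseudoCoh.exactAt_of_isGE_toD
    (haveI := PseudoCoh.isGE_of_torAmplitude h; t.isGE_of_iso eQ.symm a) hi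
  have hhi : ∀ i, b < i → Q.ExactAt i := fun i hi => PseudoCoh.exactAt_of_isLE_toD
    (haveI := PseudoCoh.isLE_of_torAmplitude h; t.isLE_of_iso eQ.symm b) hi
  have hx : ∀ i, (i < a ∨ b < i) → E.ExactAt i ∧
      Module.Projective R (E.X (i + 1) ⧸ LinearMap.range (E.d i (i + 1)).hom) := fun i hi =>
    PseudoCoh.exact_and_projective_of_mod hfp (sub_add_cancel i 1) rfl fun m hm => by
      have hIm : I ≤ m := hI.trans (sInf_le ⟨bot_le, hm⟩)
      rw [← Ideal.Quotient.factor_comp_mk hIm]
      have hcx : Q.ExactAt i ∧ Module.Flat (R ⧸ I) (Q.X (i + 1) ⧸ LinearMap.range (Q.d i (i + 1)).hom) := by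
        rcases hi with hi | hi
        · exact ⟨hlo i hi, PseudoCoh.flat_coker_below hQflat hlo ha₀ hcok i (i + 1) rfl (by omega)⟩
        · exact ⟨hhi i hi, PseudoCoh.flat_coker i rfl hQb hQflat fun l hl => hhi l (by omega)⟩
      exact (PseudoCoh.exactAt_extend (Ideal.Quotient.factor hIm) (sub_add_cancel i 1) rfl hcx.1 hcx.2).of_iso
        ((NatIso.mapHomologicalComplex (ModuleCat.extendScalarsComp π (Ideal.Quotient.factor hIm))
          (ComplexShape.up ℤ)).app E).symm
  have hflat : DRing.TermwiseFlat E := fun i => by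
    haveI := (hfp i).2
    exact Module.Flat.of_projective
  refine PseudoCoh.torAmplitude_of_iso e
    (PseudoCoh.torAmplitude_of_complex ha₀ hc hflat
      ((DerivedCategory.isGE_iff _ _).2 fun i hi => (hx i (Or.inl hi)).1.isZero_homology.of_iso
        ((DerivedCategory.homologyFunctorFactors (ModuleCat.{u} R) i).app _))
      ((DerivedCategory.isLE_iff _ _).2 fun i hi => (hx i (Or.inr hi)).1.isZero_homology.of_iso
        ((DerivedCategory.homologyFunctorFactors (ModuleCat.{u} R) i).app _)) ?_)
  subst ha₀
  haveI := (hx a₀ (Or.inl (by omega))).2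
  exact Module.Flat.of_projective

end Groth.Agent.S15232
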