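import Groth.Statements.S15233
import Mathlib
-- import your own Groth.Agent.* helpers here

set_option autoImplicit false
universe u
open CategoryTheory CategoryTheory.Limits Opposite
open CohSite

namespace Groth.Agent.S15233

/-- Let C be a small category with a Grothendieck topology J, and let B be a class of objects forming a
prebasis: for every object V and every covering sieve S of V, the arrows of S whose domain lies in B
generate a covering sieve of V. If F is a presheaf of abelian groups on C such that F(U) = 0 for
every object U in B, then the sheafification of F is zero. -/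
theorem result {C : Type u} [SmallCategory C] (J : GrothendieckTopology C)
    (B : ObjectProperty C)
    (hB : ∀ (V : C) (S : Sieve V), S ∈ J V →
      Sieve.generate (fun (U : C) => {g : U ⟶ V | S.arrows g ∧ B U}) ∈ J V)
    (F : Cᵒᵖ ⥤ AddCommGrpCat.{u}) (hF : ∀ U : C, B U → IsZero (F.obj (op U))) :
    IsZero ((presheafToSheaf J AddCommGrpCat.{u}).obj F) := by
  let η := CategoryTheory.toSheafify J F
  have key : ∀ (V : C) (x : (sheafify J F).obj (Opposite.op V)), x = 0 := by
    intro V x
    refine (((isSheaf_iff_isSheaf_of_type _ _).1 ((sheafCompose J (forget AddCommGrpCat.{u})).obj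
      ((presheafToSheaf J AddCommGrpCat.{u}).obj F)).property) _ (hB V _ (Presheaf.imageSieve_mem J η x))).isSeparatedFor.ext ?_
    rintro W _ ⟨Z, t, g, ⟨⟨y, hy⟩, hg⟩, rfl⟩
    show (sheafify J F).map (t ≫ g).op x = (sheafify J F).map (t ≫ g).op 0
    haveI := AddCommGrpCat.subsingleton_of_isZero (hF Z hg)
    have h0 : (sheafify J F).map g.op x = 0 := by
      rw [← hy, Subsingleton.elim y 0, map_zero]
    rw [map_zero, op_comp, Functor.map_comp_apply, h0, map_zero]
  have h : ∀ X : Cᵒᵖ, Limits.IsZero ((sheafify J F).obj X) := fun X => by
    haveI : Subsingleton ((sheafify J F).obj X) := ⟨fun a b => (key X.unop a).trans (key X.unop b).symm⟩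
    exact AddCommGrpCat.isZero_of_subsingleton _
  have h' : Limits.IsZero ((sheafToPresheaf J AddCommGrpCat.{u}).obj ((presheafToSheaf J AddCommGrpCat.{u}).obj F)) :=
    Functor.isZero _ h
  exact (Limits.IsZero.iff_id_eq_zero _).2 ((sheafToPresheaf J AddCommGrpCat.{u}).map_injective (h'.eq_of_src _ _))

end Groth.Agent.S15233
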