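import Groth.Statements.S15235
import Mathlib
import Groth.Agent.ML.Basic

set_option autoImplicit false
universe u
open CategoryTheory Opposite
open HomAlg3

namespace Groth.Agent.S15235

open Opposite Groth.Agent.ML.Basic

/-- Let (G_j) be an inverse system of abelian groups indexed by the natural numbers, with transition
maps G_{j+1} → G_j, and let j₀ be a natural number such that the transition map G_{j+1} → G_j is
surjective for every j ≥ j₀. Then: (a) the system satisfies the Mittag-Leffler condition; (b) the
evaluation map from the inverse limit (realised as the set of compatible families) to G_{j₀} is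
surjective; (c) if in addition the transition maps G_{j+1} → G_j are injective for every j ≥ j₀,
that evaluation map is bijective. (The published statement indexes the system by the negative
integers and assumes j₀ ≥ 1; this row indexes it by the natural numbers and allows j₀ = 0, which
changes nothing.) -/
theorem result (G : ℕᵒᵖ ⥤ AddCommGrpCat.{u})
    (j₀ : ℕ) (hs : ∀ j : ℕ, j₀ ≤ j → Function.Surjective (G.map (homOfLE (Nat.le_succ j)).op).hom) :
    (G ⋙ forget AddCommGrpCat.{u}).IsMittagLeffler ∧
      Function.Surjective (fun s : (G ⋙ forget AddCommGrpCat.{u}).sections => s.1 (op j₀)) ∧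
      ((∀ j : ℕ, j₀ ≤ j → Function.Injective (G.map (homOfLE (Nat.le_succ j)).op).hom) →
        Function.Bijective (fun s : (G ⋙ forget AddCommGrpCat.{u}).sections => s.1 (op j₀))) := by
  have hst : ∀ j, j₀ ≤ j → ∀ k (h : j ≤ k), Function.Surjective (t G h) := by
    intro j hj k h
    induction k, h using Nat.le_induction with
    | base => exact fun x => ⟨x, t_self G _ x⟩
    | succ k hk ih =>
      intro x
      obtain ⟨y, rfl⟩ := ih x
      obtain ⟨z, rfl⟩ := hs k (hj.trans hk) y
      exact ⟨z, (t_t G hk (Nat.le_succ k) z).symm⟩
  refine ⟨(ml_iff G).mpr fun j => ⟨max j j₀, le_max_left _ _, fun k hk x => ?_⟩, fun x => ?_,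
    fun hi => ⟨fun s s' h => ?_, fun x => ?_⟩⟩
  · obtain ⟨y, hy⟩ := hst _ (le_max_right j j₀) (max (max j j₀) k) (le_max_left _ _) x
    exact ⟨t G (le_max_right (max j j₀) k) y, by rw [← hy, t_t, t_t]⟩
  rotate_left 2
  all_goals try
    obtain ⟨s, hs', hsx, -⟩ := exists_section G j₀ (fun _ _ => True)
      (fun j hj x _ => (hs j hj x).imp fun y hy => ⟨trivial, hy⟩) x trivial
    exact ⟨⟨fun j => s j.unop, fun {a b} f => hs' b.unop a.unop f.unop.le⟩, hsx⟩
  have hinj : ∀ k (h : j₀ ≤ k), Function.Injective (t G h) := by
    intro k h
    induction k, h using Nat.le_induction with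
    | base => exact fun a b hab => by rwa [t_self, t_self] at hab
    | succ k hk ih =>
      intro a b hab
      rw [← t_t G hk (Nat.le_succ k), ← t_t G hk (Nat.le_succ k)] at hab
      exact hi k hk (ih hab)
  exact Functor.eval_section_injective_of_eventually_injective (G ⋙ forget AddCommGrpCat.{u})
    (fun i f => hinj i.unop f.unop.le) (op j₀) (𝟙 _) h

end Groth.Agent.S15235
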