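import Groth.Statements.S15260
import Mathlib

set_option autoImplicit false
universe u
open CategoryTheory CategoryTheory.Limits AlgebraicGeometry TopologicalSpace
open W4c2seshadripos

namespace Groth.Agent.S15260

/-- Say a morphism of schemes h : S → T is locally essentially of finite type when for every affine open
U = Spec A of T the preimage h⁻¹(U) is covered by affine opens V = Spec B of S with A → B
essentially of finite type (a localization of a finite-type A-algebra; this is the every-affine-open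
form of the notion). If f : X → Y and g : Y → Z are locally essentially of finite type then so is f
≫ g. (The published statement also covers the quasi-compact variant, essentially of finite type;
that case follows since quasi-compact morphisms are stable under composition.) -/
theorem result {X Y Z : Scheme.{u}} (f : X ⟶ Y) (g : Y ⟶ Z)
    (hf : ∀ U : Y.affineOpens, ∃ T : Set X.affineOpens, (⋃ V ∈ T, ((V : X.Opens) : Set ↥X)) = ((f ⁻¹ᵁ (U : Y.Opens)) : Set ↥X) ∧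
        ∀ V ∈ T, ∃ e : (V : X.Opens) ≤ f ⁻¹ᵁ (U : Y.Opens), (f.appLE (U : Y.Opens) (V : X.Opens) e).hom.EssFiniteType)
    (hg : ∀ U : Z.affineOpens, ∃ T : Set Y.affineOpens, (⋃ V ∈ T, ((V : Y.Opens) : Set ↥Y)) = ((g ⁻¹ᵁ (U : Z.Opens)) : Set ↥Y) ∧
        ∀ V ∈ T, ∃ e : (V : Y.Opens) ≤ g ⁻¹ᵁ (U : Z.Opens), (g.appLE (U : Z.Opens) (V : Y.Opens) e).hom.EssFiniteType)
    (U : Z.affineOpens) :
    ∃ T : Set X.affineOpens, (⋃ V ∈ T, ((V : X.Opens) : Set ↥X)) = (((f ≫ g) ⁻¹ᵁ (U : Z.Opens)) : Set ↥X) ∧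
        ∀ V ∈ T, ∃ e : (V : X.Opens) ≤ (f ≫ g) ⁻¹ᵁ (U : Z.Opens), ((f ≫ g).appLE (U : Z.Opens) (V : X.Opens) e).hom.EssFiniteType := by
  obtain ⟨Tg, hTg, hTg'⟩ := hg U
  choose Tf hTf hTf' using fun V : Y.affineOpens => hf V
  refine ⟨⋃ V ∈ Tg, Tf V, ?_, ?_⟩
  · ext x
    have hx : ∀ y : ↥Y, y ∈ (g ⁻¹ᵁ (U : Z.Opens) : Set ↥Y) ↔ ∃ V ∈ Tg, y ∈ ((V : Y.Opens) : Set ↥Y) := fun y => by
      rw [← hTg, Set.mem_iUnion₂]; simp
    constructor
    · intro h
      obtain ⟨W, hW, hxW⟩ := Set.mem_iUnion₂.1 h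
      obtain ⟨V, hV, hWV⟩ := Set.mem_iUnion₂.1 hW
      obtain ⟨e, -⟩ := hTf' V W hWV
      exact (hx _).2 ⟨V, hV, e hxW⟩
    · intro h
      obtain ⟨V, hV, hxV⟩ := (hx (f.base x)).1 h
      have : x ∈ ⋃ W ∈ Tf V, ((W : X.Opens) : Set ↥X) := hTf V ▸ hxV
      obtain ⟨W, hW, hxW⟩ := Set.mem_iUnion₂.1 this
      exact Set.mem_iUnion₂.2 ⟨W, Set.mem_iUnion₂.2 ⟨V, hV, hW⟩, hxW⟩
  · intro W hW
    obtain ⟨V, hV, hWV⟩ := Set.mem_iUnion₂.1 hW
    obtain ⟨e1, he1⟩ := hTg' V hV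
    obtain ⟨e2, he2⟩ := hTf' V W hWV
    have e : (W : X.Opens) ≤ (f ≫ g) ⁻¹ᵁ (U : Z.Opens) := fun x hx => e1 (e2 hx)
    refine ⟨e, ?_⟩
    rw [← Scheme.Hom.appLE_comp_appLE f g (U : Z.Opens) (V : Y.Opens) (W : X.Opens) e1 e2, CommRingCat.hom_comp]
    exact he1.comp he2

end Groth.Agent.S15260
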