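import Groth.Statements.S15285
import Mathlib.CategoryTheory.Monoidal.Functor
import Mathlib.CategoryTheory.Groupoid
import Mathlib.CategoryTheory.HomCongr

set_option autoImplicit false
universe v v' u u'
open PicCat

namespace Groth.Agent.S15285

open CategoryTheory MonoidalCategory in
/-- Let C and D be Picard categories (monoidal groupoids in which tensoring on either side with any
object is an equivalence of categories) and F : C ⥤ D a lax monoidal functor. If F induces a
bijection on isomorphism classes of objects (it is essentially surjective, and F X ≅ F Y only when X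
≅ Y) and a bijection on endomorphisms of the unit object, then F is an equivalence of categories. -/
theorem result
    {C : Type u} [Category.{v} C] [MonoidalCategory C] [IsGroupoid C]
    {D : Type u'} [Category.{v'} D] [MonoidalCategory D] [IsGroupoid D]
    (hC : ∀ X : C, (tensorLeft X).IsEquivalence ∧ (tensorRight X).IsEquivalence)
    (hD : ∀ X : D, (tensorLeft X).IsEquivalence ∧ (tensorRight X).IsEquivalence)
    (F : C ⥤ D) [F.LaxMonoidal] [F.EssSurj]
    (h0 : ∀ X Y : C, Nonempty (F.obj X ≅ F.obj Y) → Nonempty (X ≅ Y))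
    (h1 : Function.Bijective (fun φ : 𝟙_ C ⟶ 𝟙_ C => F.map φ)) :
    F.IsEquivalence := by
  have hmu : ∀ X Y : C, IsIso (Functor.LaxMonoidal.μ F X Y) := fun X Y => inferInstance
  have hend : ∀ X : C, Function.Bijective (fun φ : X ⟶ X => F.map φ) := fun X => by
    haveI := (hC X).2
    haveI := (hD (F.obj X)).2
    let e1 : (𝟙_ C ⟶ 𝟙_ C) ≃ (X ⟶ X) := ((Functor.FullyFaithful.ofFullyFaithful (tensorRight X)).homEquiv).trans ((λ_ X).homCongr (λ_ X))
    haveI := hmu (𝟙_ C) X
    let e2 : (F.obj (𝟙_ C) ⟶ F.obj (𝟙_ C)) ≃ (F.obj X ⟶ F.obj X) := ((Functor.FullyFaithful.ofFullyFaithful (tensorRight (F.obj X))).homEquiv).trans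
      (((asIso (Functor.LaxMonoidal.μ F (𝟙_ C) X)).trans (F.mapIso (λ_ X))).homCongr ((asIso (Functor.LaxMonoidal.μ F (𝟙_ C) X)).trans (F.mapIso (λ_ X))))
    have key : ∀ φ : 𝟙_ C ⟶ 𝟙_ C, F.map (e1 φ) = e2 (F.map φ) := fun φ => by
      simp [e1, e2, Functor.FullyFaithful.homEquiv]
    rw [show (fun φ : X ⟶ X => F.map φ) = e2 ∘ (fun φ : 𝟙_ C ⟶ 𝟙_ C => F.map φ) ∘ e1.symm from funext fun φ => by
      simp only [Function.comp_apply]
      rw [← key, Equiv.apply_symm_apply]]
    exact e2.bijective.comp (h1.comp e1.symm.bijective)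
  haveI : F.Faithful := ⟨fun {X Y} f f' h => by
    have : f ≫ inv f' = 𝟙 X := (hend X).1 (by simp [h])
    simpa using congrArg (· ≫ f') this⟩
  haveI : F.Full := ⟨fun {X Y} g => by
    obtain ⟨e⟩ := h0 X Y ⟨asIso g⟩
    obtain ⟨φ, hφ⟩ := (hend X).2 (g ≫ F.map e.inv)
    refine ⟨φ ≫ e.hom, ?_⟩
    simp only at hφ
    simp [hφ]⟩
  exact { }

end Groth.Agent.S15285
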