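import Groth.Statements.S15307
import Mathlib.Algebra.Homology.ShortComplex.Ab
import Mathlib.Algebra.Category.Grp.Limits
import Mathlib.CategoryTheory.Abelian.RightDerived
import Mathlib.CategoryTheory.Abelian.FunctorCategory
import Mathlib.CategoryTheory.Limits.Types.Limits

set_option autoImplicit false
universe u
open HomAlg3

namespace Groth.Agent.S15307

section
open CategoryTheory CategoryTheory.Limits Opposite

variable (I : ℕᵒᵖ ⥤ AddCommGrpCat.{u})

/-- cofree tower -/
def cofree : ℕᵒᵖ ⥤ AddCommGrpCat.{u} where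
  obj n := AddCommGrpCat.of (∀ k : {k : ℕ // k ≤ n.unop}, I.obj (op k.1))
  map {m n} f := AddCommGrpCat.ofHom
    { toFun := fun x k => x ⟨k.1, k.2.trans (leOfHom f.unop)⟩
      map_zero' := rfl
      map_add' := fun _ _ => rfl }
  map_id _ := rfl
  map_comp _ _ := rfl

def toCofree : I ⟶ cofree I where
  app n := AddCommGrpCat.ofHom
    { toFun := fun x k => I.map (homOfLE k.2).op x
      map_zero' := funext fun _ => map_zero _
      map_add' := fun _ _ => funext fun _ => map_add _ _ _ }
  naturality m n f := by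
    ext x
    funext k
    change I.map (homOfLE k.2).op (I.map f x) = I.map (homOfLE _).op x
    rw [← ConcreteCategory.comp_apply, ← I.map_comp]
    rfl

instance : Mono (toCofree I) := by
  haveI : ∀ n, Mono ((toCofree I).app n) := fun n => by
    rw [AddCommGrpCat.mono_iff_injective]
    intro x y h
    have h' := congrFun h ⟨n.unop, le_rfl⟩
    change I.map (homOfLE _).op x = I.map (homOfLE _).op y at h'
    simpa using h'
  exact NatTrans.mono_of_mono_app _

lemma surjective_map_of_injective [Injective I] {m n : ℕᵒᵖ} (f : m ⟶ n) :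
    Function.Surjective (I.map f) := by
  intro y
  let r := Injective.factorThru (𝟙 I) (toCofree I)
  have hr : toCofree I ≫ r = 𝟙 I := Injective.comp_factorThru _ _
  let z : (cofree I).obj m := fun k =>
    if h : k.1 ≤ n.unop then (toCofree I).app n y ⟨k.1, h⟩ else 0
  have hz : (cofree I).map f z = (toCofree I).app n y := by
    funext k
    exact dif_pos k.2
  refine ⟨r.app m z, ?_⟩
  rw [← NatTrans.naturality_apply, hz, ← ConcreteCategory.comp_apply, ← NatTrans.comp_app, hr]
  rfl

lemma exists_limit_elt (F : ℕᵒᵖ ⥤ AddCommGrpCat.{u}) (y : ∀ n, F.obj (op n))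
    (hy : ∀ n, F.map (homOfLE (Nat.le_succ n)).op (y (n + 1)) = y n) :
    ∃ z : (limit F : AddCommGrpCat.{u}), ∀ n, limit.π F (op n) z = y n := by
  have hall : ∀ {n m : ℕ} (h : n ≤ m), F.map (homOfLE h).op (y m) = y n := by
    intro n m h
    induction m, h using Nat.le_induction with
    | base => simp
    | succ m h ih =>
      rw [show (homOfLE (h.trans (Nat.le_succ m))).op =
        (homOfLE (Nat.le_succ m)).op ≫ (homOfLE h).op from rfl, F.map_comp,
        ConcreteCategory.comp_apply, hy, ih]
  let hl := isLimitOfPreserves (forget AddCommGrpCat.{u}) (limit.isLimit F)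
  let s : (F ⋙ forget AddCommGrpCat.{u}).sections :=
    ⟨fun n => y n.unop, fun {m n} f => hall (leOfHom f.unop)⟩
  exact ⟨(Types.isLimitEquivSections hl).symm s,
    fun n => Types.isLimitEquivSections_symm_apply hl s (op n)⟩

end

open CategoryTheory CategoryTheory.Limits in
/-- For abelian groups, for an inverse system (A_n) of abelian groups indexed by the natural numbers,
the right derived functors lim^(i) A_n of the inverse limit vanish for every i ≥ 2. (The two
instance hypotheses, enough injectives in the category of towers of abelian groups and additivity of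
the limit functor, always hold. The published statement is made in an axiomatic setting that also
covers quasi-coherent sheaves; this row is the case of abelian groups.) -/
theorem result
    [EnoughInjectives (ℕᵒᵖ ⥤ AddCommGrpCat.{u})]
    [(lim : (ℕᵒᵖ ⥤ AddCommGrpCat.{u}) ⥤ AddCommGrpCat.{u}).Additive]
    (A : ℕᵒᵖ ⥤ AddCommGrpCat.{u}) (i : ℕ) (hi : 2 ≤ i) :
    IsZero (((lim : (ℕᵒᵖ ⥤ AddCommGrpCat.{u}) ⥤ AddCommGrpCat.{u}).rightDerived i).obj A) := by
  classical
  obtain ⟨j, rfl⟩ : ∃ j, i = j + 2 := ⟨i - 2, by omega⟩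
  let P : InjectiveResolution A := CategoryTheory.injectiveResolution A
  let L : (ℕᵒᵖ ⥤ AddCommGrpCat.{u}) ⥤ AddCommGrpCat.{u} := lim
  refine IsZero.of_iso ?_ (P.isoRightDerivedObj L (j + 2))
  change IsZero (((L.mapHomologicalComplex _).obj P.cocomplex).homology (j + 2))
  rw [← HomologicalComplex.exactAt_iff_isZero_homology,
    HomologicalComplex.exactAt_iff' _ (j + 1) (j + 2) (j + 3) (by simp) (by simp),
    ShortComplex.ab_exact_iff]
  intro x hx
  let Q := P.cocomplex
  have hsurj : ∀ {m n : ℕᵒᵖ} (f : m ⟶ n), Function.Surjective ((Q.X j).map f) := fun f =>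
    haveI := P.injective j
    surjective_map_of_injective _ f
  have hex : ∀ (k : ℕ) (n : ℕᵒᵖ) (a : (Q.X (k + 1)).obj n),
      (Q.d (k + 1) (k + 2)).app n a = 0 → ∃ b, (Q.d k (k + 1)).app n b = a := fun k n a ha => by
    have h := (HomologicalComplex.exactAt_iff' _ k (k + 1) (k + 2) (by simp) (by simp)).1
      (P.cocomplex_exactAt_succ k)
    exact (ShortComplex.ab_exact_iff _).1
      (h.map ((evaluation ℕᵒᵖ AddCommGrpCat.{u}).obj n)) a ha
  let xs : ∀ n, (Q.X (j + 2)).obj n := fun n => limit.π (Q.X (j + 2)) n x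
  have hxs : ∀ n, (Q.d (j + 2) (j + 3)).app n (xs n) = 0 := fun n => by
    refine (ConcreteCategory.congr_hom (limMap_π (Q.d (j + 2) (j + 3)) n) x).symm.trans ?_
    exact (congrArg (fun z => limit.π (Q.X (j + 3)) n z) hx).trans (map_zero _)
  have hxt : ∀ {m n : ℕᵒᵖ} (f : m ⟶ n), (Q.X (j + 2)).map f (xs m) = xs n := fun f =>
    ConcreteCategory.congr_hom (limit.w (Q.X (j + 2)) f) x
  let S : ℕ → Type u := fun n =>
    {y : (Q.X (j + 1)).obj (Opposite.op n) // (Q.d (j + 1) (j + 2)).app _ y = xs _}
  have hne : ∀ n, Nonempty (S n) := fun n => by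
    obtain ⟨b, hb⟩ := hex (j + 1) _ _ (hxs (Opposite.op n))
    exact ⟨⟨b, hb⟩⟩
  have hstep : ∀ (n : ℕ) (y : S n), ∃ y' : S (n + 1),
      (Q.X (j + 1)).map (homOfLE (Nat.le_succ n)).op y'.1 = y.1 := fun n y => by
    obtain ⟨y', hy'⟩ := hne (n + 1)
    let f := (homOfLE (Nat.le_succ n)).op
    obtain ⟨w, hw⟩ := hex j (Opposite.op n) ((Q.X (j + 1)).map f y' - y.1) (by
      rw [map_sub, NatTrans.naturality_apply, hy', y.2, hxt, sub_self])
    obtain ⟨z, hz⟩ := hsurj f w
    refine ⟨⟨y' - (Q.d j (j + 1)).app _ z, ?_⟩, ?_⟩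
    · have h0 : (Q.d (j + 1) (j + 2)).app _ ((Q.d j (j + 1)).app (Opposite.op (n + 1)) z) = 0 := by
        rw [← ConcreteCategory.comp_apply, ← NatTrans.comp_app, Q.d_comp_d]
        rfl
      rw [map_sub, hy', h0, sub_zero]
    · change (Q.X (j + 1)).map f (y' - _) = y.1
      rw [map_sub, ← NatTrans.naturality_apply, hz, hw, sub_sub_cancel]
  choose step hstep using hstep
  let ys : ∀ n, S n := fun n => Nat.rec (Classical.choice (hne 0)) step n
  obtain ⟨z, hz⟩ := exists_limit_elt (Q.X (j + 1)) (fun n => (ys n).1) fun n => hstep n (ys n)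
  refine ⟨z, Concrete.limit_ext (Q.X (j + 2)) _ _ fun n => ?_⟩
  exact (ConcreteCategory.congr_hom (limMap_π (Q.d (j + 1) (j + 2)) n) z).trans
    ((congrArg _ (hz n.unop)).trans (ys n.unop).2)

end Groth.Agent.S15307
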