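import Groth.Statements.S15315
import Mathlib
-- import your own Groth.Agent.* helpers here

set_option autoImplicit false
universe u
open ArLef

namespace Groth.Agent.S15315

/-- For a Noetherian commutative ring A, elements a, b with a a non-zero-divisor on A/(b), and an ideal
I, one has length(A/(aI + bA)) = length(A/(a, b)) + length(A/(I + bA)) as extended natural numbers;
in particular when two of the three quotients have finite length so does the third. -/
theorem result (A : Type u) [CommRing A] [IsNoetherianRing A] (a b : A) (I : Ideal A)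
    (ha : IsSMulRegular (A ⧸ Ideal.span ({b} : Set A)) a) :
    Module.length A (A ⧸ (Ideal.span {a} * I ⊔ Ideal.span {b})) =
      Module.length A (A ⧸ Ideal.span ({a, b} : Set A)) + Module.length A (A ⧸ (I ⊔ Ideal.span {b})) := by
  set J := Ideal.span {a} * I ⊔ Ideal.span {b} with hJ
  have hle : I ⊔ Ideal.span {b} ≤ Submodule.comap (LinearMap.mulLeft A a) J := by
    refine sup_le (fun x hx => ?_) (fun x hx => ?_)
    · exact Submodule.mem_sup_left (Ideal.mul_mem_mul (Ideal.mem_span_singleton_self a) hx)
    · exact Submodule.mem_sup_right (Ideal.mul_mem_left _ a hx)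
  have hge : Submodule.comap (LinearMap.mulLeft A a) J ≤ I ⊔ Ideal.span {b} := by
    intro x hx
    rw [Submodule.mem_comap, LinearMap.mulLeft_apply, hJ, Submodule.mem_sup] at hx
    obtain ⟨u, hu, v, hv, e⟩ := hx
    obtain ⟨i, hi, rfl⟩ := Ideal.mem_span_singleton_mul.mp hu
    have : x - i ∈ Ideal.span ({b} : Set A) :=
      (isSMulRegular_quotient_iff_mem_of_smul_mem _ a).mp ha (x - i) (by
        rw [smul_eq_mul, mul_sub, ← e, add_sub_cancel_left]; exact hv)
    simpa using Submodule.add_mem_sup hi this
  have hJab : J ≤ Submodule.comap (LinearMap.id : A →ₗ[A] A) (Ideal.span ({a, b} : Set A)) := by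
    rw [Submodule.comap_id, hJ, Ideal.span_insert]
    exact sup_le_sup_right Ideal.mul_le_left _
  let f := Submodule.mapQ (I ⊔ Ideal.span {b}) J (LinearMap.mulLeft A a) hle
  let g := Submodule.mapQ J (Ideal.span ({a, b} : Set A)) LinearMap.id hJab
  rw [add_comm]
  refine Module.length_eq_add_of_exact f g ?_ ?_ ?_
  · rw [← LinearMap.ker_eq_bot]
    rw [Submodule.ker_mapQ]
    rw [← LinearMap.le_ker_iff_map, Submodule.ker_mkQ]
    exact hge
  · intro y
    obtain ⟨y, rfl⟩ := Submodule.Quotient.mk_surjective _ y
    exact ⟨Submodule.Quotient.mk y, rfl⟩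
  · intro y
    obtain ⟨y, rfl⟩ := Submodule.Quotient.mk_surjective _ y
    constructor
    · intro hy
      have hy' : y ∈ Ideal.span ({a, b} : Set A) := (Submodule.Quotient.mk_eq_zero _).mp hy
      obtain ⟨c, d, rfl⟩ := Ideal.mem_span_pair.mp hy'
      refine ⟨Submodule.Quotient.mk c, (Submodule.Quotient.eq _).mpr ?_⟩
      refine Submodule.mem_sup_right (Ideal.mem_span_singleton.mpr ⟨-d, ?_⟩)
      simp only [LinearMap.mulLeft_apply]; ring
    · rintro ⟨c, hc⟩
      obtain ⟨c, rfl⟩ := Submodule.Quotient.mk_surjective _ c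
      rw [← hc]
      exact (Submodule.Quotient.mk_eq_zero _).mpr (Ideal.mul_mem_right c _ (Ideal.subset_span (by simp)))

end Groth.Agent.S15315
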