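import Groth.Statements.S15317
import Groth.Agent.H7.Node.Auto

set_option autoImplicit false
set_option backward.isDefEq.respectTransparency false
universe u
open ArLef ArLef.NodeAlg

namespace Groth.Agent.S15317

/-- Let B be a discrete valuation ring with uniformizer π, N = B[[t, e]]/(te - π), and σ a non-trivial
B-algebra automorphism of N stabilizing both branches of the closed fibre (σ(t) associated to t,
σ(e) associated to e). Then the fixed-point ideal of σ, generated by all σ(r) - r, is g·(t, e) for a
non-zero g: the divisorial part of the fixed locus is cut out by g and its residual part is the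
reduced closed point, of multiplicity one. (Stated in the complete local ring, where the published
argument takes place; the published setting has B complete with algebraically closed residue field.) -/
theorem result (B : Type u) [CommRing B] [IsDomain B] [IsDiscreteValuationRing B] (π : B) (hπ : Irreducible π)
    (σ : ArLef.NodeAlg B π ≃ₐ[B] ArLef.NodeAlg B π) (hσ : σ ≠ AlgEquiv.refl)
    (ht : Associated (σ (ArLef.NodeAlg.t π)) (ArLef.NodeAlg.t π))
    (he : Associated (σ (ArLef.NodeAlg.e π)) (ArLef.NodeAlg.e π)) :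
    ∃ g : ArLef.NodeAlg B π, g ≠ 0 ∧
      ArLef.fixIdeal σ = Ideal.span {g} * Ideal.span ({ArLef.NodeAlg.t π, ArLef.NodeAlg.e π} : Set (ArLef.NodeAlg B π)) := by
  open Groth.Agent.H7.Node in
  obtain ⟨u, hu⟩ := ht.symm
  obtain ⟨v, hv⟩ := he.symm
  rw [mul_comm] at hu hv
  have H := br hπ
  have hr := rel hπ σ.toRingEquiv u v 0 0 (by simp) hu.symm hv.symm
  rw [map_zero, zero_mul] at hr
  set T := ArLef.NodeAlg.t π
  set E := ArLef.NodeAlg.e π
  set a : ArLef.NodeAlg B π := (u : ArLef.NodeAlg B π) - 1 with ha
  have hmul : (v : ArLef.NodeAlg B π) - 1 = -((↑u⁻¹ : ArLef.NodeAlg B π) * a) := by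
    linear_combination (↑u⁻¹ : ArLef.NodeAlg B π) * hr - ((v : ArLef.NodeAlg B π) - 1) * u.inv_mul
  have hI : ArLef.fixIdeal σ = Ideal.span {a} * Ideal.span {T, E} := by
    rw [fix_eq_alg hπ, Ideal.span_mul_span', Set.singleton_mul, Set.image_pair, ← hu, ← hv]
    refine le_antisymm ?_ ?_ <;> rw [Ideal.span_le]
    · rintro z (rfl | rfl)
      · exact Ideal.mem_span_pair.2 ⟨1, 0, by ring⟩
      · exact Ideal.mem_span_pair.2 ⟨0, -(↑u⁻¹ : ArLef.NodeAlg B π), by linear_combination -E * hmul⟩
    · rintro z (rfl | rfl)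
      · exact Ideal.mem_span_pair.2 ⟨1, 0, by ring⟩
      · exact Ideal.mem_span_pair.2 ⟨0, -(u : ArLef.NodeAlg B π), by linear_combination -E * (u : ArLef.NodeAlg B π) * hmul + E * a * u.mul_inv⟩
  refine ⟨a, fun h0 => hσ ?_, hI⟩
  rw [h0, Ideal.span_singleton_zero, Ideal.bot_mul] at hI
  refine AlgEquiv.ext fun r => ?_
  have := sub_mem_fixIdeal (σ : _ → _) r
  rw [hI, Ideal.mem_bot, sub_eq_zero] at this
  exact this

end Groth.Agent.S15317
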