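import Groth.Statements.S15318
import Groth.Agent.H7.Node.Auto

set_option autoImplicit false
set_option backward.isDefEq.respectTransparency false
universe u
open ArLef ArLef.NodeAlg

namespace Groth.Agent.S15318

/-- Let B be a discrete valuation ring with uniformizer π, N = B[[t, e]]/(te - π), and σ a B-algebra
automorphism of N switching the two branches of the closed fibre (σ(t) associated to e, σ(e)
associated to t). Then the fixed-point ideal of σ is principal, generated by an element h of order
one (h is not in (t, e)²), and π is a non-zero-divisor modulo h: the fixed locus is a horizontal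
regular divisor through the point with empty residual part. (Stated in the complete local ring,
where the published argument takes place; the published setting has B complete with algebraically
closed residue field.) -/
theorem result (B : Type u) [CommRing B] [IsDomain B] [IsDiscreteValuationRing B] (π : B) (hπ : Irreducible π)
    (σ : ArLef.NodeAlg B π ≃ₐ[B] ArLef.NodeAlg B π)
    (ht : Associated (σ (ArLef.NodeAlg.t π)) (ArLef.NodeAlg.e π))
    (he : Associated (σ (ArLef.NodeAlg.e π)) (ArLef.NodeAlg.t π)) :
    ∃ h : ArLef.NodeAlg B π, ArLef.fixIdeal σ = Ideal.span {h} ∧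
      h ∉ (Ideal.span ({ArLef.NodeAlg.t π, ArLef.NodeAlg.e π} : Set (ArLef.NodeAlg B π))) ^ 2 ∧
      IsSMulRegular (ArLef.NodeAlg B π ⧸ Ideal.span ({h} : Set (ArLef.NodeAlg B π))) π := by
  open Groth.Agent.H7.Node in
  obtain ⟨u, hu⟩ := ht.symm
  obtain ⟨v, hv⟩ := he.symm
  rw [mul_comm] at hu hv
  have H := br hπ
  have hr := rel_switch hπ σ.toRingEquiv u v 0 0 (by simp) hu.symm hv.symm
  rw [map_zero, zero_mul, sub_eq_zero] at hr
  set T := ArLef.NodeAlg.t π
  set E := ArLef.NodeAlg.e π
  set h : ArLef.NodeAlg B π := T - (u : ArLef.NodeAlg B π) * E with hh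
  refine ⟨h, ?_, ?_, ?_⟩
  · rw [fix_eq_alg hπ, ← hu, ← hv]
    refine le_antisymm ?_ ?_ <;> rw [Ideal.span_le]
    · rintro z (rfl | rfl)
      · exact Ideal.mem_span_singleton'.2 ⟨-1, by ring⟩
      · exact Ideal.mem_span_singleton'.2 ⟨v, by linear_combination -E * hr⟩
    · rintro z rfl
      exact Ideal.mem_span_pair.2 ⟨-1, 0, by ring⟩
  · intro hm
    have h2 : h ∈ Ideal.span {T, E * E} := by
      refine (?_ : Ideal.span ({T, E} : Set _) ^ 2 ≤ _) hm
      rw [show Ideal.span ({T, E} : Set _) ^ 2 = Ideal.span {T, E} * Ideal.span {T, E} from sq _,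
        Ideal.span_mul_span', Ideal.span_le]
      rintro _ ⟨x, hx, y, hy, rfl⟩
      rcases hx with rfl | rfl <;> rcases hy with rfl | rfl
      · exact Ideal.mem_span_pair.2 ⟨T, 0, by ring⟩
      · exact Ideal.mem_span_pair.2 ⟨E, 0, by ring⟩
      · exact Ideal.mem_span_pair.2 ⟨E, 0, by ring⟩
      · exact Ideal.subset_span (by simp)
    obtain ⟨x, y, hxy⟩ := Ideal.mem_span_pair.1 h2
    have hd : T ∣ E * ((u : ArLef.NodeAlg B π) + y * E) := ⟨1 - x, by linear_combination hxy⟩
    obtain ⟨z, hz⟩ := (H.primeT.dvd_or_dvd hd).resolve_left H.notTE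
    refine (mem_mm_iff hπ.maximalIdeal_eq (u : ArLef.NodeAlg B π)).1 ?_ u.isUnit
    exact Ideal.mem_span_pair.2 ⟨z, -y, by linear_combination -hz⟩
  · intro x y hxy
    obtain ⟨x, rfl⟩ := Submodule.Quotient.mk_surjective _ x
    obtain ⟨y, rfl⟩ := Submodule.Quotient.mk_surjective _ y
    dsimp only at hxy
    rw [← Submodule.Quotient.mk_smul, ← Submodule.Quotient.mk_smul, Submodule.Quotient.eq, ← smul_sub] at hxy
    replace hxy : h ∣ algebraMap B (ArLef.NodeAlg B π) π * (x - y) := by
      refine Ideal.mem_span_singleton.1 ?_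
      convert hxy using 1
      exact (Algebra.smul_def π (x - y)).symm
    rw [← te_eq] at hxy
    have n1 : NzdMod h T := nzdMod_of_prime H.primeT (fun hd => by
      have : T ∣ (u : ArLef.NodeAlg B π) * E := by simpa [hh] using dvd_sub (dvd_refl T) hd
      exact (H.primeT.dvd_or_dvd this).elim (fun h' => H.primeT.not_isUnit (isUnit_of_dvd_unit h' u.isUnit)) H.notTE) H.regT
    have n2 : NzdMod h E := nzdMod_of_prime H.primeE (fun hd => H.notET (by
      simpa [hh] using dvd_add hd (dvd_mul_left E (u : ArLef.NodeAlg B π)))) H.regE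
    rw [Submodule.Quotient.eq, Ideal.mem_span_singleton]
    exact (n1.mul n2) _ hxy

end Groth.Agent.S15318
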