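import Groth.Statements.S15319
import Groth.Agent.H7.Node.Auto

set_option autoImplicit false
set_option backward.isDefEq.respectTransparency false
universe u
open ArLef ArLef.NodeAlg

namespace Groth.Agent.S15319

/-- Let B be a discrete valuation ring with uniformizer π, N = B[[t, e]]/(te - π) the complete local
ring of a semi-stable arithmetic surface over B at a singular point of the closed fibre, and σ a
ring automorphism of N sending π to π + γ π^j with γ a unit of B and j ≥ 1 (σ lies over an
automorphism τ of B with v(τ(π) - π) = j). Then the fixed-point ideal of σ is not contained in (π^j)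
= (t^j e^j): the two branches through the point cannot both occur with multiplicity j in the
divisorial part of the fixed locus. (The published setting has B complete with algebraically closed
residue field.) -/
theorem result (B : Type u) [CommRing B] [IsDomain B] [IsDiscreteValuationRing B] (π : B) (hπ : Irreducible π)
    (j : ℕ) (hj : 1 ≤ j) (γ : B) (hγ : IsUnit γ)
    (σ : ArLef.NodeAlg B π ≃+* ArLef.NodeAlg B π)
    (hσ : σ (algebraMap B (ArLef.NodeAlg B π) π) = algebraMap B (ArLef.NodeAlg B π) (π + γ * π ^ j)) :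
    ¬ ArLef.fixIdeal σ ≤ Ideal.span ({algebraMap B (ArLef.NodeAlg B π) (π ^ j)} : Set (ArLef.NodeAlg B π)) := by
  open Groth.Agent.H7.Node in
  obtain ⟨k, rfl⟩ : ∃ k, j = k + 1 := ⟨j - 1, by omega⟩
  intro hle
  have H := br hπ
  set T := ArLef.NodeAlg.t π
  set E := ArLef.NodeAlg.e π
  set am := algebraMap B (ArLef.NodeAlg B π)
  have hmem : ∀ z, ∃ x, σ z - z = x * (T ^ (k + 1) * E ^ (k + 1)) := fun z => by
    obtain ⟨x, hx⟩ := Ideal.mem_span_singleton'.1 (hle (sub_mem_fixIdeal (σ : _ → _) z))
    exact ⟨x, by rw [← hx, map_pow, ← te_eq, mul_pow]⟩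
  obtain ⟨-, ⟨α, β, ht, he⟩ | ⟨α, β, ht, he⟩⟩ := dichotomy hπ σ (1 + am γ * am π ^ k)
    (by rw [hσ, map_add, map_mul, map_pow]; ring)
  · obtain ⟨x, hx⟩ := hmem T
    obtain ⟨y, hy⟩ := hmem E
    rw [ht] at hx
    rw [he] at hy
    have ha : (α : ArLef.NodeAlg B π) - 1 = x * (T ^ k * E ^ (k + 1)) := H.regT (by
      show T * _ = T * _
      linear_combination hx)
    have hb : (β : ArLef.NodeAlg B π) - 1 = y * (T ^ (k + 1) * E ^ k) := H.regE (by
      show E * _ = E * _
      linear_combination hy)
    have h := rel hπ σ _ _ k γ hσ ht he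
    rw [ha, hb] at h
    have hg : am γ = E * x + T * ((α : ArLef.NodeAlg B π) * y) := by
      refine ((H.regT.pow k).mul (H.regE.pow k)) ?_
      show T ^ k * E ^ k * _ = T ^ k * E ^ k * _
      linear_combination -h
    refine (mem_mm_iff hπ.maximalIdeal_eq (am γ)).1 ?_ (hγ.map _)
    exact Ideal.mem_span_pair.2 ⟨(α : ArLef.NodeAlg B π) * y, x, by rw [hg]; ring⟩
  · obtain ⟨x, hx⟩ := hmem T
    rw [ht] at hx
    have : T ∣ (α : ArLef.NodeAlg B π) * E := ⟨1 + x * (T ^ k * E ^ (k + 1)), by linear_combination hx⟩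
    exact (H.primeT.dvd_or_dvd this).elim (fun h => H.primeT.not_isUnit (isUnit_of_dvd_unit h α.isUnit)) H.notTE

end Groth.Agent.S15319
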