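import Groth.Statements.S15320
import Groth.Agent.H7.Node.Auto
import Groth.Agent.H7.Node.Smooth

set_option autoImplicit false
set_option backward.isDefEq.respectTransparency false
universe u
open ArLef ArLef.NodeAlg

namespace Groth.Agent.S15320

/-- Let B be a discrete valuation ring with uniformizer π, N = B[[t, e]]/(te - π) the complete local
ring of a semi-stable arithmetic surface over B at a singular point x of the closed fibre, and σ a
ring automorphism of N over an automorphism τ of B with v(τ(π) - π) = j ≥ 1, that is σ(π) = π + γ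
π^j with γ a unit of B, and with σ(b) - b ∈ π^j N for every b ∈ B (automatic when B is totally
ramified over the fixed ring of τ, as in the published setting, where the residue field is
algebraically closed). If σ switches the two branches through x (σ(t) associated to e and σ(e) to
t), then the fixed-point ideal I of σ is contained in no proper principal ideal (x is not on the
divisorial part of the fixed locus) and N/I has length 2j - 1 (the multiplicity of x in the residual
fixed-point scheme). -/
theorem result (B : Type u) [CommRing B] [IsDomain B] [IsDiscreteValuationRing B] (π : B) (hπ : Irreducible π)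
    (j : ℕ) (hj : 1 ≤ j) (γ : B) (hγ : IsUnit γ)
    (σ : ArLef.NodeAlg B π ≃+* ArLef.NodeAlg B π)
    (hσB : ∀ b : B, σ (algebraMap B (ArLef.NodeAlg B π) b) - algebraMap B (ArLef.NodeAlg B π) b ∈
      Ideal.span ({algebraMap B (ArLef.NodeAlg B π) (π ^ j)} : Set (ArLef.NodeAlg B π)))
    (hσπ : σ (algebraMap B (ArLef.NodeAlg B π) π) = algebraMap B (ArLef.NodeAlg B π) (π + γ * π ^ j))
    (ht : Associated (σ (ArLef.NodeAlg.t π)) (ArLef.NodeAlg.e π)) (he : Associated (σ (ArLef.NodeAlg.e π)) (ArLef.NodeAlg.t π)) :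
    (∀ g : ArLef.NodeAlg B π, ArLef.fixIdeal σ ≤ Ideal.span ({g} : Set (ArLef.NodeAlg B π)) → IsUnit g) ∧
      Module.length (ArLef.NodeAlg B π) (ArLef.NodeAlg B π ⧸ ArLef.fixIdeal σ) = ((2 * j - 1 : ℕ) : ℕ∞) := by
  open Groth.Agent.H7.Node in
  obtain ⟨k, rfl⟩ : ∃ k, j = k + 1 := ⟨j - 1, by omega⟩
  obtain ⟨u, hu⟩ := ht.symm
  obtain ⟨v, hv⟩ := he.symm
  rw [mul_comm] at hu hv
  have H := br hπ
  have hr := rel_switch hπ σ u v k γ hσπ hu.symm hv.symm
  rw [fix_eq hπ σ (k + 1) γ hγ hσB hσπ, ← hu, ← hv]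
  set T := ArLef.NodeAlg.t π
  set E := ArLef.NodeAlg.e π
  set g0 := algebraMap B (ArLef.NodeAlg B π) γ with hg0
  set h : ArLef.NodeAlg B π := T - (u : ArLef.NodeAlg B π) * E with hh
  have hnT : ¬ T ∣ h := fun hd => by
    have : T ∣ (u : ArLef.NodeAlg B π) * E := by simpa [hh] using dvd_sub (dvd_refl T) hd
    exact (H.primeT.dvd_or_dvd this).elim (fun h' => H.primeT.not_isUnit (isUnit_of_dvd_unit h' u.isUnit)) H.notTE
  have hnE : ¬ E ∣ h := fun hd => H.notET (by
    simpa [hh] using dvd_add hd (dvd_mul_left E (u : ArLef.NodeAlg B π)))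
  have hI : Ideal.span {T ^ (k + 1) * E ^ (k + 1), (u : ArLef.NodeAlg B π) * E - T, (v : ArLef.NodeAlg B π) * T - E}
      = Ideal.span {h, T ^ k * E ^ (k + 1)} := by
    obtain ⟨gu, hgu⟩ := hγ.map (algebraMap B (ArLef.NodeAlg B π))
    refine le_antisymm ?_ ?_ <;> rw [Ideal.span_le]
    · rintro z (rfl | rfl | rfl)
      · exact Ideal.mem_span_pair.2 ⟨0, T, by ring⟩
      · exact Ideal.mem_span_pair.2 ⟨-1, 0, by ring⟩
      · exact Ideal.mem_span_pair.2 ⟨v, g0, by linear_combination -E * hr⟩
    · rintro z (rfl | rfl)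
      · exact Submodule.mem_span_of_mem (by simp) |> fun (hmem : (u : ArLef.NodeAlg B π) * E - T ∈ Ideal.span {T ^ (k + 1) * E ^ (k + 1), (u : ArLef.NodeAlg B π) * E - T, (v : ArLef.NodeAlg B π) * T - E}) => by
          rw [SetLike.mem_coe, show h = -((u : ArLef.NodeAlg B π) * E - T) by ring]; exact neg_mem hmem
      · rw [SetLike.mem_coe, ← Ideal.unit_mul_mem_iff_mem _ gu.isUnit, hgu, ← hg0,
          show g0 * (T ^ k * E ^ (k + 1)) = ((v : ArLef.NodeAlg B π) * T - E) + (v : ArLef.NodeAlg B π) * ((u : ArLef.NodeAlg B π) * E - T) by linear_combination -E * hr]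
        exact add_mem (Ideal.subset_span (by simp)) (Ideal.mul_mem_left _ _ (Ideal.subset_span (by simp)))
  rw [hI]
  refine ⟨fun g hg => ?_, ?_⟩
  · have h1 : g ∣ h := Ideal.mem_span_singleton.1 (hg (Ideal.subset_span (by simp)))
    exact H.isUnit_of_dvd (m := k) (n := k + 1) (Ideal.mem_span_singleton.1 (hg (Ideal.subset_span (by simp))))
      (fun hd => hnT (hd.trans h1)) (fun hd => hnE (hd.trans h1))
  · have nT : NzdMod h T := nzdMod_of_prime H.primeT hnT H.regT
    have nE : NzdMod h E := nzdMod_of_prime H.primeE hnE H.regE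
    have eT : Ideal.span {h, T} = Ideal.span {T, E} := by
      refine le_antisymm ?_ ?_ <;> rw [Ideal.span_le]
      · rintro z (rfl | rfl)
        · exact Ideal.mem_span_pair.2 ⟨1, -(u : ArLef.NodeAlg B π), by ring⟩
        · exact Ideal.subset_span (by simp)
      · rintro z (rfl | rfl)
        · exact Ideal.subset_span (by simp)
        · exact Ideal.mem_span_pair.2 ⟨-(↑u⁻¹ : ArLef.NodeAlg B π), (↑u⁻¹ : ArLef.NodeAlg B π), by linear_combination E * u.inv_mul⟩
    have eE : Ideal.span {h, E} = Ideal.span {T, E} := by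
      refine le_antisymm ?_ ?_ <;> rw [Ideal.span_le]
      · rintro z (rfl | rfl)
        · exact Ideal.mem_span_pair.2 ⟨1, -(u : ArLef.NodeAlg B π), by ring⟩
        · exact Ideal.subset_span (by simp)
      · rintro z (rfl | rfl)
        · exact Ideal.mem_span_pair.2 ⟨1, (u : ArLef.NodeAlg B π), by ring⟩
        · exact Ideal.subset_span (by simp)
    show len _ = _
    rw [len_pair_mul h (T ^ k) (E ^ (k + 1)) (nT.pow k), len_pair_pow h T nT, len_pair_pow h E nE, eT, eE,
      H.len_one, mul_one, mul_one, ← Nat.cast_add]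
    congr 1
    omega

end Groth.Agent.S15320
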