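import Groth.Statements.S15325
import Groth.Agent.H7.Node.Auto

set_option autoImplicit false
set_option backward.isDefEq.respectTransparency false
universe u
open ArLef ArLef.NodeAlg

namespace Groth.Agent.S15325

/-- Let k be a field, A = k[[t, e]]/(te) the complete local ring of a nodal curve at a node x, and σ a
k-algebra automorphism of A fixing the two branches, σ(t) = α t and σ(e) = β e with units α, β.
Writing I for the fixed-point ideal of σ (generated by all σ(r) - r), the fixed-point multiplicity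
length(A/I) of σ at x and the fixed-point multiplicities length(A/(I + (t))), length(A/(I + (e))) of
the automorphisms induced on the two branches satisfy length(A/I) + 1 = length(A/(I + (t))) +
length(A/(I + (e))), as extended natural numbers (both sides are infinite when σ fixes a branch
pointwise). (The published setting has k algebraically closed.) -/
theorem result (k : Type u) [Field k]
    (σ : ArLef.NodeAlg k 0 ≃ₐ[k] ArLef.NodeAlg k 0) (α β : (ArLef.NodeAlg k 0)ˣ)
    (ht : σ (ArLef.NodeAlg.t (0 : k)) = (α : ArLef.NodeAlg k 0) * ArLef.NodeAlg.t (0 : k)) (he : σ (ArLef.NodeAlg.e (0 : k)) = (β : ArLef.NodeAlg k 0) * ArLef.NodeAlg.e (0 : k)) :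
    Module.length (ArLef.NodeAlg k 0) (ArLef.NodeAlg k 0 ⧸ ArLef.fixIdeal σ) + 1 =
      Module.length (ArLef.NodeAlg k 0) (ArLef.NodeAlg k 0 ⧸ (ArLef.fixIdeal σ ⊔ Ideal.span ({ArLef.NodeAlg.t (0 : k)} : Set (ArLef.NodeAlg k 0)))) +
        Module.length (ArLef.NodeAlg k 0) (ArLef.NodeAlg k 0 ⧸ (ArLef.fixIdeal σ ⊔ Ideal.span ({ArLef.NodeAlg.e (0 : k)} : Set (ArLef.NodeAlg k 0)))) := by
  open Groth.Agent.H7.Node in
  have hk : IsLocalRing.maximalIdeal k = Ideal.span {(0 : k)} := by
    rw [Ideal.span_singleton_zero]; exact IsLocalRing.maximalIdeal_eq_bot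
  have pT := prime_t hk
  have pE := prime_e hk
  set T := ArLef.NodeAlg.t (0 : k)
  set E := ArLef.NodeAlg.e (0 : k)
  have hte : T * E = 0 := by rw [te_eq, map_zero]
  set a : ArLef.NodeAlg k 0 := (α : ArLef.NodeAlg k 0) - 1
  set b : ArLef.NodeAlg k 0 := (β : ArLef.NodeAlg k 0) - 1
  have hI : ArLef.fixIdeal σ = Ideal.span {a * T, b * E} := by
    refine le_antisymm ?_ ?_
    · refine fixIdeal_le hk σ.toRingEquiv _ (fun c => ?_) ?_ ?_
      · rw [AlgEquiv.toRingEquiv_eq_coe, AlgEquiv.coe_ringEquiv, AlgEquiv.commutes, sub_self]; exact zero_mem _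
      · exact Ideal.mem_span_pair.2 ⟨1, 0, by show _ = σ T - T; rw [ht]; ring⟩
      · exact Ideal.mem_span_pair.2 ⟨0, 1, by show _ = σ E - E; rw [he]; ring⟩
    · rw [Ideal.span_le]
      rintro z (rfl | rfl)
      · rw [SetLike.mem_coe, show a * T = σ T - T by rw [ht]; ring]
        exact sub_mem_fixIdeal (σ : _ → _) T
      · rw [SetLike.mem_coe, show b * E = σ E - E by rw [he]; ring]
        exact sub_mem_fixIdeal (σ : _ → _) E
  have nET : NzdMod E T := fun r h => (pE.dvd_or_dvd h).resolve_left (not_e_dvd_t hk)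
  have hcol : ∀ r, r ∈ Ideal.span {E, a} ↔ T * r ∈ ArLef.fixIdeal σ := by
    intro r
    rw [hI]
    constructor
    · intro h
      obtain ⟨x, y, rfl⟩ := Ideal.mem_span_pair.1 h
      exact Ideal.mem_span_pair.2 ⟨y, 0, by linear_combination -x * hte⟩
    · intro h
      obtain ⟨x, y, h⟩ := Ideal.mem_span_pair.1 h
      obtain ⟨q, hq⟩ := nET (r - x * a) ⟨y * b, by linear_combination -h⟩
      exact Ideal.mem_span_pair.2 ⟨q, x, by linear_combination -hq⟩
  have eE : ArLef.fixIdeal σ ⊔ Ideal.span {E} = Ideal.span {E, T * a} := by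
    rw [hI]
    refine le_antisymm (sup_le ?_ (Ideal.span_mono (by simp))) ?_ <;> rw [Ideal.span_le]
    · rintro z (rfl | rfl)
      · exact Ideal.mem_span_pair.2 ⟨0, 1, by ring⟩
      · exact Ideal.mem_span_pair.2 ⟨b, 0, by ring⟩
    · rintro z (rfl | rfl)
      · exact Submodule.mem_sup_right (Ideal.mem_span_singleton_self _)
      · exact Submodule.mem_sup_left (Ideal.mem_span_pair.2 ⟨1, 0, by ring⟩)
  show len (ArLef.fixIdeal σ) + 1 = len _ + len _
  rw [len_colon _ _ T hcol, eE, len_pair_mul E T a nET,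
    show Ideal.span {E, T} = mm (0 : k) from Ideal.span_pair_comm, len_mm hk]
  ring

end Groth.Agent.S15325
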