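import Groth.Statements.S15326
import Mathlib.Tactic.LinearCombination

set_option autoImplicit false
universe u
open ArLef

namespace Groth.Agent.S15326

/-- Let A be a commutative ring, t an element generating a prime ideal (a local equation of an
irreducible component C of the closed fibre), v an element outside (t) with π = vt the uniformizer,
and σ a ring automorphism of A with σ(vt) = vt whose fixed-point ideal is contained in (t^i) for
some i ≥ 1 (C has multiplicity at least i in the fixed locus). Then σ(t) - t lies in t^(i+1) A_(t),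
the localization at the prime (t): σ - 1 vanishes on (t)/(t^(i+1)) at the generic point of C. -/
theorem result (A : Type u) [CommRing A] (t v : A)
    [ht : (Ideal.span ({t} : Set A)).IsPrime] (hv : v ∉ Ideal.span ({t} : Set A))
    (σ : A ≃+* A) (hσ : σ (v * t) = v * t) (i : ℕ) (hi : 1 ≤ i)
    (hI : ArLef.fixIdeal σ ≤ Ideal.span ({t ^ i} : Set A)) :
    algebraMap A (Localization.AtPrime (Ideal.span ({t} : Set A))) (σ t - t) ∈
      Ideal.span ({algebraMap A (Localization.AtPrime (Ideal.span ({t} : Set A))) (t ^ (i + 1))} :
        Set (Localization.AtPrime (Ideal.span ({t} : Set A)))) := by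
  set P := Ideal.span ({t} : Set A) with hP
  set L := Localization.AtPrime P
  have hle : Ideal.span ({t ^ i} : Set A) ≤ P := Ideal.span_singleton_le_span_singleton.mpr
    (dvd_pow_self t (by omega))
  have hvfix : σ v - v ∈ Ideal.span ({t ^ i} : Set A) := hI (Ideal.subset_span ⟨v, rfl⟩)
  have hσv : σ v ∉ P := fun h => hv (by simpa using P.sub_mem h (hle hvfix))
  obtain ⟨c, hc⟩ := Ideal.mem_span_singleton'.mp hvfix
  have key : σ v * (σ t - t) = -(c * t ^ (i + 1)) := by
    rw [map_mul] at hσ
    linear_combination hσ + t * hc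
  have hu : IsUnit (algebraMap A L (σ v)) :=
    IsLocalization.map_units L (⟨σ v, hσv⟩ : P.primeCompl)
  obtain ⟨u, hu⟩ := hu
  refine Ideal.mem_span_singleton.mpr ⟨(↑u⁻¹ : L) * algebraMap A L (-c), ?_⟩
  rw [← mul_assoc, mul_comm _ (↑u⁻¹ : L), mul_assoc, ← map_mul, mul_comm (t ^ (i + 1)), neg_mul, ← key,
    map_mul, ← hu, ← mul_assoc, Units.inv_mul, one_mul]

end Groth.Agent.S15326
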