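import Groth.Statements.S15327
import Mathlib.LinearAlgebra.Matrix.PosDef
import Mathlib.Data.Rat.Star
import Mathlib.Tactic.Ring
import Mathlib.Tactic.Linarith
-- import your own Groth.Agent.* helpers here

set_option autoImplicit false
open ArLef ArLef.BlowupGraph

namespace Groth.Agent.S15327

open Finset Matrix

variable {n : ℕ} (G : ArLef.BlowupGraph n)

/-- change of basis from total transforms to strict transforms -/
def parQ : Matrix (Fin n) (Fin n) ℚ :=
  fun k m => (if k = m then 1 else 0) - (if k ∈ G.par m then 1 else 0)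

def ttQ : Matrix (Fin n) (Fin n) ℚ := fun k m => (G.tt k m : ℚ)

lemma ttN_rec (k m : ℕ) :
    G.ttN k m = if m < k then 0 else if m = k then 1 else ∑ p ∈ G.parN m, G.ttN k p := by
  conv_lhs => rw [ArLef.BlowupGraph.ttN]
  simp only [Finset.sum_attach (G.parN m) (fun p => G.ttN k p)]

lemma tt_sub_sum (k m : Fin n) :
    G.tt k m - ∑ p ∈ G.par m, G.tt k p = if k = m then 1 else 0 := by
  have hs : ∑ p ∈ G.parN m.1, G.ttN k.1 p = ∑ p ∈ G.par m, G.tt k p := by
    rw [ArLef.BlowupGraph.parN, dif_pos m.2, Finset.sum_map]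
    rfl
  have hrec := ttN_rec G k.1 m.1
  rw [hs] at hrec
  have hz : m.1 ≤ k.1 → ∑ p ∈ G.par m, G.tt k p = 0 := by
    intro h
    refine Finset.sum_eq_zero fun p hp => ?_
    have hlt : p.1 < k.1 := lt_of_lt_of_le (G.par_lt m p hp) h
    show G.ttN k.1 p.1 = 0
    rw [ttN_rec, if_pos hlt]
  show G.ttN k.1 m.1 - _ = _
  rcases lt_trichotomy m.1 k.1 with h | h | h
  · rw [hrec, if_pos h, hz h.le, if_neg (fun e => by subst e; omega)]; simp
  · rw [hrec, if_neg (by omega), if_pos h, hz h.le, if_pos (Fin.ext h.symm)]; simp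
  · rw [hrec, if_neg (by omega), if_neg (by omega), if_neg (fun e => by subst e; omega)]; simp

lemma ttQ_mul_parQ : ttQ G * parQ G = 1 := by
  ext k m
  have h := congrArg (fun x : ℤ => (x : ℚ)) (tt_sub_sum G k m)
  push_cast at h
  simp only [Matrix.mul_apply, ttQ, parQ, mul_sub, Finset.sum_sub_distrib, mul_ite, mul_one,
    mul_zero, Finset.sum_ite_eq', Finset.mem_univ, if_true, Matrix.one_apply]
  rw [Finset.sum_ite_mem, Finset.univ_inter]
  convert h using 1

lemma parQ_mul_ttQ : parQ G * ttQ G = 1 := mul_eq_one_comm.mp (ttQ_mul_parQ G)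

lemma adj_comm (p q : Fin n) : G.Adj p q ↔ G.Adj q p := by
  unfold ArLef.BlowupGraph.Adj; tauto

lemma off_diag {p q : Fin n} (h : p < q) :
    (if p ∈ G.par q then (1 : ℚ) else 0) -
      ((Finset.univ.filter fun m => p ∈ G.par m ∧ q ∈ G.par m).card : ℚ) =
    if G.Adj p q then 1 else 0 := by
  have hqp : q ∉ G.par p := fun hh => (lt_asymm h) (G.par_lt p q hh)
  have hpair : ∀ m, p ∈ G.par m → q ∈ G.par m → G.par m = {p, q} := by
    intro m hp hq
    refine (Finset.eq_of_subset_of_card_le ?_ ?_).symm
    · intro x hx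
      rcases Finset.mem_insert.mp hx with rfl | hx
      · exact hp
      · rwa [Finset.mem_singleton.mp hx]
    · rw [Finset.card_pair h.ne]; exact G.card_le_two m
  by_cases hS : ∃ m, p ∈ G.par m ∧ q ∈ G.par m
  · obtain ⟨m, hp, hq⟩ := hS
    have hm := G.meet_of_two m p q hp hq h
    have hset : (Finset.univ.filter fun m => p ∈ G.par m ∧ q ∈ G.par m) = {m} := by
      ext m'
      simp only [Finset.mem_filter, Finset.mem_univ, true_and, Finset.mem_singleton]
      refine ⟨fun ⟨hp', hq'⟩ => ?_, fun e => e ▸ ⟨hp, hq⟩⟩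
      rcases lt_trichotomy m' m with hlt | he | hlt
      · exact absurd (hpair m' hp' hq') (hm.2 m' (G.par_lt m' q hq') hlt)
      · exact he
      · exact absurd (hpair m hp hq)
          ((G.meet_of_two m' p q hp' hq' h).2 m (G.par_lt m q hq) hlt)
    have hnadj : ¬ G.Adj p q := by
      rintro (⟨-, hh⟩ | ⟨hh, -⟩)
      · exact hh m (G.par_lt m q hq) (hpair m hp hq)
      · exact hqp hh
    rw [hset, if_pos hm.1, if_neg hnadj]; simp
  · have hset : (Finset.univ.filter fun m => p ∈ G.par m ∧ q ∈ G.par m) = ∅ :=
      Finset.filter_eq_empty_iff.mpr fun m _ hm => hS ⟨m, hm⟩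
    have hadj : G.Adj p q ↔ p ∈ G.par q := by
      constructor
      · rintro (⟨hh, -⟩ | ⟨hh, -⟩)
        · exact hh
        · exact absurd hh hqp
      · exact fun hh => Or.inl ⟨hh, fun m _ e => hS ⟨m, by simp [e]⟩⟩
    simp [hset, hadj]

lemma mat_eq : G.mat = -(parQ G * (parQ G)ᵀ) := by
  ext p q
  have hmain : (parQ G * (parQ G)ᵀ) p q = (if p = q then 1 else 0) - (if q ∈ G.par p then 1 else 0)
      - (if p ∈ G.par q then 1 else 0)
      + ((Finset.univ.filter fun m => p ∈ G.par m ∧ q ∈ G.par m).card : ℚ) := by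
    have hterm : ∀ m, parQ G p m * parQ G q m =
        ((if p = m then ((if p = q then (1 : ℚ) else 0) - if q ∈ G.par p then 1 else 0) else 0) -
          (if q = m then (if p ∈ G.par q then (1 : ℚ) else 0) else 0)) +
          (if p ∈ G.par m ∧ q ∈ G.par m then 1 else 0) := by
      intro m
      simp only [parQ]
      by_cases h1 : p = m
      · subst h1
        by_cases h2 : q = p
        · subst h2; split_ifs <;> simp_all
        · split_ifs <;> simp_all
      · by_cases h2 : q = m
        · subst h2; split_ifs <;> simp_all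
        · split_ifs <;> simp_all
    simp only [Matrix.mul_apply, Matrix.transpose_apply, hterm, Finset.sum_add_distrib,
      Finset.sum_sub_distrib, Finset.sum_ite_eq, Finset.mem_univ, if_true, Finset.sum_boole]
  rw [Matrix.neg_apply, hmain]
  rcases lt_trichotomy p q with h | rfl | h
  · have hqp : q ∉ G.par p := fun hh => (lt_asymm h) (G.par_lt p q hh)
    simp only [ArLef.BlowupGraph.mat, if_neg h.ne, ← off_diag G h, if_neg hqp]
    ring
  · have hpp : p ∉ G.par p := fun hh => lt_irrefl _ (G.par_lt p p hh)
    simp only [ArLef.BlowupGraph.mat, ArLef.BlowupGraph.selfInt, if_true, if_neg hpp, and_self]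
    push_cast
    ring
  · have hpq : p ∉ G.par q := fun hh => (lt_asymm h) (G.par_lt q p hh)
    have hc : (Finset.univ.filter fun m => p ∈ G.par m ∧ q ∈ G.par m) =
        (Finset.univ.filter fun m => q ∈ G.par m ∧ p ∈ G.par m) := by
      simp only [and_comm]
    simp only [ArLef.BlowupGraph.mat, if_neg h.ne', if_neg hpq]
    rw [hc, show (if G.Adj p q then (1 : ℚ) else 0) = if G.Adj q p then 1 else 0 by
      simp only [adj_comm G p q], ← off_diag G h]
    ring

def multQ : Matrix (Fin n) (Fin n) ℚ := fun i j => (G.mult i j : ℚ)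

lemma multQ_eq : multQ G = (ttQ G)ᵀ * ttQ G := by
  ext i j
  simp [multQ, ArLef.BlowupGraph.mult, Matrix.mul_apply, ttQ]

lemma mat_mul_multQ : G.mat * multQ G = -1 := by
  rw [mat_eq, multQ_eq, Matrix.neg_mul, Matrix.mul_assoc, ← Matrix.mul_assoc (parQ G)ᵀ,
    ← Matrix.transpose_mul, ttQ_mul_parQ, Matrix.transpose_one, Matrix.one_mul, parQ_mul_ttQ]

lemma isUnit_submatrix (I : Finset (Fin n)) :
    IsUnit (G.mat.submatrix (fun x : I => x.1) (fun x : I => x.1)) := by
  have hinj : Function.Injective ((parQ G)ᵀ.mulVec) :=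
    Matrix.mulVec_injective_iff_isUnit.mpr
      (IsUnit.of_mul_eq_one (ttQ G)ᵀ (by rw [← Matrix.transpose_mul, ttQ_mul_parQ, Matrix.transpose_one]))
  have hpos : (parQ G * (parQ G)ᵀ).PosDef := by
    have := Matrix.PosDef.conjTranspose_mul_self (parQ G)ᵀ hinj
    simpa [Matrix.conjTranspose_eq_transpose_of_trivial] using this
  have h := (hpos.submatrix (e := fun x : I => x.1) Subtype.val_injective).isUnit.neg
  rw [mat_eq]
  exact h

lemma sum_pairing_mult (I : Finset (Fin n)) (x i : Fin n) (hx : x ∉ I) (hi : i ∉ I) :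
    ∑ j ∈ Finset.univ.filter (fun j => j ∉ I), G.pairing I x j * multQ G j i =
      if x = i then -1 else 0 := by
  classical
  set J := Finset.univ.filter (fun j => j ∉ I) with hJ
  have hsplit : ∀ a, ∑ j ∈ J, G.mat a j * multQ G j i + ∑ c : I, G.mat a c.1 * multQ G c.1 i =
      if a = i then -1 else 0 := by
    intro a
    have h := congrFun (congrFun (mat_mul_multQ G) a) i
    rw [Matrix.mul_apply, Matrix.neg_apply, Matrix.one_apply] at h
    rw [hJ, Finset.sum_coe_sort I (fun c => G.mat a c * multQ G c i), add_comm]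
    rw [← Finset.sum_filter_add_sum_filter_not Finset.univ (fun j => j ∈ I)] at h
    convert h using 1
    · simp
    · split_ifs <;> simp
  set A := G.mat.submatrix (fun x : I => x.1) (fun x : I => x.1) with hA
  have hAdet : IsUnit A.det := (Matrix.isUnit_iff_isUnit_det A).mp (isUnit_submatrix G I)
  have hb : ∀ b : I, ∑ j ∈ J, G.mat b.1 j * multQ G j i = -(A *ᵥ fun c : I => multQ G c.1 i) b := by
    intro b
    have h := hsplit b.1
    rw [if_neg (fun e : b.1 = i => hi (e ▸ b.2))] at h
    simp only [Matrix.mulVec, dotProduct, hA, Matrix.submatrix_apply]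
    linarith
  have hinv : A⁻¹ *ᵥ (A *ᵥ fun c : I => multQ G c.1 i) = fun c : I => multQ G c.1 i := by
    rw [Matrix.mulVec_mulVec, Matrix.nonsing_inv_mul A hAdet, Matrix.one_mulVec]
  rw [← hsplit x]
  simp only [ArLef.BlowupGraph.pairing, sub_mul, Finset.sum_sub_distrib, Finset.sum_mul]
  rw [sub_eq_add_neg]
  congr 1
  rw [Finset.sum_comm, ← Finset.sum_neg_distrib]
  refine Finset.sum_congr rfl fun a _ => ?_
  have h := congrFun hinv a
  rw [Finset.sum_comm, ← h]
  simp only [Matrix.mulVec, dotProduct, mul_assoc, ← Finset.mul_sum]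
  rw [← mul_neg, ← Finset.sum_neg_distrib]
  congr 1
  refine Finset.sum_congr rfl fun b _ => ?_
  rw [← mul_neg]
  congr 1
  rw [hb b]
  simp [Matrix.mulVec, dotProduct]


/-- Let Φ be the labelled dual graph of the exceptional curves of n successive blow-ups of closed points
starting from a regular surface with algebraically closed residue fields (vertices = exceptional
curves in order of creation, labels = intersection numbers), I any set of vertices (the curves
contracted to a normal surface) and σ a permutation of the vertices preserving all intersection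
numbers and the set I. Let e_{ij} be the multiplicity of E_i × E_j in the fibre square of the
composite blow-down (the sum over k of c^k_i c^k_j, c^k the total transform of the k-th exceptional
curve) and (E_i · E_j)_I Mumford's rational intersection number of the images after contracting I.
Then the sum over i, j outside I of e_{ij} (σ E_i · E_j)_I equals minus the number of σ-fixed
vertices outside I. (Stated for the dual graphs realized with all residue fields equal to the base
field, which is the case the published argument realizes geometrically.) -/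
theorem result (n : ℕ) (G : ArLef.BlowupGraph n) (I : Finset (Fin n))
    (σ : Equiv.Perm (Fin n)) (hσ : ∀ i j : Fin n, G.mat (σ i) (σ j) = G.mat i j)
    (hσI : ∀ i : Fin n, σ i ∈ I ↔ i ∈ I) :
    G.lNum I σ = ArLef.BlowupGraph.rNum I σ := by
  have hsym : ∀ i j, (G.mult i j : ℚ) = multQ G j i := by
    intro i j
    simp only [multQ, ArLef.BlowupGraph.mult, mul_comm]
  unfold ArLef.BlowupGraph.lNum ArLef.BlowupGraph.rNum
  have : ∀ i ∈ Finset.univ.filter (fun i => i ∉ I),
      ∑ j ∈ Finset.univ.filter (fun j => j ∉ I), (G.mult i j : ℚ) * G.pairing I (σ i) j =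
        -(if σ i = i then 1 else 0) := by
    intro i hi
    have hi' : i ∉ I := (Finset.mem_filter.mp hi).2
    have h := sum_pairing_mult G I (σ i) i (fun h => hi' ((hσI i).mp h)) hi'
    calc _ = ∑ j ∈ Finset.univ.filter (fun j => j ∉ I), G.pairing I (σ i) j * multQ G j i :=
          Finset.sum_congr rfl fun j _ => by rw [hsym, mul_comm]
      _ = _ := by rw [h]; split_ifs <;> simp
  rw [Finset.sum_congr rfl this, Finset.sum_neg_distrib, ← Finset.filter_filter,
    Finset.sum_boole]

end Groth.Agent.S15327
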