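import Groth.Statements.S15347
import Groth.Agent.Lead.DVR.Centre
-- import your own Groth.Agent.* helpers here

set_option autoImplicit false
universe u
open CategoryTheory CategoryTheory.Limits AlgebraicGeometry
open Mor

namespace Groth.Agent.S15347

/-- Let f : Y ⟶ X be an immersion of schemes. Then: for every valuation ring A with fraction field K and
every commutative square Spec K ⟶ Y, Spec A ⟶ X over f such that some morphism from the spectrum of
the residue field of A to Y lies over Spec A ⟶ X, the square admits a lift; and for every integral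
domain A and every morphism s : Spec A ⟶ X such that the points of a dense subset of Spec A lift to
Y (the residue field of each such point maps to Y over s), there is a nonempty open subscheme U of
Spec A with a morphism U ⟶ Y over s. (The published statement is for a representable, locally
finitely presented morphism of algebraic stacks with locally Noetherian target and a quasi-compact
immersion, and also lists that f is a monomorphism; this row is the case of schemes, for any
immersion and any target.) -/
theorem result {X Y : Scheme.{u}} (f : Y ⟶ X) [IsImmersion f] :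
    (∀ S : ValuativeCommSq f,
        (∃ l₀ : Spec (CommRingCat.of (IsLocalRing.ResidueField S.R)) ⟶ Y,
            l₀ ≫ f = Spec.map (CommRingCat.ofHom (IsLocalRing.residue S.R)) ≫ S.i₂) →
          S.commSq.HasLift) ∧
      ∀ (A : Type u) [CommRing A] [IsDomain A] (s : Spec (CommRingCat.of A) ⟶ X) (D : Set ↥(Spec (CommRingCat.of A))),
        Dense D →
        (∀ p ∈ D, ∃ l : Spec ((Spec (CommRingCat.of A)).residueField p) ⟶ Y,
            l ≫ f = (Spec (CommRingCat.of A)).fromSpecResidueField p ≫ s) →
          ∃ U : (Spec (CommRingCat.of A)).Opens, (U : Set ↥(Spec (CommRingCat.of A))).Nonempty ∧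
            ∃ l : (U : Scheme.{u}) ⟶ Y, l ≫ f = U.ι ≫ s := by
  classical
  refine ⟨fun S => ?_, fun A _ _ s D hD h => ?_⟩
  · rintro ⟨l₀, hl₀⟩
    have hmem : S.i₂ (IsLocalRing.closedPoint S.R) ∈ f.coborderRange := by
      have e := congrArg (fun φ => φ.base (IsLocalRing.closedPoint (IsLocalRing.ResidueField S.R))) hl₀
      have e' : (Spec.map (CommRingCat.ofHom (IsLocalRing.residue S.R))).base (IsLocalRing.closedPoint (IsLocalRing.ResidueField S.R)) = IsLocalRing.closedPoint S.R :=
        IsLocalRing.comap_closedPoint (IsLocalRing.residue S.R)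
      have := subset_coborder (s := Set.range f) ⟨l₀.base (IsLocalRing.closedPoint (IsLocalRing.ResidueField S.R)), rfl⟩
      simp only [Scheme.Hom.comp_base, TopCat.comp_app] at e
      rw [e'] at e
      rw [e] at this
      exact this
    have hr : Set.range (f.coborderRange.ι) ⊇ Set.range S.i₂ := by
      rw [Scheme.Opens.range_ι]
      exact Groth.Agent.Lead.DVR.range_subset_of_closedPoint (V := f.coborderRange) S.i₂ hmem
    let i₂' := IsOpenImmersion.lift f.coborderRange.ι S.i₂ hr
    have w : S.i₁ ≫ f.liftCoborder = Spec.map (CommRingCat.ofHom (algebraMap S.R S.K)) ≫ i₂' := by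
      rw [← cancel_mono f.coborderRange.ι, Category.assoc, Category.assoc, f.liftCoborder_ι, IsOpenImmersion.lift_fac]
      exact S.commSq.w
    have hex : ValuativeCriterion.Existence f.liftCoborder :=
      (show (ValuativeCriterion.Existence ⊓ @QuasiCompact) f.liftCoborder by
        rw [← UniversallyClosed.eq_valuativeCriterion]; infer_instance).1
    obtain ⟨l⟩ := (hex { R := S.R, K := S.K, i₁ := S.i₁, i₂ := i₂', commSq := ⟨w⟩ }).exists_lift
    refine ⟨⟨⟨l.l, l.fac_left, ?_⟩⟩⟩
    have e : l.l ≫ f.liftCoborder = i₂' := l.fac_right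
    exact ((congrArg (l.l ≫ ·) f.liftCoborder_ι.symm).trans (Category.assoc _ _ _).symm).trans ((congrArg (· ≫ f.coborderRange.ι) e).trans (IsOpenImmersion.lift_fac _ _ _))
  · let V : (Spec (CommRingCat.of A)).Opens := s ⁻¹ᵁ f.coborderRange
    have hDV : ∀ p ∈ D, ∃ y : Y, f y = s p := fun p hp => by
      obtain ⟨l, hl⟩ := h p hp
      refine ⟨l.base (IsLocalRing.closedPoint _), ?_⟩
      have e := congrArg (fun φ => φ.base (IsLocalRing.closedPoint _)) hl
      simpa [Scheme.fromSpecResidueField_apply] using e
    have hsub : ∀ p ∈ D, p ∈ V := fun p hp => by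
      obtain ⟨y, hy⟩ := hDV p hp
      show s p ∈ f.coborderRange
      rw [← hy]; exact subset_coborder (s := Set.range f) ⟨y, rfl⟩
    obtain ⟨p, hp⟩ := hD.nonempty
    let q := pullback.snd f.liftCoborder (s ∣_ f.coborderRange)
    haveI : IsClosedImmersion q := MorphismProperty.pullback_snd _ _ inferInstance
    haveI : Surjective q := ⟨by
      rw [← Set.range_eq_univ]
      refine Set.eq_univ_of_univ_subset ?_
      rw [← (hD.preimage V.ι.isOpenEmbedding.isOpenMap).closure_eq]
      refine closure_minimal ?_ q.isClosedEmbedding.isClosed_range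
      intro v hv
      obtain ⟨y, hy⟩ := hDV (V.ι v) hv
      obtain ⟨z, -, hz⟩ := Scheme.Pullback.exists_preimage_pullback y v (f := f.liftCoborder) (g := s ∣_ f.coborderRange) (by
        apply f.coborderRange.ι.isOpenEmbedding.injective
        rw [← Scheme.Hom.comp_apply, f.liftCoborder_ι, hy, ← Scheme.Hom.comp_apply, ← Scheme.Hom.comp_apply, morphismRestrict_ι])
      exact ⟨z, hz⟩⟩
    haveI : IsIso q := isIso_of_isClosedImmersion_of_surjective q
    refine ⟨V, ⟨p, hsub p hp⟩, inv q ≫ pullback.fst _ _ ≫ 𝟙 Y, ?_⟩
    rw [Category.comp_id, Category.assoc, IsIso.inv_comp_eq]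
    calc pullback.fst f.liftCoborder (s ∣_ f.coborderRange) ≫ f
        = (pullback.fst f.liftCoborder (s ∣_ f.coborderRange) ≫ f.liftCoborder) ≫ f.coborderRange.ι := by
          rw [Category.assoc, f.liftCoborder_ι]
      _ = _ := by rw [pullback.condition, Category.assoc, morphismRestrict_ι]

end Groth.Agent.S15347
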