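import Groth.Statements.S15353
import Mathlib.RingTheory.PicardGroup
import Mathlib.RingTheory.Idempotents
import Mathlib.RingTheory.Nakayama
import Mathlib.LinearAlgebra.TensorProduct.Quotient
import Mathlib.LinearAlgebra.TensorProduct.Pi
import Mathlib.LinearAlgebra.Matrix.ToLin

set_option autoImplicit false
universe u
open CAlg

namespace Groth.Agent.S15353

open TensorProduct

section
variable {R A : Type u} [CommRing R] [CommRing A] [Algebra R A]
  (hA : Function.Surjective (algebraMap R A)) (hK : IsNilpotent (RingHom.ker (algebraMap R A)))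
include hA hK

theorem eq_top_of_baseChange {N : Type u} [AddCommGroup N] [Module R N] [Module.Finite R N]
    {M : Type u} [AddCommGroup M] [Module R M] (g : M →ₗ[R] N)
    (h : Function.Surjective (g.baseChange A)) : Function.Surjective g := by
  rw [← LinearMap.range_eq_top, ← Submodule.Quotient.subsingleton_iff]
  have h0 : Subsingleton (A ⊗[R] (N ⧸ LinearMap.range g)) := by
    refine subsingleton_of_forall_eq 0 fun z => ?_
    obtain ⟨w, rfl⟩ := LinearMap.lTensor_surjective A (LinearMap.range g).mkQ_surjective z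
    obtain ⟨v, rfl⟩ := h w
    rw [show (g.baseChange A) v = g.lTensor A v from rfl, ← LinearMap.lTensor_comp_apply,
      LinearMap.range_mkQ_comp, LinearMap.lTensor_zero, LinearMap.zero_apply]
  let K := RingHom.ker (algebraMap R A)
  let ε : (R ⧸ K) ≃ₗ[R] A := (Ideal.quotientKerAlgEquivOfSurjective (f := Algebra.ofId R A) hA).toLinearEquiv
  haveI := h0
  haveI : Subsingleton ((N ⧸ LinearMap.range g) ⧸ K • (⊤ : Submodule R _)) :=
    ((TensorProduct.quotTensorEquivQuotSMul _ K).symm.trans (ε.rTensor _)).toEquiv.subsingleton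
  have hle : K ≤ Ideal.jacobson ⊥ := fun x hx => by
    obtain ⟨m, hm⟩ := hK
    have : x ^ m = 0 := by
      have := Ideal.pow_mem_pow hx m
      rwa [hm] at this
    exact Ideal.radical_le_jacobson ⟨m, by rw [this]; exact Ideal.zero_mem _⟩
  have htop : (⊤ : Submodule R (N ⧸ LinearMap.range g)) ≤ K • ⊤ := (Submodule.Quotient.subsingleton_iff.mp ‹_›).ge
  have := Submodule.eq_bot_of_le_smul_of_le_jacobson_bot K _ Module.Finite.fg_top htop hle
  exact subsingleton_of_forall_eq 0 fun z => (Submodule.mem_bot R).mp (this ▸ Submodule.mem_top)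

theorem nonempty_equiv_self {M : Type u} [AddCommGroup M] [Module R M] [Module.Finite R M] [Module.Projective R M]
    (φ : A ⊗[R] M ≃ₗ[A] A) : Nonempty (M ≃ₗ[R] R) := by
  obtain ⟨m, hm⟩ : ∃ m : M, (1 : A) ⊗ₜ[R] m = φ.symm 1 := by
    refine TensorProduct.induction_on (φ.symm 1) ⟨0, tmul_zero _ _⟩ (fun a m => ?_) ?_
    · obtain ⟨r, rfl⟩ := hA a
      exact ⟨r • m, by rw [tmul_smul, smul_tmul', ← Algebra.algebraMap_eq_smul_one]⟩
    · rintro x y ⟨a, rfl⟩ ⟨b, rfl⟩
      exact ⟨a + b, tmul_add _ _ _⟩
  let g := LinearMap.toSpanSingleton R M m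
  have hg : Function.Surjective (g.baseChange A) := fun z => ⟨φ z ⊗ₜ 1, by
    rw [LinearMap.baseChange_tmul]
    change φ z ⊗ₜ[R] ((1 : R) • m) = z
    rw [one_smul, ← mul_one (φ z), ← smul_eq_mul, ← smul_tmul', hm, ← map_smul, smul_eq_mul, mul_one,
      LinearEquiv.symm_apply_apply]⟩
  have hgs := eq_top_of_baseChange hA hK g hg
  obtain ⟨s, hs⟩ := Module.projective_lifting_property g LinearMap.id hgs
  have hgb : Function.Injective (g.baseChange A) := by
    let ρ : A ⊗[R] R ≃ₗ[A] A := AlgebraTensorModule.rid R A A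
    have h1 : Function.Surjective ((φ.toLinearMap ∘ₗ g.baseChange A) ∘ₗ ρ.symm.toLinearMap) :=
      (φ.surjective.comp hg).comp ρ.symm.surjective
    have h2 := (OrzechProperty.injective_of_surjective_endomorphism _ h1)
    intro x y h
    exact ρ.injective (h2 (by simp [h]))
  have hss : Function.Surjective (s.baseChange A) := fun x => by
    refine ⟨g.baseChange A x, hgb ?_⟩
    rw [← LinearMap.comp_apply (g.baseChange A) (s.baseChange A), ← LinearMap.baseChange_comp, hs,
      LinearMap.baseChange_id, LinearMap.id_apply]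
  have hs' := eq_top_of_baseChange hA hK s hss
  refine ⟨(LinearEquiv.ofBijective g ⟨fun x y h => ?_, hgs⟩).symm⟩
  obtain ⟨a, rfl⟩ := hs' x
  obtain ⟨b, rfl⟩ := hs' y
  rw [← LinearMap.comp_apply g s, ← LinearMap.comp_apply g s, hs] at h
  exact congrArg s h

theorem exists_lift (M : Type u) [AddCommGroup M] [Module A M] [Module.Finite A M] [Module.Projective A M] :
    ∃ (n : ℕ) (P : Submodule R (Fin n → R)), Module.Finite R P ∧ Module.Projective R P ∧
      Nonempty (A ⊗[R] P ≃ₗ[A] M) := by
  classical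
  obtain ⟨n, π, ι, -, -, hπι⟩ := Module.Finite.exists_comp_eq_id_of_projective A M
  let K := RingHom.ker (algebraMap R A)
  let f := (algebraMap R A).mapMatrix (m := Fin n)
  obtain ⟨E, hE, hfE⟩ := exists_isIdempotentElem_eq_of_ker_isNilpotent f (fun X hX => by
      obtain ⟨j, hj⟩ := hK
      have hX' : ∀ a b, X a b ∈ K := fun a b => congrFun (congrFun (hX : f X = 0) a) b
      have h1 : ∀ i a b, (X ^ i) a b ∈ K ^ i := fun i => by
        induction i with
        | zero => intro a b; rw [pow_zero, Ideal.one_eq_top]; exact Submodule.mem_top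
        | succ i ih =>
          intro a b
          rw [pow_succ K i, pow_succ X i]
          show ∑ c, (X ^ i) a c * X c b ∈ K ^ i * K
          exact sum_mem fun c _ => Ideal.mul_mem_mul (ih a c) (hX' c b)
      exact ⟨j, Matrix.ext fun a b => (Submodule.mem_bot R).mp (hj ▸ h1 j a b :)⟩)
    (LinearMap.toMatrix' (ι ∘ₗ π)) (by
      refine ⟨(LinearMap.toMatrix' (ι ∘ₗ π)).map (Function.surjInv hA), Matrix.ext fun a b => ?_⟩
      exact Function.surjInv_eq hA _) (by
      rw [IsIdempotentElem, ← LinearMap.toMatrix'_comp, LinearMap.comp_assoc, ← LinearMap.comp_assoc π ι,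
        hπι, LinearMap.id_comp])
  let e := Matrix.toLin' E
  let π' : (Fin n → R) →ₗ[R] LinearMap.range e := e.rangeRestrict
  let ι' := (LinearMap.range e).subtype
  have hee : e ∘ₗ e = e := by rw [← Matrix.toLin'_mul, hE.eq]
  have hπι' : π' ∘ₗ ι' = LinearMap.id := LinearMap.ext fun ⟨x, y, hy⟩ => Subtype.ext (by
    subst hy
    exact DFunLike.congr_fun hee y)
  haveI : Module.Finite R (LinearMap.range e) := Module.Finite.of_surjective π' e.surjective_rangeRestrict
  refine ⟨n, LinearMap.range e, inferInstance, Module.Projective.of_split ι' π' hπι', ?_⟩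
  let c : A ⊗[R] (Fin n → R) ≃ₗ[A] (Fin n → A) := TensorProduct.piScalarRight R A A (Fin n)
  have hc : c.toLinearMap ∘ₗ e.baseChange A = (ι ∘ₗ π) ∘ₗ c.toLinearMap := by
    rw [← Matrix.toLin'_toMatrix' (ι ∘ₗ π), ← hfE]
    refine TensorProduct.AlgebraTensorModule.ext fun a v => funext fun i => ?_
    simp [c, e, f, Matrix.toLin'_apply, Matrix.mulVec, dotProduct, Finset.sum_smul, Algebra.smul_def,
      Finset.sum_mul, mul_assoc]
  refine ⟨LinearEquiv.ofLinear (π ∘ₗ c.toLinearMap ∘ₗ ι'.baseChange A)
    (π'.baseChange A ∘ₗ c.symm.toLinearMap ∘ₗ ι) (LinearMap.ext fun x => ?_) (LinearMap.ext fun x => ?_)⟩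
  · simp only [LinearMap.comp_apply, LinearEquiv.coe_coe, LinearMap.id_apply]
    rw [← LinearMap.comp_apply (ι'.baseChange A) (π'.baseChange A), ← LinearMap.baseChange_comp,
      show ι' ∘ₗ π' = e from rfl]
    have := DFunLike.congr_fun hc (c.symm (ι x))
    simp only [LinearMap.comp_apply, LinearEquiv.coe_coe, LinearEquiv.apply_symm_apply] at this
    rw [this]
    change (π ∘ₗ ι) ((π ∘ₗ ι) x) = x
    rw [hπι]; rfl
  · simp only [LinearMap.comp_apply, LinearEquiv.coe_coe, LinearMap.id_apply]
    have := DFunLike.congr_fun hc (ι'.baseChange A x)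
    simp only [LinearMap.comp_apply, LinearEquiv.coe_coe] at this
    rw [← this, LinearEquiv.symm_apply_apply, ← LinearMap.comp_apply (π'.baseChange A), ← LinearMap.baseChange_comp,
      show π' ∘ₗ e = π' from LinearMap.ext fun y => Subtype.ext (DFunLike.congr_fun hee y),
      ← LinearMap.comp_apply (π'.baseChange A), ← LinearMap.baseChange_comp, hπι', LinearMap.baseChange_id,
      LinearMap.id_apply]

end

/-- Let f : A' → A be a surjective ring homomorphism whose kernel is a nilpotent ideal. Then the induced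
homomorphism of Picard groups Pic(A') → Pic(A), base change of invertible modules along f, is
bijective. -/
theorem result {A' A : Type u} [CommRing A'] [CommRing A]
    (f : A' →+* A) (hf : Function.Surjective f) (hker : IsNilpotent (RingHom.ker f)) :
    Function.Bijective (CommRing.Pic.mapRingHom f) := by
  letI := f.toAlgebra
  have hK : IsNilpotent (RingHom.ker (algebraMap A' A)) := hker
  rw [show CommRing.Pic.mapRingHom f = CommRing.Pic.mapAlgebra A' A from rfl]
  refine ⟨(injective_iff_map_eq_one _).mpr fun M hM => ?_, fun M => ?_⟩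
  · rw [CommRing.Pic.mapAlgebra_apply, CommRing.Pic.mk_eq_one_iff] at hM
    rw [← CommRing.Pic.mk_eq_self (M := M), CommRing.Pic.mk_eq_one_iff]
    exact nonempty_equiv_self hf hK hM.some
  · obtain ⟨_, P, _, _, ⟨φ⟩⟩ := exists_lift hf hK M.AsModule
    obtain ⟨_, Q, _, _, ⟨ψ⟩⟩ := exists_lift hf hK (Module.Dual A M.AsModule)
    have φψ : A ⊗[A'] (Q ⊗[A'] P) ≃ₗ[A] A :=
      (TensorProduct.AlgebraTensorModule.distribBaseChange A' A Q P) ≪≫ₗ TensorProduct.congr ψ φ ≪≫ₗ
        Module.Invertible.linearEquiv A M.AsModule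
    obtain ⟨e⟩ := nonempty_equiv_self (M := Q ⊗[A'] P) hf hK φψ
    haveI : Module.Invertible A' P := Module.Invertible.right e
    refine ⟨CommRing.Pic.mk A' P, ?_⟩
    rw [CommRing.Pic.mapAlgebra_apply, ← CommRing.Pic.mk_eq_self (M := M), CommRing.Pic.mk_eq_mk_iff]
    exact ⟨(TensorProduct.AlgebraTensorModule.congr (LinearEquiv.refl A A) (CommRing.Pic.mk.linearEquiv _ _)) ≪≫ₗ φ⟩

end Groth.Agent.S15353
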