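import Groth.Statements.S15355
import Mathlib.RingTheory.Spectrum.Prime.Topology
import Groth.Agent.Lead.DVR.Centre
-- import your own Groth.Agent.* helpers here

set_option autoImplicit false
universe u
open CategoryTheory CategoryTheory.Limits AlgebraicGeometry
open Mor

namespace Groth.Agent.S15355

/-- Let f : Y ⟶ X be a morphism of schemes, A an integral domain and ξ, η : Spec A ⟶ Y two A-points of Y
over the same A-point of X. If ξ and η induce the same κ(p)-point of Y at every point p of some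
dense subset of Spec A, then ξ and η agree on a nonempty open subscheme of Spec A. (The published
statement is an equivalence, for algebraic spaces locally of finite presentation over a Noetherian
scheme, between local separatedness of f and conditions (a), (b); this row is the necessity of (b)
in the case of schemes, where no hypothesis on f is needed.) -/
theorem result {X Y : Scheme.{u}} (f : Y ⟶ X)
    (A : Type u) [CommRing A] [IsDomain A] (ξ η : Spec (CommRingCat.of A) ⟶ Y) (hf : ξ ≫ f = η ≫ f)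
    (D : Set ↥(Spec (CommRingCat.of A))) (hD : Dense D)
    (hpt : ∀ p ∈ D, (Spec (CommRingCat.of A)).fromSpecResidueField p ≫ ξ =
      (Spec (CommRingCat.of A)).fromSpecResidueField p ≫ η) :
    ∃ U : (Spec (CommRingCat.of A)).Opens, (U : Set ↥(Spec (CommRingCat.of A))).Nonempty ∧ U.ι ≫ ξ = U.ι ≫ η := by
  classical
  obtain ⟨p, hp⟩ := hD.nonempty
  obtain ⟨_, ⟨W, hW, rfl⟩, hpW, -⟩ :=
    Y.isBasis_affineOpens.exists_subset_of_mem_open (Set.mem_univ (ξ p)) isOpen_univ
  have hpt' : ∀ q ∈ D, ξ q = η q := fun q hq => by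
    have h := congrArg (fun φ => φ.base (IsLocalRing.closedPoint _)) (hpt q hq)
    simpa [Scheme.fromSpecResidueField_apply] using h
  have hp2 : p ∈ (ξ ⁻¹ᵁ W ⊓ η ⁻¹ᵁ W : (Spec (CommRingCat.of A)).Opens) := ⟨hpW, show η p ∈ W from hpt' p hp ▸ hpW⟩
  obtain ⟨_, ⟨a, rfl⟩, hpa, hle⟩ :=
    PrimeSpectrum.isTopologicalBasis_basic_opens.exists_subset_of_mem_open hp2 (ξ ⁻¹ᵁ W ⊓ η ⁻¹ᵁ W).isOpen
  let U : (Spec (CommRingCat.of A)).Opens := PrimeSpectrum.basicOpen a
  have hU : IsAffineOpen U := by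
    have := IsAffineOpen.Spec_basicOpen (R := CommRingCat.of A) a
    exact this
  obtain ⟨s, hs⟩ := Groth.Agent.Lead.DVR.exists_chart hW (hU.fromSpec ≫ ξ) (by
    rintro _ ⟨q, rfl⟩
    exact (hle (hU.range_fromSpec.le ⟨q, rfl⟩)).1)
  obtain ⟨t, ht⟩ := Groth.Agent.Lead.DVR.exists_chart hW (hU.fromSpec ≫ η) (by
    rintro _ ⟨q, rfl⟩
    exact (hle (hU.range_fromSpec.le ⟨q, rfl⟩)).2)
  have hst : s = t := by
    refine CommRingCat.hom_ext (RingHom.ext fun c => sub_eq_zero.mp ?_)
    haveI : Nonempty (U : (Spec (CommRingCat.of A)).Opens) := ⟨⟨p, hpa⟩⟩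
    have hzero : ∀ q ∈ D, ∀ hq : q ∈ U, Groth.Agent.Lead.DVR.toRes hq (s c - t c) = 0 := fun q hqD hq => by
      have e : s ≫ Groth.Agent.Lead.DVR.toRes hq = t ≫ Groth.Agent.Lead.DVR.toRes hq :=
        Groth.Agent.Lead.DVR.chart_ext hW (by
          simp only [Spec.map_comp, Category.assoc]
          rw [hs, ht, reassoc_of% (Groth.Agent.Lead.DVR.SpecMap_toRes hU hq), reassoc_of% (Groth.Agent.Lead.DVR.SpecMap_toRes hU hq)]
          exact hpt q hqD)
      rw [map_sub, sub_eq_zero]
      exact ConcreteCategory.congr_hom e c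
    by_contra hne
    have hb : (((Spec (CommRingCat.of A)).basicOpen (s c - t c) : (Spec (CommRingCat.of A)).Opens) : Set ↥(Spec (CommRingCat.of A))).Nonempty := by
      rw [Set.nonempty_iff_ne_empty]
      exact fun h => hne ((basicOpen_eq_bot_iff _).mp (SetLike.coe_injective h))
    obtain ⟨q, hqb, hqD⟩ := hD.inter_open_nonempty _ ((Spec (CommRingCat.of A)).basicOpen _).isOpen hb
    have hqU : q ∈ U := (Spec (CommRingCat.of A)).basicOpen_le _ hqb
    have hu : IsUnit ((Spec (CommRingCat.of A)).presheaf.germ U q hqU (s c - t c)) :=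
      ((Spec (CommRingCat.of A)).mem_basicOpen _ q hqU).mp hqb
    exact (hu.map ((Spec (CommRingCat.of A)).residue q).hom).ne_zero (hzero q hqD hqU)
  refine ⟨U, ⟨p, hpa⟩, ?_⟩
  rw [← cancel_epi hU.isoSpec.inv]
  show hU.isoSpec.inv ≫ U.ι ≫ ξ = hU.isoSpec.inv ≫ U.ι ≫ η
  rw [IsAffineOpen.isoSpec_inv_ι_assoc, IsAffineOpen.isoSpec_inv_ι_assoc, ← hs, ← ht, hst]

end Groth.Agent.S15355
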