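import Groth.Statements.S15368
import Mathlib.LinearAlgebra.FreeModule.PID
import Mathlib.RingTheory.LocalRing.Module
import Mathlib.RingTheory.PrincipalIdealDomain
import Mathlib.LinearAlgebra.Dimension.Constructions
import Mathlib.LinearAlgebra.FiniteDimensional.Lemmas

set_option autoImplicit false
universe u v
open TensorProduct
open CAlg

namespace Groth.Agent.S15368

/-- Let R be a discrete valuation ring with uniformizer π and residue field k, n ≥ 0, M₀ a finitely
generated R-module killed by πⁿ and N₀ a submodule of M₀. Then dim_k(N₀/πN₀) ≤ dim_k(M₀/πM₀). The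
published lemma is stated for a finitely presented submodule N of a finitely presented module M over
the quotient of the ring of integers of an algebraic closure of K by the elements of valuation ≥ t,
and the published proof reduces it by descent to exactly this statement over the valuation ring of a
finite extension of K (comparing π-torsion with π-cotorsion by additivity of length); the row states
that step. -/
theorem result
    (R : Type u) [CommRing R] [IsDomain R] [IsDiscreteValuationRing R] (ϖ : R) (hϖ : Irreducible ϖ) (n : ℕ)
    (M : Type v) [AddCommGroup M] [Module R M] [Module.Finite R M] (hM : ∀ m : M, ϖ ^ n • m = 0)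
    (N : Submodule R M) :
    Module.finrank (IsLocalRing.ResidueField R) (IsLocalRing.ResidueField R ⊗[R] N) ≤
      Module.finrank (IsLocalRing.ResidueField R) (IsLocalRing.ResidueField R ⊗[R] M) := by
  let K := IsLocalRing.ResidueField R
  let b := Module.finBasis K (K ⊗[R] M)
  have hsurj : Function.Surjective (TensorProduct.mk R K M 1) :=
    TensorProduct.mk_surjective R M K Ideal.Quotient.mk_surjective
  choose g hg using fun i => hsurj (b i)
  have hspan : Submodule.span R (Set.range g) = ⊤ := IsLocalRing.span_eq_top_of_tmul_eq_basis g b hg
  let φ : (Fin (Module.finrank K (K ⊗[R] M)) → R) →ₗ[R] M := Fintype.linearCombination R g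
  have hφ : Function.Surjective φ := by
    rw [← LinearMap.range_eq_top, Fintype.range_linearCombination]
    exact hspan
  let P : Submodule R (Fin (Module.finrank K (K ⊗[R] M)) → R) := N.comap φ
  let ψ : P →ₗ[R] N := φ.restrict (fun x hx => hx)
  have hψ : Function.Surjective ψ := fun y => by
    obtain ⟨x, hx⟩ := hφ y
    exact ⟨⟨x, by show φ x ∈ N; rw [hx]; exact y.2⟩, Subtype.ext hx⟩
  obtain ⟨s, ⟨bP⟩⟩ := Submodule.nonempty_basis_of_pid (Pi.basisFun R (Fin (Module.finrank K (K ⊗[R] M)))) P
  haveI : Module.Free R P := Module.Free.of_basis bP
  haveI : Module.Finite R P := Module.Finite.of_basis bP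
  calc Module.finrank K (K ⊗[R] N) ≤ Module.finrank K (K ⊗[R] P) :=
        LinearMap.finrank_le_finrank_of_surjective (f := ψ.baseChange K) (LinearMap.lTensor_surjective K hψ)
    _ = Module.finrank R P := Module.finrank_baseChange
    _ ≤ Module.finrank R (Fin (Module.finrank K (K ⊗[R] M)) → R) := Submodule.finrank_le P
    _ = _ := by simp [K]

end Groth.Agent.S15368
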