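import Groth.Statements.S15391
import Mathlib.RingTheory.LocalProperties.Reduced
import Mathlib.RingTheory.Localization.BaseChange
import Mathlib.RingTheory.Ideal.MinimalPrime.Noetherian
-- import your own Groth.Agent.* helpers here

set_option autoImplicit false
universe u
open TensorProduct
open TorFree

namespace Groth.Agent.S15391

/-- Let R be a reduced Noetherian commutative ring, M a finitely generated torsion-free R-module (no
non-zero element of M is annihilated by a non-zero-divisor of R), and t an element of M whose image
1 ⊗ t in the fibre κ(p) ⊗_R M vanishes for every prime ideal p of R, κ(p) being the residue field at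
p. Then t = 0. This is the affine form of the claim that a global section of a coherent torsion-free
module on a reduced Noetherian scheme which vanishes in every fibre is zero. -/
theorem result (R : Type u) [CommRing R] [IsReduced R] [IsNoetherianRing R]
    (M : Type u) [AddCommGroup M] [Module R M] [Module.Finite R M] [Module.IsTorsionFree R M]
    (t : M) (ht : ∀ p : PrimeSpectrum R, (1 : p.asIdeal.ResidueField) ⊗ₜ[R] t = (0 : p.asIdeal.ResidueField ⊗[R] M)) :
    t = 0 := by
  classical
  have key : ∀ p ∈ minimalPrimes R, ∃ c : R, c ∉ p ∧ c • t = 0 := by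
    intro p hp
    haveI : p.IsPrime := hp.1.1
    have hmax : IsLocalRing.maximalIdeal (Localization.AtPrime p) = ⊥ := by
      rw [eq_bot_iff, ← Ideal.zero_eq_bot, ← nilradical_eq_zero (Localization.AtPrime p)]
      intro x hx
      rw [nilradical_eq_sInf, Submodule.mem_sInf]
      intro q hq
      haveI : Ideal.IsPrime q := hq
      have h1 : Ideal.comap (algebraMap R (Localization.AtPrime p)) q ≤ p :=
        le_trans (Ideal.comap_mono (IsLocalRing.le_maximalIdeal Ideal.IsPrime.ne_top')) (le_of_eq Localization.AtPrime.comap_maximalIdeal)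
      have h2 : p ≤ Ideal.comap (algebraMap R (Localization.AtPrime p)) q := hp.2 ⟨Ideal.comap_isPrime _ _, bot_le⟩ h1
      have h3 := Ideal.map_mono (f := algebraMap R (Localization.AtPrime p)) h2
      rw [IsLocalization.map_comap p.primeCompl, Localization.AtPrime.map_eq_maximalIdeal] at h3
      exact h3 hx
    have hinj : Function.Injective (algebraMap (Localization.AtPrime p) p.ResidueField) := by
      rw [RingHom.injective_iff_ker_eq_bot]
      exact (IsLocalRing.ker_residue (R := Localization.AtPrime p)).trans hmax
    let r : Localization.AtPrime p →ₗ[R] p.ResidueField := (IsScalarTower.toAlgHom R (Localization.AtPrime p) p.ResidueField).toLinearMap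
    have hsurj : Function.Surjective r := IsLocalRing.residue_surjective
    let E := LinearEquiv.rTensor M (LinearEquiv.ofBijective r ⟨hinj, hsurj⟩)
    have h0 : ((1 : Localization.AtPrime p) ⊗ₜ[R] t) = 0 := by
      apply E.injective
      rw [map_zero, LinearEquiv.rTensor_tmul]
      change (algebraMap (Localization.AtPrime p) p.ResidueField 1) ⊗ₜ[R] t = 0
      rw [map_one]
      exact ht ⟨p, inferInstance⟩
    obtain ⟨c, hc⟩ := (IsLocalizedModule.eq_zero_iff p.primeCompl (TensorProduct.mk R (Localization.AtPrime p) M 1)).mp h0
    exact ⟨c.1, c.2, hc⟩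
  set J : Ideal R := LinearMap.ker (LinearMap.toSpanSingleton R M t) with hJ
  by_cases hnzd : ∃ c ∈ J, c ∈ nonZeroDivisors R
  · obtain ⟨c, hc, hcr⟩ := hnzd
    exact (isRegular_iff_mem_nonZeroDivisors.mpr hcr).isSMulRegular (show c • t = c • (0 : M) by rw [smul_zero]; exact hc)
  · exfalso
    push Not at hnzd
    have hfin := (Ideal.finite_minimalPrimes_of_isNoetherianRing R (⊥ : Ideal R))
    have hsub : (J : Set R) ⊆ ⋃ P ∈ hfin.toFinset, (P : Set R) := by
      intro c hc
      have : ∃ y, c * y = 0 ∧ y ≠ 0 := by
        have := hnzd c hc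
        rw [mem_nonZeroDivisors_iff_right] at this
        push Not at this
        obtain ⟨y, hy, hy0⟩ := this
        exact ⟨y, by rwa [mul_comm], hy0⟩
      obtain ⟨y, hy, hy0⟩ := this
      have hy' : y ∉ nilradical R := by rwa [nilradical_eq_zero, Ideal.zero_eq_bot, Ideal.mem_bot]
      rw [nilradical, ← Ideal.sInf_minimalPrimes, Submodule.mem_sInf] at hy'
      push Not at hy'
      obtain ⟨P, hP, hyP⟩ := hy'
      exact Set.mem_iUnion₂.mpr ⟨P, hfin.mem_toFinset.mpr hP, (hP.1.1.mem_or_mem (by rw [hy]; exact P.zero_mem)).resolve_right hyP⟩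
    obtain ⟨P, hP, hle⟩ := (Ideal.subset_union_prime (f := id) ⊥ ⊥ (fun i hi _ _ => (hfin.mem_toFinset.mp hi).1.1)).mp hsub
    obtain ⟨c, hc, hct⟩ := key P (hfin.mem_toFinset.mp hP)
    exact hc (hle (LinearMap.mem_ker.mpr hct))

end Groth.Agent.S15391
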