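import Groth.Statements.S15423
import Groth.Agent.GrSyz.Compare

set_option autoImplicit false
universe u
open GrSyz

namespace Groth.Agent.S15423

/-- Let k be a field, S = k[x_0, …, x_r] graded by degree, 𝔪 = (x_0, …, x_r), M a finitely generated
ℤ-graded S-module and F a minimal graded free resolution of M by finite-rank free modules with
homogeneous bases (all matrix entries in 𝔪). Then the Castelnuovo–Mumford regularity of M (an
extended integer) is the supremum over i ≥ 0 of t_i − i, where t_i is the largest degree of a basis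
vector of F_i, that is the largest nonzero degree of Tor_i^S(M, k) (−∞ when F_i = 0). In particular
the value does not depend on the minimal resolution chosen. -/
theorem result (k : Type u) [Field k] (r : ℕ)
    (M : Type u) [AddCommGroup M] [Module k M] [Module (MvPolynomial (Fin (r + 1)) k) M]
    [IsScalarTower k (MvPolynomial (Fin (r + 1)) k) M] [Module.Finite (MvPolynomial (Fin (r + 1)) k) M]
    (ℳ : ℤ → Submodule k M) [DirectSum.Decomposition ℳ] [SetLike.GradedSMul (GrSyz.stdGr k (Fin (r + 1))) ℳ]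
    (F : GrSyz.FreeRes (GrSyz.stdGr k (Fin (r + 1))) ℳ) (hF : F.IsMinimal (GrSyz.irrel (GrSyz.stdGr k (Fin (r + 1)))).toIdeal) :
    GrSyz.reg (GrSyz.stdGr k (Fin (r + 1))) ℳ (GrSyz.irrel (GrSyz.stdGr k (Fin (r + 1)))).toIdeal =
      ⨆ i : ℕ, WithBot.map (fun t : ℤ => ((t - (i : ℤ) : ℤ) : WithTop ℤ)) (F.maxGenDeg i) := by
  classical
  have hiff : ∀ ρ : ℤ, GrSyz.IsRegLE (GrSyz.stdGr k (Fin (r + 1))) ℳ (GrSyz.irrel (GrSyz.stdGr k (Fin (r + 1)))).toIdeal ρ ↔ F.IsGenLE ρ := by
    intro ρ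
    refine ⟨fun ⟨F', hF', h'⟩ i b => ?_, fun h => ⟨F, hF, h⟩⟩
    obtain ⟨-, -, -, hc⟩ := Groth.Agent.GrSyz.compare_res hF hF' i
    have hpos : 0 < F'.betti i (F.deg i b) := by
      rw [← hc]
      exact Finset.card_pos.2 ⟨b, by simp⟩
    obtain ⟨b', hb'⟩ := Finset.card_pos.1 hpos
    simp only [Finset.mem_filter, Finset.mem_univ, true_and] at hb'
    rw [← hb']
    exact h' i b'
  simp only [GrSyz.reg, hiff]
  set X : WithBot (WithTop ℤ) := ⨆ i : ℕ, WithBot.map (fun t : ℤ => ((t - (i : ℤ) : ℤ) : WithTop ℤ)) (F.maxGenDeg i) with hX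
  have hle : ∀ (i : ℕ) (b : Fin (F.rk i)), (((F.deg i b - (i : ℤ) : ℤ) : WithTop ℤ) : WithBot (WithTop ℤ)) ≤ X := by
    intro i b
    refine le_trans ?_ (le_iSup (fun i : ℕ => WithBot.map (fun t : ℤ => ((t - (i : ℤ) : ℤ) : WithTop ℤ)) (F.maxGenDeg i)) i)
    have h1 : (F.deg i b : WithBot ℤ) ≤ F.maxGenDeg i := Finset.le_sup (f := fun b => (F.deg i b : WithBot ℤ)) (Finset.mem_univ b)
    exact (Monotone.withBot_map (f := fun t : ℤ => ((t - (i : ℤ) : ℤ) : WithTop ℤ))
      fun x y h => WithTop.coe_le_coe.2 (by omega)) h1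
  refine le_antisymm ?_ (iSup_le fun i => le_iInf₂ fun ρ hρ => ?_)
  · rcases hXc : X with _ | (_ | m)
    · have hgen : ∀ ρ : ℤ, F.IsGenLE ρ := fun ρ i b => by
        have := hle i b
        rw [hXc] at this
        exact absurd this (not_le.2 (WithBot.bot_lt_coe _))
      set Y := ⨅ (ρ : ℤ) (_ : F.IsGenLE ρ), ((ρ : WithTop ℤ) : WithBot (WithTop ℤ)) with hY
      have hall : ∀ ρ : ℤ, Y ≤ ((ρ : WithTop ℤ) : WithBot (WithTop ℤ)) := fun ρ => iInf₂_le ρ (hgen ρ)
      rcases hYc : Y with _ | (_ | q)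
      · exact le_rfl
      · have := hall 0
        rw [hYc] at this
        exact absurd this (not_le.2 (WithBot.coe_lt_coe.2 (WithTop.coe_lt_top _)))
      · have := hall (q - 1)
        rw [hYc] at this
        have h2 : q ≤ q - 1 := WithTop.coe_le_coe.1 (WithBot.coe_le_coe.1 this)
        omega
    · exact le_top
    · refine iInf₂_le m fun i b => ?_
      have := hle i b
      rw [hXc] at this
      have h2 : F.deg i b - (i : ℤ) ≤ m := WithTop.coe_le_coe.1 (WithBot.coe_le_coe.1 this)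
      omega
  · have h1 : F.maxGenDeg i ≤ ((ρ + i : ℤ) : WithBot ℤ) := Finset.sup_le fun b _ => WithBot.coe_le_coe.2 (hρ i b)
    refine le_trans ((Monotone.withBot_map (f := fun t : ℤ => ((t - (i : ℤ) : ℤ) : WithTop ℤ))
      fun x y h => WithTop.coe_le_coe.2 (by omega)) h1) ?_
    exact WithBot.coe_le_coe.2 (WithTop.coe_le_coe.2 (by omega))

end Groth.Agent.S15423
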