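import Groth.Statements.S15427
import Groth.Agent.GrSyz.Res

set_option autoImplicit false
universe u
open GrSyz

namespace Groth.Agent.S15427

open Groth.Agent.GrSyz
/-- Let k be a field, S = k[x_0, …, x_r] graded by degree, 𝔪 = (x_0, …, x_r), M a finitely generated
ℤ-graded S-module and F a graded free resolution of M by free modules of finite rank with chosen
homogeneous bases, written as matrices d_i : F_{i+1} → F_i together with the images aug b ∈ M of the
basis of F_0. Then F is a minimal complex (every matrix entry lies in 𝔪) if and only if every map of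
the resolution carries its basis to an irredundant (minimal) family of generators of its image: for
each b, aug b is not in the S-span of the remaining aug b', and for each i and each column of d_i,
that column is not in the S-span of the remaining columns. -/
theorem result (k : Type u) [Field k] (r : ℕ)
    (M : Type u) [AddCommGroup M] [Module k M] [Module (MvPolynomial (Fin (r + 1)) k) M]
    [IsScalarTower k (MvPolynomial (Fin (r + 1)) k) M] [Module.Finite (MvPolynomial (Fin (r + 1)) k) M]
    (ℳ : ℤ → Submodule k M) [DirectSum.Decomposition ℳ] [SetLike.GradedSMul (GrSyz.stdGr k (Fin (r + 1))) ℳ]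
    (F : GrSyz.FreeRes (GrSyz.stdGr k (Fin (r + 1))) ℳ) :
    F.IsMinimal (GrSyz.irrel (GrSyz.stdGr k (Fin (r + 1)))).toIdeal ↔
      ((∀ b : Fin (F.rk 0), F.aug b ∉ Submodule.span (MvPolynomial (Fin (r + 1)) k) (F.aug '' {b' | b' ≠ b})) ∧
        ∀ (i : ℕ) (b : Fin (F.rk (i + 1))),
          (fun a => F.d i a b) ∉ Submodule.span (MvPolynomial (Fin (r + 1)) k) ((fun b' a => F.d i a b') '' {b' | b' ≠ b})) := by
  classical
  constructor
  · intro hF
    have key : ∀ {N : Type u} [AddCommGroup N] [Module (MvPolynomial (Fin (r + 1)) k) N] {p : ℕ} (f : Fin p → N),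
        (∀ v, Fintype.linearCombination (MvPolynomial (Fin (r + 1)) k) f v = 0 → ∀ b, MvPolynomial.constantCoeff (v b) = 0) →
        ∀ b, f b ∉ Submodule.span (MvPolynomial (Fin (r + 1)) k) (f '' {b' | b' ≠ b}) := by
      intro N _ _ p f hrel b hb
      obtain ⟨v, hv0, hv⟩ : ∃ v : Fin p → MvPolynomial (Fin (r + 1)) k, (∀ a, a ∉ {b' | b' ≠ b} → v a = 0) ∧ Fintype.linearCombination (MvPolynomial (Fin (r + 1)) k) f v = f b := by
        obtain ⟨l, hl, hlv⟩ := (Finsupp.mem_span_image_iff_linearCombination _).1 hb
        refine ⟨l, fun a ha => Finsupp.notMem_support_iff.1 fun h => ha (hl h), ?_⟩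
        rw [← hlv, Finsupp.linearCombination_apply, Finsupp.sum_fintype _ _ (by simp), Fintype.linearCombination_apply]
      have h1 := hrel (v - Pi.single b 1) (by
        rw [map_sub, Fintype.linearCombination_apply_single, one_smul, hv, sub_self]) b
      rw [Pi.sub_apply, hv0 b (by simp), Pi.single_eq_same] at h1
      simp at h1
    refine ⟨key F.aug fun v hv => cc_ker_aug hF hv, fun i b => ?_⟩
    exact key (col F i) (fun v hv => cc_ker_dLin hF (i := i) (by rw [dLin_eq]; exact hv)) b
  · rintro ⟨h0, h1⟩
    have key : ∀ {N : Type u} [AddCommGroup N] [Module (MvPolynomial (Fin (r + 1)) k) N] {p : ℕ} (f : Fin p → N),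
        (∀ b, f b ∉ Submodule.span (MvPolynomial (Fin (r + 1)) k) (f '' {b' | b' ≠ b})) →
        ∀ (v : Fin p → MvPolynomial (Fin (r + 1)) k) (b : Fin p) (e : ℤ),
          Fintype.linearCombination (MvPolynomial (Fin (r + 1)) k) f v = 0 → v b ∈ GrSyz.stdGr k (Fin (r + 1)) e →
          MvPolynomial.constantCoeff (v b) = 0 := by
      intro N _ _ p f hirr v b e hv hb
      by_contra hc
      have he : e = 0 := by
        by_contra he
        exact hc (stdGr_constantCoeff hb he)
      subst he
      refine hirr b ?_
      set c := MvPolynomial.constantCoeff (v b)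
      rw [Fintype.linearCombination_apply, ← Finset.add_sum_erase _ _ (Finset.mem_univ b), stdGr_eq_C hb] at hv
      have hmem : (MvPolynomial.C c : MvPolynomial (Fin (r + 1)) k) • f b ∈ Submodule.span (MvPolynomial (Fin (r + 1)) k) (f '' {b' | b' ≠ b}) := by
        rw [eq_neg_of_add_eq_zero_left hv]
        exact neg_mem (Submodule.sum_mem _ fun a ha => Submodule.smul_mem _ _
          (Submodule.subset_span ⟨a, Finset.ne_of_mem_erase ha, rfl⟩))
      have := Submodule.smul_mem _ (MvPolynomial.C c⁻¹) hmem
      rwa [smul_smul, ← MvPolynomial.C_mul, inv_mul_cancel₀ hc, MvPolynomial.C_1, one_smul] at this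
    intro i a b
    rw [mem_irrel_iff]
    cases i with
    | zero =>
      refine key F.aug h0 (col F 0 b) a _ ?_ (F.d_mem 0 a b)
      have : col F 0 b ∈ LinearMap.range (F.dLin 0) := ⟨_, dLin_single F 0 b⟩
      rw [← F.exact_zero] at this
      exact this
    | succ i =>
      refine key (col F i) (h1 i) (col F (i + 1) b) a _ ?_ (F.d_mem (i + 1) a b)
      rw [← dLin_eq, ← dLin_single]
      exact dLin_comp F i _

end Groth.Agent.S15427
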