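import Groth.Statements.S15432
import Groth.Agent.GrSyz.Hilbert
import Groth.Agent.GrSyz.HilbertBurch
import Mathlib.Tactic.Ring
import Mathlib.Tactic.Linarith
import Mathlib.Tactic.LinearCombination
import Mathlib.Tactic.Positivity
import Mathlib.Algebra.Ring.Parity

set_option autoImplicit false
universe u
open GrSyz

namespace Groth.Agent.S15432

open Groth.Agent.GrSyz
/-- Let k be a field, Z a nonempty finite set of nonzero vectors of k^3, regarded as points of the
projective plane, I ⊆ S = k[x_0, x_1, x_2] the homogeneous vanishing ideal of Z (a polynomial lies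
in I exactly when each of its homogeneous components vanishes at every vector of Z), M = S/I given
as a ℤ-graded S-module with a surjective degree-preserving S-linear map π : S → M with kernel I, and
F a minimal graded free resolution of M of length at most 2 whose terms F_1 and F_2 have ranks t + 1
and t, with basis degrees a_1 ≥ … ≥ a_{t+1} for F_1 and b_1 ≥ … ≥ b_t for F_2 (non-increasing along
the chosen bases), so that the (i, j) entry of the matrix F_2 → F_1 has degree b_j − a_i. Put e_i =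
b_i − a_i and f_i = b_i − a_{i+1}. Then e_i ≥ 1 and f_i ≥ 1 for every i, and Σ_i a_i = Σ_j b_j
(equivalently a_i = Σ_{j < i} e_j + Σ_{j ≥ i} f_j for every i). (The ordering of both bases is the
standing assumption under which the published statement is made; this row carries it as the
hypotheses on the basis degrees. The further inequalities f_i ≥ e_i and f_i ≥ e_{i+1} follow at once
from the ordering and are not restated.) -/
theorem result (k : Type u) [Field k]
    (Z : Finset (Fin 3 → k)) (hZ : ∀ p ∈ Z, p ≠ 0) (hZne : Z.Nonempty) (I : Ideal (MvPolynomial (Fin 3) k))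
    (hI : ∀ f : MvPolynomial (Fin 3) k, f ∈ I ↔
      ∀ p ∈ Z, ∀ j : ℕ, MvPolynomial.eval p (MvPolynomial.homogeneousComponent j f) = 0)
    (M : Type u) [AddCommGroup M] [Module k M] [Module (MvPolynomial (Fin 3) k) M] [IsScalarTower k (MvPolynomial (Fin 3) k) M]
    (ℳ : ℤ → Submodule k M) [DirectSum.Decomposition ℳ] [SetLike.GradedSMul (GrSyz.stdGr k (Fin 3)) ℳ]
    (π : MvPolynomial (Fin 3) k →ₗ[MvPolynomial (Fin 3) k] M) (hπ : Function.Surjective π)
    (hπg : GrLC.IsGrHom (GrSyz.stdGr k (Fin 3)) ℳ π) (hker : LinearMap.ker π = I)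
    (F : GrSyz.FreeRes (GrSyz.stdGr k (Fin 3)) ℳ) (hF : F.IsMinimal (GrSyz.irrel (GrSyz.stdGr k (Fin 3))).toIdeal) (hlen : F.HasLengthLE 2)
    (t : ℕ) (h1 : F.rk 1 = t + 1) (h2 : F.rk 2 = t)
    (ha : ∀ i j : Fin (t + 1), i ≤ j → F.deg 1 (Fin.cast h1.symm j) ≤ F.deg 1 (Fin.cast h1.symm i))
    (hb : ∀ i j : Fin t, i ≤ j → F.deg 2 (Fin.cast h2.symm j) ≤ F.deg 2 (Fin.cast h2.symm i)) :
    (∀ i : Fin t, 1 ≤ F.deg 2 (Fin.cast h2.symm i) - F.deg 1 (Fin.cast h1.symm i.castSucc) ∧
        1 ≤ F.deg 2 (Fin.cast h2.symm i) - F.deg 1 (Fin.cast h1.symm i.succ)) ∧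
      ∑ i : Fin (t + 1), F.deg 1 (Fin.cast h1.symm i) = ∑ j : Fin t, F.deg 2 (Fin.cast h2.symm j) := by
  classical
  have hinj : Function.Injective (F.dLin 1) := by
    rw [← LinearMap.ker_eq_bot, F.exact_succ 1]
    have : IsEmpty (Fin (F.rk (1 + 1 + 1))) := by rw [hlen 3 (by norm_num)]; infer_instance
    rw [LinearMap.range_eq_bot]
    exact LinearMap.ext fun v => by rw [show v = 0 from Subsingleton.elim _ _, map_zero, map_zero]
  have he : ∀ i : Fin t, 1 ≤ F.deg 2 (Fin.cast h2.symm i) - F.deg 1 (Fin.cast h1.symm i.castSucc) := by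
    intro i
    by_contra hcon
    have hle : ∀ (l : Fin (t + 1)) (j : Fin t), (l : ℕ) ≤ i → i ≤ j →
        F.deg 2 (Fin.cast h2.symm j) ≤ F.deg 1 (Fin.cast h1.symm l) := by
      intro l j hl hj
      have e1 := ha l i.castSucc hl
      have e2 := hb i j hj
      omega
    obtain ⟨m, hm⟩ : ∃ m, t = i.1 + (m + 1) := ⟨t - i.1 - 1, by have := i.2; omega⟩
    refine no_block (F.d 1) (F.dLin 0) (F.exact_succ 0) hinj (m := m)
      (fun s => Fin.cast h1.symm ⟨i.1 + 1 + s.1, by have := s.2; omega⟩)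
      (fun s => Fin.cast h2.symm ⟨i.1 + s.1, by have := s.2; omega⟩) (fun s s' h => ?_) (fun l hl s => ?_)
      (fun l s => (mem_irrel_iff _).1 (hF 1 _ _))
    · simp [Fin.ext_iff] at h; exact Fin.ext h
    · obtain ⟨l', rfl⟩ : ∃ l' : Fin (t + 1), Fin.cast h1.symm l' = l := ⟨Fin.cast h1 l, by simp⟩
      refine entry_eq_zero hF 1 _ _ ?_
      refine hle l' ⟨i.1 + s.1, by have := s.2; omega⟩ ?_ (show i.1 ≤ i.1 + s.1 by omega)
      by_contra hgt
      refine hl ⟨⟨l'.1 - (i.1 + 1), by have := l'.2; omega⟩, ?_⟩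
      apply Fin.ext
      simp only [Fin.val_cast]
      omega
  refine ⟨fun i => ⟨he i, ?_⟩, ?_⟩
  · have e1 := ha i.castSucc i.succ (by rw [Fin.le_def, Fin.val_castSucc, Fin.val_succ]; omega)
    have := he i
    omega
  set p1 := π 1 with hp1
  have hp1mem : p1 ∈ ℳ 0 := hπg 0 1 (SetLike.one_mem_graded _)
  have hp1ne : p1 ≠ 0 := by
    intro h
    have h1I : (1 : MvPolynomial (Fin 3) k) ∈ I := hker ▸ LinearMap.mem_ker.2 h
    obtain ⟨p, hp⟩ := hZne
    have := (hI 1).1 h1I p hp 0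
    rw [MvPolynomial.homogeneousComponent_zero] at this
    simp at this
  have hπf : ∀ f, π f = f • p1 := fun f => by rw [hp1, ← map_smul, smul_eq_mul, mul_one]
  have hbound : ∀ d : ℤ, 0 ≤ d → (Module.finrank k ↥(ℳ d) : ℤ) ≤ Z.card := by
    intro d hd
    obtain ⟨e, rfl⟩ := Int.eq_ofNat_of_zero_le hd
    let P : GrSyz.stdGr k (Fin 3) (e : ℤ) →ₗ[k] ℳ (e : ℤ) := (π.restrictScalars k).restrict (hπg _)
    let ev : GrSyz.stdGr k (Fin 3) (e : ℤ) →ₗ[k] (Z → k) :=
      LinearMap.pi fun p => (MvPolynomial.aeval (p : Fin 3 → k)).toLinearMap.comp (Submodule.subtype _)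
    have hP : Function.Surjective P := fun x => by
      obtain ⟨f, hf⟩ := hπ x.1
      refine ⟨⟨hc (e : ℤ) f, hc_mem _ _⟩, Subtype.ext ?_⟩
      change π (hc (e : ℤ) f) = x.1
      rw [← hf, hπf, hπf]
      have h := (ofDecomp ℳ).pr_smul_hom ((ofDecomp_hom_iff ℳ 0 p1).2 hp1mem) (e : ℤ) f
      rw [sub_zero] at h
      rw [← h, ← hπf, hf]
      exact (ofDecomp_hom_iff ℳ _ _).2 x.2
    have hker : LinearMap.ker ev ≤ LinearMap.ker P := fun f hf => by
      refine Subtype.ext ?_
      change π f.1 = 0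
      rw [← LinearMap.mem_ker, hker, hI]
      intro p hp j
      have hh : f.1.IsHomogeneous e := (mem_stdGr_natCast e f.1).1 f.2
      rw [MvPolynomial.homogeneousComponent_of_mem hh]
      split_ifs
      · exact congrFun (LinearMap.mem_ker.1 hf) ⟨p, hp⟩
      · exact map_zero _
    have r1 := LinearMap.finrank_range_add_finrank_ker P
    have r2 := LinearMap.finrank_range_add_finrank_ker ev
    rw [LinearMap.range_eq_top.2 hP, finrank_top] at r1
    have r3 := Submodule.finrank_mono hker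
    have r4 := Submodule.finrank_le (LinearMap.range ev)
    rw [Module.finrank_fintype_fun_eq_card, Fintype.card_coe] at r4
    omega
  set A0 := ∑ b, F.deg 0 b with hA0
  set A1 := ∑ b, F.deg 1 b with hA1
  set A2 := ∑ b, F.deg 2 b with hA2
  set Rk : ℤ := (F.rk 0 : ℤ) - F.rk 1 + F.rk 2 with hRk
  set Am := A0 - A1 + A2 with hAm
  set C : ℤ := (∑ b, (2 - F.deg 0 b) * (1 - F.deg 0 b)) - (∑ b, (2 - F.deg 1 b) * (1 - F.deg 1 b))
    + ∑ b, (2 - F.deg 2 b) * (1 - F.deg 2 b) with hC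
  set D : ℤ := max 0 ((Finset.range 3).sup' ⟨0, by simp⟩ fun i => ∑ b, |F.deg i b|) with hD
  have hDle : ∀ i < 3, ∀ b, F.deg i b ≤ D := fun i hi b =>
    le_trans (le_trans (le_abs_self _) (Finset.single_le_sum (f := fun b => |F.deg i b|) (fun b _ => abs_nonneg _) (Finset.mem_univ b)))
      (le_trans (Finset.le_sup' (fun i => ∑ b, |F.deg i b|) (Finset.mem_range.2 hi)) (le_max_right _ _))
  have hquad : ∀ d : ℤ, D ≤ d → 2 * (Module.finrank k ↥(ℳ d) : ℤ) = Rk * d ^ 2 + (3 * Rk - 2 * Am) * d + C := by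
    intro d hd
    rw [finrank_eq F hlen d]
    have key : ∀ i < 3, 2 * ∑ b, dimS 2 (d - F.deg i b)
        = (F.rk i : ℤ) * d ^ 2 + (3 * (F.rk i : ℤ) - 2 * ∑ b, F.deg i b) * d + ∑ b, (2 - F.deg i b) * (1 - F.deg i b) := by
      intro i hi
      have h2 : ∀ b, 2 * dimS 2 (d - F.deg i b) = d ^ 2 + (3 - 2 * F.deg i b) * d + (2 - F.deg i b) * (1 - F.deg i b) := by
        intro b
        have hb := hDle i hi b
        obtain ⟨N, hN⟩ := Int.eq_ofNat_of_zero_le (show 0 ≤ d - F.deg i b by omega)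
        rw [dimS, if_pos (by omega), hN, Int.toNat_natCast]
        have h3 : 2 * Nat.choose (2 + N) 2 = (N + 2) * (N + 1) := by
          rw [Nat.choose_two_right, show 2 + N - 1 = N + 1 by omega, add_comm 2 N]
          exact Nat.mul_div_cancel' (by rw [mul_comm]; exact (Nat.even_mul_succ_self (N + 1)).two_dvd)
        have h4 : (2 : ℤ) * (Nat.choose (2 + N) 2 : ℤ) = ((N : ℤ) + 2) * ((N : ℤ) + 1) := by exact_mod_cast h3
        rw [h4, ← hN]
        ring
      rw [Finset.mul_sum, Finset.sum_congr rfl fun b _ => h2 b, Finset.sum_add_distrib, Finset.sum_add_distrib,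
        ← Finset.sum_mul, Finset.sum_sub_distrib, ← Finset.mul_sum]
      simp only [Finset.sum_const, Finset.card_univ, Fintype.card_fin, nsmul_eq_mul]
      ring
    rw [Finset.sum_range_succ, Finset.sum_range_succ, Finset.sum_range_one]
    have k0 := key 0 (by norm_num)
    have k1 := key 1 (by norm_num)
    have k2 := key 2 (by norm_num)
    simp only [hRk, hAm, hA0, hA1, hA2, hC]
    linear_combination k0 - k1 + k2
  have hD0 : 0 ≤ D := le_max_left _ _
  have hb' : ∀ d, D ≤ d → 0 ≤ Rk * d ^ 2 + (3 * Rk - 2 * Am) * d + C ∧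
      Rk * d ^ 2 + (3 * Rk - 2 * Am) * d + C ≤ 2 * (Z.card : ℤ) := fun d hd => by
    rw [← hquad d hd]
    exact ⟨by positivity, by have := hbound d (le_trans hD0 hd); linarith⟩
  have hR0 : Rk = 0 := by
    by_contra hne
    obtain ⟨L, hL⟩ : ∃ L : ℤ, L = 4 * (Z.card : ℤ) + 3 := ⟨_, rfl⟩
    have hL0 : 0 ≤ L := by omega
    have e1 := hb' D le_rfl
    have e2 := hb' (D + L) (by omega)
    have e3 := hb' (D + 2 * L) (by omega)
    rcases lt_or_gt_of_ne hne with h | h
    · nlinarith [mul_le_mul_of_nonneg_right (show Rk ≤ -1 by omega) (sq_nonneg L)]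
    · nlinarith [mul_le_mul_of_nonneg_right (show 1 ≤ Rk by omega) (sq_nonneg L)]
  have hAm0 : Am = 0 := by
    by_contra hne
    have e1 := hb' D le_rfl
    have e2 := hb' (D + 2 * ((Z.card : ℤ) + 1)) (by omega)
    rw [hR0] at e1 e2
    rcases lt_or_gt_of_ne hne with h | h
    · nlinarith [mul_le_mul_of_nonneg_right (show Am ≤ -1 by omega) (show (0 : ℤ) ≤ 2 * ((Z.card : ℤ) + 1) by omega)]
    · nlinarith [mul_le_mul_of_nonneg_right (show 1 ≤ Am by omega) (show (0 : ℤ) ≤ 2 * ((Z.card : ℤ) + 1) by omega)]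
  have hrk0 : F.rk 0 = 1 := by omega
  have hA00 : A0 = 0 := by
    obtain ⟨v, hv⟩ := F.aug_surjective p1
    set b0 : Fin (F.rk 0) := ⟨0, by omega⟩
    haveI : Subsingleton (Fin (F.rk 0)) := by rw [hrk0]; infer_instance
    rw [hA0, Fintype.sum_subsingleton _ b0]
    have hv' : v b0 • F.aug b0 = p1 := by
      rw [← hv, Fintype.linearCombination_apply, Fintype.sum_subsingleton _ b0]
    have hne : F.aug b0 ≠ 0 := fun h => hp1ne (by rw [← hv', h, smul_zero])
    rcases lt_trichotomy (F.deg 0 b0) 0 with h | h | h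
    · refine absurd ?_ hne
      obtain ⟨f, hf⟩ := hπ (F.aug b0)
      have e := (ofDecomp ℳ).pr_smul_hom ((ofDecomp_hom_iff ℳ 0 p1).2 hp1mem) (F.deg 0 b0) f
      rw [← hπf, hf, hc_neg (show F.deg 0 b0 - 0 < 0 by omega), zero_smul] at e
      rw [← e]
      exact (aug_hom F b0).symm
    · exact h
    · refine absurd ?_ hp1ne
      have e := (ofDecomp ℳ).pr_smul_hom (aug_hom F b0) 0 (v b0)
      rw [hv', hc_neg (show (0 : ℤ) - F.deg 0 b0 < 0 by omega), zero_smul] at e
      rw [← e]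
      exact ((ofDecomp_hom_iff (n := 3) ℳ 0 p1).2 hp1mem).symm
  have s1 : A1 = ∑ i : Fin (t + 1), F.deg 1 (Fin.cast h1.symm i) :=
    (Fintype.sum_equiv (finCongr h1.symm) _ _ fun _ => rfl).symm
  have s2 : A2 = ∑ i : Fin t, F.deg 2 (Fin.cast h2.symm i) :=
    (Fintype.sum_equiv (finCongr h2.symm) _ _ fun _ => rfl).symm
  omega

end Groth.Agent.S15432
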