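import Groth.Statements.S15437
import Groth.Agent.GrSyz.Hilbert

set_option autoImplicit false
universe u
open GrSyz

namespace Groth.Agent.S15437

open Groth.Agent.GrSyz
/-- Let k be a field, S = k[x_0, …, x_r] graded by degree and M a ℤ-graded S-module with a finite graded
free resolution F of length at most m by free modules of finite rank with homogeneous bases; write
β_{i,j} for the number of basis vectors of F_i of degree j (the graded Betti numbers when F is
minimal) and B_j = Σ_{i ≤ m} (−1)^i β_{i,j}. Then for every integer d, dim_k M_d = Σ_j B_j C(r + d −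
j, r), where a binomial with d < j counts as zero and only finitely many j contribute; and the B_j
are recovered from the Hilbert function by B_j = dim_k M_j − Σ_{n < j} B_n C(r + j − n, r). (Stated
for any finite graded free resolution; the published statement takes the minimal one.) -/
theorem result (k : Type u) [Field k] (r : ℕ)
    (M : Type u) [AddCommGroup M] [Module k M] [Module (MvPolynomial (Fin (r + 1)) k) M]
    [IsScalarTower k (MvPolynomial (Fin (r + 1)) k) M] [Module.Finite (MvPolynomial (Fin (r + 1)) k) M]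
    (ℳ : ℤ → Submodule k M) [DirectSum.Decomposition ℳ] [SetLike.GradedSMul (GrSyz.stdGr k (Fin (r + 1))) ℳ]
    (F : GrSyz.FreeRes (GrSyz.stdGr k (Fin (r + 1))) ℳ) (m : ℕ) (hF : F.HasLengthLE m) :
    (∀ d : ℤ, (Module.finrank k ↥(ℳ d) : ℤ) =
        ∑ᶠ j : ℤ, (∑ i ∈ Finset.range (m + 1), (-1 : ℤ) ^ i * (F.betti i j : ℤ)) *
          (if j ≤ d then ((Nat.choose (r + (d - j).toNat) r : ℕ) : ℤ) else 0)) ∧
      ∀ j : ℤ, (∑ i ∈ Finset.range (m + 1), (-1 : ℤ) ^ i * (F.betti i j : ℤ)) =
        (Module.finrank k ↥(ℳ j) : ℤ) -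
          ∑ᶠ n : ℤ, (if n < j then (∑ i ∈ Finset.range (m + 1), (-1 : ℤ) ^ i * (F.betti i n : ℤ)) * ((Nat.choose (r + (j - n).toNat) r : ℕ) : ℤ) else 0) := by
  classical
  set B : ℤ → ℤ := fun j => ∑ i ∈ Finset.range (m + 1), (-1 : ℤ) ^ i * (F.betti i j : ℤ) with hB
  set T : Finset ℤ := (Finset.range (m + 1)).biUnion fun i => Finset.univ.image (F.deg i) with hT
  have hB0 : ∀ j, j ∉ T → B j = 0 := fun j hj => Finset.sum_eq_zero fun i hi => by
    have : F.betti i j = 0 := Finset.card_eq_zero.2 (Finset.filter_eq_empty_iff.2 fun b _ hb =>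
      hj (Finset.mem_biUnion.2 ⟨i, hi, Finset.mem_image.2 ⟨b, Finset.mem_univ b, hb⟩⟩))
    rw [this, Nat.cast_zero, mul_zero]
  have key : ∀ d, (Module.finrank k ↥(ℳ d) : ℤ) = ∑ j ∈ T, B j * dimS r (d - j) := by
    intro d
    rw [finrank_eq F hF d]
    simp only [hB, Finset.sum_mul]
    rw [Finset.sum_comm]
    refine Finset.sum_congr rfl fun i hi => ?_
    rw [← Finset.sum_fiberwise_of_maps_to (t := T) (g := F.deg i)
      (fun b _ => Finset.mem_biUnion.2 ⟨i, hi, Finset.mem_image.2 ⟨b, Finset.mem_univ b, rfl⟩⟩), Finset.mul_sum]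
    refine Finset.sum_congr rfl fun j _ => ?_
    rw [Finset.sum_congr rfl (fun b hb => by rw [(Finset.mem_filter.1 hb).2] : ∀ b ∈ Finset.univ.filter (fun b => F.deg i b = j), dimS r (d - F.deg i b) = dimS r (d - j)),
      Finset.sum_const, nsmul_eq_mul, mul_assoc]
    rfl
  refine ⟨fun d => ?_, fun j => ?_⟩
  · rw [key d, finsum_eq_sum_of_support_subset _ (s := T) ?_]
    · exact Finset.sum_congr rfl fun j _ => by rw [dimS_eq]
    · intro j hj
      by_contra h
      exact hj (by change B j * _ = 0; rw [hB0 j h, zero_mul])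
  · rw [key j, finsum_eq_sum_of_support_subset _ (s := T) ?_]
    · rw [← Finset.sum_sub_distrib, Finset.sum_eq_single j]
      · rw [if_neg (lt_irrefl _), sub_self, dimS]
        simp [hB]
      · intro l _ hl
        rw [dimS_eq]
        rcases lt_or_gt_of_ne hl with h | h
        · rw [if_pos h.le, if_pos h, sub_self]
        · rw [if_neg (not_le.2 h), if_neg (not_lt.2 h.le), mul_zero, sub_self]
      · intro h
        rw [hB0 j h]
        simp
    · intro l hl
      by_contra h
      refine hl ?_
      change (if l < j then B l * _ else 0) = 0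
      rw [hB0 l h, zero_mul, ite_self]

end Groth.Agent.S15437
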