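import Groth.Statements.S15494
import Mathlib

set_option autoImplicit false
universe u v
open Dieud

namespace Groth.Agent.S15494

/-- Let W be a commutative ring with a ring endomorphism σ, p a natural number, M a W-module and F an
additive self-map of M with F (w • m) = σ w • F m. Let d ≥ 1, c ≥ 1, h = d + c, and let e_1, …, e_h,
… be vectors of M on which F acts through a display matrix in normal form: F e_i = e_{i+1} for 1 ≤ i
< d; F e_d = Σ_{i=1}^{d} a_{i,d} e_i + e_{d+1}; F e_j = Σ_{i=1}^{d} p a_{i,j} e_i + p e_{j+1} for d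
< j < h; F e_h = Σ_{i=1}^{d} p a_{i,h} e_i. Then F^h e_1 = Σ_{i=1}^{d} Σ_{j=d}^{h} p^{j-d}
σ^{h-j}(a_{i,j}) F^{h+i-j-1} e_1. (The published statement is for the Dieudonné module of a
p-divisible group of dimension d and height h over the Witt ring of a field of characteristic p,
with σ the Frobenius and e_1, …, e_h a basis; this row keeps only the relations which the printed
computation uses, so W, σ, p and the vectors are arbitrary.) -/
theorem result
    (W : Type u) [CommRing W] (σ : W →+* W) (p : ℕ)
    (M : Type v) [AddCommGroup M] [Module W M]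
    (F : M →+ M) (hF : ∀ (w : W) (m : M), F (w • m) = σ w • F m)
    (d c : ℕ) (hd : 0 < d) (hc : 0 < c)
    (a : ℕ → ℕ → W) (e : ℕ → M)
    (h1 : ∀ i : ℕ, 1 ≤ i → i < d → F (e i) = e (i + 1))
    (h2 : F (e d) = (∑ i ∈ Finset.Icc 1 d, a i d • e i) + e (d + 1))
    (h3 : ∀ j : ℕ, d < j → j < d + c →
      F (e j) = (∑ i ∈ Finset.Icc 1 d, ((p : W) * a i j) • e i) + (p : W) • e (j + 1))
    (h4 : F (e (d + c)) = ∑ i ∈ Finset.Icc 1 d, ((p : W) * a i (d + c)) • e i) :
    (⇑F)^[d + c] (e 1) = ∑ i ∈ Finset.Icc 1 d, ∑ j ∈ Finset.Icc d (d + c),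
      ((p : W) ^ (j - d) * (⇑σ)^[d + c - j] (a i j)) • (⇑F)^[d + c + i - j - 1] (e 1) := by
  have hsum : ∀ (t : Finset ℕ) (f : ℕ → M), F (∑ i ∈ t, f i) = ∑ i ∈ t, F (f i) := fun t f => map_sum F f t
  -- the first vectors
  have he : ∀ i, i < d → (⇑F)^[i] (e 1) = e (i + 1) := by
    intro i hi
    induction i with
    | zero => rfl
    | succ i ih => rw [Function.iterate_succ_apply', ih (by omega), h1 _ (by omega) (by omega)]
  have hiter : ∀ (r : ℕ) (w : W) (m : M), (⇑F)^[r] (w • m) = (⇑σ)^[r] w • (⇑F)^[r] m := by
    intro r w m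
    induction r with
    | zero => rfl
    | succ r ih => rw [Function.iterate_succ_apply', Function.iterate_succ_apply', Function.iterate_succ_apply', ih, hF]
  have hterm : ∀ i ∈ Finset.Icc 1 d, ∀ (r : ℕ) (w : W), (⇑F)^[r] (w • e i) = (⇑σ)^[r] w • (⇑F)^[r + i - 1] (e 1) := by
    intro i hi r w
    rw [Finset.mem_Icc] at hi
    have hei : e i = (⇑F)^[i - 1] (e 1) := by rw [he (i - 1) (by omega), Nat.sub_add_cancel hi.1]
    rw [hiter, hei, ← Function.iterate_add_apply, show r + (i - 1) = r + i - 1 by omega]
  -- the running formula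
  have main : ∀ s, s < c → (⇑F)^[d + s] (e 1) =
      (∑ i ∈ Finset.Icc 1 d, ∑ j ∈ Finset.Icc d (d + s),
        ((p : W) ^ (j - d) * (⇑σ)^[d + s - j] (a i j)) • (⇑F)^[d + s + i - j - 1] (e 1)) +
      (p : W) ^ s • e (d + s + 1) := by
    intro s hs
    induction s with
    | zero =>
      simp only [Nat.add_zero, Finset.Icc_self, Finset.sum_singleton, Nat.sub_self, pow_zero, one_mul, one_smul,
        Function.iterate_zero_apply]
      rw [show d = (d - 1) + 1 by omega, Function.iterate_succ_apply', he (d - 1) (by omega),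
        Nat.sub_add_cancel (by omega : 1 ≤ d), h2]
      congr 1
      refine Finset.sum_congr rfl fun i hi => ?_
      have := hterm i hi 0 (a i d)
      simp only [Function.iterate_zero_apply, Nat.zero_add] at this
      rw [show d + i - d - 1 = i - 1 by omega]
      exact this
    | succ s ih =>
      rw [← Nat.add_assoc, Function.iterate_succ_apply', ih (by omega), map_add, hsum, hF, map_pow, map_natCast,
        h3 _ (by omega) (by omega), smul_add, ← mul_smul, ← pow_succ, ← add_assoc]
      congr 1
      rw [Finset.smul_sum, ← Finset.sum_add_distrib]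
      refine Finset.sum_congr rfl fun i hi => ?_
      rw [hsum, Finset.sum_Icc_succ_top (by omega)]
      refine congrArg₂ (· + ·) (Finset.sum_congr rfl fun j hj => ?_) ?_
      · rw [Finset.mem_Icc] at hj hi
        rw [hF, map_mul, map_pow, map_natCast, ← Function.iterate_succ_apply' (⇑σ), ← Function.iterate_succ_apply' (⇑F),
          show (d + s - j).succ = d + s + 1 - j by omega, show (d + s + i - j - 1).succ = d + s + 1 + i - j - 1 by omega]
      · have := hterm i hi 0 ((p : W) ^ (s + 1) * a i (d + s + 1))
        rw [show d + s + 1 - d = s + 1 by omega, Nat.sub_self, Function.iterate_zero_apply,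
          show d + s + 1 + i - (d + s + 1) - 1 = i - 1 by omega, smul_smul, pow_succ, mul_assoc]
        simp only [Function.iterate_zero_apply, Nat.zero_add] at this
        rw [pow_succ, mul_assoc] at this
        exact this
  obtain ⟨s, rfl⟩ : ∃ s, c = s + 1 := ⟨c - 1, by omega⟩
  rw [← Nat.add_assoc, Function.iterate_succ_apply', main s (by omega), map_add, hsum, hF, map_pow, map_natCast,
    show d + s + 1 = d + (s + 1) from rfl, h4, Finset.smul_sum, ← Finset.sum_add_distrib]
  refine Finset.sum_congr rfl fun i hi => ?_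
  rw [hsum, ← Nat.add_assoc, Finset.sum_Icc_succ_top (by omega)]
  refine congrArg₂ (· + ·) (Finset.sum_congr rfl fun j hj => ?_) ?_
  · rw [Finset.mem_Icc] at hj hi
    rw [hF, map_mul, map_pow, map_natCast, ← Function.iterate_succ_apply' (⇑σ), ← Function.iterate_succ_apply' (⇑F),
      show (d + s - j).succ = d + s + 1 - j by omega, show (d + s + i - j - 1).succ = d + s + 1 + i - j - 1 by omega]
  · have := hterm i hi 0 ((p : W) ^ (s + 1) * a i (d + s + 1))
    rw [show d + s + 1 - d = s + 1 by omega, Nat.sub_self, Function.iterate_zero_apply,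
      show d + s + 1 + i - (d + s + 1) - 1 = i - 1 by omega, smul_smul, pow_succ, mul_assoc]
    simp only [Function.iterate_zero_apply, Nat.zero_add] at this
    rw [pow_succ, mul_assoc] at this
    exact this

end Groth.Agent.S15494
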