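import Groth.Statements.S15495
import Mathlib.RingTheory.HopkinsLevitzki
import Mathlib.Algebra.Ring.GeomSum

set_option autoImplicit false
universe u
open CAlg

namespace Groth.Agent.S15495

/-- In an Artinian local ring R whose maximal ideal m contains the prime number p, the multiplicative
group 1 + m is annihilated under some power of p: there is n with (1 + x)^(p^n) = 1 for every x in
m. (The published text makes this assertion inside a proof, for Artinian local algebras over the
Witt ring of a perfect field of characteristic p; only p ∈ m and the nilpotence of m are used.) -/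
theorem result
    (R : Type u) [CommRing R] [IsLocalRing R] [IsArtinianRing R]
    (p : ℕ) (hp : p.Prime) (hpm : (p : R) ∈ IsLocalRing.maximalIdeal R) :
    ∃ n : ℕ, ∀ x ∈ IsLocalRing.maximalIdeal R, (1 + x) ^ (p ^ n) = 1 := by
  obtain ⟨n, hn⟩ := (isArtinianRing_iff_isNilpotent_maximalIdeal R).mp inferInstance
  refine ⟨n, fun x hx => ?_⟩
  have key : ∀ k : ℕ, (1 + x) ^ (p ^ k) - 1 ∈ IsLocalRing.maximalIdeal R ^ (k + 1) := by
    intro k
    induction k with
    | zero => simpa using hx
    | succ k ih =>
      rw [pow_succ p, pow_mul, ← geom_sum_mul, pow_succ' _ (k + 1)]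
      refine Ideal.mul_mem_mul ?_ ih
      have h1 : (1 + x) ^ (p ^ k) - 1 ∈ IsLocalRing.maximalIdeal R := Ideal.pow_le_self (by omega) ih
      rw [← Ideal.Quotient.eq_zero_iff_mem, map_sub, map_one, sub_eq_zero] at h1
      rw [← Ideal.Quotient.eq_zero_iff_mem, map_sum, Finset.sum_congr rfl (fun i _ => by rw [map_pow, h1, one_pow]),
        Finset.sum_const, Finset.card_range, nsmul_eq_mul, mul_one, ← map_natCast (Ideal.Quotient.mk _), Ideal.Quotient.eq_zero_iff_mem]
      exact hpm
  have := key n
  rwa [pow_succ, hn, zero_mul, Submodule.zero_eq_bot, Ideal.mem_bot, sub_eq_zero] at this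

end Groth.Agent.S15495
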