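import Groth.Statements.S15504
import Mathlib

set_option autoImplicit false
universe u v
open FrobAlg

namespace Groth.Agent.S15504

/-- Let k be an algebraically closed field of characteristic p, W = W(k) the ring of p-typical Witt
vectors, M a finitely generated torsion W-module and φ a p⁻¹-linear endomorphism of M (additive,
with φ(a·m) = σ⁻¹(a)·φ(m) for the Frobenius automorphism σ of W). Then M = M_s ⊕ M_n for two
φ-stable submodules, with φ bijective on M_s and nilpotent on M_n (one iterate of φ kills M_n). -/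
theorem result (p : ℕ) [Fact p.Prime]
    (k : Type u) [Field k] [CharP k p] [IsAlgClosed k]
    (M : Type v) [AddCommGroup M] [Module (WittVector p k) M] [Module.Finite (WittVector p k) M]
    (hM : Module.IsTorsion (WittVector p k) M)
    (φ : M →ₛₗ[((WittVector.frobeniusEquiv p k).symm : WittVector p k →+* WittVector p k)] M) :
    ∃ Ms Mn : Submodule (WittVector p k) M, IsCompl Ms Mn ∧
      Set.MapsTo φ Ms Ms ∧ Set.MapsTo φ Mn Mn ∧ Set.BijOn φ Ms Ms ∧
      ∃ r : ℕ, ∀ x ∈ Mn, (⇑φ)^[r] x = 0 := by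
  classical
  haveI hart : IsArtinian (WittVector p k) M := by
    obtain ⟨a, ha, ha0⟩ := Submodule.annihilator_top_inter_nonZeroDivisors hM
    obtain ⟨n, g, hg⟩ := Module.Finite.exists_fin (R := WittVector p k) (M := M)
    haveI : IsArtinian (WittVector p k) (WittVector p k ⧸ Ideal.span {a}) :=
      (isFiniteLength_iff_isNoetherian_isArtinian.1 (isFiniteLength_quotient_span_singleton (WittVector p k) ha0)).2
    let q : ∀ i : Fin n, (WittVector p k ⧸ Ideal.span {a}) →ₗ[WittVector p k] M := fun i =>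
      Submodule.liftQ _ (LinearMap.toSpanSingleton (WittVector p k) M (g i))
        ((Submodule.span_singleton_le_iff_mem _ _).2 (Submodule.mem_annihilator.1 ha (g i) Submodule.mem_top))
    haveI : IsArtinian (WittVector p k) (⨆ i, LinearMap.range (q i) : Submodule (WittVector p k) M) := isArtinian_iSup
    have htop : (⨆ i, LinearMap.range (q i) : Submodule (WittVector p k) M) = ⊤ := by
      refine top_le_iff.1 (hg ▸ Submodule.span_le.2 ?_)
      rintro - ⟨i, rfl⟩
      exact Submodule.mem_iSup_of_mem i ⟨Submodule.Quotient.mk 1,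
        (Submodule.liftQ_apply _ _ _).trans (one_smul _ _)⟩
    exact isArtinian_of_linearEquiv ((LinearEquiv.ofEq _ _ htop).trans Submodule.topEquiv)
  haveI : IsNoetherian (WittVector p k) M := inferInstance
  let A : ℕ → Submodule (WittVector p k) M := fun n => (Submodule.map φ)^[n] ⊤
  let B : ℕ → Submodule (WittVector p k) M := fun n => (Submodule.comap φ)^[n] ⊥
  have hA : ∀ n x, x ∈ A n ↔ ∃ y, (⇑φ)^[n] y = x := by
    intro n
    induction n with
    | zero => intro x; simp [A]
    | succ n ih =>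
      intro x
      simp only [A, Function.iterate_succ_apply', Submodule.mem_map]
      constructor
      · rintro ⟨z, hz, rfl⟩
        obtain ⟨y, rfl⟩ := (ih z).1 hz
        exact ⟨y, rfl⟩
      · rintro ⟨y, rfl⟩
        exact ⟨_, (ih _).2 ⟨y, rfl⟩, rfl⟩
  have hB : ∀ n x, x ∈ B n ↔ (⇑φ)^[n] x = 0 := by
    intro n
    induction n with
    | zero => intro x; simp [B]
    | succ n ih =>
      intro x
      simp only [B, Function.iterate_succ_apply', Submodule.mem_comap]
      rw [← Function.iterate_succ_apply' φ, Function.iterate_succ_apply]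
      exact ih (φ x)
  have hAanti : ∀ n, A (n + 1) ≤ A n := fun n x hx => by
    obtain ⟨y, rfl⟩ := (hA _ _).1 hx
    exact (hA _ _).2 ⟨φ y, (Function.iterate_succ_apply _ _ _).symm⟩
  have hBmono : ∀ n, B n ≤ B (n + 1) := fun n x hx => by
    rw [hB, Function.iterate_succ_apply', (hB _ _).1 hx, map_zero]
  obtain ⟨r₁, hr₁⟩ := IsArtinian.monotone_stabilizes
    (⟨fun n => OrderDual.toDual (A n), fun i j h => antitone_nat_of_succ_le hAanti h⟩ : ℕ →o (Submodule (WittVector p k) M)ᵒᵈ)
  obtain ⟨r₂, hr₂⟩ := monotone_stabilizes_iff_noetherian.2 ‹IsNoetherian (WittVector p k) M›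
    (⟨B, monotone_nat_of_le_succ hBmono⟩ : ℕ →o Submodule (WittVector p k) M)
  let r := max r₁ r₂
  have hAr : ∀ m, r ≤ m → A r = A m := fun m hm => by
    have h1 : A r₁ = A r := hr₁ r (le_max_left _ _)
    have h2 : A r₁ = A m := hr₁ m ((le_max_left _ _).trans hm)
    exact h1.symm.trans h2
  have hBr : ∀ m, r ≤ m → B r = B m := fun m hm => by
    have h1 : B r₂ = B r := hr₂ r (le_max_right _ _)
    have h2 : B r₂ = B m := hr₂ m ((le_max_right _ _).trans hm)
    exact h1.symm.trans h2
  have hmapsA : Set.MapsTo φ (A r) (A r) := fun x hx => by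
    obtain ⟨y, rfl⟩ := (hA _ _).1 hx
    exact (hA _ _).2 ⟨φ y, by rw [← Function.iterate_succ_apply φ, ← Function.iterate_succ_apply' φ]⟩
  refine ⟨A r, B r, IsCompl.of_eq ?_ ?_, hmapsA, fun x hx => ?_, ⟨hmapsA, fun x hx y hy hxy => ?_, fun x hx => ?_⟩,
    r, fun x hx => (hB _ _).1 hx⟩
  · rw [Submodule.eq_bot_iff]
    rintro x ⟨hxA, hxB⟩
    obtain ⟨y, rfl⟩ := (hA _ _).1 hxA
    have h2 : y ∈ B (r + r) := by rw [hB, Function.iterate_add_apply]; exact (hB _ _).1 hxB
    rw [← hBr (r + r) (by omega), hB] at h2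
    exact h2
  · rw [Submodule.eq_top_iff']
    intro x
    have h1 : (⇑φ)^[r] x ∈ A (r + r) := by rw [← hAr (r + r) (by omega)]; exact (hA _ _).2 ⟨x, rfl⟩
    obtain ⟨z, hz⟩ := (hA _ _).1 h1
    refine Submodule.mem_sup.2 ⟨(⇑φ)^[r] z, (hA _ _).2 ⟨z, rfl⟩, x - (⇑φ)^[r] z, ?_, add_sub_cancel _ _⟩
    rw [hB, iterate_map_sub, ← Function.iterate_add_apply, hz, sub_self]
  · refine (hB _ _).2 ?_
    rw [← Function.iterate_succ_apply, Function.iterate_succ_apply', (hB _ _).1 hx, map_zero]
  · have hd : x - y ∈ A r := sub_mem hx hy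
    obtain ⟨z, hz⟩ := (hA _ _).1 hd
    have h2 : z ∈ B (r + 1) := by
      rw [hB, Function.iterate_succ_apply', hz, map_sub, hxy, sub_self]
    rw [← hBr (r + 1) (by omega), hB, hz] at h2
    exact sub_eq_zero.1 h2
  · rw [SetLike.mem_coe, hAr (r + 1) (by omega), hA] at hx
    obtain ⟨y, rfl⟩ := hx
    exact ⟨(⇑φ)^[r] y, (hA _ _).2 ⟨y, rfl⟩, (Function.iterate_succ_apply' _ _ _).symm⟩

end Groth.Agent.S15504
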