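import Groth.Statements.S15505
import Groth.Agent.SemiLin.Roots
import Mathlib.FieldTheory.Finite.Basic
-- import your own Groth.Agent.* helpers here

set_option autoImplicit false
universe u v w
open FrobAlg

namespace Groth.Agent.S15505

/-- Let k be an algebraically closed field of characteristic p, V a k-vector space, φ a p⁻¹-linear
endomorphism of V (additive, φ(a·v) = a^{1/p}·φ(v)) and b a finite basis of V consisting of vectors
fixed by φ. Then the vectors fixed by φ are exactly the combinations of the b_i with coefficients in
the prime field: v is fixed if and only if v = Σ c_i·b_i with all c_i in the image of ℤ/p. -/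
theorem result (p : ℕ) [Fact p.Prime]
    (k : Type u) [Field k] [CharP k p] [IsAlgClosed k]
    (V : Type v) [AddCommGroup V] [Module k V]
    (φ : V →ₛₗ[((frobeniusEquiv k p).symm : k →+* k)] V)
    {ι : Type w} [Fintype ι] (b : Module.Basis ι k V) (hb : ∀ i, φ (b i) = b i) (v : V) :
    φ v = v ↔ ∃ c : ι → ZMod p, v = ∑ i, (ZMod.castHom (dvd_refl p) k (c i)) • b i := by
  classical
  have hp : 1 < p := (Fact.out : p.Prime).one_lt
  have key : ∀ x : k, (frobeniusEquiv k p).symm x = x ↔
      ∃ z : ZMod p, ZMod.castHom (dvd_refl p) k z = x := by
    intro x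
    rw [RingEquiv.symm_apply_eq, frobeniusEquiv_def]
    constructor
    · intro hx
      let P : Polynomial k := Polynomial.X ^ p - Polynomial.X
      have hP : P ≠ 0 := fun h => by
        have := congrArg (fun Q => Polynomial.coeff Q 1) h
        simp [P, hp.ne] at this
      have hsub : Finset.univ.image (ZMod.castHom (dvd_refl p) k) ⊆ P.roots.toFinset := by
        intro y hy
        obtain ⟨z, -, rfl⟩ := Finset.mem_image.mp hy
        simp [Multiset.mem_toFinset, hP, P, sub_eq_zero]
        rw [← ZMod.castHom_apply (h := dvd_refl p), ← map_pow, ZMod.pow_card]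
      have hcard : P.roots.toFinset.card ≤ (Finset.univ.image (ZMod.castHom (dvd_refl p) k)).card := by
        rw [Finset.card_image_of_injective _ (ZMod.castHom_injective k), Finset.card_univ, ZMod.card]
        refine (Multiset.toFinset_card_le _).trans ((Polynomial.card_roots' P).trans ?_)
        refine (Polynomial.natDegree_sub_le _ _).trans ?_
        simp [hp.le]
      have : x ∈ P.roots.toFinset := by
        simp [hP, P, sub_eq_zero, ← hx]
      rw [← Finset.eq_of_subset_of_card_le hsub hcard] at this
      simpa using this
    · rintro ⟨z, rfl⟩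
      rw [← map_pow, ZMod.pow_card]
  constructor
  · intro hv
    have hc := SemiLin.Basic.coeff_fixed φ b.linearIndependent hb (fun i => b.repr v i)
      (by rw [b.sum_repr]; exact hv)
    choose c hc using fun i => (key _).mp (hc i)
    exact ⟨c, by simp [hc, b.sum_repr]⟩
  · rintro ⟨c, rfl⟩
    simp only [map_sum, map_smulₛₗ, hb]
    exact Finset.sum_congr rfl fun i _ => by rw [show ((frobeniusEquiv k p).symm : k →+* k) _ = _ from (key _).mpr ⟨c i, rfl⟩]

end Groth.Agent.S15505
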