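import Groth.Statements.S15526
import Mathlib
-- import your own Groth.Agent.* helpers here

set_option autoImplicit false
universe u
open MvPolynomial
open CAlg

namespace Groth.Agent.S15526

/-- Let R be a commutative ring, P ∈ R[x] a monic polynomial of degree 2g + 1, and A = R[x, y, z]/(y^2 −
P(x), yz − 1). Then every element of A is a finite sum Σ_n Q_n(x) y^n over integers n, negative
powers of y meaning powers of z, with each Q_n ∈ R[x] of degree at most 2g: the R-submodule of A
spanned by the classes of x^i y^n and x^i z^n with i ≤ 2g and n ≥ 0 is all of A. (The published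
statement takes for R the ring of Witt vectors of a finite field and for P a lift of a separable
polynomial; the argument uses only that P is monic of degree 2g + 1.) -/
theorem result (R : Type u) [CommRing R] (g : ℕ)
    (P : Polynomial R) (hP : P.Monic) (hdeg : P.natDegree = 2 * g + 1) :
    Submodule.span R {a : MvPolynomial (Fin 3) R ⧸
        Ideal.span ({X 1 ^ 2 - Polynomial.aeval (X 0 : MvPolynomial (Fin 3) R) P, X 1 * X 2 - 1} :
          Set (MvPolynomial (Fin 3) R)) |
        ∃ i n : ℕ, i ≤ 2 * g ∧
          (a = Ideal.Quotient.mk _ (X 0 ^ i * X 1 ^ n) ∨ a = Ideal.Quotient.mk _ (X 0 ^ i * X 2 ^ n))} =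
      ⊤ := by
  classical
  set I := Ideal.span ({X 1 ^ 2 - Polynomial.aeval (X 0 : MvPolynomial (Fin 3) R) P, X 1 * X 2 - 1} : Set (MvPolynomial (Fin 3) R)) with hI
  set S := Submodule.span R {a : MvPolynomial (Fin 3) R ⧸ I | ∃ i n : ℕ, i ≤ 2 * g ∧
      (a = Ideal.Quotient.mk _ (X 0 ^ i * X 1 ^ n) ∨ a = Ideal.Quotient.mk _ (X 0 ^ i * X 2 ^ n))} with hS
  let π := Ideal.Quotient.mk I
  set x := π (X 0) with hx
  set y := π (X 1) with hy
  set z := π (X 2) with hz
  have hyz : y * z = 1 := by
    rw [hy, hz, ← map_mul, ← map_one π]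
    exact Ideal.Quotient.eq.mpr (Ideal.subset_span (Or.inr rfl))
  have hP0 : y ^ 2 = Polynomial.aeval x P := by
    rw [hy, ← map_pow, hx, show π (X 0) = Ideal.Quotient.mkₐ R I (X 0) from rfl, Polynomial.aeval_algHom_apply]
    exact Ideal.Quotient.eq.mpr (Ideal.subset_span (Or.inl rfl))
  have hd : x ^ (2 * g + 1) = y ^ 2 - ∑ j ∈ Finset.range (2 * g + 1), P.coeff j • x ^ j := by
    rw [hP0, Polynomial.aeval_eq_sum_range, hdeg, Finset.sum_range_succ _ (2 * g + 1)]
    rw [show P.coeff (2 * g + 1) = 1 by rw [← hdeg]; exact hP.coeff_natDegree, one_smul]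
    abel
  have hc : ∀ n m, y ^ n * z ^ m = y ^ (n - m) * z ^ (m - n) := by
    intro n m
    have e1 : y ^ n = y ^ (n - m) * y ^ min n m := by rw [← pow_add]; congr 1; omega
    have e2 : z ^ m = z ^ (m - n) * z ^ min n m := by rw [← pow_add]; congr 1; omega
    rw [e1, e2, mul_mul_mul_comm, ← mul_pow, hyz, one_pow, mul_one]
  have key : ∀ i n m, x ^ i * y ^ n * z ^ m ∈ S := by
    intro i
    induction i using Nat.strong_induction_on with
    | _ i ih =>
      intro n m
      by_cases hi : i ≤ 2 * g
      · rw [mul_assoc, hc n m]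
        rcases le_total n m with h | h
        · rw [Nat.sub_eq_zero_of_le h, pow_zero, one_mul]
          exact Submodule.subset_span ⟨i, m - n, hi, Or.inr (by simp [hx, hz, π])⟩
        · rw [Nat.sub_eq_zero_of_le h, pow_zero, mul_one]
          exact Submodule.subset_span ⟨i, n - m, hi, Or.inl (by simp [hx, hy, π])⟩
      · have e : x ^ i * y ^ n * z ^ m = x ^ (i - (2 * g + 1)) * y ^ (n + 2) * z ^ m -
            ∑ j ∈ Finset.range (2 * g + 1), P.coeff j • (x ^ (i - (2 * g + 1) + j) * y ^ n * z ^ m) := by
          have h1 : x ^ i = x ^ (i - (2 * g + 1)) * x ^ (2 * g + 1) := by rw [← pow_add]; congr 1; omega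
          rw [h1, hd, mul_sub, sub_mul, sub_mul, Finset.mul_sum, Finset.sum_mul, Finset.sum_mul]
          congr 1
          · ring
          · refine Finset.sum_congr rfl fun j _ => ?_
            rw [mul_smul_comm, smul_mul_assoc, smul_mul_assoc, ← pow_add]
        rw [e]
        refine S.sub_mem (ih _ (by omega) _ _) (S.sum_mem fun j hj => S.smul_mem _ (ih _ ?_ _ _))
        have := Finset.mem_range.mp hj
        omega
  rw [eq_top_iff]
  intro a _
  obtain ⟨q, rfl⟩ := Ideal.Quotient.mk_surjective a
  induction q using MvPolynomial.induction_on' with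
  | monomial u c =>
    have e : (monomial u c : MvPolynomial (Fin 3) R) = c • (X 0 ^ u 0 * X 1 ^ u 1 * X 2 ^ u 2) := by
      rw [monomial_eq, smul_eq_C_mul, Finsupp.prod_fintype _ _ (fun i => pow_zero _), Fin.prod_univ_three]
    rw [e, ← Ideal.Quotient.mkₐ_eq_mk R, map_smul]
    refine S.smul_mem c ?_
    have := key (u 0) (u 1) (u 2)
    simpa [hx, hy, hz, π, map_mul, map_pow] using this
  | add p q hp hq =>
    rw [map_add]; exact S.add_mem (hp trivial) (hq trivial)

end Groth.Agent.S15526
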