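import Groth.Statements.S15533
import Groth.Agent.HopfRep.GeomReduced
import Mathlib.RingTheory.Nilpotent.GeometricallyReduced
import Mathlib.RingTheory.AdjoinRoot
import Mathlib.FieldTheory.Perfect
import Mathlib.RingTheory.Derivation.Basic
import Mathlib.RingTheory.TensorProduct.Free

set_option autoImplicit false
universe u
open OmegaSh

namespace Groth.Agent.S15533

open CategoryTheory CategoryTheory.Limits AlgebraicGeometry Opposite TopologicalSpace Polynomial
open scoped TensorProduct

theorem der_eq_zero_of_isIntegral {k A M : Type u} [Field k] [CommRing A] [Algebra k A]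
    [Algebra.IsGeometricallyReduced k A] [AddCommGroup M] [Module A M] [Module k M] [IsScalarTower k A M]
    (D : Derivation k A M) {a : A} (ha : IsIntegral k a) : D a = 0 := by
  let P := minpoly k a
  have hP : P.Monic := minpoly.monic ha
  let φ : AdjoinRoot P →ₐ[k] A := AdjoinRoot.liftAlgHom P (Algebra.ofId k A) a (minpoly.aeval k a)
  have hφ : Function.Injective φ := by
    rw [injective_iff_map_eq_zero]
    intro y hy
    obtain ⟨q, rfl⟩ := AdjoinRoot.mk_surjective y
    rw [AdjoinRoot.mk_eq_zero]
    refine minpoly.dvd k a ?_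
    rw [Polynomial.aeval_def]
    simpa [φ] using hy
  haveI := Algebra.IsGeometricallyReduced.of_injective φ hφ
  let L := AlgebraicClosure k
  haveI : IsReduced (L ⊗[k] AdjoinRoot P) := inferInstance
  let pb := AdjoinRoot.powerBasis hP.ne_zero
  let x : L ⊗[k] AdjoinRoot P := 1 ⊗ₜ pb.gen
  let b := Algebra.TensorProduct.basis L pb.basis
  have hb : ∀ i, b i = x ^ (i : ℕ) := by
    intro i
    simp [b, x, Algebra.TensorProduct.tmul_pow]
  have hind : ∀ q : L[X], q.natDegree < pb.dim → aeval x q = 0 → q = 0 := by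
    intro q hq hq0
    rw [aeval_eq_sum_range' hq, ← Fin.sum_univ_eq_sum_range (fun i => q.coeff i • x ^ i)] at hq0
    simp_rw [← hb] at hq0
    have := Fintype.linearIndependent_iff.mp b.linearIndependent (fun i => q.coeff i) hq0
    ext i
    by_cases hi : i < pb.dim
    · simpa using this ⟨i, hi⟩
    · rw [coeff_eq_zero_of_natDegree_lt (lt_of_lt_of_le hq (not_lt.mp hi)), coeff_zero]
  have hPx : aeval x (P.map (algebraMap k L)) = 0 := by
    rw [aeval_map_algebraMap, show x = (Algebra.TensorProduct.includeRight : _ →ₐ[k] L ⊗[k] _) pb.gen from rfl,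
      aeval_algHom_apply]
    simp [pb]
  have hsq : Squarefree (P.map (algebraMap k L)) := by
    intro q hq
    obtain ⟨r, hr⟩ := hq
    by_contra hu
    have hne : P.map (algebraMap k L) ≠ 0 := (hP.map _).ne_zero
    have hr0 : r ≠ 0 := fun h => hne (by rw [hr, h, mul_zero])
    have hq0 : q ≠ 0 := fun h => hne (by rw [hr, h, mul_zero, zero_mul])
    have hnil : IsNilpotent (aeval x (q * r)) := ⟨2, by
      rw [← map_pow, show (q * r) ^ 2 = q * q * r * r by ring, ← hr, map_mul, hPx, zero_mul]⟩
    have hdeg : 0 < q.natDegree := natDegree_pos_iff_degree_pos.mpr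
      (degree_pos_of_ne_zero_of_nonunit hq0 hu)
    have hd : (P.map (algebraMap k L)).natDegree = pb.dim := by
      rw [natDegree_map]; rfl
    have hlt : (q * r).natDegree < pb.dim := by
      rw [← hd, hr, natDegree_mul (mul_ne_zero hq0 hq0) hr0, natDegree_mul hq0 hq0, natDegree_mul hq0 hr0]
      omega
    exact mul_ne_zero hq0 hr0 (hind _ hlt hnil.eq_zero)
  have hsep : P.Separable := (separable_map (algebraMap k L)).mp (PerfectField.separable_iff_squarefree.mpr hsq)
  obtain ⟨u, v, huv⟩ := hsep
  have h1 : aeval a (derivative P) • D a = 0 := by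
    rw [← Derivation.map_aeval, minpoly.aeval, map_zero]
  have h2 := congrArg (aeval a) huv
  rw [map_add, map_mul, map_mul, minpoly.aeval, mul_zero, zero_add, map_one] at h2
  rw [← one_smul A (D a), ← h2, mul_smul, h1, smul_zero]

open CategoryTheory AlgebraicGeometry in
/-- For a field k and a smooth proper k-scheme X with structure morphism f, the derivation d : O_X →
Ω_{X/k} of f vanishes on global functions: d(s) = 0 in Γ(X, Ω_{X/k}) for every s ∈ Γ(X, O_X). -/
theorem result (k : Type u) [Field k] (X : Scheme.{u})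
    (f : X ⟶ Spec (CommRingCat.of k)) [IsProper f] [Smooth f] (s : Γ(X, ⊤)) :
    (OmegaSh.dOmega f).app ⊤ s = 0 := by
  let D := OmegaSh.dOmega f
  let F := Omega.sheaf f
  refine TopCat.Presheaf.section_ext ⟨F.presheaf, F.isSheaf⟩ ⊤ _ 0 fun x hx => ?_
  obtain ⟨_, ⟨U, hU, rfl⟩, hxU, -⟩ :=
    X.isBasis_affineOpens.exists_subset_of_mem_open (Set.mem_univ x) isOpen_univ
  have e : U ≤ f ⁻¹ᵁ ⊤ := le_top
  let ρ : k →+* Γ(X, U) := ((Scheme.ΓSpecIso (CommRingCat.of k)).inv ≫ f.appLE ⊤ U e).hom
  letI := ρ.toAlgebra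
  letI : Module k Γ(F, U) := Module.compHom _ ρ
  haveI : IsScalarTower k Γ(X, U) Γ(F, U) := IsScalarTower.of_algebraMap_smul fun _ _ => rfl
  haveI : Algebra.Smooth k Γ(X, U) := by
    rw [← RingHom.smooth_algebraMap]
    have h := Scheme.Hom.smooth_appLE f (isAffineOpen_top _) hU e
    exact (RingHom.Smooth.respectsIso.cancel_left_isIso _ _).mpr h
  haveI : Algebra.IsGeometricallyReduced k Γ(X, U) :=
    (Algebra.isGeometricallyReduced_field_iff k _).mpr (Groth.Agent.HopfRep.GeomReduced.isReduced_of_smooth_algebra (AlgebraicClosure k)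
      (AlgebraicClosure k ⊗[k] Γ(X, U)))
  let D' : Derivation k Γ(X, U) Γ(F, U) :=
    { toFun := D.app U
      map_add' := map_add _
      map_smul' := fun r a => by
        show D.app U (ρ r * a) = ρ r • D.app U a
        have h0 : D.app U (ρ r) = 0 := by
          show D.app U (X.presheaf.map (homOfLE e).op (f.app ⊤ ((Scheme.ΓSpecIso (CommRingCat.of k)).inv r))) = 0
          refine (D.d_map (homOfLE e).op _).trans ?_
          exact (congrArg (F.presheaf.map (homOfLE e).op) (D.d_app (X := op ⊤) _)).trans (map_zero _)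
        refine (D.d_mul _ _).trans ?_
        show ρ r • D.app U a + a • D.app U (ρ r) = _
        rw [h0, smul_zero, add_zero]
      map_one_eq_zero' := by
        show D.app U 1 = 0
        have h : D.app U (1 * 1) = (1 : Γ(X, U)) • D.app U 1 + (1 : Γ(X, U)) • D.app U 1 := D.d_mul 1 1
        rw [one_mul, one_smul] at h
        exact right_eq_add.mp h
      leibniz' := fun a b => D.d_mul a b }
  have hs : IsIntegral k (X.presheaf.map (homOfLE (le_top : U ≤ ⊤)).op s) := by
    have h := isIntegral_appTop_of_universallyClosed f s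
    obtain ⟨q, hq, hq0⟩ := h
    refine ⟨q.map (Scheme.ΓSpecIso (CommRingCat.of k)).hom.hom, hq.map _, ?_⟩
    rw [eval₂_map]
    have key : (algebraMap k Γ(X, U)).comp (Scheme.ΓSpecIso (CommRingCat.of k)).hom.hom =
        (X.presheaf.map (homOfLE (le_top : U ≤ ⊤)).op).hom.comp f.appTop.hom := by
      show ((Scheme.ΓSpecIso (CommRingCat.of k)).hom ≫ (Scheme.ΓSpecIso (CommRingCat.of k)).inv ≫ f.appLE ⊤ U e).hom = _
      rw [Iso.hom_inv_id_assoc]
      rfl
    rw [key, ← hom_eval₂, hq0, map_zero]
  have h := der_eq_zero_of_isIntegral D' hs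
  have h2 : F.presheaf.map (homOfLE (le_top : U ≤ ⊤)).op (D.app ⊤ s) = 0 :=
    (D.d_map (homOfLE (le_top : U ≤ ⊤)).op s).symm.trans h
  have h3 := congrArg (F.presheaf.germ U x hxU) h2
  rw [TopCat.Presheaf.germ_res_apply, map_zero] at h3
  exact h3.trans (map_zero _).symm

end Groth.Agent.S15533
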