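import Groth.Statements.S15557
import Mathlib.CategoryTheory.Triangulated.Pretriangulated

set_option autoImplicit false
universe v u
open CategoryTheory
open CohDer

namespace Groth.Agent.S15557

open CategoryTheory.Pretriangulated in
/-- Let T = (X, Y, Z) and T' = (X', Y', Z') be distinguished triangles in a pretriangulated category and
assume that every morphism X → Z' and every morphism X → Z'[-1] is zero. Then composing with the
first map X' → Y' of T' is a bijection Hom(X, X') → Hom(X, Y'), and composing with the second map Y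
→ Z of T is a bijection Hom(Z, Z') → Hom(Y, Z'). (The published lemma is for triangulated
categories; the octahedral axiom plays no role.) -/
theorem result {D : Type u} [Category.{v} D] [Preadditive D]
    [Limits.HasZeroObject D] [HasShift D ℤ] [∀ n : ℤ, (shiftFunctor D n).Additive] [Pretriangulated D]
    (T T' : Triangle D) (hT : T ∈ distinguishedTriangles) (hT' : T' ∈ distinguishedTriangles)
    (hXZ : ∀ u : T.obj₁ ⟶ T'.obj₃, u = 0)
    (hXZ' : ∀ u : T.obj₁ ⟶ (shiftFunctor D (-1 : ℤ)).obj T'.obj₃, u = 0) :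
    Function.Bijective (fun u : T.obj₁ ⟶ T'.obj₁ => u ≫ T'.mor₁) ∧
      Function.Bijective (fun w : T.obj₃ ⟶ T'.obj₃ => T.mor₂ ≫ w) := by
  refine ⟨⟨fun a b hab => sub_eq_zero.1 ?_, fun u => ?_⟩, ⟨fun a b hab => sub_eq_zero.1 ?_, fun u => ?_⟩⟩
  · obtain ⟨c, hc⟩ := Triangle.coyoneda_exact₂ _ (inv_rot_of_distTriang _ hT') (a - b)
      (by show (a - b) ≫ T'.mor₁ = 0; rw [Preadditive.sub_comp, sub_eq_zero]; exact hab)
    rw [hc, hXZ' c]
    exact Limits.zero_comp
  · obtain ⟨v, hv⟩ := Triangle.coyoneda_exact₂ _ hT' u (hXZ _)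
    exact ⟨v, hv.symm⟩
  · obtain ⟨c, hc⟩ := Triangle.yoneda_exact₃ _ hT (a - b)
      (by simpa [Preadditive.comp_sub, sub_eq_zero] using hab)
    have hc0 : c = 0 := by
      let e := ((shiftEquiv D (1 : ℤ)).counitIso.app T'.obj₃)
      obtain ⟨c', hc'⟩ := (shiftFunctor D (1 : ℤ)).map_surjective (c ≫ e.inv)
      apply (cancel_mono e.inv).1
      exact hc'.symm.trans ((congrArg _ (hXZ' c')).trans ((Functor.map_zero _ _ _).trans Limits.zero_comp.symm))
    rw [hc, hc0, Limits.comp_zero]
  · obtain ⟨v, hv⟩ := Triangle.yoneda_exact₂ _ hT u (hXZ _)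
    exact ⟨v, hv.symm⟩

end Groth.Agent.S15557
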