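import Groth.Statements.S15573
import Mathlib

set_option autoImplicit false
universe u v
open RInv

namespace Groth.Agent.S15573

theorem result (S : Type u) (R : Type v) [CommRing S] [CommRing R] [Algebra S R] (lam : R ≃+* R) (hlam : Function.Involutive lam) (hS : RInv.IsFixedRing S R lam) (h : ∃ r : R, IsUnit (r - lam r)) : RInv.IsQuadEtale S R := by
  rcases subsingleton_or_nontrivial S with hsub | hnt
  · haveI : Subsingleton R := Module.subsingleton S R
    refine ⟨inferInstance, inferInstance, ?_, fun p => absurd p.2.ne_top (fun hne => hne (Subsingleton.elim _ _))⟩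
    exact ⟨Module.subsingleton R _⟩
  obtain ⟨r, hu⟩ := h
  obtain ⟨hinj, hfix⟩ := hS
  have hS' : ∀ s : S, lam (algebraMap S R s) = algebraMap S R s := fun s => (hfix _).mpr ⟨s, rfl⟩
  obtain ⟨w, hw⟩ := hu
  have hlw : lam (r - lam r) = -(r - lam r) := by rw [map_sub, hlam]; ring
  have hwi : (r - lam r) * (↑w⁻¹ : R) = 1 := by rw [← hw]; simp
  have hlwi : lam (↑w⁻¹ : R) = -(↑w⁻¹ : R) := by
    have h1 : lam ((r - lam r) * (↑w⁻¹ : R)) = 1 := by rw [hwi, map_one]
    rw [map_mul, hlw] at h1
    linear_combination (-(↑w⁻¹ : R)) * h1 - lam (↑w⁻¹ : R) * hwi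
  have hex : ∀ x : R, ∃ a b : S, x = algebraMap S R a + algebraMap S R b * r := by
    intro x
    have hb : lam ((x - lam x) * (↑w⁻¹ : R)) = (x - lam x) * (↑w⁻¹ : R) := by
      rw [map_mul, hlwi, map_sub, hlam]; ring
    obtain ⟨b, hb'⟩ := (hfix _).mp hb
    have ha : lam (x - algebraMap S R b * r) = x - algebraMap S R b * r := by
      rw [map_sub, map_mul, hS', hb']
      linear_combination (-(x - lam x)) * (1 : R) + (x - lam x) * hwi
    obtain ⟨a, ha'⟩ := (hfix _).mp ha
    exact ⟨a, b, by rw [ha']; ring⟩
  have huniq : ∀ a b : S, algebraMap S R a + algebraMap S R b * r = 0 → a = 0 ∧ b = 0 := by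
    intro a b h0
    have h1 := congrArg lam h0
    rw [map_add, map_mul, hS', hS', map_zero] at h1
    have h2 : algebraMap S R b = 0 := by
      linear_combination (↑w⁻¹ : R) * h0 - (↑w⁻¹ : R) * h1 - algebraMap S R b * hwi
    have hb : b = 0 := hinj (by rw [h2, map_zero])
    subst hb
    refine ⟨hinj ?_, rfl⟩
    rw [map_zero] at h0 ⊢
    simpa using h0
  let f : (Fin 2 → S) →ₗ[S] R :=
    { toFun := fun c => algebraMap S R (c 0) + algebraMap S R (c 1) * r
      map_add' := fun c d => by simp; ring
      map_smul' := fun s c => by simp [Algebra.smul_def]; ring }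
  have hf : Function.Bijective f := by
    refine ⟨(injective_iff_map_eq_zero f).mpr fun c hc => ?_, fun x => ?_⟩
    · obtain ⟨h0, h1⟩ := huniq (c 0) (c 1) hc
      funext i; fin_cases i <;> assumption
    · obtain ⟨a, b, rfl⟩ := hex x
      exact ⟨![a, b], rfl⟩
  let e := LinearEquiv.ofBijective f hf
  haveI : Module.Free S R := Module.Free.of_equiv e
  haveI : Module.Finite S R := Module.Finite.equiv e
  refine ⟨inferInstance, inferInstance, ?_, fun p => ?_⟩
  · refine ⟨subsingleton_of_forall_eq 0 fun y => ?_⟩
    have hDr : KaehlerDifferential.D S R r = 0 := by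
      obtain ⟨t, ht⟩ := (hfix (r + lam r)).mp (by rw [map_add, hlam]; ring)
      obtain ⟨N, hN⟩ := (hfix (r * lam r)).mp (by rw [map_mul, hlam]; ring)
      have heq : r * r - algebraMap S R t * r + algebraMap S R N = 0 := by rw [ht, hN]; ring
      have h1 := congrArg (KaehlerDifferential.D S R) heq
      simp only [map_add, map_sub, Derivation.leibniz, Derivation.map_algebraMap, smul_zero, add_zero, map_zero, zero_add] at h1
      rw [← add_smul, ← sub_smul] at h1
      have h2 : r + r - algebraMap S R t = r - lam r := by rw [ht]; ring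
      rw [h2] at h1
      have := congrArg (fun z => (↑w⁻¹ : R) • z) h1
      simp only [smul_smul, smul_zero] at this
      rwa [mul_comm, hwi, one_smul] at this
    have hy : y ∈ Submodule.span R (Set.range (KaehlerDifferential.D S R)) := by
      rw [KaehlerDifferential.span_range_derivation]; trivial
    refine Submodule.span_induction ?_ rfl (fun a b _ _ ha hb => by rw [ha, hb, add_zero]) (fun a b _ hb => by rw [hb, smul_zero]) hy
    rintro _ ⟨x, rfl⟩
    obtain ⟨a, b, rfl⟩ := hex x
    simp [hDr]
  · rw [Module.rankAtStalk_eq_finrank_of_free, ← e.finrank_eq]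
    simp

end Groth.Agent.S15573
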