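import Groth.Statements.S15590
import Mathlib
-- import your own Groth.Agent.* helpers here

set_option autoImplicit false
universe u v
open CAlg

namespace Groth.Agent.S15590

/-- Let A → B be an injective homomorphism of commutative rings which makes B a finite flat A-module,
and suppose B is a Dedekind domain (Noetherian, integrally closed, of Krull dimension at most one; a
field is allowed). Then A is a Dedekind domain. -/
theorem result (A : Type u) (B : Type v)
    [CommRing A] [CommRing B] [Algebra A B] [IsDedekindDomain B]
    (hinj : Function.Injective (algebraMap A B)) [Module.Finite A B] [Module.Flat A B] :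
    IsDedekindDomain A := by
  haveI hd : IsDomain A := hinj.isDomain
  haveI : Algebra.IsIntegral A B := Algebra.IsIntegral.of_finite A B
  haveI : FaithfulSMul A B := (faithfulSMul_iff_algebraMap_injective A B).2 hinj
  haveI : Module.FaithfullyFlat A B := Module.FaithfullyFlat.of_comap_surjective fun p => by
    obtain ⟨q, hq, hqp⟩ := Ideal.exists_ideal_over_prime_of_isIntegral_of_isDomain p.asIdeal
      ((RingHom.injective_iff_ker_eq_bot _).1 hinj ▸ bot_le)
    exact ⟨⟨q, hq⟩, PrimeSpectrum.ext hqp⟩
  haveI : IsNoetherianRing A := by
    rw [isNoetherianRing_iff, isNoetherian_iff']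
    refine StrictMono.wellFoundedGT (f := fun I : Ideal A => (I.map (algebraMap A B) : Submodule B B))
      (Monotone.strictMono_of_injective (fun I J h => Ideal.map_mono h) fun I J h => ?_)
    rw [← Ideal.comap_map_eq_self_of_faithfullyFlat (B := B) I, ← Ideal.comap_map_eq_self_of_faithfullyFlat (B := B) J]
    exact congrArg _ h
  haveI : Ring.DimensionLEOne A := ⟨fun {p} hp0 hp => by
    haveI := hp
    obtain ⟨q, hq, hqp⟩ := Ideal.exists_ideal_over_prime_of_isIntegral_of_isDomain p
      ((RingHom.injective_iff_ker_eq_bot _).1 hinj ▸ bot_le : RingHom.ker (algebraMap A B) ≤ p)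
    haveI := hq
    have hq0 : q ≠ ⊥ := fun h => hp0 (by rw [← hqp, h, ← RingHom.ker_eq_comap_bot]; exact (RingHom.injective_iff_ker_eq_bot _).1 hinj)
    haveI := hq.isMaximal hq0
    rw [← hqp]
    exact Ideal.isMaximal_comap_of_isIntegral_of_isMaximal q⟩
  haveI : IsIntegrallyClosed A := by
    refine (isIntegrallyClosed_iff (FractionRing A)).2 fun {z} hz => ?_
    let F := FractionRing B
    have hι : Function.Injective (IsScalarTower.toAlgHom A A F : A → F) := by
      intro x y h
      exact hinj (IsFractionRing.injective B F (by simpa [IsScalarTower.algebraMap_apply A B F] using h))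
    let ι : FractionRing A →ₐ[A] F := IsFractionRing.liftAlgHom (K := FractionRing A) hι
    obtain ⟨x, d, hd', rfl⟩ := IsFractionRing.div_surjective (A := A) z
    obtain ⟨y, hy⟩ := (isIntegrallyClosed_iff F).mp inferInstance ((hz.map ι).tower_top (A := B))
    have hd0 : d ≠ 0 := nonZeroDivisors.ne_zero hd'
    have h1 : algebraMap A B x = algebraMap A B d * y := by
      refine IsFractionRing.injective B F ?_
      rw [map_mul, hy, ← IsScalarTower.algebraMap_apply, ← IsScalarTower.algebraMap_apply,
        ← ι.commutes, ← ι.commutes, ← map_mul, mul_div_cancel₀]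
      exact (map_ne_zero_iff _ (IsFractionRing.injective A _)).mpr hd0
    have h2 : x ∈ ((Ideal.span {d}).map (algebraMap A B)).comap (algebraMap A B) := by
      rw [Ideal.mem_comap, h1]
      exact Ideal.mul_mem_right _ _ (Ideal.mem_map_of_mem _ (Ideal.mem_span_singleton_self d))
    rw [Ideal.comap_map_eq_self_of_faithfullyFlat, Ideal.mem_span_singleton'] at h2
    obtain ⟨c, rfl⟩ := h2
    refine ⟨c, ?_⟩
    rw [map_mul, mul_div_cancel_right₀]
    exact (map_ne_zero_iff _ (IsFractionRing.injective A _)).mpr hd0
  exact { }

end Groth.Agent.S15590
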