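import Groth.Statements.S15594
import Mathlib
-- import your own Groth.Agent.* helpers here

set_option autoImplicit false
universe u
open TensorProduct
open AGF

namespace Groth.Agent.S15594

/-- Affine form. Let k ⊆ K be a field extension, A a commutative k-algebra and S a set of k-algebra
homomorphisms A → k (rational points of Spec A). The ideal ⋂_{σ ∈ S} ker σ cuts out the Zariski
closure of S with its reduced structure, and its extension to K ⊗_k A equals ⋂_{σ ∈ S} ker σ_K,
where σ_K : K ⊗_k A → K is the K-algebra map induced by σ. In words: the closure of a set of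
rational points is formed compatibly with extension of the ground field. (The published statement is
for schemes locally of finite type; this affine row assumes no finiteness, which the argument does
not use.) -/
theorem result (k K A : Type u) [Field k] [Field K] [Algebra k K]
    [CommRing A] [Algebra k A] (S : Set (A →ₐ[k] k)) :
    Ideal.map (Algebra.TensorProduct.includeRight : A →ₐ[k] K ⊗[k] A) (⨅ σ ∈ S, RingHom.ker σ) =
      ⨅ σ ∈ S, RingHom.ker ((Algebra.TensorProduct.rid k K K).toAlgHom.comp
        (Algebra.TensorProduct.map (AlgHom.id K K) σ)) := by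
  classical
  let F : (A →ₐ[k] k) → (K ⊗[k] A →ₐ[K] K) := fun σ =>
    (Algebra.TensorProduct.rid k K K).toAlgHom.comp (Algebra.TensorProduct.map (AlgHom.id K K) σ)
  have hF : ∀ σ (c : K) (a : A), F σ (c ⊗ₜ a) = σ a • c := fun σ c a => by simp [F]
  refine le_antisymm ?_ fun z hz => ?_
  · rw [Ideal.map_le_iff_le_comap]
    intro a ha
    simp only [Ideal.mem_comap, Submodule.mem_iInf] at ha ⊢
    intro σ hσ
    have := hF σ 1 a
    rw [show σ a = 0 from ha σ hσ, zero_smul] at this
    exact this
  · set b := Module.Basis.ofVectorSpace k K with hb
    let e := TensorProduct.equivFinsuppOfBasisLeft (R := k) (N := A) b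
    have hz' : z = e.symm (e z) := (e.symm_apply_apply z).symm
    rw [TensorProduct.equivFinsuppOfBasisLeft_symm_apply] at hz'
    rw [hz']
    refine Ideal.sum_mem _ fun i _ => ?_
    have ha : e z i ∈ ⨅ σ ∈ S, RingHom.ker σ := by
      simp only [Submodule.mem_iInf] at hz ⊢
      intro σ hσ
      have h := hz σ hσ
      change F σ z = 0 at h
      rw [hz', map_finsuppSum] at h
      simp only [hF] at h
      have h2 : Finsupp.linearCombination k b ((e z).mapRange σ (map_zero σ)) = 0 := by
        rw [Finsupp.linearCombination_apply, Finsupp.sum_mapRange_index (by simp)]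
        exact h
      have h3 := linearIndependent_iff.mp b.linearIndependent _ h2
      exact RingHom.mem_ker.mpr (by simpa using DFunLike.congr_fun h3 i)
    have : b i ⊗ₜ[k] e z i = (b i ⊗ₜ[k] (1 : A)) * (Algebra.TensorProduct.includeRight (e z i)) := by simp
    change b i ⊗ₜ[k] e z i ∈ _
    rw [this]
    exact Ideal.mul_mem_left _ _ (Ideal.mem_map_of_mem _ ha)

end Groth.Agent.S15594
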