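import Groth.Statements.S15605
import Mathlib
-- import your own Groth.Agent.* helpers here

set_option autoImplicit false
universe u
open TensorProduct
open AGF

namespace Groth.Agent.S15605

/-- Affine form. Let k be a field, A and A' finitely generated commutative k-algebras and S, S' sets of
k-algebra homomorphisms A → k, A' → k. The closure of a set of rational points of Spec A is cut out
by the intersection of their kernels. Compatibility of these closures with products: in A ⊗_k A',
the intersection over (σ, σ') ∈ S × S' of the kernels of σ ⊗ σ' : A ⊗_k A' → k equals the ideal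
generated by the images of ⋂_{σ} ker σ and of ⋂_{σ'} ker σ'. -/
theorem result (k A A' : Type u) [Field k] [CommRing A] [Algebra k A]
    [Algebra.FiniteType k A] [CommRing A'] [Algebra k A'] [Algebra.FiniteType k A']
    (S : Set (A →ₐ[k] k)) (S' : Set (A' →ₐ[k] k)) :
    (⨅ σ ∈ S, ⨅ σ' ∈ S', RingHom.ker ((Algebra.TensorProduct.lmul' (S := k) k).comp
        (Algebra.TensorProduct.map σ σ'))) =
      Ideal.map (Algebra.TensorProduct.includeLeft : A →ₐ[k] A ⊗[k] A') (⨅ σ ∈ S, RingHom.ker σ) ⊔
        Ideal.map (Algebra.TensorProduct.includeRight : A' →ₐ[k] A ⊗[k] A') (⨅ σ' ∈ S', RingHom.ker σ') := by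
  classical
  set I := ⨅ σ ∈ S, RingHom.ker σ with hI
  set I' := ⨅ σ' ∈ S', RingHom.ker σ' with hI'
  have hmem : ∀ {σ : A →ₐ[k] k}, σ ∈ S → ∀ a ∈ I, σ a = 0 := fun hσ a ha => by
    simp only [hI, Submodule.mem_iInf] at ha; exact ha _ hσ
  have hmem' : ∀ {σ : A' →ₐ[k] k}, σ ∈ S' → ∀ a ∈ I', σ a = 0 := fun hσ a ha => by
    simp only [hI', Submodule.mem_iInf] at ha; exact ha _ hσ
  refine le_antisymm (fun z hz => ?_) ?_
  · have hsup := Algebra.TensorProduct.map_ker (Ideal.Quotient.mkₐ k I) (Ideal.Quotient.mkₐ k I') Ideal.Quotient.mk_surjective Ideal.Quotient.mk_surjective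
    have hk : RingHom.ker (Ideal.Quotient.mkₐ k I) = I := Ideal.Quotient.mkₐ_ker k I
    have hk' : RingHom.ker (Ideal.Quotient.mkₐ k I') = I' := Ideal.Quotient.mkₐ_ker k I'
    rw [hk, hk'] at hsup
    rw [← hsup, RingHom.mem_ker]
    set w := Algebra.TensorProduct.map (Ideal.Quotient.mkₐ k I) (Ideal.Quotient.mkₐ k I') z with hw
    let b := Module.Basis.ofVectorSpace k (A ⧸ I)
    let e := TensorProduct.equivFinsuppOfBasisLeft (R := k) (N := A' ⧸ I') b
    suffices h : e w = 0 by simpa using congrArg e.symm h
    ext i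
    obtain ⟨c, hc⟩ := Ideal.Quotient.mk_surjective (e w i)
    rw [Finsupp.zero_apply, ← hc, Ideal.Quotient.eq_zero_iff_mem, hI']
    simp only [Submodule.mem_iInf]
    intro σ' hσ'
    let t : (A' ⧸ I') →ₐ[k] k := Ideal.Quotient.liftₐ I' σ' (fun a ha => hmem' hσ' a ha)
    have hy : Finsupp.linearCombination k b ((e w).mapRange t (map_zero t)) = 0 := by
      obtain ⟨y, hy⟩ := Ideal.Quotient.mk_surjective (Finsupp.linearCombination k b ((e w).mapRange t (map_zero t)))
      rw [← hy, Ideal.Quotient.eq_zero_iff_mem, hI]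
      simp only [Submodule.mem_iInf]
      intro σ hσ
      let s : (A ⧸ I) →ₐ[k] k := Ideal.Quotient.liftₐ I σ (fun a ha => hmem hσ a ha)
      simp only [Submodule.mem_iInf] at hz
      have h0 := hz σ hσ σ' hσ'
      have h1 : (Algebra.TensorProduct.lmul' (S := k) k).comp (Algebra.TensorProduct.map s t) w = 0 := by
        have e1 : ((Algebra.TensorProduct.lmul' (S := k) k).comp (Algebra.TensorProduct.map s t)).comp
            (Algebra.TensorProduct.map (Ideal.Quotient.mkₐ k I) (Ideal.Quotient.mkₐ k I')) =
            (Algebra.TensorProduct.lmul' (S := k) k).comp (Algebra.TensorProduct.map σ σ') := by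
          ext a <;> simp [s, t]
        rw [hw, ← AlgHom.comp_apply, e1]; exact h0
      have hw' : w = e.symm (e w) := (e.symm_apply_apply w).symm
      rw [TensorProduct.equivFinsuppOfBasisLeft_symm_apply] at hw'
      rw [hw', map_finsuppSum] at h1
      change σ y = 0
      change s (Ideal.Quotient.mk I y) = 0
      rw [hy, Finsupp.linearCombination_apply, Finsupp.sum_mapRange_index (by simp), map_finsuppSum]
      rw [← h1]
      refine Finsupp.sum_congr fun j _ => ?_
      simp only [AlgHom.comp_apply, Algebra.TensorProduct.map_tmul, Algebra.TensorProduct.lmul'_apply_tmul, map_smul, smul_eq_mul]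
      exact mul_comm _ _
    have h3 := linearIndependent_iff.mp b.linearIndependent _ hy
    have h4 := DFunLike.congr_fun h3 i
    rw [Finsupp.mapRange_apply, ← hc, Finsupp.zero_apply] at h4
    exact RingHom.mem_ker.mpr h4
  · refine sup_le ?_ ?_
    · rw [Ideal.map_le_iff_le_comap]
      intro a ha
      simp only [Ideal.mem_comap, Submodule.mem_iInf]
      intro σ hσ σ' hσ'
      exact RingHom.mem_ker.mpr (by simp [hmem hσ a ha])
    · rw [Ideal.map_le_iff_le_comap]
      intro a ha
      simp only [Ideal.mem_comap, Submodule.mem_iInf]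
      intro σ hσ σ' hσ'
      exact RingHom.mem_ker.mpr (by simp [hmem' hσ' a ha])

end Groth.Agent.S15605
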