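import Groth.Statements.S1562
import Groth.Agent.GeomReg.Scheme
import Groth.Agent.FibreDepth.RegSmoothScheme
import Groth.Agent.Locus.BaseChange

set_option autoImplicit false
set_option backward.isDefEq.respectTransparency false
universe u
open CategoryTheory CategoryTheory.Limits AlgebraicGeometry
open Variety

namespace Groth.Agent.S1562

/-- Let X be locally of finite type over a field k and x a point of X. Then X is geometrically regular
at x (regular local rings at all points over x after every finitely generated field extension) if
and only if x lies in the smooth locus of X → Spec k. -/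
theorem result (k : Type u) [Field k] (X : Scheme.{u}) [X.Over (Spec (CommRingCat.of k))] [LocallyOfFinitePresentation (X ↘ (Spec (CommRingCat.of k)))] (x : X) :
    Curv2.IsGeomRegularAt k X x ↔ x ∈ (X ↘ (Spec (CommRingCat.of k))).smoothLocus := by
  constructor
  · intro h
    refine Groth.Agent.GeomReg.Scheme.mem_smoothLocus_of_regular _ x fun K _ _ _ x' hx' => ?_
    refine h K ?_ x' hx'
    exact IntermediateField.fg_top k K
  · intro hx K _ _ _ x' hx'
    haveI : LocallyOfFinitePresentation (Curv2.bcSnd k X K) := inferInstance
    refine Groth.Agent.FibreDepth.RegSmoothScheme.isRegular_of_mem_smoothLocus (Curv2.bcSnd k X K) ?_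
    refine Groth.Agent.Locus.BaseChange.mem_smoothLocus_forward (IsPullback.of_hasPullback _ _) ?_
    rw [← hx'] at hx
    exact hx

end Groth.Agent.S1562
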