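import Groth.Statements.S1568
import Mathlib.RingTheory.Ideal.KrullsHeightTheorem
import Mathlib.AlgebraicGeometry.Noetherian

set_option autoImplicit false
universe u
open CategoryTheory CategoryTheory.Limits AlgebraicGeometry
open Divisors

namespace Groth.Agent.S1568

/-- Let X be locally Noetherian and D an effective Cartier divisor. At a point ξ of D that is maximal in
D under generisation (a generic point of a component of D), the local ring of X has dimension
exactly one. -/
theorem result (X : Scheme.{u}) [IsLocallyNoetherian X]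
    (D : X.IdealSheafData) (hD : BlowUp.IsEffCartierIdeal D) (ξ : X)
    (hξ : ξ ∈ (D.support : Set X)) (hgen : ∀ y ∈ (D.support : Set X), y ⤳ ξ → y = ξ) :
    ringKrullDim (X.presheaf.stalk ξ) = 1 := by
  obtain ⟨U, hξU, f, hf, hU⟩ := hD ξ
  let p := U.2.primeIdealOf ⟨ξ, hξU⟩
  have hp : U.2.fromSpec p = ξ := U.2.fromSpec_primeIdealOf _
  have hnoeth : IsNoetherianRing Γ(X, U.1) := IsLocallyNoetherian.component_noetherian U
  letI : Algebra Γ(X, U.1) (X.presheaf.stalk ξ) := (X.presheaf.germ U.1 ξ hξU).hom.toAlgebra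
  have : IsLocalization.AtPrime (X.presheaf.stalk ξ) p.asIdeal := U.2.isLocalization_stalk ⟨ξ, hξU⟩
  rw [IsLocalization.AtPrime.ringKrullDim_eq_height p.asIdeal (X.presheaf.stalk ξ)]
  have : IsOpenImmersion U.2.fromSpec := U.2.isOpenImmersion_fromSpec
  have hmem : ∀ q : PrimeSpectrum Γ(X, U.1), U.2.fromSpec q ∈ D.support ↔ f ∈ q.asIdeal := fun q => by
    rw [Scheme.IdealSheafData.mem_support_iff_of_mem (U := U)
      (U.2.range_fromSpec ▸ ⟨q, rfl⟩ : U.2.fromSpec q ∈ (U.1 : Set X)), hU, Scheme.zeroLocus_span,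
      Scheme.zeroLocus_singleton]
    show U.2.fromSpec q ∉ X.basicOpen f ↔ _
    have : U.2.fromSpec q ∈ X.basicOpen f ↔ f ∉ q.asIdeal := by
      show q ∈ U.2.fromSpec ⁻¹ᵁ X.basicOpen f ↔ _
      rw [U.2.fromSpec_preimage_basicOpen]
      rfl
    rw [this, not_not]
  have hfp : f ∈ p.asIdeal := (hmem p).mp (hp.symm ▸ hξ)
  have hmin : p.asIdeal ∈ (Ideal.span {f}).minimalPrimes := by
    refine ⟨⟨p.isPrime, (Ideal.span_singleton_le_iff_mem _).mpr hfp⟩, fun q hq hqp => ?_⟩
    let q' : PrimeSpectrum Γ(X, U.1) := ⟨q, hq.1⟩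
    have h1 : q' ⤳ p := (PrimeSpectrum.le_iff_specializes q' p).mp hqp
    have h2 : U.2.fromSpec q' ∈ (D.support : Set X) :=
      (hmem q').mpr (hq.2 (Ideal.mem_span_singleton_self f))
    have h3 := hgen _ h2 (by rw [← hp]; exact h1.map U.2.fromSpec.continuous)
    have : q' = p := U.2.fromSpec.isOpenEmbedding.injective (h3.trans hp.symm)
    rw [← this]
  have hle : p.asIdeal.height ≤ 1 := by
    have : (Ideal.span {f}).IsPrincipal := ⟨f, rfl⟩
    exact Ideal.height_le_one_of_isPrincipal_of_mem_minimalPrimes _ _ hmin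
  have hge : 1 ≤ p.asIdeal.height := by
    rw [Order.one_le_iff_ne_zero, Ne, Ideal.height_eq_zero_iff]
    intro hmp
    exact Set.disjoint_left.mp (Ideal.disjoint_nonZeroDivisors_of_mem_minimalPrimes hmp) hfp hf
  rw [le_antisymm hle hge]
  rfl

end Groth.Agent.S1568
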