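import Groth.Statements.S1570
import Mathlib
import Groth.Agent.ModStalk.Localization
import Groth.Agent.ModStalk.AssPoint

set_option autoImplicit false
set_option backward.isDefEq.respectTransparency false
set_option linter.style.haveILetI false
universe u
open CategoryTheory CategoryTheory.Limits AlgebraicGeometry
open Divisors

namespace Groth.Agent.S1570

/-- Let X be locally Noetherian and D a closed subscheme with ideal sheaf I. If for every point x of D
the ideal generated by I in the local ring at x is generated by one nonzerodivisor, then D is an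
effective Cartier divisor. -/
theorem result (X : Scheme.{u}) [IsLocallyNoetherian X]
    (D : X.IdealSheafData)
    (h : ∀ x ∈ D.support, ∀ (U : X.affineOpens) (hx : x ∈ (U : X.Opens)),
      ∃ g : X.presheaf.stalk x, g ∈ nonZeroDivisors (X.presheaf.stalk x) ∧
        (D.ideal U).map (X.presheaf.germ U x hx).hom = Ideal.span {g}) :
    BlowUp.IsEffCartierIdeal D := by
  intro x
  obtain ⟨U₁, hU₁, hxU, -⟩ := exists_isAffineOpen_mem_and_subset (X := X) (U := ⊤) (x := x) trivial
  let U : X.affineOpens := ⟨U₁, hU₁⟩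
  let q := (hU₁.primeIdealOf ⟨x, hxU⟩).asIdeal
  haveI := IsLocallyNoetherian.component_noetherian U
  have key : ∃ (f a : Γ(X, U.1)), f ∉ q ∧ (∀ i ∈ D.ideal U, f * i ∈ Ideal.span {a}) ∧
      (a ∈ D.ideal U ∨ f ∈ D.ideal U ∧ a = 1) ∧ ∀ c, a * c = 0 → f * c = 0 := by
    by_cases hx : x ∈ D.support
    · obtain ⟨g, hg, hI⟩ := h x hx U hxU
      letI := TopCat.Presheaf.algebra_section_stalk X.presheaf (⟨x, hxU⟩ : U₁)
      haveI : IsLocalization.AtPrime (X.presheaf.stalk x) q := hU₁.isLocalization_stalk ⟨x, hxU⟩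
      obtain ⟨⟨⟨a, ha⟩, ⟨s, hs⟩⟩, hgs⟩ := (IsLocalization.mem_map_algebraMap_iff q.primeCompl (X.presheaf.stalk x)).mp
        (show g ∈ (D.ideal U).map (algebraMap Γ(X, U.1) (X.presheaf.stalk x)) from hI.ge (Ideal.mem_span_singleton_self g))
      have hu : IsUnit (algebraMap Γ(X, U.1) (X.presheaf.stalk x) s) := IsLocalization.map_units _ (⟨s, hs⟩ : q.primeCompl)
      have hga : Ideal.span {algebraMap Γ(X, U.1) (X.presheaf.stalk x) a} = Ideal.span {g} := by
        rw [← hgs]; exact Ideal.span_singleton_mul_right_unit hu g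
      have hnzd : algebraMap Γ(X, U.1) (X.presheaf.stalk x) a ∈ nonZeroDivisors (X.presheaf.stalk x) := by
        rw [← hgs]; exact mul_mem hg hu.mem_nonZeroDivisors
      obtain ⟨S, hS⟩ := IsNoetherian.noetherian (D.ideal U)
      obtain ⟨K, hK⟩ := IsNoetherian.noetherian (LinearMap.ker (LinearMap.mulLeft Γ(X, U.1) a))
      have h1 : ∀ i ∈ S, ∃ t ∉ q, t * i ∈ Ideal.span {a} := by
        intro i hi
        have hi' : algebraMap Γ(X, U.1) (X.presheaf.stalk x) i ∈ (Ideal.span {a}).map (algebraMap Γ(X, U.1) (X.presheaf.stalk x)) := by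
          rw [Ideal.map_span, Set.image_singleton, hga]
          exact hI.le (Ideal.mem_map_of_mem _ (hS ▸ Ideal.subset_span hi))
        obtain ⟨t, ht, hti⟩ := (IsLocalization.algebraMap_mem_map_algebraMap_iff q.primeCompl _ _ _).mp hi'
        exact ⟨t, ht, hti⟩
      have h2 : ∀ c ∈ K, ∃ t ∉ q, t * c = 0 := by
        intro c hc
        have hc0 : a * c = 0 := LinearMap.mem_ker.mp (hK ▸ Submodule.subset_span hc : c ∈ LinearMap.ker _)
        have := congrArg (algebraMap Γ(X, U.1) (X.presheaf.stalk x)) hc0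
        rw [map_mul, map_zero] at this
        obtain ⟨t, ht⟩ := (IsLocalization.map_eq_zero_iff q.primeCompl (X.presheaf.stalk x) c).mp
          ((mul_left_mem_nonZeroDivisors_eq_zero_iff hnzd).mp this)
        exact ⟨t, t.2, ht⟩
      choose t₁ ht₁ ht₁' using h1
      choose t₂ ht₂ ht₂' using h2
      let f₁ := ∏ i : S, t₁ i.1 i.2
      let f₂ := ∏ c : K, t₂ c.1 c.2
      refine ⟨f₁ * f₂, a, ?_, ?_, Or.inl ha, ?_⟩
      · intro hmem
        haveI : q.IsPrime := inferInstance
        rcases Ideal.IsPrime.mem_or_mem ‹q.IsPrime› hmem with h' | h'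
        · obtain ⟨i, -, hi⟩ := Ideal.IsPrime.prod_mem_iff.mp h'; exact ht₁ _ _ hi
        · obtain ⟨i, -, hi⟩ := Ideal.IsPrime.prod_mem_iff.mp h'; exact ht₂ _ _ hi
      · intro i hi
        have : D.ideal U ≤ Submodule.comap (LinearMap.mulLeft Γ(X, U.1) (f₁ * f₂)) (Ideal.span {a}) := by
          rw [← hS, Submodule.span_le]
          intro j hj
          obtain ⟨w, hw⟩ := Finset.dvd_prod_of_mem (fun i : S => t₁ i.1 i.2) (Finset.mem_univ ⟨j, hj⟩)
          show (f₁ * f₂) * j ∈ Ideal.span {a}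
          rw [show f₁ = t₁ j hj * w from hw, show t₁ j hj * w * f₂ * j = (w * f₂) * (t₁ j hj * j) by ring]
          exact Ideal.mul_mem_left _ _ (ht₁' j hj)
        exact this hi
      · intro c hc
        have : LinearMap.ker (LinearMap.mulLeft Γ(X, U.1) a) ≤ LinearMap.ker (LinearMap.mulLeft Γ(X, U.1) (f₁ * f₂)) := by
          rw [← hK, Submodule.span_le]
          intro j hj
          obtain ⟨w, hw⟩ := Finset.dvd_prod_of_mem (fun i : K => t₂ i.1 i.2) (Finset.mem_univ ⟨j, hj⟩)
          show (f₁ * f₂) * j = 0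
          rw [show f₂ = t₂ j hj * w from hw, show f₁ * (t₂ j hj * w) * j = (f₁ * w) * (t₂ j hj * j) by ring, ht₂' j hj, mul_zero]
        exact this (LinearMap.mem_ker.mpr hc)
    · rw [Scheme.IdealSheafData.mem_support_iff_of_mem (U := U) hxU, Scheme.mem_zeroLocus_iff] at hx
      push Not at hx
      obtain ⟨f, hf, hxf⟩ := hx
      exact ⟨f, 1, (ModStalk.germ_mem_primeIdeal_iff hU₁ ⟨x, hxU⟩ f).mpr hxf,
        fun i _ => Ideal.mem_span_singleton.mpr (one_dvd _), Or.inr ⟨hf, rfl⟩,
        fun c hc => by rw [one_mul] at hc; rw [hc, mul_zero]⟩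
  obtain ⟨f, a, hfq, hfi, haI, hfc⟩ := key
  letI : Algebra Γ(X, U.1) Γ(X, X.basicOpen f) := (X.presheaf.map (homOfLE (X.basicOpen_le f)).op).hom.toAlgebra
  haveI : IsLocalization.Away f Γ(X, X.basicOpen f) := hU₁.isLocalization_basicOpen f
  have hu : IsUnit (algebraMap Γ(X, U.1) Γ(X, X.basicOpen f) f) := IsLocalization.Away.algebraMap_isUnit f
  refine ⟨X.affineBasicOpen f, (ModStalk.germ_mem_primeIdeal_iff hU₁ ⟨x, hxU⟩ f).mp hfq,
    algebraMap Γ(X, U.1) Γ(X, X.basicOpen f) a, ?_, ?_⟩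
  · rw [mem_nonZeroDivisors_iff_right]
    show ∀ z : Γ(X, X.basicOpen f), z * algebraMap Γ(X, U.1) Γ(X, X.basicOpen f) a = 0 → z = 0
    intro z hz
    obtain ⟨⟨c, s⟩, hcs⟩ := IsLocalization.surj (Submonoid.powers f) z
    have h3 : algebraMap Γ(X, U.1) Γ(X, X.basicOpen f) (a * c) = 0 := by
      rw [map_mul, ← hcs, ← mul_assoc, mul_comm (algebraMap _ _ a) z, hz, zero_mul]
    obtain ⟨⟨_, k, rfl⟩, hk⟩ := (IsLocalization.map_eq_zero_iff (Submonoid.powers f) _ _).mp h3
    have h4 : f * (f ^ k * c) = 0 := hfc _ (by rw [← hk]; ring)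
    have h5 : algebraMap Γ(X, U.1) Γ(X, X.basicOpen f) c = 0 :=
      (IsLocalization.map_eq_zero_iff (Submonoid.powers f) _ _).mpr ⟨⟨f ^ (k + 1), k + 1, rfl⟩, by
        show f ^ (k + 1) * c = 0
        rw [← h4]; ring⟩
    rw [h5] at hcs
    exact (IsLocalization.map_units Γ(X, X.basicOpen f) s).mul_left_eq_zero.mp hcs
  · have hmap : D.ideal (X.affineBasicOpen f) = (D.ideal U).map (algebraMap Γ(X, U.1) Γ(X, X.basicOpen f)) :=
      (D.map_ideal_basicOpen U f).symm
    rw [hmap]
    refine le_antisymm (Ideal.map_le_iff_le_comap.mpr fun i hi => ?_) ((Ideal.span_singleton_le_iff_mem _).mpr ?_)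
    · rw [Ideal.mem_comap, ← hu.unit_spec] at *
      have := Ideal.mem_map_of_mem (algebraMap Γ(X, U.1) Γ(X, X.basicOpen f)) (hfi i hi)
      rw [Ideal.map_span, Set.image_singleton, map_mul] at this
      exact (Ideal.unit_mul_mem_iff_mem _ (IsLocalization.Away.algebraMap_isUnit f)).mp this
    · rcases haI with ha | ⟨hf, rfl⟩
      · exact Ideal.mem_map_of_mem _ ha
      · rw [Ideal.eq_top_of_isUnit_mem _ (Ideal.mem_map_of_mem _ hf) hu]
        trivial

end Groth.Agent.S1570
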