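import Groth.Statements.S15706
import Mathlib
-- import your own Groth.Agent.* helpers here

set_option autoImplicit false
universe u
open CAlg

namespace Groth.Agent.S15706

/-- Let A be a Noetherian ring with Serre's property (S_1), stated here in the equivalent form that
every associated prime of A is a minimal prime of A. Let I be an ideal of A and b an element of A/I
which is regular (a non-zero-divisor) in A/I. Then b is the image of a regular element of A. -/
theorem result (A : Type u) [CommRing A]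
    [IsNoetherianRing A] (hS1 : ∀ p ∈ associatedPrimes A A, p ∈ minimalPrimes A) (I : Ideal A)
    (b : A ⧸ I) (hb : b ∈ nonZeroDivisors (A ⧸ I)) :
    ∃ a : A, a ∈ nonZeroDivisors A ∧ Ideal.Quotient.mk I a = b := by
  classical
  obtain ⟨a₀, rfl⟩ := Ideal.Quotient.mk_surjective b
  have hfin := associatedPrimes.finite A A
  let P := hfin.toFinset.filter fun p => a₀ ∈ p
  let Q := hfin.toFinset.filter fun p => a₀ ∉ p
  let J : Ideal A := I * ∏ q ∈ Q, q
  have hJ : ¬ (J : Set A) ⊆ ⋃ p ∈ (P : Set (Ideal A)), (p : Set A) := by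
    rw [Ideal.subset_union_prime (f := fun q : Ideal A => q) default default fun q hq _ _ => (hfin.mem_toFinset.1 (Finset.mem_filter.1 hq).1).isPrime]
    rintro ⟨p, hp, hle⟩
    obtain ⟨hp1, hp2⟩ := Finset.mem_filter.1 hp
    have hp1' := hfin.mem_toFinset.1 hp1
    haveI := hp1'.isPrime
    rcases hp1'.isPrime.mul_le.1 hle with h | h
    · -- `p ⊇ I`
      have hmin := hS1 p hp1'
      have hp' : p ∈ I.minimalPrimes := ⟨⟨hp1'.isPrime, h⟩, fun q hq hqp => hmin.2 ⟨hq.1, bot_le⟩ hqp⟩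
      have hqmin : p.map (Ideal.Quotient.mk I) ∈ minimalPrimes (A ⧸ I) := by
        rw [Ideal.minimalPrimes_eq_comap] at hp'
        obtain ⟨q, hq, rfl⟩ := hp'
        rw [Ideal.map_comap_of_surjective _ Ideal.Quotient.mk_surjective]
        exact hq
      exact Set.disjoint_left.1 (Ideal.disjoint_nonZeroDivisors_of_mem_minimalPrimes hqmin) (Ideal.mem_map_of_mem _ hp2) hb
    · obtain ⟨q, hq, hqp⟩ := (hp1'.isPrime.prod_le).1 h
      obtain ⟨hq1, hq2⟩ := Finset.mem_filter.1 hq
      have hq1' := hfin.mem_toFinset.1 hq1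
      exact hq2 ((hS1 p hp1').2 ⟨hq1'.isPrime, bot_le⟩ hqp hp2)
  obtain ⟨x, hxJ, hx⟩ := Set.not_subset.1 hJ
  have hxI : x ∈ I := (Ideal.mul_le_left : I * ∏ q ∈ Q, q ≤ I) hxJ
  refine ⟨a₀ + x, ?_, by rw [map_add, Ideal.Quotient.eq_zero_iff_mem.2 hxI, add_zero]⟩
  have hnot : a₀ + x ∉ ⋃ p ∈ associatedPrimes A A, (p : Set A) := by
    intro hmem
    obtain ⟨p, hp, hap⟩ := Set.mem_iUnion₂.1 hmem
    by_cases h0 : a₀ ∈ p
    · exact hx (Set.mem_biUnion (x := p) (Finset.mem_filter.2 ⟨hfin.mem_toFinset.2 hp, h0⟩) (by simpa using p.sub_mem hap h0))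
    · have hpQ : p ∈ Q := Finset.mem_filter.2 ⟨hfin.mem_toFinset.2 hp, h0⟩
      have h2 : x ∈ p := by
        have h3 : ∏ q ∈ Q, q ≤ p := Ideal.prod_le_inf.trans (Finset.inf_le hpQ)
        exact h3 ((Ideal.mul_le_right : I * ∏ q ∈ Q, q ≤ ∏ q ∈ Q, q) hxJ)
      exact h0 (by simpa using p.sub_mem hap h2)
  rw [biUnion_associatedPrimes_eq_compl_regular] at hnot
  have hreg : IsSMulRegular A (a₀ + x) := not_not.1 hnot
  exact mem_nonZeroDivisors_iff_right.2 fun y hy => hreg (show (a₀ + x) • y = (a₀ + x) • (0 : A) by rw [smul_eq_mul, mul_comm, hy, smul_zero])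

end Groth.Agent.S15706
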