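import Groth.Statements.S15707
import Mathlib
-- import your own Groth.Agent.* helpers here

set_option autoImplicit false
set_option backward.isDefEq.respectTransparency false
universe u
open CAlg

open CategoryTheory CategoryTheory.Limits AlgebraicGeometry
namespace Groth.Agent.S15707

/-- Let A be a Noetherian ring with Serre's property (S_1), stated here as: every associated prime of A
is a minimal prime. Let I be an ideal and B = A/I. Then the B-module Hom_A(B, A), with B acting
through the source, is torsion-free: an A-linear map φ : B → A which is killed by a regular element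
b of B, in the sense that φ(b x) = 0 for all x, is zero. -/
theorem result (A : Type u) [CommRing A]
    [IsNoetherianRing A] (hS1 : ∀ p ∈ associatedPrimes A A, p ∈ minimalPrimes A) (I : Ideal A)
    (φ : (A ⧸ I) →ₗ[A] A) (b : A ⧸ I) (hb : b ∈ nonZeroDivisors (A ⧸ I))
    (h : ∀ x : A ⧸ I, φ (b * x) = 0) : φ = 0 := by
  classical
  have hkey : φ 1 = 0 := by
    by_contra hne
    obtain ⟨b', rfl⟩ := Ideal.Quotient.mk_surjective b
    obtain ⟨p, hp, hle⟩ := exists_le_isAssociatedPrime_of_isNoetherianRing A (φ 1) hne
    have hIp : I ≤ p := fun a ha => hle (by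
      rw [Submodule.mem_colon_singleton]
      show a • φ 1 ∈ (⊥ : Submodule A A)
      rw [← map_smul, Algebra.smul_def, mul_one, show algebraMap A (A ⧸ I) a = 0 from Ideal.Quotient.eq_zero_iff_mem.2 ha, map_zero]
      exact Submodule.zero_mem _)
    have hbp : b' ∈ p := hle (by
      rw [Submodule.mem_colon_singleton]
      show b' • φ 1 ∈ (⊥ : Submodule A A)
      rw [← map_smul, Algebra.smul_def, Ideal.Quotient.algebraMap_eq, h 1]
      exact Submodule.zero_mem _)
    have hmin := hS1 p hp
    have hp' : p ∈ I.minimalPrimes := ⟨⟨hp.isPrime, hIp⟩, fun q hq hqp => hmin.2 ⟨hq.1, bot_le⟩ hqp⟩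
    haveI := hp.isPrime
    have hqmin : p.map (Ideal.Quotient.mk I) ∈ minimalPrimes (A ⧸ I) := by
      rw [Ideal.minimalPrimes_eq_comap] at hp'
      obtain ⟨q, hq, rfl⟩ := hp'
      rw [Ideal.map_comap_of_surjective _ Ideal.Quotient.mk_surjective]
      exact hq
    exact Set.disjoint_left.1 (Ideal.disjoint_nonZeroDivisors_of_mem_minimalPrimes hqmin) (Ideal.mem_map_of_mem _ hbp) hb
  refine LinearMap.ext fun x => ?_
  obtain ⟨a, rfl⟩ := Ideal.Quotient.mk_surjective x
  have : Ideal.Quotient.mk I a = a • (1 : A ⧸ I) := by rw [Algebra.smul_def, mul_one]; rfl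
  simp [this, hkey]

end Groth.Agent.S15707
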