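import Groth.Statements.S15724
import Groth.Agent.Misc9.WeightGen
-- import your own Groth.Agent.* helpers here

set_option autoImplicit false
universe u
open W4c2invhilbsl2

namespace Groth.Agent.S15724

/-- Grade the polynomial ring k[X₀,…,X₄] over a field k by ℤ × ℤ/m, giving X₀ weight (1,0), X₁ and X₂
weight (−p,−1), and X₃ and X₄ weight (q,1), where 0 < p < q are coprime integers and m ≥ 1, and let
P be the principal ideal generated by the weight-zero element X₀^(q−p) − X₁X₄ + X₂X₃ (the equation
of an affine hypersurface). Then every polynomial homogeneous of the weight of X₁ is congruent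
modulo P to some a·X₁ + b·X₂ with a and b homogeneous of weight zero, and every polynomial
homogeneous of the weight of X₃ is congruent modulo P to some a·X₃ + b·X₄ with a and b homogeneous
of weight zero. Equivalently, in the coordinate ring of the hypersurface the weight pieces of the
weights of X₁ and of X₃ are generated over the weight-zero subring (the ring of invariants of the
diagonal action of a one-dimensional torus times the group of m-th roots of unity with these
weights) by X₁, X₂ and by X₃, X₄ respectively. (For the weight of X₁ the congruence is already an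
equality in the polynomial ring; for the weight of X₃ the hypersurface equation is needed, e.g.
X₀^(q+p)X₁ has that weight when m divides 2.) -/
theorem result (k : Type u) [Field k] (p q m : ℕ) (hp : 0 < p) (hpq : p < q) (hcop : Nat.Coprime p q) (hm : 0 < m) (f : MvPolynomial (Fin 5) k) :
    (f ∈ MvPolynomial.weightedHomogeneousSubmodule k (W4c2invhilbsl2.wt5 p q m) (W4c2invhilbsl2.wt5 p q m 1) →
      ∃ a b : MvPolynomial (Fin 5) k, a ∈ MvPolynomial.weightedHomogeneousSubmodule k (W4c2invhilbsl2.wt5 p q m) 0 ∧ b ∈ MvPolynomial.weightedHomogeneousSubmodule k (W4c2invhilbsl2.wt5 p q m) 0 ∧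
        f - (a * MvPolynomial.X (1 : Fin 5) + b * MvPolynomial.X (2 : Fin 5)) ∈ Ideal.span {MvPolynomial.X (0 : Fin 5) ^ (q - p) - MvPolynomial.X 1 * MvPolynomial.X 4 + MvPolynomial.X 2 * MvPolynomial.X 3}) ∧
    (f ∈ MvPolynomial.weightedHomogeneousSubmodule k (W4c2invhilbsl2.wt5 p q m) (W4c2invhilbsl2.wt5 p q m 3) →
      ∃ a b : MvPolynomial (Fin 5) k, a ∈ MvPolynomial.weightedHomogeneousSubmodule k (W4c2invhilbsl2.wt5 p q m) 0 ∧ b ∈ MvPolynomial.weightedHomogeneousSubmodule k (W4c2invhilbsl2.wt5 p q m) 0 ∧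
        f - (a * MvPolynomial.X (3 : Fin 5) + b * MvPolynomial.X (4 : Fin 5)) ∈ Ideal.span {MvPolynomial.X (0 : Fin 5) ^ (q - p) - MvPolynomial.X 1 * MvPolynomial.X 4 + MvPolynomial.X 2 * MvPolynomial.X 3}) := by
  classical
  set P : Ideal (MvPolynomial (Fin 5) k) := Ideal.span {MvPolynomial.X (0 : Fin 5) ^ (q - p) - MvPolynomial.X 1 * MvPolynomial.X 4 + MvPolynomial.X 2 * MvPolynomial.X 3} with hPdef
  have hw := Misc9.WeightPiece.weight5 p q m
  have hX : ∀ i : Fin 5, (MvPolynomial.X i : MvPolynomial (Fin 5) k) = MvPolynomial.monomial (Finsupp.single i 1) 1 := fun i => rfl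
  have hwX : ∀ i : Fin 5, Finsupp.weight (W4c2invhilbsl2.wt5 p q m) (Finsupp.single i 1) = W4c2invhilbsl2.wt5 p q m i := fun i => by
    rw [Finsupp.weight_single, one_smul]
  have hw12 : W4c2invhilbsl2.wt5 p q m 2 = W4c2invhilbsl2.wt5 p q m 1 := rfl
  have hw34 : W4c2invhilbsl2.wt5 p q m 4 = W4c2invhilbsl2.wt5 p q m 3 := rfl
  refine ⟨fun hf => ?_, fun hf => ?_⟩
  · obtain ⟨a, ha, hP⟩ := Misc9.WeightGen.decomp (W4c2invhilbsl2.wt5 p q m)
      ![MvPolynomial.X (1 : Fin 5), MvPolynomial.X (2 : Fin 5)] P _ (fun d hd => by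
        have h1 := congrArg Prod.fst ((hw d).symm.trans hd)
        simp [W4c2invhilbsl2.wt5] at h1
        rcases Nat.eq_zero_or_pos (d 1) with h | h
        · have hd2 : 1 ≤ d 2 := by
            by_contra h'
            rw [h, show d 2 = 0 by omega] at h1
            simp at h1
            have h3 : (0 : ℤ) ≤ q * ((d 3 : ℤ) + d 4) := by positivity
            omega
          obtain ⟨c, hc, hcd⟩ := Misc9.WeightGen.factor (k := k) (W4c2invhilbsl2.wt5 p q m)
            (e := Finsupp.single 2 1) (Finsupp.single_le_iff.2 hd2) hd ((hwX 2).trans hw12)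
          exact ⟨![0, c], fun i => by fin_cases i <;> simp [hc], by simp [hcd, hX]⟩
        · obtain ⟨c, hc, hcd⟩ := Misc9.WeightGen.factor (k := k) (W4c2invhilbsl2.wt5 p q m)
            (e := Finsupp.single 1 1) (Finsupp.single_le_iff.2 h) hd (hwX 1)
          exact ⟨![c, 0], fun i => by fin_cases i <;> simp [hc], by simp [hcd, hX]⟩)
      f hf
    exact ⟨a 0, a 1, ha 0, ha 1, by simpa using hP⟩
  · obtain ⟨a, ha, hP⟩ := Misc9.WeightGen.decomp (W4c2invhilbsl2.wt5 p q m)
      ![MvPolynomial.X (3 : Fin 5), MvPolynomial.X (4 : Fin 5)] P _ (fun d hd => by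
        rcases Nat.eq_zero_or_pos (d 3) with h | h
        swap
        · obtain ⟨c, hc, hcd⟩ := Misc9.WeightGen.factor (k := k) (W4c2invhilbsl2.wt5 p q m)
            (e := Finsupp.single 3 1) (Finsupp.single_le_iff.2 h) hd (hwX 3)
          exact ⟨![c, 0], fun i => by fin_cases i <;> simp [hc], by simp [hcd, hX]⟩
        rcases Nat.eq_zero_or_pos (d 4) with h' | h'
        swap
        · obtain ⟨c, hc, hcd⟩ := Misc9.WeightGen.factor (k := k) (W4c2invhilbsl2.wt5 p q m)
            (e := Finsupp.single 4 1) (Finsupp.single_le_iff.2 h') hd ((hwX 4).trans hw34)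
          exact ⟨![0, c], fun i => by fin_cases i <;> simp [hc], by simp [hcd, hX]⟩
        have h1 := congrArg Prod.fst ((hw d).symm.trans hd)
        simp [W4c2invhilbsl2.wt5, h, h'] at h1
        have h2 : q - p ≤ d 0 := by
          have : (0 : ℤ) ≤ p * ((d 1 : ℤ) + d 2) := by positivity
          omega
        have hsub : (Finsupp.single 0 (q - p) : Fin 5 →₀ ℕ) ≤ d := Finsupp.single_le_iff.2 h2
        set d' := d - Finsupp.single 0 (q - p) with hd'
        have he : d' + Finsupp.single 0 (q - p) = d := tsub_add_cancel_of_le hsub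
        have hr : ∀ i j : Fin 5, W4c2invhilbsl2.wt5 p q m i + W4c2invhilbsl2.wt5 p q m j = (((q : ℤ) - p, 0) : ℤ × ZMod m) →
            MvPolynomial.monomial d' (1 : k) * MvPolynomial.X i ∈ MvPolynomial.weightedHomogeneousSubmodule k (W4c2invhilbsl2.wt5 p q m) (Finsupp.weight (W4c2invhilbsl2.wt5 p q m) d - W4c2invhilbsl2.wt5 p q m j) := by
          intro i j hij
          rw [hX, MvPolynomial.monomial_mul, mul_one]
          refine MvPolynomial.isWeightedHomogeneous_monomial _ _ _ ?_
          rw [map_add, hwX, eq_sub_iff_add_eq, add_assoc, hij, ← he, map_add, Finsupp.weight_single]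
          congr 1
          ext <;> simp [W4c2invhilbsl2.wt5, Nat.cast_sub hpq.le]
        have e3 := hr 2 3 (by ext <;> simp [W4c2invhilbsl2.wt5]; ring)
        have e4 := hr 1 4 (by ext <;> simp [W4c2invhilbsl2.wt5]; ring)
        rw [hd, sub_self] at e3
        rw [hd, hw34, sub_self] at e4
        refine ⟨![-(MvPolynomial.monomial d' 1 * MvPolynomial.X 2), MvPolynomial.monomial d' 1 * MvPolynomial.X 1],
          fun i => by fin_cases i <;> [exact Submodule.neg_mem _ e3; exact e4], ?_⟩
        rw [hPdef, Ideal.mem_span_singleton]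
        refine ⟨MvPolynomial.monomial d' 1, ?_⟩
        have : (MvPolynomial.monomial d (1 : k)) = MvPolynomial.monomial d' 1 * MvPolynomial.X 0 ^ (q - p) := by
          rw [MvPolynomial.X_pow_eq_monomial, MvPolynomial.monomial_mul, he, mul_one]
        rw [this]
        simp
        ring)
      f hf
    exact ⟨a 0, a 1, ha 0, ha 1, by simpa using hP⟩

end Groth.Agent.S15724
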