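import Groth.Statements.S15725
import Groth.Agent.Misc9.WeightGen
-- import your own Groth.Agent.* helpers here

set_option autoImplicit false
universe u
open W4c2invhilbsl2

namespace Groth.Agent.S15725

/-- Grade the polynomial ring k[X₀,X₁,X₂] over a field k by ℤ × ℤ/m, giving X₀ weight (1,0), X₁ weight
(−p,−1) and X₂ weight (q,1), where 0 < p < q are coprime integers and m ≥ 1 (this three-variable
ring stands for the subring k[X₀,X₁,Xⱼ], j = 3 or 4, of the five-variable ring with the same
weights). Then every polynomial homogeneous of weight (q−p, 0) can be written a·X₀^(q−p) + b·X₁X₂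
with a and b homogeneous of weight zero; in other words the weight-(q−p, 0) piece is generated by
X₀^(q−p) and X₁X₂ as a module over the weight-zero subring. -/
theorem result (k : Type u) [Field k] (p q m : ℕ) (hp : 0 < p) (hpq : p < q) (hcop : Nat.Coprime p q) (hm : 0 < m) (f : MvPolynomial (Fin 3) k)
    (hf : f ∈ MvPolynomial.weightedHomogeneousSubmodule k (W4c2invhilbsl2.wt3 p q m) ((q : ℤ) - (p : ℤ), (0 : ZMod m))) :
    ∃ a b : MvPolynomial (Fin 3) k, a ∈ MvPolynomial.weightedHomogeneousSubmodule k (W4c2invhilbsl2.wt3 p q m) 0 ∧ b ∈ MvPolynomial.weightedHomogeneousSubmodule k (W4c2invhilbsl2.wt3 p q m) 0 ∧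
      f = a * MvPolynomial.X (0 : Fin 3) ^ (q - p) + b * (MvPolynomial.X (1 : Fin 3) * MvPolynomial.X (2 : Fin 3)) := by
  classical
  have hw : ∀ d : Fin 3 →₀ ℕ, Finsupp.weight (W4c2invhilbsl2.wt3 p q m) d =
      ((d 0 : ℤ) - p * d 1 + q * d 2, (((d 2 : ℤ) - d 1 : ℤ) : ZMod m)) := fun d => by
    rw [Finsupp.weight_apply, Finsupp.sum_fintype _ _ (by simp), Fin.sum_univ_three]
    ext <;> simp [W4c2invhilbsl2.wt3] <;> push_cast <;> ring
  obtain ⟨a, ha, hP⟩ := Misc9.WeightGen.decomp (W4c2invhilbsl2.wt3 p q m)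
    ![MvPolynomial.X (0 : Fin 3) ^ (q - p), MvPolynomial.X (1 : Fin 3) * MvPolynomial.X (2 : Fin 3)]
    (⊥ : Ideal (MvPolynomial (Fin 3) k)) _ (fun d hd => by
      have h1 := hd
      rw [hw] at h1
      have h1' := congrArg Prod.fst h1
      simp only at h1'
      by_cases hd0 : q - p ≤ d 0
      · obtain ⟨c, hc, hcd⟩ := Misc9.WeightGen.factor (k := k) (W4c2invhilbsl2.wt3 p q m)
          (e := Finsupp.single 0 (q - p)) (Finsupp.single_le_iff.2 hd0) hd (by rw [hw]; simp [Nat.cast_sub hpq.le])
        refine ⟨![c, 0], fun i => by fin_cases i <;> simp [hc], ?_⟩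
        simp [hcd, MvPolynomial.X_pow_eq_monomial]
      · have hd2 : 1 ≤ d 2 := by
          by_contra h
          rw [show d 2 = 0 by omega] at h1'
          have : (0 : ℤ) ≤ p * d 1 := by positivity
          simp only [Nat.cast_zero, mul_zero, add_zero] at h1'
          omega
        have hd1 : 1 ≤ d 1 := by
          by_contra h
          rw [show d 1 = 0 by omega] at h1'
          have : (q : ℤ) * 1 ≤ q * d 2 := mul_le_mul_of_nonneg_left (by exact_mod_cast hd2) (by positivity)
          simp only [Nat.cast_zero, mul_zero, sub_zero] at h1'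
          omega
        obtain ⟨c, hc, hcd⟩ := Misc9.WeightGen.factor (k := k) (W4c2invhilbsl2.wt3 p q m)
          (e := Finsupp.single 1 1 + Finsupp.single 2 1) (Finsupp.le_def.2 fun i => by fin_cases i <;> simp [hd1, hd2]) hd
          (by rw [hw]; ext <;> simp <;> ring)
        refine ⟨![0, c], fun i => by fin_cases i <;> simp [hc], ?_⟩
        simp [hcd, MvPolynomial.X, MvPolynomial.monomial_mul])
    f hf
  refine ⟨a 0, a 1, ha 0, ha 1, ?_⟩
  simpa [sub_eq_zero] using hP

end Groth.Agent.S15725
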