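import Groth.Statements.S15726
import Groth.Agent.Misc9.WeightGen
-- import your own Groth.Agent.* helpers here

set_option autoImplicit false
universe u
open W4c2invhilbsl2

namespace Groth.Agent.S15726

/-- Grade the polynomial ring k[X₀,…,X₄] over a field k by ℤ × ℤ/m, giving X₀ weight (1,0), X₁ and X₂
weight (−p,−1), and X₃ and X₄ weight (q,1), where 0 < p < q are coprime integers and m ≥ 1. Then
modulo the principal ideal generated by the weight-zero element X₀^(q−p) − X₁X₄ + X₂X₃ (the equation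
of an affine hypersurface), every polynomial homogeneous of weight (q−p, 0) is congruent to a
combination a₁₃X₁X₃ + a₁₄X₁X₄ + a₂₃X₂X₃ + a₂₄X₂X₄ whose four coefficients are homogeneous of weight
zero. Equivalently, in the coordinate ring of the hypersurface the weight-(q−p, 0) piece is
generated over the weight-zero subring (the invariant ring of the diagonal action with these
weights) by the span of the four products XₐX_b with a ∈ {1,2} and b ∈ {3,4}. (The published
statement is over the complex numbers; this row takes any field.) -/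
theorem result (k : Type u) [Field k] (p q m : ℕ) (hp : 0 < p) (hpq : p < q) (hcop : Nat.Coprime p q) (hm : 0 < m) (f : MvPolynomial (Fin 5) k)
    (hf : f ∈ MvPolynomial.weightedHomogeneousSubmodule k (W4c2invhilbsl2.wt5 p q m) ((q : ℤ) - (p : ℤ), (0 : ZMod m))) :
    ∃ a₁₃ a₁₄ a₂₃ a₂₄ : MvPolynomial (Fin 5) k,
      a₁₃ ∈ MvPolynomial.weightedHomogeneousSubmodule k (W4c2invhilbsl2.wt5 p q m) 0 ∧ a₁₄ ∈ MvPolynomial.weightedHomogeneousSubmodule k (W4c2invhilbsl2.wt5 p q m) 0 ∧ a₂₃ ∈ MvPolynomial.weightedHomogeneousSubmodule k (W4c2invhilbsl2.wt5 p q m) 0 ∧ a₂₄ ∈ MvPolynomial.weightedHomogeneousSubmodule k (W4c2invhilbsl2.wt5 p q m) 0 ∧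
      f - (a₁₃ * (MvPolynomial.X (1 : Fin 5) * MvPolynomial.X 3) + a₁₄ * (MvPolynomial.X (1 : Fin 5) * MvPolynomial.X 4) +
          a₂₃ * (MvPolynomial.X (2 : Fin 5) * MvPolynomial.X 3) + a₂₄ * (MvPolynomial.X (2 : Fin 5) * MvPolynomial.X 4)) ∈
        Ideal.span {MvPolynomial.X (0 : Fin 5) ^ (q - p) - MvPolynomial.X 1 * MvPolynomial.X 4 + MvPolynomial.X 2 * MvPolynomial.X 3} := by
  classical
  set P : Ideal (MvPolynomial (Fin 5) k) := Ideal.span {MvPolynomial.X (0 : Fin 5) ^ (q - p) - MvPolynomial.X 1 * MvPolynomial.X 4 + MvPolynomial.X 2 * MvPolynomial.X 3} with hPdef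
  have hw := Misc9.WeightPiece.weight5 p q m
  have hX : ∀ i j : Fin 5, (MvPolynomial.X i * MvPolynomial.X j : MvPolynomial (Fin 5) k) = MvPolynomial.monomial (Finsupp.single i 1 + Finsupp.single j 1) 1 := fun i j => by
    simp [MvPolynomial.X, MvPolynomial.monomial_mul]
  have hwX : ∀ i j : Fin 5, (i = 1 ∨ i = 2) → (j = 3 ∨ j = 4) →
      Finsupp.weight (W4c2invhilbsl2.wt5 p q m) (Finsupp.single i 1 + Finsupp.single j 1) = ((q : ℤ) - p, (0 : ZMod m)) := by
    intro i j hi hj
    rw [map_add, Finsupp.weight_single, Finsupp.weight_single, one_smul, one_smul]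
    rcases hi with rfl | rfl <;> rcases hj with rfl | rfl <;> ext <;> simp [W4c2invhilbsl2.wt5] <;> ring
  obtain ⟨a, ha, hP⟩ := Misc9.WeightGen.decomp (W4c2invhilbsl2.wt5 p q m)
    ![MvPolynomial.X (1 : Fin 5) * MvPolynomial.X 3, MvPolynomial.X (1 : Fin 5) * MvPolynomial.X 4,
      MvPolynomial.X (2 : Fin 5) * MvPolynomial.X 3, MvPolynomial.X (2 : Fin 5) * MvPolynomial.X 4] P _ (fun d hd => by
      have h1 := congrArg Prod.fst ((hw d).symm.trans hd)
      simp only at h1
      by_cases hd0 : q - p ≤ d 0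
      · obtain ⟨c, hc, hcd⟩ := Misc9.WeightGen.factor (k := k) (W4c2invhilbsl2.wt5 p q m)
          (e := Finsupp.single 0 (q - p)) (Finsupp.single_le_iff.2 hd0) hd (by rw [hw]; simp [Nat.cast_sub hpq.le])
        refine ⟨![0, c, -c, 0], fun i => by fin_cases i <;> simp [Submodule.neg_mem, hc], ?_⟩
        rw [hPdef, Ideal.mem_span_singleton]
        refine ⟨c, ?_⟩
        rw [hcd, ← MvPolynomial.X_pow_eq_monomial]
        simp [Fin.sum_univ_four]
        ring
      · have h34 : 1 ≤ d 3 + d 4 := by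
          by_contra h
          rw [show d 3 + d 4 = 0 by omega] at h1
          have : (0 : ℤ) ≤ p * ((d 1 + d 2 : ℕ) : ℤ) := by positivity
          simp only [Nat.cast_zero, mul_zero, add_zero] at h1
          omega
        have h12 : 1 ≤ d 1 + d 2 := by
          by_contra h
          rw [show d 1 + d 2 = 0 by omega] at h1
          have : (q : ℤ) * 1 ≤ q * ((d 3 + d 4 : ℕ) : ℤ) := mul_le_mul_of_nonneg_left (by exact_mod_cast h34) (by positivity)
          simp only [Nat.cast_zero, mul_zero, sub_zero] at h1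
          omega
        obtain ⟨i, hi, hdi⟩ : ∃ i : Fin 5, (i = 1 ∨ i = 2) ∧ 1 ≤ d i := by
          rcases Nat.eq_zero_or_pos (d 1) with h | h
          exacts [⟨2, .inr rfl, by omega⟩, ⟨1, .inl rfl, h⟩]
        obtain ⟨j, hj, hdj⟩ : ∃ j : Fin 5, (j = 3 ∨ j = 4) ∧ 1 ≤ d j := by
          rcases Nat.eq_zero_or_pos (d 3) with h | h
          exacts [⟨4, .inr rfl, by omega⟩, ⟨3, .inl rfl, h⟩]
        obtain ⟨c, hc, hcd⟩ := Misc9.WeightGen.factor (k := k) (W4c2invhilbsl2.wt5 p q m)
          (e := Finsupp.single i 1 + Finsupp.single j 1) (Finsupp.le_def.2 fun l => by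
            rcases hi with rfl | rfl <;> rcases hj with rfl | rfl <;> fin_cases l <;> simp [hdi, hdj]) hd (hwX i j hi hj)
        rw [← hX] at hcd
        rcases hi with rfl | rfl <;> rcases hj with rfl | rfl
        · exact ⟨![c, 0, 0, 0], fun l => by fin_cases l <;> simp [hc], by simp [hcd, Fin.sum_univ_four]⟩
        · exact ⟨![0, c, 0, 0], fun l => by fin_cases l <;> simp [hc], by simp [hcd, Fin.sum_univ_four]⟩
        · exact ⟨![0, 0, c, 0], fun l => by fin_cases l <;> simp [hc], by simp [hcd, Fin.sum_univ_four]⟩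
        · exact ⟨![0, 0, 0, c], fun l => by fin_cases l <;> simp [hc], by simp [hcd, Fin.sum_univ_four]⟩)
    f hf
  exact ⟨a 0, a 1, a 2, a 3, ha 0, ha 1, ha 2, ha 3, by simpa [Fin.sum_univ_four] using hP⟩

end Groth.Agent.S15726
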