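import Groth.Statements.S15729
import Groth.Agent.Misc9.HJ
-- import your own Groth.Agent.* helpers here

set_option autoImplicit false
universe u
open W4c2invhilbsl2

namespace Groth.Agent.S15729

/-- Let 0 < p < q be coprime integers and m ≥ 1 such that q − p does not divide m; put g = gcd(m, q−p),
b = (q−p)/g, α = ⌊mp/(q−p)⌋, β = the remainder of mp modulo q−p and t = (q−p−β)/g, so that 1 ≤ t <
b, and let b/t = c₁ − 1/(c₂ − 1/(⋯ − 1/c_r)) be the negative-regular (Hirzebruch–Jung) continued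
fraction expansion with every cᵢ ≥ 2; set P₀ = 0, P₁ = 1, Q₀ = −1, Q₁ = 0, Pᵢ = cᵢ₋₁Pᵢ₋₁ − Pᵢ₋₂, Qᵢ
= cᵢ₋₁Qᵢ₋₁ − Qᵢ₋₂ for 2 ≤ i ≤ r+1, and eᵢ = (α+1+m)Pᵢ − Qᵢ, lᵢ = (α+1)Pᵢ − Qᵢ, nᵢ = q·lᵢ − p·eᵢ,
which are non-negative integers for 0 ≤ i ≤ r+1. Grade the polynomial ring k[X₀,X₁,X₂] over a field
k by ℤ × ℤ/m with weights (1,0), (−p,−1), (q,1) (it stands for k[X₀,X₁,Xⱼ], j = 3 or 4, inside the
five-variable ring). Then for every 1 ≤ i ≤ r, every polynomial homogeneous of weight (nᵢ, 0) can be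
written a·X₀^(nᵢ) + b·X₁^(eᵢ)X₂^(lᵢ) with a and b homogeneous of weight zero; that is, the
weight-(nᵢ,0) piece is generated over the weight-zero subring by X₀^(nᵢ) and X₁^(eᵢ)X₂^(lᵢ). -/
theorem result (k : Type u) [Field k] (p q m : ℕ) (hp : 0 < p) (hpq : p < q) (hcop : Nat.Coprime p q) (hm : 0 < m) (hnt : ¬ (q - p ∣ m)) (c : List ℤ) (hc : W4c2invhilbsl2.IsHJDigits p q m c) (i : ℕ) (hi : 1 ≤ i) (hir : i ≤ c.length)
    (f : MvPolynomial (Fin 3) k) (hf : f ∈ MvPolynomial.weightedHomogeneousSubmodule k (W4c2invhilbsl2.wt3 p q m) (W4c2invhilbsl2.nN p q m c i, (0 : ZMod m))) :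
    ∃ a b : MvPolynomial (Fin 3) k, a ∈ MvPolynomial.weightedHomogeneousSubmodule k (W4c2invhilbsl2.wt3 p q m) 0 ∧ b ∈ MvPolynomial.weightedHomogeneousSubmodule k (W4c2invhilbsl2.wt3 p q m) 0 ∧
      f = a * MvPolynomial.X (0 : Fin 3) ^ (W4c2invhilbsl2.nN p q m c i).toNat +
        b * (MvPolynomial.X (1 : Fin 3) ^ (W4c2invhilbsl2.eE p q m c i).toNat * MvPolynomial.X (2 : Fin 3) ^ (W4c2invhilbsl2.lL p q m c i).toNat) := by
  classical
  have hw : ∀ d : Fin 3 →₀ ℕ, Finsupp.weight (W4c2invhilbsl2.wt3 p q m) d =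
      ((d 0 : ℤ) - p * d 1 + q * d 2, (((d 2 : ℤ) - d 1 : ℤ) : ZMod m)) := fun d => by
    rw [Finsupp.weight_apply, Finsupp.sum_fintype _ _ (by simp), Fin.sum_univ_three]
    ext <;> simp [W4c2invhilbsl2.wt3] <;> push_cast <;> ring
  obtain ⟨hn0, he0, hl0⟩ := Misc9.HJ.nonneg hp hpq hcop hm hnt hc (show i ≤ c.length + 1 by omega)
  have hle : W4c2invhilbsl2.eE p q m c i - W4c2invhilbsl2.lL p q m c i = m * W4c2invhilbsl2.hjP c i := by
    simp only [W4c2invhilbsl2.eE, W4c2invhilbsl2.lL]; push_cast; ring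
  set N := (W4c2invhilbsl2.nN p q m c i).toNat with hN
  set E := (W4c2invhilbsl2.eE p q m c i).toNat with hE
  set L := (W4c2invhilbsl2.lL p q m c i).toNat with hL
  obtain ⟨a, ha, hP⟩ := Misc9.WeightGen.decomp (W4c2invhilbsl2.wt3 p q m)
    ![MvPolynomial.X (0 : Fin 3) ^ N, MvPolynomial.X (1 : Fin 3) ^ E * MvPolynomial.X (2 : Fin 3) ^ L]
    (⊥ : Ideal (MvPolynomial (Fin 3) k)) _ (fun d hd => by
      rcases Misc9.HJ.gen_num hp hpq hcop hm hnt hc hi hir _ _ _ ((hw d).symm.trans hd) with h | ⟨h1, h2⟩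
      · obtain ⟨c', hc', hcd⟩ := Misc9.WeightGen.factor (k := k) (W4c2invhilbsl2.wt3 p q m)
          (e := Finsupp.single 0 N) (Finsupp.single_le_iff.2 h) hd (by rw [hw]; simp [hN, hn0])
        refine ⟨![c', 0], fun i => by fin_cases i <;> simp [hc'], ?_⟩
        simp [hcd, MvPolynomial.X_pow_eq_monomial]
      · obtain ⟨c', hc', hcd⟩ := Misc9.WeightGen.factor (k := k) (W4c2invhilbsl2.wt3 p q m)
          (e := Finsupp.single 1 E + Finsupp.single 2 L)
          (Finsupp.le_def.2 fun l => by rw [← hE] at h1; rw [← hL] at h2; fin_cases l <;> simp [h1, h2]) hd (by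
            rw [hw]
            refine Prod.ext ?_ ?_
            · simp [hE, hL, he0, hl0, W4c2invhilbsl2.nN]
            · show (((_ : ℕ) : ℤ) - ((_ : ℕ) : ℤ) : ℤ).cast = (0 : ZMod m)
              rw [ZMod.intCast_zmod_eq_zero_iff_dvd]
              refine ⟨-(W4c2invhilbsl2.hjP c i), ?_⟩
              simp [hE, hL, he0, hl0]
              linarith)
        refine ⟨![0, c'], fun i => by fin_cases i <;> simp [hc'], ?_⟩
        simp [hcd, MvPolynomial.X_pow_eq_monomial, MvPolynomial.monomial_mul])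
    f hf
  exact ⟨a 0, a 1, ha 0, ha 1, by simpa [sub_eq_zero] using hP⟩

end Groth.Agent.S15729
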