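import Groth.Statements.S15732
import Groth.Agent.Misc9.HJ
-- import your own Groth.Agent.* helpers here

set_option autoImplicit false
universe u
open W4c2invhilbsl2

namespace Groth.Agent.S15732

/-- Let 0 < p < q be coprime integers and m ≥ 1 such that q − p does not divide m; put g = gcd(m, q−p),
b = (q−p)/g, α = ⌊mp/(q−p)⌋, β = the remainder of mp modulo q−p and t = (q−p−β)/g, so that 1 ≤ t <
b, and let b/t = c₁ − 1/(c₂ − 1/(⋯ − 1/c_r)) be the negative-regular (Hirzebruch–Jung) continued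
fraction expansion with every cᵢ ≥ 2; set P₀ = 0, P₁ = 1, Q₀ = −1, Q₁ = 0, Pᵢ = cᵢ₋₁Pᵢ₋₁ − Pᵢ₋₂, Qᵢ
= cᵢ₋₁Qᵢ₋₁ − Qᵢ₋₂ for 2 ≤ i ≤ r+1, and eᵢ = (α+1+m)Pᵢ − Qᵢ, lᵢ = (α+1)Pᵢ − Qᵢ, nᵢ = q·lᵢ − p·eᵢ,
which are non-negative integers for 0 ≤ i ≤ r+1. Grade the polynomial ring k[X₀,…,X₄] over a field k
by ℤ × ℤ/m, giving X₀ weight (1,0), X₁ and X₂ weight (−p,−1), and X₃ and X₄ weight (q,1). Then for
every 1 ≤ i ≤ r, modulo the principal ideal generated by the weight-zero element X₀^(q−p) − X₁X₄ +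
X₂X₃, every polynomial homogeneous of weight (nᵢ, 0) is congruent to a combination a₀·X₀^(nᵢ) + Σ
a_{e,l}·X₁^(eᵢ−e)X₂^e X₃^(lᵢ−l)X₄^l (sum over 0 ≤ e ≤ eᵢ, 0 ≤ l ≤ lᵢ) whose coefficients a₀, a_{e,l}
are homogeneous of weight zero. Equivalently, in the coordinate ring of the hypersurface the
weight-(nᵢ,0) piece is generated over the weight-zero subring (the invariant ring) by X₀^(nᵢ)
together with the products of a degree-eᵢ monomial in X₁, X₂ and a degree-lᵢ monomial in X₃, X₄.
(The published statement is over the complex numbers; this row takes any field.) -/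
theorem result (k : Type u) [Field k] (p q m : ℕ) (hp : 0 < p) (hpq : p < q) (hcop : Nat.Coprime p q) (hm : 0 < m) (hnt : ¬ (q - p ∣ m)) (c : List ℤ) (hc : W4c2invhilbsl2.IsHJDigits p q m c) (i : ℕ) (hi : 1 ≤ i) (hir : i ≤ c.length)
    (f : MvPolynomial (Fin 5) k) (hf : f ∈ MvPolynomial.weightedHomogeneousSubmodule k (W4c2invhilbsl2.wt5 p q m) (W4c2invhilbsl2.nN p q m c i, (0 : ZMod m))) :
    ∃ (a₀ : MvPolynomial (Fin 5) k) (a : ℕ → ℕ → MvPolynomial (Fin 5) k),
      a₀ ∈ MvPolynomial.weightedHomogeneousSubmodule k (W4c2invhilbsl2.wt5 p q m) 0 ∧ (∀ e l : ℕ, a e l ∈ MvPolynomial.weightedHomogeneousSubmodule k (W4c2invhilbsl2.wt5 p q m) 0) ∧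
      f - (a₀ * MvPolynomial.X (0 : Fin 5) ^ (W4c2invhilbsl2.nN p q m c i).toNat +
          ∑ e ∈ Finset.range ((W4c2invhilbsl2.eE p q m c i).toNat + 1), ∑ l ∈ Finset.range ((W4c2invhilbsl2.lL p q m c i).toNat + 1),
            a e l * (MvPolynomial.X (1 : Fin 5) ^ ((W4c2invhilbsl2.eE p q m c i).toNat - e) * MvPolynomial.X (2 : Fin 5) ^ e *
              MvPolynomial.X (3 : Fin 5) ^ ((W4c2invhilbsl2.lL p q m c i).toNat - l) * MvPolynomial.X (4 : Fin 5) ^ l)) ∈
        Ideal.span {MvPolynomial.X (0 : Fin 5) ^ (q - p) - MvPolynomial.X 1 * MvPolynomial.X 4 + MvPolynomial.X 2 * MvPolynomial.X 3} := by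
  classical
  have hw := Misc9.WeightPiece.weight5 p q m
  obtain ⟨hn0, he0, hl0⟩ := Misc9.HJ.nonneg hp hpq hcop hm hnt hc (show i ≤ c.length + 1 by omega)
  have hle : W4c2invhilbsl2.eE p q m c i - W4c2invhilbsl2.lL p q m c i = m * W4c2invhilbsl2.hjP c i := by
    simp only [W4c2invhilbsl2.eE, W4c2invhilbsl2.lL]; push_cast; ring
  set N := (W4c2invhilbsl2.nN p q m c i).toNat with hN
  set E := (W4c2invhilbsl2.eE p q m c i).toNat with hE
  set L := (W4c2invhilbsl2.lL p q m c i).toNat with hL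
  let G : Option (Fin (E + 1) × Fin (L + 1)) → MvPolynomial (Fin 5) k := fun o => o.elim
    (MvPolynomial.X (0 : Fin 5) ^ N) fun el =>
      MvPolynomial.X (1 : Fin 5) ^ (E - el.1) * MvPolynomial.X (2 : Fin 5) ^ (el.1 : ℕ) *
        MvPolynomial.X (3 : Fin 5) ^ (L - el.2) * MvPolynomial.X (4 : Fin 5) ^ (el.2 : ℕ)
  obtain ⟨a, ha, hP⟩ := Misc9.WeightGen.decomp (W4c2invhilbsl2.wt5 p q m) G
    (⊥ : Ideal (MvPolynomial (Fin 5) k)) _ (fun d hd => by
      have h5 := (hw d).symm.trans hd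
      have hmain := Misc9.HJ.gen_num hp hpq hcop hm hnt hc hi hir (d 0) (d 1 + d 2) (d 3 + d 4) h5
      rcases hmain with h | ⟨h1, h2⟩
      · obtain ⟨c', hc', hcd⟩ := Misc9.WeightGen.factor (k := k) (W4c2invhilbsl2.wt5 p q m)
          (e := Finsupp.single 0 N) (Finsupp.single_le_iff.2 h) hd (by rw [hw]; simp [hN, hn0])
        refine ⟨Pi.single none c', fun o => ?_, ?_⟩
        · rcases eq_or_ne o none with rfl | ho
          · simpa using hc'
          · simp [Pi.single_eq_of_ne ho]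
        · rw [Finset.sum_eq_single none (fun o _ ho => by simp [Pi.single_eq_of_ne ho]) (by simp)]
          simp [G, hcd, MvPolynomial.X_pow_eq_monomial]
      · rw [← hE] at h1
        rw [← hL] at h2
        let e2 := min (d 2) E
        let l4 := min (d 4) L
        obtain ⟨c', hc', hcd⟩ := Misc9.WeightGen.factor (k := k) (W4c2invhilbsl2.wt5 p q m)
          (e := Finsupp.single 1 (E - e2) + Finsupp.single 2 e2 + Finsupp.single 3 (L - l4) + Finsupp.single 4 l4)
          (Finsupp.le_def.2 fun l => by fin_cases l <;> simp [e2, l4] <;> omega) hd (by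
            have hE2 : E - e2 + e2 = E := Nat.sub_add_cancel (min_le_right _ _)
            have hL4 : L - l4 + l4 = L := Nat.sub_add_cancel (min_le_right _ _)
            rw [hw]
            simp [hE2, hL4]
            refine ⟨?_, ?_⟩
            · simp [hE, hL, he0, hl0, W4c2invhilbsl2.nN]
            · have : (((L : ℤ) - E : ℤ) : ZMod m) = 0 := by
                rw [ZMod.intCast_zmod_eq_zero_iff_dvd]
                refine ⟨-(W4c2invhilbsl2.hjP c i), ?_⟩
                simp [hE, hL, he0, hl0]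
                linarith
              simpa using this)
        let o : Option (Fin (E + 1) × Fin (L + 1)) :=
          some (⟨e2, Nat.lt_succ_of_le (min_le_right _ _)⟩, ⟨l4, Nat.lt_succ_of_le (min_le_right _ _)⟩)
        refine ⟨Pi.single o c', fun o' => ?_, ?_⟩
        · rcases eq_or_ne o' o with rfl | ho
          · simpa using hc'
          · simp [Pi.single_eq_of_ne ho]
        · rw [Finset.sum_eq_single o (fun o' _ ho => by simp [Pi.single_eq_of_ne ho]) (by simp)]
          simp [G, o, hcd, MvPolynomial.X_pow_eq_monomial, MvPolynomial.monomial_mul])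
    f hf
  refine ⟨a none, fun e l => if h : e < E + 1 ∧ l < L + 1 then a (some (⟨e, h.1⟩, ⟨l, h.2⟩)) else 0, ha none, fun e l => ?_, ?_⟩
  · dsimp only
    split_ifs with h
    exacts [ha _, Submodule.zero_mem _]
  · rw [Ideal.mem_bot] at hP
    convert Submodule.zero_mem _ using 1
    rw [← hP, Fintype.sum_option, Fintype.sum_prod_type]
    congr 2
    simp only [Finset.sum_range, G, Option.elim_some]
    exact Finset.sum_congr rfl fun e _ => Finset.sum_congr rfl fun l _ => by rw [dif_pos ⟨e.2, l.2⟩]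

end Groth.Agent.S15732
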