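import Groth.Statements.S15734
import Groth.Agent.Misc9.HJ
-- import your own Groth.Agent.* helpers here

set_option autoImplicit false
open W4c2invhilbsl2

namespace Groth.Agent.S15734

/-- Let 0 < p < q be coprime integers and m ≥ 1 such that q − p does not divide m; put g = gcd(m, q−p),
b = (q−p)/g, α = ⌊mp/(q−p)⌋, β = the remainder of mp modulo q−p and t = (q−p−β)/g, so that 1 ≤ t <
b, and let b/t = c₁ − 1/(c₂ − 1/(⋯ − 1/c_r)) be the negative-regular (Hirzebruch–Jung) continued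
fraction expansion with every cᵢ ≥ 2; set P₀ = 0, P₁ = 1, Q₀ = −1, Q₁ = 0, Pᵢ = cᵢ₋₁Pᵢ₋₁ − Pᵢ₋₂, Qᵢ
= cᵢ₋₁Qᵢ₋₁ − Qᵢ₋₂ for 2 ≤ i ≤ r+1, and eᵢ = (α+1+m)Pᵢ − Qᵢ, lᵢ = (α+1)Pᵢ − Qᵢ, nᵢ = q·lᵢ − p·eᵢ,
which are non-negative integers for 0 ≤ i ≤ r+1; moreover g divides every nᵢ, and write tᵢ = nᵢ/g
(so t₁ = t). Then (a) for every 1 ≤ i ≤ r the remainder of t·Pᵢ on division by b equals tᵢ, and (b)
for every 1 < i ≤ r and every integer x with 0 < x < Pᵢ the remainder ρ of t·x on division by b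
satisfies tᵢ₋₁ ≤ ρ ≤ b + tᵢ − tᵢ₋₁. -/
theorem result (p q m : ℕ) (hp : 0 < p) (hpq : p < q) (hcop : Nat.Coprime p q) (hm : 0 < m) (hnt : ¬ (q - p ∣ m)) (c : List ℤ) (hc : W4c2invhilbsl2.IsHJDigits p q m c) :
    (∀ i : ℕ, 1 ≤ i → i ≤ c.length →
      Int.emod ((W4c2invhilbsl2.tT p q m : ℤ) * W4c2invhilbsl2.hjP c i) (W4c2invhilbsl2.bB p q m : ℤ) = W4c2invhilbsl2.nN p q m c i / (W4c2invhilbsl2.gcdK p q m : ℤ)) ∧
    (∀ i : ℕ, 1 < i → i ≤ c.length → ∀ x : ℤ, 0 < x → x < W4c2invhilbsl2.hjP c i →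
      W4c2invhilbsl2.nN p q m c (i - 1) / (W4c2invhilbsl2.gcdK p q m : ℤ) ≤ Int.emod ((W4c2invhilbsl2.tT p q m : ℤ) * x) (W4c2invhilbsl2.bB p q m : ℤ) ∧
      Int.emod ((W4c2invhilbsl2.tT p q m : ℤ) * x) (W4c2invhilbsl2.bB p q m : ℤ) ≤
        (W4c2invhilbsl2.bB p q m : ℤ) + W4c2invhilbsl2.nN p q m c i / (W4c2invhilbsl2.gcdK p q m : ℤ) - W4c2invhilbsl2.nN p q m c (i - 1) / (W4c2invhilbsl2.gcdK p q m : ℤ)) := by
  have H := Misc9.HJ.dat hp hpq hcop hm hnt hc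
  have hg : (0 : ℤ) < W4c2invhilbsl2.gcdK p q m := by exact_mod_cast Misc9.HJ.g_pos (p := p) (q := q) hm
  set b : ℤ := (W4c2invhilbsl2.bB p q m : ℤ) with hb
  set t : ℤ := (W4c2invhilbsl2.tT p q m : ℤ) with ht
  have hn : ∀ i, W4c2invhilbsl2.nN p q m c i / (W4c2invhilbsl2.gcdK p q m : ℤ) = Misc9.HJ.R b t c i := fun i => by
    rw [Misc9.HJ.nN_eq hpq, Int.mul_ediv_cancel_left _ hg.ne']
  refine ⟨fun i hi hir => ?_, fun i hi hir x hx0 hx => ?_⟩
  · rw [hn]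
    show t * W4c2invhilbsl2.hjP c i % b = _
    have h1 := Misc9.HJ.R_lt H (show i - 1 ≤ c.length by omega)
    rw [Nat.sub_add_cancel hi] at h1
    have h2 := Misc9.HJ.R_le_b H (i - 1) (by omega)
    have e : t * W4c2invhilbsl2.hjP c i = Misc9.HJ.R b t c i + b * W4c2invhilbsl2.hjQ c i := by simp only [Misc9.HJ.R]; ring
    rw [e, Int.add_mul_emod_self_left, Int.emod_eq_of_lt (Misc9.HJ.R_nonneg H (by omega)) (by omega)]
  · obtain ⟨j, rfl⟩ : ∃ j, i = j + 1 := ⟨i - 1, by omega⟩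
    rw [Nat.add_sub_cancel, hn, hn]
    show _ ≤ t * x % b ∧ t * x % b ≤ _
    have hb0 : 0 < b := H.t_pos.trans H.t_lt
    have hR := Misc9.HJ.R_lt H (show j ≤ c.length by omega)
    have hRp := Misc9.HJ.R_pos H (show j + 1 ≤ c.length by omega)
    have h0 : 0 < t * x % b := by
      refine lt_of_le_of_ne (Int.emod_nonneg _ hb0.ne') fun he => ?_
      have hdvd : b ∣ x := H.cop.dvd_of_dvd_mul_left (Int.dvd_of_emod_eq_zero he.symm)
      have hd := Int.le_of_dvd hx0 hdvd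
      have hP : W4c2invhilbsl2.hjP c (j + 1) ≤ W4c2invhilbsl2.hjP c (c.length + 1) := by
        have key : ∀ s, j + 1 + s ≤ c.length + 1 → W4c2invhilbsl2.hjP c (j + 1) ≤ W4c2invhilbsl2.hjP c (j + 1 + s) := by
          intro s
          induction s with
          | zero => simp
          | succ s ih => exact fun hs => (ih (by omega)).trans (Misc9.HJ.P_lt H _ (by omega)).2.le
        have := key (c.length - j) (by omega)
        rwa [show j + 1 + (c.length - j) = c.length + 1 by omega] at this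
      have hdet : ∀ s, Misc9.HJ.R b t c s * W4c2invhilbsl2.hjP c (s + 1) - Misc9.HJ.R b t c (s + 1) * W4c2invhilbsl2.hjP c s = b := fun s => by
        simp only [Misc9.HJ.R]; linear_combination b * Misc9.HJ.wr c s
      have hb' := hdet c.length
      rw [Misc9.HJ.R_last H, Misc9.HJ.R_end H] at hb'
      omega
    have em := Int.emod_def (t * x) b
    have h1 : Misc9.HJ.R b t c j ≤ t * x % b := by
      have := Misc9.HJ.small H (show j + 1 ≤ c.length + 1 by omega) (y := t * x / b) hx0 hx (by omega)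
      omega
    refine ⟨h1, ?_⟩
    have h2 := Misc9.HJ.small H (show j + 1 ≤ c.length + 1 by omega) (x := W4c2invhilbsl2.hjP c (j + 1) - x)
      (y := W4c2invhilbsl2.hjQ c (j + 1) - t * x / b - 1) (by omega) (by omega)
    have e : t * (W4c2invhilbsl2.hjP c (j + 1) - x) - b * (W4c2invhilbsl2.hjQ c (j + 1) - t * x / b - 1) =
        b + Misc9.HJ.R b t c (j + 1) - t * x % b := by
      rw [em]; simp only [Misc9.HJ.R]; ring
    rw [e] at h2
    have := Int.emod_lt_of_pos (t * x) hb0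
    omega

end Groth.Agent.S15734
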