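import Groth.Statements.S15733
import Groth.Agent.Misc9.HJ
import Groth.Agent.S15734
-- import your own Groth.Agent.* helpers here

set_option autoImplicit false
open W4c2invhilbsl2

namespace Groth.Agent.S15733

/-- Let 0 < p < q be coprime integers and m ≥ 1 such that q − p does not divide m; put g = gcd(m, q−p),
b = (q−p)/g, α = ⌊mp/(q−p)⌋, β = the remainder of mp modulo q−p and t = (q−p−β)/g, so that 1 ≤ t <
b, and let b/t = c₁ − 1/(c₂ − 1/(⋯ − 1/c_r)) be the negative-regular (Hirzebruch–Jung) continued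
fraction expansion with every cᵢ ≥ 2; set P₀ = 0, P₁ = 1, Q₀ = −1, Q₁ = 0, Pᵢ = cᵢ₋₁Pᵢ₋₁ − Pᵢ₋₂, Qᵢ
= cᵢ₋₁Qᵢ₋₁ − Qᵢ₋₂ for 2 ≤ i ≤ r+1, and eᵢ = (α+1+m)Pᵢ − Qᵢ, lᵢ = (α+1)Pᵢ − Qᵢ, nᵢ = q·lᵢ − p·eᵢ,
which are non-negative integers for 0 ≤ i ≤ r+1. Then for every 1 < i ≤ r and every integer x with 0
< x < Pᵢ, the remainder of pmx + nᵢ on division by q − p equals nᵢ plus the remainder of pmx on
division by q − p (in particular nᵢ + (pmx mod (q−p)) < q − p). -/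
theorem result (p q m : ℕ) (hp : 0 < p) (hpq : p < q) (hcop : Nat.Coprime p q) (hm : 0 < m) (hnt : ¬ (q - p ∣ m)) (c : List ℤ) (hc : W4c2invhilbsl2.IsHJDigits p q m c) (i : ℕ) (hi : 1 < i) (hir : i ≤ c.length)
    (x : ℤ) (hx0 : 0 < x) (hx : x < W4c2invhilbsl2.hjP c i) :
    Int.emod ((p : ℤ) * m * x + W4c2invhilbsl2.nN p q m c i) ((q : ℤ) - p) = W4c2invhilbsl2.nN p q m c i + Int.emod ((p : ℤ) * m * x) ((q : ℤ) - p) := by
  have H := Misc9.HJ.dat hp hpq hcop hm hnt hc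
  obtain ⟨j, rfl⟩ : ∃ j, i = j + 1 := ⟨i - 1, by omega⟩
  have h34 := (S15734.result p q m hp hpq hcop hm hnt c hc).2 (j + 1) hi hir x hx0 hx
  have hg : (0 : ℤ) < W4c2invhilbsl2.gcdK p q m := by exact_mod_cast Misc9.HJ.g_pos (p := p) (q := q) hm
  have hgt := Misc9.HJ.gt (m := m) hpq
  have hgb := Misc9.HJ.gb (m := m) hpq
  set b : ℤ := (W4c2invhilbsl2.bB p q m : ℤ) with hb
  set t : ℤ := (W4c2invhilbsl2.tT p q m : ℤ) with ht
  set g : ℤ := (W4c2invhilbsl2.gcdK p q m : ℤ) with hgdef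
  have hb0 : 0 < b := H.t_pos.trans H.t_lt
  rw [Nat.add_sub_cancel, Misc9.HJ.nN_eq hpq, Misc9.HJ.nN_eq hpq, Int.mul_ediv_cancel_left _ hg.ne', Int.mul_ediv_cancel_left _ hg.ne'] at h34
  obtain ⟨h1, h2⟩ := h34
  change Misc9.HJ.R b t c j ≤ t * x % b at h1
  have hR := Misc9.HJ.R_lt H (show j ≤ c.length by omega)
  have hR0 := Misc9.HJ.R_nonneg H (show j + 1 ≤ c.length + 1 by omega)
  have hlt := Int.emod_lt_of_pos (t * x) hb0
  set ρ := t * x % b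
  rw [Misc9.HJ.nN_eq hpq]
  show ((p : ℤ) * m * x + g * Misc9.HJ.R b t c (j + 1)) % ((q : ℤ) - p) =
    g * Misc9.HJ.R b t c (j + 1) + (p : ℤ) * m * x % ((q : ℤ) - p)
  rw [← hgb] at hgt ⊢
  have e : (p : ℤ) * m * x = g * (b - ρ) + g * b * (((W4c2invhilbsl2.alpha p q m + 1 : ℕ) : ℤ) * x - t * x / b - 1) := by
    have hemod : ρ = t * x - b * (t * x / b) := Int.emod_def _ _
    rw [hemod]; linear_combination x * hgt
  rw [e, add_right_comm, Int.add_mul_emod_self_left, Int.add_mul_emod_self_left, ← mul_add,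
    Int.mul_emod_mul_of_pos _ _ hg, Int.mul_emod_mul_of_pos _ _ hg,
    Int.emod_eq_of_lt (by omega) (by omega), Int.emod_eq_of_lt (by omega) (by omega)]
  ring

end Groth.Agent.S15733
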