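import Groth.Statements.S15736
import Mathlib.Tactic.Linarith
import Mathlib.Tactic.Ring
-- import your own Groth.Agent.* helpers here

set_option autoImplicit false
open W4c2invhilbsl2

namespace Groth.Agent.S15736

/-- For a monomial X₀^d₀X₁^d₁X₂^d₂ of the polynomial ring in X₀, X₁, X₂ (X₂ standing for Xⱼ, j = 3 or 4,
of the five-variable ring) put n = d₀ − p·d₁ + q·d₂ (its weight for the torus diag(t, t^(−p), t^q)),
c = d₁ − d₂ and ω = p·d₁ − q·d₂, so that d₀ = n + ω; here 0 < p < q are coprime integers. Then among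
all monomials X₀^d₀'X₁^d₁'X₂^d₂' with the same pair (n, c) as a given one, the maximum of ω equals
q·c when c < 0 and p·c when c ≥ 0: every such monomial has ω at most this value, and some such
monomial attains it. -/
theorem result (p q : ℕ) (hp : 0 < p) (hpq : p < q) (hcop : Nat.Coprime p q) (d0 d1 d2 : ℕ) :
    (∀ e0 e1 e2 : ℕ, (e0 : ℤ) - (p : ℤ) * e1 + (q : ℤ) * e2 = (d0 : ℤ) - (p : ℤ) * d1 + (q : ℤ) * d2 → (e1 : ℤ) - e2 = (d1 : ℤ) - d2 →
      (p : ℤ) * e1 - (q : ℤ) * e2 ≤ (if (d1 : ℤ) - d2 < 0 then (q : ℤ) * ((d1 : ℤ) - d2) else (p : ℤ) * ((d1 : ℤ) - d2))) ∧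
    (∃ e0 e1 e2 : ℕ, (e0 : ℤ) - (p : ℤ) * e1 + (q : ℤ) * e2 = (d0 : ℤ) - (p : ℤ) * d1 + (q : ℤ) * d2 ∧ (e1 : ℤ) - e2 = (d1 : ℤ) - d2 ∧
      (p : ℤ) * e1 - (q : ℤ) * e2 = (if (d1 : ℤ) - d2 < 0 then (q : ℤ) * ((d1 : ℤ) - d2) else (p : ℤ) * ((d1 : ℤ) - d2))) := by
  set c : ℤ := (d1 : ℤ) - d2 with hc
  have hqp : (0 : ℤ) < (q : ℤ) - p := by omega
  constructor
  · intro e0 e1 e2 _ h
    split_ifs with hneg
    · nlinarith [mul_nonneg hqp.le (show (0 : ℤ) ≤ e2 + c by omega)]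
    · nlinarith [mul_nonneg hqp.le (show (0 : ℤ) ≤ e2 by omega)]
  · rcases lt_or_ge c 0 with hneg | hpos
    · rw [if_pos hneg]
      have hω : (p : ℤ) * d1 - q * d2 ≤ q * c := by
        nlinarith [mul_nonneg hqp.le (show (0 : ℤ) ≤ (d1 : ℤ) by omega)]
      have h1 : 0 ≤ (d0 : ℤ) - p * d1 + q * d2 + q * c := by omega
      obtain ⟨e0, he0⟩ := Int.eq_ofNat_of_zero_le h1
      obtain ⟨e2, he2⟩ := Int.eq_ofNat_of_zero_le (show 0 ≤ -c by omega)
      refine ⟨e0, 0, e2, ?_, by omega, ?_⟩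
      · rw [← he0, ← he2]; push_cast; ring
      · rw [← he2]; push_cast; ring
    · rw [if_neg hpos.not_gt]
      have hω : (p : ℤ) * d1 - q * d2 ≤ p * c := by
        nlinarith [mul_nonneg hqp.le (show (0 : ℤ) ≤ (d2 : ℤ) by omega)]
      have h1 : 0 ≤ (d0 : ℤ) - p * d1 + q * d2 + p * c := by omega
      obtain ⟨e0, he0⟩ := Int.eq_ofNat_of_zero_le h1
      obtain ⟨e1, he1⟩ := Int.eq_ofNat_of_zero_le hpos
      refine ⟨e0, e1, 0, ?_, by omega, ?_⟩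
      · rw [← he0, ← he1]; push_cast; ring
      · rw [← he1]; push_cast; ring

end Groth.Agent.S15736
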