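import Groth.Statements.S15738
import Mathlib.Tactic.Linarith
import Mathlib.Tactic.Ring
import Mathlib.Tactic.LinearCombination
import Mathlib.RingTheory.Ideal.Quotient.Operations
-- import your own Groth.Agent.* helpers here

set_option autoImplicit false
universe u
open W4c2invhilbsl2

namespace Groth.Agent.S15738

/-- Let k be a field and m ≥ 1; for a monomial X₀^d₀X₁^d₁X₂^d₂ of the polynomial ring in X₀, X₁, X₂ (X₂
standing for Xⱼ, j = 3 or 4, of the five-variable ring) put n = d₀ − p·d₁ + q·d₂ (its weight for the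
torus diag(t, t^(−p), t^q)), c = d₁ − d₂ and ω = p·d₁ − q·d₂, so that d₀ = n + ω; here 0 < p < q are
coprime integers. Take two monomials X₀^d₀X₁^d₁X₂^d₂ and X₀^e₀X₁^e₁X₂^e₂ with the same n and with
values c, c' of c congruent modulo m (so both lie in the same ℤ × ℤ/m-weight piece for the weights
(1,0), (−p,−1), (q,1)). Then: (i) if c = c', the difference of the two monomials lies in the
principal ideal (X₀^(q−p) − X₁X₂); (ii) if c' < c, the monomial X₀^d₀X₁^d₁X₂^d₂ lies in the ideal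
(X₀^(q−p) − X₁X₂, X₀^(mp)X₁^m); (iii) in all cases the difference lies in the ideal (X₀^(q−p) −
X₁X₂, 1 − X₀^(mp)X₁^m). -/
theorem result (k : Type u) [Field k] (p q m : ℕ) (hp : 0 < p) (hpq : p < q) (hcop : Nat.Coprime p q) (hm : 0 < m)
    (d0 d1 d2 e0 e1 e2 : ℕ) (hn : (e0 : ℤ) - (p : ℤ) * e1 + (q : ℤ) * e2 = (d0 : ℤ) - (p : ℤ) * d1 + (q : ℤ) * d2)
    (hc : (m : ℤ) ∣ ((d1 : ℤ) - d2) - ((e1 : ℤ) - e2)) :
    ((d1 : ℤ) - d2 = (e1 : ℤ) - e2 →
      (MvPolynomial.X (0 : Fin 3) ^ d0 * MvPolynomial.X (1 : Fin 3) ^ d1 * MvPolynomial.X (2 : Fin 3) ^ d2 - MvPolynomial.X (0 : Fin 3) ^ e0 * MvPolynomial.X (1 : Fin 3) ^ e1 * MvPolynomial.X (2 : Fin 3) ^ e2 : MvPolynomial (Fin 3) k) ∈ Ideal.span {MvPolynomial.X (0 : Fin 3) ^ (q - p) - MvPolynomial.X (1 : Fin 3) * MvPolynomial.X (2 : Fin 3)}) ∧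
    ((e1 : ℤ) - e2 < (d1 : ℤ) - d2 →
      (MvPolynomial.X (0 : Fin 3) ^ d0 * MvPolynomial.X (1 : Fin 3) ^ d1 * MvPolynomial.X (2 : Fin 3) ^ d2 : MvPolynomial (Fin 3) k) ∈ Ideal.span {MvPolynomial.X (0 : Fin 3) ^ (q - p) - MvPolynomial.X (1 : Fin 3) * MvPolynomial.X (2 : Fin 3), MvPolynomial.X (0 : Fin 3) ^ (m * p) * MvPolynomial.X (1 : Fin 3) ^ m}) ∧
    ((MvPolynomial.X (0 : Fin 3) ^ d0 * MvPolynomial.X (1 : Fin 3) ^ d1 * MvPolynomial.X (2 : Fin 3) ^ d2 - MvPolynomial.X (0 : Fin 3) ^ e0 * MvPolynomial.X (1 : Fin 3) ^ e1 * MvPolynomial.X (2 : Fin 3) ^ e2 : MvPolynomial (Fin 3) k) ∈ Ideal.span {MvPolynomial.X (0 : Fin 3) ^ (q - p) - MvPolynomial.X (1 : Fin 3) * MvPolynomial.X (2 : Fin 3), 1 - MvPolynomial.X (0 : Fin 3) ^ (m * p) * MvPolynomial.X (1 : Fin 3) ^ m}) := by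
  set A : MvPolynomial (Fin 3) k := MvPolynomial.X 0
  set B : MvPolynomial (Fin 3) k := MvPolynomial.X 1
  set C : MvPolynomial (Fin 3) k := MvPolynomial.X 2
  set D := q - p with hDdef
  set I := Ideal.span {A ^ D - B * C}
  let π := Ideal.Quotient.mk I
  have hrel : π A ^ D = π B * π C := by
    rw [← map_pow, ← map_mul, Ideal.Quotient.eq]
    exact Ideal.subset_span rfl
  have hD : (D : ℤ) = (q : ℤ) - p := by omega
  have L : ∀ a0 a1 a2 b0 b1 b2 : ℕ,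
      (b0 : ℤ) - p * b1 + q * b2 = (a0 : ℤ) - p * a1 + q * a2 → (a1 : ℤ) - a2 = (b1 : ℤ) - b2 →
      A ^ a0 * B ^ a1 * C ^ a2 - A ^ b0 * B ^ b1 * C ^ b2 ∈ I := by
    have L' : ∀ a0 a1 a2 b0 b1 b2 : ℕ, a2 ≤ b2 →
        (b0 : ℤ) - p * b1 + q * b2 = (a0 : ℤ) - p * a1 + q * a2 → (a1 : ℤ) - a2 = (b1 : ℤ) - b2 →
        A ^ a0 * B ^ a1 * C ^ a2 - A ^ b0 * B ^ b1 * C ^ b2 ∈ I := by
      intro a0 a1 a2 b0 b1 b2 hle h1 h2
      obtain ⟨j, rfl⟩ := Nat.exists_eq_add_of_le hle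
      obtain rfl : b1 = a1 + j := by omega
      push_cast at h1
      obtain rfl : a0 = b0 + j * D := by
        zify
        rw [hD]
        linarith
      rw [← Ideal.Quotient.eq]
      show π _ = π _
      simp only [map_mul, map_pow, pow_add, mul_comm j D, pow_mul, hrel, mul_pow]
      ring
    intro a0 a1 a2 b0 b1 b2 h1 h2
    rcases le_total a2 b2 with h | h
    · exact L' _ _ _ _ _ _ h h1 h2
    · have := L' b0 b1 b2 a0 a1 a2 h h1.symm h2.symm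
      rw [← neg_sub]
      exact I.neg_mem this
  have step : ∀ (a0 a1 a2 b0 b1 b2 : ℕ) (t : ℕ),
      (b0 : ℤ) - p * b1 + q * b2 = (a0 : ℤ) - p * a1 + q * a2 → (a1 : ℤ) - a2 = (b1 : ℤ) - b2 + m * t →
      A ^ a0 * B ^ a1 * C ^ a2 - A ^ b0 * B ^ b1 * C ^ b2 * (A ^ (m * p) * B ^ m) ^ t ∈ I := by
    intro a0 a1 a2 b0 b1 b2 t h1 h2
    have := L a0 a1 a2 (b0 + m * p * t) (b1 + m * t) b2 (by push_cast; linear_combination h1) (by push_cast; linarith)
    convert this using 2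
    ring
  refine ⟨fun h => L _ _ _ _ _ _ hn h, fun h => ?_, ?_⟩
  · obtain ⟨t, ht⟩ := hc
    have htpos : 0 < t := by
      have : (0 : ℤ) < m * t := by omega
      exact pos_of_mul_pos_right this (by omega)
    obtain ⟨t, rfl⟩ := Int.eq_ofNat_of_zero_le htpos.le
    obtain ⟨t, rfl⟩ : ∃ s, t = s + 1 := ⟨t - 1, by omega⟩
    have h1 := step d0 d1 d2 e0 e1 e2 (t + 1) hn (by push_cast at ht ⊢; linarith)
    have h2 : A ^ e0 * B ^ e1 * C ^ e2 * (A ^ (m * p) * B ^ m) ^ (t + 1) ∈ Ideal.span {A ^ D - B * C, A ^ (m * p) * B ^ m} := by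
      rw [pow_succ, ← mul_assoc]
      exact Ideal.mul_mem_left _ _ (Ideal.subset_span (Set.mem_insert_of_mem _ rfl))
    have h3 : I ≤ Ideal.span {A ^ D - B * C, A ^ (m * p) * B ^ m} := Ideal.span_mono (by simp)
    simpa using Ideal.add_mem _ (h3 h1) h2
  · set J := Ideal.span {A ^ D - B * C, 1 - A ^ (m * p) * B ^ m}
    have h3 : I ≤ J := Ideal.span_mono (by simp)
    have hone : Ideal.Quotient.mk J (A ^ (m * p) * B ^ m) = 1 := by
      rw [← map_one (Ideal.Quotient.mk J), Ideal.Quotient.eq, ← neg_sub]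
      exact J.neg_mem (Ideal.subset_span (Set.mem_insert_of_mem _ rfl))
    obtain ⟨t, ht⟩ := hc
    rw [← Ideal.Quotient.eq]
    obtain ⟨t, rfl | rfl⟩ := Int.eq_nat_or_neg t
    · have h1 := Ideal.Quotient.eq.2 (h3 (step d0 d1 d2 e0 e1 e2 t hn (by linarith)))
      simp only [map_mul, map_pow] at h1 hone ⊢
      rw [h1, hone, one_pow, mul_one]
    · have h1 := Ideal.Quotient.eq.2 (h3 (step e0 e1 e2 d0 d1 d2 t hn.symm (by linarith)))
      simp only [map_mul, map_pow] at h1 hone ⊢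
      rw [h1, hone, one_pow, mul_one]

end Groth.Agent.S15738
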