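import Groth.Statements.S15749
import Mathlib.RingTheory.Idempotents
import Mathlib.RingTheory.Nilpotent.Lemmas
import Mathlib.RingTheory.LaurentSeries
import Mathlib.RingTheory.Polynomial.Nilpotent
import Mathlib.Tactic.LinearCombination
-- import your own Groth.Agent.* helpers here

set_option autoImplicit false
universe u
open CAlg

namespace Groth.Agent.S15749

/-- For an arbitrary commutative ring R, every idempotent of the ring of formal Laurent series R((t)) is
the constant series attached to a unique idempotent of R. Equivalently, the structure map R → R((t))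
induces a bijection on idempotents, so that the spectrum of R((t)) is connected if and only if the
spectrum of R is. No reducedness is assumed. -/
theorem result (R : Type u) [CommRing R]
    (e : LaurentSeries R) (he : IsIdempotentElem e) :
    ∃! r : R, IsIdempotentElem r ∧ HahnSeries.C r = e := by
  have hnil : ∀ n : ℤ, n ≠ 0 → IsNilpotent (e.coeff n) := by
    intro n hn
    rw [nilpotent_iff_mem_prime]
    intro P hP
    rw [← Ideal.Quotient.eq_zero_iff_mem]
    have hid : IsIdempotentElem (e.map (Ideal.Quotient.mk P) : LaurentSeries (R ⧸ P)) := by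
      have := HahnSeries.map_mul (Γ := ℤ) ((Ideal.Quotient.mk P : R →+* R ⧸ P) : R →ₙ+* R ⧸ P) (x := e) (y := e)
      rw [he.eq] at this
      exact this.symm
    have hc : e.coeff n ∈ P → Ideal.Quotient.mk P (e.coeff n) = 0 := Ideal.Quotient.eq_zero_iff_mem.2
    rcases IsIdempotentElem.iff_eq_zero_or_one.1 hid with h | h
    · simpa using congrArg (fun z : LaurentSeries (R ⧸ P) => z.coeff n) h
    · simpa [HahnSeries.coeff_one, hn] using congrArg (fun z : LaurentSeries (R ⧸ P) => z.coeff n) h
  have h0 : IsNilpotent (e.coeff 0 * e.coeff 0 - e.coeff 0) := by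
    rw [nilpotent_iff_mem_prime]
    intro P hP
    rw [← Ideal.Quotient.eq_zero_iff_mem, map_sub, map_mul]
    have hid : IsIdempotentElem (e.map (Ideal.Quotient.mk P) : LaurentSeries (R ⧸ P)) := by
      have := HahnSeries.map_mul (Γ := ℤ) ((Ideal.Quotient.mk P : R →+* R ⧸ P) : R →ₙ+* R ⧸ P) (x := e) (y := e)
      rw [he.eq] at this
      exact this.symm
    rcases IsIdempotentElem.iff_eq_zero_or_one.1 hid with h | h
    · have := congrArg (fun z : LaurentSeries (R ⧸ P) => z.coeff 0) h
      simp at this; simp [this]
    · have := congrArg (fun z : LaurentSeries (R ⧸ P) => z.coeff 0) h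
      simp [HahnSeries.coeff_one] at this; simp [this]
  obtain ⟨r, hr, hre⟩ := exists_isIdempotentElem_eq_of_ker_isNilpotent (Ideal.Quotient.mk (nilradical R))
    (fun x hx => by simpa [Ideal.mk_ker, mem_nilradical] using hx) (Ideal.Quotient.mk _ (e.coeff 0))
    ⟨_, rfl⟩ (by
      show _ * _ = _
      rw [← map_mul, Ideal.Quotient.mk_eq_mk_iff_sub_mem]
      exact mem_nilradical.2 h0)
  set d : LaurentSeries R := e - HahnSeries.C r with hd
  have hdn : ∀ n : ℤ, IsNilpotent (d.coeff n) := by
    intro n
    by_cases hn : n = 0
    · subst hn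
      have h := Ideal.Quotient.eq.1 hre
      rw [mem_nilradical] at h
      simpa [hd, HahnSeries.C_apply] using h.neg
    · simpa [hd, HahnSeries.C_apply, HahnSeries.coeff_single_of_ne hn] using hnil n hn
  have hd3 : d * (d ^ 2 - 1) = 0 := by
    have hC : (HahnSeries.C r : LaurentSeries R) * HahnSeries.C r = HahnSeries.C r := by rw [← map_mul, hr.eq]
    have he2 : e * e = e := he
    linear_combination (norm := (simp only [hd]; ring)) (e - 3 * HahnSeries.C r + 1) * he2 + (3 * e - HahnSeries.C r - 1) * hC
  have hu : IsUnit (d ^ 2 - 1) := by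
    let N : ℕ := (-d.order).toNat
    let p : PowerSeries R := PowerSeries.X ^ d.order.toNat * d.powerSeriesPart
    have hdp : d = HahnSeries.single (-(N : ℤ)) (1 : R) * HahnSeries.ofPowerSeries ℤ R p := by
      conv_lhs => rw [← LaurentSeries.single_order_mul_powerSeriesPart d]
      simp only [p, map_mul, HahnSeries.ofPowerSeries_X_pow, ← mul_assoc, HahnSeries.single_mul_single, mul_one]
      rw [show -(N : ℤ) + ((d.order).toNat : ℤ) = d.order by simp only [N]; omega]
    have hpn : ∀ k, IsNilpotent (PowerSeries.coeff k p) := by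
      intro k
      have := hdn ((k : ℤ) + -(N : ℤ))
      rw [hdp, HahnSeries.coeff_single_mul_add, one_mul, HahnSeries.ofPowerSeries_apply_coeff] at this
      exact this
    let q : PowerSeries R := PowerSeries.mk fun i => PowerSeries.coeff (i + N) p
    have hsplit : d = HahnSeries.ofPowerSeries ℤ R q +
        HahnSeries.single (-(N : ℤ)) (1 : R) * HahnSeries.ofPowerSeries ℤ R (PowerSeries.trunc N p) := by
      conv_lhs => rw [hdp, PowerSeries.eq_X_pow_mul_shift_add_trunc N p, map_add, map_mul,
        HahnSeries.ofPowerSeries_X_pow, mul_add, ← mul_assoc, HahnSeries.single_mul_single, mul_one,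
        neg_add_cancel, ← HahnSeries.C_apply, map_one, one_mul]
    set a := HahnSeries.single (-(N : ℤ)) (1 : R) * HahnSeries.ofPowerSeries ℤ R (PowerSeries.trunc N p)
    have ha : IsNilpotent a := by
      have : IsNilpotent (PowerSeries.trunc N p) := by
        rw [Polynomial.isNilpotent_iff]
        intro i
        rw [PowerSeries.coeff_trunc]
        split
        · exact hpn i
        · exact IsNilpotent.zero
      exact (Commute.all _ _).isNilpotent_mul_left ((this.map Polynomial.coeToPowerSeries.ringHom).map (HahnSeries.ofPowerSeries ℤ R))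
    have hq : IsUnit (q ^ 2 - 1) := by
      rw [PowerSeries.isUnit_iff_constantCoeff, map_sub, map_pow, map_one]
      have : IsNilpotent (PowerSeries.constantCoeff q) := by
        simpa [q] using hpn N
      exact (this.pow_succ 1).isUnit_sub_one
    have h2 := (hq.map (HahnSeries.ofPowerSeries ℤ R))
    rw [map_sub, map_pow, map_one] at h2
    have : d ^ 2 - 1 = (HahnSeries.ofPowerSeries ℤ R q ^ 2 - 1) + a * (2 * HahnSeries.ofPowerSeries ℤ R q + a) := by
      rw [hsplit]; ring
    rw [this]
    exact IsNilpotent.isUnit_add_left_of_commute ((Commute.all _ _).isNilpotent_mul_right ha) h2 (Commute.all _ _)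
  have hz : d = 0 := by
    rwa [hu.mul_left_eq_zero] at hd3
  refine ⟨r, ⟨hr, (sub_eq_zero.1 hz).symm⟩, ?_⟩
  rintro y ⟨-, hy⟩
  have := congrArg (fun z : LaurentSeries R => z.coeff 0) (hy.trans (sub_eq_zero.1 hz))
  simpa [HahnSeries.C_apply] using this

end Groth.Agent.S15749
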