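import Groth.Statements.S1576
import Groth.Agent.ModStalk.Localization

set_option autoImplicit false
universe u
open CategoryTheory CategoryTheory.Limits AlgebraicGeometry
open Divisors

namespace Groth.Agent.S1576

/-- Let X be locally Noetherian and F coherent. Then the associated points of F lying in any
quasi-compact open subset form a finite set. -/
theorem result (X : Scheme.{u}) [IsLocallyNoetherian X]
    (F : X.Modules) (hF : Coh.IsCoh F) (U : X.Opens) (hU : IsCompact (U : Set X)) :
    {x : X | x ∈ U ∧ Curv2.IsAssPoint F x}.Finite := by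
  have := hF.1
  have := hF.2
  have hfin : ∀ V : X.affineOpens, {x : X | x ∈ (V : X.Opens) ∧ Curv2.IsAssPoint F x}.Finite := by
    intro V
    have := IsLocallyNoetherian.component_noetherian V
    have := Groth.Agent.ModStalk.finite_sections V.2 F
    refine ((associatedPrimes.finite Γ(X, V.1) Γ(F, V.1)).preimage (f := fun x : V.1 => (V.2.primeIdealOf x).asIdeal)
      (fun a _ b _ h => Subtype.ext ?_)).image Subtype.val |>.subset ?_
    · rw [← V.2.fromSpec_primeIdealOf a, ← V.2.fromSpec_primeIdealOf b, PrimeSpectrum.ext h]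
    · rintro x ⟨hx, hA⟩
      exact ⟨⟨x, hx⟩, Groth.Agent.ModStalk.primeIdealOf_mem_associatedPrimes V.2 F ⟨x, hx⟩ hA, rfl⟩
  obtain ⟨S, hS⟩ := hU.elim_finite_subcover (fun V : X.affineOpens => ((V : X.Opens) : Set X))
    (fun V => V.1.isOpen) fun x hx => by
      obtain ⟨_, ⟨W, hW, rfl⟩, hxW, -⟩ :=
        X.isBasis_affineOpens.exists_subset_of_mem_open (Set.mem_univ x) isOpen_univ
      exact Set.mem_iUnion.mpr ⟨⟨W, hW⟩, hxW⟩
  refine (S.finite_toSet.biUnion fun V _ => hfin V).subset fun x hx => ?_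
  obtain ⟨V, hVS, hxV⟩ := Set.mem_iUnion₂.mp (hS hx.1)
  exact Set.mem_iUnion₂.mpr ⟨V, hVS, hxV, hx.2⟩

end Groth.Agent.S1576
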