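import Groth.Statements.S1577
import Groth.Agent.ModStalk.Localization

set_option autoImplicit false
universe u
open CategoryTheory CategoryTheory.Limits AlgebraicGeometry
open Divisors

namespace Groth.Agent.S1577

/-- Let X be locally Noetherian and F quasi-coherent. A point of the support of F which is not a
specialisation of a different point of the support is an associated point of F. -/
theorem result (X : Scheme.{u}) [IsLocallyNoetherian X]
    (F : X.Modules) (hF : Coh.IsQCoh F) (x : X) (hx : x ∈ CohB1.support F)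
    (hmax : ∀ y ∈ CohB1.support F, y ⤳ x → y = x) : Curv2.IsAssPoint F x := by
  have := hF
  rw [Groth.Agent.ModStalk.isAssPoint_iff_isWeakAssPoint]
  obtain ⟨m, hm⟩ : ∃ m : F.presheaf.stalk x, m ≠ 0 := by
    by_contra h
    push Not at h
    exact hx (subsingleton_of_forall_eq 0 h)
  obtain ⟨U, hxU, s, rfl⟩ := F.presheaf.exists_germ_eq (x := x) m
  obtain ⟨W, hW, hxW, hWU⟩ := X.isBasis_affineOpens.exists_subset_of_mem_open hxU U.isOpen
  obtain ⟨V, hV, rfl⟩ := hW
  replace hWU : V ≤ U := hWU
  obtain ⟨y, hyx, hy, hw⟩ := Groth.Agent.ModStalk.exists_isWeakAssPoint hV F ⟨x, hxW⟩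
    (F.presheaf.map (homOfLE hWU).op s) (by rw [TopCat.Presheaf.germ_res_apply]; exact hm)
  have hys : y.1 ∈ CohB1.support F := fun hsub => hy (Subsingleton.elim _ _)
  exact hmax y.1 hys hyx ▸ hw

end Groth.Agent.S1577
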