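import Groth.Statements.S15771
import Mathlib
-- import your own Groth.Agent.* helpers here

set_option autoImplicit false
universe u
open TensorProduct
open CAlg

namespace Groth.Agent.S15771

/-- For a ring map B₀ → B with dense image into a topological ring B, a finitely generated B₀-module M₀
and any topological B-module structure on M = B ⊗_{B₀} M₀, the natural map M₀ → M has dense image. -/
theorem result (B₀ B : Type u) [CommRing B₀] [CommRing B] [Algebra B₀ B]
    [TopologicalSpace B] [IsTopologicalRing B] (hφ : DenseRange (algebraMap B₀ B))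
    (M₀ : Type u) [AddCommGroup M₀] [Module B₀ M₀] [Module.Finite B₀ M₀]
    [TopologicalSpace (B ⊗[B₀] M₀)] [IsTopologicalAddGroup (B ⊗[B₀] M₀)] [ContinuousSMul B (B ⊗[B₀] M₀)] :
    DenseRange (fun m : M₀ => (1 : B) ⊗ₜ[B₀] m) := by
  let G : AddSubgroup (B ⊗[B₀] M₀) := (LinearMap.range (TensorProduct.mk B₀ B M₀ 1)).toAddSubgroup.topologicalClosure
  have hG : (G : Set (B ⊗[B₀] M₀)) = closure (Set.range fun m : M₀ => (1 : B) ⊗ₜ[B₀] m) := rfl
  intro z
  rw [← hG]
  induction z with
  | zero => exact G.zero_mem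
  | add a b ha hb => exact G.add_mem ha hb
  | tmul b m =>
    rw [SetLike.mem_coe, ← SetLike.mem_coe, hG]
    have hc : Continuous fun c : B => c • ((1 : B) ⊗ₜ[B₀] m) := (continuous_id (X := B)).smul (continuous_const (y := (1 : B) ⊗ₜ[B₀] m))
    have h1 : b • ((1 : B) ⊗ₜ[B₀] m) ∈ closure (Set.range fun m : M₀ => (1 : B) ⊗ₜ[B₀] m) :=
      (hc.range_subset_closure_image_dense hφ).trans (closure_mono (Set.image_subset_iff.2 ?_)) ⟨b, rfl⟩
    · simpa [TensorProduct.smul_tmul'] using h1
    rintro _ ⟨a, rfl⟩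
    refine ⟨a • m, ?_⟩
    show (1 : B) ⊗ₜ[B₀] (a • m) = algebraMap B₀ B a • ((1 : B) ⊗ₜ[B₀] m)
    rw [algebraMap_smul, TensorProduct.tmul_smul]

end Groth.Agent.S15771
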