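import Groth.Statements.S15796
import Groth.Agent.WQ8.Triangular

set_option autoImplicit false
universe u v
open WildQuot

namespace Groth.Agent.S15796

/-- Let `A` be a Noetherian local ring of Krull dimension `n` whose maximal ideal `m` is generated by
`u_1, …, u_n`, and let a finite group `G` act on `A` by ring automorphisms. If some `σ ∈ G` maps
some `u_i` into the ideal generated by the `u_j` with `j ≠ i`, then the system `u` is not weakly
admissible: for some choice `σ_1, …, σ_n ∈ G` the radical of `(σ_1 u_1, …, σ_n u_n)` does not
contain `m`. (The published statement is for a linear action on `k[[u_1, …, u_n]]` whose matrix has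
a zero diagonal entry; this row assumes instead that some `σ u_i` lies in the ideal generated by the
other `u_j`.) -/
theorem result
    (A : Type u) [CommRing A] [IsLocalRing A] [IsNoetherianRing A]
    (G : Type v) [Group G] [Finite G] [MulSemiringAction G A]
    (n : ℕ) (hn : ringKrullDim A = n) (u : Fin n → A)
    (hu : Ideal.span (Set.range u) = IsLocalRing.maximalIdeal A)
    (σ : G) (i : Fin n) (hσ : σ • u i ∈ Ideal.span (u '' {j | j ≠ i})) :
    ∃ τ : Fin n → G,
      ¬ IsLocalRing.maximalIdeal A ≤ (Ideal.span (Set.range fun j => τ j • u j)).radical := by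
  classical
  refine ⟨Function.update (fun _ => 1) i σ, fun h => ?_⟩
  refine Groth.Agent.WQ8.not_primary_of_others hn u i (fun j => hu ▸ Ideal.subset_span ⟨j, rfl⟩)
    (h.trans (Ideal.radical_mono (Ideal.span_le.mpr (Set.range_subset_iff.mpr fun j => ?_))))
  by_cases hj : j = i
  · subst hj; rw [Function.update_self]; exact hσ
  · rw [Function.update_of_ne hj, one_smul]; exact Ideal.subset_span ⟨j, hj, rfl⟩

end Groth.Agent.S15796
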