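import Groth.Statements.S15804
import Groth.Agent.WQ8.Dim2

set_option autoImplicit false
universe u v w
open WildQuot

namespace Groth.Agent.S15804

/-- Let `R` be a regular local ring and `A` a normal local domain, finite over `R` (with `R → A`
injective) and with the same residue field; let a finite group `H` act faithfully on `A` by
`R`-algebra automorphisms with ring of invariants exactly `R` (so `Frac(A)/Frac(R)` is Galois with
group `H`); assume `A` has Krull dimension `2`, `H` has order `p ^ 2` for a prime `p`, and `Γ ≤ H`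
is a subgroup of order `p` whose intersection with the inertia subgroup of every non-maximal prime
of `A` is trivial (the action of `Γ` is ramified precisely at the origin). Then every nontrivial
inertia subgroup of a height-one prime of `A` has order `p`, and `H` is commutative with every
element satisfying `h ^ p = 1`, i.e. elementary abelian of order `p ^ 2`. (The published statement
is for `A` a complete regular local ring with an action ramified precisely at the origin, `R =
k[[x_1, …, x_n]]` a norm subring and `H` the Galois group of `Frac(A)/Frac(R)`, when that extension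
is Galois; this row assumes only the hypotheses listed above.) -/
theorem result
    (p : ℕ) [Fact p.Prime] (R : Type u) [CommRing R] [IsRegularLocalRing R]
    (A : Type v) [CommRing A] [IsDomain A] [IsIntegrallyClosed A] [IsLocalRing A]
    [Algebra R A] [Module.Finite R A] (hinj : Function.Injective (algebraMap R A))
    (hres : Function.Surjective (IsLocalRing.residue A ∘ algebraMap R A))
    (H : Type w) [Group H] [Finite H] [MulSemiringAction H A] [SMulCommClass H R A] [FaithfulSMul H A]
    (hfix : ∀ a : A, (∀ h : H, h • a = a) → a ∈ Set.range (algebraMap R A))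
    (hdim : ringKrullDim A = 2) (hcard : Nat.card H = p ^ 2)
    (Γ : Subgroup H) (hΓ : Nat.card Γ = p)
    (hram : ∀ P : Ideal A, P.IsPrime → P ≠ IsLocalRing.maximalIdeal A → P.inertia H ⊓ Γ = ⊥) :
    (∀ P : Ideal A, P.IsPrime → P.height = 1 → P.inertia H ≠ ⊥ → Nat.card (P.inertia H) = p) ∧
      (∀ g h : H, g * h = h * g) ∧ ∀ h : H, h ^ p = 1 := by
  classical
  have hp := (Fact.out : p.Prime)
  haveI : Fintype H := Fintype.ofFinite H
  haveI : IsDomain R := hinj.isDomain _
  haveI : FaithfulSMul R A := (faithfulSMul_iff_algebraMap_injective R A).mpr hinj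
  haveI : IsNoetherianRing A := IsNoetherianRing.of_finite R A
  have hm : ∀ P : Ideal A, P.IsPrime → P.height = 1 → P ≠ IsLocalRing.maximalIdeal A := fun P _ hh he => by
    have h2 := IsLocalRing.maximalIdeal_height_eq_ringKrullDim (R := A)
    rw [hdim, ← he, hh] at h2
    exact absurd (WithBot.coe_inj.mp h2) (by norm_num)
  have hord : ∀ P : Ideal A, P.IsPrime → P ≠ IsLocalRing.maximalIdeal A → P.inertia H ≠ ⊥ → Nat.card (P.inertia H) = p := by
    intro P hP hPm hne
    have hinjf : Function.Injective fun x : (P.inertia H) × Γ => (x.1 : H) * x.2 := by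
      rintro ⟨a, b⟩ ⟨c, d⟩ h
      have h1 : (c : H)⁻¹ * a = (d : H) * (b : H)⁻¹ := by
        simp only at h
        rw [eq_mul_inv_iff_mul_eq, mul_assoc, h, inv_mul_cancel_left]
      have h2 : (c : H)⁻¹ * a ∈ P.inertia H ⊓ Γ := Subgroup.mem_inf.mpr ⟨(P.inertia H).mul_mem ((P.inertia H).inv_mem c.2) a.2,
        h1 ▸ Γ.mul_mem d.2 (Γ.inv_mem b.2)⟩
      rw [hram P hP hPm, Subgroup.mem_bot] at h2
      refine Prod.ext (Subtype.ext (inv_mul_eq_one.mp h2).symm) (Subtype.ext ?_)
      rw [h2] at h1
      exact (mul_inv_eq_one.mp h1.symm).symm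
    have hle := Nat.card_le_card_of_injective _ hinjf
    rw [Nat.card_prod, hΓ, hcard, pow_two] at hle
    have hle' : Nat.card (P.inertia H) ≤ p := Nat.le_of_mul_le_mul_right hle hp.pos
    obtain ⟨j, hj, hje⟩ := (Nat.dvd_prime_pow hp).mp (hcard ▸ (P.inertia H).card_subgroup_dvd_card)
    rw [hje] at hle' ⊢
    rcases j with _ | _ | j
    · rw [pow_zero] at hje
      exact absurd (Subgroup.eq_bot_of_card_eq (P.inertia H) hje) hne
    · exact pow_one p
    · exfalso
      have : p ^ 2 ≤ p ^ (j + 2) := Nat.pow_le_pow_right hp.pos (by omega)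
      nlinarith [hp.two_le]
  have hcomm : ∀ g h : H, g * h = h * g := by
    letI := IsPGroup.commGroupOfCardEqPrimeSq hcard
    exact mul_comm
  refine ⟨fun P hP hh hne => hord P hP (hm P hP hh) hne, hcomm, fun h => ?_⟩
  by_contra hne
  have hho : orderOf h = p ^ 2 := by
    obtain ⟨j, hj, hje⟩ := (Nat.dvd_prime_pow hp).mp (hcard ▸ orderOf_dvd_natCard h)
    interval_cases j
    · exact absurd (show h ^ p = 1 by rw [orderOf_eq_one_iff.mp (show orderOf h = 1 by rw [hje, pow_zero]), one_pow]) hne
    · exact absurd (by rw [← pow_one p, ← hje]; exact pow_orderOf_eq_one h) hne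
    · exact hje
  haveI : IsCyclic H := isCyclic_of_orderOf_eq_card h (by rw [hho, hcard])
  have huniq : ∀ S : Subgroup H, Nat.card S = p → S = Γ := fun S hS =>
    Groth.Agent.WQ8.eq_of_card_eq_of_cyclic S Γ (hS.trans hΓ.symm)
  have htriv : ∀ P : Ideal A, P.IsPrime → P ≠ IsLocalRing.maximalIdeal A → P.inertia H = ⊥ := fun P hP hPm => by
    by_contra hI
    have h1 := hram P hP hPm
    rw [huniq _ (hord P hP hPm hI), inf_idem] at h1
    have : Nat.card Γ = 1 := by rw [h1]; exact Subgroup.card_bot
    rw [hΓ] at this
    exact hp.one_lt.ne' this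
  haveI := Groth.Agent.WQ8.free_of_normal_dim_two hinj hdim
  have := Groth.Agent.WQ8.subsingleton_of_free (B := R) (A := A) (G := H) hinj (fun a => by
    obtain ⟨b, hb⟩ := hres (IsLocalRing.residue A a)
    exact ⟨b, Ideal.Quotient.eq.mp hb.symm⟩) hfix
    (le_of_eq ((Groth.Agent.WQ8.ringKrullDim_eq_of_integral' hinj).symm.trans hdim).symm) htriv
  exact hne (Subsingleton.elim _ _)

end Groth.Agent.S15804
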