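import Groth.Statements.S15811
import Mathlib.Algebra.Polynomial.Splits
import Mathlib.RingTheory.IntegralClosure.IntegrallyClosed
import Mathlib.RingTheory.Localization.FractionRing
import Mathlib.Algebra.Field.ZMod
import Mathlib.Algebra.CharP.Algebra
import Mathlib.FieldTheory.Finite.Basic

set_option autoImplicit false
universe u
open WildQuot

namespace Groth.Agent.S15811

/-- Let `R` be an integrally closed domain of prime characteristic `p` with fraction field `K`, and `α ∈
R`. Then `α ≠ 0` and the polynomial `T ^ p - α T` splits into linear factors over `K` — which says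
that the finite flat group scheme `Spec R[T]/(T ^ p - α T)` of order `p` has constant generic fibre
(its `p` roots are then distinct) — if and only if `α = a ^ (p-1)` for some nonzero `a ∈ R`. (The
published statement is that the generic fibre of the finite flat group scheme of order `p` with
parameters `α, β` satisfying `α β = 0`, whose underlying scheme is `Spec R[T]/(T ^ p - α T)`, is
constant if and only if `β = 0` and `α` is the `(p-1)`-th power of a nonzero element of `R`; this
row states the polynomial condition, in which `α ≠ 0` already forces `β = 0` over a domain.) -/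
theorem result
    (p : ℕ) [Fact p.Prime] (R : Type u) [CommRing R] [IsDomain R] [IsIntegrallyClosed R]
    [CharP R p] (α : R) :
    (α ≠ 0 ∧ (Polynomial.map (algebraMap R (FractionRing R))
        (Polynomial.X ^ p - Polynomial.C α * Polynomial.X)).Splits) ↔
      ∃ a : R, a ≠ 0 ∧ α = a ^ (p - 1) := by
  classical
  have hp := (Fact.out : p.Prime)
  let K := FractionRing R
  let φ := algebraMap R K
  have inj : Function.Injective φ := IsFractionRing.injective R K
  haveI : CharP K p := charP_of_injective_algebraMap inj p
  have hnd : (Polynomial.X ^ p - Polynomial.C (φ α) * Polynomial.X).natDegree = p := by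
    rw [Polynomial.natDegree_sub_eq_left_of_natDegree_lt] <;> rw [Polynomial.natDegree_X_pow]
    refine (Polynomial.natDegree_C_mul_le _ _).trans_lt ?_
    rw [Polynomial.natDegree_X]; exact hp.one_lt
  have hmap : Polynomial.map φ (Polynomial.X ^ p - Polynomial.C α * Polynomial.X) =
      Polynomial.X ^ p - Polynomial.C (φ α) * Polynomial.X := by simp
  show (α ≠ 0 ∧ (Polynomial.map φ (Polynomial.X ^ p - Polynomial.C α * Polynomial.X)).Splits) ↔ _
  rw [hmap]
  constructor
  · rintro ⟨h0, hs⟩
    have hdvd : (Polynomial.X ^ (p - 1) - Polynomial.C (φ α)) ∣ Polynomial.X ^ p - Polynomial.C (φ α) * Polynomial.X :=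
      ⟨Polynomial.X, by rw [sub_mul, ← pow_succ, Nat.sub_add_cancel hp.one_le]⟩
    have hne : (Polynomial.X ^ p - Polynomial.C (φ α) * Polynomial.X) ≠ 0 := fun h => hp.ne_zero (by rw [← hnd, h, Polynomial.natDegree_zero])
    obtain ⟨r, hr⟩ := (hs.of_dvd hne hdvd).exists_eval_eq_zero (by
      rw [Polynomial.degree_X_pow_sub_C (by have := hp.two_le; omega)]
      exact_mod_cast (by have := hp.two_le; omega : p - 1 ≠ 0))
    simp only [Polynomial.eval_sub, Polynomial.eval_pow, Polynomial.eval_X, Polynomial.eval_C, sub_eq_zero] at hr
    obtain ⟨a, ha⟩ := IsIntegrallyClosed.isIntegral_iff.mp (⟨Polynomial.X ^ (p - 1) - Polynomial.C α,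
      Polynomial.monic_X_pow_sub_C α (by have := hp.two_le; omega), by simp [hr, φ, K]⟩ : IsIntegral R r)
    refine ⟨a, fun h => h0 (inj ?_), inj ?_⟩
    · rw [map_zero, ← hr, ← ha, h, map_zero, zero_pow (by have := hp.two_le; omega)]
    · rw [map_pow, ← hr, ← ha]
  · rintro ⟨a, ha, rfl⟩
    refine ⟨pow_ne_zero _ ha, Polynomial.splits_iff_card_roots.mpr (le_antisymm (Polynomial.card_roots' _) ?_)⟩
    rw [hnd]
    have hne : (Polynomial.X ^ p - Polynomial.C (φ (a ^ (p - 1))) * Polynomial.X) ≠ 0 := fun h => hp.ne_zero (by rw [← hnd, h, Polynomial.natDegree_zero])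
    let c : ZMod p →+* K := ZMod.castHom dvd_rfl K
    have hsub : Finset.univ.image (fun z => c z * φ a) ⊆ (Polynomial.X ^ p - Polynomial.C (φ (a ^ (p - 1))) * Polynomial.X).roots.toFinset := by
      intro y hy
      obtain ⟨z, -, rfl⟩ := Finset.mem_image.mp hy
      rw [Multiset.mem_toFinset, Polynomial.mem_roots hne, Polynomial.IsRoot]
      simp only [Polynomial.eval_sub, Polynomial.eval_mul, Polynomial.eval_pow, Polynomial.eval_X, Polynomial.eval_C]
      rw [mul_pow, ← map_pow c, ZMod.pow_card, map_pow φ, mul_left_comm, ← pow_succ, Nat.sub_add_cancel hp.one_le, sub_self]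
    have h := (Finset.card_le_card hsub).trans (Multiset.toFinset_card_le _)
    rwa [Finset.card_image_of_injective _ (fun z z' h => c.injective (mul_right_cancel₀ (fun e => ha (inj (e.trans (map_zero φ).symm))) h)),
      Finset.card_univ, ZMod.card] at h

end Groth.Agent.S15811
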