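import Groth.Statements.S15812
import Groth.Agent.WQ8.Setup

set_option autoImplicit false
universe u v w
open WildQuot

namespace Groth.Agent.S15812

/-- Let `R` be a regular local ring and `A` a normal local domain, finite over `R` (with `R → A`
injective) and with the same residue field; let a finite group `H` act faithfully on `A` by
`R`-algebra automorphisms with ring of invariants exactly `R` (so `Frac(A)/Frac(R)` is Galois with
group `H`); assume `H` is commutative of order `p ^ n` (`p` prime) and let `G_1, …, G_n ≤ H` be
subgroups of order `p` generating `H`, each the inertia subgroup of some height-one prime of `A`,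
such that every nontrivial inertia subgroup of a height-one prime of `A` is one of the `G_i`. Put
`G_i^⊥ =` the subgroup generated by the `G_j` with `j ≠ i`, and assume each invariant ring
`A^{G_i^⊥}` is a free `R`-module (the published statement asks them to be Cohen–Macaulay, which for
a finite algebra over the regular local ring `R` is the same). Then the subalgebras `A^{G_1^⊥}, …,
A^{G_n^⊥}` generate `A` over `R`. (The published conclusion is that the product map `A^{G_1^⊥} ⊗_R ⋯
⊗_R A^{G_n^⊥} → A` is an isomorphism; as each factor is then free of rank `p` and `A` has rank `p ^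
n` over `R`, that is equivalent to the generation statement given here. The published statement is
for `A` a complete regular local ring with an action ramified precisely at the origin, `R = k[[x_1,
…, x_n]]` a norm subring and `H` the Galois group of `Frac(A)/Frac(R)`, when that extension is
Galois; this row assumes only the hypotheses listed above.) -/
theorem result
    (p : ℕ) [Fact p.Prime] (R : Type u) [CommRing R] [IsRegularLocalRing R]
    (A : Type v) [CommRing A] [IsDomain A] [IsIntegrallyClosed A] [IsLocalRing A]
    [Algebra R A] [Module.Finite R A] (hinj : Function.Injective (algebraMap R A))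
    (hres : Function.Surjective (IsLocalRing.residue A ∘ algebraMap R A))
    (H : Type w) [Group H] [Finite H] [MulSemiringAction H A] [SMulCommClass H R A] [FaithfulSMul H A]
    (hfix : ∀ a : A, (∀ h : H, h • a = a) → a ∈ Set.range (algebraMap R A))
    (hcomm : ∀ g h : H, g * h = h * g)
    (n : ℕ) (hcard : Nat.card H = p ^ n) (Gi : Fin n → Subgroup H)
    (hGi : ∀ i, Nat.card (Gi i) = p) (hsup : (⨆ i, Gi i) = ⊤)
    (hinert : ∀ i, ∃ P : Ideal A, P.IsPrime ∧ P.height = 1 ∧ P.inertia H = Gi i)
    (hMR3 : ∀ P : Ideal A, P.IsPrime → P.height = 1 → P.inertia H ≠ ⊥ → ∃ i, P.inertia H = Gi i)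
    (hMR4 : ∀ i, Module.Free R
      (FixedPoints.subalgebra R A ↥(⨆ j ∈ (Finset.univ.erase i : Finset (Fin n)), Gi j : Subgroup H))) :
    (⨆ i, FixedPoints.subalgebra R A ↥(⨆ j ∈ (Finset.univ.erase i : Finset (Fin n)), Gi j : Subgroup H)) = ⊤ := by
  classical
  letI : CommGroup H := { (inferInstance : Group H) with mul_comm := hcomm }
  haveI : IsDomain R := hinj.isDomain _
  haveI : IsIntegrallyClosed R := Groth.Agent.WQ8.isIntegrallyClosed_invariants hinj hfix
  have pb := Groth.Agent.WQ8.prod_bijective p hcard Gi hGi hsup
  refine Groth.Agent.WQ8.sup_eq_top Gi pb hinj hfix hMR4 fun q hq hh hq0 => ?_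
  by_cases hex : ∃ P : Ideal A, P.IsPrime ∧ P.comap (algebraMap R A) = q ∧ P.inertia H ≠ ⊥
  · obtain ⟨P, hP, hPq, hne⟩ := hex
    obtain ⟨i, hi⟩ := hMR3 P hP (Groth.Agent.WQ8.height_eq_one hinj q hh P hPq hq0) hne
    refine Or.inr ⟨i, fun j hj P' hP' hP'q => ?_⟩
    rw [Groth.Agent.WQ8.inertia_eq_of_comap_eq hfix P P' (hPq.trans hP'q.symm), hi]
    exact le_iSup₂_of_le i (Finset.mem_erase.mpr ⟨Ne.symm hj, Finset.mem_univ i⟩) le_rfl
  · refine Or.inl fun j P hP hPq => ?_
    have : P.inertia H = ⊥ := by
      by_contra hne
      exact hex ⟨P, hP, hPq, hne⟩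
    rw [this]; exact bot_le

end Groth.Agent.S15812
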