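import Groth.Statements.S15813
import Groth.Agent.WQ8.Break

set_option autoImplicit false
universe u
open WildQuot

namespace Groth.Agent.S15813

/-- Let `k` be a field of characteristic `p > 0`, `A = k[[u]]`, and `σ` a `k`-algebra automorphism of
`A` of order exactly `p`, with ramification break `m`: `σ u - u` has order `m + 1`. Let `x = ∏_{i <
p} σ^i u` be the norm of `u`, let `f ∈ A` be `σ`-invariant with nonzero constant term (a unit of the
invariant ring `k[[x]]`), let `μ > 0` be prime to `p`, and let `z ∈ Frac(A)` satisfy the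
Artin–Schreier equation `z ^ p - z = f / x ^ μ`. Then `μ = m`. (The published statement also records
that `Frac(A) = Frac(A^σ)(z)`; that follows from the equation since `p` does not divide `μ`, so it
is not repeated as a hypothesis.) -/
theorem result
    (p : ℕ) [Fact p.Prime] (k : Type u) [Field k] [CharP k p]
    (σ : PowerSeries k ≃ₐ[k] PowerSeries k) (hσp : σ ^ p = 1) (hσ1 : σ ≠ 1)
    (m : ℕ) (hm : (σ PowerSeries.X - PowerSeries.X).order = ((m + 1 : ℕ) : ℕ∞))
    (f : PowerSeries k) (hfσ : σ f = f) (hf0 : PowerSeries.constantCoeff f ≠ 0)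
    (μ : ℕ) (hμ : 0 < μ) (hpμ : ¬ p ∣ μ)
    (z : FractionRing (PowerSeries k))
    (hz : z ^ p - z = algebraMap (PowerSeries k) (FractionRing (PowerSeries k)) f /
      algebraMap (PowerSeries k) (FractionRing (PowerSeries k))
        (∏ i ∈ Finset.range p, (σ ^ i) PowerSeries.X) ^ μ) :
    μ = m := by
  have hp := (Fact.out : p.Prime)
  let K := FractionRing (PowerSeries k)
  let φ := algebraMap (PowerSeries k) K
  have inj : Function.Injective φ := IsFractionRing.injective (PowerSeries k) K
  have hm1 := Groth.Agent.WQ8.Break.one_le_break hσp hm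
  obtain ⟨E, hE0, hE, -⟩ := Groth.Agent.WQ8.Break.norm_X hσp hm hm1
  obtain ⟨g0, h, hh, hzgh⟩ := IsFractionRing.div_surjective (A := PowerSeries k) z
  have hh0 : h ≠ 0 := nonZeroDivisors.ne_zero hh
  let a := ∏ i ∈ Finset.range p, (σ ^ i) h
  let h' := ∏ i ∈ Finset.range (p - 1), (σ ^ (i + 1)) h
  have hah : a = h' * h := by
    simp only [a, h']
    conv_lhs => rw [← Nat.sub_add_cancel hp.one_le]
    rw [Finset.prod_range_succ']
    simp
  have ha0 : a ≠ 0 := Finset.prod_ne_zero_iff.mpr fun i _ e => hh0 ((σ ^ i).injective (e.trans (map_zero _).symm))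
  have ha : σ a = a := by
    obtain ⟨q, hq⟩ : ∃ q, p = q + 1 := ⟨p - 1, by have := hp.pos; omega⟩
    subst hq
    simp only [a]
    rw [map_prod, Finset.prod_range_succ _ q, Finset.prod_range_succ' (fun i => (σ ^ i) h) q]
    simp only [← AlgEquiv.mul_apply, ← pow_succ', hσp, pow_zero]
  refine Groth.Agent.WQ8.Break.conductor_eq hσp hm f hfσ hf0 μ hμ hpμ (g0 * h') a ha ha0 (inj ?_)
  have hx0 : φ (∏ i ∈ Finset.range p, (σ ^ i) PowerSeries.X) ≠ 0 := fun e => by
    have h1 := inj (e.trans (map_zero φ).symm)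
    rw [hE] at h1
    rcases mul_eq_zero.mp h1 with h2 | h2
    · exact pow_ne_zero _ PowerSeries.X_ne_zero h2
    · rw [h2, map_zero] at hE0; exact zero_ne_one hE0
  have haK : φ a ≠ 0 := fun e => ha0 (inj (e.trans (map_zero φ).symm))
  have hhK : φ h ≠ 0 := fun e => hh0 (inj (e.trans (map_zero φ).symm))
  have hg : φ (g0 * h') = z * φ a := by
    rw [← hzgh, hah, map_mul, map_mul, div_mul_eq_mul_div, eq_div_iff hhK]
    ring
  have hap : a ^ p = a ^ (p - 1) * a := by rw [← pow_succ, Nat.sub_add_cancel hp.one_le]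
  rw [eq_div_iff (pow_ne_zero _ hx0)] at hz
  rw [map_mul φ _ ((∏ i ∈ Finset.range p, (σ ^ i) PowerSeries.X) ^ μ), map_sub, map_mul φ (a ^ (p - 1)), map_pow φ (g0 * h'), hg,
    map_pow, map_pow, map_mul, map_pow]
  have hap' : φ a ^ p = φ a ^ (p - 1) * φ a := by rw [← pow_succ, Nat.sub_add_cancel hp.one_le]
  rw [mul_pow]
  linear_combination φ a ^ p * hz + (z * φ (∏ i ∈ Finset.range p, (σ ^ i) PowerSeries.X) ^ μ) * hap'

end Groth.Agent.S15813
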