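import Groth.Statements.S15817
import Mathlib
-- import your own Groth.Agent.* helpers here

set_option autoImplicit false
set_option backward.isDefEq.respectTransparency false
universe u v
open CategoryTheory
open CAlg

open CategoryTheory CategoryTheory.Limits AlgebraicGeometry
namespace Groth.Agent.S15817

/-- Let A be a commutative ring, M an A-module and P, Q submodules of M. Then the commuting square of
quotient projections with corners M/(P ∩ Q), M/P, M/Q and M/(P + Q) is cartesian in the category of
A-modules: M/(P ∩ Q) is the fibre product of M/P and M/Q over M/(P + Q). -/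
theorem result (A : Type u) [CommRing A] (M : Type v) [AddCommGroup M] [Module A M]
    (P Q : Submodule A M) :
    IsPullback (ModuleCat.ofHom (Submodule.factor (inf_le_left : P ⊓ Q ≤ P)))
      (ModuleCat.ofHom (Submodule.factor (inf_le_right : P ⊓ Q ≤ Q)))
      (ModuleCat.ofHom (Submodule.factor (le_sup_left : P ≤ P ⊔ Q)))
      (ModuleCat.ofHom (Submodule.factor (le_sup_right : Q ≤ P ⊔ Q))) := by
  refine IsPullback.of_map (forget (ModuleCat.{v} A)) ?_ ?_
  · ext x
    rfl
  · rw [Types.isPullback_iff]
    refine ⟨?_, fun x y ⟨hx, hy⟩ => ?_, fun x y h => ?_⟩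
    · ext x
      obtain ⟨m, rfl⟩ := Submodule.Quotient.mk_surjective _ x
      rfl
    · obtain ⟨m, rfl⟩ := Submodule.Quotient.mk_surjective _ x
      obtain ⟨m', rfl⟩ := Submodule.Quotient.mk_surjective _ y
      exact (Submodule.Quotient.eq _).2 ⟨(Submodule.Quotient.eq _).1 hx, (Submodule.Quotient.eq _).1 hy⟩
    · obtain ⟨m, rfl⟩ := Submodule.Quotient.mk_surjective _ x
      obtain ⟨m', rfl⟩ := Submodule.Quotient.mk_surjective _ y
      obtain ⟨p, hp, q, hq, (hpq : p + q = m - m')⟩ := Submodule.mem_sup.1 ((Submodule.Quotient.eq _).1 h)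
      refine ⟨Submodule.Quotient.mk (m - p), (Submodule.Quotient.eq _).2 (by simpa using hp), (Submodule.Quotient.eq _).2 ?_⟩
      show m - p - m' ∈ Q
      have : m - p - m' = q := by rw [sub_right_comm, ← hpq, add_sub_cancel_left]
      rw [this]; exact hq

end Groth.Agent.S15817
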