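import Groth.Statements.S15835
import Mathlib

set_option autoImplicit false
universe u
open SprIso

namespace Groth.Agent.S15835

/-- Over a commutative ring R of prime characteristic p, let n ≥ 1 and let p^m be the largest power of p
dividing n. The locus of n × n matrices with characteristic polynomial t^n is stable under adding a
scalar matrix a·1 with n·a = 0 exactly when a^(p^m) = 0: for X with characteristic polynomial t^n
and such an a, the matrix X + a·1 has characteristic polynomial t^n if and only if a^(p^m) = 0.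
(Stated on points with values in an arbitrary ring of characteristic p; the scheme-theoretic
assertion about the nilpotent scheme of SL_n is this statement for all such rings.) -/
theorem result (p : ℕ) [Fact p.Prime] (R : Type u) [CommRing R]
    [CharP R p] (n : ℕ) (hn : 0 < n) (X : Matrix (Fin n) (Fin n) R) (hX : X.charpoly = Polynomial.X ^ n)
    (a : R) (ha : (n : R) * a = 0) :
    (X + Matrix.scalar (Fin n) a).charpoly = Polynomial.X ^ n ↔ a ^ (p ^ padicValNat p n) = 0 := by
  haveI : NeZero n := ⟨hn.ne'⟩
  have hp : p.Prime := Fact.out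
  haveI : ExpChar R p := ExpChar.prime hp
  set m := padicValNat p n with hm
  have hpm : p ^ m ∣ n := pow_padicValNat_dvd
  obtain ⟨q, hq⟩ := hpm
  have hq0 : 0 < q := Nat.pos_of_ne_zero fun h => hn.ne' (by simp [hq, h])
  have hpq : ¬ p ∣ q := fun h => pow_succ_padicValNat_not_dvd hn.ne' (by
    rw [← hm, pow_succ]; conv_rhs => rw [hq]
    exact Nat.mul_dvd_mul_left _ h)
  have h1 : (X + Matrix.scalar (Fin n) a).charpoly = (Polynomial.X ^ (p ^ m) - Polynomial.C (a ^ (p ^ m))) ^ q := by
    rw [show X + Matrix.scalar (Fin n) a = X - Matrix.scalar (Fin n) (-a) by rw [map_neg, sub_neg_eq_add],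
      Matrix.charpoly_sub_scalar, hX, Polynomial.pow_comp, Polynomial.X_comp, map_neg, ← sub_eq_add_neg,
      hq, pow_mul, sub_pow_expChar_pow, map_pow]
  rw [h1]
  have h2 : (Polynomial.X : Polynomial R) ^ n = (Polynomial.X ^ (p ^ m)) ^ q := by rw [← pow_mul, ← hq]
  refine ⟨fun h => ?_, fun h => by rw [h, map_zero, sub_zero, h2]⟩
  obtain ⟨b, hb⟩ : ∃ b, b = a ^ (p ^ m) := ⟨_, rfl⟩
  rw [← hb] at h ⊢
  have he : Polynomial.expand R (p ^ m) ((Polynomial.X - Polynomial.C b) ^ q) =
      Polynomial.expand R (p ^ m) (Polynomial.X ^ q) := by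
    rw [map_pow, map_pow, map_sub, Polynomial.expand_X, Polynomial.expand_C, h, h2]
  have he' := congrArg (Polynomial.coeff · (q - 1))
    (Polynomial.expand_injective (pow_pos hp.pos m) he)
  simp only [sub_eq_add_neg, ← map_neg, Polynomial.coeff_X_add_C_pow, Polynomial.coeff_X_pow] at he'
  rw [if_neg (by omega), show q - (q - 1) = 1 by omega, pow_one, ← Nat.choose_symm (Nat.sub_le q 1),
    show q - (q - 1) = 1 by omega, Nat.choose_one_right] at he'
  have hqu : IsUnit (q : R) :=
    (CharP.isUnit_natCast_iff hp).mpr hpq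
  have := hqu.mul_left_eq_zero.mp (show (-b) * (q : R) = 0 from he')
  exact neg_eq_zero.mp this

end Groth.Agent.S15835
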