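import Groth.Statements.S15838
import Mathlib.LinearAlgebra.JordanChevalley
import Mathlib.LinearAlgebra.TensorProduct.Tower
import Mathlib.RingTheory.Adjoin.Basic

set_option autoImplicit false
universe u
open scoped TensorProduct
open SprIso

namespace Groth.Agent.S15838

/-- General linear group case: this is the case G = GL(V), to which the general case reduces along a
closed embedding. Let k be a perfect field and V a finite-dimensional k-vector space. If an
invertible endomorphism g of V has multiplicative Jordan decomposition g = t u (t semisimple, u
unipotent, t and u commuting), then the scheme-theoretic centralizer of g in GL(V) is the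
centralizer of u inside the centralizer of t: for every commutative k-algebra R, an R-linear
endomorphism h of R ⊗ V commutes with g_R if and only if it commutes with both t_R and u_R.
Likewise, if an endomorphism X of V has additive Jordan decomposition X = Y + N (Y semisimple, N
nilpotent, commuting), then h commutes with X_R if and only if it commutes with both Y_R and N_R. -/
theorem result (k : Type u) [Field k] [PerfectField k]
    (V : Type u) [AddCommGroup V] [Module k V] [FiniteDimensional k V]
    (R : Type u) [CommRing R] [Algebra k R] (h : Module.End R (R ⊗[k] V)) :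
    (∀ (g t u : Module.End k V), IsUnit g → t.IsSemisimple → IsNilpotent (u - 1) → Commute t u → g = t * u →
      (Commute h (g.baseChange R) ↔ Commute h (t.baseChange R) ∧ Commute h (u.baseChange R))) ∧
    (∀ (X Y N : Module.End k V), Y.IsSemisimple → IsNilpotent N → Commute Y N → X = Y + N →
      (Commute h (X.baseChange R) ↔ Commute h (Y.baseChange R) ∧ Commute h (N.baseChange R))) := by
  let B := Module.End.baseChangeHom k R V
  have hadj : ∀ (X a : Module.End k V), a ∈ Algebra.adjoin k {X} → Commute h (X.baseChange R) → Commute h (a.baseChange R) := by
    intro X a ha hc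
    show Commute h (B a)
    induction ha using Algebra.adjoin_induction with
    | mem x hx => rw [Set.mem_singleton_iff.1 hx]; exact hc
    | algebraMap r => rw [AlgHom.commutes]; exact (Algebra.commute_algebraMap_right r h)
    | add x y _ _ hx hy => rw [map_add]; exact hx.add_right hy
    | mul x y _ _ hx hy => rw [map_mul]; exact hx.mul_right hy
  have uni : ∀ (X Y N : Module.End k V), Y.IsSemisimple → IsNilpotent N → Commute Y N → X = Y + N →
      Y ∈ Algebra.adjoin k {X} := by
    intro X Y N hY hN hYN hX
    obtain ⟨n, hn, s, hs, hnil, hss, e⟩ := X.exists_isNilpotent_isSemisimple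
    have hc : Commute n s := (Algebra.commute_of_mem_adjoin_singleton_of_commute hs
      (Algebra.commute_of_mem_adjoin_singleton_of_commute hn (Commute.refl X)).symm)
    obtain ⟨-, h2⟩ := Module.End.isNilpotent_isSemisimple_unique hnil hss hN hY hc hYN.symm
      (e.symm.trans (hX.trans (add_comm Y N)))
    rw [← h2]; exact hs
  refine ⟨fun g t u hg ht hu htu hgtu => ?_, fun X Y N hY hN hYN hX => ?_⟩
  · have hgt : g = t + t * (u - 1) := by rw [hgtu, mul_sub, mul_one]; abel
    have hcomm : Commute t (u - 1) := htu.sub_right (Commute.one_right t)
    have hmem := uni g t (t * (u - 1)) ht (hcomm.isNilpotent_mul_left hu)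
      ((Commute.refl t).mul_right hcomm) hgt
    have hu' : IsUnit u := by simpa using hu.isUnit_add_one
    have ht' : IsUnit t := (htu.isUnit_mul_iff.1 (hgtu ▸ hg)).1
    refine ⟨fun hc => ⟨hadj g t hmem hc, ?_⟩, fun ⟨h1, h2⟩ => ?_⟩
    · obtain ⟨w, rfl⟩ := ht'
      have hw : Commute h (B (↑w⁻¹ : Module.End k V)) :=
        Commute.units_inv_right (u := Units.map (B : Module.End k V →* Module.End R (R ⊗[k] V)) w) (hadj g _ hmem hc)
      have : u = (↑w⁻¹ : Module.End k V) * g := by rw [hgtu, Units.inv_mul_cancel_left]
      show Commute h (B u)
      rw [this, map_mul]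
      exact hw.mul_right hc
    · show Commute h (B g)
      rw [hgtu, map_mul]
      exact h1.mul_right h2
  · refine ⟨fun hc => ⟨hadj X Y (uni X Y N hY hN hYN hX) hc, ?_⟩, fun ⟨h1, h2⟩ => ?_⟩
    · show Commute h (B N)
      rw [show N = X - Y by rw [hX]; abel, map_sub]
      exact Commute.sub_right (a := h) (b := B X) (c := B Y) hc (hadj X Y (uni X Y N hY hN hYN hX) hc)
    · show Commute h (B X)
      rw [hX, map_add]
      exact h1.add_right h2

end Groth.Agent.S15838
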