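import Groth.Statements.S15839
import Mathlib.AlgebraicGeometry.Morphisms.ClosedImmersion
import Groth.Agent.Mor.Cancel
import Mathlib.AlgebraicGeometry.Morphisms.FinitePresentation
import Mathlib.AlgebraicGeometry.Morphisms.Affine
import Mathlib.CategoryTheory.Monoidal.Cartesian.Over

set_option autoImplicit false
universe u
open CategoryTheory MonoidalCategory CartesianMonoidalCategory MonObj GrpObj AlgebraicGeometry
open SprIso

namespace Groth.Agent.S15839

/-- Let S be a scheme, G an S-group scheme which is affine and of finite presentation over S, and g a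
section of G over S. Then the centralizer of g — the subfunctor of G whose points with values in an
S-scheme T are the points x of G with x g_T = g_T x — is represented by a closed subscheme of G
whose inclusion is of finite presentation. -/
theorem result (S : Scheme.{u}) (G : Over S) [GrpObj G]
    [IsAffineHom G.hom] [LocallyOfFinitePresentation G.hom] (g : 𝟙_ (Over S) ⟶ G) :
    ∃ (Z : Over S) (j : Z ⟶ G), IsClosedImmersion j.left ∧ LocallyOfFinitePresentation j.left ∧
      ∀ (T : Over S) (x : T ⟶ G), (∃ z : T ⟶ Z, z ≫ j = x) ↔
        x * (toUnit T ≫ g) = (toUnit T ≫ g) * x := by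
  let a : G ⟶ G := 𝟙 G * (toUnit G ≫ g)
  let b : G ⟶ G := (toUnit G ≫ g) * 𝟙 G
  let d := Limits.pullback.diagonal G.hom
  let l : G.left ⟶ Limits.pullback G.hom G.hom :=
    Limits.pullback.lift a.left b.left (by rw [Over.w a, Over.w b])
  let Z : Over S := Over.mk (Limits.pullback.fst l d ≫ G.hom)
  let j : Z ⟶ G := Over.homMk (Limits.pullback.fst l d)
  have : IsClosedImmersion d := inferInstance
  have : LocallyOfFinitePresentation d :=
    Groth.Agent.Mor.Cancel.locallyOfFinitePresentation_diagonal G.hom
  refine ⟨Z, j, inferInstanceAs (IsClosedImmersion (Limits.pullback.fst l d)),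
    inferInstanceAs (LocallyOfFinitePresentation (Limits.pullback.fst l d)), fun T x => ?_⟩
  have ha : x * (toUnit T ≫ g) = x ≫ a := by simp [a, MonObj.comp_mul]
  have hb : (toUnit T ≫ g) * x = x ≫ b := by simp [b, MonObj.comp_mul]
  rw [ha, hb]
  have hj : j ≫ a = j ≫ b := by
    ext
    have h1 := congrArg (· ≫ Limits.pullback.fst G.hom G.hom) (Limits.pullback.condition (f := l) (g := d))
    have h2 := congrArg (· ≫ Limits.pullback.snd G.hom G.hom) (Limits.pullback.condition (f := l) (g := d))
    simp only [l, d, Category.assoc, Limits.pullback.lift_fst, Limits.pullback.lift_snd,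
      Limits.pullback.diagonal_fst, Limits.pullback.diagonal_snd] at h1 h2
    exact h1.trans h2.symm
  constructor
  · rintro ⟨z, rfl⟩
    rw [Category.assoc, Category.assoc, hj]
  · intro h
    have h' : x.left ≫ a.left = x.left ≫ b.left := by
      rw [← Over.comp_left, ← Over.comp_left, h]
    refine ⟨Over.homMk (Limits.pullback.lift x.left (x.left ≫ a.left) ?_) ?_, ?_⟩
    · apply Limits.pullback.hom_ext
      · exact ((Category.assoc _ _ _).trans ((congrArg (x.left ≫ ·) (Limits.pullback.lift_fst _ _ _)).trans
          ((Category.comp_id _).symm.trans (congrArg ((x.left ≫ a.left) ≫ ·)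
            (Limits.pullback.diagonal_fst G.hom)).symm))).trans (Category.assoc _ _ _).symm
      · exact ((Category.assoc _ _ _).trans ((congrArg (x.left ≫ ·) (Limits.pullback.lift_snd _ _ _)).trans
          (h'.symm.trans ((Category.comp_id _).symm.trans (congrArg ((x.left ≫ a.left) ≫ ·)
            (Limits.pullback.diagonal_snd G.hom)).symm)))).trans (Category.assoc _ _ _).symm
    · exact (Limits.pullback.lift_fst_assoc _ _ _ _).trans (Over.w x)
    · ext
      exact Limits.pullback.lift_fst _ _ _

end Groth.Agent.S15839
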