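import Groth.Statements.S15840
import Mathlib.Data.Nat.Choose.Lucas
import Mathlib.NumberTheory.Padics.PadicVal.Basic
import Mathlib.Algebra.CharP.Basic

set_option autoImplicit false
universe u
open SprIso

namespace Groth.Agent.S15840

/-- For G = SL_n (n = r + 1) over a field of characteristic p > 0, write n = m p^e with m prime to p, so
that the identity component of the centre of G is μ_{p^e} embedded diagonally. The character of the
i-th exterior power of the standard representation takes the value C(n, i) α^i at a point α of
μ_{p^e}, and this is constant: for every commutative ring R of characteristic p and every α in R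
with α^(p^e) = 1 one has C(n, i) α^i = C(n, i) in R, for all i. -/
theorem result (p : ℕ) [Fact p.Prime] (R : Type u) [CommRing R]
    [CharP R p] (n : ℕ) (hn : 0 < n) (α : R) (hα : α ^ (p ^ padicValNat p n) = 1) (i : ℕ) :
    (n.choose i : R) * α ^ i = (n.choose i : R) := by
  have hp := (Fact.out : p.Prime)
  by_cases hd : p ∣ n.choose i
  · rw [(CharP.cast_eq_zero_iff R p _).2 hd, zero_mul]
  · suffices h : p ^ padicValNat p n ∣ i by
      obtain ⟨c, rfl⟩ := h
      rw [pow_mul, hα, one_pow, mul_one]
    rcases Nat.eq_zero_or_pos i with rfl | hi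
    · simp
    have hin : i ≤ n := by
      by_contra h
      exact hd (by rw [Nat.choose_eq_zero_of_lt (by omega)]; simp)
    obtain ⟨j, rfl⟩ : ∃ j, i = j + 1 := ⟨i - 1, by omega⟩
    obtain ⟨m, rfl⟩ : ∃ m, n = m + 1 := ⟨n - 1, by omega⟩
    have hdvd : p ^ padicValNat p (m + 1) ∣ (m + 1).choose (j + 1) * (j + 1) := by
      rw [← Nat.add_one_mul_choose_eq]
      exact dvd_mul_of_dvd_left pow_padicValNat_dvd _
    exact (Nat.Coprime.pow_left _ (hp.coprime_iff_not_dvd.2 hd)).dvd_of_dvd_mul_left hdvd

end Groth.Agent.S15840
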