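import Groth.Statements.S15841
import Mathlib.LinearAlgebra.RootSystem.Base
import Mathlib.LinearAlgebra.TensorProduct.Tower

set_option autoImplicit false
universe u
open scoped TensorProduct
open SprIso

namespace Groth.Agent.S15841

section
variable {ι M N : Type u} [AddCommGroup M] [AddCommGroup N] (k : Type u) [Field k]

/-- scalar extension of a functional -/
noncomputable def ext' (f : N →ₗ[ℤ] ℤ) : k ⊗[ℤ] N →ₗ[k] k :=
  (TensorProduct.AlgebraTensorModule.rid ℤ k k).toLinearMap ∘ₗ f.baseChange k

variable (P : RootPairing ι ℤ M N)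

lemma coreflection_baseChange (i : ι) (x : k ⊗[ℤ] N) :
    ((P.coreflection i : N ≃ₗ[ℤ] N) : N →ₗ[ℤ] N).baseChange k x =
      x - ext' k (P.root' i) x • ((1 : k) ⊗ₜ[ℤ] P.coroot i) := by
  induction x using TensorProduct.induction_on with
  | zero => simp
  | tmul a n =>
    simp only [LinearMap.baseChange_tmul, LinearEquiv.coe_coe, RootPairing.coreflection_apply,
      TensorProduct.tmul_sub, ext', LinearMap.coe_comp, Function.comp_apply,
      TensorProduct.AlgebraTensorModule.rid_tmul, TensorProduct.smul_tmul', smul_eq_mul, mul_one]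
    congr 1
    rw [← TensorProduct.smul_tmul, zsmul_eq_mul]
  | add x y hx hy => simp only [map_add, hx, hy, add_smul]; abel

/-- composite of coreflections along a list -/
noncomputable def comp (l : List ι) : N →ₗ[ℤ] N :=
  (l.map (fun i => ((P.coreflection i : N ≃ₗ[ℤ] N) : N →ₗ[ℤ] N))).prod

lemma comp_cons (i : ι) (l : List ι) (x : k ⊗[ℤ] N) :
    (comp P (i :: l)).baseChange k x =
      ((P.coreflection i : N ≃ₗ[ℤ] N) : N →ₗ[ℤ] N).baseChange k ((comp P l).baseChange k x) := by
  simp only [comp, List.map_cons, List.prod_cons, Module.End.mul_eq_comp, LinearMap.baseChange_comp,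
    LinearMap.coe_comp, Function.comp_apply]

lemma ext_comp (φ : N →ₗ[ℤ] ℤ) (l : List ι) (hφ : ∀ j ∈ l, φ (P.coroot j) = 0) (x : k ⊗[ℤ] N) :
    ext' k φ ((comp P l).baseChange k x) = ext' k φ x := by
  induction l with
  | nil => simp [comp, Module.End.one_eq_id]
  | cons i l ih =>
    rw [comp_cons, coreflection_baseChange, map_sub, map_smul,
      ih fun j hj => hφ j (List.mem_cons_of_mem i hj)]
    simp [ext', hφ i (List.mem_cons_self ..)]

lemma roots_vanish (l : List ι) (hl : l.Nodup)
    (hω : ∀ i ∈ l, ∃ φ : N →ₗ[ℤ] ℤ, φ (P.coroot i) = 1 ∧ ∀ j ∈ l, j ≠ i → φ (P.coroot j) = 0)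
    (H : k ⊗[ℤ] N) (hH : (comp P l).baseChange k H = H) :
    ∀ i ∈ l, ext' k (P.root' i) H = 0 := by
  induction l with
  | nil => simp
  | cons i l ih =>
    obtain ⟨hil, hl⟩ := List.nodup_cons.1 hl
    rw [comp_cons, coreflection_baseChange] at hH
    obtain ⟨φ, hφ1, hφ⟩ := hω i (List.mem_cons_self ..)
    have h0 : ext' k (P.root' i) ((comp P l).baseChange k H) = 0 := by
      have h := congrArg (ext' k φ) hH
      rw [map_sub, map_smul, ext_comp k P φ l fun j hj =>
        hφ j (List.mem_cons_of_mem i hj) fun e => hil (e ▸ hj)] at h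
      simpa [ext', hφ1] using h
    rw [h0, zero_smul, sub_zero] at hH
    intro j hj
    rcases List.mem_cons.1 hj with rfl | hj
    · rwa [hH] at h0
    · refine ih hl (fun m hm => ?_) hH j hj
      obtain ⟨ψ, h1, h2⟩ := hω m (List.mem_cons_of_mem i hm)
      exact ⟨ψ, h1, fun p hp => h2 p (List.mem_cons_of_mem i hp)⟩

end

/-- For a connected reductive group G with maximal torus T whose derived group is simply connected, and
a Coxeter element w (the product of the simple reflections, each once, in any order), an element of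
Lie T = k ⊗ X_*(T) fixed by Ad(w) is killed by the differential of every simple root, i.e. lies in
the centre of Lie G. In root-datum form: let P be a root pairing over ℤ with character lattice M and
cocharacter lattice N, b a base, and suppose each simple coroot has a dual character ω_i in M with
⟨ω_i, α_i^∨⟩ = 1 and ⟨ω_i, α_j^∨⟩ = 0 for every other simple j (the simply connected derived group
hypothesis). If l lists the simple roots without repetition, w^∨ is the composite of the
coreflections along l acting on N, k is a field and H in k ⊗ N satisfies w^∨_k H = H, then (α_i)_k H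
= 0 for every simple root α_i, where (α_i)_k is the base change to k of the functional ⟨α_i, −⟩ on
N. (Stated for an arbitrary field k; the published setting is an algebraically closed field, and the
argument does not depend on k.) -/
theorem result {ι M N : Type u} [AddCommGroup M] [AddCommGroup N]
    (P : RootPairing ι ℤ M N) (b : P.Base)
    (hsc : ∀ i ∈ b.support, ∃ ω : M, P.coroot' i ω = 1 ∧ ∀ j ∈ b.support, j ≠ i → P.coroot' j ω = 0)
    (l : List ι) (hl : l.Nodup) (hlb : ∀ i : ι, i ∈ l ↔ i ∈ b.support)
    (k : Type u) [Field k] (H : k ⊗[ℤ] N)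
    (hH : ((l.map (fun i => ((P.coreflection i : N ≃ₗ[ℤ] N) : N →ₗ[ℤ] N))).prod).baseChange k H = H) :
    ∀ i ∈ b.support, (P.root' i).baseChange k H = 0 := by
  intro i hi
  have h := roots_vanish k P l hl (fun i hi => by
    obtain ⟨ω, h1, h2⟩ := hsc i ((hlb i).1 hi)
    exact ⟨P.toLinearMap ω, h1, fun j hj hne => h2 j ((hlb j).1 hj) hne⟩) H hH i ((hlb i).2 hi)
  exact (TensorProduct.AlgebraTensorModule.rid ℤ k k).map_eq_zero_iff.1 h

end Groth.Agent.S15841
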