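import Groth.Statements.S15845
import Mathlib

set_option autoImplicit false
universe u
open SprIso

namespace Groth.Agent.S15845

/-- General linear group case: this is the case G = GL_n with its upper-triangular Borel subgroup B
(derived group SL_n simply connected, all primes good, so the hypotheses on the characteristic
hold), together with the companion statement for a regular nilpotent element of Lie B. Let k be a
field and u an n × n upper-triangular matrix over k whose diagonal entries are all equal and whose
superdiagonal entries u_{i,i+1} are all non-zero — for diagonal 1 this is a regular unipotent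
element of B(k), for diagonal 0 a regular nilpotent element of Lie B. Then the centralizer of u in
GL_n is contained in B and is the product of the centre with the centralizer in the unipotent
radical: for every commutative k-algebra R and every invertible x ∈ M_n(R) commuting with u_R, x is
upper triangular and its diagonal entries are all equal. (The smoothness of the centralizer in the
unipotent radical, also part of the published statement, is not stated here.) -/
theorem result (k : Type u) [Field k] (n : ℕ)
    (u : Matrix (Fin n) (Fin n) k) (htri : ∀ i j : Fin n, j < i → u i j = 0) (hdiag : ∀ i j : Fin n, u i i = u j j)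
    (hreg : ∀ (i j : Fin n), j.val = i.val + 1 → u i j ≠ 0)
    (R : Type u) [CommRing R] [Algebra k R] (x : Matrix (Fin n) (Fin n) R) (hx : IsUnit x)
    (hxu : x * u.map (algebraMap k R) = u.map (algebraMap k R) * x) :
    (∀ i j : Fin n, j < i → x i j = 0) ∧ (∀ i j : Fin n, x i i = x j j) := by
  classical
  let N : Matrix (Fin n) (Fin n) R := Matrix.of fun i j => if i = j then 0 else algebraMap k R (u i j)
  have hN0 : ∀ i j : Fin n, j ≤ i → N i j = 0 := fun i j h => by
    rcases eq_or_lt_of_le h with rfl | h
    · simp [N]
    · simp [N, h.ne', htri i j h]
  have hsup : ∀ i j : Fin n, j.val = i.val + 1 → IsUnit (N i j) := fun i j h => by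
    have : i ≠ j := fun e => by rw [e] at h; omega
    simp only [N, Matrix.of_apply, if_neg this]
    exact (isUnit_iff_ne_zero.2 (hreg i j h)).map _
  have hcomm : ∀ i j, ∑ l, x i l * N l j = ∑ l, N i l * x l j := fun i j => by
    have h := congrArg (fun M : Matrix (Fin n) (Fin n) R => M i j) hxu
    simp only [Matrix.mul_apply, Matrix.map_apply] at h
    obtain ⟨c, hc⟩ : ∃ c, algebraMap k R (u i i) = c := ⟨_, rfl⟩
    have e : ∀ l m, algebraMap k R (u l m) = N l m + if l = m then c else 0 := fun l m => by
      by_cases hlm : l = m
      · subst hlm; simp [N, hdiag l i, hc]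
      · simp [N, hlm]
    simp only [e, mul_add, add_mul, Finset.sum_add_distrib, mul_ite, ite_mul, mul_zero, zero_mul,
      Finset.sum_ite_eq, Finset.sum_ite_eq', Finset.mem_univ, if_true] at h
    rw [mul_comm (x i j)] at h
    exact add_right_cancel h
  have htri' : ∀ (c : ℕ) (i j : Fin n), j.val = c → j < i → x i j = 0 := by
    intro c
    induction c using Nat.strong_induction_on with
    | _ c ih =>
      intro i j hc hji
      have hz : ∀ a : Fin n, j ≤ a → ∑ l, N a l * x l j = 0 := fun a ha => by
        rw [← hcomm]
        refine Finset.sum_eq_zero fun l _ => ?_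
        rcases le_or_gt j l with h | h
        · rw [hN0 l j h, mul_zero]
        · rw [ih l.val (hc ▸ h) a l rfl (lt_of_lt_of_le h ha), zero_mul]
      have : ∀ (d : ℕ) (a : Fin n), n - a.val = d → j < a → x a j = 0 := by
        intro d
        induction d using Nat.strong_induction_on with
        | _ d ihd =>
          intro a hd hja
          have hja' : j.val < a.val := hja
          let b : Fin n := ⟨a.val - 1, by omega⟩
          have hb := hz b (show j.val ≤ a.val - 1 by omega)
          rw [Finset.sum_eq_single a] at hb
          · exact (hsup b a (show a.val = a.val - 1 + 1 by omega)).mul_right_eq_zero.1 hb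
          · intro l _ hla
            rcases le_or_gt l b with h | h
            · rw [hN0 b l h, zero_mul]
            · have h' : a.val - 1 < l.val := h
              have hla' : l.val ≠ a.val := fun e => hla (Fin.ext e)
              rw [ihd (n - l.val) (by omega) l rfl (show j.val < l.val by omega), mul_zero]
          · intro h; exact absurd (Finset.mem_univ _) h
      exact this _ i rfl hji
  have hlow : ∀ i j : Fin n, j < i → x i j = 0 := fun i j h => htri' _ i j rfl h
  refine ⟨hlow, ?_⟩
  have hstep : ∀ (c : ℕ) (hc : c + 1 < n), x ⟨c, by omega⟩ ⟨c, by omega⟩ = x ⟨c + 1, hc⟩ ⟨c + 1, hc⟩ := by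
    intro c hc
    let i : Fin n := ⟨c, by omega⟩
    let j : Fin n := ⟨c + 1, hc⟩
    have h := hcomm i j
    rw [Finset.sum_eq_single i, Finset.sum_eq_single j] at h
    · rw [mul_comm] at h
      exact (hsup i j rfl).mul_left_cancel h
    · intro l _ hl
      rcases le_or_gt l i with h' | h'
      · rw [hN0 i l h', zero_mul]
      · have : c < l.val := h'
        have hl' : l.val ≠ c + 1 := fun e => hl (Fin.ext e)
        rw [hlow l j (show c + 1 < l.val by omega), mul_zero]
    · intro h'; exact absurd (Finset.mem_univ _) h'
    · intro l _ hl
      rcases lt_or_gt_of_ne hl with h' | h'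
      · rw [hlow i l h', zero_mul]
      · rw [hN0 l j (show c + 1 ≤ l.val from h'), mul_zero]
    · intro h'; exact absurd (Finset.mem_univ _) h'
  have h0 : ∀ (c : ℕ) (hc : c < n), x ⟨c, hc⟩ ⟨c, hc⟩ = x ⟨0, by omega⟩ ⟨0, by omega⟩ := by
    intro c
    induction c with
    | zero => intro hc; rfl
    | succ c ih => intro hc; rw [← hstep c hc]; exact ih (by omega)
  exact fun i j => (h0 i.val i.2).trans (h0 j.val j.2).symm

end Groth.Agent.S15845
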