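import Groth.Statements.S15906
import Groth.Agent.Misc9.ConicCount
import Mathlib.Data.Fin.Tuple.Sort
-- import your own Groth.Agent.* helpers here

set_option autoImplicit false
open Surf

namespace Groth.Agent.S15906

def lst : List (W4c3severiratdp.DP 8) :=
  [![1, 1, 0, 0, 0, 0, 0, 0, 0],
        ![2, 1, 1, 1, 1, 0, 0, 0, 0],
        ![3, 2, 1, 1, 1, 1, 1, 0, 0],
        ![4, 2, 2, 2, 1, 1, 1, 1, 0],
        ![4, 3, 1, 1, 1, 1, 1, 1, 1],
        ![5, 2, 2, 2, 2, 2, 2, 1, 0],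
        ![5, 3, 2, 2, 2, 1, 1, 1, 1],
        ![6, 3, 3, 2, 2, 2, 2, 1, 1],
        ![7, 3, 3, 3, 3, 2, 2, 2, 1],
        ![7, 4, 3, 2, 2, 2, 2, 2, 2],
        ![8, 4, 3, 3, 3, 3, 2, 2, 2],
        ![8, 3, 3, 3, 3, 3, 3, 3, 1],
        ![9, 4, 4, 3, 3, 3, 3, 3, 2],
        ![10, 4, 4, 4, 4, 3, 3, 3, 3],
        ![11, 4, 4, 4, 4, 4, 4, 4, 3]]

open W4c3severiratdp in
/-- Work in the lattice of vectors (a; b_1, …, b_δ), standing for divisor classes a ℓ − Σ b_i e_i on the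
blow-up of the projective plane at δ points written in a standard basis, with intersection form a a'
− Σ b_i b_i' and canonical class K = (−3; −1, …, −1); a conic class is a class Q with Q·Q = 0 and
K·Q = −2, an exceptional class (the class of a (−1)-curve) is a class E with E·E = −1 and K·E = −1,
and the Weyl group W_δ is the group of additive automorphisms of the lattice preserving the form and
fixing K. For δ = 8, a class (a; b_1, …, b_8) is a conic class if and only if, up to a permutation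
of b_1, …, b_8, it is one of the fifteen vectors (1; 1, 0, 0, 0, 0, 0, 0, 0), (2; 1, 1, 1, 1, 0, 0,
0, 0), (3; 2, 1, 1, 1, 1, 1, 0, 0), (4; 2, 2, 2, 1, 1, 1, 1, 0), (4; 3, 1, 1, 1, 1, 1, 1, 1), (5; 2,
2, 2, 2, 2, 2, 1, 0), (5; 3, 2, 2, 2, 1, 1, 1, 1), (6; 3, 3, 2, 2, 2, 2, 1, 1), (7; 3, 3, 3, 3, 2,
2, 2, 1), (7; 4, 3, 2, 2, 2, 2, 2, 2), (8; 4, 3, 3, 3, 3, 2, 2, 2), (8; 3, 3, 3, 3, 3, 3, 3, 1), (9;
4, 4, 3, 3, 3, 3, 3, 2), (10; 4, 4, 4, 4, 3, 3, 3, 3), (11; 4, 4, 4, 4, 4, 4, 4, 3). (One line of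
the published table is illegible in the available copy; the fifteen vectors here are the complete
solution set of the two defining equations a² = Σ b_i², 3a − Σ b_i = 2.) -/
theorem result (v : DP 8) :
    IsConic v ↔
      ∃ t ∈ ({![1, 1, 0, 0, 0, 0, 0, 0, 0],
        ![2, 1, 1, 1, 1, 0, 0, 0, 0],
        ![3, 2, 1, 1, 1, 1, 1, 0, 0],
        ![4, 2, 2, 2, 1, 1, 1, 1, 0],
        ![4, 3, 1, 1, 1, 1, 1, 1, 1],
        ![5, 2, 2, 2, 2, 2, 2, 1, 0],
        ![5, 3, 2, 2, 2, 1, 1, 1, 1],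
        ![6, 3, 3, 2, 2, 2, 2, 1, 1],
        ![7, 3, 3, 3, 3, 2, 2, 2, 1],
        ![7, 4, 3, 2, 2, 2, 2, 2, 2],
        ![8, 4, 3, 3, 3, 3, 2, 2, 2],
        ![8, 3, 3, 3, 3, 3, 3, 3, 1],
        ![9, 4, 4, 3, 3, 3, 3, 3, 2],
        ![10, 4, 4, 4, 4, 3, 3, 3, 3],
        ![11, 4, 4, 4, 4, 4, 4, 4, 3]} : Set (DP 8)),
        ∃ σ : Equiv.Perm (Fin 8), v 0 = t 0 ∧ ∀ i : Fin 8, v (σ i).succ = t i.succ := by
  constructor
  · intro hv
    let b : Fin 8 → ℤ := fun i => v i.succ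
    let σ : Equiv.Perm (Fin 8) := Tuple.sort (fun i => - b i)
    have hm : Monotone ((fun i => - b i) ∘ σ) := Tuple.monotone_sort _
    let w : DP 8 := Fin.cons (v 0) (fun i => v (σ i).succ)
    have hw : IsConic w := by
      rw [Groth.Agent.Misc9.ConicCount.conic_iff] at hv ⊢
      simp only [w, Fin.cons_succ, Fin.cons_zero]
      rw [Equiv.sum_comp σ (fun i => v i.succ), Equiv.sum_comp σ (fun i => v i.succ ^ 2)]
      exact hv
    have hA : Antitone (fun i : Fin 8 => w i.succ) := by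
      intro i j hij
      simp only [w, Fin.cons_succ]
      exact neg_le_neg_iff.1 (hm hij)
    have hmem := Groth.Agent.Misc9.ConicCount.mem_table true (le_refl 8) w hw (fun _ => hA)
    have key : ∀ l ∈ Groth.Agent.Misc9.ConicCount.table true 8, l ∈ Groth.Agent.S15906.lst.map List.ofFn := by
      decide +kernel
    obtain ⟨t, ht, htw⟩ := List.mem_map.1 (key _ hmem)
    have htw' : t = w := List.ofFn_injective htw
    refine ⟨t, ?_, σ, by simp [htw', w], fun i => by simp [htw', w]⟩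
    simpa [Groth.Agent.S15906.lst] using ht
  · rintro ⟨t, ht, σ, h0, hs⟩
    have htc : IsConic t := by
      simp only [Set.mem_insert_iff, Set.mem_singleton_iff] at ht
      rcases ht with rfl | rfl | rfl | rfl | rfl | rfl | rfl | rfl | rfl | rfl | rfl | rfl | rfl | rfl | rfl <;>
        constructor <;> decide
    rw [Groth.Agent.Misc9.ConicCount.conic_iff] at htc ⊢
    rw [← Equiv.sum_comp σ (fun i => v i.succ), ← Equiv.sum_comp σ (fun i => v i.succ ^ 2)]
    simp only [hs, h0]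
    exact htc

end Groth.Agent.S15906
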