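import Groth.Statements.S15987
import Mathlib.Tactic.Ring
-- import your own Groth.Agent.* helpers here

set_option autoImplicit false
open TrivSqZeroExt
universe u v
open Deform

namespace Groth.Agent.S15987

open TrivSqZeroExt in
/-- Let k be a field, A a commutative k-algebra and q_i : A → k (i ∈ ι) k-algebra maps (marked k-points
of Spec A). The k-algebra automorphisms φ of the ring of dual numbers A[ε] that fix ε (so are
k[ε]-linear), are the identity modulo ε, and satisfy q_i((φ x)_ε) = q_i(x_ε) for all i and x
(compatibility with the trivial lifts A[ε] → k[ε] of the marked points) are in bijection with the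
k-derivations D : A → A such that q_i ∘ D = 0 for every i, the bijection sending φ to a ↦ (φ(a))_ε.
(The source identifies the right-hand side with the global vector fields vanishing at the marked
points; the condition the computation yields is q_i ∘ D = 0, which is the same for Spec A smooth
over k but is weaker in general, e.g. for A = k[x]/(x^2) with 2 invertible in k.) -/
theorem result
    (k : Type u) [Field k] (A : Type u) [CommRing A] [Algebra k A] {ι : Type v} (q : ι → (A →ₐ[k] k)) :
    ∃ e : {φ : DualNumber A ≃ₐ[k] DualNumber A //
            φ DualNumber.eps = DualNumber.eps ∧ (∀ x, (φ x).fst = x.fst) ∧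
              ∀ i x, q i (φ x).snd = q i x.snd} ≃
          {D : Derivation k A A // ∀ i a, q i (D a) = 0},
      ∀ φ (a : A), (e φ).1 a = (φ.1 (inl a : DualNumber A)).snd := by
  have hinr : ∀ (φ : DualNumber A ≃ₐ[k] DualNumber A), φ DualNumber.eps = DualNumber.eps → (∀ x, (φ x).fst = x.fst) →
      ∀ b : A, φ (inr b) = inr b := by
    intro φ he hf b
    have e : (inr b : DualNumber A) = DualNumber.eps * inl b := by ext <;> simp
    rw [e, map_mul, he]
    ext <;> simp [hf]
  have hform : ∀ (φ : DualNumber A ≃ₐ[k] DualNumber A), φ DualNumber.eps = DualNumber.eps → (∀ x, (φ x).fst = x.fst) →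
      ∀ x : DualNumber A, (φ x).snd = x.snd + (φ (inl x.fst)).snd := by
    intro φ he hf x
    conv_lhs => rw [← inl_fst_add_inr_snd_eq x, map_add, hinr φ he hf]
    simp [add_comm]
  let mk : Derivation k A A → (DualNumber A ≃ₐ[k] DualNumber A) := fun D =>
    AlgEquiv.ofBijective
      { toFun := fun x => inl x.fst + inr (x.snd + D x.fst)
        map_one' := by ext <;> simp
        map_mul' := fun x y => by ext <;> simp [D.leibniz] <;> ring
        map_zero' := by ext <;> simp
        map_add' := fun x y => by ext <;> simp <;> ring
        commutes' := fun c => by ext <;> simp [TrivSqZeroExt.algebraMap_eq_inl'] }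
      ⟨fun x y h => by
        have h1 := congrArg TrivSqZeroExt.fst h
        have h2 := congrArg TrivSqZeroExt.snd h
        simp at h1 h2
        exact TrivSqZeroExt.ext h1 (by rw [h1] at h2; simpa using h2),
      fun y => ⟨inl y.fst + inr (y.snd - D y.fst), by ext <;> simp⟩⟩
  refine ⟨
    { toFun := fun φ => ⟨Derivation.mk'
        { toFun := fun a => (φ.1 (inl a : DualNumber A)).snd
          map_add' := fun a b => by simp [inl_add]
          map_smul' := fun c a => by
            rw [show (inl (c • a) : DualNumber A) = c • inl a from inl_smul A c a, map_smul]; rfl }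
        (fun a b => by
          show (φ.1 (inl (a * b) : DualNumber A)).snd = a • (φ.1 (inl b : DualNumber A)).snd + b • (φ.1 (inl a : DualNumber A)).snd
          rw [inl_mul, map_mul, snd_mul, φ.2.2.1, φ.2.2.1]
          simp [mul_comm]), fun i a => by
          have := φ.2.2.2 i (inl a)
          simpa using this⟩
      invFun := fun D => ⟨mk D.1, by ext <;> simp [mk], fun x => by simp [mk], fun i x => by simp [mk, D.2 i]⟩
      left_inv := ?_
      right_inv := ?_ }, fun φ a => rfl⟩
  · intro φ
    apply Subtype.ext
    apply AlgEquiv.ext
    intro x
    ext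
    · simp [mk, φ.2.2.1]
    · simp [mk, hform φ.1 φ.2.1 φ.2.2.1 x]
  · intro D
    apply Subtype.ext
    ext a
    simp [mk]

end Groth.Agent.S15987
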