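import Groth.Statements.S16016
import Mathlib.Tactic.LinearCombination
import Mathlib.Tactic.FinCases
import Mathlib.Algebra.BigOperators.Fin
-- import your own Groth.Agent.* helpers here

set_option autoImplicit false
universe u
open W4c3ghconstell

namespace Groth.Agent.S16016

/-- Let k be a field with 2 ≠ 0, index k⁶ by two copies of {0,1,2} (basis vectors p₁, p₂, p₃ in the
first copy and p₄, p₅, p₆ in the second), let Q be the symmetric matrix with blocks ((0, 1), (1,
0)), so that the form it defines pairs pᵢ with pᵢ₊₃, and let W₀ be the span of p₁ and p₂. Then a 6 ×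
6 matrix A satisfies AᵀQ + QA = 0 (A lies in the orthogonal Lie algebra of Q) and has the image of
Aᵀ contained in W₀ if and only if A = a · (E₄₂ − E₅₁) for some scalar a, where Eᵢⱼ is the matrix
unit. (The lemma in the source concludes that the set of such A inside a certain nilpotent orbit
closure of this Lie algebra is one-dimensional; this row is the computation its proof performs,
which determines all such A in the Lie algebra. Characteristic 2 is excluded: there E₁₄ᵀ also
qualifies.) -/
theorem result (k : Type u) [Field k] (h2 : (2 : k) ≠ 0)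
    (A : Matrix (Fin 3 ⊕ Fin 3) (Fin 3 ⊕ Fin 3) k) :
    (A.transpose * Matrix.fromBlocks (0 : Matrix (Fin 3) (Fin 3) k) 1 1 0 +
        Matrix.fromBlocks (0 : Matrix (Fin 3) (Fin 3) k) 1 1 0 * A = 0 ∧
      LinearMap.range (Matrix.mulVecLin A.transpose) ≤
        Submodule.span k {Pi.single (Sum.inl 0 : Fin 3 ⊕ Fin 3) (1 : k), Pi.single (Sum.inl 1 : Fin 3 ⊕ Fin 3) (1 : k)}) ↔
    ∃ a : k, A = a • (Matrix.single (Sum.inr 0) (Sum.inl 1) (1 : k) - Matrix.single (Sum.inr 1) (Sum.inl 0) (1 : k)) := by
  constructor
  · rintro ⟨h1, hA⟩
    have hcol : ∀ i j, j ≠ Sum.inl 0 → j ≠ Sum.inl 1 → A i j = 0 := by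
      intro i j hj0 hj1
      have hm := hA ⟨Pi.single i 1, rfl⟩
      obtain ⟨a, b, e⟩ := Submodule.mem_span_pair.1 hm
      have := congrFun e j
      simpa [hj0, hj1] using this.symm
    have hs : ∀ i j, A.transpose i (Sum.swap j) + A (Sum.swap i) j = 0 := by
      intro i j
      have := congrFun (congrFun h1 i) j
      simp only [Matrix.add_apply, Matrix.mul_apply, Fintype.sum_sum_type, Matrix.zero_apply] at this
      rcases i with i | i <;> rcases j with j | j <;> simpa [Matrix.one_apply] using this
    refine ⟨A (Sum.inr 0) (Sum.inl 1), ?_⟩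
    have hrow : ∀ i j, i ≠ Sum.inr 0 → i ≠ Sum.inr 1 → A i j = 0 := by
      intro i j h0 h1'
      have := hs (Sum.swap i) j
      rw [Sum.swap_swap, Matrix.transpose_apply, hcol _ (Sum.swap i) (by rcases i with i | i <;> simp_all) (by rcases i with i | i <;> simp_all), zero_add] at this
      exact this
    have hd : ∀ i, A (Sum.swap i) i = 0 := fun i => by
      have := hs i i
      rw [Matrix.transpose_apply] at this
      exact (mul_eq_zero.1 (show (2 : k) * _ = 0 by linear_combination this)).resolve_left h2
    ext i j
    by_cases hj0 : j = Sum.inl 0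
    · subst hj0
      by_cases hi0 : i = Sum.inr 0
      · subst hi0
        have := hd (Sum.inl 0)
        simpa [Matrix.single_apply] using this
      by_cases hi1 : i = Sum.inr 1
      · subst hi1
        have := hs (Sum.inl 1) (Sum.inl 0)
        rw [Matrix.transpose_apply] at this
        simp at this
        simp [Matrix.single_apply]
        linear_combination this
      rw [hrow _ _ hi0 hi1]
      simp [Matrix.single_apply, Ne.symm hi0, Ne.symm hi1]
    by_cases hj1 : j = Sum.inl 1
    · subst hj1
      by_cases hi0 : i = Sum.inr 0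
      · subst hi0
        simp [Matrix.single_apply]
      by_cases hi1 : i = Sum.inr 1
      · subst hi1
        have := hd (Sum.inl 1)
        simpa [Matrix.single_apply] using this
      rw [hrow _ _ hi0 hi1]
      simp [Matrix.single_apply, Ne.symm hi0, Ne.symm hi1]
    rw [hcol _ _ hj0 hj1]
    simp [Matrix.single_apply, Ne.symm hj0, Ne.symm hj1]
  · rintro ⟨a, rfl⟩
    constructor
    · ext i j
      rcases i with i | i <;> rcases j with j | j <;>
        simp [Matrix.mul_apply, Fintype.sum_sum_type, Matrix.single_apply, Matrix.one_apply, Finset.sum_ite_eq, Finset.sum_ite_eq'] <;>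
        fin_cases i <;> fin_cases j <;> simp
    · rintro _ ⟨v, rfl⟩
      rw [Submodule.mem_span_pair]
      refine ⟨-(a * v (Sum.inr 1)), a * v (Sum.inr 0), ?_⟩
      ext j
      rcases j with j | j <;> fin_cases j <;>
        simp [Matrix.mulVec, dotProduct, Matrix.single_apply, Fin.sum_univ_three]

end Groth.Agent.S16016
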