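import Groth.Statements.S16017
import Mathlib

set_option autoImplicit false
universe u
open W4c3ghconstell

namespace Groth.Agent.S16017

/-- Let ι index the irreducible representations, θ : ι → ℚ a weight negative at only finitely many
indices (the finite set D₋), h h' : ι → ℕ with h' ≤ h pointwise (the isotypic dimensions of an
object and of a sub-object) and Σ_i θ_i h_i summable. For a finite set D of indices put S_D = Σ_{i ∉
D} θ_i h_i, d = #(D ∖ D₋), and θ̃_D = Σ_{i ∈ D} θ_i h'_i + (S_D / d) · Σ_{i ∈ D ∖ D₋} h'_i / h_i,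
the modified weight attached to the parameters chosen for D (for D ⊇ D₋ the first sum is the
negative part plus the part over D ∖ D₋). Then θ̃_D tends to Σ_i θ_i h'_i as D grows through the
finite subsets of ι. (Here D runs over all finite sets of indices and a quotient by zero is zero;
the source lets D run over the finite subsets of the locus θ ≠ 0 containing D₋, and the same tail
estimate gives both.) -/
theorem result {ι : Type u} [DecidableEq ι] (θ : ι → ℚ) (h h' : ι → ℕ)
    (hle : ∀ i, h' i ≤ h i) (hfin : {i | θ i < 0}.Finite)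
    (hsum : Summable (fun i => (θ i : ℝ) * (h i : ℝ))) :
    Filter.Tendsto
      (fun D : Finset ι =>
        (∑ i ∈ D, (θ i : ℝ) * (h' i : ℝ)) +
          ((∑' i, if i ∈ D then (0 : ℝ) else (θ i : ℝ) * (h i : ℝ)) / ((D \ hfin.toFinset).card : ℝ)) *
            ∑ i ∈ D \ hfin.toFinset, ((h' i : ℝ) / (h i : ℝ)))
      Filter.atTop (nhds (∑' i, (θ i : ℝ) * (h' i : ℝ))) := by
  classical
  have habs : Summable fun i => |(θ i : ℝ) * (h i : ℝ)| := hsum.abs
  have h2 : Summable fun i => (θ i : ℝ) * (h' i : ℝ) := by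
    refine Summable.of_norm_bounded habs fun i => ?_
    rw [Real.norm_eq_abs, abs_mul, abs_mul]
    gcongr
    exact_mod_cast hle i
  have hA : Filter.Tendsto (fun D : Finset ι => ∑ i ∈ D, (θ i : ℝ) * (h' i : ℝ)) Filter.atTop
      (nhds (∑' i, (θ i : ℝ) * (h' i : ℝ))) := h2.hasSum
  have hS : Filter.Tendsto (fun D : Finset ι => ∑' i, if i ∈ D then (0 : ℝ) else (θ i : ℝ) * (h i : ℝ))
      Filter.atTop (nhds 0) := by
    have h3 : Filter.Tendsto (fun D : Finset ι => ∑' i, (θ i : ℝ) * (h i : ℝ) - ∑ i ∈ D, (θ i : ℝ) * (h i : ℝ))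
        Filter.atTop (nhds 0) := by
      have := (tendsto_const_nhds (x := ∑' i, (θ i : ℝ) * (h i : ℝ)) (f := (Filter.atTop : Filter (Finset ι)))).sub hsum.hasSum
      rwa [sub_self] at this
    refine h3.congr fun D => ?_
    have hsplit : (fun i => if i ∈ D then (0 : ℝ) else (θ i : ℝ) * (h i : ℝ)) =
        fun i => (θ i : ℝ) * (h i : ℝ) - (if i ∈ D then (θ i : ℝ) * (h i : ℝ) else 0) := by
      funext i; split_ifs <;> simp
    have hf : Summable fun i => if i ∈ D then (θ i : ℝ) * (h i : ℝ) else 0 :=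
      summable_of_ne_finset_zero (s := D) fun i hi => if_neg hi
    rw [hsplit, hsum.tsum_sub hf, tsum_eq_sum (s := D) (fun i hi => if_neg hi)]
    congr 1
    exact Finset.sum_congr rfl fun i hi => (if_pos hi).symm
  have key := hA.add (squeeze_zero_norm (f := fun D : Finset ι =>
    ((∑' i, if i ∈ D then (0 : ℝ) else (θ i : ℝ) * (h i : ℝ)) / ((D \ hfin.toFinset).card : ℝ)) *
      ∑ i ∈ D \ hfin.toFinset, ((h' i : ℝ) / (h i : ℝ))) (fun D => ?_) (by simpa using hS.norm))
  · simpa using key
  · have hnn : 0 ≤ ∑ i ∈ D \ hfin.toFinset, ((h' i : ℝ) / (h i : ℝ)) :=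
      Finset.sum_nonneg fun i _ => by positivity
    have hle' : ∑ i ∈ D \ hfin.toFinset, ((h' i : ℝ) / (h i : ℝ)) ≤ ((D \ hfin.toFinset).card : ℝ) := by
      refine (Finset.sum_le_card_nsmul _ _ 1 fun i _ => ?_).trans (by simp)
      exact div_le_one_of_le₀ (by exact_mod_cast hle i) (Nat.cast_nonneg _)
    rw [norm_mul, norm_div, Real.norm_of_nonneg hnn, Real.norm_of_nonneg (Nat.cast_nonneg _)]
    rcases Nat.eq_zero_or_pos (D \ hfin.toFinset).card with h0 | h0
    · simp [h0]
    · rw [div_mul_eq_mul_div, div_le_iff₀ (by exact_mod_cast h0)]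
      exact mul_le_mul_of_nonneg_left hle' (norm_nonneg _)

end Groth.Agent.S16017
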