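import Groth.Statements.S16021
import Groth.Agent.Lead.SiteCoh.CechH0
-- import your own Groth.Agent.* helpers here

set_option autoImplicit false
universe u
open CategoryTheory CategoryTheory.Limits Opposite
open CechEdge

namespace Groth.Agent.S16021

/-- On a small site with fibre products, with coverings given as indexed families of objects over their
target, an abelian presheaf is a sheaf if and only if, for every object U and every family of
objects over U whose generated sieve is covering, the canonical map from the sections over U to the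
degree-0 Cech cohomology with respect to the family is bijective. -/
theorem result {C : Type u} [SmallCategory C] [HasPullbacks C]
    (J : GrothendieckTopology C) (P : Cᵒᵖ ⥤ AddCommGrpCat.{u}) :
    Presheaf.IsSheaf J P ↔ ∀ (U : C) (ι : Type u) (Y : ι → Over U),
      Sieve.ofArrows (fun i => (Y i).left) (fun i => (Y i).hom) ∈ J U →
        Function.Bijective (CechEdge.toCech Y P) := by
  rw [Presheaf.isSheaf_iff_isSheaf_forget J P (forget AddCommGrpCat.{u}), isSheaf_iff_isSheaf_of_type]
  refine ⟨fun h U ι Y hY => Groth.Agent.Lead.SiteCoh.Cech.toCech_bijective Y P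
    (Presieve.isSheafFor_iff_generate _ |>.2 (h.isSheafFor _ (by rw [Sieve.generate_sieve]; exact hY))), ?_⟩
  intro h U R hR
  let Y : (Σ V : C, {f : V ⟶ U // R f}) → Over U := fun i => Over.mk i.2.1
  have e : Sieve.ofArrows (fun i => (Y i).left) (fun i => (Y i).hom) = R := by
    apply Sieve.ext
    intro V f
    refine ⟨?_, fun hf => ⟨V, 𝟙 _, f, ⟨(⟨V, f, hf⟩ : Σ V : C, {f : V ⟶ U // R f})⟩, Category.id_comp _⟩⟩
    rintro ⟨W, g, _, ⟨i⟩, rfl⟩
    exact R.downward_closed i.2.2 g
  rw [← e]
  exact (Presieve.isSheafFor_iff_generate _).1
    (Groth.Agent.Lead.SiteCoh.Cech.isSheafFor_of_toCech_bijective Y P (h U _ Y (by rw [e]; exact hR)))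

end Groth.Agent.S16021
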