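import Groth.Statements.S16030
import Mathlib
-- import your own Groth.Agent.* helpers here

set_option autoImplicit false
set_option backward.isDefEq.respectTransparency false
universe u
open CAlg

open CategoryTheory CategoryTheory.Limits AlgebraicGeometry
namespace Groth.Agent.S16030

/-- For a finite set F of points of the spectrum of a commutative ring A and an open subset U containing
F, some basic open D(a) contains F and is contained in U. -/
theorem result
    (A : Type u) [CommRing A] (F : Set (PrimeSpectrum A)) (hF : F.Finite)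
    (U : TopologicalSpace.Opens (PrimeSpectrum A)) (hFU : F ⊆ (U : Set (PrimeSpectrum A))) :
    ∃ a : A, F ⊆ (PrimeSpectrum.basicOpen a : Set (PrimeSpectrum A)) ∧ PrimeSpectrum.basicOpen a ≤ U := by
  classical
  obtain ⟨I, hI⟩ := (PrimeSpectrum.isOpen_iff U.1).1 U.2
  have hI' : (PrimeSpectrum.zeroLocus I)ᶜ = (U : Set (PrimeSpectrum A)) := by
    have := congrArg compl hI
    simpa using this.symm
  let J := Ideal.span I
  rcases F.eq_empty_or_nonempty with rfl | ⟨q₀, hq₀⟩
  · exact ⟨0, Set.empty_subset _, by simp⟩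
  have h : ¬ (J : Set A) ⊆ ⋃ q ∈ (hF.toFinset : Set (PrimeSpectrum A)), (q.asIdeal : Set A) := by
    rw [Ideal.subset_union_prime (f := fun q : PrimeSpectrum A => q.asIdeal) q₀ q₀ fun q _ _ _ => q.2]
    rintro ⟨q, hq, hJ⟩
    have := hFU (hF.mem_toFinset.1 hq)
    rw [← hI'] at this
    exact this fun a ha => hJ (Ideal.subset_span ha)
  obtain ⟨a, haJ, ha⟩ := Set.not_subset.1 h
  refine ⟨a, fun q hq => fun haq => ha (Set.mem_biUnion (x := q) (hF.mem_toFinset.2 hq) haq), fun q hq => ?_⟩
  show q ∈ (U : Set (PrimeSpectrum A))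
  rw [← hI']
  exact fun hz => hq (Ideal.span_le.2 hz haJ)

end Groth.Agent.S16030
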