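import Groth.Statements.S16048
import Groth.Agent.Misc9.SF.PSParam
-- import your own Groth.Agent.* helpers here

set_option autoImplicit false
universe u v
open CategoryTheory
open ArtFun

namespace Groth.Agent.S16048

/-- Let Λ be a complete local Noetherian ring with residue field k and F a functor on Artinian local
Λ-algebras with residue field k which admits a hull. A family ξ of F over a complete local
Noetherian Λ-algebra R with residue field k such that R is isomorphic over Λ to a power series ring
Λ[[t_1, …, t_n]] and the induced map on tangent spaces h_R(k[ε]) → F(k[ε]) is bijective is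
miniversal. (The source states this for the deformation functor of a rational double point over the
Witt vectors of an algebraically closed field, with the Kodaira–Spencer map as the tangent map and
the existence of a hull taken from Schlessinger's criteria; the argument uses only the existence of
a hull, so the hull is carried as a hypothesis and Λ is any complete local Noetherian ring with
residue field k.) -/
theorem result {Λ : Type u} {k : Type u}
    [CommRing Λ] [Field k] [Algebra Λ k] [IsNoetherianRing Λ] [Module.Finite Λ k]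
    [IsLocalRing Λ] [IsAdicComplete (IsLocalRing.maximalIdeal Λ) Λ]
    (hk : Function.Surjective (algebraMap Λ k))
    {F : ArtFun.Art Λ k ⥤ Type v} (hF : ArtFun.HasHull F)
    (R : ArtFun.CRing Λ k) (n : ℕ) (e : R.carrier ≃ₐ[Λ] MvPowerSeries (Fin n) Λ)
    (ξ : ArtFun.Family R.carrier R.res F)
    (hξ : Function.Bijective (ArtFun.TangentSpace.ofFamily ξ)) :
    ArtFun.IsMiniversal ξ := by
  obtain ⟨⟨P, η, hη⟩⟩ := hF
  have h0 : ArtFun.H0 F := by
    refine ⟨⟨η.app _ (Misc9.SF.homSetBase _ _)⟩, ⟨fun y z => ?_⟩⟩
    have key : ∀ y : F.obj (ArtFun.Art.base Λ k), y = η.app _ (Misc9.SF.homSetBase _ _) := fun y => by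
      obtain ⟨a, ha⟩ := hη.2.2 (F.map ArtFun.Art.baseToDual y)
      have := congrArg (F.map (ArtFun.Art.toBase _)) ha
      rw [← η.natural, Misc9.SF.map_map, show ArtFun.Art.baseToDual ≫ ArtFun.Art.toBase (ArtFun.Art.dual Λ k) = 𝟙 _ from
        Misc9.SF.hom_ext' fun _ => rfl, Misc9.SF.map_id'] at this
      rw [← this]
      exact congrArg (η.app _) (Subtype.ext ((Misc9.SF.homSet_base _).trans (Misc9.SF.homSet_base _).symm))
    rw [key y, key z]
  obtain ⟨g, hg, hg'⟩ := Misc9.SF.exists_along_eq η hη.1 ξ.toFormalElt (Misc9.SF.exists_start h0 η _)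
  have e' := Misc9.SF.family_ext_formal hg'
  have hR' := Misc9.SF.isSmoothFunctor_of_psEquiv hk R e
  have hb : Function.Bijective fun a : ArtFun.HomSet R.carrier R.res (ArtFun.Art.dual Λ k) => Misc9.SF.alongHom g hg a := by
    have h1 : Function.Bijective (η.app (ArtFun.Art.dual Λ k) ∘ fun a => Misc9.SF.alongHom g hg a) := by
      have : (η.app (ArtFun.Art.dual Λ k) ∘ fun a => Misc9.SF.alongHom g hg a) = ξ.app _ := funext fun a => by
        rw [← e']
        rfl
      rw [this]
      exact hξ
    exact ⟨h1.1.of_comp, fun b => by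
      obtain ⟨a, ha⟩ := h1.2 (η.app _ b)
      exact ⟨a, hη.2.1 ha⟩⟩
  have hgb := Misc9.SF.bijective_of_smooth g hg hR' hb
  let ge := AlgEquiv.ofBijective g hgb
  have hge : P.res.comp (ge.symm : R.carrier →ₐ[Λ] P.carrier) = R.res := AlgHom.ext fun r => by
    change P.res (ge.symm r) = R.res r
    rw [← hg]
    exact congrArg R.res (ge.apply_symm_apply r)
  refine ⟨fun B A μ hμ φ y hy => ?_, hξ⟩
  rw [← e', Misc9.SF.along_app] at hy
  obtain ⟨ψ, hψ, hψ'⟩ := hη.1 μ hμ _ y hy
  refine ⟨Misc9.SF.alongHom _ hge ψ, Misc9.SF.homSet_ext fun r => ?_, ?_⟩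
  · have := AlgHom.congr_fun (congrArg Subtype.val hψ) (ge.symm r)
    exact this.trans (congrArg φ.1 (ge.apply_symm_apply r))
  · rw [← e', Misc9.SF.along_app, ← hψ']
    exact congrArg (η.app B) (Misc9.SF.homSet_ext fun p => congrArg ψ.1 (ge.symm_apply_apply p))

end Groth.Agent.S16048
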