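import Groth.Statements.S16074
import Groth.Agent.SGA3bLib.DiagSub

set_option autoImplicit false
universe u
open Hopf

namespace Groth.Agent.S16074

/-- Let p be a prime and R a commutative ring of characteristic p (p = 0 in R, R nonzero). Then μ_p and
α_p over Spec R are not isomorphic: there is no R-bialgebra isomorphism between the group algebra
R[ℤ/p] of the cyclic group of order p (group elements group-like) and the Hopf algebra R[X]/(X^p) of
α_p (X primitive), although the underlying R-algebras R[ℤ/p] = R[Y]/(Y^p) and R[X]/(X^p) are
isomorphic. (Any nonzero commutative base ring of characteristic p is allowed. The published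
statement allows any ring R with p·R = 0; over the zero ring both Hopf algebras are the zero ring
and hence isomorphic, so R is assumed nonzero here.) -/
theorem result (p : ℕ) [Fact p.Prime] (R : Type u) [CommRing R] [CharP R p] :
    IsEmpty (MonoidAlgebra R (Multiplicative (ZMod p)) ≃ₐc[R] AlphaP.A p R) := by
  constructor
  intro e
  classical
  let z := e.symm (AlphaP.x p R)
  have hc : Coalgebra.comul (R := R) z = z ⊗ₜ[R] 1 + 1 ⊗ₜ[R] z := by
    have h := (CoalgHomClass.map_comp_comul_apply (e.symm) (AlphaP.x p R)).symm
    rw [AlphaP.comul_x, map_add, TensorProduct.map_tmul, TensorProduct.map_tmul] at h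
    simpa [z] using h
  have h1 : ∀ z w : MonoidAlgebra R (Multiplicative (ZMod p)), ∀ a b,
      ((MonoidAlgebra.tensorEquiv R (M := Multiplicative (ZMod p)) (N := Multiplicative (ZMod p))) (z ⊗ₜ w)).coeff (a, b) =
        z.coeff a * w.coeff b := fun z w a b => by
    induction z using MonoidAlgebra.induction_linear with
    | zero => simp
    | add z z' hz hz' => simp [TensorProduct.add_tmul, hz, hz', add_mul]
    | single m t =>
      induction w using MonoidAlgebra.induction_linear with
      | zero => simp
      | add w w' hw hw' => simp [TensorProduct.tmul_add, hw, hw', mul_add]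
      | single n s =>
        rw [MonoidAlgebra.tensorEquiv_single_tmul_single]
        simp [Finsupp.single_apply, Prod.ext_iff]
        split_ifs <;> first | rfl | simp_all
  have h2 : ∀ z : MonoidAlgebra R (Multiplicative (ZMod p)), ∀ a,
      ((MonoidAlgebra.tensorEquiv R (M := Multiplicative (ZMod p)) (N := Multiplicative (ZMod p)))
        (Coalgebra.comul (R := R) z)).coeff (a, a) = z.coeff a := fun z a => by
    induction z using MonoidAlgebra.induction_linear with
    | zero => simp
    | add z z' hz hz' => rw [map_add, map_add, MonoidAlgebra.coeff_add, Finsupp.add_apply, hz, hz', MonoidAlgebra.coeff_add, Finsupp.add_apply]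
    | single m t =>
      simp [MonoidAlgebra.comul_single, MonoidAlgebra.tensorEquiv_single_tmul_single, Finsupp.single_apply,
        Prod.ext_iff]
  have hz : z = 0 := MonoidAlgebra.ext (Finsupp.ext fun a => by
    have h := h2 z a
    rw [hc, map_add, MonoidAlgebra.coeff_add, Finsupp.add_apply, h1, h1] at h
    by_cases ha : a = 1
    · subst ha
      simpa [MonoidAlgebra.one_def] using h
    · simpa [MonoidAlgebra.one_def, Finsupp.single_apply, Ne.symm ha] using h.symm)
  have hx : AlphaP.x p R = 0 := by
    have := congrArg e hz
    simpa [z] using this
  have : Nontrivial R := CharP.nontrivial_of_char_ne_one (R := R) (Fact.out : p.Prime).ne_one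
  refine (AlphaP.basis p R).ne_zero ⟨1, (Fact.out : p.Prime).one_lt⟩ ?_
  rw [AlphaP.basis_apply, pow_one, hx]

end Groth.Agent.S16074
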