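import Groth.Statements.S16075
import Mathlib

set_option autoImplicit false
universe u
open Hopf

namespace Groth.Agent.S16075

/-- Let p be a prime, T a commutative ring of characteristic p (p = 0 in T, T nonzero) and A =
T[X]/(X^p) the Hopf algebra of α_p over Spec T, with X primitive. Then the endomorphisms of the
T-group α_{p,T} are exactly the scalings: every T-bialgebra endomorphism f of A has f(X) = λ·X for a
unique λ ∈ T, and for every λ ∈ T there is a T-bialgebra endomorphism f of A with f(X) = λ·X. So the
endomorphisms of α_{p,T} correspond bijectively to the elements of T. (Only this bijection is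
stated; that it turns addition and composition of endomorphisms into addition and multiplication in
T, and its naturality in T, are not stated here. The zero ring, allowed as T in the published
statement, is excluded by the characteristic hypothesis here.) -/
theorem result (p : ℕ) [Fact p.Prime] (T : Type u) [CommRing T] [CharP T p] :
    (∀ f : AlphaP.A p T →ₐc[T] AlphaP.A p T, ∃! c : T, f (AlphaP.x p T) = c • AlphaP.x p T) ∧
      (∀ c : T, ∃ f : AlphaP.A p T →ₐc[T] AlphaP.A p T, f (AlphaP.x p T) = c • AlphaP.x p T) := by
  classical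
  have : Nontrivial T := CharP.nontrivial_of_char_ne_one (R := T) (Fact.out : p.Prime).ne_one
  let b := AlphaP.basis p T
  have hp1 : 1 < p := (Fact.out : p.Prime).one_lt
  let φ : AlphaP.A p T →ₗ[T] T := b.coord ⟨1, hp1⟩
  let D : AlphaP.A p T →ₗ[T] AlphaP.A p T :=
    (TensorProduct.lid T (AlphaP.A p T)).toLinearMap ∘ₗ φ.rTensor (AlphaP.A p T) ∘ₗ Coalgebra.comul (R := T)
  have hφ : ∀ i : Fin p, φ (AlphaP.x p T ^ (i : ℕ)) = if (i : ℕ) = 1 then 1 else 0 := fun i => by
    rw [← AlphaP.basis_apply, Module.Basis.coord_apply, Module.Basis.repr_self, Finsupp.single_apply]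
    simp [Fin.ext_iff]
  have hφ' : ∀ j : ℕ, φ (AlphaP.x p T ^ j) = if j = 1 then 1 else 0 := fun j => by
    by_cases hj : j < p
    · exact hφ ⟨j, hj⟩
    · rw [AlphaP.x_pow_of_le _ _ (not_lt.1 hj), map_zero, if_neg (by omega)]
  have hD : ∀ i : ℕ, D (AlphaP.x p T ^ i) = (i : T) • AlphaP.x p T ^ (i - 1) := fun i => by
    show (TensorProduct.lid T _) (φ.rTensor _ (Coalgebra.comul (R := T) (AlphaP.x p T ^ i))) = _
    rw [Bialgebra.comul_pow, AlphaP.comul_x, add_pow, map_sum, map_sum]
    rw [Finset.sum_eq_single 1]
    · rw [Algebra.TensorProduct.tmul_pow, Algebra.TensorProduct.tmul_pow, one_pow, one_pow, pow_one,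
        Algebra.TensorProduct.tmul_mul_tmul, mul_one, one_mul, Nat.choose_one_right, mul_comm,
        ← map_natCast (algebraMap T (TensorProduct T (AlphaP.A p T) (AlphaP.A p T))), ← Algebra.smul_def,
        map_smul, map_smul, LinearMap.rTensor_tmul, show φ (AlphaP.x p T) = 1 by simpa using hφ' 1,
        TensorProduct.lid_tmul, one_smul]
    · intro j _ hj
      rw [Algebra.TensorProduct.tmul_pow, Algebra.TensorProduct.tmul_pow, one_pow, one_pow,
        Algebra.TensorProduct.tmul_mul_tmul, mul_one, one_mul, mul_comm,
        ← map_natCast (algebraMap T (TensorProduct T (AlphaP.A p T) (AlphaP.A p T))), ← Algebra.smul_def,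
        map_smul, map_smul, LinearMap.rTensor_tmul, hφ', if_neg hj]
      simp
    · intro h
      simp only [Finset.mem_range, not_lt] at h
      have : i = 0 := by omega
      subst this
      simp
  refine ⟨fun f => ?_, fun c => ?_⟩
  · let z := f (AlphaP.x p T)
    have hc : Coalgebra.comul (R := T) z = z ⊗ₜ[T] 1 + 1 ⊗ₜ[T] z := by
      have h := (CoalgHomClass.map_comp_comul_apply f (AlphaP.x p T)).symm
      rw [AlphaP.comul_x, map_add, TensorProduct.map_tmul, TensorProduct.map_tmul] at h
      simpa [z] using h
    have h1 : D z = φ z • (1 : AlphaP.A p T) := by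
      show (TensorProduct.lid T _) (φ.rTensor _ (Coalgebra.comul (R := T) z)) = _
      rw [hc, map_add, map_add, LinearMap.rTensor_tmul, LinearMap.rTensor_tmul, TensorProduct.lid_tmul,
        TensorProduct.lid_tmul, show φ (1 : AlphaP.A p T) = 0 by simpa using hφ' 0, zero_smul, add_zero]
    have hzero : ∀ i : Fin p, (i : ℕ) ≠ 1 → b.repr z i = 0 := fun i hi => by
      by_cases h0 : (i : ℕ) = 0
      · have hε : Coalgebra.counit (R := T) z = 0 := (CoalgHomClass.counit_comp_apply f _).trans (AlphaP.counit_x p T)
        rw [← b.sum_repr z, map_sum, Finset.sum_eq_single i (fun j _ hj => by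
          rw [map_smul, AlphaP.basis_apply, Bialgebra.counit_pow, AlphaP.counit_x,
            zero_pow (fun h => hj (Fin.ext (h.trans h0.symm))), smul_zero]) (by simp)] at hε
        simpa [b, AlphaP.basis_apply, h0] using hε
      · have h2 := congrArg (fun w => b.repr w ⟨(i : ℕ) - 1, by omega⟩) h1
        rw [← b.sum_repr z] at h2
        simp only [map_sum, map_smul] at h2
        have h3 : ∀ j : Fin p, b.repr (D (b j)) ⟨(i : ℕ) - 1, by omega⟩ = if j = i then ((i : ℕ) : T) else 0 := fun j => by
          rw [AlphaP.basis_apply, hD, map_smul, Finsupp.smul_apply]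
          by_cases hj0 : (j : ℕ) = 0
          · rw [hj0, Nat.cast_zero, zero_smul, if_neg (fun h : j = i => h0 (by rw [← h]; exact hj0))]
          · have hj1 : (j : ℕ) - 1 < p := by omega
            rw [show AlphaP.x p T ^ ((j : ℕ) - 1) = b ⟨(j : ℕ) - 1, hj1⟩ from (AlphaP.basis_apply p T ⟨_, hj1⟩).symm, b.repr_self,
              Finsupp.single_apply]
            by_cases hji : j = i
            · subst hji; simp
            · rw [if_neg, if_neg hji, smul_zero]
              intro h
              exact hji (Fin.ext (by have := congrArg Fin.val h; simp at this; omega))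
        have h4 : b.repr (1 : AlphaP.A p T) ⟨(i : ℕ) - 1, by omega⟩ = 0 := by
          rw [show (1 : AlphaP.A p T) = b ⟨0, by omega⟩ by simp [b, AlphaP.basis_apply], b.repr_self, Finsupp.single_apply,
            if_neg]
          intro h
          have := congrArg Fin.val h
          simp at this
          omega
        simp only [Finsupp.finsetSum_apply, Finsupp.smul_apply, h3, h4, smul_eq_mul, mul_ite, mul_zero,
          Finset.sum_ite_eq', Finset.mem_univ, if_true] at h2
        have hu : IsUnit ((i : ℕ) : T) := (CharP.isUnit_natCast_iff (Fact.out : p.Prime)).2 fun hdvd =>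
          absurd (Nat.le_of_dvd (Nat.pos_of_ne_zero h0) hdvd) (not_le.2 i.2)
        exact hu.mul_left_eq_zero.1 h2
    refine ⟨b.repr z ⟨1, hp1⟩, ?_, fun c hc' => ?_⟩
    · show z = _
      conv_lhs => rw [← b.sum_repr z]
      rw [Finset.sum_eq_single ⟨1, hp1⟩ (fun j _ hj => by rw [hzero j (fun h => hj (Fin.ext h)), zero_smul]) (by simp),
        AlphaP.basis_apply, pow_one]
    · have h5 := congrArg φ hc'
      rw [map_smul, show φ (AlphaP.x p T) = 1 by simpa using hφ' 1, smul_eq_mul, mul_one] at h5
      exact h5.symm.trans rfl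
  · have hpow : (c • AlphaP.x p T) ^ p = 0 := by rw [smul_pow, AlphaP.x_pow, smul_zero]
    refine ⟨BialgHom.ofAlgHom (AlphaP.lift p T (c • AlphaP.x p T) hpow) ?_ ?_, AlphaP.lift_x _ hpow⟩
    · refine AlphaP.algHom_ext ?_
      simp [AlphaP.counit_x]
    · refine AlphaP.algHom_ext ?_
      simp [AlphaP.comul_x, TensorProduct.smul_tmul']

end Groth.Agent.S16075
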