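import Groth.Statements.S16077
import Mathlib.RingTheory.MvPolynomial.Ideal
import Mathlib.RingTheory.MvPolynomial.Basic
import Mathlib.Algebra.CharP.Lemmas
import Mathlib.Algebra.CharP.Algebra

set_option autoImplicit false
universe u
open CAlg

namespace Groth.Agent.S16077

open MvPolynomial in
theorem finrank_span_pow (p : ℕ) [Fact p.Prime] (k : Type u) [Field k] [CharP k p] (r : ℕ) (e : Fin r → ℕ)
    (n : ℕ) :
    Module.finrank k (Submodule.span k (Set.range fun x : MvPolynomial (Fin r) k ⧸
        Ideal.span (Set.range fun i : Fin r => (X i : MvPolynomial (Fin r) k) ^ p ^ e i) => x ^ p ^ n)) =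
      ∏ i, p ^ (e i - n) := by
  classical
  have hp := (Fact.out : p.Prime)
  set J : Ideal (MvPolynomial (Fin r) k) := Ideal.span (Set.range fun i : Fin r => (X i : MvPolynomial (Fin r) k) ^ p ^ e i)
  have hJ : J = Ideal.span ((fun m => monomial m (1 : k)) '' Set.range fun i : Fin r => Finsupp.single i (p ^ e i)) := by
    rw [← Set.range_comp]
    simp only [J, Function.comp_def, X_pow_eq_monomial]
  have hmem : ∀ f, f ∈ J ↔ ∀ m ∈ f.support, ∃ i, p ^ e i ≤ m i := fun f => by
    rw [hJ, MvPolynomial.mem_ideal_span_monomial_image]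
    simp
  let B : Set (Fin r →₀ ℕ) := {a | ∀ i, a i < p ^ e i ∧ p ^ n ∣ a i}
  let π : MvPolynomial (Fin r) k →ₗ[k] (MvPolynomial (Fin r) k ⧸ J) := (Ideal.Quotient.mkₐ k J).toLinearMap
  let g := π.comp (restrictSupport k B).subtype
  have hg : Function.Injective g := by
    rw [← LinearMap.ker_eq_bot, eq_bot_iff]
    rintro ⟨f, hf⟩ h
    have h' : f ∈ J := Ideal.Quotient.eq_zero_iff_mem.1 h
    rw [Submodule.mem_bot]
    ext1
    refine MvPolynomial.support_eq_empty.1 (Finset.eq_empty_of_forall_notMem fun m hm => ?_)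
    obtain ⟨i, hi⟩ := (hmem f).1 h' m hm
    have := (((mem_restrictSupport_iff k).1 hf (Finset.mem_coe.2 hm)) i).1
    omega
  have hT : Submodule.span k (Set.range fun x : MvPolynomial (Fin r) k ⧸ J => x ^ p ^ n) = LinearMap.range g := by
    refine le_antisymm (Submodule.span_le.2 ?_) ?_
    · rintro _ ⟨x, rfl⟩
      obtain ⟨f, rfl⟩ := Ideal.Quotient.mk_surjective x
      show (Ideal.Quotient.mk J f) ^ p ^ n ∈ LinearMap.range g
      rw [← map_pow]
      induction f using MvPolynomial.induction_on' with
      | monomial m a =>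
        rw [monomial_pow]
        by_cases h : p ^ n • m ∈ B
        · exact ⟨⟨monomial (p ^ n • m) (a ^ p ^ n), (monomial_mem_restrictSupport k).2 (Or.inl h)⟩, rfl⟩
        · have h0 : monomial (p ^ n • m) (a ^ p ^ n) ∈ J := by
            rw [hmem]
            intro m' hm'
            rw [Finset.mem_singleton.1 (support_monomial_subset hm')]
            simp only [B, Set.mem_setOf_eq, not_forall] at h
            obtain ⟨i, hi⟩ := h
            refine ⟨i, ?_⟩
            simp only [Finsupp.smul_apply, smul_eq_mul] at hi ⊢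
            by_contra hlt
            exact hi ⟨by omega, dvd_mul_right _ _⟩
          rw [Ideal.Quotient.eq_zero_iff_mem.2 h0]
          exact zero_mem _
      | add f g' hf hg' => rw [add_pow_char_pow, map_add]; exact add_mem hf hg'
    · rw [LinearMap.range_comp, Submodule.range_subtype, restrictSupport_eq_span, Submodule.map_span,
        Submodule.span_le]
      rintro _ ⟨_, ⟨m, hm, rfl⟩, rfl⟩
      let m' : Fin r →₀ ℕ := Finsupp.equivFunOnFinite.symm fun i => m i / p ^ n
      have he : p ^ n • m' = m := by
        ext i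
        simp [m', Nat.mul_div_cancel' (hm i).2]
      refine Submodule.subset_span ⟨Ideal.Quotient.mk J (monomial m' 1), ?_⟩
      show (Ideal.Quotient.mk J (monomial m' 1)) ^ p ^ n = _
      rw [← map_pow, monomial_pow, one_pow, he]
      rfl
  rw [hT, LinearMap.finrank_range_of_inj hg, Module.finrank_eq_nat_card_basis (basisRestrictSupport k B)]
  have hb : ∀ (a : B) (i : Fin r), (a : Fin r →₀ ℕ) i / p ^ n < p ^ (e i - n) := fun a i => by
    rcases le_total n (e i) with h | h
    · rw [Nat.div_lt_iff_lt_mul (Nat.pow_pos hp.pos), ← pow_add, Nat.sub_add_cancel h]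
      exact (a.2 i).1
    · rw [Nat.div_eq_of_lt ((a.2 i).1.trans_le (Nat.pow_le_pow_right hp.pos h))]
      exact Nat.pow_pos hp.pos
  have hb' : ∀ (b : ∀ i, Fin (p ^ (e i - n))) (i : Fin r), (b i : ℕ) * p ^ n < p ^ e i := fun b i => by
    rcases le_total n (e i) with h | h
    · conv_rhs => rw [← Nat.sub_add_cancel h, pow_add]
      exact Nat.mul_lt_mul_of_pos_right (b i).2 (Nat.pow_pos hp.pos)
    · have h1 : (b i : ℕ) < 1 := (b i).2.trans_eq (by rw [Nat.sub_eq_zero_of_le h, pow_zero])
      rw [Nat.lt_one_iff] at h1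
      rw [h1, zero_mul]
      exact Nat.pow_pos hp.pos
  let E : B ≃ (∀ i, Fin (p ^ (e i - n))) :=
    { toFun := fun a i => ⟨(a : Fin r →₀ ℕ) i / p ^ n, hb a i⟩
      invFun := fun b => ⟨Finsupp.equivFunOnFinite.symm fun i => (b i : ℕ) * p ^ n,
        fun i => ⟨by simpa using hb' b i, by simp⟩⟩
      left_inv := fun a => by
        ext i
        simp [Nat.div_mul_cancel (a.2 i).2]
      right_inv := fun b => by
        funext i
        ext
        simp [Nat.mul_div_cancel _ (Nat.pow_pos hp.pos)] }
  simp [Nat.card_congr E]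

/-- Let k be a perfect field of characteristic p > 0 and let e_1, …, e_r ≥ 1 and f_1, …, f_s ≥ 1 be
natural numbers. If the k-algebras k[X_1, …, X_r]/(X_i^{p^{e_i}} : 1 ≤ i ≤ r) and k[X_1, …,
X_s]/(X_j^{p^{f_j}} : 1 ≤ j ≤ s) are isomorphic, then r = s and (f_j) is a permutation of (e_i):
there is a bijection σ between the index sets with f_{σ(i)} = e_i. Such truncated polynomial
algebras are the coordinate rings of the connected finite k-group schemes, and the row says that the
number of variables and the exponents are invariants of the group, indeed of its algebra. (Only this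
invariance is stated here; the existence of such a presentation for every connected finite k-group
is a separate statement.) -/
theorem result (p : ℕ) [Fact p.Prime] (k : Type u) [Field k]
    [CharP k p] [PerfectField k] (r s : ℕ) (e : Fin r → ℕ) (f : Fin s → ℕ) (he : ∀ i, 1 ≤ e i) (hf : ∀ j, 1 ≤ f j)
    (φ : (MvPolynomial (Fin r) k ⧸ Ideal.span (Set.range fun i : Fin r => (MvPolynomial.X i : MvPolynomial (Fin r) k) ^ p ^ e i)) ≃ₐ[k]
      (MvPolynomial (Fin s) k ⧸ Ideal.span (Set.range fun j : Fin s => (MvPolynomial.X j : MvPolynomial (Fin s) k) ^ p ^ f j))) :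
    ∃ σ : Fin r ≃ Fin s, ∀ i : Fin r, f (σ i) = e i := by
  classical
  have hp := (Fact.out : p.Prime)
  have key : ∀ n, ∑ i, (e i - n) = ∑ j, (f j - n) := by
    intro n
    refine Nat.pow_right_injective hp.two_le ?_
    simp only
    rw [← Finset.prod_pow_eq_pow_sum, ← Finset.prod_pow_eq_pow_sum, ← finrank_span_pow p k r e n,
      ← finrank_span_pow p k s f n]
    refine (LinearEquiv.finrank_eq ((φ.toLinearEquiv.submoduleMap _).trans (LinearEquiv.ofEq _ _ ?_)))
    rw [Submodule.map_span, ← Set.range_comp]
    congr 1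
    ext y
    constructor
    · rintro ⟨x, rfl⟩; exact ⟨φ x, (map_pow φ x _).symm⟩
    · rintro ⟨x, rfl⟩; exact ⟨φ.symm x, by simp⟩
  have hA : ∀ (t : ℕ) (g : Fin t → ℕ) (n : ℕ),
      ∑ i, (g i - n) = ∑ i, (g i - (n + 1)) + (Finset.univ.filter fun i => n < g i).card := by
    intro t g n
    rw [Finset.card_filter, ← Finset.sum_add_distrib]
    refine Finset.sum_congr rfl fun i _ => ?_
    split <;> omega
  have hgt : ∀ n, (Finset.univ.filter fun i => n < e i).card = (Finset.univ.filter fun j => n < f j).card := by
    intro n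
    have := key n; have := key (n + 1); have := hA r e n; have := hA s f n
    omega
  have hB : ∀ (t : ℕ) (g : Fin t → ℕ) (m : ℕ), Nat.card {i // g i = m + 1} +
      (Finset.univ.filter fun i => m + 1 < g i).card = (Finset.univ.filter fun i => m < g i).card := by
    intro t g m
    rw [Nat.card_eq_fintype_card, Fintype.card_subtype, Finset.card_filter, Finset.card_filter, Finset.card_filter,
      ← Finset.sum_add_distrib]
    refine Finset.sum_congr rfl fun i _ => ?_
    split_ifs <;> omega
  have hfib : ∀ c, Nonempty ({i // e i = c} ≃ {j // f j = c}) := fun c => by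
    refine ⟨(Finite.card_eq.1 ?_).some⟩
    rcases c with _ | m
    · haveI : IsEmpty {i // e i = 0} := ⟨fun i => by have := he i.1; have := i.2; omega⟩
      haveI : IsEmpty {j // f j = 0} := ⟨fun j => by have := hf j.1; have := j.2; omega⟩
      simp
    · have := hgt m; have := hgt (m + 1); have := hB r e m; have := hB s f m
      omega
  exact ⟨Equiv.ofFiberEquiv fun c => (hfib c).some, fun i => Equiv.ofFiberEquiv_map _ i⟩

end Groth.Agent.S16077
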