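import Groth.Statements.S16082
import Mathlib.AlgebraicGeometry.FunctionField

set_option autoImplicit false
universe u
open CategoryTheory CategoryTheory.Limits AlgebraicGeometry TopologicalSpace
open SDiv

namespace Groth.Agent.S16082

/-- Let X be an integral scheme and F, G quasi-coherent O_X-modules with F of finite presentation and G
torsion free (every stalk G_x is a torsion-free module over the domain O_{X,x}). Then every stalk of
the sheaf Hom 𝓗om_{O_X}(F, G) is torsion free as well. -/
theorem result (X : Scheme.{u}) [IsIntegral X] (F G : X.Modules) (hF : Coh.IsQCoh F)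
    (hFp : CohB1.IsFP F) (hG : Coh.IsQCoh G) (hGt : TorSh.IsTorsionFree G) :
    TorSh.IsTorsionFree (RefHull.homSh F G) := by
  intro x
  refine ⟨fun r hr m₁ m₂ h => ?_⟩
  dsimp only at h
  rw [← sub_eq_zero, ← smul_sub] at h
  refine sub_eq_zero.mp ?_
  generalize m₁ - m₂ = m at h
  obtain ⟨U, hxU, c, rfl⟩ := X.presheaf.exists_germ_eq (x := x) r
  obtain ⟨V, hxV, g, rfl⟩ := (RefHull.homSh F G).presheaf.exists_germ_eq (x := x) m
  have hx : x ∈ U ⊓ V := ⟨hxU, hxV⟩
  rw [← X.presheaf.germ_res_apply (homOfLE (inf_le_left : U ⊓ V ≤ U)) x hx,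
    ← (RefHull.homSh F G).presheaf.germ_res_apply (homOfLE (inf_le_right : U ⊓ V ≤ V)) x hx,
    ← Mero.germ_smul] at h
  obtain ⟨W, hxW, i₁, i₂, hW⟩ := (RefHull.homSh F G).presheaf.germ_eq x hx hx _ 0 (h.trans (map_zero _).symm)
  rw [map_zero] at hW
  have hle : W ≤ V := i₁.le.trans inf_le_right
  rw [← (RefHull.homSh F G).presheaf.germ_res_apply (homOfLE hle) x hxW g]
  have hg : (RefHull.homSh F G).presheaf.map (homOfLE hle).op g = 0 := by
    refine Subtype.ext (funext fun y => LinearMap.ext fun v => ?_)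
    have hyU : y.1 ∈ U := (i₁.le y.2).1
    have hne : X.presheaf.germ U y.1 hyU c ≠ 0 := by
      intro h0
      refine hr.ne_zero ?_
      have := germ_injective_of_isIntegral X y.1 hyU (h0.trans (map_zero _).symm)
      rw [this, map_zero]
    have h1 := LinearMap.congr_fun (congrFun (congrArg Subtype.val hW) y) v
    have h2 : X.presheaf.germ (U ⊓ V) y.1 (i₁.le y.2) (X.presheaf.map (homOfLE inf_le_left).op c) •
        g.1 ⟨y.1, hle y.2⟩ v = 0 := h1
    rw [TopCat.Presheaf.germ_res_apply] at h2
    haveI := hGt y.1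
    exact smul_right_injective _ hne (h2.trans (smul_zero _).symm)
  rw [hg, map_zero]

end Groth.Agent.S16082
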