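import Groth.Statements.S16107
import Groth.Agent.HopfRep.FiniteGen

set_option autoImplicit false
universe u v w
open LunaSt

namespace Groth.Agent.S16107

open TensorProduct

/-- Let k be a field and H a commutative Hopf algebra of finite type over k all of whose
finite-dimensional comodules are semisimple (a linearly reductive affine group G = Spec H of finite
type). Let A be a Noetherian commutative k-algebra with a coaction of H that is an algebra map (an
action of G on Spec A). Then A is of finite type as an algebra over its subring of invariants A^G.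
(The published statement is that a good moduli space with affine diagonal of a Noetherian algebraic
stack is of finite type; this row is its case [Spec A/G] → Spec A^G.) -/
theorem result
    (k : Type u) [Field k] (H : Type v) [CommRing H] [HopfAlgebra k H] [Algebra.FiniteType k H]
    (hG : HopfRep.IsLinearlyReductive k H)
    (A : Type w) [CommRing A] [Algebra k A] [IsNoetherianRing A]
    [HopfRep.Comod k H A] [GLin.IsCoactAlg k H A] :
    Algebra.FiniteType ↥(GLin.invariants k H A) A := by
  classical
  obtain ⟨β, hβ⟩ := Groth.Agent.HopfRep.Integral.exists_integral hG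
  -- A ⊗ H coacting on the second factor, an A-algebra through the coaction
  let Δ := Bialgebra.comulAlgHom k H
  let co : A ⊗[k] H →ₐ[k] (A ⊗[k] H) ⊗[k] H :=
    ((Algebra.TensorProduct.assoc k k k A H H).symm.toAlgHom).comp (Algebra.TensorProduct.map (AlgHom.id k A) Δ)
  letI : HopfRep.Comod k H (A ⊗[k] H) :=
    { coact := Hoch.Ind.coactAux k H A
      coassoc := (Hoch.Ind.comod k H A).coassoc
      counit_comp := (Hoch.Ind.comod k H A).counit_comp }
  have hco : ∀ x : A ⊗[k] H, HopfRep.Comod.coact (k := k) (A := H) x = co x := by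
    intro x
    induction x with
    | zero => simp
    | add p q hp hq => simp only [map_add, hp, hq]
    | tmul p q =>
      show Hoch.Ind.coactAux k H A (p ⊗ₜ q) = _
      simp [co, Δ]
      rfl
  haveI : GLin.IsCoactAlg k H (A ⊗[k] H) :=
    ⟨by rw [hco, map_one], fun f g => by rw [hco, hco, hco, map_mul]⟩
  let ρ := GLin.coactAlgHom k H A
  have hρ : Hoch.IsComodHom H ρ.toLinearMap := by
    refine LinearMap.ext fun a => (TensorProduct.assoc k A H H).injective ?_
    show TensorProduct.assoc k A H H (Hoch.Ind.coactAux k H A (ρ a)) =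
      TensorProduct.assoc k A H H ((HopfRep.Comod.coact (k := k) (A := H) (V := A)).rTensor H
        (HopfRep.Comod.coact (k := k) (A := H) a))
    rw [Groth.Agent.HopfRep.Slice.coassoc_apply]
    simp only [Hoch.Ind.coactAux, LinearMap.comp_apply, LinearEquiv.coe_coe, LinearEquiv.apply_symm_apply]
    rfl
  obtain ⟨g, hg⟩ := (inferInstance : Algebra.FiniteType k H).out
  let inr := Algebra.TensorProduct.includeRight (R := k) (A := A) (B := H)
  have hgen : Algebra.adjoin k (Set.range ρ ∪ ↑(g.image inr)) = ⊤ := by
    have hH : ∀ h : H, (1 : A) ⊗ₜ[k] h ∈ Algebra.adjoin k (Set.range ρ ∪ ↑(g.image inr)) := by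
      intro h
      have : Algebra.adjoin k (↑g : Set H) ≤ (Algebra.adjoin k (Set.range ρ ∪ ↑(g.image inr))).comap inr :=
        Algebra.adjoin_le fun x hx => Algebra.subset_adjoin (Or.inr (Finset.mem_image_of_mem _ hx))
      exact this (hg ▸ Algebra.mem_top)
    rw [eq_top_iff]
    intro x _
    induction x with
    | zero => exact Subalgebra.zero_mem _
    | add p q hp hq => exact Subalgebra.add_mem _ (hp Algebra.mem_top) (hq Algebra.mem_top)
    | tmul a h =>
      have hsplit : a ⊗ₜ[k] h = a ⊗ₜ[k] (1 : H) * (1 : A) ⊗ₜ[k] h := by simp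
      rw [hsplit]
      refine Subalgebra.mul_mem _ ?_ (hH h)
      let L : A ⊗[k] H →ₗ[k] A ⊗[k] H := TensorProduct.lift (((LinearMap.mul k (A ⊗[k] H)).compl₂
        ((TensorProduct.mk k A H 1) ∘ₗ HopfAlgebraStruct.antipode (R := k))) ∘ₗ ρ.toLinearMap)
      have hL : ∀ z, L z = (LinearMap.mul' k H ∘ₗ (HopfAlgebraStruct.antipode (R := k)).lTensor H).lTensor A
          (TensorProduct.assoc k A H H ((ρ.toLinearMap).rTensor H z)) := by
        intro z
        induction z with
        | zero => simp
        | add u v hu hv => simp [hu, hv]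
        | tmul r b =>
          simp only [L, TensorProduct.lift.tmul, LinearMap.comp_apply, LinearMap.compl₂_apply,
            TensorProduct.mk_apply, LinearMap.mul_apply', LinearMap.rTensor_tmul]
          generalize ρ.toLinearMap r = u
          induction u with
          | zero => simp
          | add u v hu hv => simp [TensorProduct.add_tmul, add_mul, hu, hv]
          | tmul p q => simp
      have ha : L (ρ a) = a ⊗ₜ[k] (1 : H) := by
        rw [hL, show ρ.toLinearMap = HopfRep.Comod.coact (k := k) (A := H) (V := A) from rfl,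
          show ρ a = HopfRep.Comod.coact (k := k) (A := H) a from rfl,
          Groth.Agent.HopfRep.Slice.coassoc_apply, ← LinearMap.lTensor_comp_apply]
        simp only [LinearMap.comp_assoc, HopfAlgebra.mul_antipode_lTensor_comul, LinearMap.lTensor_comp_apply]
        have hcu := LinearMap.congr_fun (HopfRep.Comod.counit_comp (k := k) (A := H) (V := A)) a
        simp only [LinearMap.comp_apply] at hcu
        rw [hcu]
        simp
      rw [← ha]
      generalize ρ a = z
      induction z with
      | zero => simp
      | add u v hu hv => rw [map_add]; exact Subalgebra.add_mem _ hu hv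
      | tmul p q => exact Subalgebra.mul_mem _ (Algebra.subset_adjoin (Or.inl ⟨p, rfl⟩)) (hH _)
  obtain ⟨s, -, heq⟩ := Groth.Agent.HopfRep.FiniteGen.exists_generators hβ ρ hρ (g.image inr) hgen
  let ψ : A ⊗[k] H →ₐ[k] A :=
    (Algebra.TensorProduct.rid k k A).toAlgHom.comp (Algebra.TensorProduct.map (AlgHom.id k A) (Bialgebra.counitAlgHom k H))
  have hψρ : ∀ a, ψ (ρ a) = a := by
    intro a
    have hcu := LinearMap.congr_fun (HopfRep.Comod.counit_comp (k := k) (A := H) (V := A)) a
    simp only [LinearMap.comp_apply, LinearMap.flip_apply, TensorProduct.mk_apply] at hcu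
    have : ∀ z : A ⊗[k] H, ψ z = TensorProduct.rid k A ((Coalgebra.counit (R := k) (A := H)).lTensor A z) := by
      intro z
      induction z with
      | zero => simp
      | add u v hu hv => simp [hu, hv]
      | tmul p q => simp [ψ]
    rw [this, show ρ a = HopfRep.Comod.coact (k := k) (A := H) a from rfl, hcu]
    simp
  refine ⟨⟨s.image ψ, ?_⟩⟩
  rw [eq_top_iff]
  intro a _
  have hfix : a ⊗ₜ[k] (1 : H) ∈ GLin.invariants k H (A ⊗[k] H) := by
    rw [GLin.mem_invariants_iff, hco]
    simp [co, Δ, Algebra.TensorProduct.one_def]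
  rw [heq] at hfix
  have : ψ (a ⊗ₜ[k] (1 : H)) = a := by simp [ψ]
  rw [← this]
  have hle : Algebra.adjoin k (ρ '' (GLin.invariants k H A : Set A) ∪ (↑s : Set _)) ≤
      ((Algebra.adjoin ↥(GLin.invariants k H A) (↑(s.image ψ) : Set A)).restrictScalars k).comap ψ := by
    refine Algebra.adjoin_le ?_
    rintro x (⟨r, hr, rfl⟩ | hx)
    · show ψ (ρ r) ∈ Algebra.adjoin ↥(GLin.invariants k H A) (↑(s.image ψ) : Set A)
      rw [hψρ]
      exact Subalgebra.algebraMap_mem (Algebra.adjoin _ _) (⟨r, hr⟩ : GLin.invariants k H A)
    · exact Algebra.subset_adjoin (Finset.mem_image_of_mem _ hx)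
  exact hle hfix

end Groth.Agent.S16107
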