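import Groth.Statements.S16126
import Groth.Agent.HopfRep.AffinePts
import Groth.Agent.HopfRep.CentralChar
import Groth.Agent.HopfRep.FpqcBase
-- import your own Groth.Agent.* helpers here

set_option autoImplicit false
universe u
open CategoryTheory MonoidalCategory CartesianMonoidalCategory MonObj GrpObj AlgebraicGeometry CategoryTheory.Limits
open AlgGrp

namespace Groth.Agent.HopfRep.GmChar

open CategoryTheory AlgebraicGeometry MonObj Groth.Agent.HopfRep.CharHom Groth.Agent.HopfRep.AffinePts
open Groth.Agent.HopfRep.DiagRigid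

variable {k : Type u} [Field k]

/-- points of the multiplicative group -/
noncomputable def c {L : Type u} [CommRing L] [Algebra k L] (χ : Multiplicative ℤ →* L) :
    Tp (K := k) L ⟶ Red.Gm (Spec (CommRingCat.of k)) :=
  Misc9.MagnetPts.chiPt (Spec.map (CommRingCat.ofHom (algebraMap k L)) ≫ 𝟙 _) χ

theorem c_mul {L : Type u} [CommRing L] [Algebra k L] (χ χ' : Multiplicative ℤ →* L) :
    c (k := k) χ * c χ' = c (χ * χ') :=
  Misc9.MagnetPts.chiPt_mul _ _ _

theorem c_one {L : Type u} [CommRing L] [Algebra k L] : c (k := k) (1 : Multiplicative ℤ →* L) = 1 :=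
  Misc9.MagnetPts.chiPt_one _

theorem c_nat {L L' : Type u} [CommRing L] [Algebra k L] [CommRing L'] [Algebra k L'] (φ : L →ₐ[k] L')
    (χ : Multiplicative ℤ →* L) : tmap φ ≫ c χ = c ((φ : L →* L').comp χ) :=
  comp_chiPt' (tmap φ) (CommRingCat.ofHom φ.toRingHom) rfl χ

theorem c_injective {L : Type u} [CommRing L] [Algebra k L] :
    Function.Injective (fun χ : Multiplicative ℤ →* L => c (k := k) χ) := fun χ χ' h => by
  let s := Spec.map (CommRingCat.ofHom (algebraMap k L)) ≫ 𝟙 _
  have h1 := congrArg Over.Hom.left (((Over.mapPullbackAdj (Misc9.MagnetPts.trm _)).homEquiv _ _).injective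
    (show Misc9.MagnetPts.chiPt s χ = Misc9.MagnetPts.chiPt s χ' from h))
  have h2 := congrArg CommRingCat.Hom.hom (Spec.map_injective h1)
  exact MonoidHom.ext fun n => by
    have h3 := RingHom.congr_fun h2 (MonoidAlgebra.single n 1)
    rw [← Misc9.MagnetPts.ev_single (K := CommRingCat.of L) χ n, ← Misc9.MagnetPts.ev_single (K := CommRingCat.of L) χ' n]
    exact h3

theorem c_surjective {L : Type u} [CommRing L] [Algebra k L] (g : Tp (K := k) L ⟶ Red.Gm (Spec (CommRingCat.of k))) :
    ∃ χ, c (k := k) χ = g :=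
  Misc9.MagnetPts.chiPt_surjective _ g

theorem eq_one_of_idem {Y : Over (Spec (CommRingCat.of k))} (x : Y ⟶ Red.Gm (Spec (CommRingCat.of k)))
    (hx : x * x = x) : x = 1 := by
  refine pts_ext fun L _ _ a => ?_
  obtain ⟨χ, hχ⟩ := c_surjective (k := k) (a ≫ x)
  rw [MonObj.comp_one, ← hχ, ← c_one]
  have h1 : χ * χ = χ := c_injective (k := k) (by
    show c (k := k) (χ * χ) = c χ
    rw [← c_mul, hχ, ← MonObj.comp_mul, hx])
  refine congrArg _ (MonoidHom.ext fun n => ?_)
  have h2 : χ n * χ n = χ n := DFunLike.congr_fun h1 n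
  have hu : IsUnit (χ n) := ((Group.isUnit n).map χ)
  exact hu.mul_eq_left.1 h2

theorem isMonHom_of_mul {E : Over (Spec (CommRingCat.of k))} [GrpObj E] (χ : E ⟶ Red.Gm (Spec (CommRingCat.of k)))
    (h : ∀ (Y : Over (Spec (CommRingCat.of k))) (x y : Y ⟶ E), (x * y) ≫ χ = (x ≫ χ) * (y ≫ χ)) : IsMonHom χ where
  one_hom := by
    have h1 := h (MonoidalCategoryStruct.tensorUnit _) 1 1
    rw [_root_.one_mul] at h1
    have h2 := eq_one_of_idem _ h1.symm
    rw [Hom.one_def, Hom.one_def, CartesianMonoidalCategory.toUnit_unique (CartesianMonoidalCategory.toUnit _) (𝟙 _),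
      Category.id_comp, Category.id_comp] at h2
    exact h2
  mul_hom := by
    have h1 := h _ (CartesianMonoidalCategory.fst E E) (CartesianMonoidalCategory.snd E E)
    rw [Hom.mul_def, Hom.mul_def, CartesianMonoidalCategory.lift_fst_snd, Category.id_comp,
      ← CartesianMonoidalCategory.lift_map_assoc, CartesianMonoidalCategory.lift_fst_snd, Category.id_comp] at h1
    exact h1

theorem c_pow {L : Type u} [CommRing L] [Algebra k L] (χ : Multiplicative ℤ →* L) (n : ℕ) :
    c (k := k) χ ^ n = c (χ ^ n) :=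
  Misc9.MagnetPts.chiPt_pow _ _ _

end Groth.Agent.HopfRep.GmChar

namespace Groth.Agent.S16126

open Groth.Agent.HopfRep Groth.Agent.HopfRep.AffinePts Groth.Agent.HopfRep.GmChar Groth.Agent.HopfRep.CharHom

/-- Over an algebraically closed field k, let E and G be linear algebraic groups (affine smooth k-group
schemes) with G connected, i : 𝔾_m → E a homomorphism which is a closed immersion with central
image, and f : E → G a flat surjective homomorphism with kernel i (a central extension 1 → 𝔾_m → E →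
G → 1). Then there exist a character χ : E → 𝔾_m and an integer n ≥ 1 such that χ ∘ i is the n-th
power map of 𝔾_m: for every point t of 𝔾_m with values in a k-scheme T, χ(i(t)) = tⁿ in the group of
T-points of 𝔾_m. (The published lemma is stated in a setting where all groups are linear; for a
connected G that is not linear the conclusion can fail.) -/
theorem result (k : Type u) [Field k] [IsAlgClosed k]
    (E G : Over (Spec (CommRingCat.of k))) [GrpObj E] [IsAffine E.left] [Smooth E.hom]
    [GrpObj G] [IsAffine G.left] [Smooth G.hom] [ConnectedSpace ↥G.left]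
    (i : Red.Gm (Spec (CommRingCat.of k)) ⟶ E) [IsMonHom i] [IsClosedImmersion i.left]
    (hcent : ∀ (T : Over (Spec (CommRingCat.of k))) (t : T ⟶ Red.Gm (Spec (CommRingCat.of k))) (g : T ⟶ E),
      (t ≫ i) * g = g * (t ≫ i))
    (f : E ⟶ G) [IsMonHom f] [Flat f.left] [Surjective f.left] (hker : AlgGrp.IsKernel i f) :
    ∃ (χ : E ⟶ Red.Gm (Spec (CommRingCat.of k))) (n : ℕ), IsMonHom χ ∧ 1 ≤ n ∧
      ∀ (T : Over (Spec (CommRingCat.of k))) (t : T ⟶ Red.Gm (Spec (CommRingCat.of k))), (t ≫ i) ≫ χ = t ^ n := by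
  classical
  obtain ⟨A, _, _, σ, hmul, hone⟩ := exists_hopf E
  let B := CentralChar.B k
  let of' : Multiplicative ℤ →* B := MonoidAlgebra.of k (Multiplicative ℤ)
  obtain ⟨π, hπ⟩ := e_surjective σ (c of' ≫ i)
  have hpt : ∀ (L : Type u) [CommRing L] [Algebra k L] (χ : Multiplicative ℤ →* L),
      c χ ≫ i = e σ ((MonoidAlgebra.lift k L (Multiplicative ℤ) χ).comp π) := by
    intro L _ _ χ
    rw [← e_nat, hπ, ← Category.assoc, c_nat]
    congr 2
    exact (MonoidAlgebra.lift k L _).symm_apply_apply χ |>.symm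
  let i₁ : B →ₐ[k] TensorProduct k B B := Algebra.TensorProduct.includeLeft
  let i₂ : B →ₐ[k] TensorProduct k B B := Algebra.TensorProduct.includeRight
  have hπc : (Bialgebra.comulAlgHom k B).comp π =
      (Algebra.TensorProduct.map π π).comp (Bialgebra.comulAlgHom k A) := by
    apply e_injective σ
    have h1 : Bialgebra.comulAlgHom k B = MonoidAlgebra.lift k _ (Multiplicative ℤ)
        (((i₁ : B →* _).comp of') * ((i₂ : B →* _).comp of')) :=
      MonoidAlgebra.algHom_ext (fun m => by
        rw [Bialgebra.comulAlgHom_apply, MonoidAlgebra.comul_single]; simp [i₁, i₂, of']; rfl) (Subsingleton.elim _ _)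
    have h2 : Algebra.TensorProduct.map π π = Algebra.TensorProduct.lift (i₁.comp π) (i₂.comp π) fun _ _ => .all _ _ := by
      ext <;> simp [i₁, i₂]
    rw [h1, ← hpt, h2, ← hmul, ← e_nat, ← e_nat σ i₂, hπ, ← Category.assoc, ← Category.assoc, c_nat, c_nat,
      ← MonObj.mul_comp, c_mul]
  have hπe : (Bialgebra.counitAlgHom k B).comp π = Bialgebra.counitAlgHom k A := by
    apply e_injective σ
    have h1 : Bialgebra.counitAlgHom k B = MonoidAlgebra.lift k _ (Multiplicative ℤ) 1 :=
      MonoidAlgebra.algHom_ext (fun m => by rw [Bialgebra.counitAlgHom_apply, MonoidAlgebra.counit_single]; simp) (Subsingleton.elim _ _)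
    rw [h1, ← hpt, c_one, MonObj.one_comp, ← hone k]
    congr 1
  let j₁ : B →ₐ[k] TensorProduct k B A := Algebra.TensorProduct.includeLeft
  let j₂ : A →ₐ[k] TensorProduct k B A := Algebra.TensorProduct.includeRight
  have hc : (Algebra.TensorProduct.lift (j₁.comp π) j₂ fun _ _ => .all _ _).comp (Bialgebra.comulAlgHom k A) =
      (Algebra.TensorProduct.lift j₂ (j₁.comp π) fun _ _ => .all _ _).comp (Bialgebra.comulAlgHom k A) := by
    apply e_injective σ
    rw [← hmul, ← hmul, ← e_nat σ j₁ π, hπ, ← Category.assoc, c_nat]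
    exact hcent _ _ _
  have hcent' : ∀ a, π.toLinearMap.rTensor A (Coalgebra.comul (R := k) a) =
      π.toLinearMap.rTensor A (TensorProduct.comm k A A (Coalgebra.comul (R := k) a)) := fun a => by
    have e1 : ∀ z, (Algebra.TensorProduct.lift (j₁.comp π) j₂ fun _ _ => .all _ _) z = π.toLinearMap.rTensor A z := fun z => by
      induction z with
      | zero => simp
      | add x y hx hy => simp [hx, hy]
      | tmul x y => simp [j₁, j₂]
    have e2 : ∀ z, (Algebra.TensorProduct.lift j₂ (j₁.comp π) fun _ _ => .all _ _) z =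
        π.toLinearMap.rTensor A (TensorProduct.comm k A A z) := fun z => by
      induction z with
      | zero => simp
      | add x y hx hy => simp [hx, hy]
      | tmul x y => simp [j₁, j₂]
    exact (e1 _).symm.trans ((DFunLike.congr_fun hc a).trans (e2 _))
  have hne : ∃ (n₀ : ℤ) (a₀ : A), n₀ ≠ 0 ∧ CentralChar.cf (Multiplicative.ofAdd n₀) (π a₀) ≠ 0 := by
    by_contra hcon
    push Not at hcon
    have htriv : π = (Algebra.ofId k B).comp ((MonoidAlgebra.lift k k (Multiplicative ℤ) 1).comp π) := by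
      refine AlgHom.ext fun a => MonoidAlgebra.ext (Finsupp.ext fun m => ?_)
      have hz : π a = MonoidAlgebra.single 1 ((π a).coeff 1) := MonoidAlgebra.ext (Finsupp.ext fun l => by
        rw [MonoidAlgebra.coeff_single, Finsupp.single_apply]
        split_ifs with h
        · rw [h]
        · exact hcon (Multiplicative.toAdd l) a fun h0 => h (h0.symm : _) )
      simp only [AlgHom.comp_apply, Algebra.ofId_apply]
      conv_lhs => rw [hz]
      conv_rhs => rw [hz]
      show _ = (algebraMap k (CentralChar.B k) _).coeff m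
      simp [MonoidAlgebra.coe_algebraMap, Finsupp.single_apply]
    have h1 : c of' ≫ i = c (1 : Multiplicative ℤ →* B) ≫ i := by
      conv_lhs => rw [← hπ, htriv, ← e_nat, ← hpt]
      rw [c_one, MonObj.one_comp, MonObj.comp_one, c_one, MonObj.one_comp]
    have : Mono i := (Over.forget _).mono_of_mono_map (inferInstanceAs (Mono i.left))
    have h2 := DFunLike.congr_fun (c_injective ((cancel_mono i).1 h1)) (Multiplicative.ofAdd 1)
    have h3 := congrArg (fun z : B => z.coeff 1) h2
    change ((MonoidAlgebra.single (Multiplicative.ofAdd (1 : ℤ)) (1 : k) : B)).coeff 1 = ((1 : MonoidAlgebra k (Multiplicative ℤ))).coeff 1 at h3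
    simp [MonoidAlgebra.one_def, Finsupp.single_apply] at h3
  obtain ⟨n₀, a₀, hn₀, ha₀⟩ := hne
  obtain ⟨g, n, hn, hg, hπg⟩ := CentralChar.exists_groupLike π (fun a => DFunLike.congr_fun hπc a)
    (fun a => DFunLike.congr_fun hπe a) hcent' n₀ hn₀ a₀ ha₀
  let ζ : Multiplicative ℤ →* A := (Units.coeHom A).comp (zpowersHom Aˣ hg.isUnit.unit)
  have hζ : ζ (Multiplicative.ofAdd 1) = g := by simp [ζ]
  obtain ⟨χ, he⟩ : ∃ χ : E ⟶ Red.Gm (Spec (CommRingCat.of k)),
      ∀ (L : Type u) [CommRing L] [Algebra k L] (a : A →ₐ[k] L), e σ a ≫ χ = c ((a : A →* L).comp ζ) :=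
    ⟨σ.inv ≫ c (k := k) ζ, fun L _ _ a => by rw [e, Category.assoc, Iso.hom_inv_id_assoc, c_nat]⟩
  have hχ : IsMonHom χ := by
    refine isMonHom_of_mul χ fun Y x y => pts_ext fun L _ _ a => ?_
    obtain ⟨x', hx'⟩ := e_surjective σ (a ≫ x)
    obtain ⟨y', hy'⟩ := e_surjective σ (a ≫ y)
    rw [← Category.assoc, MonObj.comp_mul, MonObj.comp_mul, ← Category.assoc, ← Category.assoc, ← hx', ← hy', hmul,
      he, he, he, c_mul]
    congr 1
    apply MonoidHom.ext_mint
    rw [MonoidHom.mul_apply]
    simp only [MonoidHom.comp_apply, hζ, MonoidHom.coe_coe, AlgHom.comp_apply, Bialgebra.comulAlgHom_apply,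
      hg.comul_eq_tmul_self, Algebra.TensorProduct.lift_tmul]
  refine ⟨χ, n, hχ, hn, fun T t => pts_ext fun L _ _ a => ?_⟩
  obtain ⟨χ₀, hχ₀⟩ := c_surjective (k := k) (a ≫ t)
  rw [MonObj.comp_pow, show a ≫ (t ≫ i) ≫ χ = ((a ≫ t) ≫ i) ≫ χ by simp, ← hχ₀, hpt, he, c_pow]
  congr 1
  apply MonoidHom.ext_mint
  simp only [MonoidHom.comp_apply, hζ, MonoidHom.coe_coe, AlgHom.comp_apply, hπg, MonoidAlgebra.lift_single, one_smul,
    MonoidHom.pow_apply]
  rw [← map_pow, ← ofAdd_nsmul]
  simp


end Groth.Agent.S16126
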