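import Groth.Statements.S16149
import Groth.Agent.ModStalk.Unit
import Groth.Prelude.Def_RefPow

set_option autoImplicit false
universe u
open CategoryTheory CategoryTheory.Limits AlgebraicGeometry TopologicalSpace
open SDiv

namespace Groth.Agent.S16149

/-- Let X be a locally Noetherian scheme, F a coherent O_X-module (quasi-coherent of finite type) and s
: O_X → F a global section of F. Then the set of points x of X at which the stalk map (O_X)_x → F_x
of s is bijective is open. (The published statement assumes moreover X integral and normal and F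
reflexive of rank one; the openness assertion uses only that F is coherent on a locally Noetherian
scheme, and it can fail for F quasi-coherent of finite type on a scheme that is not locally
Noetherian.) -/
theorem result (X : Scheme.{u}) [IsLocallyNoetherian X] (F : X.Modules) (hF : Coh.IsCoh F)
    (s : Coh.structureModule X ⟶ F) : IsOpen (RefPow.isoLocus s) := by
  have := hF.1
  have := hF.2
  rw [isOpen_iff_forall_mem_open]
  intro x hx
  obtain ⟨_, ⟨U, hU, rfl⟩, hxU, -⟩ :=
    X.isBasis_affineOpens.exists_subset_of_mem_open (Set.mem_univ x) isOpen_univ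
  have := IsLocallyNoetherian.component_noetherian ⟨U, hU⟩
  have hq : (Coh.structureModule X).IsQuasicoherent := inferInstance
  let σ : Γ(Coh.structureModule X, U) →ₗ[Γ(X, U)] Γ(F, U) :=
    { toFun := s.app U, map_add' := map_add _, map_smul' := fun r a => s.app_smul r a }
  obtain ⟨K, hK⟩ : (LinearMap.ker σ).FG := by
    have : Module.Finite Γ(X, U) Γ(Coh.structureModule X, U) := inferInstanceAs (Module.Finite Γ(X, U) Γ(X, U))
    exact IsNoetherian.noetherian _
  have := Groth.Agent.ModStalk.finite_sections hU F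
  obtain ⟨T, hT⟩ := Module.Finite.fg_top (R := Γ(X, U)) (M := Γ(F, U))
  have hgermσ : ∀ (y : X) (hy : y ∈ U) (a : Γ(Coh.structureModule X, U)),
      RefHull.stalkMapₗ s y ((Coh.structureModule X).presheaf.germ U y hy a) =
        F.presheaf.germ U y hy (σ a) := fun y hy a => RefHull.stalkMapₗ_germ s y hy a
  have hk : ∀ k ∈ K, ∃ c : Γ(X, U), x ∈ X.basicOpen c ∧ c • k = 0 := fun k hk => by
    have hk' : σ k = 0 := by
      rw [← LinearMap.mem_ker, ← hK]; exact Submodule.subset_span hk
    refine Groth.Agent.ModStalk.exists_smul_eq_zero_of_germ _ hU x hxU k (hx.1 ?_)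
    rw [hgermσ, hk', map_zero, map_zero]
  have ht : ∀ t ∈ T, ∃ c : Γ(X, U), x ∈ X.basicOpen c ∧ c • t ∈ LinearMap.range σ := fun t _ => by
    obtain ⟨v, hv⟩ := hx.2 (F.presheaf.germ U x hxU t)
    obtain ⟨c, a, hc, ha⟩ := Groth.Agent.ModStalk.exists_smul_eq_germ _ hU x hxU v
    obtain ⟨d, hd, hdt⟩ := Groth.Agent.ModStalk.exists_smul_eq_zero_of_germ F hU x hxU (c • t - σ a) (by
      rw [map_sub, Groth.Agent.ModStalk.germ_smul, ← hv, ← hgermσ, ← ha, map_smul, sub_self])
    refine ⟨d * c, by rw [Scheme.basicOpen_mul]; exact ⟨hd, hc⟩, d • a, ?_⟩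
    rw [map_smul, mul_smul]
    exact (sub_eq_zero.mp ((smul_sub d (c • t) (σ a)).symm.trans hdt)).symm
  choose ck hck hck' using hk
  choose ct hct hct' using ht
  let W : X.Opens := U ⊓ (K.attach.inf fun k => X.basicOpen (ck k.1 k.2)) ⊓
    (T.attach.inf fun t => X.basicOpen (ct t.1 t.2))
  refine ⟨W, ?_, W.isOpen, ⟨⟨hxU, Finset.inf_induction (p := fun V : X.Opens => x ∈ V) trivial
      (fun _ h₁ _ h₂ => ⟨h₁, h₂⟩) fun k _ => hck k.1 k.2⟩,
    Finset.inf_induction (p := fun V : X.Opens => x ∈ V) trivial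
      (fun _ h₁ _ h₂ => ⟨h₁, h₂⟩) fun t _ => hct t.1 t.2⟩⟩
  rintro y ⟨⟨hy, hyK⟩, hyT⟩
  have huK : ∀ k (h : k ∈ K), IsUnit (X.presheaf.germ U y hy (ck k h)) := fun k h =>
    (Scheme.mem_basicOpen _ _ _ hy).mp (Finset.inf_le (f := fun k => X.basicOpen (ck k.1 k.2))
      (Finset.mem_attach K ⟨k, h⟩) hyK)
  have huT : ∀ t (h : t ∈ T), IsUnit (X.presheaf.germ U y hy (ct t h)) := fun t h =>
    (Scheme.mem_basicOpen _ _ _ hy).mp (Finset.inf_le (f := fun t => X.basicOpen (ct t.1 t.2))
      (Finset.mem_attach T ⟨t, h⟩) hyT)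
  constructor
  · rw [injective_iff_map_eq_zero]
    intro v hv
    obtain ⟨c, a, hc, ha⟩ := Groth.Agent.ModStalk.exists_smul_eq_germ _ hU y hy v
    obtain ⟨d, hd, hda⟩ := Groth.Agent.ModStalk.exists_smul_eq_zero_of_germ F hU y hy (σ a)
      (by rw [← hgermσ, ← ha, map_smul, hv, smul_zero])
    have hmem : d • a ∈ LinearMap.ker σ := LinearMap.mem_ker.mpr ((map_smul σ d a).trans hda)
    rw [← hK] at hmem
    have hz : ∀ b ∈ Submodule.span Γ(X, U) (K : Set Γ(Coh.structureModule X, U)),
        (Coh.structureModule X).presheaf.germ U y hy b = 0 := fun b hb => by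
      induction hb using Submodule.span_induction with
      | mem k hk =>
        refine (huK k hk).smul_eq_zero.mp ?_
        rw [← Groth.Agent.ModStalk.germ_smul, hck', map_zero]
      | zero => rw [map_zero]
      | add b b' _ _ h h' => rw [map_add, h, h', add_zero]
      | smul r b _ h => rw [Groth.Agent.ModStalk.germ_smul, h, smul_zero]
    have := hz _ hmem
    rw [Groth.Agent.ModStalk.germ_smul, ← ha] at this
    exact ((Scheme.mem_basicOpen _ _ _ hy).mp hc).smul_eq_zero.mp
      (((Scheme.mem_basicOpen _ _ _ hy).mp hd).smul_eq_zero.mp this)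
  · intro v
    obtain ⟨c, b, hc, hb⟩ := Groth.Agent.ModStalk.exists_smul_eq_germ F hU y hy v
    have hrange : F.presheaf.germ U y hy b ∈ LinearMap.range (RefHull.stalkMapₗ s y) := by
      have hb' : b ∈ Submodule.span Γ(X, U) (T : Set Γ(F, U)) := hT ▸ Submodule.mem_top
      clear hb
      induction hb' using Submodule.span_induction with
      | mem t ht =>
        obtain ⟨a, ha⟩ := hct' t ht
        refine ((Submodule.smul_mem_iff_of_isUnit _ (huT t ht)).mp ?_)
        rw [← Groth.Agent.ModStalk.germ_smul, ← ha, ← hgermσ]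
        exact ⟨_, rfl⟩
      | zero => rw [map_zero]; exact Submodule.zero_mem _
      | add b b' _ _ h h' => rw [map_add]; exact Submodule.add_mem _ h h'
      | smul r b _ h => rw [Groth.Agent.ModStalk.germ_smul]; exact Submodule.smul_mem _ _ h
    rw [← hb] at hrange
    exact (Submodule.smul_mem_iff_of_isUnit _ ((Scheme.mem_basicOpen _ _ _ hy).mp hc)).mp hrange

end Groth.Agent.S16149
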