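import Groth.Statements.S16161
import Mathlib

set_option autoImplicit false
set_option linter.style.haveILetI false
universe u v
open MadRed

namespace Groth.Agent.S16161

/-- Let k be an algebraically closed field of characteristic zero and R a reduced finitely generated
commutative k-algebra whose spectrum is connected (R has no idempotents besides 0 and 1); let W =
R^n be a free R-module of finite rank and g an R-linear endomorphism of W of finite order, g^m = 1
with m > 0 (an element of finite order of GL(W)(R)). Then the action of g on W is diagonalizable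
over k: viewing g as a k-linear map, its eigenspaces for eigenvalues in k span W. The source also
assumes that g is diagonalizable over k on every fibre W ⊗ k(x), x a point of Spec R; for g of
finite order this holds automatically (k is algebraically closed of characteristic zero), as the
source itself notes, so that hypothesis is omitted. -/
theorem result
    (k : Type u) [Field k] [IsAlgClosed k] [CharZero k]
    (R : Type v) [CommRing R] [Algebra k R] [IsReduced R] [Algebra.FiniteType k R]
    (hconn : ∀ e : R, IsIdempotentElem e → e = 0 ∨ e = 1)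
    (n : ℕ) (g : Module.End R (Fin n → R)) (m : ℕ) (hm : 0 < m) (hg : g ^ m = 1) :
    ⨆ μ : k, Module.End.eigenspace (g.restrictScalars k) μ = ⊤ := by
  haveI : NeZero m := ⟨hm.ne'⟩
  haveI : NeZero (m : k) := ⟨Nat.cast_ne_zero.mpr hm.ne'⟩
  obtain ⟨ζ, hζ⟩ := HasEnoughRootsOfUnity.exists_primitiveRoot k m
  set G := g.restrictScalars k with hG
  rw [eq_top_iff]
  intro v _
  let w : ℕ → (Fin n → R) := fun j => ∑ i ∈ Finset.range m, (ζ⁻¹ ^ (i * j)) • (g ^ i) v
  have hgm : (g ^ m) v = v := by rw [hg]; rfl
  have hwj : ∀ j, w j ∈ Module.End.eigenspace G (ζ ^ j) := by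
    intro j
    rw [Module.End.mem_eigenspace_iff, hG, LinearMap.restrictScalars_apply]
    simp only [w, map_sum, LinearMap.map_smul_of_tower, Finset.smul_sum, smul_smul]
    have hstep : ∀ i, g ((g ^ i) v) = (g ^ (i + 1)) v := fun i => by rw [pow_succ', Module.End.mul_apply]
    simp only [hstep]
    have hz0 : ζ ≠ 0 := hζ.ne_zero hm.ne'
    have hc : ∀ i, ζ ^ j * ζ⁻¹ ^ ((i + 1) * j) = ζ⁻¹ ^ (i * j) := by
      intro i
      rw [add_mul, one_mul, pow_add, mul_left_comm, ← mul_pow, mul_inv_cancel₀ hz0, one_pow, mul_one]
    obtain ⟨m', hm'⟩ := Nat.exists_eq_succ_of_ne_zero hm.ne'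
    rw [hm'] at hgm ⊢
    conv_rhs => rw [Finset.sum_range_succ']
    rw [Finset.sum_range_succ]
    congr 1
    · exact Finset.sum_congr rfl fun i _ => by rw [hc i]
    · rw [hgm, zero_mul, pow_zero, mul_one, pow_zero, Module.End.one_apply]
      congr 1
      have := hc m'
      rw [← this, inv_pow, pow_mul, ← Nat.succ_eq_add_one, ← hm', hζ.pow_eq_one, one_pow, inv_one, mul_one]
  have hsum : ∑ j ∈ Finset.range m, w j = (m : k) • v := by
    simp only [w]
    rw [Finset.sum_comm, Finset.sum_eq_single 0]
    · simp only [zero_mul, pow_zero, one_smul, Module.End.one_apply, Finset.sum_const, Finset.card_range, Nat.cast_smul_eq_nsmul]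
    · intro i hi hi0
      rw [← Finset.sum_smul]
      have h1 : ζ⁻¹ ^ i ≠ 1 := hζ.inv.pow_ne_one_of_pos_of_lt hi0 (Finset.mem_range.mp hi)
      have h2 : ∑ j ∈ Finset.range m, ζ⁻¹ ^ (i * j) = 0 := by
        simp only [pow_mul]
        rw [geom_sum_eq h1, ← pow_mul, mul_comm, pow_mul, hζ.inv.pow_eq_one, one_pow, sub_self, zero_div]
      rw [h2, zero_smul]
    · intro h; exact absurd (Finset.mem_range.mpr hm) h
  have : v = (m : k)⁻¹ • ∑ j ∈ Finset.range m, w j := by
    rw [hsum, smul_smul, inv_mul_cancel₀ (NeZero.ne _), one_smul]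
  rw [this]
  exact Submodule.smul_mem _ _ (Submodule.sum_mem _ fun j _ => Submodule.mem_iSup_of_mem (ζ ^ j) (hwj j))

end Groth.Agent.S16161
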