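import Groth.Statements.S16188
import Mathlib.AlgebraicGeometry.IdealSheaf.Functorial
import Mathlib.AlgebraicGeometry.Morphisms.ClosedImmersion
-- import your own Groth.Agent.* helpers here

set_option autoImplicit false
set_option backward.isDefEq.respectTransparency false
universe u
open CategoryTheory AlgebraicGeometry TopologicalSpace
open SchMor

open CategoryTheory CategoryTheory.Limits AlgebraicGeometry TopologicalSpace
namespace Groth.Agent.S16188

/-- Let f : X → Y be a morphism of schemes with X reduced and irreducible. Then f factors through an
irreducible component of Y carrying its reduced closed-subscheme structure: there are an irreducible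
component Z of Y and a morphism g from X to the closed subscheme of Y cut out by the vanishing ideal
sheaf of Z with g followed by the inclusion equal to f; that closed subscheme is integral. -/
theorem result
    {X Y : Scheme.{u}} (f : X ⟶ Y) [IsReduced X] [IrreducibleSpace X] :
    ∃ (Z : Closeds Y) (_ : (Z : Set Y) ∈ irreducibleComponents Y)
      (_ : IsIntegral (Scheme.IdealSheafData.vanishingIdeal Z).subscheme)
      (g : X ⟶ (Scheme.IdealSheafData.vanishingIdeal Z).subscheme),
      g ≫ (Scheme.IdealSheafData.vanishingIdeal Z).subschemeι = f := by
  let η := genericPoint X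
  let Z : Closeds Y := ⟨irreducibleComponent (f η), isClosed_irreducibleComponent⟩
  have hZ : (Z : Set Y) ∈ irreducibleComponents Y := irreducibleComponent_mem_irreducibleComponents _
  let I := Scheme.IdealSheafData.vanishingIdeal Z
  haveI : IsReduced I.subscheme := by
    haveI : ∀ U, IsReduced ((I.subschemeCover.openCover).X U) := fun U => by
      haveI : _root_.IsReduced (Γ(Y, U.1) ⧸ I.ideal U) := by
        refine (Ideal.isRadical_iff_quotient_reduced _).1 ?_
        rw [Scheme.IdealSheafData.vanishingIdeal_ideal]
        exact PrimeSpectrum.isRadical_vanishingIdeal _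
      exact inferInstanceAs (IsReduced (Spec (CommRingCat.of (Γ(Y, U.1) ⧸ I.ideal U))))
    exact IsReduced.of_openCover _ I.subschemeCover.openCover
  have hr : Set.range I.subschemeι = (Z : Set Y) := by
    rw [Scheme.IdealSheafData.range_subschemeι, Scheme.IdealSheafData.coe_support_vanishingIdeal]
  haveI : IrreducibleSpace I.subscheme := by
    have h1 : IsIrreducible (Set.range I.subschemeι) := hr ▸ hZ.1
    haveI := Subtype.irreducibleSpace h1
    let e := I.subschemeι.isEmbedding.toHomeomorph
    rw [irreducibleSpace_def, Set.top_eq_univ, ← Set.range_eq_univ.2 e.symm.surjective, ← Set.image_univ]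
    exact ⟨(Set.univ_nonempty.image _), PreirreducibleSpace.isPreirreducible_univ.image _ e.symm.continuous.continuousOn⟩
  haveI : IsIntegral I.subscheme := isIntegral_of_irreducibleSpace_of_isReduced _
  have hker : I.subschemeι.ker ≤ f.ker := by
    rw [Scheme.IdealSheafData.ker_subschemeι, ← Scheme.IdealSheafData.map_bot,
      ← Scheme.nilradical_eq_bot, ← Scheme.IdealSheafData.vanishingIdeal_top, Scheme.IdealSheafData.map_vanishingIdeal]
    refine Scheme.IdealSheafData.vanishingIdeal_antimono ?_
    rw [TopologicalSpace.Closeds.closure_le]
    rintro _ ⟨x, -, rfl⟩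
    exact ((genericPoint_specializes x).map f.continuous).mem_closed isClosed_irreducibleComponent mem_irreducibleComponent
  exact ⟨Z, hZ, inferInstance, IsClosedImmersion.lift I.subschemeι f hker, IsClosedImmersion.lift_fac _ _ _⟩

end Groth.Agent.S16188
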