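import Groth.Statements.S1619
import Groth.Agent.HensPair.FieldTrdeg
import Groth.Agent.TopDim.Basic

set_option autoImplicit false
universe u
open CategoryTheory CategoryTheory.Limits AlgebraicGeometry
attribute [local instance] Curv2.stalkAlgebra Curv2.resAlgebra
open Variety

namespace Groth.Agent.S1619

/-- Let X be irreducible and locally of finite type over a field k, with generic point ξ. If the residue
field of ξ has transcendence degree n over k then X has Krull dimension n. -/
theorem result (k : Type u) [Field k] (X : Scheme.{u}) [X.Over (Spec (CommRingCat.of k))] [LocallyOfFiniteType (X ↘ (Spec (CommRingCat.of k)))] [IrreducibleSpace X]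
    (n : ℕ) (hn : Algebra.trdeg k (X.residueField (genericPoint X)) = n) : topologicalKrullDim X = n := by
  let f := X ↘ Spec (CommRingCat.of k)
  rw [Groth.Agent.HensPair.FieldTrdeg.trdeg_eq k f (genericPoint X) (Curv2.resMap k X _) rfl] at hn
  have hT : Groth.Agent.HensPair.FibreTrdeg.T f (genericPoint X) = n := by exact_mod_cast hn
  refine le_antisymm ?_ ?_
  · refine (Groth.Agent.HensPair.AltitudeScheme.dim_le f n fun ξ hξ => ?_).trans ?_
    · rw [irreducibleComponents_eq_singleton, Set.mem_singleton_iff] at hξ
      obtain rfl : ξ = genericPoint X := IsGenericPoint.eq (S := Set.univ) hξ (genericPoint_spec X)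
      exact le_of_eq ((Groth.Agent.HensPair.FibreTrdeg.T_spec f _).trans hn)
    · have h0 : topologicalKrullDim ↥(Spec (CommRingCat.of k)) = 0 := by
        rw [show topologicalKrullDim ↥(Spec (CommRingCat.of k)) = ringKrullDim k from
          PrimeSpectrum.topologicalKrullDim_eq_ringKrullDim k, ringKrullDim_eq_zero_of_field]
      rw [h0, zero_add]
  · obtain ⟨j, hj, -, hd⟩ := Groth.Agent.HensPair.FieldTrdeg.main f (genericPoint X)
    have hgen : ∀ q : X, genericPoint X ≤ q → q ≤ genericPoint X := fun q _ => (genericPoint_spec X).specializes trivial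
    have h0 : Order.coheight (genericPoint X) = 0 := Order.coheight_eq_zero.mpr fun q hq => hgen q hq
    rw [h0] at hj
    have hj0 : j = 0 := by exact_mod_cast hj.symm
    rw [hj0, Nat.zero_add, hT] at hd
    exact hd.symm.le.trans (Groth.Agent.TopDim.Basic.localDim_le_dim _)

end Groth.Agent.S1619
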