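import Groth.Statements.S16194
import Mathlib.RingTheory.Jacobson.Ideal
import Mathlib.Tactic.Abel

set_option autoImplicit false
universe u
open DivAlg

namespace Groth.Agent.S16194

/-- In an associative unital ring R, not necessarily commutative, every element r of the Jacobson
radical (the set of elements lying in every maximal left ideal) is quasiregular, i.e. 1 - r is a
two-sided unit. -/
theorem result {R : Type u} [Ring R] (r : R)
    (hr : r ∈ Ring.jacobson R) : IsUnit (1 - r) := by
  have hJ : r ∈ Ideal.jacobson (⊥ : Ideal R) := by rwa [Ideal.jacobson_bot]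
  obtain ⟨s, hs⟩ := Ideal.exists_mul_sub_mem_of_sub_one_mem_jacobson (I := (⊥ : Ideal R)) (1 - r)
    (by simpa using hJ)
  rw [Ideal.mem_bot, sub_eq_zero] at hs
  have hs' : s - 1 ∈ Ideal.jacobson (⊥ : Ideal R) := by
    have : s - 1 = s * r := by rw [mul_sub, mul_one] at hs; rw [← hs]; abel
    rw [this]; exact Ideal.mul_mem_left _ s hJ
  obtain ⟨t, ht⟩ := Ideal.exists_mul_sub_mem_of_sub_one_mem_jacobson s hs'
  rw [Ideal.mem_bot, sub_eq_zero] at ht
  have h1 : t = 1 - r := calc t = t * (s * (1 - r)) := by rw [hs, mul_one]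
      _ = 1 - r := by rw [← mul_assoc, ht, one_mul]
  exact ⟨⟨1 - r, s, h1 ▸ ht, hs⟩, rfl⟩

end Groth.Agent.S16194
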