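import Groth.Statements.S16196
import Mathlib

set_option autoImplicit false
universe u v
open DivAlg

namespace Groth.Agent.S16196

/-- Let R be a ring (associative, unital, not necessarily commutative) and M a left R-module which is a
generator, in the form: for some n there is an R-linear surjection from M^n onto R. Then the natural
ring homomorphism from R to the double endomorphism ring BiEnd_R(M) = End_{End_R(M)}(M)
(endomorphisms of M commuting with every R-linear endomorphism), r ↦ multiplication by r, is
bijective. (The printed form takes R an algebra over a commutative ring k, embeds R in E = End_k(M)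
and asserts R = C_E(C_E(R)); the double centralizer there is BiEnd_R(M).) -/
theorem result {R : Type u} [Ring R] (M : Type v)
    [AddCommGroup M] [Module R M]
    (hgen : ∃ (n : ℕ) (f : (Fin n → M) →ₗ[R] R), Function.Surjective f) :
    Function.Bijective (Module.toModuleEnd (Module.End R M) (S := R) M) := by
  classical
  obtain ⟨n, f, hf⟩ := hgen
  obtain ⟨x, hx⟩ := hf 1
  let g : Fin n → (M →ₗ[R] R) := fun i => f ∘ₗ LinearMap.single R (fun _ => M) i
  have hsum : ∑ i, g i (x i) = 1 := by
    simp only [g, LinearMap.comp_apply, LinearMap.coe_single]
    rw [← map_sum, Finset.univ_sum_single, hx]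
  refine ⟨(injective_iff_map_eq_zero _).mpr fun r hr => ?_, fun T => ?_⟩
  · have h0 : ∀ m : M, r • m = 0 := fun m => LinearMap.congr_fun hr m
    calc r = r * ∑ i, g i (x i) := by rw [hsum, mul_one]
      _ = ∑ i, g i (r • x i) := by simp [Finset.mul_sum]
      _ = 0 := by simp [h0]
  · refine ⟨∑ i, g i (T (x i)), LinearMap.ext fun m => ?_⟩
    let φ : Fin n → Module.End R M := fun i => (g i).smulRight m
    show (∑ i, g i (T (x i))) • m = T m
    calc (∑ i, g i (T (x i))) • m = ∑ i, φ i • T (x i) := by simp [φ, Finset.sum_smul]
      _ = ∑ i, T (φ i • x i) := Finset.sum_congr rfl fun i _ => (T.map_smul (φ i) (x i)).symm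
      _ = T m := by rw [← map_sum]; congr 1; simp [φ, ← Finset.sum_smul, hsum]

end Groth.Agent.S16196
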