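import Groth.Statements.S16197
import Mathlib

set_option autoImplicit false
universe u v w
open DivAlg

namespace Groth.Agent.S16197

/-- Let R be a ring (associative, unital, not necessarily commutative) and M a left R-module which is a
generator, used here only through the existence of an R-linear surjection from a direct sum of
copies of M, indexed by an arbitrary type, onto R. Then some finite power M^n decomposes as R × Q
for a submodule Q of M^n. (The published statement is an equivalence; this row states only the
implication from the existence of such a surjection to the splitting.) -/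
theorem result {R : Type u} [Ring R] (M : Type v)
    [AddCommGroup M] [Module R M]
    (hgen : ∃ (ι : Type w) (f : (ι →₀ M) →ₗ[R] R), Function.Surjective f) :
    ∃ (n : ℕ) (Q : Submodule R (Fin n → M)), Nonempty ((Fin n → M) ≃ₗ[R] (R × Q)) := by
  classical
  obtain ⟨ι, f, hf⟩ := hgen
  obtain ⟨x, hx⟩ := hf 1
  let s := x.support
  let e : Fin s.card → ι := fun i => (s.equivFin.symm i : ι)
  let f' : (Fin s.card → M) →ₗ[R] R := ∑ i, f ∘ₗ Finsupp.lsingle (e i) ∘ₗ LinearMap.proj i
  let v : Fin s.card → M := fun i => x (e i)
  have hv : f' v = 1 := by
    rw [← hx]
    conv_rhs => rw [← x.sum_single, Finsupp.sum, map_sum, ← Finset.sum_coe_sort s]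
    simp only [f', LinearMap.sum_apply, LinearMap.comp_apply, LinearMap.proj_apply, Finsupp.lsingle_apply, v, e]
    exact s.equivFin.symm.sum_comp (fun i : s => f (Finsupp.single i.1 (x i.1)))
  exact ⟨s.card, LinearMap.ker f', ⟨
    { toFun := fun w => (f' w, ⟨w - f' w • v, by simp [hv]⟩)
      invFun := fun p => p.1 • v + p.2.1
      map_add' := fun a b => Prod.ext (map_add f' a b) (Subtype.ext (by simp [add_smul]; abel))
      map_smul' := fun r a => Prod.ext (map_smul f' r a) (Subtype.ext (by simp [smul_sub, smul_smul]))
      left_inv := fun w => by simp
      right_inv := fun p => by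
        have h : f' p.2.1 = 0 := p.2.2
        have h' : f' (p.1 • v + p.2.1) = p.1 := by simp [hv, h]
        exact Prod.ext h' (Subtype.ext (by simp [hv, h])) }⟩⟩

end Groth.Agent.S16197
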