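import Groth.Statements.S16198
import Mathlib.RingTheory.PicardGroup
import Mathlib.LinearAlgebra.PiTensorProduct.Basic
import Mathlib.LinearAlgebra.Matrix.Determinant.Basic
import Mathlib.LinearAlgebra.Alternating.Basic

set_option autoImplicit false
universe u v
open DivAlg

namespace Groth.Agent.S16198

open scoped TensorProduct

variable {R : Type u} [CommRing R] (N : Type v) [AddCommGroup N] [Module R N]

theorem pic_pow [Module.Invertible R N] (k : ℕ) :
    ∃ _ : Module.Invertible R (⨂[R] _ : Fin k, N),
      CommRing.Pic.mk R (⨂[R] _ : Fin k, N) = CommRing.Pic.mk R N ^ k := by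
  induction k with
  | zero =>
    have e : (⨂[R] _ : Fin 0, N) ≃ₗ[R] R := PiTensorProduct.isEmptyEquiv (Fin 0)
    haveI : Module.Invertible R (⨂[R] _ : Fin 0, N) := Module.Invertible.congr e.symm
    exact ⟨this, by rw [pow_zero]; exact CommRing.Pic.mk_eq_one_iff.2 ⟨e⟩⟩
  | succ k ih =>
    obtain ⟨hinv, hmk⟩ := ih
    have e : ((⨂[R] _ : Fin k, N) ⊗[R] N) ≃ₗ[R] (⨂[R] _ : Fin (k + 1), N) :=
      TensorProduct.congr (LinearEquiv.refl R _) (PiTensorProduct.subsingletonEquiv (R := R) (s := fun _ : Fin 1 => N) (0 : Fin 1)).symm ≪≫ₗ
        PiTensorProduct.tmulEquiv R N ≪≫ₗ PiTensorProduct.reindex R (fun _ => N) finSumFinEquiv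
    haveI : Module.Invertible R (⨂[R] _ : Fin (k + 1), N) := Module.Invertible.congr e
    exact ⟨this, by rw [pow_succ, ← hmk, ← CommRing.Pic.mk_tensor, CommRing.Pic.mk_eq_mk_iff]; exact ⟨e.symm⟩⟩

variable {N} in
theorem bilin_zero [Module.Invertible R N] (B : N → N → R)
    (hl : ∀ (c : R) a b, B (c • a) b = c * B a b) (hr : ∀ (c : R) a b, B a (c • b) = c * B a b)
    (h0 : ∀ a, B a a = 0) (a b : N) : B a b = 0 := by
  have comm : ∀ (f : Module.Dual R N) (x y : N), f x • y = f y • x := fun f x y => by
    simpa using congrArg (fun t => TensorProduct.lid R N (f.rTensor N t))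
      (Module.Invertible.tmul_comm (R := R) (m₁ := x) (m₂ := y))
  have hsq : ∀ (f : Module.Dual R N) (m : N), f m * f m * B a b = 0 := fun f m =>
    calc f m * f m * B a b = B (f m • a) (f m • b) := by rw [hl, hr]; ring
      _ = B (f a • m) (f b • m) := by rw [comm f m a, comm f m b]
      _ = 0 := by rw [hl, hr, h0]; ring
  let S : Set R := {x | ∃ (f : Module.Dual R N) (m : N), x = f m}
  have hS : Ideal.span S = ⊤ := by
    rw [Ideal.eq_top_iff_one, ← (Module.Invertible.linearEquiv R N).apply_symm_apply 1]
    generalize (Module.Invertible.linearEquiv R N).symm (1 : R) = t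
    induction t with
    | zero => simp
    | tmul f m => exact Ideal.subset_span ⟨f, m, rfl⟩
    | add x y hx hy => rw [map_add]; exact add_mem hx hy
  have h2 := Ideal.span_pow_eq_top S hS 2
  let J : Ideal R := LinearMap.ker (LinearMap.mulRight R (B a b))
  have hJ : Ideal.span ((fun x => x ^ 2) '' S) ≤ J := by
    rw [Ideal.span_le]
    rintro _ ⟨_, ⟨f, m, rfl⟩, rfl⟩
    show f m ^ 2 * B a b = 0
    rw [sq]; exact hsq f m
  rw [h2, top_le_iff] at hJ
  have : (1 : R) ∈ J := hJ ▸ Submodule.mem_top
  simpa [J] using this


/-- In the case of a commutative ring R, let N be an invertible R-module such that the direct sum N^n is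
isomorphic to R^n for some natural number n. Then the class of N in Pic(R) satisfies [N]^n = 1. (The
published statement is for invertible modules on an arbitrary ringed site; this row states the case
of a commutative ring.) -/
theorem result {R : Type u} [CommRing R] (N : Type v)
    [AddCommGroup N] [Module R N] [Module.Invertible R N] (n : ℕ)
    (e : (Fin n → N) ≃ₗ[R] (Fin n → R)) :
    CommRing.Pic.mk R N ^ n = 1 := by
  classical
  obtain ⟨hinv, hmk⟩ := pic_pow (R := R) N n
  rw [← hmk, CommRing.Pic.mk_eq_one_iff]
  let f : Fin n → (N →ₗ[R] (Fin n → R)) := fun j => e.toLinearMap ∘ₗ LinearMap.single R (fun _ => N) j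
  let Φ : MultilinearMap R (fun _ : Fin n => N) R :=
    (Matrix.detRowAlternating (R := R) (n := Fin n)).toMultilinearMap.compLinearMap f
  let φ := PiTensorProduct.lift Φ
  suffices hs : Function.Surjective φ from
    ⟨LinearEquiv.ofBijective φ (Module.Invertible.bijective_of_surjective hs)⟩
  have h1 : (1 : R) ∈ LinearMap.range φ := by
    have hdet : (Matrix.detRowAlternating (R := R) (n := Fin n))
        (fun k => ∑ j, f j (e.symm (Pi.single k 1) j)) = 1 := by
      have : (fun k => ∑ j, f j (e.symm (Pi.single k (1 : R)) j)) = fun k => Pi.single k 1 := by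
        funext k
        simp only [f, LinearMap.comp_apply, LinearEquiv.coe_coe, ← map_sum, LinearMap.coe_single]
        rw [Finset.univ_sum_single]
        exact e.apply_symm_apply _
      rw [this]
      have hI : (fun k => Pi.single k (1 : R)) = (1 : Matrix (Fin n) (Fin n) R) := by
        ext a b
        simp [Matrix.one_apply, Pi.single_apply, eq_comm]
      exact (congrArg Matrix.det hI).trans Matrix.det_one
    rw [← hdet]
    erw [MultilinearMap.map_sum (Matrix.detRowAlternating (R := R) (n := Fin n)).toMultilinearMap
      (fun k j => f j (e.symm (Pi.single k (1 : R)) j))]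
    refine Submodule.sum_mem _ fun r _ => ?_
    by_cases hr : Function.Injective r
    · let σ : Equiv.Perm (Fin n) := Equiv.ofBijective r (Finite.injective_iff_bijective.1 hr)
      let v : Fin n → N := fun j => e.symm (Pi.single (σ.symm j) (1 : R)) j
      have hv : (fun k => f (r k) (e.symm (Pi.single k (1 : R)) (r k))) = (fun j => f j (v j)) ∘ σ := by
        funext k
        show _ = f (r k) (v (σ k))
        simp only [v, Equiv.symm_apply_apply]
        rfl
      show (Matrix.detRowAlternating (R := R) (n := Fin n))
        (fun k => f (r k) (e.symm (Pi.single k (1 : R)) (r k))) ∈ LinearMap.range φ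
      rw [hv, AlternatingMap.map_perm, Units.smul_def]
      refine zsmul_mem ?_ _
      exact LinearMap.mem_range.2 ⟨PiTensorProduct.tprod R v, PiTensorProduct.lift.tprod v⟩
    · obtain ⟨k, l, hkl, hne⟩ := Function.not_injective_iff.1 hr
      convert Submodule.zero_mem _ using 1
      let w : Fin n → (Fin n → R) := fun k => f (r k) (e.symm (Pi.single k (1 : R)) (r k))
      let D := Matrix.detRowAlternating (R := R) (n := Fin n)
      have key := bilin_zero (N := N)
        (fun a b => D (Function.update (Function.update w k (f (r k) a)) l (f (r k) b)))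
        (fun c a b => by
          simp only [map_smul, Function.update_comm hne, AlternatingMap.map_update_smul, smul_eq_mul])
        (fun c a b => by simp only [map_smul, AlternatingMap.map_update_smul, smul_eq_mul])
        (fun a => D.map_eq_zero_of_eq _ (by simp [Function.update_of_ne hne]) hne)
        (e.symm (Pi.single k (1 : R)) (r k)) (e.symm (Pi.single l (1 : R)) (r k))
      have hw : Function.update (Function.update w k (f (r k) (e.symm (Pi.single k (1 : R)) (r k)))) l
          (f (r k) (e.symm (Pi.single l (1 : R)) (r k))) = w := by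
        rw [Function.update_eq_self, hkl]
        exact Function.update_eq_self l w
      rw [hw] at key
      exact key
  intro y
  obtain ⟨x, hx⟩ := h1
  exact ⟨y • x, by rw [map_smul, hx, smul_eq_mul, mul_one]⟩

end Groth.Agent.S16198
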