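import Groth.Statements.S1620
import Groth.Agent.HensPair.FibreSpec
import Groth.Agent.HensPair.FieldTrdeg

set_option autoImplicit false
universe u
open CategoryTheory CategoryTheory.Limits AlgebraicGeometry
attribute [local instance] Curv2.stalkAlgebra Curv2.resAlgebra
open Variety

namespace Groth.Agent.S1620

/-- Let X be locally of finite type over a field k and x ⤳ x' an immediate specialisation (x ≠ x' and no
point strictly in between). If the residue field of x' has transcendence degree n over k then the
residue field of x has transcendence degree n + 1. -/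
theorem result (k : Type u) [Field k] (X : Scheme.{u}) [X.Over (Spec (CommRingCat.of k))] [LocallyOfFiniteType (X ↘ (Spec (CommRingCat.of k)))] (x x' : X) (hne : x ≠ x') (hsp : x ⤳ x')
    (himm : ∀ y : X, x ⤳ y → y ⤳ x' → y = x ∨ y = x')
    (n : ℕ) (hn : Algebra.trdeg k (X.residueField x') = n) : Algebra.trdeg k (X.residueField x) = n + 1 := by
  let f := X ↘ Spec (CommRingCat.of k)
  have he : ∀ z : X, Algebra.trdeg k (X.residueField z) = (Groth.Agent.HensPair.FibreTrdeg.T f z : Cardinal.{u}) :=
    fun z => Groth.Agent.HensPair.FieldTrdeg.trdeg_eq k f z (Curv2.resMap k X z) rfl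
  rw [he] at hn ⊢
  obtain ⟨h1, h2⟩ := Groth.Agent.HensPair.FibreSpec.T_bounds f x x' hsp hne (Subsingleton.elim _ _)
  have h3 := h2 fun y _ => himm y
  have h4 : Groth.Agent.HensPair.FibreTrdeg.T f x' = n := by exact_mod_cast hn
  rw [show Groth.Agent.HensPair.FibreTrdeg.T f x = n + 1 by omega]
  push_cast
  rfl

end Groth.Agent.S1620
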