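import Groth.Statements.S16200
import Mathlib

set_option autoImplicit false
universe u v
open DivAlg

namespace Groth.Agent.S16200

/-- Let R be a Dedekind domain, N an invertible R-module and n a natural number with [N]^n = 1 in
Pic(R). Then the direct sum N^n is isomorphic to R^n; thus over a Dedekind domain the invertible
modules N with N^n ≅ R^n are exactly the n-torsion classes of Pic(R), the other inclusion holding
over any commutative ring. -/
theorem result {R : Type u} [CommRing R]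
    [IsDedekindDomain R] (N : Type v) [AddCommGroup N] [Module R N] [Module.Invertible R N]
    (n : ℕ) (h : CommRing.Pic.mk R N ^ n = 1) :
    Nonempty ((Fin n → N) ≃ₗ[R] (Fin n → R)) := by
  classical
  obtain ⟨I, ⟨eN⟩⟩ := Module.Invertible.exists_linearEquiv_ideal R N
  have hI0 : I ≠ ⊥ := by
    intro hI
    subst hI
    have : Subsingleton N := eN.toEquiv.subsingleton
    have h1 := (Module.Invertible.linearEquiv R N).symm.injective (a₁ := 1) (a₂ := 0)
      (Subsingleton.elim _ _)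
    exact one_ne_zero h1
  let K := FractionRing R
  have hinj : Function.Injective (Algebra.linearMap R K) := IsFractionRing.injective R K
  let cs : Ideal R → Submodule R K := fun J => IsLocalization.coeSubmodule K J
  have hunit : IsUnit (cs I) := by
    have h1 : IsUnit ((I : FractionalIdeal (nonZeroDivisors R) K)) := isUnit_iff_ne_zero.mpr (by simpa using hI0)
    obtain ⟨b, hb⟩ := isUnit_iff_exists_inv.mp h1
    refine IsUnit.of_mul_eq_one (b : Submodule R K) ?_
    have h2 := congrArg (fun X : FractionalIdeal (nonZeroDivisors R) K => (X : Submodule R K)) hb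
    simpa [cs, FractionalIdeal.coe_mul, FractionalIdeal.coe_one] using h2
  have hpow : ∀ k : ℕ, cs (I ^ k) = cs I ^ k := by
    intro k
    induction k with
    | zero => simp only [cs, pow_zero, Ideal.one_eq_top, IsLocalization.coeSubmodule_top]
    | succ k ih => rw [pow_succ, pow_succ, ← ih]; exact IsLocalization.coeSubmodule_mul K _ _
  let emb : ∀ J : Ideal R, J ≃ₗ[R] cs J := fun J => Submodule.equivMapOfInjective _ hinj J
  let U := hunit.unit
  have hmk : CommRing.Pic.mk R N = Submodule.unitsToPic R K U := by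
    rw [Submodule.unitsToPic_apply, CommRing.Pic.mk_eq_mk_iff]
    exact ⟨eN ≪≫ₗ emb I ≪≫ₗ LinearEquiv.ofEq _ _ hunit.unit_spec.symm⟩
  have hprin : Nonempty ((I ^ n : Ideal R) ≃ₗ[R] R) := by
    rw [hmk, ← map_pow, Submodule.unitsToPic_apply, CommRing.Pic.mk_eq_one_iff] at h
    obtain ⟨e⟩ := h
    exact ⟨emb (I ^ n) ≪≫ₗ LinearEquiv.ofEq _ _ (by rw [hpow]; simp [U]) ≪≫ₗ e⟩
  -- Steinitz
  have hscale : ∀ (c : R) (_ : c ≠ 0) (J : Ideal R), Nonempty (J ≃ₗ[R] (Ideal.span {c} * J : Ideal R)) := by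
    intro c hc J
    exact ⟨Submodule.equivMapOfInjective (LinearMap.mulLeft R c) (mul_right_injective₀ hc) J ≪≫ₗ
      LinearEquiv.ofEq _ _ (by
        ext y
        simp [Ideal.mem_span_singleton_mul, eq_comm])⟩
  have hstep : ∀ A B : Ideal R, A ≠ ⊥ → B ≠ ⊥ → Nonempty ((A × B) ≃ₗ[R] (R × (A * B : Ideal R))) := by
    intro A B hA hB
    obtain ⟨a, ha, ha0⟩ := Submodule.exists_mem_ne_zero_of_ne_bot hB
    obtain ⟨K', hK⟩ := Ideal.dvd_iff_le.mpr ((Ideal.span_singleton_le_iff_mem B).mpr ha)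
    have hK0 : K' ≠ ⊥ := by
      intro h0; subst h0
      rw [Ideal.mul_bot, Ideal.span_singleton_eq_bot] at hK
      exact ha0 hK
    obtain ⟨b₀, hb₀⟩ := IsDedekindDomain.exists_sup_span_eq (I := A * K') (J := K') Ideal.mul_le_right
      (mul_ne_zero hA hK0)
    obtain ⟨b, hb, hb0⟩ : ∃ b, A * K' ⊔ Ideal.span {b} = K' ∧ b ≠ 0 := by
      by_cases h0 : b₀ = 0
      · subst h0
        obtain ⟨z, hz, hz0⟩ := Submodule.exists_mem_ne_zero_of_ne_bot (mul_ne_zero hA hK0 : A * K' ≠ ⊥)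
        refine ⟨z, ?_, hz0⟩
        rw [sup_eq_left.mpr ((Ideal.span_singleton_le_iff_mem _).mpr hz)]
        simpa using hb₀
      · exact ⟨b₀, hb₀, h0⟩
    obtain ⟨B', hB'⟩ := Ideal.dvd_iff_le.mpr (le_sup_right.trans hb.le)
    have hco : A ⊔ B' = ⊤ := mul_left_cancel₀ hK0 (show K' * (A ⊔ B') = K' * ⊤ by
      rw [Ideal.mul_sup, Ideal.mul_top, ← hB', mul_comm K' A]; exact hb)
    have hBB : Ideal.span {a} * B' = Ideal.span {b} * B := by rw [hK, hB']; ring
    obtain ⟨e₁⟩ := hscale b hb0 B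
    obtain ⟨e₂⟩ := hscale a ha0 B'
    let eB : B ≃ₗ[R] B' := e₁ ≪≫ₗ LinearEquiv.ofEq _ _ hBB.symm ≪≫ₗ e₂.symm
    obtain ⟨p, hp, q, hq, hpq⟩ := Submodule.mem_sup.mp (hco.symm ▸ Submodule.mem_top : (1 : R) ∈ A ⊔ B')
    let pr : (A × B') ≃ₗ[R] (R × (A ⊓ B' : Ideal R)) :=
      { toFun := fun v => (v.1.1 + v.2.1, ⟨v.1.1 * q - v.2.1 * p,
          sub_mem (A.mul_mem_right q v.1.2) (A.mul_mem_left _ hp),
          sub_mem (B'.mul_mem_left _ hq) (B'.mul_mem_right p v.2.2)⟩)
        invFun := fun w => (⟨w.1 * p + w.2.1, add_mem (A.mul_mem_left _ hp) w.2.2.1⟩,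
          ⟨w.1 * q - w.2.1, sub_mem (B'.mul_mem_left _ hq) w.2.2.2⟩)
        map_add' := fun u v => Prod.ext (by simp; ring) (Subtype.ext (by simp; ring))
        map_smul' := fun r v => Prod.ext (by simp; ring) (Subtype.ext (by simp; ring))
        left_inv := fun v => Prod.ext (Subtype.ext (by simp; linear_combination (v.1.1 : R) * hpq))
          (Subtype.ext (by simp; linear_combination (v.2.1 : R) * hpq))
        right_inv := fun w => Prod.ext (by simp; linear_combination (w.1 : R) * hpq)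
          (Subtype.ext (by simp; linear_combination (w.2.1 : R) * hpq)) }
    have hprod : A ⊓ B' = A * B' := (Ideal.mul_eq_inf_of_coprime hco).symm
    have hAB : Nonempty ((A * B' : Ideal R) ≃ₗ[R] (A * B : Ideal R)) := by
      obtain ⟨f₁⟩ := hscale a ha0 (A * B')
      obtain ⟨f₂⟩ := hscale b hb0 (A * B)
      exact ⟨f₁ ≪≫ₗ LinearEquiv.ofEq _ _ (by rw [mul_left_comm, hBB, mul_left_comm]) ≪≫ₗ f₂.symm⟩
    obtain ⟨eAB⟩ := hAB
    exact ⟨(LinearEquiv.refl R A).prodCongr eB ≪≫ₗ pr ≪≫ₗ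
      (LinearEquiv.refl R R).prodCongr (LinearEquiv.ofEq _ _ hprod ≪≫ₗ eAB)⟩
  have hmain : ∀ k : ℕ, Nonempty ((Fin (k + 1) → I) ≃ₗ[R] ((Fin k → R) × (I ^ (k + 1) : Ideal R))) := by
    intro k
    induction k with
    | zero => exact ⟨LinearEquiv.funUnique (Fin 1) R I ≪≫ₗ LinearEquiv.ofEq _ _ (pow_one I).symm ≪≫ₗ
        (LinearEquiv.uniqueProd).symm⟩
    | succ k ih =>
      obtain ⟨e⟩ := ih
      obtain ⟨f⟩ := hstep (I ^ (k + 1)) I (pow_ne_zero _ hI0) hI0
      exact ⟨(Fin.consLinearEquiv R fun _ : Fin (k + 2) => I).symm ≪≫ₗ (LinearEquiv.refl R I).prodCongr e ≪≫ₗ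
        LinearEquiv.prodComm R _ _ ≪≫ₗ LinearEquiv.prodAssoc R _ _ _ ≪≫ₗ (LinearEquiv.refl R _).prodCongr f ≪≫ₗ
        (LinearEquiv.prodAssoc R _ _ _).symm ≪≫ₗ
        (LinearEquiv.prodComm R (Fin k → R) R ≪≫ₗ Fin.consLinearEquiv R fun _ : Fin (k + 1) => R).prodCongr
          (LinearEquiv.ofEq _ _ (pow_succ I (k + 1)).symm)⟩
  cases n with
  | zero => exact ⟨{ (0 : (Fin 0 → N) →ₗ[R] (Fin 0 → R)) with
      invFun := 0
      left_inv := fun _ => Subsingleton.elim _ _
      right_inv := fun _ => Subsingleton.elim _ _ }⟩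
  | succ k =>
    obtain ⟨e⟩ := hmain k
    obtain ⟨f⟩ := hprin
    exact ⟨LinearEquiv.piCongrRight (fun _ => eN) ≪≫ₗ e ≪≫ₗ (LinearEquiv.refl R _).prodCongr f ≪≫ₗ
      LinearEquiv.prodComm R _ _ ≪≫ₗ Fin.consLinearEquiv R fun _ : Fin (k + 1) => R⟩

end Groth.Agent.S16200
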