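import Groth.Statements.S16220
import Groth.Agent.DieuPerf.Witt

set_option autoImplicit false
universe u v
open Disp

namespace Groth.Agent.S16220

/-- Let p be a prime and k a perfect ring of characteristic p, so that the Frobenius σ of W = W(k) is
bijective, W has no p-torsion and W/p^n W = W_n(k) (the ideal p^n W is the kernel of the truncation
to length n). Let n ≥ 2 and let M be a truncated Dieudonné module of level n over k: a W-module on
which W acts through W/p^n W, finitely generated and projective over W/p^n W, with a σ-semilinear F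
: M → M and a σ⁻¹-semilinear V : M → M such that FV = VF = p. Then on M/pM the kernel of F is the
image of V and the kernel of V is the image of F; stated inside M: the preimage of pM under F is VM
+ pM, and the preimage of pM under V is FM + pM. -/
theorem result (p : ℕ) [Fact p.Prime] (k : Type u) [CommRing k]
    [CharP k p] [PerfectRing k p] (n : ℕ) (hn : 2 ≤ n)
    (M : Type v) [AddCommGroup M] [Module (WittVector p k) M]
    [Module (WittVector p k ⧸ Ideal.span {(p : WittVector p k) ^ n}) M] [IsScalarTower (WittVector p k) (WittVector p k ⧸ Ideal.span {(p : WittVector p k) ^ n}) M]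
    [Module.Finite (WittVector p k ⧸ Ideal.span {(p : WittVector p k) ^ n}) M] [Module.Projective (WittVector p k ⧸ Ideal.span {(p : WittVector p k) ^ n}) M]
    (F : M →ₛₗ[(WittVector.frobenius : WittVector p k →+* WittVector p k)] M)
    (V : M →ₛₗ[((WittVector.frobeniusEquiv p k).symm : WittVector p k →+* WittVector p k)] M)
    (hFV : ∀ m : M, F (V m) = (p : WittVector p k) • m) (hVF : ∀ m : M, V (F m) = (p : WittVector p k) • m) :
    (Ideal.span {(p : WittVector p k)} • (⊤ : Submodule (WittVector p k) M)).comap F =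
        Submodule.span (WittVector p k) (Set.range V) ⊔ Ideal.span {(p : WittVector p k)} • (⊤ : Submodule (WittVector p k) M) ∧
      (Ideal.span {(p : WittVector p k)} • (⊤ : Submodule (WittVector p k) M)).comap V =
        Submodule.span (WittVector p k) (Set.range F) ⊔ Ideal.span {(p : WittVector p k)} • (⊤ : Submodule (WittVector p k) M) := by
  have hc := Groth.Agent.DieuPerf.Witt.hasCoord_trunc (p := p) (k := k) (M := M)
    (Ideal.span {(p : WittVector p k) ^ n})
  have hJ : ∀ c : WittVector p k, (p : WittVector p k) * c ∈ (⊥ : Ideal (WittVector p k)) ⊔ Ideal.span {(p : WittVector p k) ^ n} →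
      c ∈ Groth.Agent.DieuPerf.Witt.P p k := fun c hc => by
    rw [bot_sup_eq] at hc
    obtain ⟨d, hd⟩ := Ideal.mem_span_singleton'.1 hc
    obtain ⟨m, rfl⟩ : ∃ m, n = m + 2 := ⟨n - 2, by omega⟩
    have h0 : c - d * (p : WittVector p k) ^ (m + 1) = 0 :=
      WittVector.eq_zero_of_p_mul_eq_zero _ (by rw [mul_comm, mul_sub, ← hd]; ring)
    rw [sub_eq_zero.1 h0]
    exact Ideal.mem_span_singleton'.2 ⟨d * (p : WittVector p k) ^ m, by ring⟩
  have key : ∀ z : M, (p : WittVector p k) • z = 0 → z ∈ Groth.Agent.DieuPerf.Witt.PM p k M := fun z hz =>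
    Groth.Agent.DieuPerf.Witt.mem_of_p_smul hc hJ (by rw [hz]; exact zero_mem _)
  constructor <;> apply le_antisymm
  · intro m hm
    obtain ⟨y, hy⟩ := Groth.Agent.DieuPerf.Witt.exists_of_mem_PM (Submodule.mem_comap.1 hm)
    have h := key (m - V y) (by rw [← hVF, map_sub, hFV, hy, sub_self, map_zero])
    rw [← add_sub_cancel (V y) m]
    exact Submodule.add_mem_sup (Submodule.subset_span ⟨y, rfl⟩) h
  · exact sup_le (Submodule.span_le.2 fun _ ⟨y, hy⟩ => hy ▸ Groth.Agent.DieuPerf.Witt.F_V_mem F V hFV y)
      fun z hz => Groth.Agent.DieuPerf.Witt.F_PM F hz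
  · intro m hm
    obtain ⟨y, hy⟩ := Groth.Agent.DieuPerf.Witt.exists_of_mem_PM (Submodule.mem_comap.1 hm)
    have h := key (m - F y) (by rw [← hFV, map_sub, hVF, hy, sub_self, map_zero])
    rw [← add_sub_cancel (F y) m]
    exact Submodule.add_mem_sup (Submodule.subset_span ⟨y, rfl⟩) h
  · refine sup_le (Submodule.span_le.2 fun _ ⟨y, hy⟩ => hy ▸ ?_) fun z hz => Groth.Agent.DieuPerf.Witt.V_PM V hz
    show V (F y) ∈ Ideal.span {(p : WittVector p k)} • (⊤ : Submodule (WittVector p k) M)
    rw [hVF]
    exact Submodule.smul_mem_smul (Ideal.mem_span_singleton_self _) Submodule.mem_top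

end Groth.Agent.S16220
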