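import Groth.Statements.S16234
import Mathlib
-- import your own Groth.Agent.* helpers here

set_option autoImplicit false
universe u v
open CAlg

namespace Groth.Agent.S16234

/-- For a finitely generated module M over a Noetherian commutative ring A, every prime ideal in the
support of M is a maximal ideal if and only if M has finite length. -/
theorem result (A : Type u) [CommRing A] [IsNoetherianRing A]
    (M : Type v) [AddCommGroup M] [Module A M] [Module.Finite A M] :
    (∀ p ∈ Module.support A M, p.asIdeal.IsMaximal) ↔ IsFiniteLength A M := by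
  have hsupp := Module.support_eq_zeroLocus (R := A) (M := M)
  let J := Module.annihilator A M
  letI : Module (A ⧸ J) M := Module.IsTorsionBySet.module (fun m a => Module.mem_annihilator.1 a.2 m)
  haveI : IsScalarTower A (A ⧸ J) M := Module.IsTorsionBySet.isScalarTower _
  constructor
  · intro h
    haveI : Ring.KrullDimLE 0 (A ⧸ J) := Ring.KrullDimLE.mk₀ fun q hq => by
      haveI := hq
      have hm := h ⟨q.comap (Ideal.Quotient.mk J), inferInstance⟩ (by
        rw [hsupp, PrimeSpectrum.mem_zeroLocus]
        exact fun a ha => show Ideal.Quotient.mk J a ∈ q by rw [Ideal.Quotient.eq_zero_iff_mem.2 ha]; exact q.zero_mem)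
      haveI : (q.comap (Ideal.Quotient.mk J)).IsMaximal := hm
      rw [← Ideal.map_comap_of_surjective (Ideal.Quotient.mk J) Ideal.Quotient.mk_surjective q]
      exact Ideal.IsMaximal.map_of_surjective_of_ker_le Ideal.Quotient.mk_surjective (by
        rw [Ideal.mk_ker]
        exact fun a ha => show Ideal.Quotient.mk J a ∈ q by rw [Ideal.Quotient.eq_zero_iff_mem.2 ha]; exact q.zero_mem)
    haveI : IsArtinianRing (A ⧸ J) := isArtinianRing_iff_isNoetherianRing_krullDimLE_zero.2 ⟨inferInstance, inferInstance⟩
    haveI : Module.Finite (A ⧸ J) M := Module.Finite.of_restrictScalars_finite A (A ⧸ J) M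
    haveI : IsArtinian (A ⧸ J) M := isArtinian_of_fg_of_artinian' 
    haveI : IsArtinian A M := isArtinian_of_surjective_algebraMap (R := A ⧸ J) (S := A) Ideal.Quotient.mk_surjective
    exact isFiniteLength_iff_isNoetherian_isArtinian.2 ⟨inferInstance, inferInstance⟩
  · intro h
    haveI := (isFiniteLength_iff_isNoetherian_isArtinian.1 h).2
    obtain ⟨n, g, hg⟩ := Module.Finite.exists_fin (R := A) (M := M)
    let φ : A →ₗ[A] (Fin n → M) := LinearMap.pi fun i => LinearMap.toSpanSingleton A M (g i)
    have hker : LinearMap.ker φ = J := by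
      refine le_antisymm (fun a ha => Module.mem_annihilator.2 fun m => ?_) (fun a ha => funext fun i => Module.mem_annihilator.1 ha (g i))
      have : m ∈ Submodule.span A (Set.range g) := hg ▸ trivial
      obtain ⟨c, rfl⟩ := (Submodule.mem_span_range_iff_exists_fun A).1 this
      rw [Finset.smul_sum]
      refine Finset.sum_eq_zero fun i _ => ?_
      rw [smul_comm, show a • g i = 0 from congrFun ha i, smul_zero]
    haveI : IsArtinian A (A ⧸ LinearMap.ker φ) := isArtinian_of_linearEquiv φ.quotKerEquivRange.symm
    haveI : IsArtinian A (A ⧸ J) := hker ▸ this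
    haveI : IsArtinianRing (A ⧸ J) := isArtinian_of_tower A inferInstance
    intro p hp
    rw [hsupp, PrimeSpectrum.mem_zeroLocus] at hp
    haveI := p.2
    haveI : (p.asIdeal.map (Ideal.Quotient.mk J)).IsPrime := Ideal.map_isPrime_of_surjective Ideal.Quotient.mk_surjective (by rw [Ideal.mk_ker]; exact hp)
    have hm := IsArtinianRing.isMaximal_of_isPrime (p.asIdeal.map (Ideal.Quotient.mk J))
    have := Ideal.comap_isMaximal_of_surjective (Ideal.Quotient.mk J) Ideal.Quotient.mk_surjective (K := p.asIdeal.map (Ideal.Quotient.mk J))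
    rwa [Ideal.comap_map_of_surjective _ Ideal.Quotient.mk_surjective, sup_eq_left.2 (by rw [← RingHom.ker_eq_comap_bot, Ideal.mk_ker]; exact hp)] at this

end Groth.Agent.S16234
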