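import Groth.Statements.S16235
import Mathlib
-- import your own Groth.Agent.* helpers here

set_option autoImplicit false
universe u
open CAlg

namespace Groth.Agent.S16235

/-- Let A be a Noetherian commutative ring and x_1, …, x_r a regular sequence on A (each x_i a
non-zero-divisor on A/(x_1, …, x_{i-1})) generating an ideal I ≠ A. Then the height of I, the
infimum of the heights of the minimal primes over I, equals r. -/
theorem result (A : Type u) [CommRing A] [IsNoetherianRing A]
    (r : ℕ) (x : Fin r → A) (hx : RingTheory.Sequence.IsWeaklyRegular A (List.ofFn x))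
    (hI : Ideal.span (Set.range x) ≠ ⊤) :
    (Ideal.span (Set.range x)).height = r := by
  classical
  set l := List.ofFn x with hl
  have hmem : ∀ k, Ideal.ofList (l.take k) ≤ Ideal.span (Set.range x) := by
    intro k
    refine Ideal.span_le.mpr fun a ha => ?_
    obtain ⟨j, hj⟩ := List.mem_ofFn.mp (List.mem_of_mem_take ha)
    exact Ideal.subset_span ⟨j, hj⟩
  have key : ∀ k, k ≤ r → (k : ℕ∞) ≤ (Ideal.ofList (l.take k)).height := by
    intro k
    induction k with
    | zero => intro _; simp
    | succ k ih =>
      intro hk
      have hlen : k < l.length := by rw [hl, List.length_ofFn]; omega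
      have hreg := hx.regular_mod_prev k hlen
      rw [Ideal.height_eq_inf_minimalPrimes]
      refine le_iInf₂ fun P hP => ?_
      haveI := hP.1.1
      have hle : Ideal.ofList (l.take (k + 1)) ≤ P := hP.1.2
      rw [List.take_add_one, List.getElem?_eq_getElem hlen, Option.toList_some, Ideal.ofList_append, Ideal.ofList_singleton, sup_le_iff, Ideal.span_singleton_le_iff_mem] at hle
      obtain ⟨Q, hQ, hQP⟩ := Ideal.exists_minimalPrimes_le hle.1
      have hxQ : l[k] ∉ Q := by
        refine hreg.notMem_of_mem_minimalPrimes ?_
        rwa [Ideal.smul_eq_mul, Ideal.mul_top, Ideal.annihilator_quotient]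
      haveI := hQ.1.1
      have hlt : Q < P := lt_of_le_of_ne hQP fun e => hxQ (e ▸ hle.2)
      have h1 := Ideal.height_add_one_le_of_lt_of_isPrime hlt
      have h2 : (Ideal.ofList (l.take k)).height ≤ Q.height := Ideal.height_mono hQ.1.2
      have h3 := (ih (by omega)).trans h2
      calc ((k + 1 : ℕ) : ℕ∞) = (k : ℕ∞) + 1 := by simp
        _ ≤ Q.height + 1 := by gcongr
        _ ≤ _ := h1
  refine le_antisymm ?_ ((key r le_rfl).trans (Ideal.height_mono (hmem r)))
  refine (Ideal.height_le_spanFinrank _ hI).trans ?_
  refine Nat.cast_le.mpr ?_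
  refine (Submodule.spanFinrank_span_le_ncard_of_finite (Set.finite_range x)).trans ?_
  rw [← Set.image_univ]
  exact (Set.ncard_image_le Set.finite_univ).trans (by simp [Set.ncard_univ])

end Groth.Agent.S16235
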