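import Groth.Statements.S16259
import Mathlib.Algebra.Polynomial.FieldDivision
import Mathlib.Algebra.Polynomial.Derivative
import Mathlib.Data.Nat.Choose.Basic
import Mathlib.Tactic.LinearCombination

set_option autoImplicit false
open W4c3wronskmg

namespace Groth.Agent.S16259

open Polynomial in
/-- Over a field of characteristic zero, for positive integers `i, j` and a natural number `n`, the
polynomial `h(W) = ∑_{l=0}^{n} (i choose l) (j choose (n-l)) W^(n-l)`, the coefficient of
`X^(i+j-n)` in `(X+1)^i (X+W)^j`, has no multiple root other than possibly `0` and `1`: every `c ≠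
0, 1` has root multiplicity at most one. -/
theorem result
    (k : Type*) [Field k] [CharZero k] (i j n : ℕ) (hi : 0 < i) (hj : 0 < j) (c : k) (hc0 : c ≠ 0) (hc1 : c ≠ 1) :
    Polynomial.rootMultiplicity c
      (∑ l ∈ Finset.range (n + 1),
        Polynomial.C (((i.choose l) * (j.choose (n - l)) : ℕ) : k) * Polynomial.X ^ (n - l)) ≤ 1 := by
  classical
  set h : Polynomial k := ∑ l ∈ Finset.range (n + 1), Polynomial.C (((i.choose l) * (j.choose (n - l)) : ℕ) : k) * Polynomial.X ^ (n - l) with hdef
  let a : ℕ → k := fun m => if m ≤ n then (((i.choose (n - m)) * (j.choose m) : ℕ) : k) else 0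
  have hcoef : ∀ m, h.coeff m = a m := fun m => by
    rw [hdef, Polynomial.finsetSum_coeff]
    simp only [Polynomial.coeff_C_mul_X_pow, a]
    by_cases hm : m ≤ n
    · rw [if_pos hm, Finset.sum_eq_single (n - m) (fun b hb hne => if_neg (by have := Finset.mem_range.1 hb; omega)) (fun hh => absurd (Finset.mem_range.2 (by omega)) hh), if_pos (by omega)]
      rw [Nat.sub_sub_self hm]
    · rw [if_neg hm]
      exact Finset.sum_eq_zero fun b hb => if_neg (by omega)
  have hrec : ∀ m : ℕ, ((m : k) + 1) * ((m : k) + i - n + 1) * a (m + 1) = ((m : k) - j) * ((m : k) - n) * a m := fun m => by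
    by_cases hm : m + 1 ≤ n
    · have hA : ∀ N r : ℕ, ((N.choose (r + 1) : ℕ) : k) * ((r : k) + 1) = (N.choose r : k) * ((N : k) - r) := fun N r => by
        have := Nat.choose_succ_right_eq N r
        rcases le_or_gt r N with hr | hr
        · rw [← Nat.cast_sub hr]; exact_mod_cast this
        · rw [Nat.choose_eq_zero_of_lt hr, Nat.choose_eq_zero_of_lt (by omega)]; simp
      simp only [a, if_pos hm, if_pos (show m ≤ n by omega)]
      obtain ⟨r, hr⟩ : ∃ r, n = r + (m + 1) := ⟨n - (m + 1), by omega⟩
      have h1 := hA j m
      have h2 := hA i r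
      have hn : (n : k) = r + ((m : k) + 1) := by rw [hr]; push_cast; ring
      rw [show n - (m + 1) = r by omega, show n - m = r + 1 by omega, hn]
      push_cast
      linear_combination (((m : k) + i - ((r : k) + ((m : k) + 1)) + 1) * (i.choose r : k)) * h1 - ((j.choose m : k) * ((j : k) - m)) * h2
    · simp only [a, if_neg hm, mul_zero]
      by_cases hm' : m ≤ n
      · rw [show (m : k) - n = 0 by rw [show m = n by omega, sub_self]]; ring
      · rw [if_neg hm', mul_zero]
  have hode : Polynomial.X * (1 - Polynomial.X) * h.derivative.derivative +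
      (Polynomial.C ((i : k) - n + 1) - Polynomial.C (1 - (j : k) - n) * Polynomial.X) * h.derivative - Polynomial.C ((j : k) * n) * h = 0 := by
    ext m
    rw [show Polynomial.X * (1 - Polynomial.X) * h.derivative.derivative +
      (Polynomial.C ((i : k) - n + 1) - Polynomial.C (1 - (j : k) - n) * Polynomial.X) * h.derivative - Polynomial.C ((j : k) * n) * h = Polynomial.X * h.derivative.derivative - Polynomial.X * (Polynomial.X * h.derivative.derivative) + Polynomial.C ((i : k) - n + 1) * h.derivative - Polynomial.C (1 - (j : k) - n) * (Polynomial.X * h.derivative) - Polynomial.C ((j : k) * n) * h by ring]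
    generalize hα : (i : k) - n + 1 = α
    generalize hβ : 1 - (j : k) - n = β
    generalize hγ : (j : k) * n = γ
    rcases m with _ | _ | m
    · have := hrec 0
      simp [Polynomial.coeff_derivative, hcoef] at this ⊢
      subst hα hβ hγ
      linear_combination this
    · have := hrec 1
      simp [Polynomial.coeff_derivative, hcoef, Polynomial.coeff_X_mul] at this ⊢
      subst hα hβ hγ
      linear_combination this
    · have := hrec (m + 2)
      simp [Polynomial.coeff_derivative, hcoef, Polynomial.coeff_X_mul] at this ⊢
      subst hα hβ hγ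
      linear_combination this
  by_contra hgt
  rw [not_le] at hgt
  have hne : h ≠ 0 := fun h0 => by rw [h0, Polynomial.rootMultiplicity_zero] at hgt; omega
  have hr : h.IsRoot c := (Polynomial.rootMultiplicity_pos hne).1 (by omega)
  have h1 := Polynomial.derivative_rootMultiplicity_of_root hr
  have hne1 : h.derivative ≠ 0 := fun h0 => by rw [h0, Polynomial.rootMultiplicity_zero] at h1; omega
  have hr1 : h.derivative.IsRoot c := (Polynomial.rootMultiplicity_pos hne1).1 (by omega)
  have h2 := Polynomial.derivative_rootMultiplicity_of_root hr1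
  have hne2 : h.derivative.derivative ≠ 0 := fun h0 => by
    obtain ⟨e, he⟩ : ∃ e, h.derivative = Polynomial.C e := ⟨_, Polynomial.eq_C_of_derivative_eq_zero h0⟩
    rw [he, Polynomial.IsRoot, Polynomial.eval_C] at hr1
    exact hne1 (by rw [he, hr1, map_zero])
  set μ := Polynomial.rootMultiplicity c h
  have d1 : (Polynomial.X - Polynomial.C c) ^ (μ - 1) ∣ h.derivative := h1 ▸ Polynomial.pow_rootMultiplicity_dvd _ c
  have d0 : (Polynomial.X - Polynomial.C c) ^ (μ - 1) ∣ h := (pow_dvd_pow _ (Nat.sub_le μ 1)).trans (Polynomial.pow_rootMultiplicity_dvd h c)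
  have hu : IsCoprime ((Polynomial.X - Polynomial.C c) ^ (μ - 1)) (Polynomial.X * (1 - Polynomial.X)) := by
    refine IsCoprime.pow_left ((Polynomial.irreducible_X_sub_C c).coprime_iff_not_dvd.2 fun hd => ?_)
    rw [Polynomial.dvd_iff_isRoot, Polynomial.IsRoot, Polynomial.eval_mul, Polynomial.eval_X, Polynomial.eval_sub, Polynomial.eval_one, Polynomial.eval_X, mul_eq_zero, sub_eq_zero] at hd
    exact hd.elim hc0 (fun e => hc1 e.symm)
  have d2 : (Polynomial.X - Polynomial.C c) ^ (μ - 1) ∣ h.derivative.derivative := by
    refine hu.dvd_of_dvd_mul_left ?_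
    rw [show Polynomial.X * (1 - Polynomial.X) * h.derivative.derivative = Polynomial.C ((j : k) * n) * h - (Polynomial.C ((i : k) - n + 1) - Polynomial.C (1 - (j : k) - n) * Polynomial.X) * h.derivative by linear_combination hode]
    exact dvd_sub (dvd_mul_of_dvd_right d0 _) (dvd_mul_of_dvd_right d1 _)
  have := (Polynomial.le_rootMultiplicity_iff hne2).2 d2
  omega

end Groth.Agent.S16259
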