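import Groth.Statements.S16262
import Mathlib.Algebra.Polynomial.RingDivision
import Mathlib.Algebra.Polynomial.Derivative
import Mathlib.RingTheory.Polynomial.Basic
import Mathlib.LinearAlgebra.Dimension.Finite
import Mathlib.Tactic.LinearCombination
import Mathlib.Tactic.FieldSimp

set_option autoImplicit false
open W4c3wronskmg

namespace Groth.Agent.S16262

open Polynomial in
/-- Let `k` be a field of characteristic zero and `a, b, i` positive integers with `i < a + b`. On the
projective line with `A = 0`, `B = ∞`, `P = -1`, the system `V_{a,b} = H⁰(ω((1+a)A)) ⊕ H⁰(ω((1+b)B))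
⊆ H⁰(O(a+b))` is the space of polynomials of degree at most `a+b` with vanishing coefficient of
`X^a`, and `V = V_{a,b}(-iP)` (divided by `(X+1)^i`) is the space of `G` of degree at most `a+b-i`
such that the coefficient of `X^a` in `(X+1)^i G` vanishes; it is a linear system of dimension and
degree `a+b-i`. Then no point of the projective line other than `A` and `B` is a special
ramification point of `V` (a point of weight at least two); for such a system a point `q` of the
affine line is special exactly when two independent members are divisible by `(X-q)^(a+b-i-1)`, so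
the statement is that this fails for every `q ≠ 0`. (The published statement does not except `A` and
`B`, but `A` has weight `max(b-i, 0)` in `V`, which is `2` for `a = 1, b = 3, i = 1`: there `X^3`
and `X^2` both lie in `V`. It is stated over the complex numbers.) -/
theorem result
    (k : Type*) [Field k] [CharZero k] (a b i : ℕ) (ha : 0 < a) (hb : 0 < b) (hi : 0 < i) (hiab : i < a + b)
    (V : Submodule k (Polynomial k))
    (hV : V = Polynomial.degreeLE k ↑(a + b - i) ⊓
      LinearMap.ker ((Polynomial.lcoeff k a).comp (LinearMap.mulLeft k (((X : Polynomial k) + 1) ^ i))))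
    (q : k) (hq : q ≠ 0) :
    Module.finrank k ↥(V ⊓ (Ideal.span {(X - C q) ^ (a + b - i - 1)}).restrictScalars k) ≤ 1 := by
  classical
  set e := a + b - i - 1 with he
  set P : Polynomial k := ((X : Polynomial k) + 1) ^ i * (X - C q) ^ e with hP
  have hmon : P.Monic := by
    rw [hP, show ((X : Polynomial k) + 1) = X + C 1 by rw [map_one]]
    exact ((monic_X_add_C 1).pow i).mul ((monic_X_sub_C q).pow e)
  have hdeg : P.natDegree = i + e := by
    rw [hP, show ((X : Polynomial k) + 1) = X + C 1 by rw [map_one], ((monic_X_add_C 1).pow i).natDegree_mul ((monic_X_sub_C q).pow e), natDegree_pow, natDegree_pow, natDegree_X_add_C, natDegree_X_sub_C, mul_one, mul_one]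
  have hode : X * (X * derivative P) + C (1 - q) * (X * derivative P) - C q * derivative P = C ((i : k) + e) * (X * P) + C ((e : k) - i * q) * P := by
    rw [hP]
    rcases i with _ | i
    · omega
    rcases e with _ | e
    · simp [derivative_pow, map_sub, map_mul, map_add]; ring
    · simp [derivative_pow, map_sub, map_mul, map_add]; ring
  have hne : P.coeff (a - 1) ≠ 0 ∨ P.coeff a ≠ 0 := by
    by_contra hc
    simp only [not_or, not_not] at hc
    have hall : ∀ t, P.coeff (a - 1 + t) = 0 ∧ P.coeff (a + t) = 0 := fun t => by
      induction t with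
      | zero => exact hc
      | succ t ih =>
        refine ⟨by rw [show a - 1 + (t + 1) = a + t by omega]; exact ih.2, ?_⟩
        obtain ⟨m, hm⟩ : ∃ m, a - 1 + t = m := ⟨_, rfl⟩
        have hm' : a + t = m + 1 := by omega
        rw [hm, hm'] at ih
        rw [show a + (t + 1) = m + 2 by omega]
        have h := congrArg (fun f => f.coeff (m + 1)) hode
        simp only [coeff_add, coeff_sub, coeff_C_mul, coeff_X_mul, coeff_derivative, ih.2] at h
        rcases m with _ | m
        · simp [coeff_X_mul_zero, ih.1] at h
          rcases h with h | h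
          · exact absurd h hq
          · exact h
        · simp only [coeff_X_mul, coeff_derivative, ih.1] at h
          simp at h
          rcases h with h | h
          · exact absurd h hq
          · exact h.resolve_right (by norm_cast)
    have := (hall (b - 1)).2
    rw [show a + (b - 1) = P.natDegree by omega, hmon.coeff_natDegree] at this
    exact one_ne_zero this
  set g : Polynomial k := (X - C q) ^ e * (C (P.coeff a) * X - C (P.coeff (a - 1))) with hg
  refine ((Submodule.finrank_mono (t := Submodule.span k {g}) ?_).trans (finrank_span_le_card ({g} : Set (Polynomial k)))).trans (by simp)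
  rintro f ⟨hfV, hfI⟩
  rw [hV] at hfV
  obtain ⟨hfd, hfk⟩ := hfV
  obtain ⟨u, rfl⟩ := Ideal.mem_span_singleton'.1 hfI
  obtain ⟨α, β, rfl⟩ : ∃ α β, u = C α * X + C β := by
    by_cases hu : u = 0
    · exact ⟨0, 0, by simp [hu]⟩
    have hd := Polynomial.natDegree_le_iff_degree_le.2 (Polynomial.mem_degreeLE.1 hfd)
    rw [mul_comm, ((monic_X_sub_C q).pow e).natDegree_mul' hu, natDegree_pow, natDegree_X_sub_C, mul_one] at hd
    exact ⟨u.coeff 1, u.coeff 0, eq_X_add_C_of_natDegree_le_one (by omega)⟩
  have hrel : α * P.coeff (a - 1) + β * P.coeff a = 0 := by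
    have h : (((X : Polynomial k) + 1) ^ i * ((C α * X + C β) * (X - C q) ^ e)).coeff a = 0 := hfk
    rw [show ((X : Polynomial k) + 1) ^ i * ((C α * X + C β) * (X - C q) ^ e) = C α * (X * P) + C β * P by rw [hP]; ring, coeff_add, coeff_C_mul, coeff_C_mul] at h
    obtain ⟨a', rfl⟩ := Nat.exists_eq_succ_of_ne_zero ha.ne'
    simpa [coeff_X_mul] using h
  obtain ⟨c, hα, hβ⟩ : ∃ c, α = c * P.coeff a ∧ β = -(c * P.coeff (a - 1)) := by
    by_cases h0 : P.coeff (a - 1) = 0
    · have h1 := hne.resolve_left (not_not.2 h0)
      refine ⟨α / P.coeff a, (div_mul_cancel₀ α h1).symm, ?_⟩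
      rw [h0, mul_zero, zero_add] at hrel
      rw [h0, mul_zero, neg_zero]
      exact (mul_eq_zero.1 hrel).resolve_right h1
    · refine ⟨-β / P.coeff (a - 1), ?_, ?_⟩
      · field_simp
        linear_combination hrel
      · field_simp
  refine Submodule.mem_span_singleton.2 ⟨c, ?_⟩
  rw [hg, hα, hβ, smul_eq_C_mul]
  simp only [map_mul, map_neg]
  ring

end Groth.Agent.S16262
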