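import Groth.Statements.S16263
import Mathlib.Algebra.Polynomial.RingDivision
import Mathlib.RingTheory.Polynomial.Basic
import Mathlib.LinearAlgebra.Dimension.Finite
import Mathlib.Tactic.LinearCombination
import Mathlib.Tactic.FieldSimp

set_option autoImplicit false
open W4c3wronskmg

namespace Groth.Agent.S16263

open Polynomial in
/-- Let `k` be a field of characteristic zero and `a` a positive integer. On the projective line with `A
= 0`, `B = -1`, `C = ∞`, the `(a+1)`-dimensional system `V = H⁰(ω((1+a)C)) ⊕ H⁰(ω(A+B)) ⊆
H⁰(ω((1+a)C + A + B)) ≅ H⁰(O(a+1))` is, in the affine coordinate, the space of polynomials `c + X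
(X+1) F` with `c` a constant and `deg F ≤ a - 1`. Then `V` has no special ramification point (no
point of weight at least two): since the members have degree at most `a + 1`, this says that for
every point `p` of the affine line at most a one-dimensional subspace of `V` is divisible by
`(X-p)^a`, and at `C` that at most a one-dimensional subspace has degree at most one (degree less
than two). (The published statement carries two further positive integers `i, j` with `i + j = a -
1`, used only in its second assertion, and is over the complex numbers.) -/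
theorem result
    (k : Type*) [Field k] [CharZero k] (a : ℕ) (ha : 0 < a)
    (V : Submodule k (Polynomial k))
    (hV : V = Submodule.span k {(1 : Polynomial k)} ⊔
      ((Ideal.span {(X : Polynomial k) * (X + 1)}).restrictScalars k ⊓ Polynomial.degreeLE k ↑(a + 1))) :
    (∀ p : k, Module.finrank k ↥(V ⊓ (Ideal.span {(X - C p) ^ a}).restrictScalars k) ≤ 1) ∧
      Module.finrank k ↥(V ⊓ Polynomial.degreeLT k 2) ≤ 1 := by
  have hmem : ∀ f ∈ V, f.eval 0 = f.eval (-1) ∧ f.natDegree ≤ a + 1 := fun f hf => by
    rw [hV] at hf
    obtain ⟨c, hc, g, ⟨hg, hgd⟩, rfl⟩ := Submodule.mem_sup.1 hf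
    obtain ⟨e, rfl⟩ := Submodule.mem_span_singleton.1 hc
    obtain ⟨h, rfl⟩ := Ideal.mem_span_singleton'.1 hg
    refine ⟨by simp [Polynomial.smul_eq_C_mul], ?_⟩
    refine (Polynomial.natDegree_add_le _ _).trans (max_le ?_ ?_)
    · simp [Polynomial.smul_eq_C_mul]
    · exact Polynomial.natDegree_le_iff_degree_le.2 (Polynomial.mem_degreeLE.1 hgd)
  have hone : ∀ (W : Submodule k (Polynomial k)) (g : Polynomial k), W ≤ Submodule.span k {g} → Module.finrank k W ≤ 1 := fun W g h => by
    refine (Submodule.finrank_mono h).trans ?_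
    exact (finrank_span_le_card ({g} : Set (Polynomial k))).trans (by simp)
  refine ⟨fun p => ?_, hone _ 1 ?_⟩
  · refine hone _ ((X - C p) ^ a * (C ((-p) ^ a - (-1 - p) ^ a) * X - C ((-1 - p) ^ a))) ?_
    rintro f ⟨hfV, hfI⟩
    obtain ⟨he, hd⟩ := hmem f hfV
    obtain ⟨g, rfl⟩ := Ideal.mem_span_singleton'.1 hfI
    obtain ⟨α, β, rfl⟩ : ∃ α β, g = C α * X + C β := by
      by_cases hg : g = 0
      · exact ⟨0, 0, by simp [hg]⟩
      have hm : ((X - C p) ^ a).Monic := (monic_X_sub_C p).pow a
      rw [mul_comm, hm.natDegree_mul' hg, (monic_X_sub_C p).natDegree_pow, natDegree_X_sub_C, mul_one] at hd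
      exact ⟨g.coeff 1, g.coeff 0, eq_X_add_C_of_natDegree_le_one (by omega)⟩
    simp only [eval_mul, eval_add, eval_pow, eval_sub, eval_X, eval_C, mul_zero, zero_add, zero_sub] at he
    set A := (-p) ^ a - (-1 - p) ^ a with hA
    set B := (-1 - p) ^ a with hB
    have hrel : β * A + α * B = 0 := by rw [hA]; linear_combination he
    rw [Submodule.mem_span_singleton]
    obtain ⟨c, hα, hβ⟩ : ∃ c, α = c * A ∧ β = -(c * B) := by
      by_cases hB0 : B = 0
      · have hA0 : A ≠ 0 := by
          intro h0
          have hp : p = -1 := by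
            have : -1 - p = 0 := pow_eq_zero_iff ha.ne' |>.1 hB0
            linear_combination -this
          subst hp
          simp [hA, hB0] at h0
        exact ⟨α / A, (div_mul_cancel₀ α hA0).symm, by
          rw [hB0, mul_zero, add_zero] at hrel
          rw [hB0, mul_zero, neg_zero]
          exact (mul_eq_zero.1 hrel).resolve_right hA0⟩
      · refine ⟨-β / B, ?_, ?_⟩
        · field_simp
          linear_combination hrel
        · field_simp
    refine ⟨c, ?_⟩
    rw [hα, hβ, smul_eq_C_mul]
    simp only [map_mul, map_neg]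
    ring
  · rintro f ⟨hfV, hfd⟩
    obtain ⟨he, -⟩ := hmem f hfV
    have hfd' : f.natDegree ≤ 1 := by
      by_cases hf : f = 0
      · simp [hf]
      · have := (natDegree_lt_iff_degree_lt hf).2 (Polynomial.mem_degreeLT.1 hfd)
        omega
    obtain ⟨α, β, rfl⟩ : ∃ α β, f = C α * X + C β := ⟨_, _, eq_X_add_C_of_natDegree_le_one hfd'⟩
    simp at he
    rw [Submodule.mem_span_singleton]
    exact ⟨β, by simp [he, smul_eq_C_mul]⟩

end Groth.Agent.S16263
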