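import Groth.Statements.S16264
import Mathlib.Algebra.Polynomial.RingDivision
import Mathlib.RingTheory.Polynomial.Basic
import Mathlib.LinearAlgebra.FiniteDimensional.Basic
import Mathlib.RingTheory.Coprime.Lemmas
import Mathlib.Tactic.LinearCombination

set_option autoImplicit false
open W4c3wronskmg

namespace Groth.Agent.S16264

open Polynomial in
/-- Let `k` be a field of characteristic zero and `a, i, j` positive integers with `i + j = a - 1`. With
`A = 0`, `B = -1`, `C = ∞` on the projective line and `V` the `(a+1)`-dimensional system of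
polynomials `c + X (X+1) F`, `deg F ≤ a - 1` (that is, `H⁰(ω((1+a)C)) ⊕ H⁰(ω(A+B)) ⊆ H⁰(O(a+1))`),
the pairs of points `(P, Q) = (p, q)` of the affine line with `dim V(-iP-jQ) ≥ 3`, i.e. with at
least a three-dimensional subspace of `V` divisible by `(X-p)^i (X-q)^j`, are exactly `(A, B)` and
`(B, A)`. (Here `P, Q` range over the points other than `C`; when one of them is `C` the dimension
is at most two for degree reasons. The published statement is over the complex numbers.) -/
theorem result
    (k : Type*) [Field k] [CharZero k] (a i j : ℕ) (hi : 0 < i) (hj : 0 < j) (hij : i + j + 1 = a)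
    (V : Submodule k (Polynomial k))
    (hV : V = Submodule.span k {(1 : Polynomial k)} ⊔
      ((Ideal.span {(X : Polynomial k) * (X + 1)}).restrictScalars k ⊓ Polynomial.degreeLE k ↑(a + 1)))
    (p q : k) :
    3 ≤ Module.finrank k ↥(V ⊓ (Ideal.span {(X - C p) ^ i * (X - C q) ^ j}).restrictScalars k) ↔
      (p = 0 ∧ q = -1) ∨ (p = -1 ∧ q = 0) := by
  classical
  set w : Polynomial k := (X - C p) ^ i * (X - C q) ^ j with hw
  have hwm : w.Monic := ((monic_X_sub_C p).pow i).mul ((monic_X_sub_C q).pow j)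
  have hwd : w.natDegree = i + j := by
    rw [hw, ((monic_X_sub_C p).pow i).natDegree_mul ((monic_X_sub_C q).pow j), natDegree_pow, natDegree_pow, natDegree_X_sub_C, natDegree_X_sub_C, mul_one, mul_one]
  have hmem : ∀ f ∈ V, f.eval 0 = f.eval (-1) ∧ f.natDegree ≤ a + 1 := fun f hf => by
    rw [hV] at hf
    obtain ⟨c, hc, g, ⟨hg, hgd⟩, rfl⟩ := Submodule.mem_sup.1 hf
    obtain ⟨e, rfl⟩ := Submodule.mem_span_singleton.1 hc
    obtain ⟨h, rfl⟩ := Ideal.mem_span_singleton'.1 hg
    refine ⟨by simp [Polynomial.smul_eq_C_mul], (Polynomial.natDegree_add_le _ _).trans (max_le ?_ ?_)⟩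
    · simp [Polynomial.smul_eq_C_mul]
    · exact Polynomial.natDegree_le_iff_degree_le.2 (Polynomial.mem_degreeLE.1 hgd)
  let S := (Polynomial.degreeLT k 3).map (LinearMap.mulLeft k w)
  have hS : Module.finrank k S = 3 := by
    rw [← (Submodule.equivMapOfInjective _ (mul_right_injective₀ hwm.ne_zero) (Polynomial.degreeLT k 3)).finrank_eq, (Polynomial.degreeLTEquiv k 3).finrank_eq, Module.finrank_fin_fun]
  haveI : Module.Finite k (Polynomial.degreeLT k 3) := Module.Finite.equiv (Polynomial.degreeLTEquiv k 3).symm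
  haveI : Module.Finite k S := Module.Finite.map _ _
  have hle : V ⊓ (Ideal.span {w}).restrictScalars k ≤ S := by
    rintro f ⟨hfV, hfI⟩
    obtain ⟨g, rfl⟩ := Ideal.mem_span_singleton'.1 hfI
    refine ⟨g, ?_, mul_comm w g⟩
    rw [SetLike.mem_coe, Polynomial.mem_degreeLT]
    by_cases hg : g = 0
    · simp [hg]; exact WithBot.bot_lt_coe _
    have hd := (hmem _ hfV).2
    rw [mul_comm, hwm.natDegree_mul' hg, hwd] at hd
    exact lt_of_le_of_lt g.degree_le_natDegree (by exact_mod_cast (show g.natDegree < 3 by omega))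
  constructor
  · intro h
    have heq := Submodule.eq_of_le_of_finrank_le hle (by rw [hS]; exact h)
    have hin : ∀ g : Polynomial k, g.degree < 3 → (w * g).eval 0 = (w * g).eval (-1) := fun g hg =>
      (hmem _ ((heq ▸ ⟨g, Polynomial.mem_degreeLT.2 hg, rfl⟩ : w * g ∈ V ⊓ (Ideal.span {w}).restrictScalars k)).1).1
    have e1 := hin X (by rw [degree_X]; norm_num)
    have e0 := hin 1 (by rw [degree_one]; norm_num)
    simp only [eval_mul, eval_X, eval_one, mul_one, mul_zero, mul_neg] at e0 e1
    have h1 : w.eval (-1) = 0 := by linear_combination e1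
    have h0 : w.eval 0 = 0 := e0.trans h1
    simp only [hw, eval_mul, eval_pow, eval_sub, eval_X, eval_C, mul_eq_zero, pow_eq_zero_iff hi.ne', pow_eq_zero_iff hj.ne', sub_eq_zero] at h0 h1
    rcases h0 with h0 | h0 <;> rcases h1 with h1 | h1
    · exfalso; rw [← h0] at h1; simp at h1
    · exact Or.inl ⟨h0.symm, h1.symm⟩
    · exact Or.inr ⟨h1.symm, h0.symm⟩
    · exfalso; rw [← h0] at h1; simp at h1
  · intro h
    have hdvd : X * (X + 1) ∣ w := by
      rcases h with ⟨rfl, rfl⟩ | ⟨rfl, rfl⟩
      · rw [hw, map_zero, sub_zero, map_neg, map_one, sub_neg_eq_add]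
        exact mul_dvd_mul (dvd_pow_self _ hi.ne') (dvd_pow_self _ hj.ne')
      · rw [hw, map_zero, sub_zero, map_neg, map_one, sub_neg_eq_add, mul_comm ((X + 1 : Polynomial k) ^ i)]
        exact mul_dvd_mul (dvd_pow_self _ hj.ne') (dvd_pow_self _ hi.ne')
    have hge : S ≤ V ⊓ (Ideal.span {w}).restrictScalars k := by
      rintro _ ⟨g, hg, rfl⟩
      refine ⟨?_, Ideal.mem_span_singleton.2 (dvd_mul_right w g)⟩
      rw [hV]
      refine Submodule.mem_sup_right ⟨Ideal.mem_span_singleton.2 (hdvd.trans (dvd_mul_right w g)), Polynomial.mem_degreeLE.2 (natDegree_le_iff_degree_le.1 ?_)⟩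
      refine natDegree_mul_le.trans ?_
      by_cases hg0 : g = 0
      · simp [hg0, hwd]; omega
      · have := (natDegree_lt_iff_degree_lt hg0).2 (Polynomial.mem_degreeLT.1 hg)
        omega
    rw [← hS, le_antisymm hle hge]

end Groth.Agent.S16264
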