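import Groth.Statements.S16265
import Groth.Agent.FunFldLib.Order

set_option autoImplicit false
open FunFld

namespace Groth.Agent.S16265
open Groth.Agent.FunFldLib


/-- Let `K/k` be a function field of one variable over an algebraically closed field `k` of
characteristic zero (the function field of a smooth projective curve), `D` a divisor and `V ⊆ L(D)`
a linear system of dimension `r + 1`; write `V(-mP-nQ) = V ∩ L(D - mP - nQ)` for the members
vanishing to the indicated orders. Assume `V` has no special ramification point, i.e. no place of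
weight at least two: for every place `R`, `dim V(-rR) ≤ 1` and `V(-(r+2)R) = 0`. Let `P ≠ Q` be
places and `a, b ≥ 1` with `a + b = r + 1` (so that `V(-aP)` and `V(-bQ)` have dimensions `b` and
`a`). Then the following are equivalent: (1) the system `V(-aP)` has weight at least two at `Q`,
that is `dim V(-aP-(b-1)Q) ≥ 2` or `dim V(-aP-(b+1)Q) ≥ 1`, and the system `V(-bQ)` has weight at
least two at `P`, that is `dim V(-(a-1)P-bQ) ≥ 2` or `dim V(-(a+1)P-bQ) ≥ 1`; (2) one of (a) `dim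
V(-(a+1)P-(b+1)Q) ≥ 1`, (b) `dim V(-(a-1)P-(b-1)Q) ≥ 3`, (c) `dim V(-aP-(b+1)Q) ≥ 1` and `dim
V(-(a-1)P-bQ) ≥ 2`, (d) `dim V(-(a+1)P-bQ) ≥ 1` and `dim V(-aP-(b-1)Q) ≥ 2`. (The published
statement is for a smooth curve over the complex numbers.) -/
theorem result
    (k K : Type*) [Field k] [IsAlgClosed k] [CharZero k] [Field K] [Algebra k K]
    (hK : FunFld.IsFunctionField k K) (D : FunFld.Divisor k K)
    (V : Submodule k K) (hVD : V ≤ FunFld.L D) (r : ℕ) (hr : Module.finrank k ↥V = r + 1)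
    (hns : ∀ R : FunFld.Place k K,
      Module.finrank k ↥(V ⊓ FunFld.L (D - Finsupp.single R (r : ℤ))) ≤ 1 ∧
        V ⊓ FunFld.L (D - Finsupp.single R ((r : ℤ) + 2)) = ⊥)
    (P Q : FunFld.Place k K) (hPQ : P ≠ Q) (a b : ℕ) (ha : 1 ≤ a) (hb : 1 ≤ b) (hab : a + b = r + 1) :
    ((2 ≤ Module.finrank k ↥(V ⊓ FunFld.L (D - Finsupp.single P (a : ℤ) - Finsupp.single Q ((b : ℤ) - 1 : ℤ))) ∨
        1 ≤ Module.finrank k ↥(V ⊓ FunFld.L (D - Finsupp.single P (a : ℤ) - Finsupp.single Q ((b : ℤ) + 1 : ℤ)))) ∧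
      (2 ≤ Module.finrank k ↥(V ⊓ FunFld.L (D - Finsupp.single P ((a : ℤ) - 1 : ℤ) - Finsupp.single Q (b : ℤ))) ∨
        1 ≤ Module.finrank k ↥(V ⊓ FunFld.L (D - Finsupp.single P ((a : ℤ) + 1 : ℤ) - Finsupp.single Q (b : ℤ))))) ↔
    (1 ≤ Module.finrank k ↥(V ⊓ FunFld.L (D - Finsupp.single P ((a : ℤ) + 1 : ℤ) - Finsupp.single Q ((b : ℤ) + 1 : ℤ))) ∨
      3 ≤ Module.finrank k ↥(V ⊓ FunFld.L (D - Finsupp.single P ((a : ℤ) - 1 : ℤ) - Finsupp.single Q ((b : ℤ) - 1 : ℤ))) ∨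
      (1 ≤ Module.finrank k ↥(V ⊓ FunFld.L (D - Finsupp.single P (a : ℤ) - Finsupp.single Q ((b : ℤ) + 1 : ℤ))) ∧
        2 ≤ Module.finrank k ↥(V ⊓ FunFld.L (D - Finsupp.single P ((a : ℤ) - 1 : ℤ) - Finsupp.single Q (b : ℤ)))) ∨
      (1 ≤ Module.finrank k ↥(V ⊓ FunFld.L (D - Finsupp.single P ((a : ℤ) + 1 : ℤ) - Finsupp.single Q (b : ℤ))) ∧
        2 ≤ Module.finrank k ↥(V ⊓ FunFld.L (D - Finsupp.single P (a : ℤ) - Finsupp.single Q ((b : ℤ) - 1 : ℤ))))) := by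
  classical
  have h1 : ∀ R : FunFld.Place k K, R.deg = 1 := deg_eq_one hK
  have hfin := finiteDimensional_of_le_L hK hVD
  let E : ℤ → ℤ → FunFld.Divisor k K := fun i j => D - Finsupp.single P i - Finsupp.single Q j
  let F : ℤ → ℤ → ℕ := fun i j => Module.finrank k ↥(V ⊓ FunFld.L (E i j))
  have hfd : ∀ i j, FiniteDimensional k ↥(V ⊓ FunFld.L (E i j)) := fun i j => Submodule.finiteDimensional_of_le inf_le_left
  have hmono : ∀ i i' j j', i ≤ i' → j ≤ j' → E i' j' ≤ E i j := fun i i' j j' hi hj => by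
    simp only [E]
    exact sub_le_sub (sub_le_sub_left (Finsupp.single_le_single.2 hi) _) (Finsupp.single_le_single.2 hj)
  have dropP : ∀ i j, F i j ≤ F (i + 1) j + 1 := fun i j => by
    have := finrank_inf_L_le hK V (hmono i (i + 1) j j (by omega) le_rfl)
    simp only [E, deg_sub, deg_single, h1] at this
    simp only [F, E]; push_cast at this; omega
  have dropQ : ∀ i j, F i j ≤ F i (j + 1) + 1 := fun i j => by
    have := finrank_inf_L_le hK V (hmono i i j (j + 1) le_rfl (by omega))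
    simp only [E, deg_sub, deg_single, h1] at this
    simp only [F, E]; push_cast at this; omega
  have anti : ∀ i i' j j', i ≤ i' → j ≤ j' → F i' j' ≤ F i j := fun i i' j j' hi hj =>
    Submodule.finrank_mono (inf_le_inf_left _ (L_mono (hmono i i' j j' hi hj)))
  have sub : ∀ i j, F (i + 1) j + F i (j + 1) ≤ F i j + F (i + 1) (j + 1) := fun i j => by
    have hi : (V ⊓ FunFld.L (E (i + 1) j)) ⊓ (V ⊓ FunFld.L (E i (j + 1))) ≤ V ⊓ FunFld.L (E (i + 1) (j + 1)) := fun x hx =>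
      ⟨hx.1.1, fun R => by
        rcases eq_or_ne R Q with rfl | hR
        · simpa [E, Finsupp.single_eq_of_ne (Ne.symm hPQ)] using hx.2.2 R
        · simpa [E, Finsupp.single_eq_of_ne hR] using hx.1.2 R⟩
    have hs : (V ⊓ FunFld.L (E (i + 1) j)) ⊔ (V ⊓ FunFld.L (E i (j + 1))) ≤ V ⊓ FunFld.L (E i j) :=
      sup_le (inf_le_inf_left _ (L_mono (hmono _ _ _ _ (by omega) le_rfl)))
        (inf_le_inf_left _ (L_mono (hmono _ _ _ _ le_rfl (by omega))))
    have := Submodule.finrank_sup_add_finrank_inf_eq (V ⊓ FunFld.L (E (i + 1) j)) (V ⊓ FunFld.L (E i (j + 1)))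
    have := Submodule.finrank_mono hi
    have := Submodule.finrank_mono hs
    simp only [F]; omega
  show ((2 ≤ F a (b - 1) ∨ 1 ≤ F a (b + 1)) ∧ (2 ≤ F (a - 1) b ∨ 1 ≤ F (a + 1) b)) ↔
    (1 ≤ F (a + 1) (b + 1) ∨ 3 ≤ F (a - 1) (b - 1) ∨ (1 ≤ F a (b + 1) ∧ 2 ≤ F (a - 1) b) ∨
      (1 ≤ F (a + 1) b ∧ 2 ≤ F a (b - 1)))
  have q1 := sub (a - 1) (b - 1)
  have q2 := sub (a : ℤ) (b : ℤ)
  have q3 := dropP (a : ℤ) (b : ℤ)
  have q4 := dropP ((a : ℤ) - 1) ((b : ℤ) - 1)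
  have q5 := dropQ ((a : ℤ) - 1) ((b : ℤ) - 1)
  simp only [sub_add_cancel] at q1 q4 q5
  have m1 := anti ((a : ℤ) - 1) a b b (by omega) le_rfl
  have m2 := anti (a : ℤ) (a + 1) ((b : ℤ) + 1) (b + 1) (by omega) le_rfl
  have m3 := anti ((a : ℤ) + 1) (a + 1) b (b + 1) le_rfl (by omega)
  omega

end Groth.Agent.S16265
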