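import Groth.Statements.S16283
import Groth.Agent.LocZ.SchemePush
import Groth.Agent.SpecSeq.Grothendieck
import Groth.Agent.ShMod.Grothendieck

set_option autoImplicit false
universe u
open CategoryTheory CategoryTheory.Limits AlgebraicGeometry ZeroObject
open Coherent

namespace Groth.Agent.S16283

/-- Let f : X → Y and g : Y → Z be morphisms of schemes, h = g ∘ f, and F, G O_X-modules. For a morphism
u out of X write Ext^b_u(F, -) for the b-th right derived functor of the left exact functor G ↦ u_*
Hom_{O_X}(F, G) from O_X-modules. Then there is an E₂ spectral sequence of O_Z-modules with E₂^{a,b}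
≅ R^a g_*(Ext^b_f(F, G)) for a, b ≥ 0 (and 0 otherwise), bounded, abutting with finite filtrations
to Ext^n_h(F, G) (n ≥ 0; 0 for n < 0). (Stated for schemes, the published statement being for ringed
spaces. Existence only: the E₂ identifications and the abutment are some isomorphisms. The internal
Hom functor of F, injective resolutions on X and Y and additivity of the composite functors are the
stated instance hypotheses, all true.) -/
theorem result (X Y Z : Scheme.{u}) (f : X ⟶ Y) (g : Y ⟶ Z)
    (F G : X.Modules)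
    [ModSite.HasSheafHom (O := X.sheaf) F] [HasInjectiveResolutions (ModSite.Mod X.sheaf)] [HasInjectiveResolutions Y.Modules]
    [(ModSite.sheafHom (O := X.sheaf) F ⋙ Scheme.Modules.pushforward f).Additive]
    [(ModSite.sheafHom (O := X.sheaf) F ⋙ Scheme.Modules.pushforward (f ≫ g)).Additive] :
    ∃ (E : E₂CohomologicalSpectralSequence Z.Modules)
      (a : SpSeq.Abutment E (fun n : ℤ =>
        if 0 ≤ n then ((ModSite.sheafHom (O := X.sheaf) F ⋙ Scheme.Modules.pushforward (f ≫ g)).rightDerived n.toNat).obj G else (0 : Z.Modules))),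
      (∀ n : ℤ, a.IsFinite n) ∧ SpSeq.IsBounded E ∧
      ∀ p q : ℤ, Nonempty ((E.page 2 le_rfl).X (p, q) ≅
        (if 0 ≤ p ∧ 0 ≤ q then (Coh.Rpush g p.toNat).obj (((ModSite.sheafHom (O := X.sheaf) F ⋙ Scheme.Modules.pushforward f).rightDerived q.toNat).obj G)
          else (0 : Z.Modules))) := by
  haveI := Groth.Agent.ShMod.Grothendieck.isGrothendieckAbelian (ModSite.ringSh X.sheaf)
  haveI : EnoughInjectives (ModSite.Mod X.sheaf) := inferInstance
  haveI := Groth.Agent.ShMod.Grothendieck.isGrothendieckAbelian (ModSite.ringSh Y.sheaf)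
  haveI : EnoughInjectives (ModSite.Mod Y.sheaf) := inferInstance
  haveI : EnoughInjectives Y.Modules := ‹EnoughInjectives (ModSite.Mod Y.sheaf)›
  letI := HasDerivedCategory.standard (ModSite.Mod X.sheaf)
  letI := HasDerivedCategory.standard Y.Modules
  letI := HasDerivedCategory.standard Z.Modules
  let T : ModSite.Mod X.sheaf ⥤ Y.Modules :=
    ModSite.sheafHom (O := X.sheaf) F ⋙ Scheme.Modules.pushforward f
  haveI : PreservesFiniteLimits (Scheme.Modules.pushforward g) := inferInstance
  obtain ⟨E, a, h1, h2, h3⟩ := Groth.Agent.SpecSeq.exists_grothendieck T (Scheme.Modules.pushforward g)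
    (fun Q hQ => by
      haveI := Groth.Agent.LocZ.ModFlasque.isFlasque_sheafHom X.sheaf F Q
      haveI : TopCat.Sheaf.IsFlasque (ModSite.toAb (O := Y.sheaf) (T.obj Q)) :=
        Groth.Agent.LocZ.ModFlasque.isFlasque_pushforward f ((ModSite.sheafHom (O := X.sheaf) F).obj Q)
      exact Groth.Agent.LocZ.ModFlasque.acyc_pushforward g (T.obj Q)) (G : ModSite.Mod X.sheaf)
  let i : T ⋙ Scheme.Modules.pushforward g ≅
      ModSite.sheafHom (O := X.sheaf) F ⋙ Scheme.Modules.pushforward (f ≫ g) :=
    Functor.associator _ _ _ ≪≫ Functor.isoWhiskerLeft _ (Scheme.Modules.pushforwardComp f g)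
  have e : ∀ n : ℤ, (if 0 ≤ n then ((T ⋙ Scheme.Modules.pushforward g).rightDerived n.toNat).obj G else (0 : Z.Modules)) ≅
      (if 0 ≤ n then ((ModSite.sheafHom (O := X.sheaf) F ⋙ Scheme.Modules.pushforward (f ≫ g)).rightDerived n.toNat).obj G
        else (0 : Z.Modules)) := fun n =>
    if h : 0 ≤ n then eqToIso (if_pos h) ≪≫ (Groth.Agent.LocZ.rightDerivedIso i n.toNat).app G ≪≫ eqToIso (if_pos h).symm
    else eqToIso (if_neg h) ≪≫ eqToIso (if_neg h).symm
  exact ⟨E, Groth.Agent.SpecSeq.transportAbutment a e,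
    fun n => Groth.Agent.SpecSeq.isFinite_transportAbutment a _ n (h1 n), h2, h3⟩

end Groth.Agent.S16283
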