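import Groth.Statements.S16312

set_option autoImplicit false
universe u
open W4c3irrattreebun

namespace Groth.Agent.S16312

/-- Let N be a closed cone in real n-space, f a function continuous on N, positive at the nonzero points
of N and homogeneous of degree one under scaling by nonnegative reals, and Λ a discrete additive
subgroup. Then for every real c the set of points H of Λ lying in N with f(H) ≤ c is finite. (The
published statement takes Λ to be a lattice; this row allows any discrete additive subgroup.) -/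
theorem result (n : ℕ)
    (N : Set (EuclideanSpace ℝ (Fin n))) (hN : IsClosed N)
    (hcone : ∀ x ∈ N, ∀ r : ℝ, 0 ≤ r → r • x ∈ N)
    (f : EuclideanSpace ℝ (Fin n) → ℝ) (hf : ContinuousOn f N)
    (hpos : ∀ x ∈ N, x ≠ 0 → 0 < f x)
    (hhom : ∀ x ∈ N, ∀ r : ℝ, 0 ≤ r → f (r • x) = r * f x)
    (Λ : Submodule ℤ (EuclideanSpace ℝ (Fin n))) [DiscreteTopology Λ] (c : ℝ) :
    ({x : EuclideanSpace ℝ (Fin n) | x ∈ N ∧ f x ≤ c} ∩ (Λ : Set (EuclideanSpace ℝ (Fin n)))).Finite := by
  have hclosed : IsClosed (Λ : Set (EuclideanSpace ℝ (Fin n))) :=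
    AddSubgroup.isClosed_of_discrete (H := Λ.toAddSubgroup)
  obtain ⟨R, hR⟩ : ∃ R : ℝ, ∀ x ∈ N, f x ≤ c → ‖x‖ ≤ R := by
    by_cases hne : (N ∩ Metric.sphere 0 1).Nonempty
    · obtain ⟨z, hz, hmin⟩ := ((isCompact_sphere (0 : EuclideanSpace ℝ (Fin n)) 1).inter_left hN
        |>.exists_isMinOn hne (hf.mono Set.inter_subset_left))
      have hz0 : z ≠ 0 := fun h => by simpa [h] using hz.2
      have hfz := hpos z hz.1 hz0
      refine ⟨max 0 (c / f z), fun x hx hxc => ?_⟩
      rcases eq_or_ne x 0 with rfl | hx0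
      · simp
      refine le_max_of_le_right ((le_div_iff₀ hfz).mpr ?_)
      have hn : 0 < ‖x‖ := norm_pos_iff.mpr hx0
      have hu : ‖x‖⁻¹ • x ∈ N ∩ Metric.sphere 0 1 :=
        ⟨hcone x hx _ (inv_nonneg.mpr hn.le), by simp [norm_smul, hn.ne']⟩
      have h1 := hmin hu
      rw [Set.mem_ofPred_eq, hhom x hx _ (inv_nonneg.mpr hn.le), le_inv_mul_iff₀ hn] at h1
      exact h1.trans hxc
    · refine ⟨0, fun x hx _ => ?_⟩
      rcases eq_or_ne x 0 with rfl | hx0
      · simp
      have hn : 0 < ‖x‖ := norm_pos_iff.mpr hx0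
      exact absurd ⟨‖x‖⁻¹ • x, hcone x hx _ (inv_nonneg.mpr hn.le), by simp [norm_smul, hn.ne']⟩ hne
  have hb := Metric.finite_isBounded_inter_isClosed
    (s := (Λ : Set (EuclideanSpace ℝ (Fin n)))) ⟨‹DiscreteTopology Λ›⟩
    (Metric.isBounded_closedBall (x := (0 : EuclideanSpace ℝ (Fin n))) (r := R)) hclosed
  exact hb.subset fun x hx => ⟨mem_closedBall_zero_iff.mpr (hR x hx.1.1 hx.1.2), hx.2⟩

end Groth.Agent.S16312
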