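import Groth.Statements.S16325
import Groth.Agent.W4cx.Elem

set_option autoImplicit false
universe u v
open CategoryTheory
open W4c3biextchow

namespace Groth.Agent.S16325

/-- Let f : C ⟶ D be a chain map of ℕ-indexed chain complexes of modules over a ring R, and consider the
functor it induces between the groupoids attached to C and D (objects: degree-0 elements; morphisms
a ⟶ b: degree-1 elements with boundary b - a, modulo boundaries of degree-2 elements). This functor
is faithful if and only if f is injective on homology in degree 1. (The published statement is for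
complexes of abelian groups; this row allows modules over any ring R.) -/
theorem result
    (R : Type u) [Ring R] (C D : ChainComplex (ModuleCat.{v} R) ℕ) (f : C ⟶ D) :
    (W4c3biextchow.cxFunctor f).Faithful ↔ Mono (HomologicalComplex.homologyMap f 1) := by
  rw [W4cx.Elem.mono_iff f (i := 2) (k := 0) (by simp) (by simp)]
  constructor
  · intro hF x hx hw
    let a : W4c3biextchow.Obj C := ⟨0⟩
    let φ : a ⟶ a := (⟨Submodule.Quotient.mk x, by simpa [a] using hx⟩ : W4c3biextchow.Hom C a a)
    have : (W4c3biextchow.cxFunctor f).map φ = (W4c3biextchow.cxFunctor f).map (𝟙 a) :=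
      W4c3biextchow.Hom.ext (by
        simp only [W4c3biextchow.cxFunctor_map_cl, W4c3biextchow.id_cl, map_zero, φ,
          W4c3biextchow.q1Map_mk]
        exact (Submodule.Quotient.mk_eq_zero _).mpr hw)
    have h0 := congrArg W4c3biextchow.Hom.cl (hF.map_injective this)
    simp only [φ, W4c3biextchow.id_cl] at h0
    exact (Submodule.Quotient.mk_eq_zero _).mp h0
  · intro h
    refine ⟨fun {a b} φ ψ e => W4c3biextchow.Hom.ext (sub_eq_zero.mp ?_)⟩
    have e' := congrArg W4c3biextchow.Hom.cl e
    simp only [W4c3biextchow.cxFunctor_map_cl] at e'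
    obtain ⟨x, hx⟩ := Submodule.Quotient.mk_surjective _ ((φ : W4c3biextchow.Hom C a b).cl - (ψ : W4c3biextchow.Hom C a b).cl)
    have hd : (C.d 1 0).hom x = 0 := by
      rw [← W4c3biextchow.delta_mk C, hx, map_sub, φ.delta_cl, ψ.delta_cl, sub_self]
    have hf0 : W4c3biextchow.q1Map f (Submodule.Quotient.mk x) = 0 := by
      rw [hx, map_sub, e', sub_self]
    rw [W4c3biextchow.q1Map_mk, Submodule.Quotient.mk_eq_zero] at hf0
    rw [← hx, Submodule.Quotient.mk_eq_zero]
    exact h x hd hf0

end Groth.Agent.S16325
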