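import Groth.Statements.S16326
import Groth.Agent.W4cx.Elem

set_option autoImplicit false
universe u v
open CategoryTheory
open W4c3biextchow

namespace Groth.Agent.S16326

/-- Let f : C ⟶ D be a chain map of ℕ-indexed chain complexes of modules over a ring R, and consider the
functor it induces between the groupoids attached to C and D (objects: degree-0 elements; morphisms
a ⟶ b: degree-1 elements with boundary b - a, modulo boundaries of degree-2 elements). This functor
is full if and only if f is surjective on homology in degree 1 and injective on homology in degree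
0. (The published statement is for complexes of abelian groups; this row allows modules over any
ring R.) -/
theorem result
    (R : Type u) [Ring R] (C D : ChainComplex (ModuleCat.{v} R) ℕ) (f : C ⟶ D) :
    (W4c3biextchow.cxFunctor f).Full ↔
      Epi (HomologicalComplex.homologyMap f 1) ∧ Mono (HomologicalComplex.homologyMap f 0) := by
  rw [W4cx.Elem.epi_iff f (i := 2) (k := 0) (by simp) (by simp),
    W4cx.Elem.mono_iff f (i := 1) (k := 0) (by simp) (by simp)]
  constructor
  · intro hF
    constructor
    · intro y hy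
      let a : W4c3biextchow.Obj C := ⟨0⟩
      obtain ⟨φ, hφ⟩ := hF.map_surjective (X := a) (Y := a)
        (⟨Submodule.Quotient.mk y, by simpa [a] using hy⟩ : W4c3biextchow.Hom D _ _)
      obtain ⟨x, hx⟩ := Submodule.Quotient.mk_surjective _ (φ : W4c3biextchow.Hom C a a).cl
      refine ⟨x, by rw [← W4c3biextchow.delta_mk C, hx, φ.delta_cl]; simp [a], ?_⟩
      have e := congrArg W4c3biextchow.Hom.cl hφ
      simp only [W4c3biextchow.cxFunctor_map_cl, ← hx, W4c3biextchow.q1Map_mk] at e
      exact (Submodule.Quotient.eq _).mp e.symm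
    · intro x _ ⟨w, hw⟩
      let a : W4c3biextchow.Obj C := ⟨0⟩
      let b : W4c3biextchow.Obj C := ⟨x⟩
      obtain ⟨φ, -⟩ := hF.map_surjective (X := a) (Y := b)
        (⟨Submodule.Quotient.mk w, by simpa [a, b] using hw⟩ : W4c3biextchow.Hom D _ _)
      obtain ⟨v, hv⟩ := Submodule.Quotient.mk_surjective _ (φ : W4c3biextchow.Hom C a b).cl
      refine ⟨v, ?_⟩
      rw [← W4c3biextchow.delta_mk C, hv, φ.delta_cl]
      simp [a, b]
  · rintro ⟨h1, h0⟩
    refine ⟨fun {a b} ψ => ?_⟩
    obtain ⟨w, hw⟩ := Submodule.Quotient.mk_surjective _ (ψ : W4c3biextchow.Hom D _ _).cl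
    have hdw : (D.d 1 0).hom w = (f.f 0).hom (b.pt - a.pt) := by
      rw [← W4c3biextchow.delta_mk D, hw, ψ.delta_cl]
      simp
    obtain ⟨v, hv⟩ := h0 (b.pt - a.pt) (by simp) ⟨w, hdw⟩
    have hcomm : (D.d 1 0).hom ((f.f 1).hom v) = (f.f 0).hom ((C.d 1 0).hom v) :=
      ConcreteCategory.congr_hom (f.comm 1 0) v
    obtain ⟨x, hx, u, hu⟩ := h1 (w - (f.f 1).hom v) (by rw [map_sub, hcomm, hv, hdw, sub_self])
    refine ⟨(⟨Submodule.Quotient.mk (v + x), by simp [hv, hx]⟩ : W4c3biextchow.Hom C a b),
      W4c3biextchow.Hom.ext ?_⟩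
    simp only [W4c3biextchow.cxFunctor_map_cl, W4c3biextchow.q1Map_mk]
    rw [← hw]
    refine ((Submodule.Quotient.eq (LinearMap.range (D.d 2 1).hom)).mpr
      (LinearMap.mem_range.mpr ⟨u, ?_⟩)).symm
    rw [hu, map_add]
    abel

end Groth.Agent.S16326
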