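import Groth.Statements.S16327
import Groth.Agent.W4cx.Elem

set_option autoImplicit false
universe u v
open CategoryTheory
open W4c3biextchow

namespace Groth.Agent.S16327

/-- Let f : C ⟶ D be a chain map of ℕ-indexed chain complexes of modules over a ring R, and consider the
functor it induces between the groupoids attached to C and D (objects: degree-0 elements; morphisms
a ⟶ b: degree-1 elements with boundary b - a, modulo boundaries of degree-2 elements). This functor
is essentially surjective if and only if f is surjective on homology in degree 0. (The published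
statement is for complexes of abelian groups; this row allows modules over any ring R.) -/
theorem result
    (R : Type u) [Ring R] (C D : ChainComplex (ModuleCat.{v} R) ℕ) (f : C ⟶ D) :
    (W4c3biextchow.cxFunctor f).EssSurj ↔ Epi (HomologicalComplex.homologyMap f 0) := by
  rw [W4cx.Elem.epi_iff f (i := 1) (k := 0) (by simp) (by simp)]
  constructor
  · intro hF y _
    obtain ⟨a, ⟨e⟩⟩ := hF.mem_essImage (⟨y⟩ : W4c3biextchow.Obj D)
    obtain ⟨w, hw⟩ := Submodule.Quotient.mk_surjective _ (e.hom : W4c3biextchow.Hom D _ _).cl
    refine ⟨a.pt, by simp, w, ?_⟩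
    rw [← W4c3biextchow.delta_mk D, hw, (e.hom : W4c3biextchow.Hom D _ _).delta_cl]
    simp
  · intro h
    refine ⟨fun y => ?_⟩
    obtain ⟨x, -, w, hw⟩ := h y.pt (by simp)
    refine ⟨⟨x⟩, ⟨⟨(⟨Submodule.Quotient.mk w, by simpa using hw⟩ : W4c3biextchow.Hom D _ _),
      (⟨Submodule.Quotient.mk (-w), by simp [hw]⟩ : W4c3biextchow.Hom D _ _), ?_, ?_⟩⟩⟩
    · exact W4c3biextchow.Hom.ext (by simp)
    · exact W4c3biextchow.Hom.ext (by simp)

end Groth.Agent.S16327
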