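import Groth.Statements.S16328
import Groth.Agent.W4cx.Split

set_option autoImplicit false
universe v
open CategoryTheory
open W4c3biextchow

namespace Groth.Agent.S16328

/-- Let f : A' ⟶ A and p : A ⟶ A'' be chain maps of ℕ-indexed chain complexes of free abelian groups
forming a short exact sequence in every degree (f injective, p surjective, image of f equal to the
kernel of p), and assume f is a quasi-isomorphism. Then there is a chain map h : A'' ⟶ A such that
in every degree q the map (a'', a') ↦ h(a'') + f(a') is a bijection from A''_q × A'_q onto A_q, so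
that A is the direct sum of the subcomplexes f(A') and h(A''). (The source allows complexes indexed
by all integers; stated here for complexes in non-negative degrees.) -/
theorem result
    (A' A A'' : ChainComplex (ModuleCat.{v} ℤ) ℕ) (f : A' ⟶ A) (p : A ⟶ A'')
    [∀ q, Module.Free ℤ (A'.X q)] [∀ q, Module.Free ℤ (A.X q)] [∀ q, Module.Free ℤ (A''.X q)]
    (hf : ∀ q, Function.Injective (f.f q).hom) (hp : ∀ q, Function.Surjective (p.f q).hom)
    (hfp : ∀ q, Function.Exact (f.f q).hom (p.f q).hom) [QuasiIso f] :
    ∃ h : A'' ⟶ A, ∀ q : ℕ,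
      Function.Bijective (fun x : A''.X q × A'.X q => (h.f q).hom x.1 + (f.f q).hom x.2) := by

  have hz : f ≫ p = 0 := by
    ext q x
    simpa using (hfp q).apply_apply_eq_zero x
  let S := ShortComplex.mk f p hz
  have hmono : Mono f := W4cx.Split.mono_of_injective f hf
  have : ∀ q, Epi (p.f q) := fun q => (ModuleCat.epi_iff_surjective _).mpr (hp q)
  have hepi : Epi p := HomologicalComplex.epi_of_epi_f p this
  have hS : S.ShortExact :=
    { exact := HomologicalComplex.exact_of_degreewise_exact S fun q =>
        (ShortComplex.ShortExact.moduleCat_exact_iff_function_exact _).mpr (hfp q) }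
  have : ∀ q, Projective (S.X₃.X q) := fun q => W4cx.Split.free_projective _
  obtain ⟨h, hh⟩ := W4cx.Split.exists_section hS (inferInstanceAs (QuasiIso f))
  refine ⟨h, fun q => ?_⟩
  have hph : ∀ x, (p.f q).hom ((h.f q).hom x) = x := fun x => by
    simpa [S] using congrArg (fun φ => ((φ : A'' ⟶ A'').f q).hom x) hh
  constructor
  · rintro ⟨a, b⟩ ⟨a', b'⟩ e
    have ea : a = a' := by
      simpa [hph, (hfp q).apply_apply_eq_zero] using congrArg (p.f q).hom e
    subst ea
    have := add_left_cancel e
    exact Prod.ext rfl (hf q this)
  · intro y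
    obtain ⟨b, hb⟩ := (hfp q (y - (h.f q).hom ((p.f q).hom y))).mp (by simp [hph])
    exact ⟨((p.f q).hom y, b), by simp [hb]⟩

end Groth.Agent.S16328
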