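import Groth.Statements.S16331
import Groth.Agent.S16330

set_option autoImplicit false
universe v
open CategoryTheory
open W4c3biextchow

namespace Groth.Agent.S16331

/-- Let f : A' ⟶ A be a chain map of ℕ-indexed chain complexes of free abelian groups which is injective
in every degree, with free degreewise quotients A_q / f(A'_q), and a quasi-isomorphism; let h' : A'
⟶ B be a chain map to another complex of free abelian groups and g₁, g₂ : A ⟶ A' two chain maps with
f ≫ g₁ = f ≫ g₂ = 𝟙. Consider the functors induced by g₁ ≫ h' and g₂ ≫ h' between the groupoids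
attached to A and B (objects: degree-0 elements; morphisms a ⟶ b: degree-1 elements with boundary b
- a, modulo boundaries of degree-2 elements). Then there is a natural isomorphism between these two
functors whose component at every object of the form f(a'), a' a degree-0 element of A', is the zero
class, i.e. the identity morphism of h'(a'). -/
theorem result
    (A' A B : ChainComplex (ModuleCat.{v} ℤ) ℕ) (f : A' ⟶ A) (h' : A' ⟶ B)
    [∀ q, Module.Free ℤ (A'.X q)] [∀ q, Module.Free ℤ (A.X q)] [∀ q, Module.Free ℤ (B.X q)]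
    (hf : ∀ q, Function.Injective (f.f q).hom)
    (hq : ∀ q, Module.Free ℤ ((A.X q) ⧸ LinearMap.range (f.f q).hom)) [QuasiIso f]
    (g₁ g₂ : A ⟶ A') (h₁ : f ≫ g₁ = 𝟙 A') (h₂ : f ≫ g₂ = 𝟙 A') :
    ∃ N : W4c3biextchow.cxFunctor (g₁ ≫ h') ≅ W4c3biextchow.cxFunctor (g₂ ≫ h'),
      ∀ a : W4c3biextchow.Obj A',
        (N.hom.app ((W4c3biextchow.cxFunctor f).obj a) : W4c3biextchow.Hom B _ _).cl = 0 := by
  obtain ⟨H, hH⟩ := Groth.Agent.S16330.result A' A f hf hq g₁ g₂ h₁ h₂
  have h0 : ∀ x, (g₁.f 0).hom x = (A'.d 1 0).hom ((H.hom 0 1).hom x) + (g₂.f 0).hom x := fun x => by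
    have e := H.comm 0
    rw [prevD_eq _ (show (ComplexShape.down ℕ).Rel 1 0 from rfl)] at e
    simp only [dNext, AddMonoidHom.mk'_apply] at e
    rw [A.shape 0 _ (by simp), Limits.zero_comp, zero_add] at e
    simpa using congrArg (fun φ => (φ : A.X 0 ⟶ A'.X 0).hom x) e
  have h1 : ∀ x, (g₁.f 1).hom x = (H.hom 0 1).hom ((A.d 1 0).hom x) +
      (A'.d 2 1).hom ((H.hom 1 2).hom x) + (g₂.f 1).hom x := fun x => by
    have e := H.comm 1
    rw [dNext_eq _ (show (ComplexShape.down ℕ).Rel 1 0 from rfl),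
      prevD_eq _ (show (ComplexShape.down ℕ).Rel 2 1 from rfl)] at e
    simpa using congrArg (fun φ => (φ : A.X 1 ⟶ A'.X 1).hom x) e
  have hd : ∀ x, (B.d 1 0).hom ((h'.f 1).hom x) = (h'.f 0).hom ((A'.d 1 0).hom x) := fun x =>
    ConcreteCategory.congr_hom (h'.comm 1 0) x
  refine ⟨CategoryTheory.NatIso.ofComponents (fun a =>
    { hom := (⟨Submodule.Quotient.mk (-(h'.f 1).hom ((H.hom 0 1).hom a.pt)), by simp [hd, h0]⟩ :
        W4c3biextchow.Hom B _ _)
      inv := (⟨Submodule.Quotient.mk ((h'.f 1).hom ((H.hom 0 1).hom a.pt)), by simp [hd, h0]⟩ :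
        W4c3biextchow.Hom B _ _)
      hom_inv_id := W4c3biextchow.Hom.ext (by simp)
      inv_hom_id := W4c3biextchow.Hom.ext (by simp) }) ?_, ?_⟩
  · intro a b φ
    refine W4c3biextchow.Hom.ext ?_
    obtain ⟨x, hx⟩ := Submodule.Quotient.mk_surjective _ (φ : W4c3biextchow.Hom A a b).cl
    have hdx : (A.d 1 0).hom x = b.pt - a.pt := by
      rw [← W4c3biextchow.delta_mk A, hx, φ.delta_cl]
    simp only [W4c3biextchow.comp_cl, W4c3biextchow.cxFunctor_map_cl, ← hx,
      W4c3biextchow.q1Map_mk, ← Submodule.Quotient.mk_add]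
    rw [Submodule.Quotient.eq]
    refine ⟨(h'.f 2).hom ((H.hom 1 2).hom x), ?_⟩
    have hd2 : (B.d 2 1).hom ((h'.f 2).hom ((H.hom 1 2).hom x)) =
        (h'.f 1).hom ((A'.d 2 1).hom ((H.hom 1 2).hom x)) :=
      ConcreteCategory.congr_hom (h'.comm 2 1) _
    rw [hd2]
    simp [h1, hdx]
    abel
  · intro a
    have : (H.hom 0 1).hom ((f.f 0).hom a.pt) = 0 := ConcreteCategory.congr_hom (hH 0 1) a.pt
    simp [this]

end Groth.Agent.S16331
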