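import Groth.Statements.S16332
import Mathlib

set_option autoImplicit false
set_option maxHeartbeats 1000000
universe v
open CategoryTheory MonoidalCategory Limits HomologicalComplex
open W4c3biextchow

namespace Groth.Agent.S16332

variable {R : Type v} [CommRing R] (C : ChainComplex (ModuleCat.{v} R) ℕ)

noncomputable abbrev inc (X : ChainComplex (ModuleCat.{v} R) ℕ) (i j n : ℕ) (h : i + j = n) :
    (C.X i ⊗ X.X j : ModuleCat.{v} R) ⟶ (C ⊗ X).X n :=
  ιMapBifunctor C X (curriedTensor (ModuleCat.{v} R)) (ComplexShape.down ℕ) i j n h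

variable {P Q : ChainComplex (ModuleCat.{v} R) ℕ} (π : P ⟶ Q)

theorem inc_whiskerLeft (i j n : ℕ) (h : i + j = n) :
    inc C P i j n h ≫ (C ◁ π).f n = (C.X i ◁ π.f j) ≫ inc C Q i j n h := by
  refine (ι_mapBifunctorMap (𝟙 C) π (curriedTensor (ModuleCat.{v} R)) (ComplexShape.down ℕ) i j n h).trans ?_
  simp

theorem inc_d_02 : inc C P 0 2 2 rfl ≫ (C ⊗ P).d 2 1 = (C.X 0 ◁ P.d 2 1) ≫ inc C P 0 1 1 rfl := by
  refine (congrArg (_ ≫ ·) (mapBifunctor.d_eq C P (curriedTensor (ModuleCat.{v} R)) (ComplexShape.down ℕ) 2 1)).trans ?_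
  rw [Preadditive.comp_add, mapBifunctor.ι_D₁, mapBifunctor.ι_D₂,
    mapBifunctor.d₁_eq_zero _ _ _ _ _ _ _ (by simp), zero_add,
    mapBifunctor.d₂_eq _ _ _ _ _ (show (ComplexShape.down ℕ).Rel 2 1 from rfl) 1 rfl]
  simp [ComplexShape.ε₂, TotalComplexShape.ε₂]

theorem inc_d_01 : inc C P 0 1 1 rfl ≫ (C ⊗ P).d 1 0 = (C.X 0 ◁ P.d 1 0) ≫ inc C P 0 0 0 rfl := by
  refine (congrArg (_ ≫ ·) (mapBifunctor.d_eq C P (curriedTensor (ModuleCat.{v} R)) (ComplexShape.down ℕ) 1 0)).trans ?_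
  rw [Preadditive.comp_add, mapBifunctor.ι_D₁, mapBifunctor.ι_D₂,
    mapBifunctor.d₁_eq_zero _ _ _ _ _ _ _ (by simp), zero_add,
    mapBifunctor.d₂_eq _ _ _ _ _ (show (ComplexShape.down ℕ).Rel 1 0 from rfl) 0 rfl]
  simp [ComplexShape.ε₂, TotalComplexShape.ε₂]

theorem inc_d_11 : inc C P 1 1 2 rfl ≫ (C ⊗ P).d 2 1 =
    (C.d 1 0 ▷ P.X 1) ≫ inc C P 0 1 1 rfl - (C.X 1 ◁ P.d 1 0) ≫ inc C P 1 0 1 rfl := by
  refine (congrArg (_ ≫ ·) (mapBifunctor.d_eq C P (curriedTensor (ModuleCat.{v} R)) (ComplexShape.down ℕ) 2 1)).trans ?_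
  rw [Preadditive.comp_add, mapBifunctor.ι_D₁, mapBifunctor.ι_D₂,
    mapBifunctor.d₁_eq _ _ _ _ (show (ComplexShape.down ℕ).Rel 1 0 from rfl) 1 1 rfl,
    mapBifunctor.d₂_eq _ _ _ _ _ (show (ComplexShape.down ℕ).Rel 1 0 from rfl) 1 rfl]
  simp [ComplexShape.ε₁, ComplexShape.ε₂, TotalComplexShape.ε₁, TotalComplexShape.ε₂, sub_eq_add_neg]

theorem mem_of_inc {n : ℕ} (S : Submodule R ((C ⊗ P).X n))
    (hS : ∀ i j h, ∀ x, (inc C P i j n h).hom x ∈ S) (z : (C ⊗ P).X n) : z ∈ S := by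
  have : ModuleCat.ofHom S.mkQ = 0 := mapBifunctor.hom_ext fun i j h => by
    ext1
    refine LinearMap.ext fun x => ?_
    simpa using (Submodule.Quotient.mk_eq_zero S).2 (hS i j h x)
  exact (Submodule.Quotient.mk_eq_zero S).1 (LinearMap.congr_fun (congrArg ModuleCat.Hom.hom this) z)

theorem inc_injective (i j n : ℕ) (h : i + j = n) : Function.Injective (inc C P i j n h).hom := by
  classical
  let r : (C ⊗ P).X n ⟶ C.X i ⊗ P.X j := mapBifunctorDesc fun i' j' _ =>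
    if e : i' = i ∧ j' = j then eqToHom (by obtain ⟨rfl, rfl⟩ := e; rfl) else 0
  have hr : inc C P i j n h ≫ r = 𝟙 _ :=
    (ι_mapBifunctorDesc _ _ _ _).trans (by simp)
  exact Function.LeftInverse.injective (g := r.hom) fun x =>
    LinearMap.congr_fun (congrArg ModuleCat.Hom.hom hr) x

theorem result
    (R : Type v) [CommRing R] (C P : ChainComplex (ModuleCat.{v} R) ℕ) (G : ModuleCat.{v} R)
    [Module.Free R (C.X 0)] [∀ q, Module.Free R (P.X q)]
    (π : P ⟶ (ChainComplex.single₀ (ModuleCat.{v} R)).obj G) [QuasiIso π] :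
    IsIso (HomologicalComplex.homologyMap (C ◁ π) 1) := by
  let Pr : ProjectiveResolution G :=
    { complex := P
      projective := fun n => ModuleCat.projective_of_free (Module.Free.chooseBasis R (P.X n))
      π := π }
  let W := (ChainComplex.single₀ (ModuleCat.{v} R)).obj G
  have hepiπ : ∀ n, Epi (π.f n) := fun n => by
    cases n with
    | zero => exact epi_of_isColimit_cofork Pr.isColimitCokernelCofork
    | succ m => exact ⟨fun a b _ => (isZero_single_obj_X _ _ _ _ (Nat.succ_ne_zero m)).eq_of_src a b⟩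
  have ex1 : Function.Exact (P.d 2 1).hom (P.d 1 0).hom := LinearMap.exact_iff.2
    (Pr.exact_succ 0).moduleCat_range_eq_ker.symm
  have ex0 : Function.Exact (P.d 1 0).hom (π.f 0).hom := LinearMap.exact_iff.2
    (ShortComplex.exact_of_g_is_cokernel (ShortComplex.mk _ _ Pr.complex_d_comp_π_f_zero)
      Pr.isColimitCokernelCofork).moduleCat_range_eq_ker.symm
  have hπ0 : Function.Surjective (π.f 0).hom := (ModuleCat.epi_iff_surjective _).1 (hepiπ 0)
  let Φ := C ◁ π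
  haveI : ∀ n, Epi (Φ.f n) := fun n => ⟨fun a b hab => mapBifunctor.hom_ext fun i j h => by
    haveI : Epi (C.X i ◁ π.f j) := (ModuleCat.epi_iff_surjective _).2
      (LinearMap.lTensor_surjective _ ((ModuleCat.epi_iff_surjective _).1 (hepiπ j)))
    refine (cancel_epi (C.X i ◁ π.f j)).1 ?_
    have := congrArg (inc C P i j n h ≫ ·) hab
    simp only [Φ, ← Category.assoc, inc_whiskerLeft] at this
    simpa only [Category.assoc] using this⟩
  haveI : Epi Φ := HomologicalComplex.epi_of_epi_f Φ inferInstance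
  let S := ShortComplex.mk (kernel.ι Φ) Φ (kernel.condition Φ)
  have hS : S.ShortExact := { exact := ShortComplex.exact_of_f_is_kernel _ (kernelIsKernel Φ) }
  have hmap : ∀ n, (S.map (eval (ModuleCat.{v} R) (ComplexShape.down ℕ) n)).ShortExact :=
    fun n => hS.map_of_exact _
  have hinj : ∀ n, Function.Injective ((kernel.ι Φ).f n).hom := fun n => (hmap n).moduleCat_injective_f
  have hlift : ∀ n z, (Φ.f n).hom z = 0 → ∃ k, ((kernel.ι Φ).f n).hom k = z := fun n z hz =>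
    ((S.map (eval (ModuleCat.{v} R) (ComplexShape.down ℕ) n)).moduleCat_exact_iff).1 (hmap n).exact z hz
  have hzero : ∀ n k, (Φ.f n).hom (((kernel.ι Φ).f n).hom k) = 0 := fun n k =>
    LinearMap.congr_fun (congrArg ModuleCat.Hom.hom ((congrArg (fun q => Hom.f q n) (kernel.condition Φ)))) k
  have hd : ∀ n m k, ((kernel.ι Φ).f m).hom (((kernel Φ).d n m).hom k) =
      ((C ⊗ P).d n m).hom (((kernel.ι Φ).f n).hom k) := fun n m k =>
    (LinearMap.congr_fun (congrArg ModuleCat.Hom.hom ((kernel.ι Φ).comm n m)) k).symm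
  have hΦ : ∀ i j n h x, (Φ.f n).hom ((inc C P i j n h).hom x) =
      (inc C W i j n h).hom ((π.f j).hom.lTensor (C.X i) x) := fun i j n h x =>
    LinearMap.congr_fun (congrArg ModuleCat.Hom.hom (inc_whiskerLeft C π i j n h)) x
  have d02 : ∀ x, ((C ⊗ P).d 2 1).hom ((inc C P 0 2 2 rfl).hom x) =
      (inc C P 0 1 1 rfl).hom ((P.d 2 1).hom.lTensor (C.X 0) x) := fun x =>
    LinearMap.congr_fun (congrArg ModuleCat.Hom.hom (inc_d_02 C)) x
  have d01 : ∀ x, ((C ⊗ P).d 1 0).hom ((inc C P 0 1 1 rfl).hom x) =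
      (inc C P 0 0 0 rfl).hom ((P.d 1 0).hom.lTensor (C.X 0) x) := fun x =>
    LinearMap.congr_fun (congrArg ModuleCat.Hom.hom (inc_d_01 C)) x
  have d11 : ∀ x, ((C ⊗ P).d 2 1).hom ((inc C P 1 1 2 rfl).hom x) =
      (inc C P 0 1 1 rfl).hom ((C.d 1 0).hom.rTensor (P.X 1) x) -
      (inc C P 1 0 1 rfl).hom ((P.d 1 0).hom.lTensor (C.X 1) x) := fun x =>
    LinearMap.congr_fun (congrArg ModuleCat.Hom.hom (inc_d_11 C)) x
  have π1 : ∀ j, j ≠ 0 → π.f j = 0 := fun j hj => (isZero_single_obj_X _ _ _ _ hj).eq_of_tgt _ _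
  have Φ0 : ∀ i j n h x, j ≠ 0 → (Φ.f n).hom ((inc C P i j n h).hom x) = 0 := fun i j n h x hj => by
    rw [hΦ, π1 j hj]
    simp
  have h0 : IsZero ((kernel Φ).homology 0) := by
    refine HomologicalComplex.ExactAt.isZero_homology ?_
    rw [exactAt_iff' _ 1 0 0 (by simp) (by simp), ShortComplex.moduleCat_exact_iff]
    intro k _
    obtain ⟨x, hx⟩ : ((kernel.ι Φ).f 0).hom k ∈ LinearMap.range (inc C P 0 0 0 rfl).hom :=
      mem_of_inc C _ (fun i j h x => by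
        obtain ⟨rfl, rfl⟩ : i = 0 ∧ j = 0 := by omega
        exact ⟨x, rfl⟩) _
    have h' := hzero 0 k
    rw [← hx, hΦ] at h'
    obtain ⟨y, hy⟩ := (lTensor_exact (C.X 0) ex0 hπ0 x).1 (inc_injective C 0 0 0 rfl (h'.trans (map_zero _).symm))
    obtain ⟨k', hk'⟩ := hlift 1 _ (Φ0 0 1 1 rfl y one_ne_zero)
    refine ⟨k', hinj 0 ?_⟩
    show _ = _
    rw [← hx, ← hy, ← d01, ← hk']
    exact hd 1 0 k'
  have h1 : IsZero ((kernel Φ).homology 1) := by
    refine HomologicalComplex.ExactAt.isZero_homology ?_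
    rw [exactAt_iff' _ 2 1 0 (by simp) (by simp), ShortComplex.moduleCat_exact_iff]
    intro k hk
    change ((kernel Φ).d 1 0).hom k = 0 at hk
    have hdz : ((C ⊗ P).d 1 0).hom (((kernel.ι Φ).f 1).hom k) = 0 := by rw [← hd, hk, map_zero]
    obtain ⟨a, ⟨a', ha⟩, b, ⟨b', hb⟩, hab⟩ := Submodule.mem_sup.1
      (mem_of_inc C (LinearMap.range (inc C P 1 0 1 rfl).hom ⊔ LinearMap.range (inc C P 0 1 1 rfl).hom)
        (fun i j h x => by
          obtain ⟨rfl, rfl⟩ | ⟨rfl, rfl⟩ : (i = 1 ∧ j = 0) ∨ (i = 0 ∧ j = 1) := by omega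
          · exact Submodule.mem_sup_left ⟨x, rfl⟩
          · exact Submodule.mem_sup_right ⟨x, rfl⟩) (((kernel.ι Φ).f 1).hom k))
    have h' := hzero 1 k
    rw [← hab, ← ha, ← hb, map_add, Φ0 0 1 1 rfl b' one_ne_zero, add_zero, hΦ] at h'
    obtain ⟨w, hw⟩ := (lTensor_exact (C.X 1) ex0 hπ0 a').1 (inc_injective C 1 0 1 rfl (h'.trans (map_zero _).symm))
    let b'' := b' + (C.d 1 0).hom.rTensor (P.X 1) w
    have hz : ((kernel.ι Φ).f 1).hom k =
        (inc C P 0 1 1 rfl).hom b'' - ((C ⊗ P).d 2 1).hom ((inc C P 1 1 2 rfl).hom w) := by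
      rw [d11, hw, map_add, ← hab, ← ha, ← hb]
      abel
    have hdd : ∀ u, ((C ⊗ P).d 1 0).hom (((C ⊗ P).d 2 1).hom u) = 0 := fun u =>
      LinearMap.congr_fun (congrArg ModuleCat.Hom.hom ((C ⊗ P).d_comp_d 2 1 0)) u
    rw [hz, map_sub, hdd, sub_zero, d01] at hdz
    obtain ⟨v, hv⟩ := ((Module.Flat.lTensor_exact (C.X 0) ex1) b'').1
      (inc_injective C 0 0 0 rfl (hdz.trans (map_zero _).symm))
    obtain ⟨k', hk'⟩ := hlift 2 ((inc C P 0 2 2 rfl).hom v - (inc C P 1 1 2 rfl).hom w)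
      (by rw [map_sub, Φ0 0 2 2 rfl v two_ne_zero, Φ0 1 1 2 rfl w one_ne_zero, sub_zero])
    refine ⟨k', hinj 1 ?_⟩
    show _ = _
    refine (hd 2 1 k').trans ?_
    rw [hk', map_sub, d02, hv, hz]
  haveI : Mono (homologyMap Φ 1) := (hS.homology_exact₂ 1).mono_g (h1.eq_of_src _ _)
  haveI : Epi (homologyMap Φ 1) :=
    (hS.homology_exact₃ 1 0 (by simp)).epi_f (h0.eq_of_tgt _ _)
  exact isIso_of_mono_of_epi _

end Groth.Agent.S16332
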