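import Groth.Statements.S16344
import Mathlib

set_option autoImplicit false
set_option linter.style.haveILetI false
universe u v
open IdeleMod

namespace Groth.Agent.S16344

/-- Let (G_i) be an inverse system, indexed by a directed preorder, of compact Hausdorff topological
abelian groups with continuous surjective transition maps, let G be its limit (the group of
compatible families) and let m be a natural number. Then the canonical map G/mG → lim G_i/mG_i is
bijective: a compatible family that lies in mG_i at every index is m times a compatible family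
(injectivity), and every family that is compatible modulo m agrees modulo m, index by index, with a
compatible family (surjectivity). -/
theorem result
    {ι : Type u} [Preorder ι] [IsDirected ι (· ≤ ·)]
    (G : ι → Type v) [∀ i, AddCommGroup (G i)] [∀ i, TopologicalSpace (G i)]
    [∀ i, IsTopologicalAddGroup (G i)] [∀ i, CompactSpace (G i)] [∀ i, T2Space (G i)]
    (f : ∀ ⦃i j : ι⦄, i ≤ j → (G j →+ G i)) (hf : ∀ i j (h : i ≤ j), Continuous (f h))
    (hid : ∀ i (x : G i), f (le_refl i) x = x)
    (hcomp : ∀ i j k (hij : i ≤ j) (hjk : j ≤ k) (x : G k), f hij (f hjk x) = f (hij.trans hjk) x)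
    (hsurj : ∀ i j (h : i ≤ j), Function.Surjective (f h)) (m : ℕ) :
    (∀ x : ∀ i, G i, (∀ i j (h : i ≤ j), f h (x j) = x i) → (∀ i, ∃ y : G i, m • y = x i) →
        ∃ z : ∀ i, G i, (∀ i j (h : i ≤ j), f h (z j) = z i) ∧ ∀ i, m • z i = x i) ∧
    (∀ y : ∀ i, G i, (∀ i j (h : i ≤ j), ∃ w : G i, f h (y j) - y i = m • w) →
        ∃ x : ∀ i, G i, (∀ i j (h : i ≤ j), f h (x j) = x i) ∧ ∀ i, ∃ w : G i, x i - y i = m • w) := by
  classical
  have main : ∀ P : ∀ i, Set (G i), (∀ i, IsClosed (P i)) → (∀ i, (P i).Nonempty) →
      (∀ i j (h : i ≤ j), ∀ a ∈ P j, f h a ∈ P i) →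
      ∃ z : ∀ i, G i, (∀ i j (h : i ≤ j), f h (z j) = z i) ∧ ∀ i, z i ∈ P i := by
    intro P hc hne hP
    cases isEmpty_or_nonempty ι with
    | inl h => exact ⟨fun i => isEmptyElim i, fun i => isEmptyElim i, fun i => isEmptyElim i⟩
    | inr h =>
      let S : ι → Set (∀ i, G i) := fun k => {z | (∀ i (h : i ≤ k), f h (z k) = z i) ∧ z k ∈ P k}
      have hSc : ∀ k, IsClosed (S k) := by
        intro k
        have e : S k = (⋂ i, ⋂ (h : i ≤ k), {z : ∀ i, G i | f h (z k) = z i}) ∩ (fun z : ∀ i, G i => z k) ⁻¹' P k := by
          ext z; simp [S]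
        rw [e]
        exact (isClosed_iInter fun i => isClosed_iInter fun h =>
          isClosed_eq ((hf i k h).comp (continuous_apply k)) (continuous_apply i)).inter ((hc k).preimage (continuous_apply k))
      have hSne : ∀ k, (S k).Nonempty := by
        intro k
        obtain ⟨a, ha⟩ := hne k
        refine ⟨fun i => if h : i ≤ k then f h a else 0, fun i h => ?_, ?_⟩
        · simp only [dif_pos h, dif_pos (le_refl k), hid]
        · simp only [dif_pos (le_refl k), hid]; exact ha
      have hdir : Directed (· ⊇ ·) S := by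
        intro a b
        obtain ⟨c, hac, hbc⟩ := exists_ge_ge a b
        have key : ∀ a (hac : a ≤ c), S c ⊆ S a := by
          intro a hac z hz
          refine ⟨fun i h => ?_, ?_⟩
          · rw [← hz.1 a hac, hcomp, hz.1 i (h.trans hac)]
          · rw [← hz.1 a hac]; exact hP a c hac _ hz.2
        exact ⟨c, key a hac, key b hbc⟩
      obtain ⟨z, hz⟩ := IsCompact.nonempty_iInter_of_directed_nonempty_isCompact_isClosed S hdir hSne
        (fun k => (hSc k).isCompact) hSc
      rw [Set.mem_iInter] at hz
      exact ⟨z, fun i j h => (hz j).1 i h, fun i => (hz i).2⟩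
  constructor
  · intro x hx hdiv
    exact main (fun i => {a | m • a = x i}) (fun i => isClosed_eq (continuous_id.nsmul m) continuous_const) hdiv
      (fun i j h a ha => by show m • f h a = x i; rw [← map_nsmul, show m • a = x j from ha, hx i j h])
  · intro y hy
    exact main (fun i => {a | ∃ w, a - y i = m • w})
      (fun i => by
        have : {a : G i | ∃ w, a - y i = m • w} = (fun w => y i + m • w) '' Set.univ := by
          ext a; simp only [Set.image_univ, Set.mem_range, Set.mem_setOf_eq]
          exact ⟨fun ⟨w, hw⟩ => ⟨w, by rw [← hw, add_sub_cancel]⟩, fun ⟨w, hw⟩ => ⟨w, by rw [← hw, add_sub_cancel_left]⟩⟩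
        rw [this]
        exact (isCompact_univ.image (continuous_const.add (continuous_id.nsmul m))).isClosed)
      (fun i => ⟨y i, 0, by simp⟩)
      (fun i j h a ⟨w, hw⟩ => by
        obtain ⟨w', hw'⟩ := hy i j h
        refine ⟨f h w + w', ?_⟩
        rw [smul_add, ← map_nsmul, ← hw, ← hw', map_sub]
        abel)

end Groth.Agent.S16344
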