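import Groth.Statements.S16356
import Mathlib.RingTheory.WittVector.DiscreteValuationRing
import Mathlib.Algebra.Ring.GeomSum
import Mathlib.Tactic.LinearCombination

set_option autoImplicit false
universe u
open OrdAV

namespace Groth.Agent.S16356

/-- For an odd prime p and a perfect field k of characteristic p, a root of unity in the ring of Witt
vectors W(k) whose residue in k is 1 is itself 1: if x ^ n = 1 with n ≥ 1 and the zeroth Witt
component of x is 1, then x = 1. (For p = 2 this fails: -1 in W(F_2).) -/
theorem result (p : ℕ) [Fact p.Prime] (hp : p ≠ 2)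
    (k : Type u) [Field k] [CharP k p] [PerfectRing k p]
    (x : WittVector p k) (n : ℕ) (hn : 0 < n) (hx : x ^ n = 1) (h0 : x.coeff 0 = 1) : x = 1 := by
  haveI : IsDomain (WittVector p k) := inferInstance
  have hpne : (p : WittVector p k) ≠ 0 := (WittVector.irreducible p).ne_zero
  have key : ∀ m : ℕ, 0 < m → ∀ y : WittVector p k, y.coeff 0 = 1 → y ^ m = 1 → (¬ p ∣ m ∨ m = p) → y = 1 := by
    intro m hm y hy hym hmp
    by_contra hne
    have hsum : ∑ i ∈ Finset.range m, y ^ i = 0 := by
      have := geom_sum_mul y m
      rw [hym, sub_self] at this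
      exact (mul_eq_zero.1 this).resolve_right (sub_ne_zero.2 hne)
    rcases hmp with hmp | hmp
    · have := congrArg WittVector.constantCoeff hsum
      simp only [map_sum, map_pow, map_zero, WittVector.constantCoeff_apply, hy, one_pow, Finset.sum_const,
        Finset.card_range, nsmul_eq_mul, mul_one] at this
      exact hmp ((CharP.cast_eq_zero_iff k p m).1 this)
    · subst m
      obtain ⟨j, b, hb⟩ := WittVector.exists_eq_pow_p_mul' (y - 1) (sub_ne_zero.2 hne)
      obtain ⟨z, hz⟩ : ∃ z, y = 1 + (p : WittVector p k) * z := by
        cases j with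
        | zero =>
          exfalso
          have h0 : WittVector.constantCoeff (y - 1) = 0 := by
            rw [map_sub, map_one, WittVector.constantCoeff_apply, hy, sub_self]
          rw [hb, pow_zero, one_mul] at h0
          exact (b.isUnit.map WittVector.constantCoeff).ne_zero h0
        | succ j => exact ⟨(p : WittVector p k) ^ j * b, by rw [← mul_assoc, ← pow_succ', ← hb]; ring⟩
      have hexp : ∀ i : ℕ, ∃ c, y ^ i = 1 + (i : WittVector p k) * ((p : WittVector p k) * z) + (p : WittVector p k) ^ 2 * c := by
        intro i
        induction i with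
        | zero => exact ⟨0, by simp⟩
        | succ i ih =>
          obtain ⟨c, hc⟩ := ih
          exact ⟨(i : WittVector p k) * z * z + c * y, by rw [pow_succ, hc, hz]; push_cast; ring⟩
      choose c hc using hexp
      obtain ⟨q, hq⟩ : ∃ q, ∑ i ∈ Finset.range p, i = p * q := by
        obtain ⟨q, hq⟩ := (Fact.out (p := p.Prime)).odd_of_ne_two hp
        refine ⟨q, ?_⟩
        have := Finset.sum_range_id_mul_two p
        have h2 : p - 1 = 2 * q := by omega
        rw [h2] at this
        linarith
      rw [Finset.sum_congr rfl (fun i _ => hc i), Finset.sum_add_distrib, Finset.sum_add_distrib,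
        Finset.sum_const, Finset.card_range, nsmul_eq_mul, mul_one, ← Finset.sum_mul, ← Finset.mul_sum,
        ← Nat.cast_sum, hq, Nat.cast_mul] at hsum
      have h1 : (1 : WittVector p k) + (p : WittVector p k) * ((q : WittVector p k) * z + ∑ i ∈ Finset.range p, c i) = 0 :=
        (mul_eq_zero.1 (show (p : WittVector p k) * (1 + (p : WittVector p k) * ((q : WittVector p k) * z + ∑ i ∈ Finset.range p, c i)) = 0 by
          linear_combination hsum)).resolve_left hpne
      exact (WittVector.irreducible p).not_isUnit
        (IsUnit.of_mul_eq_one (-((q : WittVector p k) * z + ∑ i ∈ Finset.range p, c i)) (by linear_combination -h1))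
  induction n using Nat.strong_induction_on generalizing x with
  | _ n ih =>
    by_cases hpn : p ∣ n
    · obtain ⟨m, rfl⟩ := hpn
      have hm : 0 < m := Nat.pos_of_mul_pos_left hn
      have hy0 : (x ^ m).coeff 0 = 1 := by
        show WittVector.constantCoeff (x ^ m) = 1
        rw [map_pow, WittVector.constantCoeff_apply, h0, one_pow]
      have hp0 := (Fact.out (p := p.Prime)).pos
      have := key p hp0 (x ^ m) hy0 (by rw [← pow_mul, mul_comm, hx]) (Or.inr rfl)
      exact ih m (lt_mul_of_one_lt_left hm (Fact.out (p := p.Prime)).one_lt) x hm this h0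
    · exact key n hn x h0 hx (Or.inl hpn)

end Groth.Agent.S16356
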