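import Groth.Statements.S16357
import Mathlib.Algebra.Polynomial.Lifts
import Mathlib.Algebra.Polynomial.Monic
import Mathlib.Algebra.BigOperators.NatAntidiagonal
import Mathlib.Algebra.CharZero.Defs
import Mathlib.Data.Rat.Cast.CharZero

set_option autoImplicit false
universe u
open OrdAV

namespace Groth.Agent.S16357

/-- Over a field L of characteristic zero, a monic polynomial h whose square has rational coefficients
has rational coefficients itself. -/
theorem result (L : Type u) [Field L] [CharZero L]
    (h : Polynomial L) (hm : h.Monic) (f : Polynomial ℚ)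
    (hf : h ^ 2 = Polynomial.map (algebraMap ℚ L) f) :
    ∃ g : Polynomial ℚ, Polynomial.map (algebraMap ℚ L) g = h := by
  classical
  let S := (algebraMap ℚ L).range
  have key : ∀ m, ∀ i, i + m = h.natDegree → h.coeff i ∈ S := by
    intro m
    induction m using Nat.strong_induction_on with
    | _ m ih =>
      intro i hi
      rcases Nat.eq_zero_or_pos m with rfl | hm0
      · rw [show i = h.natDegree by omega, hm.coeff_natDegree]; exact one_mem _
      let d := h.natDegree
      have hc : (h ^ 2).coeff (d + i) ∈ S := by rw [hf, Polynomial.coeff_map]; exact ⟨_, rfl⟩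
      rw [sq, Polynomial.coeff_mul] at hc
      have hsplit : (2 : L) * h.coeff i = (∑ p ∈ Finset.antidiagonal (d + i), h.coeff p.1 * h.coeff p.2) -
          ∑ p ∈ ((Finset.antidiagonal (d + i)).erase (d, i)).erase (i, d), h.coeff p.1 * h.coeff p.2 := by
        rw [eq_sub_iff_add_eq, ← Finset.add_sum_erase _ _ (show (d, i) ∈ Finset.antidiagonal (d + i) from Finset.HasAntidiagonal.mem_antidiagonal.2 rfl),
          ← Finset.add_sum_erase _ _ (show (i, d) ∈ (Finset.antidiagonal (d + i)).erase (d, i) from
            Finset.mem_erase.2 ⟨fun e => by have := (Prod.mk.inj e).1; omega, Finset.HasAntidiagonal.mem_antidiagonal.2 (add_comm i d)⟩)]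
        simp only [d, hm.coeff_natDegree]
        ring
      have hrest : ∑ p ∈ ((Finset.antidiagonal (d + i)).erase (d, i)).erase (i, d), h.coeff p.1 * h.coeff p.2 ∈ S := by
        refine sum_mem fun p hp => ?_
        obtain ⟨a, b⟩ := p
        simp only [Finset.mem_erase, Finset.HasAntidiagonal.mem_antidiagonal, ne_eq, Prod.mk.injEq] at hp
        by_cases ha : d < a
        · rw [Polynomial.coeff_eq_zero_of_natDegree_lt ha, zero_mul]; exact zero_mem _
        by_cases hb : d < b
        · rw [Polynomial.coeff_eq_zero_of_natDegree_lt hb, mul_zero]; exact zero_mem _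
        exact mul_mem (ih (d - a) (by omega) a (by omega)) (ih (d - b) (by omega) b (by omega))
      have h2 : (2 : L) * h.coeff i ∈ S := hsplit ▸ sub_mem hc hrest
      obtain ⟨q, hq⟩ := h2
      exact ⟨q / 2, by rw [map_div₀, map_ofNat, hq, mul_div_cancel_left₀ _ (two_ne_zero)]⟩
  refine Polynomial.mem_lifts h |>.1 ((Polynomial.lifts_iff_coeff_lifts h).2 fun i => ?_)
  by_cases hi : i ≤ h.natDegree
  · exact key (h.natDegree - i) i (by omega)
  · rw [Polynomial.coeff_eq_zero_of_natDegree_lt (by omega)]; exact ⟨0, map_zero _⟩

end Groth.Agent.S16357
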