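import Groth.Statements.S16358
import Mathlib

set_option autoImplicit false
universe u v w
open OrdAV

namespace Groth.Agent.S16358

/-- Let k be a perfect field of characteristic p > 0 and W = W(k); let M be a finitely generated free
W-module on which a finite group G acts W-linearly, with invariant submodule M^G. Then the map
(W/pW) ⊗ M^G → (W/pW) ⊗ M induced by the inclusion is injective. Since M^G is free, this implies
rank_W M^G ≤ dim_k (M/pM)^G; the published statement is that inequality, and this row states the
stronger injectivity. -/
theorem result (p : ℕ) [Fact p.Prime]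
    (k : Type u) [Field k] [CharP k p] [PerfectRing k p]
    (M : Type v) [AddCommGroup M] [Module (WittVector p k) M]
    [Module.Free (WittVector p k) M] [Module.Finite (WittVector p k) M]
    (G : Type w) [Group G] [Finite G] (ρ : Representation (WittVector p k) G M) :
    Function.Injective
      (LinearMap.lTensor (WittVector p k ⧸ Ideal.span {(p : WittVector p k)}) ρ.invariants.subtype) := by
  let q := Ideal.span {(p : WittVector p k)}
  rw [injective_iff_map_eq_zero]
  intro x hx
  let e1 := TensorProduct.quotTensorEquivQuotSMul ρ.invariants q
  let e2 := TensorProduct.quotTensorEquivQuotSMul M q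
  obtain ⟨y, hy⟩ := Submodule.Quotient.mk_surjective _ (e1 x)
  have hx' : x = 1 ⊗ₜ y := by
    apply e1.injective
    rw [← hy]
    exact ((TensorProduct.quotTensorEquivQuotSMul_mk_tmul q 1 y).trans (by rw [one_smul])).symm
  subst hx'
  rw [LinearMap.lTensor_tmul] at hx
  have h2 := congrArg e2 hx
  rw [map_zero] at h2
  erw [TensorProduct.quotTensorEquivQuotSMul_mk_tmul, one_smul, Submodule.Quotient.mk_eq_zero] at h2
  simp only [q, Submodule.ideal_span_singleton_smul, Submodule.mem_smul_pointwise_iff_exists] at h2
  obtain ⟨m, -, hm⟩ := h2
  have hp0 : (p : WittVector p k) ≠ 0 := WittVector.p_nonzero p k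
  have hminv : m ∈ ρ.invariants := fun g => by
    refine smul_right_injective M hp0 ?_
    show (p : WittVector p k) • ρ g m = (p : WittVector p k) • m
    rw [← map_smul, hm]
    exact y.2 g
  have : y = (p : WittVector p k) • (⟨m, hminv⟩ : ρ.invariants) := Subtype.ext hm.symm
  rw [this, TensorProduct.tmul_smul, TensorProduct.smul_tmul']
  have h0 : (p : WittVector p k) • (1 : WittVector p k ⧸ q) = 0 := by
    rw [Algebra.smul_def, mul_one]
    exact Ideal.Quotient.eq_zero_iff_mem.2 (Ideal.mem_span_singleton_self _)
  rw [h0, TensorProduct.zero_tmul]

end Groth.Agent.S16358
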