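import Groth.Statements.S16371
import Mathlib.RingTheory.Adjoin.Basic
import Mathlib.Tactic.Ring
import Mathlib.Algebra.CharP.Lemmas
-- import your own Groth.Agent.* helpers here

set_option autoImplicit false
universe u v w
open FrobAlg

namespace Groth.Agent.S16371

/-- Let p be a prime, A a commutative ring and B, C commutative A-algebras with p² = 0 in B. If two
A-algebra maps g₁, g₂ : C → B agree modulo p, then they agree on every element of C which is
congruent modulo p to an element of the A-subalgebra generated by the p-th powers. (The source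
states this for liftings over a flat ℤ/p²-thickening of two smooth schemes and the subsheaf of
functions whose reduction lies in the image of the relative Frobenius; the smoothness and lifting
hypotheses are not needed for the identity.) -/
theorem result
    (p : ℕ) [Fact p.Prime] (A : Type u) [CommRing A] (B : Type v) [CommRing B] [Algebra A B]
    (C : Type w) [CommRing C] [Algebra A C] (hp : (p : B) ^ 2 = 0)
    (g₁ g₂ : C →ₐ[A] B) (hg : ∀ x : C, g₁ x - g₂ x ∈ Ideal.span ({(p : B)} : Set B))
    (x y : C) (hy : y ∈ Algebra.adjoin A (Set.range fun c : C => c ^ p))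
    (hxy : x - y ∈ Ideal.span ({(p : C)} : Set C)) :
    g₁ x = g₂ x := by
  have hpp : ∀ u : B, u ∈ Ideal.span ({(p : B)} : Set B) → (p : B) * u = 0 := by
    intro u hu
    obtain ⟨v, rfl⟩ := Ideal.mem_span_singleton.1 hu
    rw [← mul_assoc, ← pow_two, hp, zero_mul]
  obtain ⟨z, hz⟩ := Ideal.mem_span_singleton.1 hxy
  have h1 : (p : B) * g₁ z = (p : B) * g₂ z := by
    rw [← sub_eq_zero, ← mul_sub, hpp _ (hg z)]
  have h2 : g₁ y = g₂ y := by
    clear hxy hz
    induction hy using Algebra.adjoin_induction with
    | mem w hw =>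
      obtain ⟨c, rfl⟩ := hw
      obtain ⟨v, hv⟩ := Ideal.mem_span_singleton.1 (hg c)
      obtain ⟨r, hr⟩ := exists_add_pow_prime_eq (Fact.out : p.Prime) (g₂ c) ((p : B) * v)
      show g₁ (c ^ p) = g₂ (c ^ p)
      rw [map_pow, map_pow, show g₁ c = g₂ c + (p : B) * v by rw [← hv]; ring, hr]
      have h3 : ((p : B) * v) ^ p = 0 := by
        obtain ⟨j, hj⟩ : ∃ j, p = j + 2 := ⟨p - 2, by have := (Fact.out : p.Prime).two_le; omega⟩
        calc ((p : B) * v) ^ p = ((p : B) * v) ^ j * ((p : B) ^ 2 * v ^ 2) := by rw [← mul_pow, ← pow_add, ← hj]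
          _ = 0 := by rw [hp, zero_mul, mul_zero]
      rw [h3, show (p : B) * g₂ c * ((p : B) * v) * r = (p : B) ^ 2 * (g₂ c * v * r) by ring, hp, zero_mul,
        add_zero, add_zero]
    | algebraMap r => rw [AlgHom.commutes, AlgHom.commutes]
    | add a b _ _ ha hb => rw [map_add, map_add, ha, hb]
    | mul a b _ _ ha hb => rw [map_mul, map_mul, ha, hb]
  rw [show x = y + (p : C) * z by rw [← hz]; ring, map_add, map_add, map_mul, map_mul, map_natCast, map_natCast, h1, h2]

end Groth.Agent.S16371
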