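import Groth.Statements.S16374
import Mathlib.Tactic.Ring
-- import your own Groth.Agent.* helpers here

set_option autoImplicit false
universe u v w
open FrobAlg

namespace Groth.Agent.S16374

/-- Let p be a prime, A a commutative ring, B and C commutative A-algebras with p² = 0 in B, and g : C →
B an A-algebra map such that every g(c) is congruent modulo p to an element of the A-subalgebra of B
generated by the p-th powers (g lifts a relative Frobenius). Then d(g(x)) = 0 in the module of
Kähler differentials of B over A for every x ∈ C that is congruent modulo p to an element of the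
A-subalgebra of C generated by the p-th powers. (The source works with a lifting of the relative
Frobenius of a smooth scheme over a ℤ/p²-thickening and the subsheaf of functions whose reduction
comes from the Frobenius twist; smoothness is not needed for this vanishing.) -/
theorem result
    (p : ℕ) [Fact p.Prime] (A : Type u) [CommRing A] (B : Type v) [CommRing B] [Algebra A B]
    (C : Type w) [CommRing C] [Algebra A C] (hp : (p : B) ^ 2 = 0)
    (g : C →ₐ[A] B)
    (hg : ∀ c : C, ∃ u ∈ Algebra.adjoin A (Set.range fun b : B => b ^ p),
      g c - u ∈ Ideal.span ({(p : B)} : Set B))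
    (x y : C) (hy : y ∈ Algebra.adjoin A (Set.range fun c : C => c ^ p))
    (hxy : x - y ∈ Ideal.span ({(p : C)} : Set C)) :
    KaehlerDifferential.D A B (g x) = 0 := by
  obtain ⟨z, hz⟩ := Ideal.mem_span_singleton.1 hxy
  set D := KaehlerDifferential.D A B
  have hD : ∀ (u : B), D ((p : B) * u) = (p : B) • D u := by
    intro u
    rw [D.leibniz, D.map_natCast, smul_zero, add_zero]
  have h1 : ∀ u ∈ Algebra.adjoin A (Set.range fun b : B => b ^ p), ∃ w, D u = (p : B) • w := by
    intro u hu
    induction hu using Algebra.adjoin_induction with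
    | mem w hw =>
      obtain ⟨c, rfl⟩ := hw
      exact ⟨c ^ (p - 1) • D c, by
        show D (c ^ p) = _
        rw [D.leibniz_pow, ← Nat.cast_smul_eq_nsmul B]⟩
    | algebraMap r => exact ⟨0, by rw [D.map_algebraMap, smul_zero]⟩
    | add a b _ _ ha hb =>
      obtain ⟨w, hw⟩ := ha
      obtain ⟨w', hw'⟩ := hb
      exact ⟨w + w', by rw [map_add, hw, hw', smul_add]⟩
    | mul a b _ _ ha hb =>
      obtain ⟨w, hw⟩ := ha
      obtain ⟨w', hw'⟩ := hb
      exact ⟨a • w' + b • w, by rw [D.leibniz, hw, hw', smul_add, smul_comm a, smul_comm b]⟩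
  have h2 : ∀ c : C, (p : B) • D (g c) = 0 := by
    intro c
    obtain ⟨u, hu, hgu⟩ := hg c
    obtain ⟨v, hv⟩ := Ideal.mem_span_singleton.1 hgu
    obtain ⟨w, hw⟩ := h1 u hu
    rw [show g c = u + (p : B) * v by rw [← hv]; ring, map_add, hD, hw, smul_add, smul_smul, smul_smul, ← pow_two, hp,
      zero_smul, zero_smul, add_zero]
  have h3 : D (g y) = 0 := by
    clear hxy hz
    induction hy using Algebra.adjoin_induction with
    | mem w hw =>
      obtain ⟨c, rfl⟩ := hw
      show D (g (c ^ p)) = 0
      rw [map_pow, D.leibniz_pow, ← Nat.cast_smul_eq_nsmul B, smul_comm, h2, smul_zero]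
    | algebraMap r => rw [AlgHom.commutes, D.map_algebraMap]
    | add a b _ _ ha hb => rw [map_add, map_add, ha, hb, add_zero]
    | mul a b _ _ ha hb => rw [map_mul, D.leibniz, ha, hb, smul_zero, smul_zero, add_zero]
  rw [show x = y + (p : C) * z by rw [← hz]; ring, map_add, map_add, h3, map_mul, map_natCast, hD, h2, add_zero]

end Groth.Agent.S16374
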