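import Groth.Statements.S1638
import Mathlib

set_option autoImplicit false
universe u
open Brauer

namespace Groth.Agent.S1638

/-- Let A and A' be algebras over a field k with subalgebras B ⊆ A and B' ⊆ A' having centralizers C and
C'. Then the centralizer of the image of B ⊗ B' in A ⊗_k A' is the image of C ⊗_k C'. -/
theorem result (k : Type u) [Field k] (A A' : Type u) [Ring A] [Ring A'] [Algebra k A] [Algebra k A']
    (B : Subalgebra k A) (B' : Subalgebra k A') :
    Subalgebra.centralizer k ((Algebra.TensorProduct.map B.val B'.val).range : Set (TensorProduct k A A')) =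
      (Algebra.TensorProduct.map (Subalgebra.centralizer k (B : Set A)).val (Subalgebra.centralizer k (B' : Set A')).val).range := by
  rw [Algebra.TensorProduct.map_range, Subalgebra.centralizer_coe_sup]
  rw [show (Algebra.TensorProduct.includeLeft.comp B.val).range = B.map (Algebra.TensorProduct.includeLeft (R := k) (S := k) (B := A')) by rw [AlgHom.range_comp, Subalgebra.range_val],
    show (Algebra.TensorProduct.includeRight.comp B'.val).range = B'.map (Algebra.TensorProduct.includeRight (R := k) (A := A)) by rw [AlgHom.range_comp, Subalgebra.range_val],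
    Subalgebra.centralizer_coe_map_includeLeft_eq_center_tensorProduct, Subalgebra.centralizer_coe_map_includeRight_eq_center_tensorProduct]
  let C := Subalgebra.centralizer k (B : Set A)
  let C' := Subalgebra.centralizer k (B' : Set A')
  obtain ⟨e, he⟩ := C.toSubmodule.subtype.exists_leftInverse_of_injective (Submodule.ker_subtype _)
  obtain ⟨d, hd⟩ := C'.toSubmodule.subtype.exists_leftInverse_of_injective (Submodule.ker_subtype _)
  let e' : A →ₗ[k] A := C.toSubmodule.subtype ∘ₗ e
  let d' : A' →ₗ[k] A' := C'.toSubmodule.subtype ∘ₗ d
  have hh : ∀ c : C, e' c = c := fun c => congrArg Subtype.val (LinearMap.congr_fun he c)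
  have hh' : ∀ c : C', d' c = c := fun c => congrArg Subtype.val (LinearMap.congr_fun hd c)
  refine le_antisymm (fun x hx => ?_) (le_inf ?_ ?_)
  · obtain ⟨⟨y, hy⟩, ⟨z, hz⟩⟩ := hx
    have h1 : TensorProduct.map e' (LinearMap.id : A' →ₗ[k] A') x = x := by
      rw [← hy]
      clear hy
      induction y using TensorProduct.induction_on with
      | zero => exact map_zero _
      | tmul a b =>
        show e' a.1 ⊗ₜ[k] b = a.1 ⊗ₜ[k] b
        rw [hh a]
      | add a b ha hb => simp only [map_add, ha, hb]
    have h2 : TensorProduct.map (LinearMap.id : A →ₗ[k] A) d' x = x := by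
      rw [← hz]
      clear hz
      induction z using TensorProduct.induction_on with
      | zero => exact map_zero _
      | tmul a b =>
        show a ⊗ₜ[k] d' b.1 = a ⊗ₜ[k] b.1
        rw [hh' b]
      | add a b ha hb => simp only [map_add, ha, hb]
    have h3 : ∀ w : TensorProduct k A A', TensorProduct.map e' (LinearMap.id : A' →ₗ[k] A') (TensorProduct.map (LinearMap.id : A →ₗ[k] A) d' w) ∈
        (Algebra.TensorProduct.map C.val C'.val).range := by
      intro w
      induction w using TensorProduct.induction_on with
      | zero => rw [map_zero, map_zero]; exact zero_mem _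
      | tmul a b => exact ⟨e a ⊗ₜ[k] d b, rfl⟩
      | add a b ha hb => rw [map_add, map_add]; exact add_mem ha hb
    have := h3 x
    rwa [h2, h1] at this
  · rintro _ ⟨y, rfl⟩
    refine ⟨Algebra.TensorProduct.map (AlgHom.id k C) C'.val y, ?_⟩
    induction y using TensorProduct.induction_on with
    | zero => simp
    | tmul a b => rfl
    | add a b ha hb => simp only [map_add, ha, hb]
  · rintro _ ⟨y, rfl⟩
    refine ⟨Algebra.TensorProduct.map C.val (AlgHom.id k C') y, ?_⟩
    induction y using TensorProduct.induction_on with
    | zero => simp
    | tmul a b => rfl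
    | add a b ha hb => simp only [map_add, ha, hb]

end Groth.Agent.S1638
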