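import Groth.Statements.S16390
import Mathlib

set_option autoImplicit false
open AbVar

namespace Groth.Agent.S16390

/-- Let p be a prime number, r > 2 and q = p^r. The polynomial x² − p x + q is irreducible over ℚ, each
of its complex roots has absolute value √q (so its roots are Weil q-numbers), and it has two
distinct roots in ℚ_p, of p-adic valuations 1 and r − 1. The published lemma also computes the index
of the endomorphism algebra of the simple abelian variety attached to a root; this row does not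
state that part. -/
theorem result (p r : ℕ) [Fact p.Prime] (hr : 2 < r) :
    Irreducible (Polynomial.X ^ 2 - Polynomial.C (p : ℚ) * Polynomial.X + Polynomial.C ((p : ℚ) ^ r)) ∧
      (∀ π : ℂ, π ^ 2 - (p : ℂ) * π + (p : ℂ) ^ r = 0 → ‖π‖ = Real.sqrt ((p : ℝ) ^ r)) ∧
      ∃ a b : ℚ_[p], a ≠ b ∧ a ^ 2 - (p : ℚ_[p]) * a + (p : ℚ_[p]) ^ r = 0 ∧
        b ^ 2 - (p : ℚ_[p]) * b + (p : ℚ_[p]) ^ r = 0 ∧ a.valuation = 1 ∧ b.valuation = (r : ℤ) - 1 := by
  have hp : p.Prime := Fact.out
  have hdisc : ∀ (F : Type) [Field F] [LinearOrder F] [IsStrictOrderedRing F] (x : F), x ^ 2 - (p : F) * x + (p : F) ^ r ≠ 0 := by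
    intro F _ _ _ x h
    have h2 : (2 : F) ≤ (p : F) := by exact_mod_cast hp.two_le
    have hpr : (p : F) ^ 3 ≤ (p : F) ^ r := pow_le_pow_right₀ (by linarith) hr
    nlinarith [sq_nonneg (2 * x - (p : F)), mul_nonneg (sq_nonneg (p : F)) (show (0 : F) ≤ (p : F) - 2 by linarith), pow_pos (show (0:F) < p by linarith) 2]
  refine ⟨?_, fun π hπ => ?_, ?_⟩
  · have hdeg : (Polynomial.X ^ 2 - Polynomial.C (p : ℚ) * Polynomial.X + Polynomial.C ((p : ℚ) ^ r)).natDegree = 2 := by
      compute_degree!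
    refine (Polynomial.irreducible_iff_roots_eq_zero_of_degree_le_three (by rw [hdeg]) (by rw [hdeg]; norm_num)).2
      (Multiset.eq_zero_of_forall_notMem fun x hx => ?_)
    have h := (Polynomial.mem_roots'.1 hx).2
    simp only [Polynomial.IsRoot.def, Polynomial.eval_add, Polynomial.eval_sub, Polynomial.eval_mul, Polynomial.eval_pow,
      Polynomial.eval_C, Polynomial.eval_X] at h
    exact hdisc ℚ x h
  · have him : π.im ≠ 0 := fun h0 => hdisc ℝ π.re (by
      have := congrArg Complex.re hπ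
      simpa [pow_two, h0, ← Complex.ofReal_natCast, ← Complex.ofReal_pow, ← Complex.ofReal_mul] using this)
    have hI := congrArg Complex.im hπ
    have hR := congrArg Complex.re hπ
    simp [pow_two, ← Complex.ofReal_natCast, ← Complex.ofReal_pow] at hI hR
    have hre : (p : ℝ) = 2 * π.re := mul_right_cancel₀ him (by linarith)
    rw [Complex.norm_def, Complex.normSq_apply]
    congr 1
    linear_combination -hR - π.re * hre
  · obtain ⟨d, rfl⟩ : ∃ d, r = d + 3 := ⟨r - 3, by omega⟩
    let F : Polynomial ℤ_[p] := Polynomial.X ^ 2 - Polynomial.X + Polynomial.C ((p : ℤ_[p]) ^ (d + 1))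
    have hF1 : F.aeval (1 : ℤ_[p]) = (p : ℤ_[p]) ^ (d + 1) := by simp [F]
    have hd1 : F.derivative.aeval (1 : ℤ_[p]) = 1 := by simp [F, Polynomial.derivative_pow]; norm_num
    have hlt : ‖(p : ℤ_[p]) ^ (d + 1)‖ < 1 := by
      rw [norm_pow]
      exact pow_lt_one₀ (norm_nonneg _) (by rw [PadicInt.norm_p]; exact inv_lt_one_of_one_lt₀ (by exact_mod_cast hp.one_lt)) (Nat.succ_ne_zero d)
    obtain ⟨z, hz, hz1, -, -⟩ := hensels_lemma (F := F) (a := (1 : ℤ_[p])) (by rw [hF1, hd1]; simpa using hlt)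
    rw [hd1, norm_one] at hz1
    have hzn : ‖(z : ℚ_[p])‖ = 1 := by
      have h1 : ‖z‖ = 1 := by
        have := PadicInt.norm_add_eq_max_of_ne (q := z - 1) (r := (1 : ℤ_[p])) (by rw [norm_one]; exact hz1.ne)
        rw [sub_add_cancel, norm_one] at this
        rw [this, max_eq_right hz1.le]
      exact h1
    have hz0 : (z : ℚ_[p]) ≠ 0 := fun h => by rw [h, norm_zero] at hzn; exact zero_ne_one hzn
    have hp0 : (p : ℚ_[p]) ≠ 0 := by exact_mod_cast hp.ne_zero
    have hzv : (z : ℚ_[p]).valuation = 0 := by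
      have h := Padic.norm_eq_zpow_neg_valuation hz0
      rw [hzn] at h
      have h' := (zpow_eq_one_iff_right₀ (show (0:ℝ) ≤ p by positivity) (show (p:ℝ) ≠ 1 by exact_mod_cast hp.ne_one)).1 h.symm
      omega
    have hq : (z : ℚ_[p]) ^ 2 - z + (p : ℚ_[p]) ^ (d + 1) = 0 := by
      have := congrArg ((↑) : ℤ_[p] → ℚ_[p]) hz
      simpa [F] using this
    have hb : (p : ℚ_[p]) * (1 - z) = (p : ℚ_[p]) ^ (d + 2) * (z : ℚ_[p])⁻¹ := by
      field_simp
      linear_combination (-(p : ℚ_[p])) * hq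
    refine ⟨(p : ℚ_[p]) * z, (p : ℚ_[p]) * (1 - z), fun h => ?_, ?_, ?_, ?_, ?_⟩
    · have h' := congrArg Padic.valuation (hb ▸ h)
      rw [Padic.valuation_mul hp0 hz0, Padic.valuation_mul (pow_ne_zero _ hp0) (inv_ne_zero hz0), Padic.valuation_inv,
        Padic.valuation_pow, Padic.valuation_p, hzv] at h'
      omega
    · linear_combination (p : ℚ_[p]) ^ 2 * hq
    · linear_combination (p : ℚ_[p]) ^ 2 * hq
    · rw [Padic.valuation_mul hp0 hz0, Padic.valuation_p, hzv, add_zero]
    · rw [hb, Padic.valuation_mul (pow_ne_zero _ hp0) (inv_ne_zero hz0), Padic.valuation_inv, Padic.valuation_pow,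
        Padic.valuation_p, hzv]
      omega

end Groth.Agent.S16390
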