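import Groth.Statements.S16396
-- import your own Groth.Agent.* helpers here

set_option autoImplicit false
universe u
open CAlg

namespace Groth.Agent.S16396

open Polynomial in
/-- For a commutative ℚ-algebra A, a ℚ-subalgebra B of the polynomial algebra A[X] that contains X and
is closed under d/dX consists exactly of the polynomials each of whose coefficients is the value at
0 of some element of B; in other words B = ev(B)[X], with ev the evaluation at 0. -/
theorem result
    (A : Type u) [CommRing A] [Algebra ℚ A] (B : Subalgebra ℚ A[X])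
    (hX : (X : A[X]) ∈ B) (hD : ∀ P ∈ B, Polynomial.derivative P ∈ B) (P : A[X]) :
    P ∈ B ↔ ∀ i : ℕ, ∃ Q ∈ B, Polynomial.eval 0 Q = P.coeff i := by
  classical
  have hC : ∀ (n : ℕ) (Q : A[X]), Q.natDegree ≤ n → Q ∈ B → ∀ i, C (Q.coeff i) ∈ B := by
    intro n
    induction n with
    | zero =>
      intro Q hQ hQB i
      rcases i with _ | i
      · rw [← Polynomial.eq_C_of_natDegree_le_zero hQ]; exact hQB
      · rw [Polynomial.coeff_eq_zero_of_natDegree_lt (by omega), map_zero]; exact B.zero_mem
    | succ n ih =>
      intro Q hQ hQB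
      have hd : (derivative Q).natDegree ≤ n := (Polynomial.natDegree_derivative_le Q).trans (by omega)
      have hpos : ∀ i, C (Q.coeff (i + 1)) ∈ B := fun i => by
        have h := B.smul_mem (ih _ hd (hD Q hQB) i) ((1 : ℚ) / ((i : ℚ) + 1))
        have e : ((1 : ℚ) / ((i : ℚ) + 1)) • C ((derivative Q).coeff i) = C (Q.coeff (i + 1)) := by
          rw [Polynomial.smul_C, Polynomial.coeff_derivative, Algebra.smul_def,
            show ((i : A) + 1) = algebraMap ℚ A ((i : ℚ) + 1) by simp, mul_left_comm, ← map_mul,
            one_div, inv_mul_cancel₀ (by positivity), map_one, mul_one]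
        rwa [e] at h
      rintro (_ | i)
      · have hsum : Q - ∑ i ∈ Finset.range (n + 1), C (Q.coeff (i + 1)) * X ^ (i + 1) = C (Q.coeff 0) := by
          conv_lhs => enter [1]; rw [Q.as_sum_range_C_mul_X_pow' (n := n + 1 + 1) (by omega), Finset.sum_range_succ']
          simp
        rw [← hsum]
        exact B.sub_mem hQB (B.sum_mem fun i _ => B.mul_mem (hpos i) (B.pow_mem hX _))
      · exact hpos i
  constructor
  · intro hP i
    exact ⟨C (P.coeff i), hC _ P le_rfl hP i, by simp⟩
  · intro h
    rw [P.as_sum_range_C_mul_X_pow]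
    refine B.sum_mem fun i _ => B.mul_mem ?_ (B.pow_mem hX _)
    obtain ⟨Q, hQ, e⟩ := h i
    rw [← e, ← Polynomial.coeff_zero_eq_eval_zero]
    exact hC _ Q le_rfl hQ 0

end Groth.Agent.S16396
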