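import Groth.Statements.S16414
import Mathlib.Order.Bounds.Basic
import Mathlib.Tactic.Linarith

set_option autoImplicit false
open Dieud

namespace Groth.Agent.S16414

/-- Let μ be a rational number with 0 < μ ≤ 1 and i an integer, and put f(i,j) = max(−i−j, −j, 0) for
integers j. Then min over all integers j of f(i,j) + jμ exists and equals max(−iμ, 0). -/
theorem result (μ : ℚ) (hμ0 : 0 < μ) (hμ1 : μ ≤ 1) (i : ℤ) :
    IsLeast (Set.range fun j : ℤ => ((max (max (-i - j) (-j)) 0 : ℤ) : ℚ) + (j : ℚ) * μ)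
      (max (-(i : ℚ) * μ) 0) := by
  rcases le_total 0 i with h | h
  · refine ⟨⟨0, ?_⟩, ?_⟩
    · have h' : (0 : ℚ) ≤ i := by exact_mod_cast h
      have : max (max (-i - 0) (-0)) 0 = (0 : ℤ) := by omega
      simp only [this]
      rw [max_eq_right (by nlinarith)]; simp
    · rintro _ ⟨j, rfl⟩
      have h' : (0 : ℚ) ≤ i := by exact_mod_cast h
      dsimp only
      rw [max_eq_right (by nlinarith)]
      have h1 : ((max (max (-i - j) (-j)) 0 : ℤ) : ℚ) ≥ ((-j : ℤ) : ℚ) := by
        exact_mod_cast le_max_of_le_left (le_max_right _ _)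
      have h2 : (0 : ℚ) ≤ ((max (max (-i - j) (-j)) 0 : ℤ) : ℚ) := by exact_mod_cast le_max_right _ _
      push_cast at h1 h2 ⊢
      rcases le_total (0 : ℚ) j with hj | hj
      · nlinarith
      · nlinarith
  · refine ⟨⟨-i, ?_⟩, ?_⟩
    · have h' : (i : ℚ) ≤ 0 := by exact_mod_cast h
      have : max (max (-i - -i) (- -i)) 0 = (0 : ℤ) := by omega
      simp only [this]
      rw [max_eq_left (by nlinarith)]; simp
    · rintro _ ⟨j, rfl⟩
      have h' : (i : ℚ) ≤ 0 := by exact_mod_cast h
      dsimp only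
      rw [max_eq_left (by nlinarith)]
      have h1 : ((max (max (-i - j) (-j)) 0 : ℤ) : ℚ) ≥ ((-i - j : ℤ) : ℚ) := by
        exact_mod_cast le_max_of_le_left (le_max_left _ _)
      have h2 : (0 : ℚ) ≤ ((max (max (-i - j) (-j)) 0 : ℤ) : ℚ) := by exact_mod_cast le_max_right _ _
      push_cast at h1 h2 ⊢
      rcases le_total (-(i : ℚ)) j with hj | hj
      · nlinarith
      · nlinarith

end Groth.Agent.S16414
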