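import Groth.Statements.S16418
import Mathlib

set_option autoImplicit false
universe u v
open Dieud

namespace Groth.Agent.S16418

/-- Step of the proof: for a prime p and a perfect field k of characteristic p, write W = W(k) and σ for
its Frobenius; let M be a W-module with additive maps F (σ-semilinear) and V (with V(σ(a)m) = aV(m))
such that FV = VF = p, V is injective, ⋂_n V^n M = 0 and M/VM is finitely generated over W. Put M₁ =
{x ∈ M : for every n there is m with V^m x ∈ F^n M} and M₂ = {x ∈ M : F^n x = 0 for some n}. Then M₂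
is killed by a single power of F, and F is injective on M₁. (The published text makes these
assertions inside a proof, for the V-reduced Cartier module of a connected smooth formal group of
finite dimension over k; only the listed structure is used, and V-adic completeness is not needed.) -/
theorem result
    (p : ℕ) [Fact p.Prime] (k : Type u) [Field k] [CharP k p] [PerfectRing k p]
    (M : Type v) [AddCommGroup M] [Module (WittVector p k) M]
    (F V : M →+ M)
    (hF : ∀ (a : WittVector p k) (m : M), F (a • m) = WittVector.frobenius a • F m)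
    (hV : ∀ (a : WittVector p k) (m : M), V (WittVector.frobenius a • m) = a • V m)
    (hFV : ∀ m : M, F (V m) = (p : WittVector p k) • m)
    (hVF : ∀ m : M, V (F m) = (p : WittVector p k) • m)
    (hVinj : Function.Injective V)
    (hsep : ∀ x : M, (∀ n : ℕ, ∃ y : M, x = (⇑V)^[n] y) → x = 0)
    (hfin : Module.Finite (WittVector p k) (M ⧸ Submodule.span (WittVector p k) (Set.range V))) :
    (∃ c : ℕ, ∀ x : M, (∃ n : ℕ, (⇑F)^[n] x = 0) → (⇑F)^[c] x = 0) ∧
    (∀ x : M, (∀ n : ℕ, ∃ (m : ℕ) (y : M), (⇑V)^[m] x = (⇑F)^[n] y) → F x = 0 → x = 0) := by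
  have hcomm : ∀ m, F (V m) = V (F m) := fun m => by rw [hFV, hVF]
  have hFn : ∀ (n : ℕ) m, (⇑F)^[n] (V m) = V ((⇑F)^[n] m) := by
    intro n
    induction n with
    | zero => intro m; rfl
    | succ n ih => intro m; rw [Function.iterate_succ_apply', Function.iterate_succ_apply', ih, hcomm]
  have hFa : ∀ (n : ℕ) (a : WittVector p k) m, ∃ b : WittVector p k, (⇑F)^[n] (a • m) = b • (⇑F)^[n] m := by
    intro n
    induction n with
    | zero => intro a m; exact ⟨a, rfl⟩
    | succ n ih =>
      intro a m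
      obtain ⟨b, hb⟩ := ih a m
      exact ⟨WittVector.frobenius b, by rw [Function.iterate_succ_apply', Function.iterate_succ_apply', hb, hF]⟩
  let Ker : ℕ → Submodule (WittVector p k) M := fun n =>
    { carrier := {x | (⇑F)^[n] x = 0}
      add_mem' := fun {a b} ha hb => by
        show (⇑F)^[n] (a + b) = 0
        rw [iterate_map_add, ha, hb, add_zero]
      zero_mem' := iterate_map_zero F n
      smul_mem' := fun a x hx => by
        obtain ⟨b, hb⟩ := hFa n a x
        show (⇑F)^[n] (a • x) = 0
        rw [hb, hx, smul_zero] }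
  let Rg : Submodule (WittVector p k) M :=
    { carrier := Set.range V
      add_mem' := fun {a b} ha hb => by
        obtain ⟨a, rfl⟩ := ha; obtain ⟨b, rfl⟩ := hb; exact ⟨a + b, map_add V a b⟩
      zero_mem' := ⟨0, map_zero V⟩
      smul_mem' := fun a x hx => by
        obtain ⟨x, rfl⟩ := hx; exact ⟨WittVector.frobenius a • x, hV a x⟩ }
  have hspan : Submodule.span (WittVector p k) (Set.range V) = Rg := Submodule.span_eq Rg
  rw [hspan] at hfin
  haveI := hfin
  haveI : IsNoetherian (WittVector p k) (M ⧸ Rg) := isNoetherian_of_isNoetherianRing_of_finite _ _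
  have hmono : Monotone fun n => (Ker n).map Rg.mkQ := monotone_nat_of_le_succ fun n =>
    Submodule.map_mono fun x (hx : (⇑F)^[n] x = 0) => show (⇑F)^[n + 1] x = 0 by
      rw [Function.iterate_succ_apply', hx, map_zero]
  obtain ⟨c, hc⟩ := monotone_stabilizes_iff_noetherian.2 (inferInstance : IsNoetherian (WittVector p k) (M ⧸ Rg))
    ⟨fun n => (Ker n).map Rg.mkQ, hmono⟩
  have hstep : ∀ x, (∃ n, (⇑F)^[n] x = 0) → ∃ r, (∃ n, (⇑F)^[n] r = 0) ∧ (⇑F)^[c] x = V ((⇑F)^[c] r) := by
    rintro x ⟨n, hn⟩
    have hn' : (⇑F)^[c + n] x = 0 := by rw [Function.iterate_add_apply, hn, iterate_map_zero]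
    have hmem : Rg.mkQ x ∈ (Ker c).map Rg.mkQ := by
      have h : (Ker c).map Rg.mkQ = (Ker (c + n)).map Rg.mkQ := hc (c + n) (Nat.le_add_right c n)
      rw [h]
      exact Submodule.mem_map_of_mem hn'
    obtain ⟨a, ha, hax⟩ := Submodule.mem_map.1 hmem
    obtain ⟨r, hr⟩ := (Submodule.Quotient.eq Rg).1 hax.symm
    refine ⟨r, ⟨c + n, hVinj ?_⟩, ?_⟩
    · have hac : (⇑F)^[c] a = 0 := ha
      rw [← hFn, hr, iterate_map_sub, hn', zero_sub, add_comm c n, Function.iterate_add_apply, hac, iterate_map_zero, neg_zero, map_zero]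
    · have hac : (⇑F)^[c] a = 0 := ha
      rw [← hFn, hr, iterate_map_sub, hac, sub_zero]
  have h1 : ∀ x, (∃ n : ℕ, (⇑F)^[n] x = 0) → (⇑F)^[c] x = 0 := fun x hx => by
    refine hsep _ fun n => ?_
    have : ∀ (n : ℕ) x, (∃ j : ℕ, (⇑F)^[j] x = 0) → ∃ r, (⇑F)^[c] x = (⇑V)^[n] ((⇑F)^[c] r) := by
      intro n
      induction n with
      | zero => intro x _; exact ⟨x, rfl⟩
      | succ n ih =>
        intro x hx
        obtain ⟨r, hr, e⟩ := hstep x hx
        obtain ⟨r', e'⟩ := ih r hr
        exact ⟨r', by rw [e, e', Function.iterate_succ_apply']⟩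
    obtain ⟨r, hr⟩ := this n x hx
    exact ⟨_, hr⟩
  refine ⟨⟨c, h1⟩, fun x hx hFx => ?_⟩
  obtain ⟨m, y, hy⟩ := hx c
  have hVm : ∀ (m : ℕ) z, F ((⇑V)^[m] z) = (⇑V)^[m] (F z) := by
    intro m
    induction m with
    | zero => intro z; rfl
    | succ m ih => intro z; rw [Function.iterate_succ_apply', Function.iterate_succ_apply', hcomm, ih]
  have h2 : (⇑F)^[c + 1] y = 0 := by
    rw [Function.iterate_succ_apply', ← hy, hVm, hFx, iterate_map_zero]
  have h3 := h1 y ⟨c + 1, h2⟩
  rw [h3] at hy
  exact (hVinj.iterate m) (hy.trans (iterate_map_zero V m).symm)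

end Groth.Agent.S16418
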