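import Groth.Statements.S16421
import Mathlib.FieldTheory.PerfectClosure
import Mathlib.RingTheory.RingHom.FaithfullyFlat
import Mathlib.RingTheory.Flat.EquationalCriterion
import Mathlib.RingTheory.Ideal.Maps
-- import your own Groth.Agent.* helpers here

set_option autoImplicit false
universe u
open FrobAlg

namespace Groth.Agent.S16421

private lemma free_flat {A B : Type*} [CommRing A] [CommRing B] (f : A →+* B) (κ : Type*) (v : κ → B)
    (h : Function.Bijective fun c : κ →₀ A => c.sum fun e a => f a * v e) : f.Flat := by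
  algebraize [f]
  exact Module.Flat.of_linearEquiv
    (LinearEquiv.ofBijective (Finsupp.linearCombination A v) h).symm

private lemma trivial_of_flat {A B : Type*} [CommRing A] [CommRing B] (f : A →+* B) (hf : f.Flat)
    {l : ℕ} (a : Fin l → A) (y : Fin l → B) (h : ∑ i, f (a i) * y i = 0) :
    ∃ (k : ℕ) (c : Fin l → Fin k → A) (z : Fin k → B),
      (∀ i, y i = ∑ j, f (c i j) * z j) ∧ ∀ j, ∑ i, a i * c i j = 0 := by
  algebraize [f]
  exact Module.Flat.iff_forall_isTrivialRelation.mp hf h

private lemma faithfullyFlat_of {A B : Type*} [CommRing A] [CommRing B] (f : A →+* B)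
    (h : ∀ {l : ℕ} (a : Fin l → A) (y : Fin l → B), ∑ i, f (a i) * y i = 0 →
      ∃ (k : ℕ) (c : Fin l → Fin k → A) (z : Fin k → B),
        (∀ i, y i = ∑ j, f (c i j) * z j) ∧ ∀ j, ∑ i, a i * c i j = 0)
    (h' : ∀ m : Ideal A, m.IsMaximal → m.map f ≠ ⊤) : f.FaithfullyFlat := by
  algebraize [f]
  haveI : Module.Flat A B := Module.Flat.of_forall_isTrivialRelation fun {l a y} e => h a y e
  refine ⟨fun m hm htop => h' m hm ?_⟩
  rw [Ideal.smul_top_eq_map] at htop
  exact (Submodule.restrictScalars_eq_top_iff A B B).mp htop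

/-- Let p be a prime and R a commutative ring of characteristic p with a p-basis (x_i), meaning that the
monomials ∏ x_i^(e i) with every exponent e i < p form a basis of R as a module over itself through
the Frobenius, i.e. the map sending a finitely supported family of coefficients c to ∑_e (c e)^p · ∏
x_i^(e i) is a bijection onto R. Then the canonical ring map from R to its perfect closure is
faithfully flat. -/
theorem result (p : ℕ) [Fact p.Prime]
    (R : Type u) [CommRing R] [CharP R p] (ι : Type u) (x : ι → R)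
    (hx : Function.Bijective
      (fun c : {e : ι →₀ ℕ // ∀ i, e i < p} →₀ R =>
        c.sum (fun e r => r ^ p * e.1.prod (fun i n => x i ^ n)))) :
    (PerfectClosure.of R p).FaithfullyFlat := by
  classical
  have hstep : (frobenius R p).Flat := by
    refine free_flat (frobenius R p) {e : ι →₀ ℕ // ∀ i, e i < p}
      (fun e => e.1.prod (fun i n => x i ^ n)) ?_
    simpa [frobenius_def] using hx
  have hN : ∀ N : ℕ, (iterateFrobenius R p N).Flat := by
    intro N
    induction N with
    | zero => exact RingHom.Flat.of_bijective (by simp [Function.bijective_id])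
    | succ N ih =>
      have : iterateFrobenius R p (N + 1) = (frobenius R p).comp (iterateFrobenius R p N) := by
        ext a
        simp [iterateFrobenius_def, frobenius_def, ← pow_mul, pow_succ]
      rw [this]
      exact ih.comp hstep
  let P := PerfectClosure R p
  let ι₀ : R →+* P := PerfectClosure.of R p
  -- level of an element
  have hlev : ∀ (y : P), ∃ n, ∀ N, n ≤ N → ∃ r : R, y ^ p ^ N = ι₀ r := by
    intro y
    obtain ⟨⟨n, r⟩, rfl⟩ := PerfectClosure.mk_surjective R p y
    refine ⟨n, fun N hN' => ⟨r ^ p ^ (N - n), ?_⟩⟩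
    have h : (PerfectClosure.mk R p (n, r)) ^ p ^ n = ι₀ r := by
      have := PerfectClosure.iterate_frobenius_mk R p n r
      rwa [iterate_frobenius] at this
    rw [map_pow, ← h, ← pow_mul, ← pow_add, Nat.add_sub_cancel' hN']
  have hker : ∀ r : R, ι₀ r = 0 → ∃ m : ℕ, r ^ p ^ m = 0 := by
    intro r hr
    obtain ⟨z, hz⟩ := (PerfectClosure.mk_eq_iff R p (0, r) (0, 0)).mp hr
    simp only [iterate_frobenius, zero_add] at hz
    exact ⟨z, by rw [hz, zero_pow (pow_ne_zero _ (Fact.out : p.Prime).ne_zero)]⟩
  have hinjP : ∀ (N : ℕ) (a b : P), a ^ p ^ N = b ^ p ^ N → a = b := fun N a b h =>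
    (bijective_iterateFrobenius P p N).1 h
  show ι₀.FaithfullyFlat
  refine faithfullyFlat_of ι₀ ?_ ?_
  · intro l f y hfy
    choose n hn using fun i => hlev (y i)
    let n₀ := Finset.univ.sup n
    choose r hr using fun i => hn i n₀ (Finset.le_sup (Finset.mem_univ i))
    have h0 : ι₀ (∑ i, f i ^ p ^ n₀ * r i) = 0 := by
      rw [map_sum]
      have := congrArg (fun t => t ^ p ^ n₀) hfy
      simp only [sum_pow_char_pow, zero_pow (pow_ne_zero _ (Fact.out : p.Prime).ne_zero), mul_pow, hr] at this
      simpa using this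
    obtain ⟨m, hm⟩ := hker _ h0
    rw [sum_pow_char_pow] at hm
    simp only [mul_pow, ← pow_mul, ← pow_add] at hm
    obtain ⟨k, c, z, hz, hc⟩ := trivial_of_flat (iterateFrobenius R p (n₀ + m)) (hN _) f
      (fun i => r i ^ p ^ m) (by simpa [iterateFrobenius_def] using hm)
    choose w hw using fun j => (bijective_iterateFrobenius P p (n₀ + m)).2 (ι₀ (z j))
    refine ⟨k, c, w, fun i => hinjP (n₀ + m) _ _ ?_, hc⟩
    rw [sum_pow_char_pow, pow_add p n₀ m, pow_mul, hr i, ← map_pow, hz i, map_sum]
    refine Finset.sum_congr rfl fun j _ => ?_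
    rw [mul_pow, map_mul, iterateFrobenius_def, map_pow, pow_add]
    congr 1
    have := hw j
    rw [iterateFrobenius_def, pow_add] at this
    exact this.symm
  · intro m hm h
    have : ∀ y ∈ m.map ι₀, ∃ n, ∀ N, n ≤ N → ∃ r ∈ m, y ^ p ^ N = ι₀ r := by
      intro y hy
      induction hy using Submodule.span_induction with
      | mem z hz =>
        obtain ⟨r, hr, rfl⟩ := hz
        exact ⟨0, fun N _ => ⟨r ^ p ^ N, Ideal.pow_mem_of_mem _ hr _ (pow_pos (Fact.out : p.Prime).pos _),
          (map_pow _ _ _).symm⟩⟩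
      | zero => exact ⟨0, fun N _ => ⟨0, m.zero_mem, by simp [zero_pow (pow_ne_zero _ (Fact.out : p.Prime).ne_zero)]⟩⟩
      | add a b _ _ ha hb =>
        obtain ⟨na, ha⟩ := ha
        obtain ⟨nb, hb⟩ := hb
        refine ⟨max na nb, fun N hN' => ?_⟩
        obtain ⟨ra, hra, ea⟩ := ha N (le_of_max_le_left hN')
        obtain ⟨rb, hrb, eb⟩ := hb N (le_of_max_le_right hN')
        exact ⟨ra + rb, add_mem hra hrb, by rw [add_pow_char_pow, ea, eb, map_add]⟩
      | smul t a _ ha =>
        obtain ⟨na, ha⟩ := ha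
        obtain ⟨nt, ht⟩ := hlev t
        refine ⟨max na nt, fun N hN' => ?_⟩
        obtain ⟨ra, hra, ea⟩ := ha N (le_of_max_le_left hN')
        obtain ⟨rt, et⟩ := ht N (le_of_max_le_right hN')
        exact ⟨rt * ra, m.mul_mem_left _ hra, by rw [smul_eq_mul, mul_pow, ea, et, map_mul]⟩
    obtain ⟨n, hn⟩ := this 1 (h ▸ Submodule.mem_top)
    obtain ⟨r, hr, e⟩ := hn n le_rfl
    obtain ⟨q, hq⟩ := hker (r - 1) (by rw [map_sub, ← e, one_pow, map_one, sub_self])
    have := hm.isPrime.mem_of_pow_mem _ (hq ▸ m.zero_mem)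
    exact hm.ne_top (m.eq_top_iff_one.mpr (by simpa using sub_mem hr this))

end Groth.Agent.S16421
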