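import Groth.Statements.S16422
-- import your own Groth.Agent.* helpers here

set_option autoImplicit false
universe u
open GrMod

namespace Groth.Agent.S16422

/-- Let S be a commutative ring graded by ℤ with pieces 𝒜 n, and V a decreasing sequence of homogeneous
ideals for which S is graded-complete, i.e. for each degree n the map from 𝒜 n to the inverse limit
of the quotients 𝒜 n / (𝒜 n ∩ V m) is bijective (stated as: a degree-n element in every V m
vanishes, and every sequence in 𝒜 n whose consecutive differences lie in the V m has a limit in 𝒜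
n). Then every graded S-module M which is finitely generated and projective as an S-module is
graded-complete in the same sense for the submodules V m · M: for each n the map from ℳ n to the
inverse limit of ℳ n / (ℳ n ∩ V m · M) is bijective. -/
theorem result
    (S : Type u) [CommRing S] (𝒜 : ℤ → AddSubgroup S) [GradedRing 𝒜]
    (V : ℕ → HomogeneousIdeal 𝒜) (hV : ∀ m, (V (m + 1)).toIdeal ≤ (V m).toIdeal)
    (hsep : ∀ (n : ℤ) (s : S), s ∈ 𝒜 n → (∀ m, s ∈ (V m).toIdeal) → s = 0)
    (hcpl : ∀ (n : ℤ) (f : ℕ → S), (∀ m, f m ∈ 𝒜 n) →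
      (∀ m, f (m + 1) - f m ∈ (V m).toIdeal) → ∃ s ∈ 𝒜 n, ∀ m, s - f m ∈ (V m).toIdeal)
    (M : Type u) [AddCommGroup M] [Module S M] (ℳ : ℤ → AddSubgroup M)
    [DirectSum.Decomposition ℳ] [SetLike.GradedSMul 𝒜 ℳ]
    [Module.Finite S M] [Module.Projective S M] :
    (∀ (n : ℤ) (x : M), x ∈ ℳ n → (∀ m, x ∈ (V m).toIdeal • (⊤ : Submodule S M)) → x = 0) ∧
    (∀ (n : ℤ) (g : ℕ → M), (∀ m, g m ∈ ℳ n) →
      (∀ m, g (m + 1) - g m ∈ (V m).toIdeal • (⊤ : Submodule S M)) →
      ∃ x ∈ ℳ n, ∀ m, x - g m ∈ (V m).toIdeal • (⊤ : Submodule S M)) := by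
  classical
  -- homogeneous generators
  obtain ⟨G, hG⟩ := Module.Finite.fg_top (R := S) (M := M)
  let E : Finset M := G.biUnion fun x => (DirectSum.decompose ℳ x).support.image
    fun i => (DirectSum.decompose ℳ x i : M)
  have hE : ∀ e : E, ∃ d : ℤ, (e : M) ∈ ℳ d := by
    rintro ⟨e, he⟩
    simp only [E, Finset.mem_biUnion, Finset.mem_image] at he
    obtain ⟨x, -, i, -, rfl⟩ := he
    exact ⟨i, SetLike.coe_mem _⟩
  choose d hd using hE
  let L : (E → S) →ₗ[S] M := Fintype.linearCombination S (fun e : E => (e : M))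
  have hL : Function.Surjective L := by
    rw [← LinearMap.range_eq_top, Fintype.range_linearCombination, eq_top_iff, ← hG,
      Submodule.span_le]
    intro x hx
    rw [← DirectSum.sum_support_decompose ℳ x]
    refine sum_mem fun i hi => Submodule.subset_span ⟨⟨_, ?_⟩, rfl⟩
    simp only [E, Finset.mem_biUnion, Finset.mem_image]
    exact ⟨x, hx, i, hi, rfl⟩
  obtain ⟨φ, hφ⟩ := Module.projective_lifting_property L LinearMap.id hL
  have hsum : ∀ x : M, x = ∑ e : E, φ x e • (e : M) := fun x => by
    have := LinearMap.congr_fun hφ x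
    simpa [L, Fintype.linearCombination_apply] using this.symm
  have hcomp : ∀ (s : S) (j : ℤ) (e : M) (n : ℤ), e ∈ ℳ j →
      (DirectSum.decompose ℳ (s • e) n : M) = (DirectSum.decompose 𝒜 s (n - j) : S) • e := by
    intro s j e n he
    induction s using DirectSum.Decomposition.inductionOn 𝒜 with
    | zero => simp
    | homogeneous a =>
      rename_i i
      have hm : (a : S) • e ∈ ℳ (i + j) := SetLike.GradedSMul.smul_mem a.2 he
      by_cases h : n = i + j
      · subst h
        rw [DirectSum.decompose_of_mem_same ℳ hm, add_sub_cancel_right,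
          DirectSum.decompose_of_mem_same 𝒜 a.2]
      · rw [DirectSum.decompose_of_mem_ne ℳ hm (Ne.symm h),
          DirectSum.decompose_of_mem_ne 𝒜 a.2 (show i ≠ n - j from fun hh => h (by omega)),
          zero_smul]
    | add a b iha ihb =>
      simp [add_smul, DirectSum.decompose_add, iha, ihb]
  have hrep : ∀ (n : ℤ) (x : M), x ∈ ℳ n →
      x = ∑ e : E, (DirectSum.decompose 𝒜 (φ x e) (n - d e) : S) • (e : M) := by
    intro n x hx
    conv_lhs => rw [← DirectSum.decompose_of_mem_same ℳ hx, hsum x]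
    rw [DirectSum.decompose_sum, DFinsupp.finsetSum_apply, AddSubmonoidClass.coe_finsetSum]
    exact Finset.sum_congr rfl fun e _ => hcomp _ _ _ _ (hd e)
  have hmemV : ∀ (m : ℕ) (x : M), x ∈ (V m).toIdeal • (⊤ : Submodule S M) →
      ∀ (e : E) (i : ℤ), (DirectSum.decompose 𝒜 (φ x e) i : S) ∈ (V m).toIdeal := by
    intro m x hx e i
    refine (V m).isHomogeneous i ?_
    refine Submodule.smul_induction_on hx (fun r hr y _ => ?_) (fun a b ha hb => ?_)
    · rw [map_smul, Pi.smul_apply, smul_eq_mul]
      exact Ideal.mul_mem_right _ _ hr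
    · rw [map_add, Pi.add_apply]
      exact add_mem ha hb
  refine ⟨fun n x hx h => ?_, fun n g hg h => ?_⟩
  · rw [hrep n x hx]
    refine Finset.sum_eq_zero fun e _ => ?_
    rw [hsep _ _ (SetLike.coe_mem _) fun m => hmemV m x (h m) e (n - d e), zero_smul]
  · have hlim : ∀ e : E, ∃ s ∈ 𝒜 (n - d e), ∀ m,
        s - (DirectSum.decompose 𝒜 (φ (g m) e) (n - d e) : S) ∈ (V m).toIdeal := by
      intro e
      refine hcpl _ (fun m => (DirectSum.decompose 𝒜 (φ (g m) e) (n - d e) : S))
        (fun m => SetLike.coe_mem _) fun m => ?_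
      have := hmemV m _ (h m) e (n - d e)
      simpa [map_sub, DirectSum.decompose_sub] using this
    choose s hs hs' using hlim
    refine ⟨∑ e : E, s e • (e : M), sum_mem fun e _ => ?_, fun m => ?_⟩
    · have := SetLike.GradedSMul.smul_mem (A := 𝒜) (B := ℳ) (hs e) (hd e)
      rw [vadd_eq_add, sub_add_cancel] at this
      exact this
    · rw [hrep n (g m) (hg m), ← Finset.sum_sub_distrib]
      refine sum_mem fun e _ => ?_
      rw [← sub_smul]
      exact Submodule.smul_mem_smul (hs' e m) Submodule.mem_top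

end Groth.Agent.S16422
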