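import Groth.Statements.S16460
import Mathlib.Order.ConditionallyCompleteLattice.Basic

set_option autoImplicit false
universe u
open AdicGr

namespace Groth.Agent.S16460

open AssocGr in
theorem exists_level {A : Type u} [CommRing A] (𝓕 : FiltBl.IdealFiltration A) (hsep : ⨅ n, 𝓕.F n = ⊥)
    {a : A} (ha : a ≠ 0) : ∃ (n : ℕ) (h : a ∈ 𝓕.F n), inDeg 𝓕 n ⟨a, h⟩ ≠ 0 := by
  classical
  have hex : ∃ n, a ∉ 𝓕.F n := by
    by_contra h
    push Not at h
    apply ha
    have : a ∈ ⨅ n, 𝓕.F n := Submodule.mem_iInf _ |>.2 h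
    simpa [hsep] using this
  have h0 : Nat.find hex ≠ 0 := fun h => by
    have := Nat.find_spec hex
    rw [h, 𝓕.zero_eq] at this
    exact this trivial
  obtain ⟨n, hn⟩ := Nat.exists_eq_succ_of_ne_zero h0
  refine ⟨n, not_not.1 (Nat.find_min hex (by omega)), fun h => ?_⟩
  have := Nat.find_spec hex
  rw [hn] at this
  exact this ((inDeg_eq_zero_iff 𝓕 n ⟨a, _⟩).1 h)

/-- Let A be a commutative ring with a decreasing filtration by ideals A = F₀ ⊇ F₁ ⊇ F₂ ⊇ … satisfying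
F_m·F_n ⊆ F_{m+n}, and assume the filtration is separated, ⋂ₙ Fₙ = 0. If the associated graded ring
⊕ₙ Fₙ/Fₙ₊₁ is an integral domain, then A is an integral domain. -/
theorem result (A : Type u) [CommRing A]
    (𝓕 : FiltBl.IdealFiltration A) (hsep : ⨅ n, 𝓕.F n = ⊥) [IsDomain (AssocGr.GrRing 𝓕)] :
    IsDomain A := by
  haveI : Nontrivial A := (algebraMap A (AssocGr.GrRing 𝓕)).domain_nontrivial
  haveI : NoZeroDivisors A := ⟨fun {a b} hab => by
    by_contra h
    push Not at h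
    obtain ⟨m, hm, ha⟩ := exists_level 𝓕 hsep h.1
    obtain ⟨n, hn, hb⟩ := exists_level 𝓕 hsep h.2
    have := AssocGr.coe_inDeg_mul 𝓕 m n ⟨a, hm⟩ ⟨b, hn⟩
    have h0 : AssocGr.inDeg 𝓕 (m + n) ⟨a * b, 𝓕.mul_le m n (Ideal.mul_mem_mul hm hn)⟩ = 0 :=
      (AssocGr.inDeg_eq_zero_iff 𝓕 _ _).2 (by show a * b ∈ _; rw [hab]; exact Ideal.zero_mem _)
    rw [h0, Submodule.coe_zero] at this
    rcases mul_eq_zero.1 this with h1 | h1
    · exact ha (Subtype.ext h1)
    · exact hb (Subtype.ext h1)⟩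
  exact NoZeroDivisors.to_isDomain A

end Groth.Agent.S16460
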