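import Groth.Statements.S16463
import Groth.Agent.Horseshoe.Lift
import Groth.Agent.Horseshoe.Exists

set_option autoImplicit false
universe v u v' u'
open CategoryTheory CategoryTheory.Limits
open RDer

namespace Groth.Agent.S16463

open CategoryTheory CategoryTheory.Limits

section
variable {C : Type u} [Category.{v} C] [Abelian C] [HasInjectiveResolutions C] {S : ShortComplex C}
  {D : Type u'} [Category.{v'} D] [Abelian D] (F : C ⥤ D) [F.Additive]

open HomologicalComplex in
theorem les (T : RDer.SESRes S) (n₀ n₁ : ℕ) (h : n₀ + 1 = n₁) :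
    (∀ n, (ShortComplex.mk ((F.rightDerived n).map S.f) ((F.rightDerived n).map S.g)
      (by rw [← Functor.map_comp, S.zero, Functor.map_zero])).Exact) ∧
    (∃ w : (F.rightDerived n₀).map S.g ≫ T.delta F n₀ n₁ h = 0, (ShortComplex.mk _ _ w).Exact) ∧
    (∃ w : T.delta F n₀ n₁ h ≫ (F.rightDerived n₁).map S.f = 0, (ShortComplex.mk _ _ w).Exact) := by
  have hf := fun n => InjectiveResolution.isoRightDerivedObj_hom_naturality S.f T.I₁ T.I₂ T.f
    (Groth.Agent.Horseshoe.ι_f_zero T.ι_f) F n
  have hg := fun n => InjectiveResolution.isoRightDerivedObj_hom_naturality S.g T.I₂ T.I₃ T.g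
    (Groth.Agent.Horseshoe.ι_f_zero T.ι_g) F n
  have hd := T.delta_comp_isoRightDerivedObj_hom F n₀ n₁ h
  have H := T.map_shortExact F
  refine ⟨fun n => ?_, ⟨?_, ?_⟩, ⟨?_, ?_⟩⟩
  · exact (ShortComplex.exact_iff_of_iso (ShortComplex.isoMk (T.I₁.isoRightDerivedObj F n) (T.I₂.isoRightDerivedObj F n)
      (T.I₃.isoRightDerivedObj F n) (hf n).symm (hg n).symm)).2 (H.homology_exact₂ n)
  · rw [← cancel_mono (T.I₁.isoRightDerivedObj F n₁).hom, Category.assoc, hd, zero_comp]
    refine (Category.assoc _ _ _).symm.trans ((congrArg (· ≫ _) (hg n₀)).trans ((Category.assoc _ _ _).trans ?_))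
    exact (congrArg (_ ≫ ·) (H.comp_δ n₀ n₁ h)).trans comp_zero
  · exact (ShortComplex.exact_iff_of_iso (ShortComplex.isoMk (T.I₂.isoRightDerivedObj F n₀) (T.I₃.isoRightDerivedObj F n₀)
      (T.I₁.isoRightDerivedObj F n₁) (hg n₀).symm hd.symm)).2 (H.homology_exact₃ n₀ n₁ h)
  · rw [← cancel_mono (T.I₂.isoRightDerivedObj F n₁).hom, Category.assoc, hf, zero_comp]
    refine (Category.assoc _ _ _).symm.trans ((congrArg (· ≫ _) hd).trans ((Category.assoc _ _ _).trans ?_))
    exact (congrArg (_ ≫ ·) (H.δ_comp n₀ n₁ h)).trans comp_zero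
  · exact (ShortComplex.exact_iff_of_iso (ShortComplex.isoMk (T.I₃.isoRightDerivedObj F n₀) (T.I₁.isoRightDerivedObj F n₁)
      (T.I₂.isoRightDerivedObj F n₁) hd.symm (hf n₁).symm)).2 (H.homology_exact₁ n₀ n₁ h)

end

/-- Let F be an additive functor from an abelian category C with enough injectives to an abelian
category D. Then the right derived functors RⁿF carry connecting morphisms RⁿF(X₃) → Rⁿ⁺¹F(X₁) for
every short exact sequence 0 → X₁ → X₂ → X₃ → 0 of C, computed on any injective resolution of the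
sequence by the connecting morphism of the short exact sequence of complexes obtained by applying F,
natural in morphisms of short exact sequences, and with exact long sequence. -/
theorem result {C : Type u} [Category.{v} C] [Abelian C] [EnoughInjectives C]
    {D : Type u'} [Category.{v'} D] [Abelian D] (F : C ⥤ D) [F.Additive] :
    Nonempty (RDer.DerivedLES F) := by
  let R := fun (S : ShortComplex C) (hS : S.ShortExact) => (Groth.Agent.Horseshoe.nonempty_sesRes S hS).some
  exact ⟨{
    δ := fun S hS n₀ n₁ h => (R S hS).delta F n₀ n₁ h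
    δ_eq := fun S hS T n₀ n₁ h => Groth.Agent.Horseshoe.delta_eq_delta F (R S hS) T hS.epi_g n₀ n₁ h
    δ_natural := fun hS hS' φ n₀ n₁ h => Groth.Agent.Horseshoe.delta_natural F (R _ hS) (R _ hS') φ hS.epi_g n₀ n₁ h
    exact₂ := fun S hS n => (les F (R S hS) n (n + 1) rfl).1 n
    comp_δ := fun S hS n₀ n₁ h => (les F (R S hS) n₀ n₁ h).2.1.choose
    exact₃ := fun S hS n₀ n₁ h => (les F (R S hS) n₀ n₁ h).2.1.choose_spec
    δ_comp := fun S hS n₀ n₁ h => (les F (R S hS) n₀ n₁ h).2.2.choose
    exact₁ := fun S hS n₀ n₁ h => (les F (R S hS) n₀ n₁ h).2.2.choose_spec }⟩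

end Groth.Agent.S16463
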