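import Groth.Statements.S16478
import Groth.Agent.GaDual.Chars

set_option autoImplicit false
universe u
open GaDual

namespace Groth.Agent.S16478

/-- Let A be a commutative ring of prime characteristic p and n ≥ 1, and let φ be the comorphism of the
closed immersion α_{p^n} → G_a over A: the bialgebra map from the Hopf algebra of the additive group
(generator t primitive) to A[x]/(x^(p^n)) (x primitive) sending t to x. Then the restriction map on
characters, from those of the additive group over A to those of α_{p^n} over A, is surjective: every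
group-like element of A[x]/(x^(p^n)) is the image under φ of a group-like element of the Hopf
algebra of the additive group. -/
theorem result (p : ℕ) [Fact p.Prime] (A : Type u) [CommRing A] [CharP A p]
    (n : ℕ) (hn : 1 ≤ n) (φ : SekSuwa.A A 0 →ₐc[A] AlphaPn.A p n A) (hφ : φ SekSuwa.A.t = AlphaPn.x p n A)
    (u : AlphaPn.A p n A) (hu : IsGroupLikeElem A u) :
    ∃ g : SekSuwa.A A 0, IsGroupLikeElem A g ∧ φ g = u := by
  classical
  have hp : p.Prime := Fact.out
  haveI : Nontrivial A := CharP.nontrivial_of_char_ne_one hp.ne_one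
  obtain ⟨f0, hf0⟩ := AlphaPn.mk_surjective p n A u
  have hmon : ((Polynomial.X : Polynomial A) ^ (p ^ n)).Monic := Polynomial.monic_X_pow _
  let f : Polynomial A := f0 %ₘ (Polynomial.X ^ (p ^ n))
  have hfu : Polynomial.aeval (AlphaPn.x p n A) f = u := by
    have h := congrArg (Polynomial.aeval (AlphaPn.x p n A))
      (Polynomial.modByMonic_add_div f0 (Polynomial.X ^ (p ^ n) : Polynomial A))
    rw [map_add, map_mul, map_pow, Polynomial.aeval_X, AlphaPn.x_pow, zero_mul, add_zero,
      AlphaPn.aeval_x p n A f0, hf0] at h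
    exact h
  have hdeg : f.natDegree < p ^ n := by
    have h1 : ((Polynomial.X : Polynomial A) ^ (p ^ n)) ≠ 1 := fun h => by
      have := congrArg Polynomial.natDegree h
      rw [Polynomial.natDegree_X_pow, Polynomial.natDegree_one] at this
      exact pow_ne_zero n hp.ne_zero this
    have := Polynomial.natDegree_modByMonic_lt f0 hmon h1
    rwa [Polynomial.natDegree_X_pow] at this
  have hf1 : f.eval 0 = 1 := by
    have h := hu.counit_eq_one
    rw [← hfu] at h
    change Bialgebra.counitAlgHom A (AlphaPn.A p n A) (Polynomial.aeval (AlphaPn.x p n A) f) = 1 at h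
    rw [← Polynomial.aeval_algHom_apply] at h
    change Polynomial.aeval (Coalgebra.counit (R := A) (AlphaPn.x p n A)) f = 1 at h
    rw [AlphaPn.counit_x, Polynomial.coe_aeval_eq_eval] at h
    exact h
  let J : Ideal (MvPolynomial (Fin 2) A) :=
    Ideal.span {(MvPolynomial.X 0 ^ p ^ n : MvPolynomial (Fin 2) A), MvPolynomial.X 1 ^ p ^ n}
  let π : MvPolynomial (Fin 2) A →ₐ[A] MvPolynomial (Fin 2) A ⧸ J := Ideal.Quotient.mkₐ A J
  have hx : ∀ i : Fin 2, π (MvPolynomial.X i) ^ (p ^ n) = 0 := fun i => by
    rw [← map_pow]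
    refine Ideal.Quotient.eq_zero_iff_mem.mpr (Ideal.subset_span ?_)
    fin_cases i <;> simp
  let Θ : TensorProduct A (AlphaPn.A p n A) (AlphaPn.A p n A) →ₐ[A] MvPolynomial (Fin 2) A ⧸ J :=
    Algebra.TensorProduct.lift (AlphaPn.lift p n A _ (hx 0)) (AlphaPn.lift p n A _ (hx 1))
      (fun _ _ => Commute.all _ _)
  have hmul : π (Polynomial.aeval (MvPolynomial.X 0 + MvPolynomial.X 1) f) =
      π (Polynomial.aeval (MvPolynomial.X 0) f * Polynomial.aeval (MvPolynomial.X 1) f) := by
    have h := congrArg Θ hu.comul_eq_tmul_self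
    rw [← hfu] at h
    change Θ (Bialgebra.comulAlgHom A (AlphaPn.A p n A) (Polynomial.aeval (AlphaPn.x p n A) f)) = _ at h
    rw [← Polynomial.aeval_algHom_apply] at h
    change Θ (Polynomial.aeval (Coalgebra.comul (R := A) (AlphaPn.x p n A)) f) = _ at h
    rw [AlphaPn.comul_x, ← Polynomial.aeval_algHom_apply] at h
    simp only [Θ, map_add, Algebra.TensorProduct.lift_tmul, map_one, mul_one, one_mul,
      AlphaPn.lift_x, ← Polynomial.aeval_algHom_apply] at h
    rw [map_mul, ← Polynomial.aeval_algHom_apply, ← Polynomial.aeval_algHom_apply,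
      ← Polynomial.aeval_algHom_apply, map_add]
    exact h
  obtain ⟨hnil, hcoeff⟩ := GaDual.Chars.coeff_eq_prod p f.coeff
    (by rw [Polynomial.coeff_zero_eq_eval_zero, hf1]) n (fun i j hi hj => by
      have h := GaDual.Chars.coeff_eq_zero_of_mem_span hi hj (Ideal.Quotient.eq.mp hmul)
      rw [MvPolynomial.coeff_sub, GaDual.Chars.coeff_aeval_add, GaDual.Chars.coeff_aeval_mul] at h
      exact (sub_eq_zero.mp h).symm)
  let a : ℕ → A := fun k => if k < n then f.coeff (p ^ k) else 0
  have ha : ∀ k, a k ^ p = 0 := fun k => by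
    simp only [a]
    split_ifs with hk
    · exact hnil k hk
    · exact zero_pow hp.ne_zero
  have hfP : f = ∏ k ∈ Finset.range n, GaDual.Chars.expp p (a k) k := by
    rw [Finset.prod_congr rfl (g := fun k => GaDual.Chars.expp p (f.coeff (p ^ k)) k)
      (fun k hk => by simp only [a, if_pos (Finset.mem_range.mp hk)])]
    refine Polynomial.ext fun m => ?_
    rcases Nat.lt_or_ge m (p ^ n) with hm | hm
    · exact hcoeff m hm
    · rw [Polynomial.coeff_eq_zero_of_natDegree_lt (lt_of_lt_of_le hdeg hm),
        Polynomial.coeff_eq_zero_of_natDegree_lt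
          (lt_of_lt_of_le (GaDual.Chars.natDegree_prod_lt p _ n) hm)]
  obtain ⟨-, hchar⟩ := GaDual.Chars.prod_isChar p a ha n
  rw [← hfP] at hchar
  refine ⟨Polynomial.aeval SekSuwa.A.t f, ⟨?_, ?_⟩, ?_⟩
  · change Bialgebra.counitAlgHom A (SekSuwa.A A 0) (Polynomial.aeval SekSuwa.A.t f) = 1
    rw [← Polynomial.aeval_algHom_apply]
    change Polynomial.aeval (Coalgebra.counit (R := A) (SekSuwa.A.t : SekSuwa.A A 0)) f = 1
    rw [SekSuwa.A.counit_t, Polynomial.coe_aeval_eq_eval, hf1]
  · change Bialgebra.comulAlgHom A (SekSuwa.A A 0) (Polynomial.aeval SekSuwa.A.t f) = _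
    rw [← Polynomial.aeval_algHom_apply]
    change Polynomial.aeval (Coalgebra.comul (R := A) (SekSuwa.A.t : SekSuwa.A A 0)) f = _
    rw [SekSuwa.A.comul_t, zero_smul, add_zero]
    let L : SekSuwa.A A 0 →ₐ[A] TensorProduct A (SekSuwa.A A 0) (SekSuwa.A A 0) := Algebra.TensorProduct.includeLeft
    let R' : SekSuwa.A A 0 →ₐ[A] TensorProduct A (SekSuwa.A A 0) (SekSuwa.A A 0) := Algebra.TensorProduct.includeRight
    let ev : MvPolynomial (Fin 2) A →ₐ[A] TensorProduct A (SekSuwa.A A 0) (SekSuwa.A A 0) :=
      MvPolynomial.aeval ![L SekSuwa.A.t, R' SekSuwa.A.t]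
    have h := congrArg ev hchar
    rw [map_mul, ← Polynomial.aeval_algHom_apply, ← Polynomial.aeval_algHom_apply,
      ← Polynomial.aeval_algHom_apply, map_add] at h
    simp only [ev, MvPolynomial.aeval_X, Matrix.cons_val_zero, Matrix.cons_val_one] at h
    refine h.trans ?_
    rw [Polynomial.aeval_algHom_apply, Polynomial.aeval_algHom_apply]
    simp [L, R']
  · rw [← Polynomial.aeval_algHom_apply, hφ, hfu]

end Groth.Agent.S16478
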