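import Groth.Statements.S16519
import Mathlib

set_option autoImplicit false
set_option maxHeartbeats 1000000
open CubicSurf

namespace Groth.Agent.S16519

/-- On a smooth cubic surface there are exactly 72 divisor classes L with L² = 1 and L · K = −3. Stated
in the lattice ℤ^{1,6} with basis l, e_1, …, e_6 (l² = 1, e_i² = −1, K = −3l + Σ e_i): the integer
vectors (a, b) ∈ ℤ × ℤ^6, standing for a·l − Σ b_i e_i, with 3a − Σ b_i = 3 and a² − Σ b_i² = 1 form
a set of exactly 72 elements. -/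
theorem result :
    {p : ℤ × (Fin 6 → ℤ) | 3 * p.1 - (Finset.univ.sum fun i => p.2 i) = 3 ∧
        p.1 ^ 2 - (Finset.univ.sum fun i => p.2 i ^ 2) = 1}.ncard = 72 := by
  let V : Finset (ℤ × (Fin 6 → ℤ)) :=
    (({1, 2, 3, 4, 5} : Finset ℤ) ×ˢ Fintype.piFinset fun _ : Fin 6 => ({0, 1, 2} : Finset ℤ)).filter
      fun p => 3 * p.1 - (Finset.univ.sum fun i => p.2 i) = 3 ∧ p.1 ^ 2 - (Finset.univ.sum fun i => p.2 i ^ 2) = 1
  have k1 : ∀ x : ℤ, x * (x - 1) ≤ 0 → 0 ≤ x ∧ x ≤ 2 := fun x hx => by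
    constructor <;> by_contra hh <;> push Not at hh <;> nlinarith
  have k2 : ∀ x : ℤ, (x - 1) * (x - 2) ≤ 0 → 0 ≤ x ∧ x ≤ 2 := fun x hx => by
    constructor <;> by_contra hh <;> push Not at hh <;> nlinarith
  have k3 : ∀ x : ℤ, (x - 1) ^ 2 ≤ 2 → 0 ≤ x ∧ x ≤ 2 := fun x hx => by
    constructor <;> by_contra hh <;> push Not at hh <;> nlinarith
  have k4 : ∀ x : ℤ, (x - 2) ^ 2 ≤ 0 → 0 ≤ x ∧ x ≤ 2 := fun x hx => by
    constructor <;> by_contra hh <;> push Not at hh <;> nlinarith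
  have k5 : ∀ x : ℤ, x ^ 2 ≤ 0 → 0 ≤ x ∧ x ≤ 2 := fun x hx => by
    constructor <;> by_contra hh <;> push Not at hh <;> nlinarith
  have hV : {p : ℤ × (Fin 6 → ℤ) | 3 * p.1 - (Finset.univ.sum fun i => p.2 i) = 3 ∧
      p.1 ^ 2 - (Finset.univ.sum fun i => p.2 i ^ 2) = 1} = (V : Set (ℤ × (Fin 6 → ℤ))) := by
    ext ⟨a, b⟩
    simp only [V, Finset.coe_filter, Set.mem_setOf_eq, Finset.mem_product, Fintype.mem_piFinset]
    refine ⟨fun h => ⟨?_, h⟩, fun h => h.2⟩
    obtain ⟨h1, h2⟩ := h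
    simp only [Fin.sum_univ_six] at h1 h2
    have hcs : (a - 1) * (a - 5) ≤ 0 := by
      nlinarith [sq_nonneg (b 0 - b 1), sq_nonneg (b 0 - b 2), sq_nonneg (b 0 - b 3), sq_nonneg (b 0 - b 4),
        sq_nonneg (b 0 - b 5), sq_nonneg (b 1 - b 2), sq_nonneg (b 1 - b 3), sq_nonneg (b 1 - b 4),
        sq_nonneg (b 1 - b 5), sq_nonneg (b 2 - b 3), sq_nonneg (b 2 - b 4), sq_nonneg (b 2 - b 5),
        sq_nonneg (b 3 - b 4), sq_nonneg (b 3 - b 5), sq_nonneg (b 4 - b 5)]
    have ha : 1 ≤ a ∧ a ≤ 5 := by constructor <;> by_contra hh <;> push Not at hh <;> nlinarith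
    have hsq : ∀ x : ℤ, 0 ≤ x * (x - 1) := fun x => by
      rcases le_or_gt x 0 with h | h <;> nlinarith
    have hsq2 : ∀ x : ℤ, 0 ≤ (x - 1) * (x - 2) := fun x => by
      rcases le_or_gt x 1 with h | h <;> nlinarith
    have hb : ∀ i, 0 ≤ b i ∧ b i ≤ 2 := by
      obtain ⟨ha1, ha2⟩ := ha
      have m0 := hsq (b 0); have m1 := hsq (b 1); have m2 := hsq (b 2)
      have m3 := hsq (b 3); have m4 := hsq (b 4); have m5 := hsq (b 5)
      have n0 := hsq2 (b 0); have n1 := hsq2 (b 1); have n2 := hsq2 (b 2)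
      have n3 := hsq2 (b 3); have n4 := hsq2 (b 4); have n5 := hsq2 (b 5)
      have q0 := sq_nonneg (b 0 - 1); have q1 := sq_nonneg (b 1 - 1); have q2 := sq_nonneg (b 2 - 1)
      have q3 := sq_nonneg (b 3 - 1); have q4 := sq_nonneg (b 4 - 1); have q5 := sq_nonneg (b 5 - 1)
      intro i
      interval_cases a
      · refine k5 _ ?_
        have := fun j => sq_nonneg (b j)
        have := this 0; have := sq_nonneg (b 1); have := sq_nonneg (b 2); have := sq_nonneg (b 3)
        have := sq_nonneg (b 4); have := sq_nonneg (b 5)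
        fin_cases i <;> simp only [Fin.reduceFinMk, Fin.isValue, Fin.zero_eta, Fin.mk_one] <;> linarith
      · refine k1 _ ?_
        fin_cases i <;> simp only [Fin.reduceFinMk, Fin.isValue, Fin.zero_eta, Fin.mk_one] <;> linarith
      · refine k3 _ ?_
        fin_cases i <;> simp only [Fin.reduceFinMk, Fin.isValue, Fin.zero_eta, Fin.mk_one] <;> linarith
      · refine k2 _ ?_
        fin_cases i <;> simp only [Fin.reduceFinMk, Fin.isValue, Fin.zero_eta, Fin.mk_one] <;> linarith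
      · refine k4 _ ?_
        have := sq_nonneg (b 0 - 2); have := sq_nonneg (b 1 - 2); have := sq_nonneg (b 2 - 2)
        have := sq_nonneg (b 3 - 2); have := sq_nonneg (b 4 - 2); have := sq_nonneg (b 5 - 2)
        fin_cases i <;> simp only [Fin.reduceFinMk, Fin.isValue, Fin.zero_eta, Fin.mk_one] <;> linarith
    refine ⟨?_, fun i => ?_⟩
    · simp only [Finset.mem_insert, Finset.mem_singleton]; omega
    · have := hb i; simp only [Finset.mem_insert, Finset.mem_singleton]; omega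
  rw [hV, Set.ncard_coe_finset]
  decide +kernel

end Groth.Agent.S16519
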