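import Groth.Statements.S1653
import Groth.Agent.HensPair.FieldDim

set_option autoImplicit false
universe u
open CategoryTheory CategoryTheory.Limits AlgebraicGeometry
open Variety

namespace Groth.Agent.S1653

/-- Let f : X → Y be a k-morphism of schemes locally of finite type over a field k, with X irreducible
of dimension a, and let the closure of the image of f have dimension b. Then the local fibre
dimension of f at every point of X is at least a - b, and the set of points where it equals a - b is
open and dense. -/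
theorem result (k : Type u) [Field k] (X Y : Scheme.{u}) [X.Over (Spec (CommRingCat.of k))] [Y.Over (Spec (CommRingCat.of k))]
    [LocallyOfFiniteType (X ↘ (Spec (CommRingCat.of k)))] [LocallyOfFiniteType (Y ↘ (Spec (CommRingCat.of k)))] [IrreducibleSpace X]
    (f : X ⟶ Y) (hf : f ≫ (Y ↘ (Spec (CommRingCat.of k))) = X ↘ (Spec (CommRingCat.of k))) (a b : ℕ) (ha : topologicalKrullDim X = a)
    (hb : topologicalKrullDim (closure (Set.range f.base)) = b) :
    (∀ x : X, ((a - b : ℕ) : WithBot ℕ∞) ≤ FlatMor.fibreDimAt f x) ∧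
      IsOpen {x : X | FlatMor.fibreDimAt f x = (a - b : ℕ)} ∧ Dense {x : X | FlatMor.fibreDimAt f x = (a - b : ℕ)} := by
  open Groth.Agent.HensPair in
  let q := Y ↘ Spec (CommRingCat.of k)
  haveI : LocallyOfFiniteType (f ≫ q) := by rw [hf]; infer_instance
  haveI : LocallyOfFiniteType f := locallyOfFiniteType_of_comp f q
  let ξ := genericPoint X
  have hξ : ∀ z : X, ξ ⤳ z := fun z => (genericPoint_spec X).specializes trivial
  have hcl : closure (Set.range f.base) = closure {f ξ} := le_antisymm
    (closure_minimal (by rintro _ ⟨z, rfl⟩; exact ((hξ z).map f.continuous).mem_closure) isClosed_closure)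
    (closure_mono (Set.singleton_subset_iff.mpr ⟨ξ, rfl⟩))
  rw [hcl, FieldDim.dim_closure q] at hb
  have hu : closure ({ξ} : Set X) = Set.univ := genericPoint_spec X
  have ha' : topologicalKrullDim ↥X = (FibreTrdeg.T (f ≫ q) ξ : ℕ) := by
    rw [← FieldDim.dim_closure (f ≫ q) ξ, hu]
    exact (IsHomeomorph.topologicalKrullDim_eq _ (Homeomorph.Set.univ _).isHomeomorph).symm
  rw [ha, JacobsonDim.T_add f q ξ] at ha'
  have hbT : FibreTrdeg.T q (f ξ) = b := by exact_mod_cast hb
  have haT : a = FibreTrdeg.T q (f ξ) + FibreTrdeg.T f ξ := by exact_mod_cast ha'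
  have hsub : a - b = FibreTrdeg.T f ξ := by omega
  rw [hsub]
  have hge : ∀ x : X, ((FibreTrdeg.T f ξ : ℕ) : WithBot ℕ∞) ≤ FlatMor.fibreDimAt f x := fun x =>
    (FibreTrdeg.T_le_fibreDimAt f ξ).trans (FibreTrdeg.fibreDimAt_mono f (hξ x))
  have hset : {x : X | FlatMor.fibreDimAt f x = (FibreTrdeg.T f ξ : ℕ)} =
      {x : X | FlatMor.fibreDimAt f x ≤ (FibreTrdeg.T f ξ : ℕ)} :=
    Set.ext fun x => ⟨fun h => h.le, fun h => le_antisymm h (hge x)⟩
  refine ⟨hge, hset ▸ Groth.Agent.Equidim.isOpen_fibreDimAt_le f _, Dense.mono (Set.singleton_subset_iff.mpr ?_) (?_ : Dense ({ξ} : Set X))⟩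
  · exact FibreTrdeg.fibreDimAt_eq_T_of_maximal f ξ fun z _ hz => ((specializes_iff_mem_closure.mpr hz).antisymm (hξ z)).eq
  · exact dense_iff_closure_eq.mpr hu

end Groth.Agent.S1653
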