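import Groth.Statements.S16577
import Groth.Agent.HensPoint.StrictProps
import Mathlib.RingTheory.Ideal.GoingDown

set_option autoImplicit false
universe u
open Hensel

namespace Groth.Agent.S16577

/-- Let A be a Noetherian local ring with a strict henselization S', and p a prime ideal of A. Call p an
immediate étale generization of the closed point when the strict henselization S'/pS' of A/p has an
irreducible component of dimension 1, that is, some minimal prime P over pS' has dim S'/P = 1. Then
p is an immediate étale generization of the closed point if and only if p is the contraction of some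
prime ideal P of S' with dim S'/P = 1. -/
theorem result
    (A : Type u) [CommRing A] [IsNoetherianRing A] [IsLocalRing A]
    (S' : Type u) [CommRing S'] [IsLocalRing S'] [Algebra A S'] [IsLocalHom (algebraMap A S')]
    [Hensel.IsStrictHenselization A S']
    (p : Ideal A) [p.IsPrime] :
    (∃ P ∈ (p.map (algebraMap A S')).minimalPrimes, ringKrullDim (S' ⧸ P) = 1) ↔
    (∃ P : Ideal S', P.IsPrime ∧ P.comap (algebraMap A S') = p ∧ ringKrullDim (S' ⧸ P) = 1) := by
  have hE : Groth.Agent.HensPoint.EtColim.IsEtColim A S' := Groth.Agent.HensPoint.StrictProps.strict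
  have : Module.Flat A S' := hE.flat
  constructor
  · rintro ⟨P, hP, hd⟩
    have := hP.1.1
    have hle : p ≤ P.comap (algebraMap A S') := Ideal.map_le_iff_le_comap.mp hP.1.2
    have : P.LiesOver (P.comap (algebraMap A S')) := ⟨rfl⟩
    obtain ⟨q, hqle, hq, hqc⟩ := Ideal.exists_ideal_le_liesOver_of_le (R := A) (S := S') (p := p) P hle
    have hPq : P ≤ q := hP.2 ⟨hq, Ideal.map_le_iff_le_comap.mpr hqc.over.le⟩ hqle
    exact ⟨P, inferInstance, le_antisymm ((Ideal.comap_mono hPq).trans hqc.over.ge) hle, hd⟩
  · rintro ⟨P, hP, hc, hd⟩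
    refine ⟨P, ⟨⟨hP, Ideal.map_le_iff_le_comap.mpr hc.ge⟩, fun r hr hrP => ?_⟩, hd⟩
    have := hr.1
    refine (hE.eq_of_le_of_under_eq hrP (le_antisymm (Ideal.comap_mono hrP) ?_)).ge
    exact hc.le.trans (Ideal.map_le_iff_le_comap.mp hr.2)

end Groth.Agent.S16577
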