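import Groth.Statements.S16599
import Groth.Agent.LG8.Basic

set_option autoImplicit false
open AlgebraicGeometry
universe u
open LGRing

namespace Groth.Agent.S16599

/-- Let R be an LG-ring, n ≥ 0, and U an open quasi-compact subscheme of affine n-space Spec R[X₁, …,
Xₙ]. If U has an (R ⧸ m)-valued point over R for every maximal ideal m of R, then U has an R-valued
point: some n-tuple x over R defines a section Spec R ⟶ Spec R[X₁, …, Xₙ] with image inside U. -/
theorem result {R : Type u} [CommRing R] (hR : LGRing.IsLGRing R)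
    (n : ℕ) (U : (Spec (CommRingCat.of (MvPolynomial (Fin n) R))).Opens)
    (hU : IsCompact (U : Set ↥(Spec (CommRingCat.of (MvPolynomial (Fin n) R)))))
    (h : ∀ (m : Ideal R) [m.IsMaximal], ∃ x : Fin n → R ⧸ m,
      Set.range (Spec.map (CommRingCat.ofHom (MvPolynomial.eval₂Hom (Ideal.Quotient.mk m) x))).base ⊆
        (U : Set ↥(Spec (CommRingCat.of (MvPolynomial (Fin n) R))))) :
    ∃ x : Fin n → R, Set.range (Spec.map (CommRingCat.ofHom (MvPolynomial.eval x))).base ⊆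
      (U : Set ↥(Spec (CommRingCat.of (MvPolynomial (Fin n) R)))) := by
  obtain ⟨t, ht⟩ := PrimeSpectrum.isCompact_isOpen_iff.mp ⟨hU, U.2⟩
  have mem : ∀ q : PrimeSpectrum (MvPolynomial (Fin n) R),
      q ∈ (U : Set ↥(Spec (CommRingCat.of (MvPolynomial (Fin n) R)))) ↔ ∃ f : {f // f ∈ t}, (f : MvPolynomial (Fin n) R) ∉ q.asIdeal := by
    intro q
    rw [← ht]
    show ¬ ((↑t : Set (MvPolynomial (Fin n) R)) ⊆ ↑q.asIdeal) ↔ _
    rw [Set.not_subset]
    exact ⟨fun ⟨f, hf, hq⟩ => ⟨⟨f, hf⟩, hq⟩, fun ⟨⟨f, hf⟩, hq⟩ => ⟨f, hf, hq⟩⟩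
  obtain ⟨x, hx⟩ := Groth.Agent.LG8.exists_span hR (fun f : {f // f ∈ t} => (f : MvPolynomial (Fin n) R)) fun m hm => by
    obtain ⟨x, hx⟩ := h m
    choose x' hx' using fun i => Ideal.Quotient.mk_surjective (I := m) (x i)
    letI : Field (R ⧸ m) := Ideal.Quotient.field m
    let q : PrimeSpectrum (R ⧸ m) := ⟨⊥, Ideal.isPrime_bot⟩
    obtain ⟨f, hf⟩ := (mem (PrimeSpectrum.comap (MvPolynomial.eval₂Hom (Ideal.Quotient.mk m) x) q)).mp (hx ⟨q, rfl⟩)
    refine ⟨x', f, fun h0 => hf ?_⟩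
    show MvPolynomial.eval₂Hom (Ideal.Quotient.mk m) x (f : MvPolynomial (Fin n) R) ∈ (⊥ : Ideal (R ⧸ m))
    have he : x = Ideal.Quotient.mk m ∘ x' := funext fun i => (hx' i).symm
    rw [Ideal.mem_bot, he, MvPolynomial.coe_eval₂Hom, show MvPolynomial.eval₂ (Ideal.Quotient.mk m) (Ideal.Quotient.mk m ∘ x') (f : MvPolynomial (Fin n) R) = Ideal.Quotient.mk m (MvPolynomial.eval x' f) from ((MvPolynomial.eval₂_comp_left (Ideal.Quotient.mk m) (RingHom.id R) x' f).trans (by rw [RingHom.comp_id])).symm]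
    exact Ideal.Quotient.eq_zero_iff_mem.mpr h0
  refine ⟨x, ?_⟩
  rintro _ ⟨q, rfl⟩
  refine (mem (PrimeSpectrum.comap (MvPolynomial.eval x) q)).mpr ?_
  by_contra hall
  simp only [not_exists, not_not] at hall
  refine q.isPrime.ne_top (top_unique (hx.ge.trans (Ideal.span_le.mpr ?_)))
  rintro _ ⟨f, rfl⟩
  exact hall f

end Groth.Agent.S16599
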