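import Groth.Statements.S16600
import Groth.Agent.LG8.Sym

set_option autoImplicit false
open AlgebraicGeometry
universe u
open LGRing

namespace Groth.Agent.S16600

/-- Let R be an LG-ring, M a finite locally free R-module, W(M) = Spec Sym(M^∨) the vector bundle of M
(its points with values in an R-algebra R' are the R-algebra maps Sym(M^∨) → R', i.e. the R-linear
maps M^∨ → R'), and U ⊆ W(M) an open quasi-compact subscheme. Then U(R) is non-empty if and only if
U(R ⧸ m) is non-empty for every maximal ideal m of R. -/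
theorem result {R : Type u} [CommRing R]
    (hR : LGRing.IsLGRing R) (M : Type u) [AddCommGroup M] [Module R M] [Module.Finite R M] [Module.Projective R M]
    (U : (Spec (CommRingCat.of (SymmetricAlgebra R (Module.Dual R M)))).Opens)
    (hU : IsCompact (U : Set ↥(Spec (CommRingCat.of (SymmetricAlgebra R (Module.Dual R M)))))) :
    (∃ φ : Module.Dual R M →ₗ[R] R,
      Set.range (Spec.map (CommRingCat.ofHom (SymmetricAlgebra.lift φ).toRingHom)).base ⊆
        (U : Set ↥(Spec (CommRingCat.of (SymmetricAlgebra R (Module.Dual R M)))))) ↔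
    ∀ (m : Ideal R) [m.IsMaximal], ∃ φ : Module.Dual R M →ₗ[R] (R ⧸ m),
      Set.range (Spec.map (CommRingCat.ofHom (SymmetricAlgebra.lift φ).toRingHom)).base ⊆
        (U : Set ↥(Spec (CommRingCat.of (SymmetricAlgebra R (Module.Dual R M))))) := by
  obtain ⟨t, ht⟩ := PrimeSpectrum.isCompact_isOpen_iff.mp ⟨hU, U.2⟩
  haveI : Module.Finite R (Module.Dual R M) := Groth.Agent.LG8.finite_hom M R
  haveI : Module.Projective R (Module.Dual R M) := inferInstance
  have mem : ∀ q : PrimeSpectrum (SymmetricAlgebra R (Module.Dual R M)),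
      q ∈ (U : Set ↥(Spec (CommRingCat.of (SymmetricAlgebra R (Module.Dual R M))))) ↔
        ∃ f ∈ t, f ∉ q.asIdeal := by
    intro q
    rw [← ht]
    show ¬ ((↑t : Set (SymmetricAlgebra R (Module.Dual R M))) ⊆ ↑q.asIdeal) ↔ _
    rw [Set.not_subset]
    rfl
  have glob : ∀ φ : Module.Dual R M →ₗ[R] R,
      Ideal.span (Set.range fun f : {f // f ∈ t} => SymmetricAlgebra.lift φ f.1) = ⊤ →
      Set.range (Spec.map (CommRingCat.ofHom (SymmetricAlgebra.lift φ).toRingHom)).base ⊆
        (U : Set ↥(Spec (CommRingCat.of (SymmetricAlgebra R (Module.Dual R M))))) := by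
    rintro φ hφ _ ⟨q, rfl⟩
    refine (mem (PrimeSpectrum.comap (SymmetricAlgebra.lift φ).toRingHom q)).mpr ?_
    by_contra hall
    simp only [not_exists, not_and, not_not] at hall
    refine q.isPrime.ne_top (top_unique (hφ.ge.trans (Ideal.span_le.mpr ?_)))
    rintro _ ⟨f, rfl⟩
    exact hall f.1 f.2
  refine ⟨fun ⟨φ, hφ⟩ m _ => ⟨(Ideal.Quotient.mkₐ R m).toLinearMap.comp φ, ?_⟩, fun h => ?_⟩
  · rintro _ ⟨q, rfl⟩
    refine (mem (PrimeSpectrum.comap (SymmetricAlgebra.lift ((Ideal.Quotient.mkₐ R m).toLinearMap.comp φ)).toRingHom q)).mpr ?_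
    have e : SymmetricAlgebra.lift ((Ideal.Quotient.mkₐ R m).toLinearMap.comp φ) =
        (Ideal.Quotient.mkₐ R m).comp (SymmetricAlgebra.lift φ) := by
      apply SymmetricAlgebra.algHom_ext
      refine LinearMap.ext fun d => ?_
      simp
    rw [e]
    exact (mem (PrimeSpectrum.comap (SymmetricAlgebra.lift φ).toRingHom (PrimeSpectrum.comap (Ideal.Quotient.mk m) q))).mp (hφ ⟨_, rfl⟩)
  · obtain ⟨φ, hφ⟩ := Groth.Agent.LG8.exists_point hR (Module.Dual R M) t fun m hm => by
      obtain ⟨φ, hφ⟩ := h m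
      letI : Field (R ⧸ m) := Ideal.Quotient.field m
      obtain ⟨f, hf, hne⟩ := (mem (PrimeSpectrum.comap (SymmetricAlgebra.lift φ).toRingHom ⟨⊥, Ideal.isPrime_bot⟩)).mp (hφ ⟨⟨⊥, Ideal.isPrime_bot⟩, rfl⟩)
      exact ⟨φ, f, hf, fun h0 => hne (Ideal.mem_bot.mpr h0)⟩
    exact ⟨φ, glob φ hφ⟩

end Groth.Agent.S16600
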