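import Groth.Statements.S16601
import Groth.Agent.LG8.Sym

set_option autoImplicit false
open AlgebraicGeometry
universe u
open LGRing

namespace Groth.Agent.S16601

/-- Let R be an LG-ring whose residue fields at maximal ideals are all infinite (R satisfies the
primitive criterion), M a finite locally free R-module with vector bundle W(M) = Spec Sym(M^∨), and
U ⊆ W(M) an open quasi-compact subscheme which is fibrewise dense over the closed points of Spec R
(for every maximal ideal m, the trace of U on the closed fibre Spec (Sym(M^∨) ⧸ m Sym(M^∨)) is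
dense). Then U has an R-valued point. (The source asks U to be R-dense in W(M); only density of the
closed fibres is used, which is what is assumed here.) -/
theorem result {R : Type u} [CommRing R]
    (hR : LGRing.IsLGRing R) (hinf : ∀ (m : Ideal R) [m.IsMaximal], Infinite (R ⧸ m))
    (M : Type u) [AddCommGroup M] [Module R M] [Module.Finite R M] [Module.Projective R M]
    (U : (Spec (CommRingCat.of (SymmetricAlgebra R (Module.Dual R M)))).Opens)
    (hU : IsCompact (U : Set ↥(Spec (CommRingCat.of (SymmetricAlgebra R (Module.Dual R M))))))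
    (hdense : ∀ (m : Ideal R) [m.IsMaximal],
      Dense ((Spec.map (CommRingCat.ofHom (Ideal.Quotient.mk
        (Ideal.map (algebraMap R (SymmetricAlgebra R (Module.Dual R M))) m)))).base ⁻¹'
          (U : Set ↥(Spec (CommRingCat.of (SymmetricAlgebra R (Module.Dual R M))))))) :
    ∃ φ : Module.Dual R M →ₗ[R] R,
      Set.range (Spec.map (CommRingCat.ofHom (SymmetricAlgebra.lift φ).toRingHom)).base ⊆
        (U : Set ↥(Spec (CommRingCat.of (SymmetricAlgebra R (Module.Dual R M))))) := by
  obtain ⟨t, ht⟩ := PrimeSpectrum.isCompact_isOpen_iff.mp ⟨hU, U.2⟩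
  haveI : Module.Finite R (Module.Dual R M) := Groth.Agent.LG8.finite_hom M R
  haveI : Module.Projective R (Module.Dual R M) := inferInstance
  have mem : ∀ q : PrimeSpectrum (SymmetricAlgebra R (Module.Dual R M)),
      q ∈ (U : Set ↥(Spec (CommRingCat.of (SymmetricAlgebra R (Module.Dual R M))))) ↔
        ∃ f ∈ t, f ∉ q.asIdeal := by
    intro q
    rw [← ht]
    show ¬ ((↑t : Set (SymmetricAlgebra R (Module.Dual R M))) ⊆ ↑q.asIdeal) ↔ _
    rw [Set.not_subset]
    rfl
  have glob : ∀ φ : Module.Dual R M →ₗ[R] R,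
      Ideal.span (Set.range fun f : {f // f ∈ t} => SymmetricAlgebra.lift φ f.1) = ⊤ →
      Set.range (Spec.map (CommRingCat.ofHom (SymmetricAlgebra.lift φ).toRingHom)).base ⊆
        (U : Set ↥(Spec (CommRingCat.of (SymmetricAlgebra R (Module.Dual R M))))) := by
    rintro φ hφ _ ⟨q, rfl⟩
    refine (mem (PrimeSpectrum.comap (SymmetricAlgebra.lift φ).toRingHom q)).mpr ?_
    by_contra hall
    simp only [not_exists, not_and, not_not] at hall
    refine q.isPrime.ne_top (top_unique (hφ.ge.trans (Ideal.span_le.mpr ?_)))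
    rintro _ ⟨f, rfl⟩
    exact hall f.1 f.2
  obtain ⟨φ, hφ⟩ := Groth.Agent.LG8.exists_point hR (Module.Dual R M) t fun m hm => by
    let S := SymmetricAlgebra R (Module.Dual R M)
    let I := Ideal.map (algebraMap R S) m
    have hI : I ≠ ⊤ := by
      intro htop
      have hle : I ≤ RingHom.ker ((Ideal.Quotient.mk m).comp (SymmetricAlgebra.algebraMapInv (R := R) (M := Module.Dual R M)).toRingHom) := by
        refine Ideal.map_le_iff_le_comap.mpr fun r hr => ?_
        rw [Ideal.mem_comap, RingHom.mem_ker]
        simp only [RingHom.comp_apply, AlgHom.toRingHom_eq_coe, RingHom.coe_coe, AlgHom.commutes]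
        exact Ideal.Quotient.eq_zero_iff_mem.mpr hr
      rw [htop] at hle
      have h1 := hle (Submodule.mem_top : (1 : S) ∈ (⊤ : Ideal S))
      rw [RingHom.mem_ker, map_one] at h1
      exact hm.ne_top ((Ideal.eq_top_iff_one m).mpr (Ideal.Quotient.eq_zero_iff_mem.mp ((map_one (Ideal.Quotient.mk m)).trans h1)))
    haveI : Nontrivial (S ⧸ I) := Ideal.Quotient.nontrivial_iff.mpr hI
    haveI : Nonempty ↥(Spec (CommRingCat.of (S ⧸ I))) := inferInstanceAs (Nonempty (PrimeSpectrum (S ⧸ I)))
    obtain ⟨q, hq⟩ := (hdense m).nonempty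
    obtain ⟨f, hf, hne⟩ := (mem (PrimeSpectrum.comap (Ideal.Quotient.mk I) q)).mp hq
    obtain ⟨φ, hφ⟩ := Groth.Agent.LG8.exists_residue (Module.Dual R M) m (hinf m) f fun hfI => hne (by
      show Ideal.Quotient.mk I f ∈ q.asIdeal
      rw [Ideal.Quotient.eq_zero_iff_mem.mpr hfI]; exact zero_mem _)
    exact ⟨φ, f, hf, hφ⟩
  exact ⟨φ, glob φ hφ⟩

end Groth.Agent.S16601
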