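import Groth.Statements.S16602
import Groth.Agent.LG8.Azumaya

set_option autoImplicit false
universe u v w
open Brauer

namespace Groth.Agent.S16602

/-- Let R be an LG-ring with Spec R connected and A an Azumaya R-algebra. Then any two indecomposable
finitely generated projective left A-modules are isomorphic (a module is indecomposable when it is
non-zero and the only idempotents of its endomorphism ring are 0 and 1). (This extends the semilocal
case.) -/
theorem result {R : Type u} [CommRing R]
    (hR : LGRing.IsLGRing R) [ConnectedSpace (PrimeSpectrum R)] {A : Type v} [Ring A] [Algebra R A] [IsAzumaya R A]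
    (P Q : Type w) [AddCommGroup P] [Module A P] [Module.Finite A P] [Module.Projective A P] [Nontrivial P]
    [AddCommGroup Q] [Module A Q] [Module.Finite A Q] [Module.Projective A Q] [Nontrivial Q]
    (hP : ∀ e : Module.End A P, IsIdempotentElem e → e = 0 ∨ e = 1)
    (hQ : ∀ e : Module.End A Q, IsIdempotentElem e → e = 0 ∨ e = 1) : Nonempty (P ≃ₗ[A] Q) := by
  letI : Module R P := Module.compHom P (algebraMap R A)
  letI : Module R Q := Module.compHom Q (algebraMap R A)
  haveI : IsScalarTower R A P := ⟨fun r a x => by show (r • a) • x = algebraMap R A r • a • x; rw [Algebra.smul_def, mul_smul]⟩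
  haveI : IsScalarTower R A Q := ⟨fun r a x => by show (r • a) • x = algebraMap R A r • a • x; rw [Algebra.smul_def, mul_smul]⟩
  obtain ⟨_, _⟩ := Groth.Agent.LG8.finite_projective_restrict (R := R) A P
  obtain ⟨_, _⟩ := Groth.Agent.LG8.finite_projective_restrict (R := R) A Q
  haveI := Module.finitePresentation_of_projective R P
  haveI := Module.finitePresentation_of_projective R Q
  obtain ⟨p0⟩ : Nonempty (PrimeSpectrum R) := inferInstance
  have cP : ∀ p, Module.rankAtStalk (R := R) P p = Module.rankAtStalk (R := R) P p0 := fun p =>
    Module.isLocallyConstant_rankAtStalk.apply_eq_of_preconnectedSpace p p0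
  have cQ : ∀ p, Module.rankAtStalk (R := R) Q p = Module.rankAtStalk (R := R) Q p0 := fun p =>
    Module.isLocallyConstant_rankAtStalk.apply_eq_of_preconnectedSpace p p0
  have key : ∀ (X Y : Type w) [AddCommGroup X] [Module A X] [Module.Projective A X] [AddCommGroup Y] [Module A Y]
      [Module.Projective A Y] [Nontrivial Y], (∀ e : Module.End A X, IsIdempotentElem e → e = 0 ∨ e = 1) →
      ∀ f : X →ₗ[A] Y, Function.Surjective f → Function.Bijective f := by
    intro X Y _ _ _ _ _ _ _ hX f hf
    obtain ⟨s, hs⟩ := Module.projective_lifting_property f LinearMap.id hf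
    have hfs : ∀ y, f (s y) = y := fun y => LinearMap.congr_fun hs y
    rcases hX (s.comp f) (LinearMap.ext fun x => congrArg s (hfs (f x))) with h0 | h1
    · exfalso
      obtain ⟨y, hy⟩ := exists_ne (0 : Y)
      obtain ⟨x, rfl⟩ := hf y
      exact hy ((hfs (f x)).symm.trans (by rw [show s (f x) = 0 from LinearMap.congr_fun h0 x, map_zero]))
    · exact ⟨Function.LeftInverse.injective fun x => LinearMap.congr_fun h1 x, hf⟩
  rcases le_total (Module.rankAtStalk (R := R) Q p0) (Module.rankAtStalk (R := R) P p0) with h | h
  · obtain ⟨f, hf⟩ := Groth.Agent.LG8.exists_linear_surjective hR A P Q fun m hm => by rw [cP, cQ]; exact h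
    exact ⟨LinearEquiv.ofBijective f (key P Q hP f hf)⟩
  · obtain ⟨f, hf⟩ := Groth.Agent.LG8.exists_linear_surjective hR A Q P fun m hm => by rw [cP, cQ]; exact h
    exact ⟨(LinearEquiv.ofBijective f (key Q P hQ f hf)).symm⟩

end Groth.Agent.S16602
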