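import Groth.Statements.S16608
import Groth.Agent.LG8.Brauer

set_option autoImplicit false
open scoped TensorProduct
universe u v
open Brauer

namespace Groth.Agent.S16608

/-- Let R be an LG-ring and A, B, C Azumaya R-algebras. If A ⊗_R C ≅ B ⊗_R C as R-algebras then A ≅ B as
R-algebras. -/
theorem result {R : Type u} [CommRing R]
    (hR : LGRing.IsLGRing R) (A B C : Type v) [Ring A] [Algebra R A] [IsAzumaya R A] [Ring B] [Algebra R B]
    [IsAzumaya R B] [Ring C] [Algebra R C] [IsAzumaya R C]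
    (e : A ⊗[R] C ≃ₐ[R] B ⊗[R] C) : Nonempty (A ≃ₐ[R] B) := by
  let g : C ⊗[R] Cᵐᵒᵖ ≃ₐ[R] Module.End R C := AlgEquiv.ofBijective (AlgHom.mulLeftRight R C) IsAzumaya.bij
  let f : ∀ (X : Type v) [Ring X] [Algebra R X], (X ⊗[R] C) ⊗[R] Cᵐᵒᵖ ≃ₐ[R] X ⊗[R] Module.End R C := fun X _ _ =>
    (Algebra.TensorProduct.assoc R R R X C Cᵐᵒᵖ).trans (Algebra.TensorProduct.congr (AlgEquiv.refl : X ≃ₐ[R] X) g)
  let e' := (f A).symm.trans ((Algebra.TensorProduct.congr e (AlgEquiv.refl : Cᵐᵒᵖ ≃ₐ[R] Cᵐᵒᵖ)).trans (f B))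
  refine Groth.Agent.LG8.iso_of_brauer hR A B (fun p => ?_) C C e'
  have h := congrFun (Module.rankAtStalk_eq_of_equiv e.toLinearEquiv) p
  simp only [Module.rankAtStalk_tensorProduct, Pi.mul_apply] at h
  exact Nat.eq_of_mul_eq_mul_right (Groth.Agent.LG8.rank_pos C p) h

end Groth.Agent.S16608
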