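import Groth.Statements.S1662
import Groth.Agent.BlowUpEC.Relative
import Groth.Agent.Locus.Basic

set_option autoImplicit false
universe u
open CategoryTheory CategoryTheory.Limits AlgebraicGeometry
open Divisors

namespace Groth.Agent.S1662

/-- Let f : X → S, D an effective Cartier divisor on X such that D → S is flat, and g : S' → S any
morphism. Then the inverse image of D in X ×_S S' is an effective Cartier divisor. -/
theorem result {X S S' : Scheme.{u}} (f : X ⟶ S) (D : X.IdealSheafData) (hD : BlowUp.IsEffCartierIdeal D)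
    [Flat (D.subschemeι ≫ f)] (g : S' ⟶ S) :
    BlowUp.IsEffCartierIdeal (D.comap (pullback.fst f g)) := by
  intro z
  obtain ⟨_, ⟨V, hV, rfl⟩, hsV, -⟩ := S.isBasis_affineOpens.exists_subset_of_mem_open
    (Set.mem_univ (g (pullback.snd f g z))) isOpen_univ
  obtain ⟨_, ⟨V', hV', rfl⟩, hsV', eV⟩ :=
    S'.isBasis_affineOpens.exists_subset_of_mem_open (show pullback.snd f g z ∈ g ⁻¹ᵁ V from hsV) (g ⁻¹ᵁ V).2
  have hxV : pullback.fst f g z ∈ f ⁻¹ᵁ V := by
    rw [Scheme.Hom.mem_preimage, ← Scheme.Hom.comp_apply, pullback.condition]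
    exact hsV
  obtain ⟨U, hxU, eU, a, ha, hU⟩ := Groth.Agent.BlowUpEC.exists_chart hD _ (f ⁻¹ᵁ V) hxV
  let W : (pullback f g).Opens := pullback.fst f g ⁻¹ᵁ U.1 ⊓ pullback.snd f g ⁻¹ᵁ V'
  have h := IsPullback.of_hasPullback f g
  have : IsAffine _ := hV
  have : IsAffine _ := hV'
  have : IsAffine _ := U.2
  have hW : IsAffineOpen W := .of_isIso (Scheme.Hom.isPullback_resLE h eV eU rfl).isoPullback.hom
  have eW : W ≤ pullback.snd f g ⁻¹ᵁ V' := inf_le_right
  have eW' : W ≤ pullback.fst f g ⁻¹ᵁ U.1 := inf_le_left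
  have hpo : IsPushout (f.appLE V U.1 eU) (g.appLE V V' eV) ((pullback.fst f g).appLE U.1 W eW')
      ((pullback.snd f g).appLE V' W eW) :=
    (isIso_pushoutSection_iff ..).mp (isIso_pushoutSection_of_isAffineOpen h eV eU rfl hV hV' U.2)
  refine ⟨⟨W, hW⟩, ⟨hxU, hsV'⟩, ((pullback.fst f g).appLE U.1 W eW').hom a, ?_, ?_⟩
  · have h1 := Groth.Agent.BlowUpEC.flat_quotient f D hV U eU
    rw [hU] at h1
    algebraize [(f.appLE V U.1 eU).hom, (g.appLE V V' eV).hom, ((pullback.snd f g).appLE V' W eW).hom]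
    obtain ⟨e, he⟩ := Groth.Agent.Locus.Basic.exists_tensor_point hpo
      (hW.primeIdealOf ⟨z, hxU, hsV'⟩).asIdeal
    rw [← he a]
    rw [mem_nonZeroDivisors_iff_right]
    intro y hy
    obtain ⟨y, rfl⟩ := e.surjective y
    rw [← map_mul] at hy
    have h2 := Groth.Agent.BlowUpEC.nzd_baseChange ha (R := Γ(S, V)) Γ(S', V')
    replace hy := e.injective (hy.trans (map_zero e).symm)
    refine (congrArg e ?_).trans (map_zero e)
    exact (mul_right_mem_nonZeroDivisors_eq_zero_iff h2).mp hy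
  · rw [Groth.Agent.Flat.CartierFibre.ideal_comap D (pullback.fst f g) U ⟨W, hW⟩ eW', hU,
      Ideal.map_span, Set.image_singleton]

end Groth.Agent.S1662
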