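import Groth.Statements.S16644
import Mathlib

set_option autoImplicit false
open QuadZ

namespace Groth.Agent.S16644

/-- For odd n, the discriminant of the universal quadratic form Σ_{i ≤ j} A_{ij} x_i x_j in n variables
(variables A_{ij} indexed by unordered pairs), i.e. the determinant of the symmetric matrix with
diagonal entries 2 A_{ii} and off-diagonal entries A_{ij}, is divisible by 2 in the integral
polynomial ring ℤ[A_{ij}] (so the half-discriminant is an integral polynomial). -/
theorem result (n : ℕ) (hn : Odd n) :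
    (2 : MvPolynomial (Sym2 (Fin n)) ℤ) ∣
      (Matrix.of fun i j : Fin n =>
        if i = j then 2 * MvPolynomial.X (R := ℤ) (σ := Sym2 (Fin n)) (Sym2.mk i j)
        else MvPolynomial.X (R := ℤ) (σ := Sym2 (Fin n)) (Sym2.mk i j)).det := by
  rw [show (2 : MvPolynomial (Sym2 (Fin n)) ℤ) = MvPolynomial.C 2 by simp,
    MvPolynomial.C_dvd_iff_map_hom_eq_zero (Int.castRingHom (ZMod 2)) 2
      (by intro r; exact (ZMod.intCast_zmod_eq_zero_iff_dvd r 2)), RingHom.map_det, Matrix.det_apply]
  refine Finset.sum_involution (fun σ _ => σ⁻¹) (fun σ _ => ?_) (fun σ _ hne hfix => ?_)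
    (fun σ _ => Finset.mem_univ _) (fun σ _ => inv_inv σ)
  · have h2 : ∀ x : MvPolynomial (Sym2 (Fin n)) (ZMod 2), x + x = 0 := CharTwo.add_self_eq_zero
    rw [Equiv.Perm.sign_inv]
    convert h2 _ using 3
    refine Fintype.prod_equiv σ⁻¹ _ _ fun i => ?_
    simp only [RingHom.mapMatrix_apply, Matrix.map_apply, Matrix.of_apply]
    rw [show σ (σ⁻¹ i) = i from σ.apply_symm_apply i, Sym2.eq_swap]
    by_cases h : σ⁻¹ i = i
    · simp [h]
    · rw [if_neg h, if_neg (Ne.symm h)]
  · obtain ⟨i, hi⟩ : ∃ i, σ i = i := by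
      haveI : Fact (Nat.Prime 2) := ⟨Nat.prime_two⟩
      exact Equiv.Perm.exists_fixed_point_of_prime (p := 2) (n := 1)
        (by rw [Fintype.card_fin]; exact fun h => (Nat.not_even_iff_odd.2 hn) (even_iff_two_dvd.2 h))
        (by rw [pow_one, pow_two]; nth_rw 1 [← hfix]; exact inv_mul_cancel σ)
    refine hne ?_
    rw [Finset.prod_eq_zero (Finset.mem_univ i), smul_zero]
    simp [hi, CharTwo.two_eq_zero]

end Groth.Agent.S16644
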