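import Groth.Statements.S1665
import Groth.Agent.Misc9.DimOneGlue
-- import your own Groth.Agent.* helpers here

set_option autoImplicit false
universe u
open Variety

namespace Groth.Agent.S1665

/-- Let B be a Noetherian domain of dimension one with finitely many maximal ideals and B' its integral
closure in its fraction field. Then B' is a Dedekind domain with finitely many maximal ideals, and
for every nonzero x in the Jacobson radical of B' and every y ∈ B' some power x^n satisfies x^n y ∈
B. -/
theorem result (B : Type u) [CommRing B] [IsDomain B] [IsNoetherianRing B]
    (hdim : ringKrullDim B = 1) (hsl : Finite (MaximalSpectrum B)) :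
    IsDedekindDomain (integralClosure B (FractionRing B)) ∧ Finite (MaximalSpectrum (integralClosure B (FractionRing B))) ∧
      ∀ x : integralClosure B (FractionRing B), x ≠ 0 → x ∈ (⊥ : Ideal (integralClosure B (FractionRing B))).jacobson →
        ∀ y : integralClosure B (FractionRing B), ∃ n : ℕ, (x ^ n * y).1 ∈ (algebraMap B (FractionRing B)).range := by
  have := Misc9.DimOne.krullDimLE hdim
  exact ⟨Misc9.DimOne.isDedekindDomain_intClosure B (FractionRing B),
    Misc9.DimOne.finite_maximalSpectrum_intClosure B (FractionRing B) hsl (Misc9.DimOne.not_isField hdim),
    fun x _ hx y => Misc9.DimOne.exists_pow_mul_mem_range B (FractionRing B) x y hx⟩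

end Groth.Agent.S1665
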