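import Groth.Statements.S16707
import Mathlib
-- import your own Groth.Agent.* helpers here

set_option autoImplicit false
universe u v
open CAlg

namespace Groth.Agent.S16707

open TensorProduct in
/-- Let A be a commutative ring, I a nilpotent ideal of A and f : M → N a homomorphism of A-modules with
N flat over A (no finiteness assumption on M or N). If the base change of f to A/I, that is M/IM →
N/IN, is bijective, then f is bijective. -/
theorem result (A : Type u) [CommRing A] (I : Ideal A)
    (hI : IsNilpotent I) (M N : Type v) [AddCommGroup M] [Module A M] [AddCommGroup N] [Module A N]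
    [Module.Flat A N] (f : M →ₗ[A] N)
    (hf : Function.Bijective (f.baseChange (A ⧸ I))) :
    Function.Bijective f := by
  obtain ⟨n, hn⟩ := hI
  have hq : ∀ m : M, ((1 : A ⧸ I) ⊗ₜ[A] m) = 0 ↔ m ∈ I • (⊤ : Submodule A M) := fun m => by
    rw [← map_eq_zero_iff _ (TensorProduct.quotTensorEquivQuotSMul M I).injective]
    rw [show (1 : A ⧸ I) = Ideal.Quotient.mk I 1 from rfl, TensorProduct.quotTensorEquivQuotSMul_mk_tmul, one_smul, Submodule.Quotient.mk_eq_zero]
  have hsurj : Function.Surjective f := by
    have h1 : (⊤ : Submodule A N) ≤ LinearMap.range f ⊔ I • (⊤ : Submodule A N) := fun y _ => by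
      obtain ⟨z, hz⟩ := hf.2 ((1 : A ⧸ I) ⊗ₜ[A] y)
      obtain ⟨m, rfl⟩ : ∃ m : M, (1 : A ⧸ I) ⊗ₜ[A] m = z := by
        obtain ⟨m, hm⟩ := Submodule.Quotient.mk_surjective _ ((TensorProduct.quotTensorEquivQuotSMul M I) z)
        refine ⟨m, (TensorProduct.quotTensorEquivQuotSMul M I).injective ?_⟩
        rw [← hm, show (1 : A ⧸ I) = Ideal.Quotient.mk I 1 from rfl, TensorProduct.quotTensorEquivQuotSMul_mk_tmul, one_smul]
      rw [LinearMap.baseChange_tmul] at hz
      have h2 : (TensorProduct.quotTensorEquivQuotSMul N I) ((1 : A ⧸ I) ⊗ₜ[A] (y - f m)) = 0 := by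
        rw [TensorProduct.tmul_sub, hz, sub_self, map_zero]
      rw [show (1 : A ⧸ I) = Ideal.Quotient.mk I 1 from rfl, TensorProduct.quotTensorEquivQuotSMul_mk_tmul, one_smul, Submodule.Quotient.mk_eq_zero] at h2
      exact Submodule.mem_sup.2 ⟨f m, ⟨m, rfl⟩, y - f m, h2, add_sub_cancel _ _⟩
    have h3 : ∀ k, (⊤ : Submodule A N) ≤ LinearMap.range f ⊔ I ^ k • (⊤ : Submodule A N) := fun k => by
      induction k with
      | zero => simp
      | succ k ih =>
        refine ih.trans (sup_le le_sup_left ?_)
        refine (Submodule.smul_mono le_rfl h1).trans ?_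
        rw [Submodule.smul_sup, ← Submodule.smul_assoc, smul_eq_mul, ← pow_succ]
        exact sup_le_sup_right Submodule.smul_le_right _
    have h4 := h3 n
    rw [hn, Ideal.zero_eq_bot, Submodule.bot_smul, sup_bot_eq] at h4
    exact LinearMap.range_eq_top.1 (top_le_iff.1 h4)
  refine ⟨(injective_iff_map_eq_zero _).2 ?_, hsurj⟩
  have h5 : LinearMap.ker f ≤ I • LinearMap.ker f := by
    intro m hm
    have hm' : m ∈ I • (⊤ : Submodule A M) := by
      rw [← hq]
      apply hf.1
      rw [LinearMap.baseChange_tmul, LinearMap.mem_ker.1 hm, TensorProduct.tmul_zero, map_zero]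
    obtain ⟨c, hc, hsum⟩ := (Submodule.mem_ideal_smul_span_iff_exists_sum I id m).1 (by rwa [Set.range_id, Submodule.span_univ])
    have h0 : ∑ i : c.support, c i.1 • f i.1 = 0 := by
      rw [Finset.univ_eq_attach, Finset.sum_attach c.support (fun i => c i • f i)]
      have := congrArg f hsum
      rw [LinearMap.mem_ker.1 hm, Finsupp.sum, map_sum] at this
      simpa using this
    obtain ⟨κ, b, y, hy, hab⟩ := Module.Flat.isTrivialRelation_of_sum_smul_eq_zero h0
    choose x hx using fun j => hsurj (y j)
    have : m = ∑ i : c.support, c i.1 • (i.1 - ∑ j, b i j • x j) := by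
      simp only [smul_sub, Finset.sum_sub_distrib, Finset.smul_sum, smul_smul]
      rw [Finset.sum_comm]
      simp only [← Finset.sum_smul, hab, zero_smul, Finset.sum_const_zero, sub_zero]
      rw [Finset.univ_eq_attach, Finset.sum_attach c.support (fun i => c i • i)]
      exact hsum.symm
    rw [this]
    refine Submodule.sum_mem _ fun i _ => Submodule.smul_mem_smul (hc i.1) ?_
    rw [LinearMap.mem_ker, map_sub, map_sum, sub_eq_zero]
    simp only [map_smul, hx]
    exact hy i
  have h6 : ∀ k, LinearMap.ker f ≤ I ^ k • LinearMap.ker f := fun k => by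
    induction k with
    | zero => simp
    | succ k ih =>
      refine ih.trans ((Submodule.smul_mono le_rfl h5).trans ?_)
      rw [← Submodule.smul_assoc, smul_eq_mul, ← pow_succ]
  intro m hm
  have := h6 n (LinearMap.mem_ker.2 hm)
  rwa [hn, Ideal.zero_eq_bot, Submodule.bot_smul, Submodule.mem_bot] at this

end Groth.Agent.S16707
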