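import Groth.Statements.S16708
import Groth.Agent.HopfRep.Integral

set_option autoImplicit false
universe u
open HopfRep

namespace Groth.Agent.S16708

open TensorProduct

/-- Let G be a finite group and k a field in which the order of G is a nonzero element. Then the
constant group scheme of G over k is linearly reductive: every finite-dimensional comodule over its
coordinate Hopf algebra (the algebra of functions G → k with the Hopf structure of the constant
group) is semisimple, i.e. every subcomodule admits a complementary subcomodule. -/
theorem result (k : Type u) [Field k] (G : Type u) [Group G]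
    [Fintype G] [DecidableEq G] (hG : ((Fintype.card G : ℕ) : k) ≠ 0) :
    HopfRep.IsLinearlyReductive k (ConstGrp.F k G) := by
  rw [Groth.Agent.HopfRep.Integral.isLinearlyReductive_iff]
  let c : k := ((Fintype.card G : ℕ) : k)⁻¹
  let β : ConstGrp.F k G →ₗ[k] k := c • ∑ g : G, (ConstGrp.ev k g).toLinearMap
  have hβ : ∀ f, β f = c * ∑ g : G, f g := fun f => by simp [β, LinearMap.sum_apply]
  have he : ∀ g : G, β (ConstGrp.e k g) = c := fun g => by simp [hβ, ConstGrp.e_apply]
  refine ⟨β, fun f => ?_, ?_⟩
  · rw [ConstGrp.comul_eq_sum]
    simp only [map_sum, map_smul, Groth.Agent.HopfRep.Slice.contr_tmul, he]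
    ext x
    simp only [ConstGrp.sum_apply, ConstGrp.smul_apply, ConstGrp.one_apply, mul_one, hβ, ConstGrp.e_apply, mul_ite,
      mul_zero, Finset.sum_ite_irrel, Finset.sum_const_zero, Finset.sum_ite_eq, Finset.mem_univ, if_true,
      Finset.mul_sum]
    exact Fintype.sum_equiv (Equiv.mulLeft x) (fun y => f (x * y) * c) (fun i => c * f i) fun b => mul_comm _ _
  · simp [hβ, c, hG]

end Groth.Agent.S16708
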