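import Groth.Statements.S16717
import Groth.Agent.HopfRep.Integral

set_option autoImplicit false
universe u v
open HopfRep

namespace Groth.Agent.S16717

open TensorProduct in
/-- Equivalence of the exactness of invariants with complete reducibility of finite-dimensional
representations. Let k be a field and A a finitely generated commutative Hopf algebra over k (the
coordinate ring of an affine algebraic group G). Then every finite-dimensional A-comodule is
semisimple if and only if taking fixed vectors is exact, i.e. for every surjective comodule map φ :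
V → W between A-comodules (of any dimension; φ k-linear with (φ ⊗ id) ∘ ρ_V = ρ_W ∘ φ) every fixed
vector of W is the image of a fixed vector of V. -/
theorem result (k : Type u) [Field k] (A : Type v)
    [CommRing A] [HopfAlgebra k A] (hA : Algebra.FiniteType k A) :
    HopfRep.IsLinearlyReductive k A ↔
      ∀ (V W : Type v) [AddCommGroup V] [Module k V] [HopfRep.Comod k A V]
        [AddCommGroup W] [Module k W] [HopfRep.Comod k A W] (φ : V →ₗ[k] W),
        LinearMap.rTensor A φ ∘ₗ HopfRep.Comod.coact (k := k) (A := A) (V := V) =
            HopfRep.Comod.coact (k := k) (A := A) (V := W) ∘ₗ φ →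
          Function.Surjective φ →
            ∀ w ∈ HopfRep.fixedPts k A W, ∃ v ∈ HopfRep.fixedPts k A V, φ v = w := by
  refine ⟨fun h V W _ _ _ _ _ _ φ hφ hs w hw => ?_, fun h => ?_⟩
  · obtain ⟨β, hβ⟩ := Groth.Agent.HopfRep.Integral.exists_integral h
    exact Groth.Agent.HopfRep.Integral.exists_fixed_preimage hβ hφ.symm hw (hs w)
  · refine Groth.Agent.HopfRep.Integral.isLinearlyReductive_of_trivCrit
      (Groth.Agent.HopfRep.Corep.trivCrit_of_exists_fixedPt fun V _ _ _ _ π hπ hc => ?_)
    haveI : Nontrivial A := (Bialgebra.counitAlgHom k A).toRingHom.domain_nontrivial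
    haveI : Small.{v} k := small_of_injective (algebraMap k A).injective
    letI : HopfRep.Comod k A (Shrink.{v} k) := HopfRep.Comod.trivial k A _
    let e := (Shrink.linearEquiv.{v} k k).symm
    let φ : V →ₗ[k] Shrink.{v} k := e.toLinearMap ∘ₗ π
    obtain ⟨v, hv, hv1⟩ := h V (Shrink.{v} k) φ (by
      refine LinearMap.ext fun x => ?_
      have := LinearMap.congr_fun hc x
      simp only [LinearMap.comp_apply, LinearMap.flip_apply, TensorProduct.mk_apply] at this
      simp only [φ, LinearMap.rTensor_comp, LinearMap.comp_apply, this, LinearMap.rTensor_tmul]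
      rfl) (e.surjective.comp hπ) (e 1) rfl
    refine ⟨v, hv, fun h0 => ?_⟩
    have : π v = 1 := e.injective hv1
    exact one_ne_zero (this.symm.trans h0)

end Groth.Agent.S16717
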