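import Groth.Statements.S16737
import Mathlib

set_option autoImplicit false
set_option linter.style.haveILetI false
universe u v
open DeRham

namespace Groth.Agent.S16737

/-- The case of affine space over an affine base of characteristic p, in degree zero. Let p be a prime
and R a commutative ring with p = 0 in R. For a polynomial f over R in any set of variables t_i, the
Kähler differential df in Ω_{R[t]/R} vanishes if and only if f is a polynomial in the p-th powers of
the variables, f = g(t_i^p). Equivalently, the functions on affine space over R killed by the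
differential of the de Rham complex are exactly the functions on its Frobenius twist. (The published
computation is for finitely many variables over a noetherian base of characteristic p; the statement
here allows any commutative ring with p = 0 and any set of variables.) -/
theorem result (p : ℕ) [Fact p.Prime]
    (R : Type u) [CommRing R] [CharP R p] (σ : Type v) (f : MvPolynomial σ R) :
    KaehlerDifferential.D R (MvPolynomial σ R) f = 0 ↔
      ∃ g : MvPolynomial σ R, f = MvPolynomial.expand p g := by
  classical
  have hp : p ≠ 0 := (Fact.out : p.Prime).ne_zero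
  have hiff : KaehlerDifferential.D R (MvPolynomial σ R) f = 0 ↔ ∀ i, MvPolynomial.pderiv i f = 0 := by
    constructor
    · intro h i
      rw [← KaehlerDifferential.mvPolynomialBasis_repr_apply, h, map_zero, Finsupp.zero_apply]
    · intro h
      apply (KaehlerDifferential.mvPolynomialBasis R σ).repr.injective
      rw [map_zero]
      ext1 i
      rw [KaehlerDifferential.mvPolynomialBasis_repr_apply, h i, Finsupp.zero_apply]
  rw [hiff]
  constructor
  · intro h
    have h0 : ∀ (m : σ →₀ ℕ) (i : σ), ¬ p ∣ m i → f.coeff m = 0 := by
      intro m i hi
      have hpos : 1 ≤ m i := Nat.one_le_iff_ne_zero.mpr (fun h0 => hi (h0 ▸ dvd_zero p))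
      have hc : (MvPolynomial.pderiv i f).coeff (m - Finsupp.single i 1) = 0 := by rw [h i, MvPolynomial.coeff_zero]
      rw [MvPolynomial.coeff_pderiv, tsub_add_cancel_of_le (Finsupp.single_le_iff.mpr hpos)] at hc
      have hu : IsUnit ((m i : ℕ) : R) := by
        have := ((ZMod.isUnit_iff_coprime (m i) p).mpr (((Fact.out : p.Prime).coprime_iff_not_dvd.mpr hi).symm)).map (ZMod.castHom dvd_rfl R)
        rwa [map_natCast] at this
      have e : ((m - Finsupp.single i 1 : σ →₀ ℕ) i : R) + 1 = ((m i : ℕ) : R) := by
        rw [Finsupp.tsub_apply, Finsupp.single_eq_same, ← Nat.cast_add_one, Nat.sub_add_cancel hpos]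
      rw [e] at hc
      exact (IsUnit.mul_left_eq_zero hu).mp hc
    refine ⟨∑ m ∈ f.support, MvPolynomial.monomial (Finsupp.mapRange (fun k => k / p) (Nat.zero_div p) m) (f.coeff m), ?_⟩
    conv_lhs => rw [f.as_sum]
    rw [map_sum]
    refine Finset.sum_congr rfl fun m hm => ?_
    rw [MvPolynomial.expand_monomial]
    suffices e : p • Finsupp.mapRange (fun k => k / p) (Nat.zero_div p) m = m by rw [e]
    ext i
    rw [Finsupp.smul_apply, Finsupp.mapRange_apply, smul_eq_mul, Nat.mul_div_cancel']
    by_contra hi
    exact MvPolynomial.mem_support_iff.mp hm (h0 m i hi)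
  · rintro ⟨g, rfl⟩ i
    ext m
    rw [MvPolynomial.coeff_pderiv, MvPolynomial.coeff_zero]
    by_cases hi : p ∣ (m + Finsupp.single i 1 : σ →₀ ℕ) i
    · rw [Finsupp.add_apply, Finsupp.single_eq_same] at hi
      have : ((m i + 1 : ℕ) : R) = 0 := (CharP.cast_eq_zero_iff R p _).mpr hi
      push_cast at this
      rw [this, mul_zero]
    · rw [MvPolynomial.coeff_expand_of_not_dvd g hi, zero_mul]

end Groth.Agent.S16737
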