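import Groth.Statements.S16762
import Groth.Agent.ML.BaseChange

set_option autoImplicit false
universe u
open CAlgX

namespace Groth.Agent.S16762


open TensorProduct

/-- Let A → A' be faithfully flat and u : M → N a map of A-modules. Then u is universally injective (u ⊗
id_Q injective for every A-module Q) if and only if its base change A' ⊗_A M → A' ⊗_A N is
universally injective as a map of A'-modules. -/
theorem result (A A' : Type u) [CommRing A] [CommRing A']
    [Algebra A A'] [Module.FaithfullyFlat A A'] {M N : Type u} [AddCommGroup M] [Module A M]
    [AddCommGroup N] [Module A N] (u : M →ₗ[A] N) :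
    CAlgX.UniversallyInjective A u ↔ CAlgX.UniversallyInjective A' (u.baseChange A') := by
  have key : ∀ (Q : Type u) [AddCommGroup Q] [Module A' Q] [Module A Q] [IsScalarTower A A' Q] (z),
      Groth.Agent.ML.BaseChange.extendEquiv A' N Q ((u.baseChange A').rTensor Q z) =
        u.rTensor Q (Groth.Agent.ML.BaseChange.extendEquiv A' M Q z) := by
    intro Q _ _ _ _ z
    induction z using TensorProduct.induction_on with
    | zero => simp
    | add x y hx hy => simp [hx, hy]
    | tmul t q =>
      induction t using TensorProduct.induction_on with
      | zero => simp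
      | add x y hx hy => simp [TensorProduct.add_tmul] at hx hy ⊢; rw [hx, hy]
      | tmul s m => simp
  constructor
  · intro h Q _ _
    letI : Module A Q := Module.compHom Q (algebraMap A A')
    haveI : IsScalarTower A A' Q := .of_algebraMap_smul fun _ _ => rfl
    intro x y hxy
    apply (Groth.Agent.ML.BaseChange.extendEquiv A' M Q).injective
    apply h Q
    rw [← key, ← key, hxy]
  · intro h Q _ _
    have hmk : ∀ (X : Type u) [AddCommGroup X] [Module A X],
        Function.Injective ((TensorProduct.mk A A' Q 1).lTensor X) := by
      intro X _ _ x y hxy
      have h2 : ∀ z, TensorProduct.leftComm A X A' Q ((TensorProduct.mk A A' Q 1).lTensor X z) =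
          (1 : A') ⊗ₜ[A] z := fun z => by
        induction z using TensorProduct.induction_on with
        | zero => simp
        | add x y hx hy => simp [hx, hy, TensorProduct.tmul_add]
        | tmul a b => simp
      apply Module.FaithfullyFlat.tensorProduct_mk_injective (A := A) (B := A') (X ⊗[A] Q)
      show (1 : A') ⊗ₜ[A] x = (1 : A') ⊗ₜ[A] y
      rw [← h2, ← h2, hxy]
    have hinj : Function.Injective (u.rTensor (A' ⊗[A] Q)) := by
      intro x y hxy
      apply (Groth.Agent.ML.BaseChange.extendEquiv A' M (A' ⊗[A] Q)).symm.injective
      apply h (A' ⊗[A] Q)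
      apply (Groth.Agent.ML.BaseChange.extendEquiv A' N (A' ⊗[A] Q)).injective
      rw [key, key, AddEquiv.apply_symm_apply, AddEquiv.apply_symm_apply, hxy]
    intro x y hxy
    apply hmk M
    apply hinj
    simp only [← LinearMap.comp_apply, LinearMap.rTensor_comp_lTensor]
    simp only [← LinearMap.lTensor_comp_rTensor, LinearMap.comp_apply, hxy]

end Groth.Agent.S16762
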