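import Groth.Statements.S16763
import Groth.Agent.FibreDepth.UnramifiedFibre
import Groth.Agent.Flat.FibreAt
import Groth.Agent.Locus.EtaleCriterion

set_option autoImplicit false
set_option backward.isDefEq.respectTransparency false
set_option linter.style.haveILetI false
universe u
open Unram17

namespace Groth.Agent.S16763

open AlgebraicGeometry CategoryTheory CategoryTheory.Limits in
/-- Let g : Y → S and h : X → S be locally of finite presentation, f : X → Y an S-morphism (f ≫ g = h),
and x a point of X with image s = h(x) such that h is flat at x. Then f is smooth at x (smooth on an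
open neighbourhood of x) if and only if the induced morphism of fibres X_s → Y_s is smooth at the
point of X_s lying over x. -/
theorem result {X Y S : Scheme.{u}} (g : Y ⟶ S) (h : X ⟶ S)
    [LocallyOfFinitePresentation g] [LocallyOfFinitePresentation h] (f : X ⟶ Y) (w : f ≫ g = h)
    (x : ↥X) (hflat : (h.stalkMap x).hom.Flat)
    (x' : ↥(h.fiber (h x))) (hx' : (h.fiberι (h x)) x' = x) :
    (∃ U : X.Opens, x ∈ U ∧ Smooth (U.ι ≫ f)) ↔
      ∃ V : (h.fiber (h x)).Opens, x' ∈ V ∧ Smooth (V.ι ≫ CohIII.fiberMapOver f h g w (h x)) := by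
  subst w
  haveI : LocallyOfFinitePresentation f := Mor.Cancel.locallyOfFinitePresentation_of_comp f g
  have sq := Flat.FibreAt.isPullback_fiberMap f g ((f ≫ g) x)
  haveI : LocallyOfFinitePresentation (MoreMor.fiberMap f g ((f ≫ g) x)) := MorphismProperty.of_isPullback sq inferInstance
  have hfm : CohIII.fiberMapOver f (f ≫ g) g rfl ((f ≫ g) x) = MoreMor.fiberMap f g ((f ≫ g) x) := rfl
  obtain rfl : x' = (f ≫ g).asFiber x := ((f ≫ g).fiberι _).isEmbedding.injective
    (hx'.trans ((f ≫ g).fiberι_asFiber x).symm)
  rw [hfm, Locus.Basic.exists_smooth_nhd_iff, Locus.Basic.exists_smooth_nhd_iff]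
  constructor
  · intro hx
    exact Locus.BaseChange.mem_smoothLocus_forward sq (hx'.symm ▸ hx)
  · intro hx
    haveI : LocallyOfFinitePresentation (MoreMor.fiberMap f g (g (f x))) := ‹LocallyOfFinitePresentation (MoreMor.fiberMap f g ((f ≫ g) x))›
    have hf : (f.stalkMap x).hom.Flat :=
      Flat.FibreAt.flat_stalkMap_of_fibre f g x hflat (Locus.EtaleCriterion.flat_stalkMap_of_mem_smoothLocus _ hx)
    have h2 := Locus.BaseChange.mem_smoothLocus_of_flat_stalkMap sq (x' := (f ≫ g).asFiber x) (hx'.symm ▸ hf) hx
    exact hx' ▸ h2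

end Groth.Agent.S16763
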