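import Groth.Statements.S16765
import Groth.Agent.FibreDepth.UnramifiedFibre
import Groth.Agent.Mor.Cancel

set_option autoImplicit false
set_option backward.isDefEq.respectTransparency false
set_option linter.style.haveILetI false
universe u
open Unram17

namespace Groth.Agent.S16765

open AlgebraicGeometry CategoryTheory CategoryTheory.Limits in
/-- Let g : Y → S and h : X → S be locally of finite presentation, f : X → Y an S-morphism (f ≫ g = h;
in particular f is locally of finite presentation, so unramified amounts to formally unramified),
and x a point of X with image s = h(x). Then f is unramified at x (formally unramified on an open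
neighbourhood of x) if and only if the induced morphism of fibres X_s → Y_s is unramified at the
point of X_s lying over x. No flatness is needed. -/
theorem result {X Y S : Scheme.{u}} (g : Y ⟶ S) (h : X ⟶ S)
    [LocallyOfFinitePresentation g] [LocallyOfFinitePresentation h] (f : X ⟶ Y) (w : f ≫ g = h)
    (x : ↥X)
    (x' : ↥(h.fiber (h x))) (hx' : (h.fiberι (h x)) x' = x) :
    (∃ U : X.Opens, x ∈ U ∧ FormallyUnramified (U.ι ≫ f)) ↔
      ∃ V : (h.fiber (h x)).Opens, x' ∈ V ∧ FormallyUnramified (V.ι ≫ CohIII.fiberMapOver f h g w (h x)) := by
  haveI : LocallyOfFinitePresentation (f ≫ g) := by rw [w]; infer_instance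
  haveI : LocallyOfFinitePresentation f := Mor.Cancel.locallyOfFinitePresentation_of_comp f g
  have hm₁ : CohIII.fiberMapOver f h g w (h x) ≫ g.fiberι (h x) = h.fiberι (h x) ≫ f := pullback.lift_fst _ _ _
  have sq : IsPullback (h.fiberι (h x)) (CohIII.fiberMapOver f h g w (h x)) f (g.fiberι (h x)) := by
    refine IsPullback.of_bot (v₂₁ := g.fiberToSpecResidueField (h x)) (v₂₂ := g) (h₃₁ := S.fromSpecResidueField (h x)) ?_
      hm₁.symm (IsPullback.of_hasPullback _ _)
    have e : CohIII.fiberMapOver f h g w (h x) ≫ g.fiberToSpecResidueField (h x) = h.fiberToSpecResidueField (h x) :=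
      (pullback.lift_snd _ _ _).trans (Category.comp_id _)
    rw [e, w]
    exact IsPullback.of_hasPullback _ _
  haveI : LocallyOfFiniteType (CohIII.fiberMapOver f h g w (h x)) := MorphismProperty.of_isPullback sq inferInstance
  rw [Locus.Basic.exists_formallyUnramified_nhd_iff f x,
    Locus.Basic.exists_formallyUnramified_nhd_iff (CohIII.fiberMapOver f h g w (h x)) x']
  have key : FibreDepth.UnramifiedFibre.Un (CohIII.fiberMapOver f h g w (h x)) x' ↔
      FibreDepth.UnramifiedFibre.Un f ((h.fiberι (h x)) x') := FibreDepth.UnramifiedFibre.bc sq x'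
  rw [hx'] at key
  exact key.symm

end Groth.Agent.S16765
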