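import Groth.Statements.S16771
import Groth.Agent.HopfRep.WeilClosedOver

set_option autoImplicit false
open CategoryTheory MonoidalCategory CartesianMonoidalCategory MonObj GrpObj AlgebraicGeometry
universe u
open SGA3x

namespace Groth.Agent.S16771

/-- Let G be an affine group scheme of finite presentation over a scheme S, Y ⊆ G a closed subscheme
which is finite, flat and of finite presentation over S, and Y' ⊆ G a closed subscheme of finite
presentation over S. Then the transporter of Y into Y' (points g of G such that g y g⁻¹ is a point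
of Y' for every point y of Y after any base change) is representable by a closed subscheme of G of
finite presentation over S. -/
theorem result {S : Scheme.{u}} (G Y Y' : Over S) [GrpObj G]
    (hGa : IsAffineHom G.hom) (hGfp : LocallyOfFinitePresentation G.hom)
    (y : Y ⟶ G) (hy : IsClosedImmersion y.left) (hYf : IsFinite Y.hom) (hYfl : Flat Y.hom)
    (hYfp : LocallyOfFinitePresentation Y.hom)
    (y' : Y' ⟶ G) (hy' : IsClosedImmersion y'.left) (hY'fp : LocallyOfFinitePresentation Y'.hom) :
    ∃ (C : Over S) (c : C ⟶ G), IsClosedImmersion c.left ∧ LocallyOfFinitePresentation C.hom ∧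
      ∀ (X : Over S) (g : X ⟶ G), (∃ z : X ⟶ C, z ≫ c = g) ↔
        ∀ (X' : Over S) (x : X' ⟶ X) (a : X' ⟶ Y), ∃ a' : X' ⟶ Y', (x ≫ g) * (a ≫ y) * (x ≫ g)⁻¹ = a' ≫ y' := by
  have := hy'
  have := hYf
  have := hYfl
  have := hYfp
  have := hGa
  have := hGfp
  let c := CartesianMonoidalCategory.fst G Y * (CartesianMonoidalCategory.snd G Y ≫ y) * (CartesianMonoidalCategory.fst G Y)⁻¹
  let j₀ := Limits.pullback.fst c.left y'.left
  let j : Over.mk (j₀ ≫ (G ⊗ Y).hom) ⟶ G ⊗ Y := Over.homMk j₀
  have : IsClosedImmersion j.left := inferInstanceAs (IsClosedImmersion (Limits.pullback.fst c.left y'.left))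
  have hy'fp : LocallyOfFinitePresentation y'.left := by
    have : LocallyOfFinitePresentation (y'.left ≫ G.hom) := by rw [Over.w]; exact hY'fp
    exact Mor.Cancel.locallyOfFinitePresentation_of_comp y'.left G.hom
  obtain ⟨Z, z, hz, h, hfp⟩ := HopfRep.WeilClosed.exists_closed_over' (HopfRep.WeilClosed.locFree_of_finite_flat Y) j
  refine ⟨Z, z, hz, ?_, fun X g => (h X g).trans ?_⟩
  · have := hfp inferInstance (inferInstanceAs (LocallyOfFinitePresentation (Limits.pullback.fst c.left y'.left)))
    rw [← Over.w z]
    infer_instance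
  · refine forall_congr' fun X' => forall_congr' fun x => forall_congr' fun a => ?_
    have hc : CartesianMonoidalCategory.lift (x ≫ g) a ≫ c = (x ≫ g) * (a ≫ y) * (x ≫ g)⁻¹ := by
      simp only [c, MonObj.comp_mul, GrpObj.comp_inv, CartesianMonoidalCategory.lift_fst, CartesianMonoidalCategory.lift_snd_assoc]
    rw [← hc]
    constructor
    · rintro ⟨e, he⟩
      refine ⟨Over.homMk (e.left ≫ Limits.pullback.snd c.left y'.left) ?_, ?_⟩
      · rw [Category.assoc, ← Over.w y', ← Category.assoc (Limits.pullback.snd c.left y'.left), ← Limits.pullback.condition,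
          Category.assoc, Over.w c]
        exact Over.w e
      · rw [← he]
        apply Over.OverMorphism.ext
        show (e.left ≫ j₀) ≫ c.left = (e.left ≫ Limits.pullback.snd c.left y'.left) ≫ y'.left
        rw [Category.assoc, Category.assoc, Limits.pullback.condition]
    · rintro ⟨x', hx'⟩
      refine ⟨Over.homMk (Limits.pullback.lift (CartesianMonoidalCategory.lift (x ≫ g) a).left x'.left
        (by rw [← Over.comp_left, hx', Over.comp_left])) ?_, Over.OverMorphism.ext (Limits.pullback.lift_fst _ _ _)⟩
      show Limits.pullback.lift _ _ _ ≫ j₀ ≫ (G ⊗ Y).hom = X'.hom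
      rw [Limits.pullback.lift_fst_assoc, Over.w]

end Groth.Agent.S16771
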