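import Groth.Statements.S1680
import Groth.Agent.Flat.CartierFibre

set_option autoImplicit false
universe u
open CategoryTheory CategoryTheory.Limits AlgebraicGeometry TopologicalSpace
open SDiv

namespace Groth.Agent.S1680

open TensorProduct in
theorem nzd_of_flat {A B : Type u} [CommRing A] [CommRing B] [Algebra A B] [Module.Flat A B] {f : A}
    (hf : f ∈ nonZeroDivisors A) : algebraMap A B f ∈ nonZeroDivisors B := by
  rw [mem_nonZeroDivisors_iff_right]
  intro x hx
  have h0 : x ⊗ₜ[A] (1 : A) = 0 := by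
    refine Module.Flat.lTensor_preserves_injective_linearMap (LinearMap.mulLeft A f)
      (fun a b h => (mul_cancel_left_mem_nonZeroDivisors hf).mp h) ?_
    rw [map_zero, LinearMap.lTensor_tmul, LinearMap.mulLeft_apply, mul_one, ← mul_one f,
      ← smul_eq_mul, ← TensorProduct.smul_tmul, Algebra.smul_def, mul_comm, hx, TensorProduct.zero_tmul]
  simpa using congrArg (TensorProduct.rid A B) h0

theorem isEffCartier_comap {X Y : Scheme.{u}} (t : X ⟶ Y) [Flat t] (J : Y.IdealSheafData)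
    (hJ : BlowUp.IsEffCartierIdeal J) : BlowUp.IsEffCartierIdeal (J.comap t) := by
  intro x
  obtain ⟨U, hxU, f, hf, hU⟩ := hJ (t.base x)
  obtain ⟨_, ⟨V, hV, rfl⟩, hxV, hVU⟩ := X.isBasis_affineOpens.exists_subset_of_mem_open
    (show x ∈ t ⁻¹ᵁ U.1 from hxU) (t ⁻¹ᵁ U.1).isOpen
  refine ⟨⟨V, hV⟩, hxV, t.appLE U.1 V hVU f, ?_, ?_⟩
  · have hfl : (t.appLE U.1 V hVU).hom.Flat := HasRingHomProperty.appLE @Flat t inferInstance U ⟨V, hV⟩ hVU
    algebraize [(t.appLE U.1 V hVU).hom]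
    exact nzd_of_flat hf
  · rw [Groth.Agent.Flat.CartierFibre.ideal_comap J t U ⟨V, hV⟩ hVU, hU, Ideal.map_span, Set.image_singleton]

/-- Let g : X₁ ⟶ X₂ be a flat morphism, 𝓘 a quasi-coherent ideal sheaf on X₂ and b : X₂' ⟶ X₂ a
blowing-up of X₂ along 𝓘. Then the base change X₁ ×_{X₂} X₂' ⟶ X₁ is a blowing-up of X₁ along the
inverse image ideal of 𝓘. -/
theorem result {X₁ X₂ X₂' : Scheme.{u}} (g : X₁ ⟶ X₂) [Flat g] (𝓘 : X₂.IdealSheafData) (b : X₂' ⟶ X₂)
    (hb : BlowUp.IsBlowUp b 𝓘) : BlowUp.IsBlowUp (pullback.fst g b) (𝓘.comap g) := by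
  refine ⟨?_, fun Y h hY => ?_⟩
  · rw [← Scheme.IdealSheafData.comap_comp, pullback.condition, Scheme.IdealSheafData.comap_comp]
    exact isEffCartier_comap (pullback.snd g b) _ hb.1
  · rw [← Scheme.IdealSheafData.comap_comp] at hY
    obtain ⟨k, hk, huniq⟩ := hb.2 Y (h ≫ g) hY
    refine ⟨pullback.lift h k hk.symm, pullback.lift_fst _ _ _, fun l hl => ?_⟩
    apply pullback.hom_ext
    · rw [pullback.lift_fst]; exact hl
    · rw [pullback.lift_snd]
      exact huniq _ (show (l ≫ pullback.snd g b) ≫ b = h ≫ g by rw [Category.assoc, ← pullback.condition, reassoc_of% hl])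

end Groth.Agent.S1680
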