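import Groth.Statements.S16801
import Groth.Agent.HopfRep.FiniteGen

set_option autoImplicit false
universe u
open LunaSt

namespace Groth.Agent.S16801

/-- Let `k` be a field and `H` a commutative Hopf algebra of finite type over `k` all of whose
finite-dimensional comodules are semisimple (a linearly reductive affine group `G = Spec H` of
finite type). Let `A` be a Noetherian commutative `k`-algebra with a coaction of `H` that is an
algebra map (an action of `G` on `Spec A`), and `C` a commutative `A`-algebra of finite type with a
coaction of `H` that is an algebra map, such that the structure map `A → C` is a comodule map (a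
finitely generated `G`-equivariant quasi-coherent algebra on `Spec A`). Then the invariants `C^G`
form a finitely generated algebra over `A^G`: there is a finite subset `s` of `C` such that `C^G` is
the `k`-subalgebra generated by the image of `A^G` and `s`. (The published statement is that for a
Noetherian algebraic stack with a good moduli space `π`, pushforward along `π` preserves finitely
generated algebras; this row is its case `[Spec A/G] → Spec A^G`, for which the pushforward of the
algebra given by `C` has global sections `C^G`. All of `k`, `H`, `A`, `C` are taken in one
universe.) -/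
theorem result
    (k : Type u) [Field k] (H : Type u) [CommRing H] [HopfAlgebra k H] [Algebra.FiniteType k H]
    (hG : HopfRep.IsLinearlyReductive k H)
    (A : Type u) [CommRing A] [Algebra k A] [IsNoetherianRing A]
    [HopfRep.Comod k H A] [GLin.IsCoactAlg k H A]
    (C : Type u) [CommRing C] [Algebra k C] [HopfRep.Comod k H C] [GLin.IsCoactAlg k H C]
    [Algebra A C] [IsScalarTower k A C] [Algebra.FiniteType A C]
    (hAC : Hoch.IsComodHom H (IsScalarTower.toAlgHom k A C).toLinearMap) :
    ∃ s : Finset C, GLin.invariants k H C =
      Algebra.adjoin k (⇑(algebraMap A C) '' ↑(GLin.invariants k H A) ∪ ↑s) := by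
  classical
  obtain ⟨β, hβ⟩ := Groth.Agent.HopfRep.Integral.exists_integral hG
  obtain ⟨s₀, hs₀⟩ := (inferInstance : Algebra.FiniteType A C).out
  obtain ⟨s, -, hs⟩ := Groth.Agent.HopfRep.FiniteGen.exists_generators hβ (IsScalarTower.toAlgHom k A C) hAC s₀ (by
    rw [eq_top_iff]
    intro x _
    have hx : x ∈ Algebra.adjoin A (↑s₀ : Set C) := hs₀ ▸ Algebra.mem_top
    induction hx using Algebra.adjoin_induction with
    | mem x hx => exact Algebra.subset_adjoin (Or.inr hx)
    | algebraMap r => exact Algebra.subset_adjoin (Or.inl ⟨r, rfl⟩)
    | add x y _ _ hx hy => exact Subalgebra.add_mem _ (hx Algebra.mem_top) (hy Algebra.mem_top)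
    | mul x y _ _ hx hy => exact Subalgebra.mul_mem _ (hx Algebra.mem_top) (hy Algebra.mem_top))
  exact ⟨s, hs⟩

end Groth.Agent.S16801
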