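import Groth.Statements.S1682
import Mathlib.AlgebraicGeometry.IdealSheaf.Functorial
import Mathlib.AlgebraicGeometry.Restrict

set_option autoImplicit false
universe u
open CategoryTheory CategoryTheory.Limits AlgebraicGeometry TopologicalSpace
open SDiv

namespace Groth.Agent.S1682

/-- Let b : X' ⟶ X be a blowing-up of X along the quasi-coherent ideal sheaf 𝓘, with centre Z = support
of 𝓘. Then b restricted over the open complement of Z is an isomorphism. -/
theorem result {X X' : Scheme.{u}} (𝓘 : X.IdealSheafData) (b : X' ⟶ X) (hb : BlowUp.IsBlowUp b 𝓘) :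
    IsIso (b ∣_ 𝓘.support.compl) := by
  let U : X.Opens := 𝓘.support.compl
  have hcart : ∀ {Y : Scheme.{u}} (g : Y ⟶ X), Set.range g.base ⊆ (U : Set X) →
      BlowUp.IsEffCartierIdeal (𝓘.comap g) := fun {Y} g hg y => by
    have htop : 𝓘.comap g = ⊤ := (Scheme.IdealSheafData.support_eq_bot_iff _).mp (by
      rw [Scheme.IdealSheafData.support_comap]
      exact TopologicalSpace.Closeds.ext (Set.eq_empty_of_forall_notMem fun z hz => hg ⟨z, rfl⟩ hz))
    obtain ⟨_, ⟨V, hV, rfl⟩, hy, -⟩ := Y.isBasis_affineOpens.exists_subset_of_mem_open (Set.mem_univ y) isOpen_univ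
    exact ⟨⟨V, hV⟩, hy, 1, one_mem _, by rw [htop, Ideal.span_singleton_one]; rfl⟩
  obtain ⟨s, hs, -⟩ := hb.2 _ U.ι (hcart U.ι (Scheme.Opens.range_ι U).subset)
  have hr : Set.range s.base ⊆ Set.range (b ⁻¹ᵁ U).ι.base := by
    rw [Scheme.Opens.range_ι]
    rintro _ ⟨z, rfl⟩
    change b.base (s.base z) ∈ U
    rw [← Scheme.Hom.comp_apply, hs]
    exact z.2
  let inv := IsOpenImmersion.lift (b ⁻¹ᵁ U).ι s hr
  refine ⟨inv, ?_, ?_⟩
  · rw [← cancel_mono (b ⁻¹ᵁ U).ι, Category.assoc, IsOpenImmersion.lift_fac, Category.id_comp]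
    refine (hb.2 _ ((b ⁻¹ᵁ U).ι ≫ b) (hcart _ ?_)).unique ?_ rfl
    · rintro _ ⟨z, rfl⟩
      exact z.2
    · rw [Category.assoc, hs, morphismRestrict_ι]
  · rw [← cancel_mono U.ι, Category.assoc, morphismRestrict_ι, IsOpenImmersion.lift_fac_assoc, hs, Category.id_comp]

end Groth.Agent.S1682
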