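import Groth.Statements.S1681
import Groth.Agent.BlowUpEC.Basic
import Groth.Agent.S1682

set_option autoImplicit false
universe u
open CategoryTheory CategoryTheory.Limits AlgebraicGeometry TopologicalSpace
open SDiv

namespace Groth.Agent.S1681

/-- Let b : X' ⟶ X be a blowing-up of X along the quasi-coherent ideal sheaf 𝓘. Then b restricts to a
bijection from the maximal points of X' (points with no proper generization) onto the maximal points
of X not lying in the support of 𝓘. -/
theorem result {X X' : Scheme.{u}} (𝓘 : X.IdealSheafData) (b : X' ⟶ X) (hb : BlowUp.IsBlowUp b 𝓘) :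
    Set.BijOn (fun x' => b x') {x' : ↥X' | ∀ y : ↥X', y ⤳ x' → y = x'}
      {x : ↥X | (∀ y : ↥X, y ⤳ x → y = x) ∧ x ∉ 𝓘.support} := by
  have hiso := Groth.Agent.S1682.result 𝓘 b hb
  let U : X.Opens := 𝓘.support.compl
  let r := b ∣_ U
  have hh := r.homeomorph
  have hr : ∀ z, U.ι (r z) = b ((b ⁻¹ᵁ U).ι z) := fun z => by
    rw [← Scheme.Hom.comp_apply, ← Scheme.Hom.comp_apply, morphismRestrict_ι]
  refine ⟨fun x hx => ?_, fun x hx y hy hxy => ?_, fun x hx => ?_⟩
  · have hout : b x ∈ U := by
      have := Groth.Agent.BlowUpEC.not_mem_support_of_generic hb.1 hx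
      rw [Scheme.IdealSheafData.support_comap] at this
      exact this
    refine ⟨fun y hy => ?_, hout⟩
    have hyU : y ∈ U := hy.mem_open U.isOpen hout
    obtain ⟨z, hz⟩ := r.homeomorph.surjective ⟨y, hyU⟩
    have hz' : b z.1 = y := (hr z).symm.trans (congrArg Subtype.val hz)
    have : z ⤳ (⟨x, hout⟩ : (b ⁻¹ᵁ U : X'.Opens)) := by
      rw [← r.isOpenEmbedding.isInducing.specializes_iff, ← U.ι.isOpenEmbedding.isInducing.specializes_iff,
        hr, hr]
      exact hz' ▸ hy
    have h2 := hx z.1 (this.map continuous_subtype_val)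
    rw [← hz', h2]
  · have hxU : b x ∈ U := by
      have := Groth.Agent.BlowUpEC.not_mem_support_of_generic hb.1 hx
      rw [Scheme.IdealSheafData.support_comap] at this
      exact this
    have hyU : b y ∈ U := by
      change b x = b y at hxy
      rw [← hxy]; exact hxU
    have : r ⟨x, hxU⟩ = r ⟨y, hyU⟩ := U.ι.isOpenEmbedding.injective (by rw [hr, hr]; exact hxy)
    exact congrArg Subtype.val (r.homeomorph.injective this)
  · obtain ⟨hgen, hout⟩ := hx
    obtain ⟨z, hz⟩ := r.homeomorph.surjective ⟨x, hout⟩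
    have hz' : b z.1 = x := (hr z).symm.trans (congrArg Subtype.val hz)
    refine ⟨z.1, fun y hy => ?_, hz'⟩
    have h1 : b y = x := hgen _ (hz' ▸ hy.map b.continuous)
    have hyU : b y ∈ U := h1 ▸ hout
    have : r ⟨y, hyU⟩ = r z := U.ι.isOpenEmbedding.injective (by rw [hr, hr]; exact h1.trans hz'.symm)
    exact congrArg Subtype.val (r.homeomorph.injective this)

end Groth.Agent.S1681
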