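import Groth.Statements.S1683
import Groth.Agent.BlowUpEC.Relative
import Groth.Agent.S1682
import Groth.Agent.S1680

set_option autoImplicit false
universe u
open CategoryTheory CategoryTheory.Limits AlgebraicGeometry TopologicalSpace
open SDiv

namespace Groth.Agent.S1683

/-- A nonzerodivisor on an affine open restricts to a nonzerodivisor on any smaller affine open. -/
theorem nzd_restrict {X : Scheme.{u}} (U W : X.affineOpens) (h : W.1 ≤ U.1) {f : Γ(X, U.1)}
    (hf : f ∈ nonZeroDivisors Γ(X, U.1)) :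
    X.presheaf.map (homOfLE h).op f ∈ nonZeroDivisors Γ(X, W.1) := by
  have hfl : ((𝟙 X : X ⟶ X).appLE U.1 W.1 h).hom.Flat :=
    HasRingHomProperty.appLE @Flat (𝟙 X) inferInstance U W h
  have he : (𝟙 X : X ⟶ X).appLE U.1 W.1 h = X.presheaf.map (homOfLE h).op := by
    simp [Scheme.Hom.appLE]; exact Category.id_comp _
  rw [he] at hfl
  algebraize [(X.presheaf.map (homOfLE h).op).hom]
  have h1 : IsSMulRegular Γ(X, U.1) f := fun a b h => (mul_cancel_left_mem_nonZeroDivisors hf).mp h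
  have h2 : IsSMulRegular Γ(X, W.1) (algebraMap Γ(X, U.1) Γ(X, W.1) f) := IsSMulRegular.of_flat h1
  rw [mem_nonZeroDivisors_iff_right]
  intro y hy
  refine h2 (a₁ := y) (a₂ := 0) ?_
  simp only [smul_eq_mul, mul_zero]
  rw [mul_comm]
  exact hy

/-- The factors of an invertible product of ideals are invertible. -/
theorem effCartier_left_of_mul {X : Scheme.{u}} (I J : X.IdealSheafData)
    (h : BlowUp.IsEffCartierIdeal (I * J)) : BlowUp.IsEffCartierIdeal I := by
  intro x
  obtain ⟨W, hxW, g, hg, hW⟩ := h x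
  rw [Scheme.IdealSheafData.ideal_mul, Pi.mul_apply] at hW
  -- some product of generators is `g` times an element not vanishing at `x`
  obtain ⟨a, ha, b, hb, c, hc, hxc⟩ : ∃ a ∈ I.ideal W, ∃ b ∈ J.ideal W, ∃ c, a * b = c * g ∧
      x ∈ X.basicOpen c := by
    by_contra hne
    push Not at hne
    let p := W.2.primeIdealOf ⟨x, hxW⟩
    have hle : I.ideal W * J.ideal W ≤ p.asIdeal * Ideal.span {g} := by
      refine Ideal.mul_le.mpr fun a ha b hb => ?_
      have hm : a * b ∈ Ideal.span {g} := hW ▸ Ideal.mul_mem_mul ha hb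
      obtain ⟨c, hc⟩ := Ideal.mem_span_singleton'.mp hm
      rw [← hc]
      refine Ideal.mul_mem_mul ?_ (Ideal.mem_span_singleton_self g)
      by_contra hcp
      apply hne a ha b hb c hc.symm
      have : p ∈ W.2.fromSpec ⁻¹ᵁ X.basicOpen c := by rw [W.2.fromSpec_preimage_basicOpen]; exact hcp
      have h2 : W.2.fromSpec p ∈ X.basicOpen c := this
      rwa [W.2.fromSpec_primeIdealOf] at h2
    rw [hW] at hle
    obtain ⟨c, hcp, hc⟩ := Ideal.mem_mul_span_singleton.mp (hle (Ideal.mem_span_singleton_self g))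
    have : c = 1 := (mul_cancel_right_mem_nonZeroDivisors hg).mp (by rw [hc, one_mul])
    exact p.isPrime.ne_top ((Ideal.eq_top_iff_one _).mpr (this ▸ hcp))
  let V : X.affineOpens := ⟨X.basicOpen c, W.2.basicOpen c⟩
  have hVW : V.1 ≤ W.1 := X.basicOpen_le c
  let r := (X.presheaf.map (homOfLE hVW).op).hom
  have := W.2.isLocalization_basicOpen c
  have hu : IsUnit (r c) := IsLocalization.map_units (M := Submonoid.powers c) _ ⟨c, 1, pow_one c⟩
  refine ⟨V, hxc, r a, ?_, ?_⟩
  · have hab : r a * r b ∈ nonZeroDivisors _ := by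
      rw [← map_mul, hc, map_mul]
      exact mul_mem hu.mem_nonZeroDivisors (nzd_restrict W V hVW hg)
    exact (mul_mem_nonZeroDivisors.mp hab).1
  · refine le_antisymm ?_ ?_
    · rw [← I.map_ideal (U := V) (V := W) hVW]
      refine Ideal.map_le_iff_le_comap.mpr fun y hy => ?_
      have hm : y * b ∈ Ideal.span {g} := hW ▸ Ideal.mul_mem_mul hy hb
      obtain ⟨d, hd⟩ := Ideal.mem_span_singleton'.mp hm
      have h1 : y * c = d * a := (mul_cancel_right_mem_nonZeroDivisors hg).mp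
        (by linear_combination -y * hc - a * hd)
      show r y ∈ Ideal.span {r a}
      have h2 : r y * r c = r d * r a := by rw [← map_mul, h1, map_mul]
      exact (Ideal.mul_unit_mem_iff_mem _ hu).mp (h2 ▸ Ideal.mul_mem_left _ _ (Ideal.mem_span_singleton_self _))
    · rw [Ideal.span_singleton_le_iff_mem, ← I.map_ideal (U := V) (V := W) hVW]
      exact Ideal.mem_map_of_mem r ha

theorem comap_mul {X Y : Scheme.{u}} (f : X ⟶ Y) (I J : Y.IdealSheafData) :
    (I * J).comap f = I.comap f * J.comap f := by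
  choose U hU using fun x : X => show ∃ U : Y.affineOpens, f x ∈ U.1 by
    obtain ⟨_, ⟨U, hU, rfl⟩, hxU, -⟩ := Y.isBasis_affineOpens.exists_subset_of_mem_open
      (Set.mem_univ (f x)) isOpen_univ
    exact ⟨⟨U, hU⟩, hxU⟩
  choose V hV hxV hVU using fun x : X => show ∃ V : X.Opens, IsAffineOpen V ∧ x ∈ V ∧ V ≤ f ⁻¹ᵁ (U x).1 by
    obtain ⟨_, ⟨V, hV, rfl⟩, hxV, hVU⟩ := X.isBasis_affineOpens.exists_subset_of_mem_open
      (show x ∈ f ⁻¹ᵁ (U x).1 from hU x) (f ⁻¹ᵁ (U x).1).isOpen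
    exact ⟨V, hV, hxV, hVU⟩
  refine Scheme.IdealSheafData.ext_of_iSup_eq_top (fun x : X => (⟨V x, hV x⟩ : X.affineOpens))
    (top_le_iff.mp fun x _ => Opens.mem_iSup.mpr ⟨x, hxV x⟩) fun x => ?_
  simp only [Scheme.IdealSheafData.ideal_mul, Pi.mul_apply,
    Groth.Agent.Flat.CartierFibre.ideal_comap _ f (U x) ⟨V x, hV x⟩ (hVU x), Ideal.map_mul]

/-- A locally principal ideal which is invertible on a schematically dense open is invertible. -/
theorem effCartier_comap_of_dominant {Z X' X : Scheme.{u}} (j : Z ⟶ X') [QuasiCompact j]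
    [IsSchemeTheoreticallyDominant j] (b : X' ⟶ X) (K : X.IdealSheafData)
    (hK : BlowUp.IsEffCartierIdeal K) (h : BlowUp.IsEffCartierIdeal ((K.comap b).comap j)) :
    BlowUp.IsEffCartierIdeal (K.comap b) := by
  intro x
  obtain ⟨U, hxU, f, -, hU⟩ := hK (b x)
  obtain ⟨_, ⟨V, hV, rfl⟩, hxV, hVU⟩ := X'.isBasis_affineOpens.exists_subset_of_mem_open
    (show x ∈ b ⁻¹ᵁ U.1 from hxU) (b ⁻¹ᵁ U.1).isOpen
  let g := (b.appLE U.1 V hVU).hom f
  have hid : (K.comap b).ideal ⟨V, hV⟩ = Ideal.span {g} := by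
    rw [Groth.Agent.Flat.CartierFibre.ideal_comap K b U ⟨V, hV⟩ hVU, hU, Ideal.map_span,
      Set.image_singleton]
  refine ⟨⟨V, hV⟩, hxV, g, ?_, hid⟩
  rw [mem_nonZeroDivisors_iff_right]
  intro y hy
  apply j.app_injective V
  rw [map_zero]
  refine Z.IsSheaf.section_ext fun z hz => ?_
  obtain ⟨W, hzW, hWV, e, he, hWe⟩ := Groth.Agent.BlowUpEC.exists_chart h z (j ⁻¹ᵁ V) hz
  refine ⟨W.1, hWV, hzW, ?_⟩
  let q := (j.appLE V W.1 hWV).hom
  have hspan : Ideal.span {q g} = Ideal.span {e} := by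
    rw [← hWe, Groth.Agent.Flat.CartierFibre.ideal_comap (K.comap b) j ⟨V, hV⟩ W hWV, hid,
      Ideal.map_span, Set.image_singleton]
  obtain ⟨c, hc⟩ := Ideal.mem_span_singleton'.mp (hspan ▸ Ideal.mem_span_singleton_self e)
  have h0 : q y * q g = 0 := by rw [← map_mul, hy, map_zero]
  have h1 : q y * e = 0 := by rw [← hc]; linear_combination c * h0
  have h2 : q y = 0 := (mul_right_mem_nonZeroDivisors_eq_zero_iff he).mp h1
  rw [map_zero]
  exact h2


/-- Let 𝓘, 𝓙 be quasi-coherent ideal sheaves on X, b : X' ⟶ X a blowing-up along 𝓘 and b' : X'' ⟶ X' a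
blowing-up along the inverse image ideal of 𝓙. Then b' ≫ b : X'' ⟶ X is a blowing-up of X along the
product ideal 𝓘𝓙. -/
theorem result {X X' X'' : Scheme.{u}} (𝓘 𝓙 : X.IdealSheafData) (b : X' ⟶ X) (hb : BlowUp.IsBlowUp b 𝓘)
    (b' : X'' ⟶ X') (hb' : BlowUp.IsBlowUp b' (𝓙.comap b)) : BlowUp.IsBlowUp (b' ≫ b) (𝓘 * 𝓙) := by
  have hIJ : (𝓘 * 𝓙).comap (b' ≫ b) = (𝓘.comap b).comap b' * (𝓙.comap b).comap b' := by
    rw [comap_mul, Scheme.IdealSheafData.comap_comp, Scheme.IdealSheafData.comap_comp]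
  refine ⟨?_, fun Y g hY => ?_⟩
  · rw [hIJ]
    refine Groth.Agent.BlowUpEC.effCartier_mul _ _ ?_ hb'.1
    let W : X''.Opens := b' ⁻¹ᵁ (𝓙.comap b).support.compl
    have hW : W = ((𝓙.comap b).comap b').support.compl := by
      simp only [W]
      conv_rhs => rw [Scheme.IdealSheafData.support_comap]
      rfl
    have hdom := Groth.Agent.BlowUpEC.dominant_compl hb'.1
    have haff := Groth.Agent.BlowUpEC.isAffineHom_compl hb'.1
    rw [← hW] at hdom haff
    have := Groth.Agent.S1682.result (𝓙.comap b) b' hb'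
    have hfl : Flat (W.ι ≫ b') := by rw [← morphismRestrict_ι]; infer_instance
    refine effCartier_comap_of_dominant W.ι b' _ hb.1 ?_
    rw [← Scheme.IdealSheafData.comap_comp]
    exact Groth.Agent.S1680.isEffCartier_comap _ _ hb.1
  · rw [comap_mul] at hY
    obtain ⟨h, hh, huniq⟩ := hb.2 Y g (effCartier_left_of_mul _ _ hY)
    rw [mul_comm] at hY
    have hJ : BlowUp.IsEffCartierIdeal ((𝓙.comap b).comap h) := by
      rw [← Scheme.IdealSheafData.comap_comp, hh]
      exact effCartier_left_of_mul _ _ hY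
    obtain ⟨h', hh', huniq'⟩ := hb'.2 Y h hJ
    refine ⟨h', show h' ≫ b' ≫ b = g by rw [reassoc_of% hh', hh], fun k hk => huniq' k (huniq _ ?_)⟩
    show (k ≫ b') ≫ b = g
    rw [Category.assoc]
    exact hk

end Groth.Agent.S1683
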