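import Groth.Statements.S1686
import Groth.Agent.BlowUpEC.Basic

set_option autoImplicit false
universe u
open CategoryTheory CategoryTheory.Limits AlgebraicGeometry TopologicalSpace
open SDiv

namespace Groth.Agent.S1686

open TopologicalSpace in
theorem lt_of_generization {D T : Type u} [TopologicalSpace D] [TopologicalSpace T] [QuasiSober T]
    [Nonempty D] (e : D → T) (he : Topology.IsClosedEmbedding e)
    (hgen : ∀ d, ∃ y, y ⤳ e d ∧ y ∉ Set.range e) (hfin : topologicalKrullDim T ≠ ⊤) :
    topologicalKrullDim D < topologicalKrullDim T := by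
  have key : ∀ p : LTSeries (IrreducibleCloseds D), ∃ q : LTSeries (IrreducibleCloseds T), q.length = p.length + 1 := by
    intro p
    let m := IrreducibleCloseds.map e he.continuous
    let q := p.map m (IrreducibleCloseds.map_strictMono_of_isInducing he.isInducing)
    have himg : (q.last : Set T) = e '' p.last := by
      change closure (e '' (p.last : Set D)) = _
      exact (he.isClosedMap _ p.last.isClosed).closure_eq
    have hirr : IsIrreducible (q.last : Set T) := q.last.isIrreducible
    obtain ⟨d, hd, hde⟩ : hirr.genericPoint ∈ e '' (p.last : Set D) := by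
      rw [← himg]
      have h := hirr.isGenericPoint_genericPoint q.last.isClosed
      exact h.mem
    obtain ⟨y, hy, hyr⟩ := hgen d
    let Z : IrreducibleCloseds T := ⟨closure {y}, isIrreducible_singleton.closure, isClosed_closure⟩
    have hlt : q.last < Z := by
      refine lt_of_le_of_ne ?_ ?_
      · intro z hz
        have h := hirr.isGenericPoint_genericPoint q.last.isClosed
        exact specializes_iff_mem_closure.mp (hy.trans (hde ▸ h.specializes hz))
      · intro h
        have hyq : y ∈ (q.last : Set T) := h ▸ (subset_closure (Set.mem_singleton y))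
        rw [himg] at hyq
        exact hyr (Set.image_subset_range _ _ hyq)
    exact ⟨q.snoc Z hlt, rfl⟩
  have : Nonempty (IrreducibleCloseds D) := ⟨⟨closure {Classical.arbitrary D}, isIrreducible_singleton.closure, isClosed_closure⟩⟩
  unfold topologicalKrullDim at *
  rw [Order.krullDim_eq_iSup_length (α := IrreducibleCloseds D)]
  obtain ⟨p₀⟩ : Nonempty (LTSeries (IrreducibleCloseds D)) := inferInstance
  obtain ⟨q₀, -⟩ := key p₀
  obtain ⟨k, hk⟩ : ∃ k : ℕ∞, (k : WithBot ℕ∞) = Order.krullDim (IrreducibleCloseds T) :=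
    WithBot.ne_bot_iff_exists.mp fun h => by
      have := Order.LTSeries.length_le_krullDim q₀
      rw [h] at this
      exact absurd this (by simp)
  rw [← hk] at hfin ⊢
  rw [WithBot.coe_lt_coe]
  obtain ⟨n, rfl⟩ : ∃ n : ℕ, (n : ℕ∞) = k := ENat.ne_top_iff_exists.mp (fun h => hfin (by rw [h]; rfl))
  have hb : ∀ p : LTSeries (IrreducibleCloseds D), p.length + 1 ≤ n := fun p => by
    obtain ⟨q, hq⟩ := key p
    have := Order.LTSeries.length_le_krullDim q
    rw [← hk, hq] at this
    exact_mod_cast this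
  have hn : 1 ≤ n := le_trans (Nat.le_add_left 1 _) (hb p₀)
  refine lt_of_le_of_lt (iSup_le fun p => (Nat.cast_le.mpr (?_ : p.length ≤ n - 1))) (Nat.cast_lt.mpr (Nat.sub_lt hn one_pos))
  exact Nat.le_sub_one_of_lt (hb p)


/-- Let D be the closed subscheme of an effective Cartier divisor on a scheme S and d a point of D with
image s in S. If the local dimension of S at s is finite, then the local dimension of D at d is
strictly smaller. -/
theorem result (S : Scheme.{u}) (𝓘 : S.IdealSheafData) (h𝓘 : BlowUp.IsEffCartierIdeal 𝓘) (d : ↥𝓘.subscheme)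
    (hfin : FlatMor.localDim ↥S (𝓘.subschemeι d) ≠ ⊤) :
    FlatMor.localDim ↥𝓘.subscheme d < FlatMor.localDim ↥S (𝓘.subschemeι d) := by
  let i := 𝓘.subschemeι
  let ι := {U : TopologicalSpace.Opens S // i d ∈ U}
  have : Nonempty ι := ⟨⟨⊤, trivial⟩⟩
  obtain ⟨U, hU⟩ : ∃ U : ι, topologicalKrullDim (U.1 : Set S) = FlatMor.localDim S (i d) :=
    ciInf_mem (fun U : ι => topologicalKrullDim (U.1 : Set S))
  rw [← hU] at hfin ⊢
  refine lt_of_le_of_lt (iInf_le _ ⟨i ⁻¹ᵁ U.1, U.2⟩) ?_
  have hqs : QuasiSober (U.1 : Set S) := (U.1.isOpenEmbedding'.quasiSober)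
  have : Nonempty ((i ⁻¹ᵁ U.1 : Scheme.Opens _) : Set 𝓘.subscheme) := ⟨⟨d, U.2⟩⟩
  refine lt_of_generization (fun z => (⟨i z.1, z.2⟩ : (U.1 : Set S))) ?_ ?_ hfin
  · exact i.isClosedEmbedding.restrictPreimage (U.1 : Set S)
  · intro z
    obtain ⟨y, hy, hny⟩ : ∃ y : S, y ⤳ i z.1 ∧ y ∉ 𝓘.support := by
      -- a point with no further generization lies above `i z`
      obtain ⟨W, hzW, -⟩ := h𝓘 (i z.1)
      obtain ⟨p, hp⟩ : i z.1 ∈ Set.range W.2.fromSpec := by rw [W.2.range_fromSpec]; exact hzW
      have := (p : PrimeSpectrum Γ(S, W.1)).isPrime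
      obtain ⟨q, hq, hqp⟩ := Ideal.exists_minimalPrimes_le (I := (⊥ : Ideal Γ(S, W.1))) (J := (p : PrimeSpectrum Γ(S, W.1)).asIdeal) bot_le
      let q' : PrimeSpectrum Γ(S, W.1) := ⟨q, hq.1.1⟩
      refine ⟨W.2.fromSpec q', hp ▸ ((PrimeSpectrum.le_iff_specializes q' p).mp hqp).map W.2.fromSpec.continuous,
        Groth.Agent.BlowUpEC.not_mem_support_of_generic h𝓘 fun y hy => ?_⟩
      have : IsOpenImmersion W.2.fromSpec := W.2.isOpenImmersion_fromSpec
      obtain ⟨r, rfl⟩ : y ∈ Set.range W.2.fromSpec := by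
        have hm : W.2.fromSpec q' ∈ (W.1 : Set S) := W.2.range_fromSpec ▸ ⟨q', rfl⟩
        rw [W.2.range_fromSpec]; exact hy.mem_open W.1.isOpen hm
      let r' : PrimeSpectrum Γ(S, W.1) := r
      have hrq : r' ≤ q' := (PrimeSpectrum.le_iff_specializes r' q').mpr
        (W.2.fromSpec.isOpenEmbedding.isInducing.specializes_iff.mp hy)
      exact congrArg (fun t : PrimeSpectrum Γ(S, W.1) => W.2.fromSpec t)
        (le_antisymm hrq (show q ≤ r'.asIdeal from hq.2 ⟨r'.isPrime, bot_le⟩ hrq))
    refine ⟨⟨y, hy.mem_open U.1.isOpen z.2⟩, (subtype_specializes_iff _ _).mpr hy, ?_⟩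
    rintro ⟨w, hw⟩
    apply hny
    have : y ∈ Set.range i := ⟨w.1, congrArg Subtype.val hw⟩
    rw [Scheme.IdealSheafData.range_subschemeι] at this
    exact this

end Groth.Agent.S1686
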