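import Groth.Statements.S1692
import Groth.Agent.Misc9.CDivDimOne
import Mathlib.AlgebraicGeometry.OrderOfVanishing
-- import your own Groth.Agent.* helpers here

set_option autoImplicit false
set_option backward.isDefEq.respectTransparency false
universe u
open CategoryTheory CategoryTheory.Limits AlgebraicGeometry TopologicalSpace
open SDiv

namespace Groth.Agent.S1692

/-- Let X be a locally Noetherian integral scheme and f a nonzero rational function. Then the closures
of the codimension-one points at which f has nonzero order of vanishing form a locally finite family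
of closed subsets of X. -/
theorem result (X : Scheme.{u}) [IsIntegral X] [IsLocallyNoetherian X] (f : ↑X.functionField) (hf : f ≠ 0) :
    LocallyFinite (fun ξ : {ξ : ↥X // Order.coheight ξ = 1 ∧ Scheme.ord f ξ ≠ 0} => closure ({ξ.1} : Set ↥X)) := by
  have hE := Misc9.CDivDimOne.isClosed_supp (CDiv.div (Units.mk0 f hf))
  have hgenE := Misc9.CDivDimOne.generic_not_mem (CDiv.div (Units.mk0 f hf))
  have hmem : ∀ ξ : X, Order.coheight ξ = 1 → Scheme.ord f ξ ≠ 0 → ξ ∈ CDiv.supp (CDiv.div (Units.mk0 f hf)) := by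
    intro ξ h1 h2 h3
    obtain ⟨v, hv⟩ := (QuotientGroup.eq_one_iff _).1 (show CDiv.germOf X ξ (Units.mk0 f hf) = 1 from h3)
    haveI : Ring.KrullDimLE 1 (X.presheaf.stalk ξ) := krullDimLE_of_coheight_le h1.le
    refine h2 ((Scheme.ord_eq_iff h1 hf).2 ?_)
    have e : f = algebraMap (X.presheaf.stalk ξ) X.functionField (v : X.presheaf.stalk ξ) := (congrArg Units.val hv).symm
    rw [e]
    exact Ring.ordFrac_of_isUnit v.isUnit
  intro x
  obtain ⟨_, ⟨W : X.Opens, hW, rfl⟩, hxW, -⟩ :=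
    X.isBasis_affineOpens.exists_subset_of_mem_open (Set.mem_univ x) isOpen_univ
  haveI : IsAffine W := hW
  haveI : IsLocallyNoetherian W := isLocallyNoetherian_of_isOpenImmersion W.ι
  haveI : IsNoetherian W := {}
  haveI : TopologicalSpace.NoetherianSpace W := inferInstance
  let C : Set (W : Scheme.{u}) := W.ι.base ⁻¹' CDiv.supp (CDiv.div (Units.mk0 f hf))
  have hC : IsClosed C := hE.preimage W.ι.continuous
  obtain ⟨S, hS, hSc, hSi, hCeq⟩ := TopologicalSpace.NoetherianSpace.exists_finite_set_isClosed_irreducible hC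
  have hsub : ∀ (z : (W : Scheme.{u})), z ∈ C → Order.coheight (W.ι z) = 1 → ∃ Z ∈ S, IsGenericPoint z Z := by
    intro z hz h1
    obtain ⟨Z, hZ, hzZ⟩ := Set.mem_sUnion.1 (hCeq ▸ hz)
    obtain ⟨g, hg⟩ := QuasiSober.sober (hSi Z hZ) (hSc Z hZ)
    have hgC : W.ι g ∈ CDiv.supp (CDiv.div (Units.mk0 f hf)) := show g ∈ C from hCeq ▸ Set.mem_sUnion_of_mem hg.mem hZ
    have hgz : W.ι g ⤳ W.ι z := (hg.specializes hzZ).map W.ι.continuous
    by_contra hne
    have hgz' : W.ι g ≠ W.ι z := fun e => hne ⟨Z, hZ, W.ι.isOpenEmbedding.injective e ▸ hg⟩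
    have hgη : W.ι g ≠ genericPoint X := fun e => hgenE (e ▸ hgC)
    have l1 : W.ι z < W.ι g := ⟨hgz, fun h => hgz' (hgz.antisymm h).eq⟩
    have l2 : W.ι g < genericPoint X := ⟨genericPoint_specializes _, fun h => hgη ((genericPoint_specializes _).antisymm h).eq.symm⟩
    have a1 := Order.coheight_add_one_le l1
    have a2 := Order.coheight_add_one_le l2
    have h2 : (1 : ℕ∞) + 1 ≤ 1 := (add_le_add_left ((le_add_self).trans a2) 1).trans (a1.trans h1.le)
    exact absurd h2 (by decide)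
  refine ⟨W, W.2.mem_nhds hxW, ?_⟩
  have key : ∀ ξ : {ξ : X // Order.coheight ξ = 1 ∧ Scheme.ord f ξ ≠ 0}, (closure ({ξ.1} : Set X) ∩ (W : Set X)).Nonempty →
      ∃ Z ∈ S, ∃ h : ξ.1 ∈ W, IsGenericPoint (⟨ξ.1, h⟩ : (W : Scheme.{u})) Z := by
    rintro ⟨ξ, h1, h2⟩ ⟨y, hy, hyW⟩
    have hξW : ξ ∈ W := (specializes_iff_mem_closure.2 hy).mem_open W.2 hyW
    obtain ⟨Z, hZ, hg⟩ := hsub ⟨ξ, hξW⟩ (hmem ξ h1 h2) h1
    exact ⟨Z, hZ, hξW, hg⟩
  choose Zf hZf hWf hgf using key
  haveI := hS.to_subtype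
  rw [← Set.finite_coe_iff]
  refine Finite.of_injective (β := S) (fun ξ => ⟨Zf ξ.1 ξ.2, hZf ξ.1 ξ.2⟩) fun a b hab => ?_
  have h := hgf a.1 a.2
  have h' := hgf b.1 b.2
  rw [show Zf a.1 a.2 = Zf b.1 b.2 from congrArg Subtype.val hab] at h
  exact Subtype.ext (Subtype.ext (congrArg (fun w : (W : Scheme.{u}) => (W.ι w : X)) (h.eq h')))

end Groth.Agent.S1692
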