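import Groth.Statements.S16979
import Mathlib.FieldTheory.IsAlgClosed.AlgebraicClosure
import Mathlib.FieldTheory.Separable
import Mathlib.LinearAlgebra.Matrix.Charpoly.Coeff
import Mathlib.LinearAlgebra.Matrix.ToLinearEquiv
import Mathlib.LinearAlgebra.Eigenspace.Minpoly

set_option autoImplicit false
universe u v
open CAlg

namespace Groth.Agent.S16979

/-- Let R be an integral domain with fraction field K and φ a square matrix over R whose characteristic
polynomial becomes separable in K[T] (equivalently, K[T] modulo the characteristic polynomial is
geometrically reduced over K). Then a polynomial f over R satisfies f(φ) = 0 exactly when the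
characteristic polynomial of φ divides f in R[T]: the kernel of evaluation at φ (the minimal ideal
of φ) is the principal ideal generated by the characteristic polynomial. -/
theorem result
    {R : Type u} [CommRing R] [IsDomain R] {n : Type v} [Fintype n] [DecidableEq n]
    (φ : Matrix n n R)
    (hsep : (φ.charpoly.map (algebraMap R (FractionRing R))).Separable) :
    RingHom.ker (Polynomial.aeval (R := R) φ) = Ideal.span {φ.charpoly} := by
  classical
  refine le_antisymm (fun P hP => ?_) ?_
  · rw [RingHom.mem_ker] at hP
    rw [Ideal.mem_span_singleton]
    let L := AlgebraicClosure (FractionRing R)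
    let g : R →+* L := (algebraMap (FractionRing R) L).comp (algebraMap R (FractionRing R))
    have hginj : Function.Injective g :=
      (algebraMap (FractionRing R) L).injective.comp (IsFractionRing.injective R (FractionRing R))
    rw [← Polynomial.map_dvd_map g hginj φ.charpoly_monic]
    have hsepL : (φ.charpoly.map g).Separable := by
      rw [← Polynomial.map_map]; exact hsep.map
    have hsplit : (φ.charpoly.map g).Splits := IsAlgClosed.splits _
    rcases eq_or_ne P 0 with rfl | hP0
    · simp
    have hP0' : P.map g ≠ 0 := (Polynomial.map_ne_zero_iff hginj).2 hP0
    have hroots : (φ.charpoly.map g).roots ≤ (P.map g).roots := by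
      rw [Multiset.le_iff_subset (Polynomial.nodup_roots hsepL)]
      intro l hl
      rw [Polynomial.mem_roots'] at hl
      rw [Polynomial.mem_roots hP0']
      have hdet : (Matrix.scalar n l - φ.map g).det = 0 := by
        have := hl.2
        rw [Polynomial.IsRoot.def, ← Matrix.charpoly_map, Matrix.eval_charpoly] at this
        exact this
      obtain ⟨v, hv, hv'⟩ := Matrix.exists_mulVec_eq_zero_iff.2 hdet
      have hev : Module.End.HasEigenvector (Matrix.toLin' (φ.map g)) l v := by
        refine ⟨?_, hv⟩
        rw [Module.End.mem_eigenspace_iff, Matrix.toLin'_apply]
        rw [Matrix.sub_mulVec, sub_eq_zero] at hv'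
        rw [← hv']
        ext i; simp [Matrix.scalar_apply, Matrix.mulVec_diagonal]
      have h := Module.End.aeval_apply_of_hasEigenvector (p := P.map g) hev
      have hz : Polynomial.aeval (Matrix.toLin' (φ.map g)) (P.map g) = 0 := by
        change Polynomial.aeval (Matrix.toLinAlgEquiv' (φ.map g)) (P.map g) = 0
        have hmat : Polynomial.aeval (φ.map g) (P.map g) = 0 := by
          have hcomm : (algebraMap L (Matrix n n L)).comp g = g.mapMatrix.comp (algebraMap R (Matrix n n R)) := by
            ext r i j
            by_cases hij : i = j
            · subst hij; simp [Matrix.algebraMap_matrix_apply]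
            · simp [Matrix.algebraMap_matrix_apply, hij]
          have := Polynomial.map_aeval_eq_aeval_map hcomm P φ
          rw [hP, map_zero] at this
          exact this.symm
        rw [Polynomial.aeval_algHom_apply, hmat, map_zero]
      rw [hz, LinearMap.zero_apply] at h
      exact (smul_eq_zero.1 h.symm).resolve_right hv
    rw [hsplit.eq_prod_roots_of_monic (φ.charpoly_monic.map g)]
    exact (Multiset.prod_dvd_prod_of_le (Multiset.map_le_map hroots)).trans (Polynomial.prod_multiset_X_sub_C_dvd _)
  · rw [Ideal.span_le, Set.singleton_subset_iff]
    exact Matrix.aeval_self_charpoly φ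

end Groth.Agent.S16979
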