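import Groth.Statements.S16981
import Mathlib
import Groth.Agent.Adic.FiniteModule

set_option autoImplicit false
universe u v
open CAlg

namespace Groth.Agent.S16981

lemma toE {R S M : Type*} [CommRing R] [CommRing S] [Algebra R S] [AddCommGroup M] [Module R M]
    [Module S M] [IsScalarTower R S M] (hs : Function.Surjective (algebraMap R S))
    (h : IsNoetherian S M) : IsNoetherian R M := by
  constructor
  intro N
  let N' : Submodule S M :=
    { N.toAddSubmonoid with
      smul_mem' := fun c x hx => by
        obtain ⟨r, rfl⟩ := hs c
        rw [algebraMap_smul]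
        exact N.smul_mem r hx }
  have : N'.restrictScalars R = N := Submodule.ext fun x => Iff.rfl
  rw [← this]
  exact Submodule.FG.restrictScalars_of_surjective (h.noetherian N') hs

/-- Let A be a complete Noetherian local ring and f : E → A a surjective ring homomorphism whose kernel
has square zero and is finitely generated (equivalently, is a finite A-module for the induced module
structure). Then E is separated and complete for the adic topology of the inverse image of the
maximal ideal of A. (The published statement takes A to be the completion of a local ring of a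
scheme of finite type over an Artinian local ring and the kernel the completion of a finite module;
this row assumes only that A is complete Noetherian local and the kernel finitely generated.) -/
theorem result
    {A : Type u} {E : Type v} [CommRing A] [CommRing E] [IsNoetherianRing A] [IsLocalRing A]
    [IsAdicComplete (IsLocalRing.maximalIdeal A) A]
    (f : E →+* A) (hf : Function.Surjective f)
    (hsq : RingHom.ker f ^ 2 = ⊥) (hfg : (RingHom.ker f).FG) :
    IsAdicComplete ((IsLocalRing.maximalIdeal A).comap f) E := by
  let M : Ideal E := (IsLocalRing.maximalIdeal A).comap f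
  let K : Ideal E := RingHom.ker f
  let e : E ⧸ K ≃+* A := RingHom.quotientKerEquivOfSurjective hf
  have : IsNoetherianRing (E ⧸ K) := isNoetherianRing_of_ringEquiv A e.symm
  have hmap : (M.map (Ideal.Quotient.mk K)).map e = IsLocalRing.maximalIdeal A := by
    change Ideal.map (e : E ⧸ K →+* A) _ = _
    rw [Ideal.map_map]
    have : (e : E ⧸ K →+* A).comp (Ideal.Quotient.mk K) = f := RingHom.ext fun x => RingHom.quotientKerEquivOfSurjective_apply_mk hf x
    rw [this, Ideal.map_comap_of_surjective f hf]
  have hQ : IsAdicComplete (M.map (Ideal.Quotient.mk K)) (E ⧸ K) := by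
    rw [← IsAdicComplete.congr_ringEquiv _ e, hmap]
    infer_instance
  have htor : Module.IsTorsionBySet E ↥K (K : Set E) := by
    intro x a
    apply Subtype.ext
    have : (a : E) * (x : E) ∈ K ^ 2 := by rw [pow_two]; exact Ideal.mul_mem_mul a.2 x.2
    simpa [K, hsq] using this
  letI : Module (E ⧸ K) ↥K := htor.module
  haveI : IsScalarTower E (E ⧸ K) ↥K := htor.isScalarTower
  haveI : Module.Finite E ↥K := Module.Finite.iff_fg.mpr hfg
  haveI : Module.Finite (E ⧸ K) ↥K := Module.Finite.of_restrictScalars_finite E _ _
  have hK : IsAdicComplete M ↥K := by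
    rw [← IsAdicComplete.map_algebraMap_iff (S := E ⧸ K)]
    exact @Groth.Agent.Adic.FiniteModule.isAdicComplete_of_finite _ _ _ _ _ _ _ _ hQ
  have hQ' : IsAdicComplete M (E ⧸ K) := by
    rw [← IsAdicComplete.map_algebraMap_iff (S := E ⧸ K)]
    exact hQ
  have hsurjQ : Function.Surjective (algebraMap E (E ⧸ K)) := Ideal.Quotient.mk_surjective
  have hnoeK : IsNoetherian E ↥K := toE hsurjQ (isNoetherian_of_isNoetherianRing_of_finite _ _)
  have hnoeQ : IsNoetherian E (E ⧸ K) := toE hsurjQ inferInstance
  haveI : IsNoetherianRing E := isNoetherian_of_range_eq_ker (Submodule.subtype K) (Submodule.mkQ K) (by simp)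
  refine (AdicCompletion.of_bijective_iff).mp ?_
  let i : ↥K →ₗ[E] E := Submodule.subtype K
  let q : E →ₗ[E] E ⧸ K := Submodule.mkQ K
  have hex : Function.Exact (AdicCompletion.map M i) (AdicCompletion.map M q) :=
    AdicCompletion.map_exact (I := M) K.injective_subtype (LinearMap.exact_subtype_mkQ K) K.mkQ_surjective
  have hKb := (AdicCompletion.of_bijective_iff (I := M) (M := ↥K)).mpr hK
  have hQb := (AdicCompletion.of_bijective_iff (I := M) (M := E ⧸ K)).mpr hQ'
  constructor
  · rw [injective_iff_map_eq_zero]
    intro x hx
    have h1 : q x = 0 := hQb.1 (by rw [← AdicCompletion.map_of, hx, map_zero, map_zero])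
    obtain ⟨k, rfl⟩ : ∃ k, i k = x := ⟨⟨x, (Submodule.Quotient.mk_eq_zero K).mp h1⟩, rfl⟩
    rw [← AdicCompletion.map_of] at hx
    have h2 := (AdicCompletion.map_injective M (f := i) K.injective_subtype) (hx.trans (map_zero _).symm)
    rw [hKb.1 (h2.trans (map_zero _).symm), map_zero]
  · intro y
    obtain ⟨z, hz⟩ := hQb.2 (AdicCompletion.map M q y)
    obtain ⟨x, rfl⟩ := K.mkQ_surjective z
    have h0 : AdicCompletion.map M q (y - AdicCompletion.of M E x) = 0 := by
      rw [map_sub, AdicCompletion.map_of, hz, sub_self]
    obtain ⟨w, hw⟩ := (hex _).mp h0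
    obtain ⟨k, rfl⟩ := hKb.2 w
    refine ⟨x + i k, ?_⟩
    rw [map_add, ← AdicCompletion.map_of M i, hw]
    abel

end Groth.Agent.S16981
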