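import Groth.Statements.S16983
import Mathlib

set_option autoImplicit false
universe u
open DeformData

namespace Groth.Agent.S16983

/-- Let p be a prime, s ≥ 1, B a finite index set with a subset B₀ of exactly three elements, m_j ≥ 1
integers coprime to p, and σ_{i,j} (i < s, j ∈ B) rational numbers with m_j σ_{i,j} an integer, such
that Σ_j (σ_{i,j} − 1) = −2 for every i, the fractional part of σ_{i,j} equals that of p^i σ_{0,j},
no σ_{i,j} equals 1, and the minimum over i of ⌊σ_{i,j}⌋ is 0 for j ∈ B₀ and 1 for j ∉ B₀. Then for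
every i the fractional parts ⟨σ_{i,j}⟩ sum over j to 1 (purity), and ⌊σ_{i,j}⌋ is 0 on B₀ and 1 off
B₀ for every i. (The hypotheses are exactly the properties of the signature of a special deformation
datum on the projective line: each entry is an integer divided by a stabilizer order m_j in a group
of order prime to p, the degree identity coming from Riemann–Hurwitz, the Frobenius-twist relation
between fractional parts, and the speciality conditions; the statement is given here for any such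
tuple.) -/
theorem result
    {B : Type u} [Fintype B] [DecidableEq B] (B₀ : Finset B) (hB₀ : B₀.card = 3)
    (p : ℕ) (hp : p.Prime) (s : ℕ) (hs : 0 < s)
    (m : B → ℕ) (hm : ∀ j, 0 < m j) (hmp : ∀ j, Nat.Coprime (m j) p)
    (σ : Fin s → B → ℚ) (hint : ∀ i j, ∃ h : ℤ, σ i j = (h : ℚ) / (m j : ℚ))
    (hsum : ∀ i, ∑ j, (σ i j - 1) = -2)
    (hfract : ∀ i j, Int.fract (σ i j) = Int.fract ((p : ℚ) ^ (i : ℕ) * σ ⟨0, hs⟩ j))
    (hne : ∀ i j, σ i j ≠ 1)
    (hB₀min : ∀ j ∈ B₀, (∃ i, ⌊σ i j⌋ = 0) ∧ ∀ i, 0 ≤ ⌊σ i j⌋)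
    (hBmin : ∀ j ∉ B₀, (∃ i, ⌊σ i j⌋ = 1) ∧ ∀ i, 1 ≤ ⌊σ i j⌋) :
    (∀ i, ∑ j, Int.fract (σ i j) = 1) ∧ (∀ i j, ⌊σ i j⌋ = if j ∈ B₀ then 0 else 1) := by
  classical
  have hfl : ∀ i j, (if j ∈ B₀ then (0 : ℤ) else 1) ≤ ⌊σ i j⌋ := fun i j => by
    by_cases h : j ∈ B₀
    · rw [if_pos h]; exact (hB₀min j h).2 i
    · rw [if_neg h]; exact (hBmin j h).2 i
  have hcard : ∑ j : B, (if j ∈ B₀ then (0 : ℤ) else 1) = (Fintype.card B : ℤ) - 3 := by
    have : ∑ j : B, (if j ∈ B₀ then (0 : ℤ) else 1) = ∑ j : B, (1 - if j ∈ B₀ then (1 : ℤ) else 0) :=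
      Finset.sum_congr rfl fun j _ => by split_ifs <;> simp
    rw [this, Finset.sum_sub_distrib, Finset.sum_ite_mem, Finset.univ_inter]
    simp [hB₀]
  have hσ : ∀ i, ∑ j, σ i j = (Fintype.card B : ℚ) - 2 := fun i => by
    have := hsum i
    simp [Finset.sum_sub_distrib] at this
    linarith
  have hfr : ∀ i, ∑ j, Int.fract (σ i j) = (((Fintype.card B : ℤ) - 2 - ∑ j, ⌊σ i j⌋ : ℤ) : ℚ) := fun i => by
    simp only [Int.fract, Finset.sum_sub_distrib, hσ]
    push_cast; ring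
  have hle : ∀ i, (Fintype.card B : ℤ) - 3 ≤ ∑ j, ⌊σ i j⌋ := fun i => hcard ▸ Finset.sum_le_sum fun j _ => hfl i j
  have hpos : ∀ i, 0 < ∑ j, Int.fract (σ i j) := by
    intro i
    refine lt_of_le_of_ne (Finset.sum_nonneg fun j _ => Int.fract_nonneg _) fun h => ?_
    have hz := (Finset.sum_eq_zero_iff_of_nonneg fun j _ => Int.fract_nonneg (σ i j)).1 h.symm
    have hall : ∀ i' j, ∃ z : ℤ, σ i' j = z := by
      intro i' j
      have h1 : Int.fract ((p : ℚ) ^ (i : ℕ) * σ ⟨0, hs⟩ j) = 0 := (hfract i j) ▸ hz j (Finset.mem_univ j)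
      obtain ⟨z, hz'⟩ : ∃ z : ℤ, (p : ℚ) ^ (i : ℕ) * σ ⟨0, hs⟩ j = z := ⟨⌊(p : ℚ) ^ (i : ℕ) * σ ⟨0, hs⟩ j⌋, by
        rw [← Int.floor_add_fract ((p : ℚ) ^ (i : ℕ) * σ ⟨0, hs⟩ j)]; simp [h1]⟩
      obtain ⟨u, hu⟩ := hint ⟨0, hs⟩ j
      have hm' : (m j : ℚ) ≠ 0 := Nat.cast_ne_zero.2 (hm j).ne'
      have hdvd : (m j : ℤ) ∣ u := by
        have e : (p : ℤ) ^ (i : ℕ) * u = z * m j := by
          have : ((p : ℚ) ^ (i : ℕ)) * u = z * m j := by rw [← hz', hu]; field_simp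
          exact_mod_cast this
        exact ((Nat.isCoprime_iff_coprime.2 (hmp j)).pow_right : IsCoprime (m j : ℤ) ((p : ℤ) ^ (i : ℕ))).dvd_of_dvd_mul_left ⟨z, by rw [e]; ring⟩
      obtain ⟨w, rfl⟩ := hdvd
      have h0 : σ ⟨0, hs⟩ j = w := by rw [hu]; push_cast; field_simp
      refine ⟨⌊σ i' j⌋, ?_⟩
      have : Int.fract (σ i' j) = 0 := by rw [hfract i' j, h0]; exact_mod_cast Int.fract_intCast ((p : ℤ) ^ (i' : ℕ) * w)
      linarith [Int.floor_add_fract (σ i' j)]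
    have hall0 : ∀ j, j ∈ B₀ := fun j => by
      by_contra hj
      obtain ⟨⟨i', hi'⟩, -⟩ := hBmin j hj
      obtain ⟨z, hz⟩ := hall i' j
      refine hne i' j ?_
      rw [hz, Int.floor_intCast] at hi'
      rw [hz, hi']; norm_num
    have hcB : Fintype.card B = 3 := by rw [← hB₀, Finset.eq_univ_of_forall hall0, Finset.card_univ]
    have hnn : ∀ j, 0 ≤ σ i j ∧ (σ i j = 0 ∨ 2 ≤ σ i j) := fun j => by
      obtain ⟨z, hz⟩ := hall i j
      have := (hB₀min j (hall0 j)).2 i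
      rw [hz, Int.floor_intCast] at this
      have hz1 : z ≠ 1 := fun h => hne i j (by rw [hz, h]; norm_num)
      rw [hz]
      refine ⟨by exact_mod_cast this, ?_⟩
      rcases (show z = 0 ∨ 2 ≤ z by omega) with h | h
      · exact Or.inl (by exact_mod_cast h)
      · exact Or.inr (by exact_mod_cast h)
    have h3 := hσ i
    rw [hcB] at h3
    by_cases hex : ∃ j, σ i j ≠ 0
    · obtain ⟨j, hj⟩ := hex
      have := Finset.single_le_sum (fun j _ => (hnn j).1) (Finset.mem_univ j)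
      have := (hnn j).2.resolve_left hj
      norm_num at h3
      linarith
    · push Not at hex
      simp [hex] at h3
      norm_num at h3
  have hfloor : ∀ i, ∑ j, ⌊σ i j⌋ = (Fintype.card B : ℤ) - 3 := fun i => by
    have := hpos i
    rw [hfr] at this
    have := hle i
    have h2 : (0 : ℤ) < (Fintype.card B : ℤ) - 2 - ∑ j, ⌊σ i j⌋ := Int.cast_pos.1 ‹(0 : ℚ) < _›
    omega
  refine ⟨fun i => ?_, fun i j => ?_⟩
  · rw [hfr, hfloor]; push_cast; ring
  · exact ((Finset.sum_eq_sum_iff_of_le fun j _ => hfl i j).1 (hcard.trans (hfloor i).symm) j (Finset.mem_univ j)).symm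

end Groth.Agent.S16983
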