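import Groth.Statements.S16984


set_option autoImplicit false
universe u v w
open Hoch

namespace Groth.Agent.S16984

open TensorProduct

open TensorProduct in
/-- Let k be a commutative ring, A a commutative k-bialgebra that is flat over k (the coordinate ring of
a flat affine group scheme over Spec k; flatness and commutativity are the standing hypotheses of
the appendix and are not needed for the assertion) and P a k-module. Then p ↦ p ⊗ 1 is an injection
of P into the induced comodule P ⊗ A (coaction id ⊗ Δ) whose image is exactly the submodule of
invariants, i.e. the elements with coaction x ↦ x ⊗ 1. (The published statement writes the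
coordinate-ring factor on the left and calls this module coinduced; this row is its degree-zero
part, the identification of P with the invariants of the coinduced module.) -/
theorem result (k : Type u) [CommRing k] (A : Type v) [CommRing A] [Bialgebra k A]
    [Module.Flat k A] (P : Type w) [AddCommGroup P] [Module k P] :
    Function.Injective ((Hoch.Ind.equiv k A P).toLinearMap ∘ₗ (TensorProduct.mk k P A).flip (1 : A)) ∧
    LinearMap.range ((Hoch.Ind.equiv k A P).toLinearMap ∘ₗ (TensorProduct.mk k P A).flip (1 : A)) =
      HopfRep.fixedPts k A (Hoch.Ind k A P) := by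
  refine ⟨Function.LeftInverse.injective (g := Hoch.Ind.counit k A P) fun p => ?_, ?_⟩
  · simp [Bialgebra.counit_one]
  refine le_antisymm ?_ fun x hx => ?_
  · rintro _ ⟨p, rfl⟩
    show Hoch.Ind.coactAux k A P (p ⊗ₜ[k] (1 : A)) = (p ⊗ₜ[k] (1 : A)) ⊗ₜ[k] (1 : A)
    simp [Bialgebra.comul_one, Algebra.TensorProduct.one_def]
  · have hx' : Hoch.Ind.coactAux k A P x = (show P ⊗[k] A from x) ⊗ₜ[k] (1 : A) := hx
    let e : (P ⊗[k] A) ⊗[k] A →ₗ[k] P ⊗[k] A :=
      ((TensorProduct.rid k P).toLinearMap ∘ₗ (Coalgebra.counit (R := k) (A := A)).lTensor P).rTensor A
    have he : ∀ z : P ⊗[k] A, e (Hoch.Ind.coactAux k A P z) = z := by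
      intro z
      induction z with
      | zero => simp
      | add p q hp hq => simp only [map_add, hp, hq]
      | tmul p q =>
        have key : ∀ y : A ⊗[k] A, e ((TensorProduct.assoc k P A A).symm (p ⊗ₜ y)) =
            p ⊗ₜ TensorProduct.lid k A ((Coalgebra.counit (R := k) (A := A)).rTensor A y) := by
          intro y
          induction y with
          | zero => simp
          | add p q hp hq => simp only [TensorProduct.tmul_add, map_add, hp, hq]
          | tmul b c => simp [e, TensorProduct.smul_tmul]
        rw [Hoch.Ind.coactAux_tmul, key, Coalgebra.rTensor_counit_comul]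
        simp
    refine ⟨Hoch.Ind.counit k A P x, ?_⟩
    have := congrArg e hx'
    exact ((he (x : P ⊗[k] A)).symm.trans this).symm

end Groth.Agent.S16984
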