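import Groth.Statements.S1699
import Groth.Agent.ModStalk.UnitStalk

set_option autoImplicit false
universe u
open CategoryTheory CategoryTheory.Limits AlgebraicGeometry TopologicalSpace
open SDiv

namespace Groth.Agent.S1699

/-- (1) if and only if (3): let X be a locally Noetherian scheme and U an open subscheme. Then U is
scheme-theoretically dense in X if and only if U contains every associated point of X (every point
whose local ring has its maximal ideal as an associated prime). -/
theorem result (X : Scheme.{u}) [IsLocallyNoetherian X] (U : X.Opens) :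
    CInt.IsSchematicallyDense U ↔ ∀ x : ↥X, IsAssociatedPrime (IsLocalRing.maximalIdeal ↑(X.presheaf.stalk x)) ↑(X.presheaf.stalk x) → x ∈ U := by
  constructor
  · intro h x hx
    by_contra hxU
    obtain ⟨hp, m, hm⟩ := (isAssociatedPrime_iff).mp hx
    obtain ⟨W, hxW, t, rfl⟩ := X.presheaf.exists_germ_eq (x := x) m
    obtain ⟨_, ⟨V, hV, rfl⟩, hxV, hVW⟩ := X.isBasis_affineOpens.exists_subset_of_mem_open hxW W.isOpen
    replace hVW : V ≤ W := hVW
    rw [← X.presheaf.germ_res_apply (homOfLE hVW) x hxV t] at hm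
    generalize X.presheaf.map (homOfLE hVW).op t = t' at hm
    have := IsLocallyNoetherian.component_noetherian ⟨V, hV⟩
    obtain ⟨T, hT⟩ := IsNoetherian.noetherian (hV.primeIdealOf ⟨x, hxV⟩).asIdeal
    have hkill : ∀ r ∈ T, ∃ c : Γ(X, V), x ∈ X.basicOpen c ∧ c * (r * t') = 0 := fun r hr => by
      have hrp : r ∈ (hV.primeIdealOf ⟨x, hxV⟩).asIdeal := hT ▸ Submodule.subset_span hr
      have hrm : X.presheaf.germ V x hxV r ∈ IsLocalRing.maximalIdeal (X.presheaf.stalk x) := by
        rw [IsLocalRing.mem_maximalIdeal, mem_nonunits_iff, ← Scheme.mem_basicOpen]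
        exact fun h => (Groth.Agent.ModStalk.germ_mem_primeIdeal_iff hV ⟨x, hxV⟩ r).mpr h hrp
      rw [hm, Submodule.mem_colon_singleton, Submodule.mem_bot, smul_eq_mul, ← map_mul,
        ← Groth.Agent.ModStalk.germ_toUnit_eq_zero_iff] at hrm
      obtain ⟨c, hc, h0⟩ := Groth.Agent.ModStalk.exists_smul_eq_zero_of_germ _ hV x hxV _ hrm
      exact ⟨c, hc, h0⟩
    choose c hc hc0 using hkill
    let D : X.Opens := V ⊓ T.attach.inf fun r => X.basicOpen (c r.1 r.2)
    have hxD : x ∈ D := ⟨hxV, Finset.inf_induction (p := fun V : X.Opens => x ∈ V) trivial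
      (fun _ h₁ _ h₂ => ⟨h₁, h₂⟩) fun r _ => hc r.1 r.2⟩
    have hres : X.presheaf.map (homOfLE (inf_le_left : D ⊓ U ≤ D)).op
        (X.presheaf.map (homOfLE (inf_le_left : D ≤ V)).op t') = 0 := by
      refine TopCat.Presheaf.section_ext X.sheaf _ _ _ fun y hy => ?_
      erw [TopCat.Presheaf.germ_res_apply, TopCat.Presheaf.germ_res_apply]
      refine Eq.trans ?_ (map_zero _).symm
      obtain ⟨r, hr, hry⟩ : ∃ r ∈ T, r ∉ (hV.primeIdealOf ⟨y, hy.1.1⟩).asIdeal := by
        by_contra hall
        push Not at hall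
        refine hxU (Specializes.mem_open (Groth.Agent.ModStalk.specializes_of_primeIdeal_le hV
          (x := ⟨y, hy.1.1⟩) (y := ⟨x, hxV⟩) ?_) U.isOpen hy.2)
        rw [← hT]; exact Submodule.span_le.mpr hall
      have hur := (Scheme.mem_basicOpen _ _ _ hy.1.1).mp
        ((Groth.Agent.ModStalk.germ_mem_primeIdeal_iff hV ⟨y, hy.1.1⟩ r).mp hry)
      have huc := (Scheme.mem_basicOpen _ _ _ hy.1.1).mp (Finset.inf_le (f := fun r => X.basicOpen (c r.1 r.2))
        (Finset.mem_attach T ⟨r, hr⟩) hy.1.2)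
      have h0 := congrArg (X.presheaf.germ V y hy.1.1) (hc0 r hr)
      rw [map_mul, map_mul, map_zero, huc.mul_right_eq_zero, hur.mul_right_eq_zero] at h0
      exact h0
    have hz := h D (hres.trans (map_zero _).symm)
    have hg : X.presheaf.germ V x hxV t' = 0 := by
      rw [← X.presheaf.germ_res_apply (homOfLE (inf_le_left : D ≤ V)) x hxD t', hz, map_zero]
    apply hp.ne_top
    rw [hm, hg, Ideal.eq_top_iff_one]
    exact Submodule.mem_colon_singleton.mpr (by simp)
  · intro h V a b hab
    rw [← sub_eq_zero]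
    refine Groth.Agent.ModStalk.section_eq_zero_of_weakAssPoint (Coh.structureModule X)
      (Groth.Agent.ModStalk.toUnit (a - b)) fun x hx hw => ?_
    rw [Groth.Agent.ModStalk.germ_toUnit_eq_zero_iff]
    have hxU : x ∈ U := h x ((Groth.Agent.ModStalk.isAssPoint_unit_iff x).mp
      ((Groth.Agent.ModStalk.isAssPoint_iff_isWeakAssPoint _ x).mpr hw))
    have hx' : x ∈ V ⊓ U := ⟨hx, hxU⟩
    rw [← X.presheaf.germ_res_apply (homOfLE (inf_le_left : V ⊓ U ≤ V)) x hx' (a - b), map_sub, hab,
      sub_self, map_zero]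

end Groth.Agent.S1699
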