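import Groth.Statements.S17005
import Groth.Agent.Misc9.QuadCentreAux
-- import your own Groth.Agent.* helpers here

set_option autoImplicit false
universe u
open scoped TensorProduct
open QuadGrp

namespace Groth.Agent.S17005

/-- Let Q be a non-degenerate quadratic form on R^n, n ≥ 3, over a commutative ring R (perfect polar
pairing for even n, unit half-discriminant in the standard basis for odd n). An isometry g of Q of
determinant one commutes, after base change to every R-algebra A, with every determinant-one
isometry of Q_A if and only if g is multiplication by a scalar whose square is one; for odd n such a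
scalar is 1 because the determinant of g is its n-th power. (Points-level form of: the functorial
centre of the naive special orthogonal group is the central μ₂ for even rank and trivial for odd
rank.) -/
theorem result (R : Type u) [CommRing R] (n : ℕ) (hn : 3 ≤ n)
    (Q : QuadraticForm R (Fin n → R))
    (hQ : QuadGrp.IsNondeg (Pi.basisFun R (Fin n)) (LinearEquiv.refl R R) Q)
    (g : (Fin n → R) ≃ₗ[R] (Fin n → R)) (hg : g ∈ QuadGrp.SO' Q) :
    (∀ (A : Type u) [CommRing A] [Algebra R A], ∀ h ∈ QuadGrp.sorth' Q A,
        g.baseChange R A (Fin n → R) (Fin n → R) * h = h * g.baseChange R A (Fin n → R) (Fin n → R)) ↔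
      ∃ c : R, c * c = 1 ∧ ∀ v, g v = c • v := by
  constructor
  · intro H
    have hs : ∃ c : R, ∀ v, g v = c • v := by
      rcases Nat.even_or_odd n with hev | hodd
      · obtain ⟨Xi, hXi⟩ := Misc9.QuadCentre.exists_inv_of_isRegular Q (hQ.1 hev)
        exact Misc9.QuadCentre.scalar_of_refl_refl Q hn Xi hXi g
          fun A _ _ v w c d hc hd => H A _ (Misc9.QuadCentre.refl_mul_mem_sorth' Q A v w c d hc hd)
      · refine Misc9.QuadCentre.scalar_of_refl Q (Misc9.QuadCentre.gr_nzd Q hn hQ) g
          fun A _ _ v c hc => ?_
        have h := H A _ (Misc9.QuadCentre.neg_refl_mem_sorth' Q hodd A v c hc)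
        apply LinearEquiv.ext
        intro x
        have e := LinearEquiv.congr_fun h x
        simp only [LinearEquiv.mul_apply, LinearEquiv.neg_apply, map_neg, neg_inj] at e
        exact e
    obtain ⟨c, hc⟩ := hs
    exact ⟨c, Misc9.QuadCentre.sq_eq_one Q g hg.1 c hc (Misc9.QuadCentre.gr_nzd Q hn hQ), hc⟩
  · rintro ⟨c, -, hc⟩ A _ _ h _
    exact Misc9.QuadCentre.smul_comm_hom A g c hc h

end Groth.Agent.S17005
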