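import Groth.Statements.S17006
import Groth.Agent.Misc9.QuadCentreAux
-- import your own Groth.Agent.* helpers here

set_option autoImplicit false
universe u
open scoped TensorProduct
open QuadGrp

namespace Groth.Agent.S17006

/-- Let Q be a quadratic form on R^{2m}, m ≥ 2, over a commutative ring R, whose polar form is a perfect
pairing. An isometry g of Q satisfying the Dickson condition commutes, after base change to every
R-algebra A, with every isometry of Q_A satisfying the Dickson condition if and only if g is
multiplication by a scalar whose square is one. (Points-level form of: for even rank at least 4 the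
functorial centre of the special orthogonal group is the central μ₂ and coincides with that of the
naive one.) -/
theorem result (R : Type u) [CommRing R] (m : ℕ) (hm : 2 ≤ m)
    (Q : QuadraticForm R (Fin (2 * m) → R)) (hQ : QuadGrp.IsRegular Q)
    (g : (Fin (2 * m) → R) ≃ₗ[R] (Fin (2 * m) → R)) (hg : g ∈ QuadGrp.SO Q) :
    (∀ (A : Type u) [CommRing A] [Algebra R A], ∀ h ∈ QuadGrp.sorth Q A,
        g.baseChange R A (Fin (2 * m) → R) (Fin (2 * m) → R) * h = h * g.baseChange R A (Fin (2 * m) → R) (Fin (2 * m) → R)) ↔
      ∃ c : R, c * c = 1 ∧ ∀ v, g v = c • v := by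
  constructor
  · intro H
    obtain ⟨Xi, hXi⟩ := Misc9.QuadCentre.exists_inv_of_isRegular Q hQ
    have hU : ∀ a : R, (∀ i j, a * Misc9.QuadCentre.gr Q i j = 0) → a = 0 := fun a ha =>
      Misc9.QuadCentre.gr_nzd Q (by omega)
        ⟨fun _ => hQ, fun h => absurd h (by simp)⟩ a ha
    obtain ⟨c, hc⟩ := Misc9.QuadCentre.scalar_of_refl_refl Q (by omega) Xi hXi g
      fun A _ _ v w c d hc hd => by
        rcases subsingleton_or_nontrivial A with hA | hA
        · apply LinearEquiv.ext
          intro x
          have := Module.subsingleton A (TensorProduct R A (Fin (2 * m) → R))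
          exact Subsingleton.elim _ _
        · exact H A _ (Misc9.QuadCentre.refl_mul_mem_sorth Q (even_two_mul m) A v w c d hc hd)
    have hgO : g ∈ QuadGrp.O Q := by
      rw [QuadGrp.SO] at hg
      split_ifs at hg
      · exact hg.1
      · exact hg.1
    exact ⟨c, Misc9.QuadCentre.sq_eq_one Q g hgO c hc hU, hc⟩
  · rintro ⟨c, -, hc⟩ A _ _ h _
    exact Misc9.QuadCentre.smul_comm_hom A g c hc h

end Groth.Agent.S17006
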