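import Groth.Statements.S1701
import Groth.Agent.BlowUpEC.Relative
import Groth.Agent.Locus.BaseChange
import Mathlib.RingTheory.Flat.Stability

set_option autoImplicit false
universe u
open CategoryTheory CategoryTheory.Limits AlgebraicGeometry TopologicalSpace
open SDiv

namespace Groth.Agent.S1701

open TensorProduct

/-- Let f : X ⟶ S be a morphism, 𝓘 the ideal sheaf of an effective Cartier divisor D ⊂ X such that D ⟶ S
is flat (a relative effective Cartier divisor), and x a point of D at which the local ring of X is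
Noetherian. Then f is flat at x. -/
theorem result {X S : Scheme.{u}} (f : X ⟶ S) (𝓘 : X.IdealSheafData)
    (hD : (BlowUp.IsEffCartierIdeal 𝓘 ∧ Flat (𝓘.subschemeι ≫ f))) (d : ↥𝓘.subscheme) [IsNoetherianRing (X.presheaf.stalk (𝓘.subschemeι d))] :
    (f.stalkMap (𝓘.subschemeι d)).hom.Flat := by
  let x := 𝓘.subschemeι d
  have := hD.2
  obtain ⟨_, ⟨V, hV, rfl⟩, hsV, -⟩ := S.isBasis_affineOpens.exists_subset_of_mem_open
    (Set.mem_univ (f x)) isOpen_univ
  obtain ⟨U, hxU, eU, a, ha, hU⟩ := Groth.Agent.BlowUpEC.exists_chart hD.1 x (f ⁻¹ᵁ V) hsV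
  rw [Groth.Agent.Locus.BaseChange.flat_stalkMap_iff V hV U.1 U.2 eU hxU]
  algebraize [(f.appLE V U.1 eU).hom]
  let q := (U.2.primeIdealOf ⟨x, hxU⟩).asIdeal
  letI : Algebra Γ(X, U.1) (X.presheaf.stalk x) := (X.presheaf.germ U.1 x hxU).hom.toAlgebra
  have : IsLocalization.AtPrime (X.presheaf.stalk x) q := U.2.isLocalization_stalk ⟨x, hxU⟩
  let Aq := Localization.AtPrime q
  have : IsNoetherianRing Aq := isNoetherianRing_of_ringEquiv (X.presheaf.stalk x)
    (Localization.algEquiv q.primeCompl (X.presheaf.stalk x)).symm.toRingEquiv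
  let a' : Aq := algebraMap Γ(X, U.1) Aq a
  have ha' : a' ∈ nonZeroDivisors Aq := by
    rw [mem_nonZeroDivisors_iff_right]
    intro y hy
    have h1 : IsSMulRegular Γ(X, U.1) a := fun b c h => (mul_cancel_left_mem_nonZeroDivisors ha).mp h
    have h2 : IsSMulRegular Aq a' := IsSMulRegular.of_flat h1
    exact h2 (a₁ := y) (a₂ := 0) (by simp only [smul_eq_mul, mul_zero]; rw [mul_comm]; exact hy)
  have hm : a' ∈ IsLocalRing.maximalIdeal Aq := by
    rw [← Localization.AtPrime.map_eq_maximalIdeal]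
    refine Ideal.mem_map_of_mem _ ?_
    by_contra hq
    have hx : x ∈ 𝓘.support := by
      show x ∈ (𝓘.support : Set X)
      rw [← 𝓘.range_subschemeι]
      exact ⟨d, rfl⟩
    rw [Scheme.IdealSheafData.mem_support_iff_of_mem hxU, hU, Scheme.zeroLocus_span,
      Scheme.zeroLocus_singleton] at hx
    apply hx
    have : U.2.primeIdealOf ⟨x, hxU⟩ ∈ U.2.fromSpec ⁻¹ᵁ X.basicOpen a := by
      rw [U.2.fromSpec_preimage_basicOpen]; exact hq
    have h2 : U.2.fromSpec (U.2.primeIdealOf ⟨x, hxU⟩) ∈ X.basicOpen a := this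
    rwa [U.2.fromSpec_primeIdealOf] at h2
  have hflat : Module.Flat Γ(S, V) (Γ(X, U.1) ⧸ Ideal.span {a}) :=
    hU ▸ Groth.Agent.BlowUpEC.flat_quotient f 𝓘 hV U eU
  have : Module.Flat Γ(S, V) (Aq ⧸ Ideal.span {a'}) := by
    have h1 : Module.Flat Γ(S, V) ((Γ(X, U.1) ⧸ Ideal.span {a}) ⊗[Γ(X, U.1)] Aq) :=
      Module.Flat.trans Γ(S, V) (Γ(X, U.1) ⧸ Ideal.span {a}) _
    rw [show Ideal.span {a'} = (Ideal.span {a}).map (algebraMap Γ(X, U.1) Aq) by
      rw [Ideal.map_span, Set.image_singleton]]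
    exact Module.Flat.of_linearEquiv
      (((Algebra.TensorProduct.quotIdealMapEquivTensorQuot Aq (Ideal.span {a})).toLinearEquiv.restrictScalars
          Γ(X, U.1)).trans (TensorProduct.comm Γ(X, U.1) _ _) |>.restrictScalars Γ(S, V))
  exact Groth.Agent.BlowUpEC.flat_of_local ha' hm

end Groth.Agent.S1701
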