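import Groth.Statements.S1704
import Groth.Agent.ModStalk.Localization

set_option autoImplicit false
universe u
open CategoryTheory CategoryTheory.Limits AlgebraicGeometry TopologicalSpace
open SDiv

namespace Groth.Agent.S1704

/-- Let X be a locally Noetherian scheme and F a quasi-coherent module. Then F is zero if and only if F
has no associated point. -/
theorem result (X : Scheme.{u}) [IsLocallyNoetherian X] (F : X.Modules) (hF : Coh.IsQCoh F) :
    IsZero F ↔ ∀ x : ↥X, ¬ Curv2.IsAssPoint F x := by
  have := hF
  constructor
  · intro hz x hx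
    obtain ⟨hp, m, hm⟩ := hx
    obtain ⟨U, hxU, s, rfl⟩ := F.presheaf.exists_germ_eq (x := x) m
    have hs : s = 0 := by
      have h := congrArg (fun f => Scheme.Modules.Hom.app f U s) ((IsZero.iff_id_eq_zero F).mp hz)
      exact h
    refine hp.ne_top ?_
    rw [hm, Ideal.radical_eq_top, Ideal.eq_top_iff_one, hs, map_zero]
    exact Submodule.mem_colon_singleton.mpr (by simp)
  · intro h
    exact Groth.Agent.ModStalk.isZero_of_forall_section F fun x hw =>
      h x ((Groth.Agent.ModStalk.isAssPoint_iff_isWeakAssPoint F x).mpr hw)

end Groth.Agent.S1704
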