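import Groth.Statements.S1707
import Groth.Agent.ModStalk.Localization

set_option autoImplicit false
universe u
open CategoryTheory CategoryTheory.Limits AlgebraicGeometry TopologicalSpace
open SDiv

namespace Groth.Agent.S1707

/-- Let X be a scheme, F a quasi-coherent module and x a point of the support of F such that no other
point of the support specializes to x. Then x is weakly associated to F. -/
theorem result (X : Scheme.{u}) (F : X.Modules) (hF : Coh.IsQCoh F) (x : ↥X)
    (hx : x ∈ CohB1.support F) (hmax : ∀ y : ↥X, y ∈ CohB1.support F → y ⤳ x → y = x) : Curv2.IsWeakAssPoint F x := by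
  have := hF
  obtain ⟨m, hm⟩ : ∃ m : F.presheaf.stalk x, m ≠ 0 := by
    by_contra h
    push Not at h
    exact hx (subsingleton_of_forall_eq 0 h)
  obtain ⟨U, hxU, s, rfl⟩ := F.presheaf.exists_germ_eq (x := x) m
  obtain ⟨W, hW, hxW, hWU⟩ := X.isBasis_affineOpens.exists_subset_of_mem_open hxU U.isOpen
  obtain ⟨V, hV, rfl⟩ := hW
  replace hWU : V ≤ U := hWU
  obtain ⟨y, hyx, hy, hw⟩ := Groth.Agent.ModStalk.exists_isWeakAssPoint hV F ⟨x, hxW⟩
    (F.presheaf.map (homOfLE hWU).op s) (by rw [TopCat.Presheaf.germ_res_apply]; exact hm)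
  have hys : y.1 ∈ CohB1.support F := fun hsub => hy (Subsingleton.elim _ _)
  exact hmax y.1 hys hyx ▸ hw

end Groth.Agent.S1707
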