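import Groth.Statements.S1709
import Groth.Agent.ModStalk.DepthTwo

set_option autoImplicit false
universe u
open CategoryTheory CategoryTheory.Limits AlgebraicGeometry TopologicalSpace
open SDiv

namespace Groth.Agent.S1709

/-- Let f : X ⟶ S be an affine morphism with X locally Noetherian and F a quasi-coherent module on X.
Then the following subsets of S coincide: the image of the associated points of F, the associated
points of f_* F, the weakly associated points of f_* F, and the image of the weakly associated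
points of F. -/
theorem result {X S : Scheme.{u}} (f : X ⟶ S) [IsAffineHom f] [IsLocallyNoetherian X] (F : X.Modules)
    (hF : Coh.IsQCoh F) :
    (fun x => f x) '' {x : ↥X | Curv2.IsAssPoint F x} = {s : ↥S | Curv2.IsAssPoint ((Scheme.Modules.pushforward f).obj F) s} ∧
      {s : ↥S | Curv2.IsAssPoint ((Scheme.Modules.pushforward f).obj F) s} =
        {s : ↥S | Curv2.IsWeakAssPoint ((Scheme.Modules.pushforward f).obj F) s} ∧
      {s : ↥S | Curv2.IsWeakAssPoint ((Scheme.Modules.pushforward f).obj F) s} =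
        (fun x => f x) '' {x : ↥X | Curv2.IsWeakAssPoint F x} := by
  have := hF
  have hiff : {s : ↥S | Curv2.IsAssPoint ((Scheme.Modules.pushforward f).obj F) s} =
      {s : ↥S | Curv2.IsWeakAssPoint ((Scheme.Modules.pushforward f).obj F) s} := by
    ext s; exact Groth.Agent.ModStalk.isAssPoint_iff_isWeakAssPoint _ s
  have hset : {x : ↥X | Curv2.IsAssPoint F x} = {x : ↥X | Curv2.IsWeakAssPoint F x} := by
    ext x; exact Groth.Agent.ModStalk.isAssPoint_iff_isWeakAssPoint F x
  suffices h1 : (fun x => f x) '' {x : ↥X | Curv2.IsAssPoint F x} =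
      {s : ↥S | Curv2.IsAssPoint ((Scheme.Modules.pushforward f).obj F) s} from
    ⟨h1, hiff, hiff.symm.trans (h1.symm.trans (congrArg _ hset))⟩
  ext s
  refine ⟨?_, fun hs => ?_⟩
  · rintro ⟨x, hx, rfl⟩
    obtain ⟨_, ⟨U, hU, rfl⟩, hxU, -⟩ :=
      S.isBasis_affineOpens.exists_subset_of_mem_open (Set.mem_univ (f x)) isOpen_univ
    have hxW : x ∈ f ⁻¹ᵁ U := hxU
    have hW : IsAffineOpen (f ⁻¹ᵁ U) := hU.preimage f
    have : IsNoetherianRing Γ(X, f ⁻¹ᵁ U) := IsLocallyNoetherian.component_noetherian ⟨_, hW⟩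
    obtain ⟨-, n, hn⟩ := Groth.Agent.ModStalk.primeIdealOf_mem_associatedPrimes hW F ⟨x, hxW⟩ hx
    refine (Groth.Agent.ModStalk.isAssPoint_iff_isWeakAssPoint _ _).mpr
      (Groth.Agent.ModStalk.isWeakAssPoint_push_of f F hU x hxW n (fun h0 => ?_) fun y hy hyx hne => ?_)
    · obtain ⟨d, hd, hd0⟩ := Groth.Agent.ModStalk.exists_smul_eq_zero_of_germ F hW x hxW n h0
      refine (Groth.Agent.ModStalk.germ_mem_primeIdeal_iff hW ⟨x, hxW⟩ d).mpr hd ?_
      rw [hn]
      exact Ideal.le_radical (by simpa [Submodule.mem_colon_singleton] using hd0)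
    · obtain ⟨g, hg, hgy⟩ := SetLike.not_le_iff_exists.mp fun h' => hne
        (Groth.Agent.ModStalk.eq_of_primeIdeal_eq hU (x := ⟨f x, hxU⟩) (y := ⟨y, hy⟩) (le_antisymm
          (Groth.Agent.ModStalk.primeIdeal_le_of_specializes hU (x := ⟨f x, hxU⟩) (y := ⟨y, hy⟩) hyx) h'))
      rw [← IsAffineOpen.comap_primeIdealOf_appLE U hU _ hW le_rfl hxW] at hg
      have hg' : f.app U g ∈ (hW.primeIdealOf ⟨x, hxW⟩).asIdeal := by
        rw [← Scheme.Hom.appLE_eq_app]; exact hg
      rw [hn] at hg'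
      obtain ⟨k, hk⟩ := hg'
      rw [Submodule.mem_colon_singleton, Submodule.mem_bot] at hk
      refine ⟨U ⊓ S.basicOpen g, ⟨hy, (Groth.Agent.ModStalk.germ_mem_primeIdeal_iff hU ⟨y, hy⟩ g).mp hgy⟩,
        fun z hz hzV => ?_⟩
      have h1 := congrArg (F.presheaf.germ _ z hz) hk
      rw [Groth.Agent.ModStalk.germ_smul, map_zero, map_pow] at h1
      have hz' : z ∈ X.basicOpen (f.app U g) := (Scheme.preimage_basicOpen f g).le hzV.2
      exact (((Scheme.mem_basicOpen _ _ _ hz).mp hz').pow k).smul_eq_zero.mp h1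
  · obtain ⟨x, hx, hw⟩ := Groth.Agent.ModStalk.exists_weakAssPoint_of_push f F s
      ((Groth.Agent.ModStalk.isAssPoint_iff_isWeakAssPoint _ s).mp hs)
    exact ⟨x, (Groth.Agent.ModStalk.isAssPoint_iff_isWeakAssPoint F x).mpr hw, hx⟩

end Groth.Agent.S1709
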