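import Groth.Statements.S17247
import Groth.Agent.FunFldLib.Order

set_option autoImplicit false
open FunFld

namespace Groth.Agent.S17247
open Groth.Agent.FunFldLib


/-- Let `K/k` be a function field of one variable of genus one over an algebraically closed field `k` of
characteristic zero (an elliptic curve `E`), `A` a place, and `g ≥ 3` an odd integer. Inside
`H⁰(O_E((2g-2)A)) = L((2g-2)A)` consider `V = L(gA)` (dimension `g`) and any hyperplane `V₁` of it
containing `L((g-2)A)`: `L((g-2)A) ⊆ V₁ ⊆ L(gA)`, `dim V₁ = g - 1`. Vanishing orders are those of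
sections of `O_E((2g-2)A)`: a member `f` vanishes to order at least `n` at a place `Q` when `f ∈
L((2g-2)A - nQ)`, and the weight of `V₁` at `Q` is `∑_{n=1}^{2g-2} dim (V₁ ∩ L((2g-2)A - nQ)) - (g-1
choose 2)` (the sum of the `g - 1` vanishing orders minus `0 + 1 + ⋯ + (g-2)`). Then the weight of
`V₁` at every place `Q ≠ A` is at most `2`. (The published statement is for a smooth elliptic curve
over the complex numbers and allows every odd positive `g`; for `g = 1` the inclusion `O(gA) ⊆
O((2g-2)A)` it uses fails, so `g ≥ 3` here.) -/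
theorem result
    (k K : Type*) [Field k] [IsAlgClosed k] [CharZero k] [Field K] [Algebra k K]
    (hK : FunFld.IsFunctionField k K) (hg1 : FunFld.genus k K = 1)
    (g : ℕ) (hodd : Odd g) (h3 : 3 ≤ g) (A : FunFld.Place k K)
    (V₁ : Submodule k K) (hlo : FunFld.L (Finsupp.single A ((g : ℤ) - 2)) ≤ V₁)
    (hhi : V₁ ≤ FunFld.L (Finsupp.single A (g : ℤ))) (hdim : Module.finrank k ↥V₁ + 1 = g)
    (Q : FunFld.Place k K) (hQ : Q ≠ A) :
    (∑ n ∈ Finset.range (2 * g - 2), Module.finrank k
        ↥(V₁ ⊓ FunFld.L (Finsupp.single A (2 * (g : ℤ) - 2) - Finsupp.single Q ((n : ℤ) + 1)))) ≤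
      (g - 1).choose 2 + 2 := by
  classical
  have h1 : ∀ R : FunFld.Place k K, R.deg = 1 := deg_eq_one hK
  have hfin := finiteDimensional_of_le_L hK hhi
  let W : ℤ → Submodule k K := fun n => V₁ ⊓ FunFld.L (Finsupp.single A (g : ℤ) - Finsupp.single Q n)
  have hW : ∀ n : ℤ, V₁ ⊓ FunFld.L (Finsupp.single A (2 * (g : ℤ) - 2) - Finsupp.single Q n) = W n := fun n => by
    refine le_antisymm (fun x hx => ⟨hx.1, fun R => ?_⟩) (inf_le_inf_left _ (L_mono (sub_le_sub_right (Finsupp.single_le_single.2 (by omega)) _)))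
    rcases eq_or_ne R Q with rfl | hR
    · simpa [Finsupp.single_eq_of_ne hQ] using hx.2 R
    · simpa [Finsupp.single_eq_of_ne hR] using hhi hx.1 R
  refine (Finset.sum_congr rfl fun n _ => by rw [hW]).trans_le (?_ : ∑ n ∈ Finset.range (2 * g - 2), Module.finrank k ↥(W ((n : ℤ) + 1)) ≤ _)
  let δ : ℕ := FunFld.ell (Finsupp.single A ((g : ℤ) - 2) - Finsupp.single Q ((g : ℤ) - 2))
  let η : ℕ := FunFld.ell (Finsupp.single A (g : ℤ) - Finsupp.single Q (g : ℤ))
  have hle0 : ∀ E : FunFld.Divisor k K, E.deg = 0 → FunFld.ell E ≤ 1 := fun E hE =>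
    ell_le_one_of_deg_one hK (by omega) h1 (by omega)
  have hδη : δ + η ≤ 1 := by
    by_contra hlt
    have a1 : δ ≤ 1 := hle0 _ (by simp only [deg_sub, deg_single, h1]; ring)
    have a2 : η ≤ 1 := hle0 _ (by simp only [deg_sub, deg_single, h1]; ring)
    obtain ⟨y, hy0, hy⟩ := exists_mem_L hK (D := Finsupp.single A ((g : ℤ) - 2) - Finsupp.single Q ((g : ℤ) - 2))
      (show 0 < δ by omega)
    obtain ⟨z, hz0, hz⟩ := exists_mem_L hK (D := Finsupp.single A (g : ℤ) - Finsupp.single Q (g : ℤ))
      (show 0 < η by omega)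
    have hy' := (deg_mono_aux (deg_pos hK) hy).2 (by simp only [deg_zero, deg_add, deg_div hK.1, deg_sub, deg_single, h1]; ring)
    have hz' := (deg_mono_aux (deg_pos hK) hz).2 (by simp only [deg_zero, deg_add, deg_div hK.1, deg_sub, deg_single, h1]; ring)
    obtain ⟨q, hq⟩ := hodd
    refine hQ (places_eq hK (by omega) (h1 Q) (h1 A) ((z / y) ^ q * z⁻¹)⁻¹
      (inv_ne_zero (mul_ne_zero (pow_ne_zero _ (div_ne_zero hz0 hy0)) (inv_ne_zero hz0))) ?_)
    ext R
    have ey : R.ord y = -((Finsupp.single A ((g : ℤ) - 2) - Finsupp.single Q ((g : ℤ) - 2) : FunFld.Divisor k K) R) := by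
      have := congrArg (fun X : FunFld.Divisor k K => X R) hy'
      simp only [Finsupp.add_apply, Finsupp.coe_zero, Pi.zero_apply, div_apply hK.1] at this
      omega
    have ez : R.ord z = -((Finsupp.single A (g : ℤ) - Finsupp.single Q (g : ℤ) : FunFld.Divisor k K) R) := by
      have := congrArg (fun X : FunFld.Divisor k K => X R) hz'
      simp only [Finsupp.add_apply, Finsupp.coe_zero, Pi.zero_apply, div_apply hK.1] at this
      omega
    rw [div_inv hK, Finsupp.neg_apply, div_apply hK.1, ord_mul R (pow_ne_zero _ (div_ne_zero hz0 hy0)) (inv_ne_zero hz0),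
      ord_pow R (div_ne_zero hz0 hy0), div_eq_mul_inv, ord_mul R hz0 (inv_ne_zero hy0), ord_inv, ord_inv, ey, ez]
    simp only [Finsupp.sub_apply, Finsupp.single_apply, hq]
    split_ifs <;> push_cast <;> ring
  let e : ℕ → ℕ := fun n => (g - 1 - (n + 1)) + (if n + 1 = g - 2 then δ else 0) + (if n + 1 = g - 1 then 1 else 0) + (if n + 1 = g then η else 0)
  have key : ∀ n ∈ Finset.range (2 * g - 2), Module.finrank k ↥(W ((n : ℤ) + 1)) ≤ e n := by
    intro n _
    have hWle : W ((n : ℤ) + 1) ≤ V₁ := inf_le_left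
    have := finite_L hK (Finsupp.single A (g : ℤ) - Finsupp.single Q ((n : ℤ) + 1))
    have h2 : Module.finrank k ↥(W ((n : ℤ) + 1)) ≤ FunFld.ell (Finsupp.single A (g : ℤ) - Finsupp.single Q ((n : ℤ) + 1)) :=
      Submodule.finrank_mono inf_le_right
    rcases (show n + 1 ≤ g - 2 ∨ n + 1 = g - 1 ∨ n + 1 = g ∨ g + 1 ≤ n + 1 by omega) with h | h | h | h
    · -- the part of `L((g-2)A)`
      set U := FunFld.L (Finsupp.single A ((g : ℤ) - 2))
      have : FiniteDimensional k ↥(W ((n : ℤ) + 1)) := Submodule.finiteDimensional_of_le hWle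
      have : FiniteDimensional k U := finite_L hK _
      have h3 := Submodule.finrank_sup_add_finrank_inf_eq (W ((n : ℤ) + 1)) U
      have h4 := Submodule.finrank_mono (sup_le hWle hlo)
      have hsub : W ((n : ℤ) + 1) ⊓ U ≤ FunFld.L (Finsupp.single A ((g : ℤ) - 2) - Finsupp.single Q ((n : ℤ) + 1)) := fun x hx R => by
        rcases eq_or_ne R Q with rfl | hR
        · simpa [Finsupp.single_eq_of_ne hQ] using hx.1.2 R
        · simpa [Finsupp.single_eq_of_ne hR] using hx.2 R
      have := finite_L hK (Finsupp.single A ((g : ℤ) - 2) - Finsupp.single Q ((n : ℤ) + 1))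
      have h5 : Module.finrank k ↥(W ((n : ℤ) + 1) ⊓ U) ≤ FunFld.ell (Finsupp.single A ((g : ℤ) - 2) - Finsupp.single Q ((n : ℤ) + 1)) :=
        Submodule.finrank_mono hsub
      have h6 := ell_eq_of_large hK (D := Finsupp.single A ((g : ℤ) - 2)) (by rw [deg_single, h1, hg1]; push_cast; omega)
      rw [deg_single, h1, hg1] at h6
      have h6' : (Module.finrank k U : ℤ) = ((g : ℤ) - 2) := by
        show (FunFld.ell (Finsupp.single A ((g : ℤ) - 2)) : ℤ) = _
        push_cast at h6; omega
      rcases (show n + 1 < g - 2 ∨ n + 1 = g - 2 by omega) with hn | hn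
      · have h7 := ell_eq_of_large hK (D := Finsupp.single A ((g : ℤ) - 2) - Finsupp.single Q ((n : ℤ) + 1))
          (by simp only [deg_sub, deg_single, h1, hg1]; push_cast; omega)
        simp only [deg_sub, deg_single, h1, hg1] at h7
        simp only [e, if_neg (show ¬ n + 1 = g - 2 by omega), if_neg (show ¬ n + 1 = g - 1 by omega), if_neg (show ¬ n + 1 = g by omega)]
        push_cast at h7
        omega
      · have e' : (n : ℤ) + 1 = (g : ℤ) - 2 := by omega
        rw [e'] at h5 h3 h4 h2 ⊢
        simp only [e, if_pos hn, if_neg (show ¬ n + 1 = g - 1 by omega), if_neg (show ¬ n + 1 = g by omega)]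
        have h8 : Module.finrank k ↥(W ((g : ℤ) - 2) ⊓ U) ≤ δ := h5
        omega
    · have h7 := ell_eq_of_large hK (D := Finsupp.single A (g : ℤ) - Finsupp.single Q ((n : ℤ) + 1))
        (by simp only [deg_sub, deg_single, h1, hg1]; push_cast; omega)
      simp only [deg_sub, deg_single, h1, hg1] at h7
      simp only [e, if_neg (show ¬ n + 1 = g - 2 by omega), if_pos h, if_neg (show ¬ n + 1 = g by omega)]
      push_cast at h7
      omega
    · have e' : (n : ℤ) + 1 = (g : ℤ) := by omega
      rw [e'] at h2 ⊢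
      simp only [e, if_neg (show ¬ n + 1 = g - 2 by omega), if_neg (show ¬ n + 1 = g - 1 by omega), if_pos h]
      have h8 : Module.finrank k ↥(W (g : ℤ)) ≤ η := h2
      omega
    · have h7 := ell_eq_zero_of_deg_neg hK (D := Finsupp.single A (g : ℤ) - Finsupp.single Q ((n : ℤ) + 1))
        (by simp only [deg_sub, deg_single, h1]; push_cast; omega)
      omega
  refine (Finset.sum_le_sum key).trans ?_
  simp only [e, Finset.sum_add_distrib]
  have s : ∑ n ∈ Finset.range (2 * g - 2), (g - 1 - (n + 1)) = (g - 1).choose 2 := by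
    rw [show 2 * g - 2 = (g - 1) + (g - 1) by omega, Finset.sum_range_add,
      Finset.sum_eq_zero (s := Finset.range (g - 1)) (f := fun x => g - 1 - (g - 1 + x + 1)) (fun x _ => by omega), add_zero,
      Nat.choose_two_right, ← Finset.sum_range_id, ← Finset.sum_range_reflect (fun i => i)]
    exact Finset.sum_congr rfl fun x _ => by omega
  have one : ∀ (c v : ℕ), (∑ n ∈ Finset.range (2 * g - 2), if n + 1 = c then v else 0) ≤ v := fun c v => by
    rw [← Finset.sum_filter, Finset.sum_const, smul_eq_mul]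
    refine (Nat.mul_le_mul_right v (Finset.card_le_one.2 fun a ha b hb => ?_)).trans_eq (one_mul v)
    simp only [Finset.mem_filter] at ha hb; omega
  have := one (g - 2) δ
  have := one (g - 1) 1
  have := one g η
  omega

end Groth.Agent.S17247
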