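import Groth.Statements.S17248
import Groth.Agent.FunFldLib.Order

set_option autoImplicit false
open FunFld

namespace Groth.Agent.S17248
open Groth.Agent.FunFldLib


/-- Let `K/k` be a function field of one variable of genus one over an algebraically closed field `k` of
characteristic zero (an elliptic curve `E`), `A` a place, and `g ≥ 3` an integer. Inside
`H⁰(O_E((2g-2)A)) = L((2g-2)A)` consider `V = L(gA)` (dimension `g`) and any hyperplane `V₁` of it
containing `L((g-2)A)`: `L((g-2)A) ⊆ V₁ ⊆ L(gA)`, `dim V₁ = g - 1`. Vanishing orders are those of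
sections of `O_E((2g-2)A)`: a member `f` vanishes to order at least `n` at a place `Q` when `f ∈
L((2g-2)A - nQ)`, and the weight of `V₁` at `Q` is `∑_{n=1}^{2g-2} dim (V₁ ∩ L((2g-2)A - nQ)) - (g-1
choose 2)` (the sum of the `g - 1` vanishing orders minus `0 + 1 + ⋯ + (g-2)`). Then the weight of
`V₁` at `A` is `(g-1)² + ε` with `ε ∈ {0, 1}`. (The published statement is for a smooth elliptic
curve over the complex numbers and `g` odd positive; `g ≥ 3` here since the ambient inclusion needs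
it; this row does not assume `g` odd.) -/
theorem result
    (k K : Type*) [Field k] [IsAlgClosed k] [CharZero k] [Field K] [Algebra k K]
    (hK : FunFld.IsFunctionField k K) (hg1 : FunFld.genus k K = 1)
    (g : ℕ) (h3 : 3 ≤ g) (A : FunFld.Place k K)
    (V₁ : Submodule k K) (hlo : FunFld.L (Finsupp.single A ((g : ℤ) - 2)) ≤ V₁)
    (hhi : V₁ ≤ FunFld.L (Finsupp.single A (g : ℤ))) (hdim : Module.finrank k ↥V₁ + 1 = g) :
    ∃ ε : ℕ, ε ≤ 1 ∧
      (∑ n ∈ Finset.range (2 * g - 2), Module.finrank k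
        ↥(V₁ ⊓ FunFld.L (Finsupp.single A (2 * (g : ℤ) - 2) - Finsupp.single A ((n : ℤ) + 1)))) =
      (g - 1).choose 2 + (g - 1) ^ 2 + ε := by
  classical
  have h1 : ∀ R : FunFld.Place k K, R.deg = 1 := deg_eq_one hK
  let f : ℤ → ℕ := fun m => Module.finrank k ↥(V₁ ⊓ FunFld.L (Finsupp.single A m))
  have hfin := finiteDimensional_of_le_L hK hhi
  have hell : ∀ m : ℤ, 1 ≤ m → (FunFld.ell (Finsupp.single A m : FunFld.Divisor k K) : ℤ) = m := fun m hm => by
    have := ell_eq_of_large hK (D := Finsupp.single A m) (by rw [deg_single, h1, hg1]; push_cast; omega)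
    rw [deg_single, h1, hg1] at this
    push_cast at this; omega
  have flo : ∀ m : ℤ, 1 ≤ m → m ≤ (g : ℤ) - 2 → (f m : ℤ) = m := fun m hm hm' => by
    show (Module.finrank k ↥(V₁ ⊓ FunFld.L (Finsupp.single A m)) : ℤ) = m
    rw [inf_eq_right.2 ((L_mono (Finsupp.single_le_single.2 hm')).trans hlo)]
    exact hell m hm
  have fhi : ∀ m : ℤ, (g : ℤ) ≤ m → f m + 1 = g := fun m hm => by
    show Module.finrank k ↥(V₁ ⊓ FunFld.L (Finsupp.single A m)) + 1 = g
    rw [inf_eq_left.2 (hhi.trans (L_mono (Finsupp.single_le_single.2 hm)))]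
    exact hdim
  have f0 : f 0 = 1 := by
    have e : (Finsupp.single A (0 : ℤ) : FunFld.Divisor k K) = 0 := Finsupp.single_zero _
    show Module.finrank k ↥(V₁ ⊓ FunFld.L (Finsupp.single A (0 : ℤ))) = 1
    rw [e, inf_eq_right.2 ((L_mono (Finsupp.single_nonneg.2 (by omega) : (0 : FunFld.Divisor k K) ≤ Finsupp.single A ((g : ℤ) - 2))).trans hlo)]
    exact ell_zero hK
  have fmid1 : g - 2 ≤ f ((g : ℤ) - 1) := by
    have h2 : f ((g : ℤ) - 2) ≤ f ((g : ℤ) - 1) := by
      have : FiniteDimensional k ↥(V₁ ⊓ FunFld.L (Finsupp.single A ((g : ℤ) - 1))) := Submodule.finiteDimensional_of_le inf_le_left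
      exact Submodule.finrank_mono (inf_le_inf_left _ (L_mono (Finsupp.single_le_single.2 (by omega))))
    have := flo ((g : ℤ) - 2) (by omega) le_rfl
    omega
  have fmid2 : f ((g : ℤ) - 1) ≤ g - 1 := by
    have := Submodule.finrank_mono (inf_le_left : V₁ ⊓ FunFld.L (Finsupp.single A ((g : ℤ) - 1)) ≤ V₁)
    simp only [f]; omega
  refine ⟨f ((g : ℤ) - 1) - (g - 2), by omega, ?_⟩
  have hsum : (∑ n ∈ Finset.range (2 * g - 2), Module.finrank k
      ↥(V₁ ⊓ FunFld.L (Finsupp.single A (2 * (g : ℤ) - 2) - Finsupp.single A ((n : ℤ) + 1)))) =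
      ∑ m ∈ Finset.range (2 * g - 2), f m := by
    rw [← Finset.sum_range_reflect (fun m : ℕ => f m)]
    refine Finset.sum_congr rfl fun n hn => ?_
    rw [Finset.mem_range] at hn
    have e : ((2 * g - 2 - 1 - n : ℕ) : ℤ) = 2 * (g : ℤ) - 2 - ((n : ℤ) + 1) := by omega
    show _ = Module.finrank k ↥(V₁ ⊓ FunFld.L (Finsupp.single A ((2 * g - 2 - 1 - n : ℕ) : ℤ)))
    rw [e, Finsupp.single_sub A (2 * (g : ℤ) - 2) ((n : ℤ) + 1)]
  rw [hsum, show 2 * g - 2 = (g - 1) + 1 + (g - 2) by omega, Finset.sum_range_add, Finset.sum_range_succ]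
  have s1 : ∑ m ∈ Finset.range (g - 1), f m = 1 + (g - 1).choose 2 := by
    have hc : ∀ N : ℕ, N ≤ g - 1 → 1 ≤ N → ∑ m ∈ Finset.range N, f m = 1 + N.choose 2 := by
      intro N
      induction N with
      | zero => omega
      | succ N ih =>
        intro hN hN1
        rcases Nat.eq_zero_or_pos N with rfl | h
        · simp [f0]
        · rw [Finset.sum_range_succ, ih (by omega) h, show (N + 1).choose 2 = N.choose 1 + N.choose 2 from Nat.choose_succ_succ' N 1, Nat.choose_one_right]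
          have := flo N (by omega) (by omega)
          omega
    exact hc (g - 1) le_rfl (by omega)
  have s2 : ∑ i ∈ Finset.range (g - 2), f ((g - 1 + 1 + i : ℕ) : ℤ) = (g - 2) * (g - 1) := by
    rw [Finset.sum_congr rfl (fun i _ => (by have := fhi ((g - 1 + 1 + i : ℕ) : ℤ) (by omega); omega :
      f ((g - 1 + 1 + i : ℕ) : ℤ) = g - 1))]
    simp
  have e1 : ((g - 1 : ℕ) : ℤ) = (g : ℤ) - 1 := by omega
  rw [s1, s2, e1]
  obtain ⟨q, rfl⟩ : ∃ q, g = q + 3 := ⟨g - 3, by omega⟩
  simp only [show q + 3 - 1 = q + 2 by omega, show q + 3 - 2 = q + 1 by omega] at *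
  have : (q + 2) ^ 2 = (q + 1) * (q + 2) + (q + 2) := by ring
  omega

end Groth.Agent.S17248
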