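import Groth.Statements.S17249
import Groth.Agent.FunFldLib.Order

set_option autoImplicit false
open FunFld

namespace Groth.Agent.S17249
open Groth.Agent.FunFldLib


/-- Let `K/k` be a function field of one variable of genus two over an algebraically closed field `k` of
characteristic zero (a smooth curve `X` of genus `2`), `C` a canonical divisor, `A` a place with
`ℓ(2A) = 1` (not a Weierstrass point), and `P`, `Q` places with `Q ≠ A`. Then `ℓ(C + 2A - P - 3Q) =
1` and `ℓ(C + 2A - P - Q) = 2` do not both hold: the two-dimensional complete system `H⁰(ω_X(2A -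
P))` (of degree `3`) has no point `Q ≠ A` of weight three. (The published statement concerns a
general pointed curve `(X, A)` of genus two over the complex numbers and a point `P` of `X`; this
row assumes only `ℓ(2A) = 1`.) -/
theorem result
    (k K : Type*) [Field k] [IsAlgClosed k] [CharZero k] [Field K] [Algebra k K]
    (hK : FunFld.IsFunctionField k K) (hg : FunFld.genus k K = 2)
    (C : FunFld.Divisor k K) (hC : FunFld.IsCanonical k K C)
    (A P Q : FunFld.Place k K) (hA : Module.finrank k ↥(FunFld.L (Finsupp.single A (2 : ℤ))) = 1) (hQ : Q ≠ A) :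
    ¬ (Module.finrank k ↥(FunFld.L (C + Finsupp.single A (2 : ℤ) - Finsupp.single P (1 : ℤ) - Finsupp.single Q (3 : ℤ))) = 1 ∧
       Module.finrank k ↥(FunFld.L (C + Finsupp.single A (2 : ℤ) - Finsupp.single P (1 : ℤ) - Finsupp.single Q (1 : ℤ))) = 2) := by
  classical
  have h1 : ∀ R : FunFld.Place k K, R.deg = 1 := deg_eq_one hK
  rintro ⟨e1, e2⟩
  set E1 := C + Finsupp.single A (2 : ℤ) - Finsupp.single P (1 : ℤ) - Finsupp.single Q (3 : ℤ)
  set E2 := C + Finsupp.single A (2 : ℤ) - Finsupp.single P (1 : ℤ) - Finsupp.single Q (1 : ℤ)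
  obtain ⟨hCl, hCd⟩ := deg_canonical hK hC
  -- `E2` is canonical, so `2A ~ P + Q`
  have r2 := riemann_roch hK hC E2
  have d2 : E2.deg = 2 := by simp only [E2, deg_sub, deg_add, deg_single, h1, hCd, hg]; norm_num
  obtain ⟨z, hz0, hz⟩ := exists_mem_L hK (show 0 < FunFld.ell (C - E2) by
    rw [show (FunFld.ell E2 : ℤ) = 2 by rw [show FunFld.ell E2 = 2 from e2]; rfl, d2, hg] at r2
    omega)
  have hz' : C - E2 + FunFld.div k z = 0 := ((deg_mono_aux (deg_pos hK) hz).2 (by
    rw [deg_zero, deg_add, deg_sub, deg_div hK, d2, hCd, hg]; norm_num)).symm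
  -- hence `P + Q = 2A + div z⁻¹`
  set F : FunFld.Divisor k K := Finsupp.single P 1 + Finsupp.single Q 1
  have hF : F = Finsupp.single A (2 : ℤ) + FunFld.div k z⁻¹ := by
    rw [div_inv hK, ← sub_eq_zero, ← hz']; simp only [E2, F]; abel
  have hF0 : 0 ≤ F := add_nonneg (Finsupp.single_nonneg.2 zero_le_one) (Finsupp.single_nonneg.2 zero_le_one)
  have hb := base_point hK (P := A) (inv_ne_zero hz0) hF hF0 (le_antisymm (ell_mono hK (sub_le_self _ (Finsupp.single_nonneg.2 zero_le_one))) (by
    rw [show FunFld.ell (Finsupp.single A (2 : ℤ)) = 1 from hA]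
    have := ell_mono hK (show (0 : FunFld.Divisor k K) ≤ Finsupp.single A (2 : ℤ) - Finsupp.single A 1 by
      rw [← Finsupp.single_sub]; exact Finsupp.single_nonneg.2 (by norm_num))
    rwa [ell_zero hK] at this))
  have hPA : P = A := by
    by_contra hne
    simp [F, Finsupp.single_eq_of_ne (Ne.symm hQ), Finsupp.single_eq_of_ne (Ne.symm hne)] at hb
  -- so `A ~ Q`
  have := places_eq hK (by omega) (h1 Q) (h1 A) z⁻¹ (inv_ne_zero hz0) (by
    have : FunFld.div k z⁻¹ = F - Finsupp.single A (2 : ℤ) := by rw [hF]; abel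
    rw [this]
    simp only [F, hPA, show (2 : ℤ) = 1 + 1 by norm_num, Finsupp.single_add]
    abel)
  exact hQ this

end Groth.Agent.S17249
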