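import Groth.Statements.S17250
import Groth.Agent.FunFldLib.Order

set_option autoImplicit false
open FunFld

namespace Groth.Agent.S17250
open Groth.Agent.FunFldLib


/-- Let `K/k` be a function field of one variable of genus two over an algebraically closed field `k` of
characteristic zero (a smooth curve `X` of genus `2`), `C` a canonical divisor, `A` a place with
`ℓ(2A) = 1`, and `P`, `Q` places different from `A`. Then `ℓ(C + 3A - P - 4Q) = 1` and `ℓ(C + 3A - P
- 2Q) = 2` do not both hold (the three-dimensional complete system `H⁰(ω_X(3A - P))`, of degree `4`,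
has no point `Q ≠ A` with two independent sections vanishing to order at least `2` there and one
vanishing to order at least `4`). (The published statement concerns a general pointed curve `(X, A)`
of genus two over the complex numbers and a point `P ≠ A`; this row assumes `ℓ(2A) = 1` in place of
generality.) -/
theorem result
    (k K : Type*) [Field k] [IsAlgClosed k] [CharZero k] [Field K] [Algebra k K]
    (hK : FunFld.IsFunctionField k K) (hg : FunFld.genus k K = 2)
    (C : FunFld.Divisor k K) (hC : FunFld.IsCanonical k K C)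
    (A P Q : FunFld.Place k K) (hA : Module.finrank k ↥(FunFld.L (Finsupp.single A (2 : ℤ))) = 1) (hP : P ≠ A) (hQ : Q ≠ A) :
    ¬ (Module.finrank k ↥(FunFld.L (C + Finsupp.single A (3 : ℤ) - Finsupp.single P (1 : ℤ) - Finsupp.single Q (4 : ℤ))) = 1 ∧
       Module.finrank k ↥(FunFld.L (C + Finsupp.single A (3 : ℤ) - Finsupp.single P (1 : ℤ) - Finsupp.single Q (2 : ℤ))) = 2) := by
  classical
  have h1 : ∀ R : FunFld.Place k K, R.deg = 1 := deg_eq_one hK
  rintro ⟨e1, e2⟩
  set E1 := C + Finsupp.single A (3 : ℤ) - Finsupp.single P (1 : ℤ) - Finsupp.single Q (4 : ℤ)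
  set E2 := C + Finsupp.single A (3 : ℤ) - Finsupp.single P (1 : ℤ) - Finsupp.single Q (2 : ℤ)
  obtain ⟨hCl, hCd⟩ := deg_canonical hK hC
  have r2 := riemann_roch hK hC E2
  have d2 : E2.deg = 2 := by simp only [E2, deg_sub, deg_add, deg_single, h1, hCd, hg]; norm_num
  have d1 : E1.deg = 0 := by simp only [E1, deg_sub, deg_add, deg_single, h1, hCd, hg]; norm_num
  have e2' : FunFld.ell E2 = 2 := e2
  have e1' : FunFld.ell E1 = 1 := e1
  obtain ⟨z, hz0, hz⟩ := exists_mem_L hK (show 0 < FunFld.ell (C - E2) by rw [e2', d2, hg] at r2; omega)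
  have hz' : C - E2 + FunFld.div k z = 0 := ((deg_mono_aux (deg_pos hK) hz).2 (by
    rw [deg_zero, deg_add, deg_sub, deg_div hK, d2, hCd, hg]; norm_num)).symm
  obtain ⟨y, hy0, hy⟩ := exists_mem_L hK (show 0 < FunFld.ell E1 by omega)
  have hy' : E1 + FunFld.div k y = 0 := ((deg_mono_aux (deg_pos hK) hy).2 (by
    rw [deg_zero, deg_add, deg_div hK, d1, add_zero])).symm
  -- `C ~ 2Q`
  have hQ2 : FunFld.ell (Finsupp.single Q (2 : ℤ)) = 2 := by
    refine Eq.trans ?_ (hCl.trans hg)
    refine ell_div_congr hK (mul_ne_zero hz0 hy0) ?_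
    rw [div_mul hK hz0 hy0, ← sub_eq_zero]
    have hh : (C - E2 + FunFld.div k z) + (E1 + FunFld.div k y) = 0 := by rw [hz', hy', add_zero]
    rw [← neg_eq_zero, ← hh]
    simp only [E1, E2, show (4 : ℤ) = 2 + 2 by norm_num, Finsupp.single_add]
    abel
  set G : FunFld.Divisor k K := Finsupp.single P 1 + Finsupp.single Q (2 : ℤ)
  have hG : FunFld.ell G = 2 := by
    have := ell_eq_of_large hK (D := G) (by simp only [G, deg_add, deg_single, h1, hg]; norm_num)
    simp only [G, deg_add, deg_single, h1, hg] at this ⊢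
    omega
  have hb := base_point hK (P := P) hz0 (E := G) (F := Finsupp.single A (3 : ℤ)) (by
    rw [← sub_eq_zero, ← neg_eq_zero, ← hz']; simp only [E2, G]; abel)
    (Finsupp.single_nonneg.2 (by norm_num)) (by rw [show G - Finsupp.single P 1 = Finsupp.single Q (2 : ℤ) by simp only [G]; abel, hQ2, hG])
  simp [Finsupp.single_eq_of_ne hP] at hb

end Groth.Agent.S17250
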