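import Groth.Statements.S17251
import Groth.Agent.FunFldLib.Order

set_option autoImplicit false
open FunFld

namespace Groth.Agent.S17251
open Groth.Agent.FunFldLib


/-- Let `K/k` be a function field of one variable of genus two over an algebraically closed field `k` of
characteristic zero (a smooth curve `Y` of genus `2`), `C` a canonical divisor, `B` a place with
`ℓ(2B) = 1` (not a Weierstrass point) and `Q ≠ B` a place. Then `ℓ(C + B - 2Q) = 1` and `ℓ(C + 3B -
4Q) = 1` do not both hold: the complete systems `H⁰(ω_Y(B))` (dimension `2`, degree `3`) and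
`H⁰(ω_Y(3B))` (dimension `4`, degree `5`) have no ramification point in common on `Y` minus `B`.
(The published statement concerns a general pointed curve `(Y, B)` of genus two over the complex
numbers; this row assumes only `ℓ(2B) = 1`.) -/
theorem result
    (k K : Type*) [Field k] [IsAlgClosed k] [CharZero k] [Field K] [Algebra k K]
    (hK : FunFld.IsFunctionField k K) (hg : FunFld.genus k K = 2)
    (C : FunFld.Divisor k K) (hC : FunFld.IsCanonical k K C)
    (B Q : FunFld.Place k K) (hB : Module.finrank k ↥(FunFld.L (Finsupp.single B (2 : ℤ))) = 1) (hQ : Q ≠ B) :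
    ¬ (Module.finrank k ↥(FunFld.L (C + Finsupp.single B (1 : ℤ) - Finsupp.single Q (2 : ℤ))) = 1 ∧
       Module.finrank k ↥(FunFld.L (C + Finsupp.single B (3 : ℤ) - Finsupp.single Q (4 : ℤ))) = 1) := by
  classical
  have h1 : ∀ R : FunFld.Place k K, R.deg = 1 := deg_eq_one hK
  rintro ⟨e1, e2⟩
  set E1 := C + Finsupp.single B (1 : ℤ) - Finsupp.single Q (2 : ℤ)
  set E2 := C + Finsupp.single B (3 : ℤ) - Finsupp.single Q (4 : ℤ)
  obtain ⟨hCl, hCd⟩ := deg_canonical hK hC
  have d1 : E1.deg = 1 := by simp only [E1, deg_sub, deg_add, deg_single, h1, hCd, hg]; norm_num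
  have d2 : E2.deg = 1 := by simp only [E2, deg_sub, deg_add, deg_single, h1, hCd, hg]; norm_num
  have eff : ∀ E : FunFld.Divisor k K, E.deg = 1 → FunFld.ell E = 1 → ∃ (R : FunFld.Place k K) (x : K), x ≠ 0 ∧
      E + FunFld.div k x = Finsupp.single R 1 := by
    intro E hd hl
    obtain ⟨x, hx0, hx⟩ := exists_mem_L hK (show 0 < FunFld.ell E by omega)
    have hF : (E + FunFld.div k x).deg = 1 := by rw [deg_add, deg_div hK, hd, add_zero]
    have hc := support_le_card _ hx (deg_pos hK)
    have hne : (E + FunFld.div k x).support.card ≠ 0 := fun h => by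
      rw [Finset.card_eq_zero, Finsupp.support_eq_empty] at h
      rw [h, deg_zero] at hF
      omega
    obtain ⟨R, hR⟩ := Finset.card_eq_one.1 (show (E + FunFld.div k x).support.card = 1 by omega)
    obtain ⟨e, he⟩ : ∃ e : ℤ, (E + FunFld.div k x : FunFld.Divisor k K) R = e := ⟨_, rfl⟩
    have hs := (Finsupp.support_eq_singleton.1 hR).2
    rw [he] at hs
    rw [hs, deg_single, h1, Nat.cast_one, mul_one] at hF
    rw [hF] at hs
    exact ⟨R, x, hx0, hs⟩
  obtain ⟨R, x, hx0, hx⟩ := eff E1 d1 e1
  obtain ⟨S, y, hy0, hy⟩ := eff E2 d2 e2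
  -- `B` is a base point of `|C + B|`, so `R = B` and `C ~ 2Q`
  have hCB : FunFld.ell (C + Finsupp.single B (1 : ℤ)) = 2 := by
    have := ell_eq_of_large hK (D := C + Finsupp.single B (1 : ℤ)) (by simp only [deg_add, deg_single, h1, hCd, hg]; norm_num)
    simp only [deg_add, deg_single, h1, hCd, hg] at this
    omega
  have hb := base_point hK (P := B) hx0 (E := C + Finsupp.single B (1 : ℤ)) (F := Finsupp.single R 1 + Finsupp.single Q (2 : ℤ))
    (by rw [← hx]; simp only [E1]; abel)
    (add_nonneg (Finsupp.single_nonneg.2 zero_le_one) (Finsupp.single_nonneg.2 (by norm_num)))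
    (by rw [add_sub_cancel_right, hCB, hCl, hg])
  have hR : R = B := by
    by_contra hne
    simp [Finsupp.single_eq_of_ne (Ne.symm hQ), Finsupp.single_eq_of_ne (Ne.symm hne)] at hb
  subst hR
  have hC2 : C + FunFld.div k x = Finsupp.single Q (2 : ℤ) := by
    rw [← sub_eq_zero]
    have := sub_eq_zero.2 hx
    rw [← this]; simp only [E1]; abel
  have hQ2 : FunFld.ell (Finsupp.single Q (2 : ℤ)) = 2 := by rw [← hC2, ell_add_div hK C hx0, hCl, hg]
  -- `S` is a base point of `|S + 2Q| = |3B|`, so `S = B`
  have h3 : Finsupp.single R (3 : ℤ) = (Finsupp.single S 1 + Finsupp.single Q (2 : ℤ) : FunFld.Divisor k K) + FunFld.div k (y⁻¹ * x) := by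
    rw [div_mul hK (inv_ne_zero hy0) hx0, div_inv hK, ← hy]
    have h4 : Finsupp.single Q (4 : ℤ) = C + FunFld.div k x + Finsupp.single Q (2 : ℤ) := by
      rw [hC2, show (4 : ℤ) = 2 + 2 by norm_num, Finsupp.single_add]
    simp only [E2, h4]; abel
  have hG : FunFld.ell (Finsupp.single S 1 + Finsupp.single Q (2 : ℤ)) = 2 := by
    have := ell_eq_of_large hK (D := Finsupp.single S 1 + Finsupp.single Q (2 : ℤ)) (by simp only [deg_add, deg_single, h1, hg]; norm_num)
    simp only [deg_add, deg_single, h1, hg] at this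
    omega
  have hb2 := base_point hK (P := S) (mul_ne_zero (inv_ne_zero hy0) hx0) h3 (Finsupp.single_nonneg.2 (by norm_num))
    (by rw [add_sub_cancel_left, hQ2, hG])
  have hS : S = R := by
    by_contra hne
    simp [Finsupp.single_eq_of_ne hne] at hb2
  subst hS
  have h5 : FunFld.ell (Finsupp.single S (2 : ℤ)) = FunFld.ell (Finsupp.single Q (2 : ℤ)) := by
    refine ell_div_congr hK (mul_ne_zero (inv_ne_zero hy0) hx0) ?_
    rw [show Finsupp.single S (2 : ℤ) = (Finsupp.single S (3 : ℤ) : FunFld.Divisor k K) - Finsupp.single S 1 by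
      rw [← Finsupp.single_sub]; norm_num, h3]
    abel
  rw [hQ2, show FunFld.ell (Finsupp.single S (2 : ℤ)) = 1 from hB] at h5
  omega

end Groth.Agent.S17251
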