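import Groth.Statements.S17259
-- import your own Groth.Agent.* helpers here

set_option autoImplicit false
open CAlg

namespace Groth.Agent.S17259

/-- Let A, B, C be rings, f : B → A and g : B → C ring homomorphisms, and φ : A → B a homomorphism of
additive groups such that the sequence A → B → C → 0 (maps φ, g) is exact and f ∘ φ is
multiplication by a central element a of A which is not a zero divisor. Then the projection p : A →
A/(a) composed with f factors through g as a ring homomorphism q : C → A/(a), the homomorphism (f,
g) : B → A × C is injective, and its image is the fibre product of A and C over A/(a) along p and q;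
thus (f, g) is a ring isomorphism from B onto that fibre product. (The two-sidedness of the ideal
generated by a, automatic for a central element, is carried as an instance hypothesis.) -/
theorem result {A B C : Type*} [Ring A] [Ring B] [Ring C]
    (f : B →+* A) (g : B →+* C) (φ : A →+ B) (a : A)
    (hc : ∀ x : A, Commute a x) (ha : a ∈ nonZeroDivisors A)
    (hex : Function.Exact φ g) (hg : Function.Surjective g)
    (hφ : ∀ x : A, f (φ x) = a * x)
    [(Ideal.span ({a} : Set A)).IsTwoSided] :
    ∃ q : C →+* A ⧸ Ideal.span ({a} : Set A),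
      q.comp g = (Ideal.Quotient.mk (Ideal.span ({a} : Set A))).comp f ∧
      Function.Injective (f.prod g) ∧
      (f.prod g).range = (Ideal.Quotient.mk (Ideal.span ({a} : Set A))).pullback q := by
  have hker : ∀ b, g b = 0 → Ideal.Quotient.mk (Ideal.span ({a} : Set A)) (f b) = 0 := by
    intro b hb
    obtain ⟨x, rfl⟩ := (hex b).mp hb
    rw [Ideal.Quotient.eq_zero_iff_mem, hφ, (hc x).eq]
    exact Ideal.mul_mem_left _ _ (Ideal.mem_span_singleton_self a)
  set M := (Ideal.Quotient.mk (Ideal.span ({a} : Set A))).comp f with hM
  have hle : RingHom.ker g ≤ RingHom.ker M := fun b hb => hker b hb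
  let q : C →+* A ⧸ Ideal.span ({a} : Set A) :=
    g.liftOfRightInverse (Function.surjInv hg) (Function.rightInverse_surjInv hg) ⟨M, hle⟩
  have hq : q.comp g = M := RingHom.liftOfRightInverse_comp g _ _ _
  refine ⟨q, hq, ?_, ?_⟩
  · rw [injective_iff_map_eq_zero]
    intro b hb
    obtain ⟨h1, h2⟩ := Prod.ext_iff.mp hb
    obtain ⟨x, rfl⟩ := (hex b).mp h2
    have : a * x = 0 := by rw [← hφ]; exact h1
    rw [(ha.1 x this), map_zero]
  · ext ⟨x, c⟩
    constructor
    · rintro ⟨b, hb⟩
      obtain ⟨rfl, rfl⟩ := Prod.ext_iff.mp hb
      exact (RingHom.congr_fun hq b).symm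
    · intro h
      obtain ⟨b, rfl⟩ := hg c
      have h' : Ideal.Quotient.mk _ x = Ideal.Quotient.mk (Ideal.span ({a} : Set A)) (f b) := h.trans (RingHom.congr_fun hq b)
      obtain ⟨r, hr⟩ := Submodule.mem_span_singleton.mp (Ideal.Quotient.eq.mp h')
      refine ⟨b + φ r, Prod.ext ?_ ?_⟩
      · change f (b + φ r) = x
        rw [map_add, hφ, (hc r).eq, ← smul_eq_mul, hr]; abel
      · change g (b + φ r) = g b
        rw [map_add, hex.apply_apply_eq_zero r, add_zero]

end Groth.Agent.S17259
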