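import Groth.Statements.S17266
import Groth.Agent.H7.Stk.Topo

set_option autoImplicit false
set_option backward.isDefEq.respectTransparency false
open CategoryTheory
universe v u
open Stk

namespace Groth.Agent.S17266

/-- Let C be a category with a Grothendieck topology J and let F : 𝒳 → 𝒴, G : 𝒴 → 𝒵 be functors over C
between categories fibred in groupoids over C. Say that a functor H : 𝒜 → ℬ over C is covering when
for every object U of C and every functor b : C/U → ℬ over C there is a J-covering sieve of U such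
that for each of its arrows h : V → U the composite of C/V → C/U with b is 2-isomorphic over C to H
∘ a for some functor a : C/V → 𝒜 over C (locally on the base every object of ℬ lifts to 𝒜 up to
isomorphism). If F and G are covering, then the composite G ∘ F is covering. -/
theorem result {C : Type u} [Category.{v} C] (J : GrothendieckTopology C)
    {𝒳 𝒴 𝒵 : BasedCategory.{v, max u v} C}
    (h𝒳 : FibCat.IsFibGrpd 𝒳.p) (h𝒴 : FibCat.IsFibGrpd 𝒴.p) (h𝒵 : FibCat.IsFibGrpd 𝒵.p)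
    (F : 𝒳 ⥤ᵇ 𝒴) (G : 𝒴 ⥤ᵇ 𝒵)
    (hF : (∀ (U : C) (y : FibCat.overCat U ⥤ᵇ 𝒴), ∃ R ∈ J U, ∀ ⦃V : C⦄ (h : V ⟶ U), R.arrows h →
        ∃ x : FibCat.overCat V ⥤ᵇ 𝒳,
          Nonempty (BasedFunctor.comp x F ≅ BasedFunctor.comp (⟨Over.map h, Over.mapForget_eq h⟩ : FibCat.overCat V ⥤ᵇ FibCat.overCat U) y)))
    (hG : (∀ (U : C) (y : FibCat.overCat U ⥤ᵇ 𝒵), ∃ R ∈ J U, ∀ ⦃V : C⦄ (h : V ⟶ U), R.arrows h →
        ∃ x : FibCat.overCat V ⥤ᵇ 𝒴,
          Nonempty (BasedFunctor.comp x G ≅ BasedFunctor.comp (⟨Over.map h, Over.mapForget_eq h⟩ : FibCat.overCat V ⥤ᵇ FibCat.overCat U) y))) :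
    (∀ (U : C) (y : FibCat.overCat U ⥤ᵇ 𝒵), ∃ R ∈ J U, ∀ ⦃V : C⦄ (h : V ⟶ U), R.arrows h →
        ∃ x : FibCat.overCat V ⥤ᵇ 𝒳,
          Nonempty (BasedFunctor.comp x (BasedFunctor.comp F G) ≅ BasedFunctor.comp (⟨Over.map h, Over.mapForget_eq h⟩ : FibCat.overCat V ⥤ᵇ FibCat.overCat U) y)) := by
  intro U y
  obtain ⟨R, hR, hl⟩ := hG U y
  choose a ha using hl
  choose R' hR' hl' using fun (V : C) (h : V ⟶ U) (hh : R.arrows h) => hF V (a h hh)
  refine ⟨Sieve.bind R.arrows (fun V h hh => R' V h hh), J.bind_covering hR (fun V h hh => hR' V h hh), ?_⟩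
  rintro W g ⟨V, k, h, hh, hk, rfl⟩
  obtain ⟨x, ⟨e⟩⟩ := hl' V h hh k hk
  obtain ⟨e'⟩ := ha h hh
  let e₁ := fun w => G.toFunctor.mapIso (Groth.Agent.LeadFibCat.app e w) ≪≫
    Groth.Agent.LeadFibCat.app e' ((Over.map k).obj w) ≪≫ y.toFunctor.mapIso ((Over.mapComp k h).symm.app w)
  have hv : ∀ w, Groth.Agent.LeadFibCat.Vert 𝒵.p (e₁ w).hom := fun w =>
    (Groth.Agent.LeadFibCat.vert_app e w).map.comp
      ((Groth.Agent.LeadFibCat.vert_app e' _).comp (Groth.Agent.LeadFibCat.Vert.map (F := y)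
        (show Groth.Agent.LeadFibCat.Vert (FibCat.overCat U).p (((Over.mapComp k h).symm.app w).hom) from
          ⟨rfl, by simp [Over.mapComp]; rfl⟩)))
  refine ⟨x, ⟨Groth.Agent.LeadFibCat.isoMk e₁ (fun {p q} m => ?_) hv⟩⟩
  have n1 := congrArg G.map (Groth.Agent.LeadFibCat.app_naturality e m)
  have n2 := Groth.Agent.LeadFibCat.app_naturality e' ((Over.map k).map m)
  have n3 := congrArg y.map ((Over.mapComp k h).inv.naturality m)
  rw [Functor.map_comp, Functor.map_comp] at n1 n3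
  show G.map (F.map (x.map m)) ≫ G.map _ ≫ (Groth.Agent.LeadFibCat.app e' _).hom ≫ y.map _ =
    (G.map _ ≫ (Groth.Agent.LeadFibCat.app e' _).hom ≫ y.map _) ≫ y.map ((Over.map (k ≫ h)).map m)
  refine ((reassoc_of% n1) _).trans ?_
  refine Eq.trans ?_ (Category.assoc _ _ _).symm
  refine congrArg (G.map _ ≫ ·) ?_
  refine ((reassoc_of% n2) _).trans ?_
  refine Eq.trans ?_ (Category.assoc _ _ _).symm
  exact congrArg ((Groth.Agent.LeadFibCat.app e' _).hom ≫ ·) n3

end Groth.Agent.S17266
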