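import Groth.Statements.S1728
import Mathlib.Algebra.Module.Injective
import Mathlib.Order.Zorn
import Mathlib.LinearAlgebra.Quotient.Basic

set_option autoImplicit false
universe u
open InjHull

namespace Groth.Agent.S1728

/-- Let I be an injective R-module and E a submodule of I. Then E is an injective module if and only if
every submodule E' of I containing E, such that every nonzero submodule of E' meets E nontrivially,
is equal to E. -/
theorem result (R : Type u) [CommRing R] (I : Type u) [AddCommGroup I] [Module R I] [Module.Injective R I] (E : Submodule R I) : Module.Injective R E ↔ ∀ E' : Submodule R I, E ≤ E' → (∀ N : Submodule R I, N ≤ E' → N ≠ ⊥ → N ⊓ E ≠ ⊥) → E' = E := by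
  classical
  constructor
  · intro hE E' hle hess
    obtain ⟨π, hπ⟩ := Module.Injective.out E.subtype (Submodule.injective_subtype E) LinearMap.id
    refine le_antisymm (fun x hx => ?_) hle
    have hN : E' ⊓ LinearMap.ker π = ⊥ := by
      by_contra hN
      obtain ⟨y, hy, hy0⟩ := Submodule.exists_mem_ne_zero_of_ne_bot (hess _ inf_le_left hN)
      obtain ⟨⟨-, hyk⟩, hyE⟩ := hy
      have := hπ ⟨y, hyE⟩
      rw [Submodule.subtype_apply, LinearMap.mem_ker.1 hyk] at this
      exact hy0 (congrArg Subtype.val this).symm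
    have hmem : x - (π x : I) ∈ E' ⊓ LinearMap.ker π := ⟨sub_mem hx (hle (π x).2), by
      rw [SetLike.mem_coe, LinearMap.mem_ker, map_sub, sub_eq_zero]; exact (hπ (π x)).symm⟩
    rw [hN, Submodule.mem_bot, sub_eq_zero] at hmem
    rw [hmem]; exact (π x).2
  · intro hmax
    obtain ⟨C, -, hC⟩ := zorn_le_nonempty₀ {C : Submodule R I | C ⊓ E = ⊥}
      (fun c hc hchain C₀ hC₀ => ⟨sSup c, by
        show sSup c ⊓ E = ⊥
        rw [Submodule.eq_bot_iff]
        rintro x ⟨hx, hxE⟩
        obtain ⟨C, hCc, hxC⟩ := (Submodule.mem_sSup_of_directed ⟨C₀, hC₀⟩ hchain.directedOn).1 hx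
        exact (Submodule.eq_bot_iff _).1 (hc hCc) x ⟨hxC, hxE⟩, fun C hC => le_sSup hC⟩) ⊥ (bot_inf_eq E)
    have hmx : ∀ D : Submodule R I, C ≤ D → D ⊓ E = ⊥ → D ≤ C := fun D h1 h2 => hC.2 h2 h1
    have hinj : Function.Injective (C.mkQ ∘ₗ E.subtype) := by
      rw [← LinearMap.ker_eq_bot, LinearMap.ker_eq_bot']
      intro x hx
      exact Subtype.ext ((Submodule.eq_bot_iff _).1 hC.1 x.1 ⟨(Submodule.Quotient.mk_eq_zero C).1 hx, x.2⟩)
    obtain ⟨h, hh⟩ := Module.Injective.out (C.mkQ ∘ₗ E.subtype) hinj E.subtype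
    let g : I →ₗ[R] I := h ∘ₗ C.mkQ
    have hg : ∀ x ∈ E, g x = x := fun x hx => hh ⟨x, hx⟩
    have hCker : ∀ x ∈ C, g x = 0 := fun x hx => by
      show h (C.mkQ x) = 0
      rw [show C.mkQ x = 0 from (Submodule.Quotient.mk_eq_zero C).2 hx, map_zero]
    have hrange : LinearMap.range g = E := by
      refine hmax _ (fun x hx => ⟨x, hg x hx⟩) fun N hN hN0 hNE => hN0 ?_
      have hle := hmx (N.comap g) (fun x hx => by rw [Submodule.mem_comap, hCker x hx]; exact zero_mem _) (by
        rw [Submodule.eq_bot_iff]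
        rintro x ⟨hx, hxE⟩
        rw [SetLike.mem_coe, Submodule.mem_comap, hg x hxE] at hx
        exact (Submodule.eq_bot_iff _).1 hNE x ⟨hx, hxE⟩)
      rw [Submodule.eq_bot_iff]
      intro n hn
      obtain ⟨y, rfl⟩ := hN hn
      exact hCker y (hle hn)
    refine ⟨fun X Y _ _ _ _ f hf k => ?_⟩
    obtain ⟨e, he⟩ := Module.Injective.out f hf (E.subtype ∘ₗ k)
    refine ⟨(g.codRestrict E fun x => hrange ▸ LinearMap.mem_range_self g x) ∘ₗ e, fun x => Subtype.ext ?_⟩
    show g (e (f x)) = _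
    rw [he x]
    exact hg _ (k x).2

end Groth.Agent.S1728
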