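import Groth.Statements.S17321
import Mathlib
-- import your own Groth.Agent.* helpers here

set_option autoImplicit false
universe u v
open CAlg

namespace Groth.Agent.S17321

/-- Let k be an algebraically closed field and A a commutative k-algebra which is finite-dimensional as
a k-vector space (the coordinate ring of a finite k-scheme). Then the space Der(A) of k-derivations
A → A is zero if and only if A is reduced. -/
theorem result (k : Type u) [Field k] [IsAlgClosed k]
    (A : Type v) [CommRing A] [Algebra k A] [Module.Finite k A] :
    Subsingleton (Derivation k A A) ↔ IsReduced A := by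
  haveI : IsArtinianRing A := IsArtinianRing.of_finite k A
  constructor
  · intro hD
    suffices hU : Algebra.FormallyUnramified k A from Algebra.FormallyUnramified.isReduced_of_field k A
    rw [Algebra.formallyUnramified_iff, ← not_nontrivial_iff_subsingleton]
    intro hnt
    haveI : Subsingleton (Ω[A⁄k] →ₗ[A] A) := (KaehlerDifferential.linearMapEquivDerivation k A).toEquiv.subsingleton
    obtain ⟨N, hN, -⟩ := (IsCoatomic.eq_top_or_exists_le_coatom (⊥ : Submodule A (Ω[A⁄k]))).resolve_left bot_ne_top
    obtain ⟨I, hI, ⟨e⟩⟩ := isSimpleModule_iff_quot_maximal.mp (isSimpleModule_iff_isCoatom.mpr hN)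
    haveI := hI
    have hass : IsAssociatedPrime I A := by
      refine Module.associatedPrimes.minimalPrimes_annihilator_subset_associatedPrimes A A ?_
      rw [Module.annihilator_eq_bot.mpr inferInstance]
      exact IsArtinianRing.mem_minimalPrimes bot_le
    obtain ⟨-, g, hg⟩ := (isAssociatedPrime_iff_exists_injective_linearMap I A).mp hass
    have h0 : g ∘ₗ (e.toLinearMap ∘ₗ N.mkQ) = 0 := Subsingleton.elim _ _
    have h1 : Ideal.Quotient.mk I 1 = 0 := by
      obtain ⟨y, hy⟩ := N.mkQ_surjective (e.symm (Ideal.Quotient.mk I 1))
      have := LinearMap.congr_fun h0 y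
      simp only [LinearMap.comp_apply, hy, LinearEquiv.coe_coe, LinearEquiv.apply_symm_apply, LinearMap.zero_apply] at this
      exact hg (this.trans (map_zero g).symm)
    exact hI.ne_top ((Ideal.eq_top_iff_one I).mpr (Ideal.Quotient.eq_zero_iff_mem.mp h1))
  · intro hR
    haveI : ∀ I : MaximalSpectrum A, Algebra.FormallyEtale k (A ⧸ I.asIdeal) := fun I => by
      letI := Ideal.Quotient.field I.asIdeal
      haveI : Algebra.IsAlgebraic k (A ⧸ I.asIdeal) := Algebra.IsAlgebraic.of_finite k _
      exact Algebra.FormallyEtale.of_isSeparable k _
    haveI : Algebra.FormallyEtale k (∀ I : MaximalSpectrum A, A ⧸ I.asIdeal) :=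
      (Algebra.FormallyEtale.pi_iff _).mpr inferInstance
    haveI := Algebra.FormallyEtale.of_equiv ((IsArtinianRing.equivPi A).restrictScalars k).symm
    haveI : Subsingleton (Ω[A⁄k]) := (Algebra.formallyUnramified_iff k A).mp inferInstance
    exact (KaehlerDifferential.linearMapEquivDerivation k A).symm.toEquiv.subsingleton

end Groth.Agent.S17321
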