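import Groth.Statements.S17323
import Mathlib
-- import your own Groth.Agent.* helpers here

set_option autoImplicit false
universe u v
open CAlg

namespace Groth.Agent.S17323

/-- Let k be an algebraically closed field and A a commutative k-algebra which is finite-dimensional as
a k-vector space. Then A has a largest reduced subalgebra: a k-subalgebra B which is reduced and
contains every reduced k-subalgebra of A; moreover the composite of the inclusion B → A with the
projection A → A/nilradical(A) is bijective. -/
theorem result (k : Type u) [Field k] [IsAlgClosed k]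
    (A : Type v) [CommRing A] [Algebra k A] [Module.Finite k A] :
    ∃ B : Subalgebra k A, IsReduced ↥B ∧ (∀ C : Subalgebra k A, IsReduced ↥C → C ≤ B) ∧
      Function.Bijective ((Ideal.Quotient.mkₐ k (nilradical A)).comp B.val) := by
  have etale : ∀ (C : Type v) [CommRing C] [Algebra k C] [Module.Finite k C] [IsReduced C], Algebra.FormallyEtale k C := by
    intro C _ _ _ _
    haveI : IsArtinianRing C := IsArtinianRing.of_finite k C
    haveI : ∀ I : MaximalSpectrum C, Algebra.FormallyEtale k (C ⧸ I.asIdeal) := fun I => by
      letI := Ideal.Quotient.field I.asIdeal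
      haveI : Algebra.IsAlgebraic k (C ⧸ I.asIdeal) := Algebra.IsAlgebraic.of_finite k _
      exact Algebra.FormallyEtale.of_isSeparable k _
    haveI : Algebra.FormallyEtale k (∀ I : MaximalSpectrum C, C ⧸ I.asIdeal) :=
      (Algebra.FormallyEtale.pi_iff _).mpr inferInstance
    exact Algebra.FormallyEtale.of_equiv ((IsArtinianRing.equivPi C).restrictScalars k).symm
  haveI : IsArtinianRing A := IsArtinianRing.of_finite k A
  haveI : IsReduced (A ⧸ nilradical A) := (Ideal.isRadical_iff_quotient_reduced _).mp (Ideal.radical_isRadical _)
  haveI := etale (A ⧸ nilradical A)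
  have hn : IsNilpotent (nilradical A) := IsArtinianRing.isNilpotent_nilradical
  set s := Algebra.FormallySmooth.lift (nilradical A) hn (AlgHom.id k (A ⧸ nilradical A))
  have hs : (Ideal.Quotient.mkₐ k (nilradical A)).comp s = AlgHom.id k _ := Algebra.FormallySmooth.comp_lift _ hn _
  have hs' : ∀ x, Ideal.Quotient.mk (nilradical A) (s x) = x := fun x => AlgHom.congr_fun hs x
  have hinj : Function.Injective s := Function.LeftInverse.injective hs'
  refine ⟨s.range, isReduced_of_injective (AlgEquiv.ofInjective s hinj).symm.toAlgHom.toRingHom (AlgEquiv.ofInjective s hinj).symm.injective, fun C hC => ?_, ?_, ?_⟩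
  · haveI := etale C
    intro c hc
    have e : C.val = s.comp ((Ideal.Quotient.mkₐ k (nilradical A)).comp C.val) :=
      Algebra.FormallyUnramified.lift_unique (nilradical A) hn _ _ (by rw [← AlgHom.comp_assoc, hs, AlgHom.id_comp])
    exact ⟨_, (AlgHom.congr_fun e ⟨c, hc⟩).symm⟩
  · rintro ⟨_, x, rfl⟩ ⟨_, y, rfl⟩ h
    exact Subtype.ext (congrArg s ((hs' x).symm.trans (h.trans (hs' y))))
  · intro x
    exact ⟨⟨s x, x, rfl⟩, hs' x⟩

end Groth.Agent.S17323
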