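import Groth.Statements.S17324
import Mathlib.RingTheory.HopkinsLevitzki
import Mathlib.FieldTheory.IsAlgClosed.Basic
import Mathlib.RingTheory.LocalRing.ResidueField.Basic
import Mathlib.RingTheory.Adjoin.Basic
import Mathlib.RingTheory.Ideal.Operations

set_option autoImplicit false
universe u v
open CAlg

namespace Groth.Agent.S17324

/-- (i) ⟺ (ii): let k be an algebraically closed field, A a commutative k-algebra which is
finite-dimensional as a k-vector space and is a local ring with maximal ideal m, and a_1, …, a_m ∈
m. Then A is generated as a k-algebra by a_1, …, a_m if and only if m is generated as an ideal by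
a_1, …, a_m. (The printed lemma has a third equivalent condition, that the images of the a_i span
m/m²; its equivalence with (ii) is Nakayama's lemma.) -/
theorem result (k : Type u) [Field k] [IsAlgClosed k]
    (A : Type v) [CommRing A] [Algebra k A] [Module.Finite k A] [IsLocalRing A]
    (m : ℕ) (a : Fin m → A) (ha : ∀ i, a i ∈ IsLocalRing.maximalIdeal A) :
    Algebra.adjoin k (Set.range a) = ⊤ ↔ Ideal.span (Set.range a) = IsLocalRing.maximalIdeal A := by
  haveI : IsArtinianRing A := IsArtinianRing.of_finite k A
  haveI : Module.Finite k (IsLocalRing.ResidueField A) :=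
    Module.Finite.of_surjective (IsScalarTower.toAlgHom k A (IsLocalRing.ResidueField A)).toLinearMap IsLocalRing.residue_surjective
  have hres : ∀ x : A, ∃ c : k, x - algebraMap k A c ∈ IsLocalRing.maximalIdeal A := fun x => by
    obtain ⟨c, hc⟩ := (IsAlgClosed.algebraMap_bijective_of_isIntegral (k := k) (K := IsLocalRing.ResidueField A)).2 (IsLocalRing.residue A x)
    refine ⟨c, ?_⟩
    rw [← IsLocalRing.residue_eq_zero_iff, map_sub, sub_eq_zero, ← hc]
    rfl
  set I := Ideal.span (Set.range a) with hI
  have hIm : I ≤ IsLocalRing.maximalIdeal A := by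
    rw [hI, Ideal.span_le]; rintro _ ⟨i, rfl⟩; exact ha i
  constructor
  · intro h
    refine le_antisymm hIm fun x hx => ?_
    have hx' : x ∈ Algebra.adjoin k (Set.range a) := h ▸ trivial
    have key : ∀ y ∈ Algebra.adjoin k (Set.range a), ∃ c : k, y - algebraMap k A c ∈ I := by
      intro y hy
      induction hy using Algebra.adjoin_induction with
      | mem z hz => exact ⟨0, by simpa using (Ideal.subset_span hz : z ∈ I)⟩
      | algebraMap c => exact ⟨c, by simp⟩
      | add y z _ _ hy hz =>
        obtain ⟨c, hc⟩ := hy; obtain ⟨e, he⟩ := hz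
        exact ⟨c + e, by rw [map_add, add_sub_add_comm]; exact I.add_mem hc he⟩
      | mul y z _ _ hy hz =>
        obtain ⟨c, hc⟩ := hy; obtain ⟨e, he⟩ := hz
        refine ⟨c * e, ?_⟩
        rw [map_mul, show y * z - algebraMap k A c * algebraMap k A e = (y - algebraMap k A c) * z + algebraMap k A c * (z - algebraMap k A e) by ring]
        exact I.add_mem (I.mul_mem_right _ hc) (I.mul_mem_left _ he)
    obtain ⟨c, hc⟩ := key x hx'
    by_cases hc0 : c = 0
    · simpa [hc0] using hc
    · exfalso
      have : algebraMap k A c ∈ IsLocalRing.maximalIdeal A := by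
        simpa using (IsLocalRing.maximalIdeal A).sub_mem hx (hIm hc)
      exact this ((Ne.isUnit hc0).map _)
  · intro h
    obtain ⟨N, hN⟩ := (isArtinianRing_iff_isNilpotent_maximalIdeal A).mp inferInstance
    let S := Algebra.adjoin k (Set.range a)
    have key : ∀ (j : ℕ) (x : A), ∃ s ∈ S, x - s ∈ I ^ j := by
      intro j
      induction j with
      | zero => intro x; exact ⟨0, S.zero_mem, by simp⟩
      | succ j ih =>
        intro x
        obtain ⟨c, hc⟩ := hres x
        rw [← h] at hc
        obtain ⟨b, hb⟩ := Ideal.mem_span_range_iff_exists_fun.1 hc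
        choose s hs hs' using fun i => ih (b i)
        refine ⟨algebraMap k A c + ∑ i, s i * a i, S.add_mem (S.algebraMap_mem c)
          (S.sum_mem fun i _ => S.mul_mem (hs i) (Algebra.subset_adjoin ⟨i, rfl⟩)), ?_⟩
        rw [← sub_sub, ← hb, ← Finset.sum_sub_distrib]
        refine Ideal.sum_mem _ fun i _ => ?_
        rw [← sub_mul, pow_succ]
        exact Ideal.mul_mem_mul (hs' i) (Ideal.subset_span ⟨i, rfl⟩)
    rw [eq_top_iff]
    intro x _
    obtain ⟨s, hs, hx⟩ := key N x
    rw [h, hN, Submodule.zero_eq_bot, Ideal.mem_bot, sub_eq_zero] at hx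
    exact hx ▸ hs

end Groth.Agent.S17324
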