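import Groth.Statements.S17326
import Mathlib.FieldTheory.IsAlgClosed.Basic
import Mathlib.FieldTheory.Perfect
import Mathlib.Algebra.CharP.Algebra
import Mathlib.LinearAlgebra.Dimension.Constructions
import Mathlib.LinearAlgebra.FiniteDimensional.Lemmas
import Mathlib.RingTheory.Nilpotent.Lemmas

set_option autoImplicit false
universe u v
open CAlg

namespace Groth.Agent.S17326

/-- Let k be an algebraically closed field of characteristic p > 0, A a commutative k-algebra which is
finite-dimensional as a k-vector space (a finite k-scheme X), and n ≥ 1. The n-th iterated relative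
Frobenius morphism X → X^(p^n) is an isomorphism if and only if X is reduced; on rings: the map a ↦
a^(p^n) of A to itself (which is the ring homomorphism underlying the relative Frobenius, the twist
A^(p^n) having the same underlying ring as A) is bijective if and only if A is reduced. -/
theorem result (k : Type u) [Field k] [IsAlgClosed k]
    (p : ℕ) [Fact p.Prime] [CharP k p] (A : Type v) [CommRing A] [Algebra k A] [Module.Finite k A]
    (n : ℕ) (hn : 1 ≤ n) :
    Function.Bijective (fun a : A => a ^ p ^ n) ↔ IsReduced A := by
  rcases subsingleton_or_nontrivial A with hA | hA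
  · exact iff_of_true ⟨fun _ _ _ => Subsingleton.elim _ _, fun y => ⟨0, Subsingleton.elim _ _⟩⟩ ⟨fun x _ => Subsingleton.elim _ _⟩
  haveI : CharP A p := charP_of_injective_algebraMap (algebraMap k A).injective p
  have hp : 0 < p ^ n := pow_pos (Fact.out : p.Prime).pos n
  constructor
  · intro h
    refine (isReduced_iff_pow_one_lt (p ^ n) (Nat.one_lt_pow (by omega) (Fact.out : p.Prime).one_lt)).2 fun x hx => ?_
    exact h.injective (show x ^ p ^ n = 0 ^ p ^ n by rw [hx, zero_pow hp.ne'])
  · intro hred
    refine ⟨fun a b hab => sub_eq_zero.1 (IsReduced.pow_eq_zero (n := p ^ n) (by rw [sub_pow_char_pow]; exact sub_eq_zero.2 hab)), fun y => ?_⟩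
    classical
    let b := Module.finBasis k A
    haveI : PerfectRing k p := PerfectRing.ofSurjective k p fun c => IsAlgClosed.exists_pow_nat_eq c (Fact.out : p.Prime).pos
    have hroot : ∀ c : k, ∃ d : k, d ^ p ^ n = c := fun c => IsAlgClosed.exists_pow_nat_eq c hp
    choose root hroot using hroot
    have hsum : ∀ g : Fin (Module.finrank k A) → k,
        (∑ i, root (g i) • b i) ^ p ^ n = ∑ i, g i • b i ^ p ^ n := by
      intro g
      rw [sum_pow_char_pow]
      exact Finset.sum_congr rfl fun i _ => by rw [smul_pow, hroot]
    have hli : LinearIndependent k fun i => b i ^ p ^ n := by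
      rw [Fintype.linearIndependent_iff]
      intro g hg i
      rw [← hsum] at hg
      have := Fintype.linearIndependent_iff.1 b.linearIndependent _ (IsReduced.pow_eq_zero hg) i
      rw [← hroot (g i), this, zero_pow hp.ne']
    have htop := hli.span_eq_top_of_card_eq_finrank' (by simp)
    have hy : y ∈ Submodule.span k (Set.range fun i => b i ^ p ^ n) := htop ▸ trivial
    obtain ⟨g, rfl⟩ := (Submodule.mem_span_range_iff_exists_fun k).1 hy
    exact ⟨∑ i, root (g i) • b i, hsum g⟩

end Groth.Agent.S17326
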