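import Groth.Statements.S17332
import Mathlib
-- import your own Groth.Agent.* helpers here

set_option autoImplicit false
universe u v w
open CAlg

namespace Groth.Agent.S17332

/-- Let k be a field, E and F finite sets, and O(E), O(F) the k-algebras of k-valued functions with
pointwise operations. Then every k-algebra homomorphism u : O(F) → O(E) is pull-back along a unique
map φ : E → F, i.e. u(g) = g ∘ φ for all g. (In the source k is algebraically closed; the printed
argument only uses that k is a field.) -/
theorem result (k : Type u) [Field k] (E : Type v) [Finite E]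
    (F : Type w) [Finite F] (u : (F → k) →ₐ[k] (E → k)) :
    ∃! φ : E → F, ∀ g : F → k, u g = g ∘ φ := by
  classical
  haveI := Fintype.ofFinite F
  have key : ∀ e : E, ∃ x : F, ∀ g : F → k, u g e = g x := by
    intro e
    have hsum : ∀ g : F → k, u g e = ∑ x, g x * u (Pi.single x 1) e := by
      intro g
      conv_lhs => rw [show g = ∑ x, g x • (Pi.single x (1 : k) : F → k) by
        ext y; simp [Finset.sum_apply, Pi.single_apply]]
      simp [map_sum, Finset.sum_apply]
    obtain ⟨x, hx⟩ : ∃ x, u (Pi.single x 1) e ≠ 0 := by
      by_contra h
      push Not at h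
      have h1 := hsum 1
      simp [h] at h1
    refine ⟨x, fun g => ?_⟩
    have h2 : u g e * u (Pi.single x 1) e = g x * u (Pi.single x 1) e := by
      rw [← Pi.mul_apply (u g), ← map_mul, show g * Pi.single x 1 = g x • (Pi.single x (1 : k) : F → k) by
        ext y; by_cases h : y = x <;> simp [h], map_smul, Pi.smul_apply, smul_eq_mul]
    exact mul_right_cancel₀ hx h2
  choose φ hφ using key
  refine ⟨φ, fun g => funext fun e => hφ e g, fun ψ hψ => funext fun e => ?_⟩
  by_contra hne
  have h1 := congrFun (hψ (Pi.single (ψ e) 1)) e
  rw [hφ] at h1
  simp [Ne.symm hne] at h1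

end Groth.Agent.S17332
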