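import Groth.Statements.S17333
import Mathlib
-- import your own Groth.Agent.* helpers here

set_option autoImplicit false
set_option backward.isDefEq.respectTransparency false
universe u v w
open CAlg

open CategoryTheory CategoryTheory.Limits AlgebraicGeometry
namespace Groth.Agent.S17333

/-- Let k be a field and A = B × C a decomposable commutative k-algebra. Then the natural map Der(B) ×
Der(C) → Der(A) is bijective: every k-derivation D : A → A is (b, c) ↦ (D₁ b, D₂ c) for a unique
pair of k-derivations D₁ : B → B, D₂ : C → C. Compatibility with brackets is not stated. (The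
published statement takes k algebraically closed; this row takes any field.) -/
theorem result (k : Type u) [Field k] (B : Type v) [CommRing B] [Algebra k B]
    (C : Type w) [CommRing C] [Algebra k C] (D : Derivation k (B × C) (B × C)) :
    ∃! P : Derivation k B B × Derivation k C C, ∀ (b : B) (c : C), D (b, c) = (P.1 b, P.2 c) := by
  have key : ∀ e : B × C, e * e = e → D e = 0 := fun e he => by
    have h := D.leibniz e e
    rw [he, ← two_smul k, smul_eq_mul] at h
    have h2 : e * D e = 0 := by
      have h' : e * D e = e * (e * D e + e * D e) := by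
        conv_lhs => rw [h, two_smul]
      rw [mul_add, ← mul_assoc, he] at h'
      exact left_eq_add.1 h'
    rw [h, h2, smul_zero]
  have hb : ∀ b : B, (D (b, 0)).2 = 0 := fun b => by
    have h := D.leibniz ((1 : B), (0 : C)) (b, 0)
    rw [show ((1 : B), (0 : C)) * (b, 0) = (b, 0) by simp, key (1, 0) (by simp), smul_zero, add_zero, smul_eq_mul] at h
    rw [h]; simp
  have hc : ∀ c : C, (D (0, c)).1 = 0 := fun c => by
    have h := D.leibniz ((0 : B), (1 : C)) (0, c)
    rw [show ((0 : B), (1 : C)) * (0, c) = (0, c) by simp, key (0, 1) (by simp), smul_zero, add_zero, smul_eq_mul] at h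
    rw [h]; simp
  let D1 : Derivation k B B := Derivation.mk' ((LinearMap.fst k B C).comp (D.toLinearMap.comp (LinearMap.inl k B C))) fun a b => by
    show (D (a * b, 0)).1 = a • (D (b, 0)).1 + b • (D (a, 0)).1
    rw [show ((a * b, (0 : C)) : B × C) = (a, 0) * (b, 0) by simp, D.leibniz]
    simp
  let D2 : Derivation k C C := Derivation.mk' ((LinearMap.snd k B C).comp (D.toLinearMap.comp (LinearMap.inr k B C))) fun a b => by
    show (D (0, a * b)).2 = a • (D (0, b)).2 + b • (D (0, a)).2
    rw [show (((0 : B), a * b) : B × C) = (0, a) * (0, b) by simp, D.leibniz]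
    simp
  refine ⟨(D1, D2), fun b c => ?_, fun P hP => ?_⟩
  · rw [show ((b, c) : B × C) = (b, 0) + (0, c) by simp, map_add]
    refine Prod.ext ?_ ?_
    · show (D (b, 0)).1 + (D (0, c)).1 = (D (b, 0)).1
      rw [hc, add_zero]
    · show (D (b, 0)).2 + (D (0, c)).2 = (D (0, c)).2
      rw [hb, zero_add]
  · refine Prod.ext (Derivation.ext fun b => ?_) (Derivation.ext fun c => ?_)
    · exact (congrArg Prod.fst (hP b 0)).symm
    · exact (congrArg Prod.snd (hP 0 c)).symm

end Groth.Agent.S17333
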