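import Groth.Statements.S17334
import Mathlib
-- import your own Groth.Agent.* helpers here

set_option autoImplicit false
universe u v
open CAlg

namespace Groth.Agent.S17334

/-- Let k be a field and A a nonzero commutative k-algebra which is finite-dimensional as a k-vector
space. Then A is indecomposable (no decomposition as a product of two nonzero rings, i.e. no
idempotent other than 0 and 1) if and only if A is a local ring. (In the source k is algebraically
closed and the lemma adds that the maximal ideal is then the nilradical, is nilpotent, and has
residue field k; the equivalence itself uses only that k is a field, and the zero algebra is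
excluded here explicitly.) -/
theorem result (k : Type u) [Field k]
    (A : Type v) [CommRing A] [Algebra k A] [Module.Finite k A] [Nontrivial A] :
    (∀ e : A, IsIdempotentElem e → e = 0 ∨ e = 1) ↔ IsLocalRing A := by
  classical
  haveI : IsArtinianRing A := IsArtinianRing.of_finite k A
  constructor
  · intro h
    refine IsLocalRing.of_isUnit_or_isUnit_one_sub_self fun x => ?_
    obtain ⟨n, y, hy⟩ := IsArtinian.exists_pow_succ_smul_dvd x (1 : A)
    simp only [smul_eq_mul, mul_one, Nat.succ_eq_add_one] at hy
    have h1 : ∀ k, x ^ n = x ^ (n + k) * y ^ k := by
      intro k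
      induction k with
      | zero => simp
      | succ k ih =>
        calc x ^ n = x ^ (n + k) * y ^ k := ih
          _ = x ^ k * y ^ k * (x ^ n) := by ring
          _ = _ := by rw [← hy]; ring
    have hidem : IsIdempotentElem ((x * y) ^ n) := by
      show (x * y) ^ n * (x * y) ^ n = (x * y) ^ n
      calc (x * y) ^ n * (x * y) ^ n = x ^ (n + n) * y ^ n * y ^ n := by ring
        _ = (x * y) ^ n := by rw [← h1 n]; ring
    rcases h _ hidem with h0 | h0
    · right
      have hx : x ^ n = 0 := by
        rw [h1 n, pow_add, mul_assoc, ← mul_pow, h0, mul_zero]
      exact IsNilpotent.isUnit_one_sub ⟨n, hx⟩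
    · rcases Nat.eq_zero_or_pos n with rfl | hn
      · left
        exact IsUnit.of_mul_eq_one y (by simpa using hy)
      · left
        exact isUnit_of_mul_isUnit_left (((isUnit_pow_iff hn.ne').mp (h0 ▸ isUnit_one)) : IsUnit (x * y))
  · intro hloc e he
    rcases IsLocalRing.isUnit_or_isUnit_one_sub_self e with hu | hu
    · exact Or.inr ((IsUnit.mul_left_inj hu).mp (he.trans (one_mul e).symm))
    · refine Or.inl ((IsUnit.mul_right_eq_zero hu).mp ?_)
      rw [sub_mul, one_mul, he, sub_self]

end Groth.Agent.S17334
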