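import Groth.Statements.S17335
import Mathlib.RingTheory.HopkinsLevitzki
import Mathlib.FieldTheory.IsAlgClosed.Basic
import Mathlib.RingTheory.Ideal.Quotient.Operations
import Mathlib.RingTheory.Nilpotent.Lemmas
import Mathlib.Algebra.Algebra.Pi

set_option autoImplicit false
universe u v
open CAlg

namespace Groth.Agent.S17335

/-- Let k be an algebraically closed field and A a commutative k-algebra which is finite-dimensional as
a k-vector space, and let E be the set of k-algebra homomorphisms A → k. Then E is finite, and the
evaluation homomorphism A → O(E) = (E → k), a ↦ (f ↦ f(a)), is surjective with kernel the nilradical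
of A; it therefore induces an isomorphism of A_red = A/nilradical(A) onto O(E). -/
theorem result (k : Type u) [Field k]
    [IsAlgClosed k] (A : Type v) [CommRing A] [Algebra k A] [Module.Finite k A] :
    Finite (A →ₐ[k] k) ∧
      Function.Surjective (AlgHom.pi (R := k) (fun f : A →ₐ[k] k => f)) ∧
      RingHom.ker (AlgHom.pi (R := k) (fun f : A →ₐ[k] k => f)) = nilradical A := by
  haveI : IsArtinianRing A := IsArtinianRing.of_finite k A
  have hsurj : ∀ f : A →ₐ[k] k, Function.Surjective f := fun f c => ⟨algebraMap k A c, f.commutes c⟩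
  have hmax : ∀ f : A →ₐ[k] k, (RingHom.ker f).IsMaximal := fun f => RingHom.ker_isMaximal_of_surjective f (hsurj f)
  have hinj : Function.Injective fun f : A →ₐ[k] k => (⟨RingHom.ker f, hmax f⟩ : MaximalSpectrum A) := by
    intro f g h
    refine AlgHom.ext fun a => ?_
    have hk : RingHom.ker f = RingHom.ker g := congrArg MaximalSpectrum.asIdeal h
    have ha : a - algebraMap k A (f a) ∈ RingHom.ker f := by simp
    rw [hk] at ha
    simp at ha
    exact (sub_eq_zero.1 ha).symm
  haveI : Finite (A →ₐ[k] k) := Finite.of_injective _ hinj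
  refine ⟨inferInstance, fun y => ?_, ?_⟩
  · have hpair : Pairwise fun f g : A →ₐ[k] k => IsCoprime (RingHom.ker f) (RingHom.ker g) := fun f g hne =>
      Ideal.isCoprime_iff_sup_eq.2 ((hmax f).coprime_of_ne (hmax g) fun he => hne (hinj (MaximalSpectrum.ext he)))
    obtain ⟨a, ha⟩ := Ideal.pi_quotient_surjective hpair (fun f => Ideal.Quotient.mk (RingHom.ker f) (algebraMap k A (y f)))
    refine ⟨a, funext fun f => ?_⟩
    have h1 := (Ideal.Quotient.mk_eq_mk_iff_sub_mem _ _).1 (ha f)
    rw [RingHom.mem_ker, map_sub, AlgHom.commutes, sub_eq_zero] at h1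
    simpa using h1
  · ext a
    rw [RingHom.mem_ker, mem_nilradical, nilpotent_iff_mem_prime]
    constructor
    · intro ha P hP
      haveI : P.IsMaximal := IsArtinianRing.isMaximal_of_isPrime P
      have hb : Function.Bijective (algebraMap k (A ⧸ P)) :=
        IsAlgClosed.algebraMap_bijective_of_isIntegral
      let f : A →ₐ[k] k := (AlgEquiv.ofBijective (Algebra.ofId k (A ⧸ P)) hb).symm.toAlgHom.comp (Ideal.Quotient.mkₐ k P)
      have hfa : f a = 0 := congrFun ha f
      rw [← Ideal.Quotient.eq_zero_iff_mem]
      simpa [f] using hfa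
    · intro ha
      funext f
      exact (ha _ (hmax f).isPrime : a ∈ RingHom.ker f)

end Groth.Agent.S17335
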