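import Groth.Statements.S17409
import Mathlib
-- import your own Groth.Agent.* helpers here

set_option autoImplicit false
universe u
open Prym5

namespace Groth.Agent.S17409

/-- Over a perfect field K of characteristic different from 2 and 3, let G₂, G₃, G₄ be polynomials in
two variables x, y and consider G₂ z² + 2 G₃ z + G₄ as a polynomial in the three variables x, y, z.
If it lies in the square of the ideal (x, y, z) — the surface it defines has a double point at the
origin — then the discriminant G₃² − G₂ G₄ lies in the square of the ideal (x, y) of K[x, y], so the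
plane curve G₃² − G₂ G₄ = 0 is singular at the origin. (This is the affine-local form used in the
published proof: the surface is a quartic with a node at the centre of projection placed at infinity
on the z-axis, and the curve is the branch sextic of that projection.) -/
theorem result (K : Type u) [Field K] [PerfectField K]
    (h2 : (2 : K) ≠ 0) (h3 : (3 : K) ≠ 0) (G₂ G₃ G₄ : MvPolynomial (Fin 2) K)
    (h : MvPolynomial.rename (Fin.castSucc : Fin 2 → Fin 3) G₂ * MvPolynomial.X (2 : Fin 3) ^ 2
        + 2 * MvPolynomial.rename (Fin.castSucc : Fin 2 → Fin 3) G₃ * MvPolynomial.X (2 : Fin 3)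
        + MvPolynomial.rename (Fin.castSucc : Fin 2 → Fin 3) G₄
        ∈ (Ideal.span (Set.range (MvPolynomial.X : Fin 3 → MvPolynomial (Fin 3) K))) ^ 2) :
    G₃ ^ 2 - G₂ * G₄ ∈ (Ideal.span (Set.range (MvPolynomial.X : Fin 2 → MvPolynomial (Fin 2) K))) ^ 2 := by
  let M : Ideal (MvPolynomial (Fin 2) K) := Ideal.span (Set.range MvPolynomial.X)
  change G₃ ^ 2 - G₂ * G₄ ∈ M ^ 2
  let φ : MvPolynomial (Fin 3) K →ₐ[K] MvPolynomial (Fin 2) K := MvPolynomial.aeval ![MvPolynomial.X 0, MvPolynomial.X 1, 0]
  let ψ : MvPolynomial (Fin 3) K →ₐ[K] Polynomial K := MvPolynomial.aeval ![0, 0, Polynomial.X]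
  have hφr : ∀ G : MvPolynomial (Fin 2) K, φ (MvPolynomial.rename Fin.castSucc G) = G := by
    intro G
    rw [MvPolynomial.aeval_rename]
    have : (![MvPolynomial.X 0, MvPolynomial.X 1, 0] : Fin 3 → MvPolynomial (Fin 2) K) ∘ Fin.castSucc = MvPolynomial.X := by
      funext i; fin_cases i <;> rfl
    rw [this, MvPolynomial.aeval_X_left_apply]
  have hψr : ∀ G : MvPolynomial (Fin 2) K, ψ (MvPolynomial.rename Fin.castSucc G) = Polynomial.C (MvPolynomial.constantCoeff G) := by
    intro G
    rw [MvPolynomial.aeval_rename]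
    have : (![0, 0, Polynomial.X] : Fin 3 → Polynomial K) ∘ Fin.castSucc = 0 := by
      funext i; fin_cases i <;> rfl
    rw [this, MvPolynomial.aeval_zero]; rfl
  have h4 : G₄ ∈ M ^ 2 := by
    have := Ideal.mem_map_of_mem φ h
    rw [Ideal.map_pow] at this
    have hle : (Ideal.span (Set.range (MvPolynomial.X : Fin 3 → MvPolynomial (Fin 3) K))).map φ ≤ M := by
      rw [Ideal.map_span, Ideal.span_le]
      rintro _ ⟨_, ⟨i, rfl⟩, rfl⟩
      fin_cases i
      · exact Ideal.subset_span ⟨0, by simp [φ]⟩
      · exact Ideal.subset_span ⟨1, by simp [φ]⟩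
      · simp [φ]
    have := Ideal.pow_right_mono hle 2 this
    have hz : φ (MvPolynomial.X 2) = 0 := by simp [φ]
    simp only [map_add, map_mul, map_pow, map_ofNat, hφr, hz] at this
    simpa using this
  have h3c : MvPolynomial.constantCoeff G₃ = 0 := by
    have := Ideal.mem_map_of_mem ψ h
    rw [Ideal.map_pow] at this
    have hle : (Ideal.span (Set.range (MvPolynomial.X : Fin 3 → MvPolynomial (Fin 3) K))).map ψ ≤ Ideal.span {Polynomial.X} := by
      rw [Ideal.map_span, Ideal.span_le]
      rintro _ ⟨_, ⟨i, rfl⟩, rfl⟩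
      fin_cases i <;> simp [ψ, Ideal.mem_span_singleton_self]
    have := Ideal.pow_right_mono hle 2 this
    rw [Ideal.span_singleton_pow, Ideal.mem_span_singleton, Polynomial.X_pow_dvd_iff] at this
    have h1 := this 1 (by norm_num)
    simp only [map_add, map_mul, map_pow, hψr, map_ofNat] at h1
    simp [ψ, Polynomial.coeff_one, Polynomial.coeff_mul_X] at h1
    exact h1.resolve_left h2
  have h3 : G₃ ∈ M := by
    show G₃ ∈ Ideal.span (Set.range MvPolynomial.X)
    rw [← Set.image_univ, MvPolynomial.mem_ideal_span_X_image]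
    intro m hm
    by_contra hc
    push Not at hc
    have : m = 0 := Finsupp.ext fun i => hc i (Set.mem_univ i)
    subst this
    exact (MvPolynomial.mem_support_iff.mp hm) h3c
  exact sub_mem (Ideal.pow_mem_pow h3 2) (Ideal.mul_mem_left _ _ h4)

end Groth.Agent.S17409
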