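import Groth.Statements.S17444
import Mathlib

set_option autoImplicit false
universe u v
open SSRed

namespace Groth.Agent.S17444

/-- Let K be a field of characteristic zero, V a K-vector space and g a K-linear endomorphism of V such
that g - 1 is nilpotent (a unipotent automorphism). Then for every integer n > 0 the endomorphisms
gⁿ - 1 and g - 1 have the same kernel: a vector fixed by gⁿ is fixed by g. (The published statement
assumes V finite-dimensional; this row allows any V.) -/
theorem result (K : Type u) (V : Type v) [Field K] [CharZero K]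
    [AddCommGroup V] [Module K V] (g : Module.End K V) (hg : IsNilpotent (g - 1)) (n : ℕ) (hn : 0 < n) :
    LinearMap.ker (g ^ n - 1) = LinearMap.ker (g - 1) := by
  have h1 : g ^ n - 1 = (∑ i ∈ Finset.range n, g ^ i) * (g - 1) := (geom_sum_mul g n).symm
  obtain ⟨w, hw, hwc⟩ : ∃ w : Module.End K V, (∑ i ∈ Finset.range n, g ^ i) = (n : K) • 1 + w * (g - 1) ∧
      Commute w (g - 1) := by
    have hc : ∀ m : ℕ, Commute (∑ i ∈ Finset.range m, g ^ i) (g - 1) := fun m =>
      Commute.sum_left _ _ _ fun i _ => ((Commute.refl g).sub_right (Commute.one_right g)).pow_left i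
    refine ⟨∑ i ∈ Finset.range n, ∑ j ∈ Finset.range i, g ^ j, ?_, Commute.sum_left _ _ _ fun i _ => hc i⟩
    rw [Finset.sum_mul]
    simp only [geom_sum_mul, Finset.sum_sub_distrib, Finset.sum_const, Finset.card_range,
      Nat.cast_smul_eq_nsmul]
    abel
  have hu : IsUnit (∑ i ∈ Finset.range n, g ^ i) := by
    rw [hw]
    refine (hwc.isNilpotent_mul_left hg).isUnit_add_left_of_commute ?_ ?_
    · exact (Module.End.isUnit_iff _).2 ⟨fun a b e => smul_right_injective V (Nat.cast_ne_zero.2 hn.ne') e,
        fun v => ⟨(n : K)⁻¹ • v, by simp [smul_smul, inv_mul_cancel₀ (Nat.cast_ne_zero.2 hn.ne' : (n : K) ≠ 0)]⟩⟩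
    · exact (Commute.one_right _).smul_right _
  ext v
  simp only [LinearMap.mem_ker, h1, Module.End.mul_apply]
  exact map_eq_zero_iff _ ((Module.End.isUnit_iff _).1 hu).1

end Groth.Agent.S17444
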