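import Groth.Statements.S17445
import Mathlib
import Groth.Agent.SSRedLib.GcdBound

set_option autoImplicit false
open Finset
open SSRed

namespace Groth.Agent.S17445

/-- For natural numbers g and B with B ≥ 2g + 1, a natural number d divides ∏_{a=1}^{g} (ℓ^{2a} - 1) for
every prime ℓ > B if and only if d divides N(g) = 2^{3g + v₂(g!)} · ∏_{3 ≤ p ≤ 2g+1, p prime}
p^{[2g/(p-1)] + Σ_{1 ≤ i ≤ [2g/(p-1)]} v_p(i)}. In words: N(g) is the greatest common divisor of
these products as ℓ runs through the primes beyond any bound that is at least 2g + 1; its prime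
factors are the primes p ≤ 2g + 1. (This is the number N(g) of the published result, which bounds
the degree of the field of semistable reduction of a g-dimensional abelian variety over a strictly
henselian discretely valued field; the printed phrase is the greatest common divisor over all large
primes, made precise here by the bound 2g + 1, below which a prime ℓ ≤ 2g + 1 divides N(g) but not
its own product.) -/
theorem result (g B d : ℕ) (hB : 2 * g + 1 ≤ B) :
    (∀ ℓ : ℕ, ℓ.Prime → B < ℓ → d ∣ ∏ a ∈ Icc 1 g, (ℓ ^ (2 * a) - 1)) ↔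
      d ∣ 2 ^ (3 * g + padicValNat 2 g.factorial) *
        ∏ p ∈ (Icc 3 (2 * g + 1)).filter Nat.Prime,
          p ^ ((2 * g) / (p - 1) + ∑ i ∈ Icc 1 ((2 * g) / (p - 1)), padicValNat p i) := by
  have hN : 2 ^ (3 * g + padicValNat 2 g.factorial) *
        ∏ p ∈ (Icc 3 (2 * g + 1)).filter Nat.Prime,
          p ^ ((2 * g) / (p - 1) + ∑ i ∈ Icc 1 ((2 * g) / (p - 1)), padicValNat p i) ≠ 0 :=
    mul_ne_zero (by positivity) (prod_ne_zero_iff.2 fun q hq => pow_ne_zero _ (mem_filter.1 hq).2.ne_zero)
  have hP : ∀ l : ℕ, 2 ≤ l → ∏ a ∈ Icc 1 g, (l ^ (2 * a) - 1) ≠ 0 := fun l hl =>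
    prod_ne_zero_iff.2 fun a ha => Groth.Agent.SSRedLib.pow_ne_one hl (by have := (mem_Icc.1 ha).1; omega)
  constructor
  · intro h
    have hd : d ≠ 0 := fun h0 => by
      obtain ⟨l, hl1, hl2⟩ := Nat.exists_infinite_primes (B + 1)
      exact hP l hl2.two_le (Nat.eq_zero_of_zero_dvd (h0 ▸ h l hl2 (by omega)))
    refine (Nat.factorization_le_iff_dvd hd hN).1 fun p => ?_
    by_cases hp : p.Prime
    · obtain ⟨l, hl, hlB, he⟩ := Groth.Agent.SSRedLib.exists_prime_eq g B hp
      rw [Groth.Agent.SSRedLib.factorization_N g hp, ← he,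
        ← Groth.Agent.SSRedLib.factorization_prod hl.two_le hp]
      exact (Nat.factorization_le_iff_dvd hd (hP l hl.two_le)).2 (h l hl hlB) p
    · simp [Nat.factorization_eq_zero_of_not_prime _ hp]
  · intro h l hl hlB
    refine h.trans ((Nat.factorization_le_iff_dvd hN (hP l hl.two_le)).1 fun p => ?_)
    by_cases hp : p.Prime
    · rw [Groth.Agent.SSRedLib.factorization_N g hp, Groth.Agent.SSRedLib.factorization_prod hl.two_le hp]
      by_cases hpl : p ∣ l
      · obtain rfl := (Nat.prime_dvd_prime_iff_eq hp hl).1 hpl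
        have hz : (2 * g) / (p - 1) = 0 := Nat.div_eq_of_lt (by omega)
        rcases eq_or_ne p 2 with rfl | h2
        · have : g = 0 := by omega
          subst this
          simp [Groth.Agent.SSRedLib.ex]
        · simp [Groth.Agent.SSRedLib.ex, h2, hz]
      · exact Groth.Agent.SSRedLib.ex_le hp hl.two_le hpl
    · simp [Nat.factorization_eq_zero_of_not_prime _ hp]

end Groth.Agent.S17445
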