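import Groth.Statements.S17446
import Mathlib

set_option autoImplicit false
universe u v
open SSRed

namespace Groth.Agent.S17446

/-- Let K be a field, V a finite-dimensional K-vector space and H₁, H₂ subgroups of the group of
K-linear automorphisms of V such that H₂ normalizes H₁. Call the action of a subgroup H unipotent
when, for some n, every product (h₁ - 1)(h₂ - 1)⋯(hₙ - 1) with all hᵢ in H is the zero endomorphism
(equivalently, V has an H-stable flag on whose successive quotients H acts trivially). If H₁ and H₂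
act unipotently, then the subgroup generated by H₁ and H₂ acts unipotently. (In the published result
H₁ and H₂ are the absolute Galois groups of two finite Galois extensions of a strictly henselian
discretely valued field over which an abelian variety becomes semistable, acting on its rational
ℓ-adic Tate module, and the conclusion is semistability over the intersection of the two fields; the
printed argument uses only that H₂ normalizes H₁.) -/
theorem result (K : Type u) (V : Type v) [Field K]
    [AddCommGroup V] [Module K V] [FiniteDimensional K V]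
    (H₁ H₂ : Subgroup (V ≃ₗ[K] V)) (hnorm : ∀ g ∈ H₂, ∀ h ∈ H₁, g * h * g⁻¹ ∈ H₁)
    (h₁ : ∃ n : ℕ, ∀ f : Fin n → ↥H₁,
      (List.ofFn fun i => (((f i : ↥H₁) : V ≃ₗ[K] V) : Module.End K V) - 1).prod = 0)
    (h₂ : ∃ n : ℕ, ∀ f : Fin n → ↥H₂,
      (List.ofFn fun i => (((f i : ↥H₂) : V ≃ₗ[K] V) : Module.End K V) - 1).prod = 0) :
    ∃ n : ℕ, ∀ f : Fin n → ↥(H₁ ⊔ H₂),
      (List.ofFn fun i => (((f i : ↥(H₁ ⊔ H₂)) : V ≃ₗ[K] V) : Module.End K V) - 1).prod = 0 := by
  classical
  obtain ⟨n₁, h₁⟩ := h₁
  obtain ⟨n₂, h₂⟩ := h₂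
  -- the filtration by products of `n` augmentation elements of `H₁`
  let W : ℕ → Submodule K V := fun i => ⨆ f : Fin i → ↥H₁,
    LinearMap.range ((List.ofFn fun j => (((f j : ↥H₁) : V ≃ₗ[K] V) : Module.End K V) - 1).prod)
  have hW0 : W 0 = ⊤ := eq_top_iff.2 fun v _ => Submodule.mem_iSup_of_mem (fun j => j.elim0) ⟨v, by simp⟩
  have hWn : W n₁ = ⊥ := le_antisymm (iSup_le fun f => by rw [h₁ f, LinearMap.range_zero]) bot_le
  have haug : ∀ i, ∀ a ∈ H₁, ∀ v ∈ W i, (((a : V ≃ₗ[K] V) : Module.End K V) - 1) v ∈ W (i + 1) := by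
    intro i a ha v hv
    induction hv using Submodule.iSup_induction' with
    | mem f x hx =>
      obtain ⟨y, rfl⟩ := hx
      refine Submodule.mem_iSup_of_mem (Fin.cons ⟨a, ha⟩ f) ⟨y, ?_⟩
      simp [List.ofFn_succ]
    | zero => simp
    | add x y _ _ hx hy => rw [map_add]; exact add_mem hx hy
  have hconj : ∀ b ∈ H₂, ∀ i, ∀ v ∈ W i, (b : V ≃ₗ[K] V) v ∈ W i := by
    intro b hb i
    induction i with
    | zero => intro v _; rw [hW0]; exact Submodule.mem_top
    | succ i ih =>
      intro v hv
      induction hv using Submodule.iSup_induction' with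
      | mem f x hx =>
        obtain ⟨y, rfl⟩ := hx
        rw [List.ofFn_succ, List.prod_cons, Module.End.mul_apply]
        set z := (List.ofFn fun j : Fin i => (((f j.succ : ↥H₁) : V ≃ₗ[K] V) : Module.End K V) - 1).prod y
        have hz : b z ∈ W i := ih z (Submodule.mem_iSup_of_mem (fun j => f j.succ) ⟨y, rfl⟩)
        have := haug i _ (hnorm b hb _ (f 0).2) _ hz
        convert this using 1
        simp [LinearEquiv.mul_eq_trans, map_sub, show ∀ u, (b⁻¹ : V ≃ₗ[K] V) (b u) = u from b.symm_apply_apply]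
      | zero => simp
      | add x y _ _ hx hy => rw [map_add]; exact add_mem hx hy
  have hfix : ∀ a ∈ H₁, ∀ i, ∀ v ∈ W i, (a : V ≃ₗ[K] V) v ∈ W i := by
    intro a ha i v hv
    cases i with
    | zero => rw [hW0]; exact Submodule.mem_top
    | succ i =>
      have hv' : v ∈ W i := by
        induction hv using Submodule.iSup_induction' with
        | mem f x hx =>
          obtain ⟨y, rfl⟩ := hx
          refine Submodule.mem_iSup_of_mem (fun j => f j.castSucc)
            ⟨((((f (Fin.last i) : ↥H₁) : V ≃ₗ[K] V) : Module.End K V) - 1) y, ?_⟩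
          rw [List.ofFn_succ' (f := fun j => (((f j : ↥H₁) : V ≃ₗ[K] V) : Module.End K V) - 1), List.concat_eq_append, List.prod_append, Module.End.mul_apply]
          simp
        | zero => simp
        | add x y _ _ hx hy => exact add_mem hx hy
      have := add_mem (haug i a ha v hv') hv
      simpa using this
  -- every element of `H₁ ⊔ H₂` is a product
  have hprod : ∀ x ∈ H₁ ⊔ H₂, ∃ a ∈ H₁, ∃ b ∈ H₂, x = a * b := by
    intro x hx
    rw [Subgroup.sup_eq_closure_mul] at hx
    induction hx using Subgroup.closure_induction with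
    | mem y hy => obtain ⟨a, ha, b, hb, rfl⟩ := hy; exact ⟨a, ha, b, hb, rfl⟩
    | one => exact ⟨1, one_mem _, 1, one_mem _, (one_mul 1).symm⟩
    | mul y z _ _ hy hz =>
      obtain ⟨a, ha, b, hb, rfl⟩ := hy
      obtain ⟨a', ha', b', hb', rfl⟩ := hz
      exact ⟨a * (b * a' * b⁻¹), mul_mem ha (hnorm b hb a' ha'), b * b', mul_mem hb hb', by group⟩
    | inv y _ hy =>
      obtain ⟨a, ha, b, hb, rfl⟩ := hy
      have := hnorm b⁻¹ (inv_mem hb) a⁻¹ (inv_mem ha)
      rw [inv_inv] at this
      exact ⟨_, this, b⁻¹, inv_mem hb, by group⟩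
  -- modulo `W (i+1)` an element acts on `W i` through `H₂`
  have hmod : ∀ i (l : List (↥(H₁ ⊔ H₂))), ∃ l' : List ↥H₂, l'.length = l.length ∧ ∀ v ∈ W i,
      (l.map fun x => ((((x : ↥(H₁ ⊔ H₂))) : V ≃ₗ[K] V) : Module.End K V) - 1).prod v -
      (l'.map fun x => (((x : ↥H₂) : V ≃ₗ[K] V) : Module.End K V) - 1).prod v ∈ W (i + 1) := by
    intro i l
    induction l with
    | nil => exact ⟨[], rfl, fun v _ => by simp⟩
    | cons x l ih =>
      obtain ⟨l', hl', h⟩ := ih
      obtain ⟨a, ha, b, hb, hab⟩ := hprod x.1 x.2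
      refine ⟨⟨b, hb⟩ :: l', by simp [hl'], fun v hv => ?_⟩
      simp only [List.map_cons, List.prod_cons, Module.End.mul_apply]
      set p := (l.map fun x => ((((x : ↥(H₁ ⊔ H₂))) : V ≃ₗ[K] V) : Module.End K V) - 1).prod v
      set q := (l'.map fun x => (((x : ↥H₂) : V ≃ₗ[K] V) : Module.End K V) - 1).prod v
      have hq : q ∈ W i := by
        simp only [q]
        clear h p hl'
        induction l' with
        | nil => simpa using hv
        | cons y l' ih' =>
          simp only [List.map_cons, List.prod_cons, Module.End.mul_apply, LinearMap.sub_apply, Module.End.one_apply]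
          exact sub_mem (hconj y.1 y.2 i _ ih') ih'
      have key : (((x.1 : V ≃ₗ[K] V) : Module.End K V) - 1) p - (((b : V ≃ₗ[K] V) : Module.End K V) - 1) q =
          (a (b (p - q)) - (p - q)) + ((((a : V ≃ₗ[K] V) : Module.End K V) - 1) (b q)) := by
        simp [hab, LinearEquiv.mul_eq_trans]
        abel
      rw [key]
      refine add_mem (sub_mem ?_ (h v hv)) (haug i a ha _ (hconj b hb i q hq))
      exact hfix a ha _ _ (hconj b hb _ _ (h v hv))
  have hstep : ∀ i (l : List (↥(H₁ ⊔ H₂))), l.length = n₂ → ∀ v ∈ W i,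
      (l.map fun x => ((((x : ↥(H₁ ⊔ H₂))) : V ≃ₗ[K] V) : Module.End K V) - 1).prod v ∈ W (i + 1) := by
    intro i l hl v hv
    obtain ⟨l', hl', h⟩ := hmod i l
    have h0 := h₂ (fun j => l'.get (j.cast (by omega)))
    have e : (List.ofFn fun j : Fin n₂ => (((l'.get (j.cast (by omega)) : ↥H₂) : V ≃ₗ[K] V) : Module.End K V) - 1) =
        l'.map fun x => (((x : ↥H₂) : V ≃ₗ[K] V) : Module.End K V) - 1 :=
      List.ext_getElem (by simp; omega) fun m _ _ => by simp
    rw [e] at h0
    have := h v hv
    rwa [h0, LinearMap.zero_apply, sub_zero] at this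
  have hmain : ∀ i (l : List (↥(H₁ ⊔ H₂))), l.length = i * n₂ → ∀ v,
      (l.map fun x => ((((x : ↥(H₁ ⊔ H₂))) : V ≃ₗ[K] V) : Module.End K V) - 1).prod v ∈ W i := by
    intro i
    induction i with
    | zero => intro l _ v; rw [hW0]; exact Submodule.mem_top
    | succ i ih =>
      intro l hl v
      rw [← List.take_append_drop n₂ l, List.map_append, List.prod_append, Module.End.mul_apply]
      refine hstep i _ (by simp [hl, Nat.succ_mul]) _ (ih _ (by simp [hl, Nat.succ_mul]) v)
  refine ⟨n₁ * n₂, fun f => LinearMap.ext fun v => ?_⟩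
  have := hmain n₁ (List.ofFn f) (by simp) v
  rw [hWn, Submodule.mem_bot, List.map_ofFn] at this
  exact this

end Groth.Agent.S17446
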