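import Groth.Statements.S17471
import Mathlib.LinearAlgebra.RootSystem.Finite.Lemmas
import Mathlib.LinearAlgebra.RootSystem.Base

set_option autoImplicit false
universe u v w x
open RootCh

namespace Groth.Agent.S17471

/-- Let Φ be a finite, reduced, crystallographic, irreducible root system with a base, and θ a positive
root such that θ + β is a root for no positive root β (so θ is the highest root). Then Σ_{β>0} ⟨β,
θ^∨⟩² = 2 + Σ_{β>0} ⟨β, θ^∨⟩ = 2(1 + ⟨ρ, θ^∨⟩), ρ being half the sum of the positive roots; in the
source the left side is the index of the adjoint representation obtained from its formal character,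
and 1 + ⟨ρ, θ^∨⟩ is the dual Coxeter number. -/
theorem result
    {ι : Type u} {R : Type v} {M : Type w} {N : Type x}
    [Field R] [LinearOrder R] [IsStrictOrderedRing R]
    [AddCommGroup M] [Module R M] [AddCommGroup N] [Module R N] [Fintype ι]
    (P : RootPairing ι R M N) [P.IsRootSystem] [P.IsCrystallographic] [P.IsReduced]
    [P.IsIrreducible] (b : P.Base) (θ : ι) (hθ : b.IsPos θ)
    (hmax : ∀ i : ι, b.IsPos i → P.root θ + P.root i ∉ Set.range P.root) :
    ∑ i ∈ Finset.univ.filter (fun i => 0 < b.height i), P.pairing i θ ^ 2 =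
      2 + ∑ i ∈ Finset.univ.filter (fun i => 0 < b.height i), P.pairing i θ := by
  classical
  letI := P.indexNeg
  haveI : Module.IsReflexive R M := .of_isPerfPair P.toLinearMap
  have hcast : ∀ i j, ((P.pairingIn ℤ i j : ℤ) : R) = P.pairing i j := fun i j => by
    have := P.algebraMap_pairingIn ℤ i j
    simpa using this
  have hnn : ∀ i, b.IsPos i → 0 ≤ P.pairingIn ℤ i θ := by
    intro i hi
    by_contra h
    push Not at h
    refine hmax i hi ?_
    rw [add_comm]
    refine P.root_add_root_mem_of_pairingIn_neg h fun e => ?_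
    have : i = P.reflectionPerm θ θ := P.root.injective (by rw [e]; simp)
    rw [this] at hi
    exact ((RootPairing.Base.IsPos.neg_iff_not b θ).mp hi) hθ
  have hle : ∀ i, b.IsPos i → i ≠ θ → P.pairingIn ℤ i θ ≤ 1 := by
    intro i hi hne
    by_contra h
    push Not at h
    obtain ⟨k, hk⟩ := P.root_sub_root_mem_of_pairingIn_pos (show 0 < P.pairingIn ℤ i θ by omega) hne
    rcases RootPairing.Base.IsPos.or_neg b k with hkp | hkp
    · exact hmax k hkp ⟨i, by rw [hk]; abel⟩
    · have hγ : P.root (-k) = P.root θ - P.root i := by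
        show P.root (P.reflectionPerm k k) = _
        rw [P.root_reflectionPerm, P.reflection_apply_self, hk, neg_sub]
      have hpair : P.pairingIn ℤ (-k) θ = 2 - P.pairingIn ℤ i θ := by
        apply Int.cast_injective (α := R)
        rw [Int.cast_sub, hcast, hcast, Int.cast_ofNat, ← P.root_coroot'_eq_pairing, hγ, map_sub,
          P.root_coroot'_eq_pairing, P.root_coroot'_eq_pairing, P.pairing_same]
      have := hnn _ hkp
      have ha : P.pairingIn ℤ i θ = 2 := by omega
      refine hmax _ hkp ⟨P.reflectionPerm i i |> P.reflectionPerm θ, ?_⟩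
      rw [hγ, P.root_reflectionPerm, P.root_reflectionPerm, P.reflection_apply_self, map_neg, P.reflection_apply_root,
        ← hcast, ha, Int.cast_ofNat, two_smul]
      abel
  have hfil : (Finset.univ.filter fun i => 0 < b.height i) = Finset.univ.filter fun i => b.IsPos i :=
    Finset.filter_congr fun i _ => (RootPairing.Base.isPos_iff (b := b) (i := i)).symm
  have hmem : θ ∈ Finset.univ.filter fun i => 0 < b.height i := by
    rw [hfil]; exact Finset.mem_filter.mpr ⟨Finset.mem_univ _, hθ⟩
  rw [← Finset.add_sum_erase _ _ hmem, ← Finset.add_sum_erase _ _ hmem, P.pairing_same]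
  rw [Finset.sum_congr rfl (g := fun i => P.pairing i θ) fun i hi => ?_]
  · ring
  · obtain ⟨hne, hi'⟩ := Finset.mem_erase.mp hi
    rw [hfil] at hi'
    have hp := (Finset.mem_filter.mp hi').2
    have h0 := hnn i hp
    have h1 := hle i hp hne
    rw [← hcast i θ]
    rcases (show P.pairingIn ℤ i θ = 0 ∨ P.pairingIn ℤ i θ = 1 by omega) with h | h <;> simp [h]

end Groth.Agent.S17471
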