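import Groth.Statements.S17500
import Mathlib

set_option autoImplicit false
universe u
open TorsMod

namespace Groth.Agent.S17500

/-- Let p be a prime number, n a natural number and H a module over ℤ/p^nℤ. Then H is flat over ℤ/p^nℤ
if and only if, for every i with 0 ≤ i ≤ n, the kernel of multiplication by p^i on H coincides with
the image of multiplication by p^(n-i) on H. (The published item is phrased for an fppf sheaf of
ℤ/p^nℤ-modules on a scheme; this is the case of a single module, which is the case the argument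
treats.) -/
theorem result (p n : ℕ) [Fact p.Prime]
    (H : Type u) [AddCommGroup H] [Module (ZMod (p ^ n)) H] :
    Module.Flat (ZMod (p ^ n)) H ↔
      ∀ i : ℕ, i ≤ n →
        LinearMap.ker ((p ^ i : ZMod (p ^ n)) • (LinearMap.id : H →ₗ[ZMod (p ^ n)] H)) =
          LinearMap.range ((p ^ (n - i) : ZMod (p ^ n)) • (LinearMap.id : H →ₗ[ZMod (p ^ n)] H)) := by
  have hp : p.Prime := Fact.out
  haveI : NeZero (p ^ n) := ⟨pow_ne_zero _ hp.ne_zero⟩
  have hpn : (p ^ n : (ZMod (p ^ n))) = 0 := by
    have := ZMod.natCast_self (p ^ n)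
    exact_mod_cast this
  have hann : ∀ (i : ℕ), i ≤ n → ∀ a : (ZMod (p ^ n)), (p ^ i : (ZMod (p ^ n))) * a = 0 → ∃ b : (ZMod (p ^ n)), a = p ^ (n - i) * b := by
    intro i hi a ha
    have h1 : ((p ^ i * a.val : ℕ) : (ZMod (p ^ n))) = 0 := by push_cast; rw [ZMod.natCast_rightInverse a]; exact ha
    rw [ZMod.natCast_eq_zero_iff] at h1
    obtain ⟨c, hc⟩ := Nat.dvd_of_mul_dvd_mul_left (pow_pos hp.pos i) ((pow_mul_pow_sub p hi).symm ▸ h1 : p ^ i * p ^ (n - i) ∣ p ^ i * a.val)
    exact ⟨(c : (ZMod (p ^ n))), by rw [← ZMod.natCast_rightInverse a, hc]; push_cast; rfl⟩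
  constructor
  · intro hflat i hi
    ext h
    simp only [LinearMap.mem_ker, LinearMap.mem_range, LinearMap.smul_apply, LinearMap.id_apply]
    constructor
    · intro hh
      obtain ⟨k, a, y, hx, hf⟩ := Module.Flat.isTrivialRelation_of_sum_smul_eq_zero
        (f := fun _ : Fin 1 => (p ^ i : (ZMod (p ^ n)))) (x := fun _ => h) (by simpa using hh)
      choose b hb using fun j => hann i hi (a 0 j) (by simpa using hf j)
      refine ⟨∑ j, b j • y j, ?_⟩
      rw [Finset.smul_sum]
      refine Eq.trans ?_ (hx 0).symm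
      exact Finset.sum_congr rfl fun j _ => by rw [hb, smul_smul]
    · rintro ⟨y, rfl⟩
      rw [smul_smul, ← pow_add, show i + (n - i) = n by omega, hpn, zero_smul]
  · intro hker
    refine Module.Flat.iff_rTensor_injective'.2 fun I => ?_
    obtain ⟨i, hi, hI⟩ : ∃ i, i ≤ n ∧ I = Ideal.span {(p ^ i : (ZMod (p ^ n)))} := by
      obtain ⟨d, hd⟩ : ∃ d : ℕ, I = Ideal.span {(d : (ZMod (p ^ n)))} ∧ d ∣ p ^ n := by
        have hc : Function.Surjective (Nat.cast : ℕ → (ZMod (p ^ n))) := fun a => ⟨a.val, ZMod.natCast_rightInverse a⟩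
        obtain ⟨d, hd⟩ := IsPrincipalIdealRing.principal (I.comap (Int.castRingHom (ZMod (p ^ n))))
        refine ⟨d.natAbs, ?_, ?_⟩
        · have e : I = (I.comap (Int.castRingHom (ZMod (p ^ n)))).map (Int.castRingHom (ZMod (p ^ n))) :=
            (Ideal.map_comap_of_surjective _ (ZMod.intCast_surjective) I).symm
          rw [e, hd, Ideal.submodule_span_eq, ← Int.span_natAbs d, Ideal.map_span, Set.image_singleton]
          simp
        · have : ((p ^ n : ℕ) : ℤ) ∈ I.comap (Int.castRingHom (ZMod (p ^ n))) := by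
            rw [Ideal.mem_comap]; simp [hpn]
          rw [hd, Ideal.submodule_span_eq, Ideal.mem_span_singleton] at this
          simpa using Int.natAbs_dvd_natAbs.2 this
      obtain ⟨i, hi, rfl⟩ := (Nat.dvd_prime_pow hp).1 hd.2
      exact ⟨i, hi, by rw [hd.1]; push_cast; rfl⟩
    subst hI
    rw [injective_iff_map_eq_zero]
    intro t ht
    obtain ⟨h, rfl⟩ : ∃ h : H, t = (⟨(p ^ i : (ZMod (p ^ n))), Ideal.mem_span_singleton_self _⟩ : Ideal.span {(p ^ i : (ZMod (p ^ n)))}) ⊗ₜ[(ZMod (p ^ n))] h := by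
      clear ht
      induction t using TensorProduct.induction_on with
      | zero => exact ⟨0, by simp⟩
      | tmul a h =>
        obtain ⟨b, hb⟩ := Ideal.mem_span_singleton'.1 a.2
        refine ⟨b • h, ?_⟩
        rw [TensorProduct.tmul_smul, TensorProduct.smul_tmul']
        congr 1
        exact Subtype.ext hb.symm
      | add x y hx hy =>
        obtain ⟨u, rfl⟩ := hx; obtain ⟨v, rfl⟩ := hy
        exact ⟨u + v, (TensorProduct.tmul_add _ _ _).symm⟩
    have h0 : (p ^ i : (ZMod (p ^ n))) • h = 0 := by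
      rw [LinearMap.rTensor_tmul] at ht
      simpa using congrArg (TensorProduct.lid (ZMod (p ^ n)) H) ht
    obtain ⟨y, hy⟩ := (hker i hi).le (show h ∈ LinearMap.ker _ by simpa using h0)
    simp only [LinearMap.smul_apply, LinearMap.id_apply] at hy
    rw [← hy, TensorProduct.tmul_smul, TensorProduct.smul_tmul']
    rw [show (p ^ (n - i) : (ZMod (p ^ n))) • (⟨(p ^ i : (ZMod (p ^ n))), Ideal.mem_span_singleton_self _⟩ : Ideal.span {(p ^ i : (ZMod (p ^ n)))}) = 0 from
      Subtype.ext (by show (p ^ (n - i) : (ZMod (p ^ n))) * p ^ i = 0; rw [← pow_add, show n - i + i = n by omega, hpn]), TensorProduct.zero_tmul]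

end Groth.Agent.S17500
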