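import Groth.Statements.S17546
import Groth.Agent.Decay.Complete

set_option autoImplicit false
universe u v w
open W4c5adicflatcompl
open CAlg

namespace Groth.Agent.S17546

/-- For a Noetherian ring A which is I-adically complete and any set Z, the A-module of I-adically
decaying functions Z → A is I-adically complete. -/
theorem result {A : Type u} [CommRing A] [IsNoetherianRing A]
    (I : Ideal A) [IsAdicComplete I A] (Z : Type v) :
    IsAdicComplete I (decaying I Z A) := by
  exact Groth.Agent.Decay.isAdicComplete_decaying ((isNoetherianRing_iff_ideal_fg A).mp inferInstance I)

end Groth.Agent.S17546
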