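import Groth.Statements.S17592
import Groth.Agent.HensPair.Henselization

set_option autoImplicit false
universe u
open Hensel

namespace Groth.Agent.S17592

/-- Let R → S be an étale ring map and I an ideal of R such that the induced map R/I → S/IS is
bijective. Then a Henselization of the pair (S, IS), regarded as an R-algebra, is a Henselization of
the pair (R, I). -/
theorem result (R : Type u) [CommRing R] (I : Ideal R)
    (S : Type u) [CommRing S] [Algebra R S] [Algebra.Etale R S]
    (hq : Function.Bijective
      (Ideal.quotientMap (I.map (algebraMap R S)) (algebraMap R S) Ideal.le_comap_map))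
    (H : Type u) [CommRing H] [Algebra S H] [Algebra R H] [IsScalarTower R S H]
    (hH : Hens2.IsPairHenselization S (I.map (algebraMap R S)) H) :
    Hens2.IsPairHenselization R I H := by
  have hS : HensPair.Nbhd.IsNbhd I S := HensPair.Nbhd.of_bijective hq
  have hmap : I.map (algebraMap R H) = (I.map (algebraMap R S)).map (algebraMap S H) := by
    rw [Ideal.map_map, ← IsScalarTower.algebraMap_eq]
  refine ⟨hmap ▸ hH.1, fun C _ J f hC hf => ?_⟩
  let : Algebra R C := f.toAlgebra
  obtain ⟨s⟩ := HensPair.Henselization.exists_hom_henselian J hf S hS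
  have hsJ : (I.map (algebraMap R S)).map s.toRingHom ≤ J := by
    rw [Ideal.map_map, AlgHom.toRingHom_eq_coe, AlgHom.comp_algebraMap]; exact hf
  obtain ⟨g, hg, huniq⟩ := hH.2 C J s.toRingHom hC hsJ
  refine ⟨g, ?_, fun g' hg' => huniq g' ?_⟩
  · show g.comp (algebraMap R H) = f
    rw [IsScalarTower.algebraMap_eq R S H, ← RingHom.comp_assoc, hg]
    exact s.comp_algebraMap
  · let s' : S →ₐ[R] C := ⟨g'.comp (algebraMap S H), fun r => by
      refine Eq.trans ?_ (RingHom.congr_fun hg' r)
      simp [IsScalarTower.algebraMap_apply R S H]⟩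
    exact congrArg AlgHom.toRingHom (hS.hom_eq (hf.trans hC.jac) s' s)

end Groth.Agent.S17592
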