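import Groth.Statements.S17593
import Groth.Agent.EtAlg.ZeroLocusNhd
import Groth.Agent.Flat.OpenLocus

set_option autoImplicit false
universe u
open Hensel

namespace Groth.Agent.S17593

/-- Suppose (A, I) is a Henselian pair, and R is an A-algebra of finite presentation for which A → R is
flat at each prime of R that contains IR. Then there is an étale R-algebra R' such that R/IR →
R'/IR' is bijective and A → R' is flat. -/
theorem result (A : Type u) [CommRing A] (I : Ideal A) [HenselianRing A I]
    (R : Type u) [CommRing R] [Algebra A R] [Algebra.FinitePresentation A R]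
    (h : ∀ (p : Ideal R) [p.IsPrime], I.map (algebraMap A R) ≤ p → Module.Flat A (Localization.AtPrime p))
    : ∃ (R' : Type u) (_ : CommRing R') (_ : Algebra R R') (_ : Algebra A R') (_ : IsScalarTower A R R'),
      Algebra.Etale R R' ∧
      Function.Bijective (Ideal.quotientMap ((I.map (algebraMap A R)).map (algebraMap R R'))
        (algebraMap R R') Ideal.le_comap_map) ∧ Module.Flat A R' := by
  have : Module.FinitePresentation R R := Module.finitePresentation_of_projective R R
  obtain ⟨g, hgU, hbij⟩ := EtAlg.ZeroLocusNhd.exists_away (I.map (algebraMap A R))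
    {q | Flat.FlatAt.FlatAt A R q.asIdeal} Flat.OpenLocus.isOpen_flatLocus
    (fun x hx => (Flat.FlatAt.flatAt_iff x.asIdeal
      (Algebra.linearMap R (Localization.AtPrime x.asIdeal))).mpr (h x.asIdeal hx))
  let U := Localization.Away g
  refine ⟨U, inferInstance, inferInstance, inferInstance, inferInstance,
    EtAlg.ZeroLocusNhd.etale_away g, hbij, ?_⟩
  refine Module.flat_of_isLocalized_maximal U U
    (fun P => Localization.AtPrime P) (fun P => Algebra.linearMap U (Localization.AtPrime P))
    fun P hP => ?_
  have hP' := hgU (show PrimeSpectrum.comap (algebraMap R U) ⟨P, hP.isPrime⟩ ∈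
    (PrimeSpectrum.basicOpen g : Set _) from by
      rw [← PrimeSpectrum.localization_away_comap_range U g]; exact ⟨_, rfl⟩)
  have : IsLocalization.AtPrime (Localization.AtPrime P) (P.comap (algebraMap R U)) :=
    IsLocalization.isLocalization_isLocalization_atPrime_isLocalization (.powers g) _ P
  have : IsLocalizedModule (P.comap (algebraMap R U)).primeCompl
      (IsScalarTower.toAlgHom R R (Localization.AtPrime P)).toLinearMap :=
    isLocalizedModule_iff_isLocalization.mpr inferInstance
  exact (Flat.FlatAt.flatAt_iff (P.comap (algebraMap R U))
    (IsScalarTower.toAlgHom R R (Localization.AtPrime P)).toLinearMap).mp hP'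

end Groth.Agent.S17593
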