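import Groth.Statements.S17604
import Groth.Agent.HensPair.Henselization

set_option autoImplicit false
universe u
open Hensel

namespace Groth.Agent.S17604

/-- Let (A, I) be a Henselian pair, R and R' étale A-algebras, and B, B' Henselizations of the pairs (R,
IR), (R', IR') with their induced A-algebra structures (so B and B' are h-étale over A). Then
reduction modulo I is a bijection from A-algebra maps B → B' to A-algebra maps B/IB → B'/IB': two
A-algebra maps B → B' that agree modulo IB' are equal, and every A-algebra map B/IB → B'/IB' is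
induced by an A-algebra map B → B'. -/
theorem result (A : Type u) [CommRing A]
    (I : Ideal A) [HenselianRing A I]
    (R : Type u) [CommRing R] [Algebra A R] [Algebra.Etale A R]
    (B : Type u) [CommRing B] [Algebra R B] [Algebra A B] [IsScalarTower A R B]
    (hB : Hens2.IsPairHenselization R (I.map (algebraMap A R)) B)
    (R' : Type u) [CommRing R'] [Algebra A R'] [Algebra.Etale A R']
    (B' : Type u) [CommRing B'] [Algebra R' B'] [Algebra A B'] [IsScalarTower A R' B']
    (hB' : Hens2.IsPairHenselization R' (I.map (algebraMap A R')) B') :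
    (∀ φ ψ : B →ₐ[A] B', (∀ b : B, φ b - ψ b ∈ I.map (algebraMap A B')) → φ = ψ) ∧
    ∀ χ : (B ⧸ I.map (algebraMap A B)) →ₐ[A] (B' ⧸ I.map (algebraMap A B')),
      ∃ φ : B →ₐ[A] B', ∀ b : B,
        Ideal.Quotient.mk (I.map (algebraMap A B')) (φ b) = χ (Ideal.Quotient.mk (I.map (algebraMap A B)) b) := by
  have hBR : I.map (algebraMap A B) = (I.map (algebraMap A R)).map (algebraMap R B) := by
    rw [Ideal.map_map, ← IsScalarTower.algebraMap_eq]
  have hB'R : I.map (algebraMap A B') = (I.map (algebraMap A R')).map (algebraMap R' B') := by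
    rw [Ideal.map_map, ← IsScalarTower.algebraMap_eq]
  have : HenselianRing B' (I.map (algebraMap A B')) := hB'R ▸ hB'.1
  have hle : ∀ g : B →ₐ[A] B',
      (I.map (algebraMap A R)).map (g.comp (IsScalarTower.toAlgHom A R B)).toRingHom ≤
        I.map (algebraMap A B') := fun g => by
    rw [Ideal.map_map, AlgHom.toRingHom_eq_coe, AlgHom.comp_algebraMap]
  refine ⟨fun φ ψ h => ?_, fun χ => ?_⟩
  · have hR : φ.comp (IsScalarTower.toAlgHom A R B) = ψ.comp (IsScalarTower.toAlgHom A R B) :=
      HensPair.Unique.algHom_eq (I' := I.map (algebraMap A B')) HenselianRing.jac _ _ fun x => h _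
    have hu := hB.2 B' (I.map (algebraMap A B')) _ inferInstance (hle φ)
    exact AlgHom.coe_ringHom_injective (hu.unique rfl (congrArg AlgHom.toRingHom hR).symm)
  · let σ : R →ₐ[A] B' ⧸ I.map (algebraMap A B') :=
      χ.comp ((Ideal.Quotient.mkₐ A _).comp (IsScalarTower.toAlgHom A R B))
    obtain ⟨τ, hτ, -⟩ := HensPair.Basic.existsUnique_lift (J := I.map (algebraMap A B')) R σ
    have hτI : (I.map (algebraMap A R)).map τ.toRingHom ≤ I.map (algebraMap A B') := by
      rw [Ideal.map_map, AlgHom.toRingHom_eq_coe, AlgHom.comp_algebraMap]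
    obtain ⟨g, hg, -⟩ := hB.2 B' (I.map (algebraMap A B')) τ.toRingHom inferInstance hτI
    let g' : B →ₐ[A] B' := ⟨g, fun a => by
      refine Eq.trans ?_ (τ.commutes a)
      rw [IsScalarTower.algebraMap_apply A R B]
      exact RingHom.congr_fun hg _⟩
    refine ⟨g', fun b => ?_⟩
    obtain ⟨r, hr⟩ := HensPair.Henselization.approx hB b
    rw [← hBR] at hr
    have h1 : Ideal.Quotient.mk (I.map (algebraMap A B)) b =
        Ideal.Quotient.mk _ (algebraMap R B r) := Ideal.Quotient.eq.mpr hr
    rw [h1]
    show _ = σ r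
    rw [← DFunLike.congr_fun hτ r]
    refine Ideal.Quotient.eq.mpr ?_
    show g b - τ r ∈ _
    have h2 := HensPair.Henselization.map_mem g' hr
    rw [map_sub] at h2
    convert h2 using 2
    exacts [rfl, (RingHom.congr_fun hg r).symm]

end Groth.Agent.S17604
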