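import Groth.Statements.S17605
import Groth.Agent.HensPair.Henselization

set_option autoImplicit false
universe u
open Hensel

namespace Groth.Agent.S17605

/-- Let A be a ring with an ideal I and let f₁, f₂ be elements of A such that D(f₂) ∩ V(I) ⊆ D(f₁) ∩
V(I) in Spec A. If H₁ is a Henselization of the pair (A_{f₁}, IA_{f₁}) and H₂ a Henselization of the
pair (A_{f₂}, IA_{f₂}), with their induced A-algebra structures, then there is exactly one A-algebra
map H₁ → H₂. -/
theorem result (A : Type u) [CommRing A]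
    (I : Ideal A) (f₁ f₂ : A)
    (h : (PrimeSpectrum.basicOpen f₂ : Set (PrimeSpectrum A)) ∩ PrimeSpectrum.zeroLocus (I : Set A) ⊆
      (PrimeSpectrum.basicOpen f₁ : Set (PrimeSpectrum A)) ∩ PrimeSpectrum.zeroLocus (I : Set A))
    (H₁ : Type u) [CommRing H₁] [Algebra (Localization.Away f₁) H₁] [Algebra A H₁]
    [IsScalarTower A (Localization.Away f₁) H₁]
    (hH₁ : Hens2.IsPairHenselization (Localization.Away f₁)
      (I.map (algebraMap A (Localization.Away f₁))) H₁)
    (H₂ : Type u) [CommRing H₂] [Algebra (Localization.Away f₂) H₂] [Algebra A H₂]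
    [IsScalarTower A (Localization.Away f₂) H₂]
    (hH₂ : Hens2.IsPairHenselization (Localization.Away f₂)
      (I.map (algebraMap A (Localization.Away f₂))) H₂) :
    Nonempty (H₁ →ₐ[A] H₂) ∧ Subsingleton (H₁ →ₐ[A] H₂) := by
  have hmap : I.map (algebraMap A H₂) =
      (I.map (algebraMap A (Localization.Away f₂))).map (algebraMap (Localization.Away f₂) H₂) := by
    rw [Ideal.map_map, ← IsScalarTower.algebraMap_eq]
  have : HenselianRing H₂ (I.map (algebraMap A H₂)) := hmap ▸ hH₂.1
  have hu : IsUnit (algebraMap A H₂ f₁) := by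
    let K := I.map (algebraMap A (Localization.Away f₂))
    have hK : IsUnit (Ideal.Quotient.mk K (algebraMap A _ f₁)) := by
      by_contra hn
      obtain ⟨M, hM, hfM⟩ := exists_max_ideal_of_mem_nonunits hn
      let P : Ideal A := M.comap ((Ideal.Quotient.mk K).comp (algebraMap A (Localization.Away f₂)))
      have hP : P.IsPrime := Ideal.IsPrime.comap _
      have h2 : f₂ ∉ P := fun hf => hM.ne_top (Ideal.eq_top_of_isUnit_mem _ hf
        ((IsLocalization.Away.algebraMap_isUnit (S := Localization.Away f₂) f₂).map (Ideal.Quotient.mk K)))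
      have hI : I ≤ P := fun a ha => by
        show Ideal.Quotient.mk K (algebraMap A _ a) ∈ M
        rw [Ideal.Quotient.eq_zero_iff_mem.mpr (Ideal.mem_map_of_mem _ ha)]
        exact zero_mem _
      have hmem : (⟨P, hP⟩ : PrimeSpectrum A) ∈ (PrimeSpectrum.basicOpen f₂ : Set (PrimeSpectrum A)) ∩
          PrimeSpectrum.zeroLocus (I : Set A) := ⟨h2, hI⟩
      exact (h hmem).1 hfM
    refine HensPair.Criteria.isUnit_of_mk_isUnit (I := I.map (algebraMap A H₂)) HenselianRing.jac ?_
    have h1 := hK.map (Ideal.quotientMap (I.map (algebraMap A H₂)) (algebraMap (Localization.Away f₂) H₂)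
      (Ideal.map_le_iff_le_comap.mp hmap.ge))
    rwa [Ideal.quotientMap_mk, ← IsScalarTower.algebraMap_apply] at h1
  let l : Localization.Away f₁ →+* H₂ := IsLocalization.Away.lift f₁ hu
  have hl : l.comp (algebraMap A _) = algebraMap A H₂ := IsLocalization.Away.lift_comp f₁ hu
  have hlI : (I.map (algebraMap A (Localization.Away f₁))).map l ≤ I.map (algebraMap A H₂) := by
    rw [Ideal.map_map, hl]
  obtain ⟨g, hg, hgu⟩ := hH₁.2 H₂ (I.map (algebraMap A H₂)) l inferInstance hlI
  refine ⟨⟨⟨g, fun a => ?_⟩⟩, ⟨fun φ ψ => ?_⟩⟩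
  · rw [IsScalarTower.algebraMap_apply A (Localization.Away f₁) H₁]
    exact (RingHom.congr_fun hg _).trans (RingHom.congr_fun hl a)
  · have : ∀ χ : H₁ →ₐ[A] H₂, χ.toRingHom.comp (algebraMap (Localization.Away f₁) H₁) = l := fun χ => by
      refine IsLocalization.ringHom_ext (Submonoid.powers f₁) ?_
      rw [hl, RingHom.comp_assoc, ← IsScalarTower.algebraMap_eq]
      exact χ.comp_algebraMap
    exact AlgHom.coe_ringHom_injective ((hgu _ (this φ)).trans (hgu _ (this ψ)).symm)

end Groth.Agent.S17605
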