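import Groth.Statements.S17620
import Groth.Agent.HensPair.Henselization
import Groth.Agent.HensPair.Local
import Mathlib.FieldTheory.SeparableClosure

set_option autoImplicit false
universe u
open Hensel

namespace Groth.Agent.S17620

/-- Let R be a local ring and J an ideal of R contained in the maximal ideal, let H be a Henselization
of the pair (R, J) which is a local ring with local structure map R → H, and let S be a strict
Henselization of the local ring H. Then S, with its composite R-algebra structure, is a strict
Henselization of the local ring R. (This is the identification of the strict Henselization of the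
local ring of a scheme at a point with that of the local ring of its Henselization along a closed
subscheme through the point.) -/
theorem result
    (R : Type u) [CommRing R] [IsLocalRing R] (J : Ideal R) (hJ : J ≤ IsLocalRing.maximalIdeal R)
    (H : Type u) [CommRing H] [IsLocalRing H] [Algebra R H] [IsLocalHom (algebraMap R H)]
    (hH : Hens2.IsPairHenselization R J H)
    (S : Type u) [CommRing S] [IsLocalRing S] [Algebra H S] [IsLocalHom (algebraMap H S)]
    [Hensel.IsStrictHenselization H S]
    [Algebra R S] [IsScalarTower R H S] [IsLocalHom (algebraMap R S)] :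
    Hensel.IsStrictHenselization R S := by
  have hHS := ‹Hensel.IsStrictHenselization H S›
  have happ : ∀ x : H, ∃ a : R, IsLocalRing.residue H (algebraMap R H a) = IsLocalRing.residue H x :=
    fun x => by
    obtain ⟨a, ha⟩ := HensPair.Henselization.approx hH x
    refine ⟨a, (Ideal.Quotient.eq.mpr ?_).symm⟩
    exact (((IsLocalRing.local_hom_TFAE (algebraMap R H)).out 0 2).mp ‹IsLocalHom (algebraMap R H)› :
      (IsLocalRing.maximalIdeal R).map (algebraMap R H) ≤ IsLocalRing.maximalIdeal H)
        (Ideal.map_mono hJ ha)
  have hRS : algebraMap R S = (algebraMap H S).comp (algebraMap R H) := IsScalarTower.algebraMap_eq R H S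
  refine ⟨hHS.henselian, ?_, fun T _ _ f hf τ hτ => ?_⟩
  · have hsc := hHS.isSepClosure
    have : Algebra.IsSeparable (IsLocalRing.ResidueField R) (IsLocalRing.ResidueField H) := by
      refine ⟨fun z => ?_⟩
      obtain ⟨x, rfl⟩ := IsLocalRing.residue_surjective z
      obtain ⟨a, ha⟩ := happ x
      rw [← ha, ← IsLocalRing.ResidueField.algebraMap_residue]
      exact isSeparable_algebraMap _
    exact ⟨hsc.sep_closed, Algebra.IsSeparable.trans _ (IsLocalRing.ResidueField H) _⟩
  · let : Algebra R T := f.toAlgebra
    have hfJ : J.map f ≤ IsLocalRing.maximalIdeal T :=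
      (Ideal.map_mono hJ).trans (((IsLocalRing.local_hom_TFAE f).out 0 2).mp hf)
    obtain ⟨g, hg, hgu⟩ := hH.2 T (IsLocalRing.maximalIdeal T) f inferInstance hfJ
    have hJT : ∀ x ∈ J.map (algebraMap R H), g x ∈ IsLocalRing.maximalIdeal T := fun x hx => by
      have := Ideal.mem_map_of_mem g hx
      rw [Ideal.map_map, hg] at this
      exact hfJ this
    have hres : ∀ (x : H) (a : R), x - algebraMap R H a ∈ J.map (algebraMap R H) →
        IsLocalRing.residue T (g x) = IsLocalRing.residue T (f a) := fun x a hxa => by
      refine Ideal.Quotient.eq.mpr ?_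
      rw [← RingHom.congr_fun hg a, RingHom.comp_apply, ← map_sub]
      exact hJT _ hxa
    have hgl : IsLocalHom g := ⟨fun x hx => by
      obtain ⟨a, ha⟩ := HensPair.Henselization.approx hH x
      have h1 : IsUnit (IsLocalRing.residue T (f a)) := hres x a ha ▸ hx.map _
      have h2 : IsUnit a := isUnit_of_map_unit f a (isUnit_of_map_unit (IsLocalRing.residue T) _ h1)
      have hJH : J.map (algebraMap R H) ≤ IsLocalRing.maximalIdeal H :=
        (Ideal.map_mono hJ).trans
          (((IsLocalRing.local_hom_TFAE (algebraMap R H)).out 0 2).mp ‹IsLocalHom (algebraMap R H)›)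
      refine isUnit_of_map_unit (IsLocalRing.residue H) x ?_
      rw [show IsLocalRing.residue H x = IsLocalRing.residue H (algebraMap R H a) from
        Ideal.Quotient.eq.mpr (hJH ha)]
      exact (h2.map _).map _⟩
    have hτ' : τ.comp (IsLocalRing.ResidueField.map (algebraMap H S)) =
        IsLocalRing.ResidueField.map g := by
      refine Ideal.Quotient.ringHom_ext (RingHom.ext fun x => ?_)
      obtain ⟨a, ha⟩ := HensPair.Henselization.approx hH x
      have h1 : IsLocalRing.residue H x = IsLocalRing.residue H (algebraMap R H a) :=
        Ideal.Quotient.eq.mpr ((Ideal.map_mono hJ).trans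
          (((IsLocalRing.local_hom_TFAE (algebraMap R H)).out 0 2).mp ‹IsLocalHom (algebraMap R H)›) ha)
      have h3 := RingHom.congr_fun hτ (IsLocalRing.residue R a)
      rw [RingHom.comp_apply, IsLocalRing.ResidueField.map_residue,
        IsLocalRing.ResidueField.map_residue] at h3
      show τ (IsLocalRing.ResidueField.map (algebraMap H S) (IsLocalRing.residue H x)) =
        IsLocalRing.ResidueField.map g (IsLocalRing.residue H x)
      rw [IsLocalRing.ResidueField.map_residue, IsLocalRing.ResidueField.map_residue g, hres x a ha,
        ← h3]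
      congr 1
      rw [← IsLocalRing.ResidueField.map_residue, h1, IsLocalRing.ResidueField.map_residue, hRS]
      rfl
    obtain ⟨g', hg', hu⟩ := hHS.universal T g τ hτ'
    refine ⟨g', ⟨by rw [hRS, ← RingHom.comp_assoc, hg'.1, hg], hg'.2⟩, fun g'' hg'' => hu g'' ⟨?_, hg''.2⟩⟩
    refine hgu _ ?_
    show (g''.comp (algebraMap H S)).comp (algebraMap R H) = f
    rw [RingHom.comp_assoc, ← hRS, hg''.1]

end Groth.Agent.S17620
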