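import Groth.Statements.S17635
import Mathlib.Analysis.Normed.Module.Basic
import Mathlib.Analysis.Normed.Field.Basic
-- import your own Groth.Agent.* helpers here

set_option autoImplicit false
open Finset
open Variety

namespace Groth.Agent.S17635

/-- Let r and n be natural numbers and f : ℚ^r → ℝ a nonnegative function which is homogeneous of degree
n for positive rational scalars, f(q · v) = q^n · f(v) for q > 0; give ℚ^r the maximum norm ‖v‖ =
max_j |v_j| of its standard basis. Suppose that for every standard basis vector e_i there is a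
constant C_i with |f(v − b · e_i) − f(v)| ≤ C_i · Σ_{q=1}^{n} ‖v‖^{n−q} · b^q for all v ∈ ℚ^r and
all integers b ≥ 1. Then there is a constant C > 0 such that |f(v) − f(w)| ≤ C · Σ_{q=1}^{n}
max(‖v‖, ‖w‖)^{n−q} · ‖v − w‖^q for all v, w ∈ ℚ^r. (The source allows any norm on an r-dimensional
rational vector space with a chosen basis and argues with the maximum norm of that basis, which is
the case stated here.) -/
theorem result (r n : ℕ) (f : (Fin r → ℚ) → ℝ)
    (hf0 : ∀ v, 0 ≤ f v)
    (hhom : ∀ (q : ℚ) (v : Fin r → ℚ), 0 < q → f (q • v) = (q : ℝ) ^ n * f v)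
    (hdir : ∀ i : Fin r, ∃ Ci : ℝ, ∀ (v : Fin r → ℚ) (b : ℕ), 1 ≤ b →
      |f (v - (b : ℚ) • Pi.single i 1) - f v| ≤
        Ci * (Finset.Icc 1 n).sum (fun q => ‖(fun j => ((v j : ℚ) : ℝ))‖ ^ (n - q) * (b : ℝ) ^ q)) :
    ∃ C : ℝ, 0 < C ∧ ∀ v w : Fin r → ℚ,
      |f v - f w| ≤ C * (Finset.Icc 1 n).sum (fun q =>
        (max ‖(fun j => ((v j : ℚ) : ℝ))‖ ‖(fun j => ((w j : ℚ) : ℝ))‖) ^ (n - q) *
          ‖(fun j => ((v j - w j : ℚ) : ℝ))‖ ^ q) := by
  classical
  choose C hC using hdir
  let nrm : (Fin r → ℚ) → ℝ := fun v => ‖(fun j => ((v j : ℚ) : ℝ))‖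
  let B : (Fin r → ℚ) → (Fin r → ℚ) → ℝ := fun v w => (Finset.Icc 1 n).sum (fun q =>
    (max (nrm v) (nrm w)) ^ (n - q) * ‖(fun j => ((v j - w j : ℚ) : ℝ))‖ ^ q)
  have hB0 : ∀ v w, 0 ≤ B v w := fun v w => Finset.sum_nonneg fun q _ =>
    mul_nonneg (pow_nonneg (le_max_of_le_left (norm_nonneg _)) _) (pow_nonneg (norm_nonneg _) _)
  set K : ℝ := ∑ i, |C i| with hK
  have hint : ∀ v w : Fin r → ℚ, (∀ i, ∃ b : ℤ, v i - w i = b) → |f v - f w| ≤ K * B v w := by
    intro v w hvw
    let mix : Finset (Fin r) → (Fin r → ℚ) := fun s j => if j ∈ s then w j else v j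
    have hmix : ∀ s, nrm (mix s) ≤ max (nrm v) (nrm w) := by
      intro s
      refine (pi_norm_le_iff_of_nonneg (le_max_of_le_left (norm_nonneg _))).mpr fun j => ?_
      by_cases hj : j ∈ s
      · simp only [mix, if_pos hj]
        exact le_max_of_le_right (norm_le_pi_norm (fun j => ((w j : ℚ) : ℝ)) j)
      · simp only [mix, if_neg hj]
        exact le_max_of_le_left (norm_le_pi_norm (fun j => ((v j : ℚ) : ℝ)) j)
    have hstep : ∀ s, |f (mix s) - f v| ≤ (∑ i ∈ s, |C i|) * B v w := by
      intro s
      induction s using Finset.induction_on with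
      | empty => simp [mix]
      | @insert i s hi ih =>
        have h1 : |f (mix (insert i s)) - f (mix s)| ≤ |C i| * B v w := by
          obtain ⟨b, hb⟩ := hvw i
          have key : ∀ (x : Fin r → ℚ) (m : ℕ), 1 ≤ m → nrm x ≤ max (nrm v) (nrm w) →
              (m : ℝ) ≤ ‖(fun j => ((v j - w j : ℚ) : ℝ))‖ →
              |f (x - (m : ℚ) • Pi.single i 1) - f x| ≤ |C i| * B v w := by
            intro x m hm hx hmle
            refine (hC i x m hm).trans ((mul_le_mul_of_nonneg_right (le_abs_self _) ?_).trans ?_)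
            · exact Finset.sum_nonneg fun q _ =>
                mul_nonneg (pow_nonneg (norm_nonneg _) _) (pow_nonneg (Nat.cast_nonneg _) _)
            · refine mul_le_mul_of_nonneg_left (Finset.sum_le_sum fun q _ => ?_) (abs_nonneg _)
              exact mul_le_mul (pow_le_pow_left₀ (norm_nonneg _) hx _)
                (pow_le_pow_left₀ (Nat.cast_nonneg _) hmle _) (pow_nonneg (Nat.cast_nonneg _) _)
                (pow_nonneg (le_max_of_le_left (norm_nonneg _)) _)
          have hnorm : ((b.natAbs : ℕ) : ℝ) ≤ ‖(fun j => ((v j - w j : ℚ) : ℝ))‖ := by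
            refine le_trans ?_ (norm_le_pi_norm (fun j => ((v j - w j : ℚ) : ℝ)) i)
            rw [hb, Real.norm_eq_abs, Nat.cast_natAbs, Int.cast_abs]
            simp
          rcases lt_trichotomy b 0 with hneg | rfl | hpos
          · have e : mix s = mix (insert i s) - ((b.natAbs : ℕ) : ℚ) • Pi.single i 1 := by
              funext j
              rcases eq_or_ne j i with rfl | hj
              · have : ((b.natAbs : ℕ) : ℚ) = -(b : ℚ) := by
                  rw [Nat.cast_natAbs, abs_of_neg hneg, Int.cast_neg]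
                simp [mix, hi, this]
                linarith
              · simp [mix, hj]
            rw [abs_sub_comm, e]
            exact key _ _ (by omega) (hmix _) hnorm
          · have e : mix (insert i s) = mix s := by
              funext j
              rcases eq_or_ne j i with rfl | hj
              · simp [mix, hi]
                simp at hb
                linarith
              · simp [mix, hj]
            rw [e, sub_self, abs_zero]
            exact mul_nonneg (abs_nonneg _) (hB0 v w)
          · have e : mix (insert i s) = mix s - ((b.natAbs : ℕ) : ℚ) • Pi.single i 1 := by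
              funext j
              rcases eq_or_ne j i with rfl | hj
              · have : ((b.natAbs : ℕ) : ℚ) = (b : ℚ) := by
                  rw [Nat.cast_natAbs, abs_of_pos hpos]
                simp [mix, hi, this]
                linarith
              · simp [mix, hj]
            rw [e]
            exact key _ _ (by omega) (hmix _) hnorm
        rw [Finset.sum_insert hi, add_mul]
        exact (abs_sub_le _ (f (mix s)) _).trans (add_le_add h1 ih)
    have h := hstep Finset.univ
    rwa [show mix Finset.univ = w by funext j; simp [mix], abs_sub_comm] at h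
  refine ⟨K + 1, add_pos_of_nonneg_of_pos (Finset.sum_nonneg fun i _ => abs_nonneg _) one_pos, fun v w => ?_⟩
  let D : ℕ := ∏ i, (v i - w i).den
  have hD : 0 < D := Finset.prod_pos fun i _ => (v i - w i).den_pos
  have hD' : (0 : ℚ) < D := Nat.cast_pos.mpr hD
  have h := hint ((D : ℚ) • v) ((D : ℚ) • w) fun i => by
    obtain ⟨k, hk⟩ := Finset.dvd_prod_of_mem (fun i => (v i - w i).den) (Finset.mem_univ i)
    refine ⟨(v i - w i).num * k, ?_⟩
    rw [Pi.smul_apply, Pi.smul_apply, smul_eq_mul, smul_eq_mul, ← mul_sub]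
    show ((∏ i, (v i - w i).den : ℕ) : ℚ) * (v i - w i) = _
    rw [hk, Int.cast_mul, ← Rat.mul_den_eq_num]
    push_cast
    ring
  have hsc : ∀ x : Fin r → ℚ, (fun j => ((((D : ℚ) • x) j : ℚ) : ℝ)) = (D : ℝ) • (fun j => ((x j : ℚ) : ℝ)) := by
    intro x; funext j; simp
  have hB : B ((D : ℚ) • v) ((D : ℚ) • w) = (D : ℝ) ^ n * B v w := by
    simp only [B, nrm, Finset.mul_sum]
    refine Finset.sum_congr rfl fun q hq => ?_
    have hqn : q ≤ n := (Finset.mem_Icc.mp hq).2
    have h2 : (fun j => ((((D : ℚ) • v) j - ((D : ℚ) • w) j : ℚ) : ℝ)) =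
        (D : ℝ) • (fun j => ((v j - w j : ℚ) : ℝ)) := by funext j; simp [mul_sub]
    rw [hsc v, hsc w, h2, norm_smul, norm_smul, norm_smul, Real.norm_natCast,
      ← mul_max_of_nonneg _ _ (Nat.cast_nonneg D), mul_pow, mul_pow]
    conv_rhs => rw [← Nat.sub_add_cancel hqn, pow_add]
    rw [Nat.add_sub_cancel]
    ring
  rw [hhom _ v hD', hhom _ w hD', ← mul_sub, abs_mul, hB] at h
  push_cast at h
  rw [abs_of_nonneg (pow_nonneg (Nat.cast_nonneg D) n)] at h
  have hp : (0 : ℝ) < (D : ℝ) ^ n := pow_pos (Nat.cast_pos.mpr hD) n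
  have h' : |f v - f w| ≤ K * B v w := le_of_mul_le_mul_left (by linarith [h]) hp
  exact h'.trans (mul_le_mul_of_nonneg_right (by linarith) (hB0 v w))

end Groth.Agent.S17635
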