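import Groth.Statements.S17685
import Groth.Agent.HopfRep.WeilClosedOver
import Groth.Agent.HopfRep.Torsor

set_option autoImplicit false
universe u
open CategoryTheory MonoidalCategory CartesianMonoidalCategory MonObj GrpObj AlgebraicGeometry
open AlgGrp

namespace Groth.Agent.S17685

/-- Let S be a scheme, F an S-scheme that is finite locally free over S (finite, flat and locally of
finite presentation) with a section e of F over S which is a surjective closed immersion (an
infinitesimal pointed S-scheme), and X an S-scheme with an action of the pointed scheme F, i.e. an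
S-morphism F ×_S X → X through which e acts as the identity. Then the subfunctor of F-fixed points
of X, whose T-points are the T-points x of X with g · x_{T'} = x_{T'} for every S-scheme T' over T
and every T'-point g of F, is represented by a closed subscheme of X. (The source allows F and X to
be algebraic spaces over S; this row is the case of schemes.) -/
theorem result (S : Scheme.{u})
    (F X : Over S) (e : 𝟙_ (Over S) ⟶ F) (act : F ⊗ X ⟶ X) (he : (e ▷ X) ≫ act = (λ_ X).hom)
    [IsFinite F.hom] [Flat F.hom] [LocallyOfFinitePresentation F.hom]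
    [IsClosedImmersion e.left] [Surjective e.left] :
    ∃ (Z : Scheme.{u}) (i : Z ⟶ X.left), IsClosedImmersion i ∧
      ∀ (T : Over S) (x : T ⟶ X), (∃ y : T.left ⟶ Z, y ≫ i = x.left) ↔
        ∀ (T' : Over S) (t : T' ⟶ T) (g : T' ⟶ F), lift g (t ≫ x) ≫ act = t ≫ x := by
  let σ := CartesianMonoidalCategory.lift (CartesianMonoidalCategory.snd X F) (CartesianMonoidalCategory.fst X F)
  have hst : ∀ w : (X ⊗ F).left, ∀ U : X.left.Opens, (CartesianMonoidalCategory.fst X F).left w ∈ U →
      (σ ≫ act).left w ∈ U := fun w U hU => by
    obtain ⟨y, hy⟩ := e.left.surjective ((CartesianMonoidalCategory.fst F X).left (σ.left w))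
    obtain ⟨q, hq, -⟩ := Scheme.exists_preimage_of_isPullback
      (HopfRep.Torsor.isPullback_left (HopfRep.Torsor.isPullback_whisker e X)).flip (σ.left w) y hy.symm
    show act.left (σ.left w) ∈ U
    rw [← hq]
    show ((e ▷ X) ≫ act).left q ∈ U
    rw [he]
    have hw : (σ ≫ CartesianMonoidalCategory.snd F X).left w ∈ U := by
      rw [CartesianMonoidalCategory.lift_snd]; exact hU
    rw [Over.comp_left, Scheme.Hom.comp_apply, ← hq] at hw
    rw [show ((λ_ X).hom).left q = ((e ▷ X) ≫ CartesianMonoidalCategory.snd F X).left q by
      rw [CartesianMonoidalCategory.whiskerRight_snd, CartesianMonoidalCategory.leftUnitor_hom]]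
    exact hw
  obtain ⟨Z, z, hz, h⟩ := HopfRep.WeilClosed.exists_closed_eq (HopfRep.WeilClosed.locFree_of_finite_flat F)
    (σ ≫ act) (CartesianMonoidalCategory.fst X F)
    (HopfRep.WeilClosed.nearDiag_of_stable _ _ hst)
  refine ⟨Z.left, z.left, hz, fun T x => ?_⟩
  refine Iff.trans ⟨?_, ?_⟩ ((h T x).trans ?_)
  · rintro ⟨y, hy⟩
    exact ⟨Over.homMk y (by rw [← Over.w z, ← Category.assoc, hy, Over.w]), Over.OverMorphism.ext hy⟩
  · rintro ⟨g', hg⟩
    exact ⟨g'.left, by rw [← Over.comp_left, hg]⟩
  · simp only [σ, CartesianMonoidalCategory.comp_lift_assoc, CartesianMonoidalCategory.lift_fst,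
        CartesianMonoidalCategory.lift_snd]

end Groth.Agent.S17685
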