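import Groth.Statements.S17689
import Groth.Agent.Misc9.RadicialExt
import Mathlib.FieldTheory.PurelyInseparable.Basic
import Mathlib.RingTheory.DiscreteValuationRing.Basic
-- import your own Groth.Agent.* helpers here

set_option autoImplicit false
universe u
open CategoryTheory AlgebraicGeometry
open Neron

namespace Groth.Agent.S17689

/-- Let R ⊆ S be a finite extension of discrete valuation rings (the structure map R → S is injective
and S is a finite R-module) such that the induced extension K ⊆ L of fraction fields is purely
inseparable. Then the morphism Spec S → Spec R is a universal homeomorphism: every base change of it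
is a homeomorphism on underlying spaces. (No excellence hypothesis is needed here.) -/
theorem result
    (R S K L : Type u) [CommRing R] [IsDomain R] [IsDiscreteValuationRing R]
    [CommRing S] [IsDomain S] [IsDiscreteValuationRing S] [Algebra R S] [Module.Finite R S] [FaithfulSMul R S]
    [Field K] [Field L] [Algebra R K] [IsFractionRing R K] [Algebra S L] [IsFractionRing S L]
    [Algebra K L] [Algebra R L] [IsScalarTower R S L] [IsScalarTower R K L] [IsPurelyInseparable K L] :
    FlatMor.IsUnivHomeo (Spec.map (CommRingCat.ofHom (algebraMap R S))) := by
  have hexp : ExpChar K (ringExpChar K) := inferInstance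
  have hinjK : Function.Injective (algebraMap R K) := IsFractionRing.injective R K
  have hdisj : ringExpChar K = 1 ∨ ((ringExpChar K).Prime ∧ (ringExpChar K : R) = 0) := by
    rcases expChar_is_prime_or_one K (ringExpChar K) with hp | h1
    · have hc : ringExpChar K = ringChar K := by
        rcases max_choice (ringChar K) 1 with h | h
        · exact h
        · exact absurd (show (ringExpChar K).Prime from hp) (by rw [ringExpChar, h]; exact Nat.not_prime_one)
      refine Or.inr ⟨hp, hinjK ?_⟩
      rw [map_natCast, map_zero, hc]; exact ringChar.Nat.cast_ringChar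
    · exact Or.inl h1
  refine Groth.Agent.Misc9.RadicialExt.univHomeo_of_pow _ (ringExpChar K) hdisj (FaithfulSMul.algebraMap_injective R S) fun b ↦ ?_
  obtain ⟨n, z, hz⟩ := IsPurelyInseparable.pow_mem K (ringExpChar K) (algebraMap S L b)
  refine ⟨n, ?_⟩
  have hbi : IsIntegral R (algebraMap S L b ^ ringExpChar K ^ n) :=
    ((Algebra.IsIntegral.isIntegral (R := R) b).map (IsScalarTower.toAlgHom R S L)).pow _
  rw [← hz] at hbi
  obtain ⟨a, ha⟩ := IsIntegrallyClosed.algebraMap_eq_of_integral
    ((isIntegral_algHom_iff (IsScalarTower.toAlgHom R K L) (algebraMap K L).injective).mp hbi)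
  refine ⟨a, IsFractionRing.injective S L ?_⟩
  rw [map_pow, ← hz, ← ha, ← IsScalarTower.algebraMap_apply R S L, ← IsScalarTower.algebraMap_apply R K L]

end Groth.Agent.S17689
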