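import Groth.Statements.S17722
import Mathlib.RingTheory.Flat.FaithfullyFlat.Algebra
import Mathlib.RingTheory.PrincipalIdealDomain

set_option autoImplicit false
universe u
open CAlg

namespace Groth.Agent.S17722

/-- Let R → R' be a faithfully flat ring map between Noetherian integrally closed local domains, and p
an ideal of R. If the ideal pR' generated by the image of p is principal, then p is principal. (The
second assertion of the published lemma, descent of unique factorization, is not part of this row.) -/
theorem result
    (R R' : Type u) [CommRing R] [CommRing R'] [IsDomain R] [IsDomain R']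
    [IsNoetherianRing R] [IsNoetherianRing R'] [IsLocalRing R] [IsLocalRing R']
    [IsIntegrallyClosed R] [IsIntegrallyClosed R']
    [Algebra R R'] [Module.FaithfullyFlat R R']
    (p : Ideal R) (hp : (p.map (algebraMap R R')).IsPrincipal) :
    p.IsPrincipal := by
  classical
  obtain ⟨y, hy⟩ := hp
  rw [Ideal.submodule_span_eq] at hy
  by_cases hy0 : y = 0
  · have : p.map (algebraMap R R') = (⊥ : Ideal R).map (algebraMap R R') := by simp [hy, hy0]
    rw [Ideal.map_injective_of_faithfullyFlat (A := R) (B := R') this]
    infer_instance
  obtain ⟨a, hap, u, hu⟩ : ∃ a ∈ p, ∃ u : R', IsUnit u ∧ algebraMap R R' a = u * y := by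
    by_contra hcon
    push Not at hcon
    have hle : p.map (algebraMap R R') ≤ IsLocalRing.maximalIdeal R' * Ideal.span {y} := by
      refine Ideal.map_le_iff_le_comap.2 fun a ha => ?_
      have ham : algebraMap R R' a ∈ Ideal.span {y} := hy ▸ Ideal.mem_map_of_mem _ ha
      obtain ⟨r, hr⟩ := Ideal.mem_span_singleton'.1 ham
      rw [Ideal.mem_comap, ← hr]
      exact Ideal.mul_mem_mul (fun hr' => hcon a ha r hr' hr.symm) (Ideal.mem_span_singleton_self y)
    have hy' : y ∈ IsLocalRing.maximalIdeal R' * Ideal.span {y} :=
      hle (hy ▸ Ideal.mem_span_singleton_self y)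
    obtain ⟨m, hm, hmy⟩ := Ideal.mem_mul_span_singleton.1 hy'
    have : m = 1 := mul_right_cancel₀ hy0 (hmy.trans (one_mul y).symm)
    exact (IsLocalRing.maximalIdeal.isMaximal R').ne_top ((Ideal.eq_top_iff_one _).2 (this ▸ hm))
  refine ⟨a, Ideal.map_injective_of_faithfullyFlat (A := R) (B := R') ?_⟩
  rw [Ideal.submodule_span_eq, hy, Ideal.map_span, Set.image_singleton, hu.2]
  exact (Ideal.span_singleton_eq_span_singleton.2 (associated_unit_mul_left y u hu.1)).symm

end Groth.Agent.S17722
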