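import Groth.Statements.S17725
import Groth.Agent.SpecTop.Gen

set_option autoImplicit false
universe u
open SpecSp

namespace Groth.Agent.S17725

open AlgebraicGeometry Topology

open AlgebraicGeometry in
/-- In a connected Noetherian scheme any two points p, q are linked by a finite chain of points p = x₁,
…, xₙ = q such that for each i one of x_i, x_{i+1} is a specialization of the other; equivalently, p
and q are related by the equivalence relation generated by the specialization relation. -/
theorem result
    (X : Scheme.{u}) [IsNoetherian X] [ConnectedSpace X] (p q : X) :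
    Relation.EqvGen (fun x y : X => x ⤳ y) p q := by
  let R : X → X → Prop := Relation.EqvGen (fun x y : X => x ⤳ y)
  have hcomp : (irreducibleComponents X).Finite := TopologicalSpace.NoetherianSpace.finite_irreducibleComponents
  have hcl : ∀ P : X → Prop, (∀ a b, R a b → (P a ↔ P b)) → IsClosed {x | P x} := by
    intro P hP
    have : {x | P x} = ⋃ C ∈ {C ∈ irreducibleComponents X | ∃ c ∈ C, P c}, C := by
      ext x
      simp only [Set.mem_setOf_eq, Set.mem_iUnion, exists_prop]
      refine ⟨fun hx => ⟨irreducibleComponent x, ⟨irreducibleComponent_mem_irreducibleComponents x, x, mem_irreducibleComponent, hx⟩, mem_irreducibleComponent⟩, ?_⟩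
      rintro ⟨C, ⟨hC, c, hcC, hc⟩, hxC⟩
      obtain ⟨g, hg⟩ := QuasiSober.sober hC.1 (isClosed_of_mem_irreducibleComponents C hC)
      have h1 : R g c := Relation.EqvGen.rel _ _ (hg.specializes hcC)
      have h2 : R g x := Relation.EqvGen.rel _ _ (hg.specializes hxC)
      exact (hP g x h2).mp ((hP g c h1).mpr hc)
    rw [this]
    exact (hcomp.subset fun C hC => hC.1).isClosed_biUnion fun C hC => isClosed_of_mem_irreducibleComponents C hC.1
  have hclass : ∀ a b, R a b → (R p a ↔ R p b) := fun a b h =>
    ⟨fun h' => Relation.EqvGen.trans _ _ _ h' h, fun h' => Relation.EqvGen.trans _ _ _ h' (Relation.EqvGen.symm _ _ h)⟩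
  have hclopen : IsClopen {x | R p x} :=
    ⟨hcl _ hclass, isClosed_compl_iff.mp (hcl (fun x => ¬ R p x) fun a b h => not_congr (hclass a b h))⟩
  have := hclopen.eq_univ ⟨p, Relation.EqvGen.refl p⟩
  exact (Set.eq_univ_iff_forall.mp this q : _)

end Groth.Agent.S17725
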