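import Groth.Statements.S17726
import Mathlib
-- import your own Groth.Agent.* helpers here

set_option autoImplicit false
set_option backward.isDefEq.respectTransparency false
universe u
open CAlg

open CategoryTheory CategoryTheory.Limits AlgebraicGeometry
namespace Groth.Agent.S17726

/-- Let f and g be non-zero-divisors of a commutative ring A, not both units; think of them as local
equations, at a point of the union of the supports, of two effective Cartier divisors E and D. If
the ideals generated by g^{m₁} and f^{n₁} coincide, and likewise for g^{m₂} and f^{n₂}, then m₁ n₂ =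
m₂ n₁. So all pairs (m, n) with m D = n E locally at the point are proportional, and the saturation
of the monoid they form is generated by a single element. -/
theorem result
    (A : Type u) [CommRing A] (f g : A)
    (hf : f ∈ nonZeroDivisors A) (hg : g ∈ nonZeroDivisors A) (hfg : ¬ (IsUnit f ∧ IsUnit g))
    (m₁ n₁ m₂ n₂ : ℕ)
    (h₁ : Ideal.span {g ^ m₁} = Ideal.span {f ^ n₁})
    (h₂ : Ideal.span {g ^ m₂} = Ideal.span {f ^ n₂}) :
    m₁ * n₂ = m₂ * n₁ := by
  -- from f^n₁ ~ g^m₁ and f^n₂ ~ g^m₂: g^(m₁n₂) ~ g^(m₂n₁)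
  have a1 : Ideal.span {g ^ (m₁ * n₂)} = Ideal.span {g ^ (m₂ * n₁)} := by
    rw [pow_mul, pow_mul, ← Ideal.span_singleton_pow, h₁, ← Ideal.span_singleton_pow (g ^ m₂), h₂,
      Ideal.span_singleton_pow, Ideal.span_singleton_pow, ← pow_mul, ← pow_mul, mul_comm]
  have a2 : Ideal.span {f ^ (n₁ * m₂)} = Ideal.span {f ^ (n₂ * m₁)} := by
    rw [pow_mul, pow_mul, ← Ideal.span_singleton_pow, ← h₁, ← Ideal.span_singleton_pow (f ^ n₂), ← h₂,
      Ideal.span_singleton_pow, Ideal.span_singleton_pow, ← pow_mul, ← pow_mul, mul_comm]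
  have key : ∀ x : A, x ∈ nonZeroDivisors A → ¬ IsUnit x → ∀ a b : ℕ, Ideal.span {x ^ a} = Ideal.span {x ^ b} → a = b := by
    intro x hx hxu a b e
    by_contra hne
    wlog hlt : a < b generalizing a b
    · exact this b a e.symm (Ne.symm hne) (lt_of_le_of_ne (not_lt.1 hlt) (Ne.symm hne))
    obtain ⟨c, hc⟩ := Ideal.mem_span_singleton.1 (e ▸ Ideal.mem_span_singleton_self (x ^ a) : x ^ a ∈ Ideal.span {x ^ b})
    obtain ⟨d, rfl⟩ := Nat.exists_eq_add_of_lt hlt
    rw [pow_succ, pow_add, mul_assoc, mul_assoc] at hc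
    have h1 := mul_cancel_left_mem_nonZeroDivisors (pow_mem hx a) |>.1 (show x ^ a * 1 = x ^ a * (x ^ d * (x * c)) by rw [mul_one]; exact hc)
    exact hxu (IsUnit.of_mul_eq_one (x ^ d * c) (by rw [h1]; ring))
  by_cases hgu : IsUnit g
  · have := key f hf (fun hfu => hfg ⟨hfu, hgu⟩) _ _ a2
    linarith
  · exact key g hg hgu _ _ a1

end Groth.Agent.S17726
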