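import Groth.Statements.S17751
import Mathlib.RingTheory.Ideal.Height
import Mathlib.RingTheory.Ideal.MinimalPrime.Noetherian

set_option autoImplicit false
universe u
open LocCoh

namespace Groth.Agent.S17751

/-- Suppose R is a Noetherian ring, r is a natural number, and I is an ideal of R. Then there are
elements f_1, …, f_r of I such that for every prime ideal p of R of height less than r, p contains I
if and only if p contains f_1, …, f_r. (For r = 0 there is nothing to prove.) -/
theorem result (R : Type u) [CommRing R] [IsNoetherianRing R] (I : Ideal R) (r : ℕ) : ∃ f : Fin r → R, (∀ i, f i ∈ I) ∧ ∀ (p : Ideal R) [p.IsPrime], p.height < r → (I ≤ p ↔ Ideal.span (Set.range f) ≤ p) := by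
  classical
  induction r with
  | zero => exact ⟨Fin.elim0, fun i => i.elim0, fun p _ hp => absurd hp (by simp)⟩
  | succ r ih =>
    obtain ⟨f, hfI, hf⟩ := ih
    have hfin : {p ∈ (Ideal.span (Set.range f)).minimalPrimes | ¬ I ≤ p}.Finite :=
      (Ideal.finite_minimalPrimes_of_isNoetherianRing R _).subset fun p hp => hp.1
    have hns : ¬ (I : Set R) ⊆ ⋃ p ∈ (↑hfin.toFinset : Set (Ideal R)), (p : Set R) := fun h => by
      obtain ⟨p, hp, hle⟩ := (Ideal.subset_union_prime (s := hfin.toFinset) (f := id) ⊥ ⊥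
        fun p hp _ _ => (hfin.mem_toFinset.1 hp).1.1.1).1 h
      exact (hfin.mem_toFinset.1 hp).2 hle
    obtain ⟨g, hgI, hg⟩ := Set.not_subset.1 hns
    refine ⟨Fin.snoc f g, Fin.lastCases (by simpa using hgI) (fun i => by simpa using hfI i), fun p hp hht => ⟨fun hI =>
      Ideal.span_le.2 (Set.range_subset_iff.2 (Fin.lastCases (by simpa using hI hgI) fun i => by simpa using hI (hfI i))),
      fun hle => ?_⟩⟩
    have hlast : g ∈ p := hle (Ideal.subset_span ⟨Fin.last r, by simp⟩)
    have hfp : Ideal.span (Set.range f) ≤ p :=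
      Ideal.span_le.2 (Set.range_subset_iff.2 fun i => hle (Ideal.subset_span ⟨i.castSucc, by simp⟩))
    by_contra hno
    obtain ⟨q, hq, hqp⟩ := Ideal.exists_minimalPrimes_le hfp
    haveI := hq.1.1
    rcases hqp.lt_or_eq with hlt | rfl
    · have hlt2 : q.height < (r : ℕ∞) := by
        have h1 : p.height ≤ (r : ℕ∞) := ENat.lt_coe_add_one_iff.1 (by exact_mod_cast hht)
        have hpfin : p.height ≠ ⊤ := ne_top_of_le_ne_top (ENat.coe_ne_top r) h1
        haveI : p.FiniteHeight := ⟨Or.inr hpfin⟩
        exact lt_of_lt_of_le (Ideal.height_strict_mono_of_isPrime hlt) h1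
      exact hno (((hf q hlt2).2 hq.1.2).trans hqp)
    · exact hg (Set.mem_biUnion (x := q) (Finset.mem_coe.2 (hfin.mem_toFinset.2 ⟨hq, hno⟩)) hlast)

end Groth.Agent.S17751
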