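import Groth.Statements.S17753
import Groth.Agent.S17751
import Mathlib.RingTheory.Ideal.Height

set_option autoImplicit false
universe u
open LocCoh

namespace Groth.Agent.S17753

/-- Let R be a Noetherian local ring of Krull dimension d and I a proper ideal of R. Then there are d
elements f_1, …, f_d of I such that I and the ideal they generate have the same radical, so the
arithmetic rank of I is at most d. (The published statement has no properness hypothesis; for the
unit ideal of a field, d = 0 and no empty family generates the unit ideal up to radical, and the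
published proof uses that the maximal ideal contains I.) -/
theorem result (R : Type u) [CommRing R] [IsNoetherianRing R] [IsLocalRing R] (d : ℕ) (hd : ringKrullDim R = d) (I : Ideal R) (hI : I ≠ ⊤) : ∃ f : Fin d → R, (∀ i, f i ∈ I) ∧ I.radical = (Ideal.span (Set.range f)).radical := by
  obtain ⟨f, hf, h⟩ := Groth.Agent.S17751.result R I d
  refine ⟨f, hf, le_antisymm (Ideal.radical_le_radical_iff.2 ?_) (Ideal.radical_mono (Ideal.span_le.2 (Set.range_subset_iff.2 hf)))⟩
  rw [Ideal.radical_eq_sInf]
  refine le_sInf fun p ⟨hp, hpp⟩ => ?_
  rcases (IsLocalRing.le_maximalIdeal hpp.ne_top).lt_or_eq with hlt | rfl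
  · refine (h p ?_).2 hp
    haveI : (IsLocalRing.maximalIdeal R).FiniteHeight := inferInstance
    refine lt_of_lt_of_le (Ideal.height_strict_mono_of_isPrime hlt) ?_
    have := hd ▸ Ideal.height_le_ringKrullDim_of_ne_top (I := IsLocalRing.maximalIdeal R) (IsLocalRing.maximalIdeal.isMaximal R).ne_top
    exact_mod_cast this
  · exact IsLocalRing.le_maximalIdeal hI

end Groth.Agent.S17753
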