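import Groth.Statements.S17763
import Groth.Agent.LocCoh.TopVanishing
import Mathlib.RingTheory.Ideal.Height

set_option autoImplicit false
universe u
open LocCoh

namespace Groth.Agent.S17763

/-- Let R be a Noetherian local ring of Krull dimension d. Then the following are equivalent: (1)
H^d_I(R) = 0 for every ideal I of R such that R ⧸ I has positive dimension; (2) H^d_p(R) = 0 for
every prime ideal p of R such that R ⧸ p has dimension one. -/
theorem result (R : Type u) [CommRing R] [IsNoetherianRing R] [IsLocalRing R] (d : ℕ) (hd : ringKrullDim R = d) : (∀ I : Ideal R, 0 < ringKrullDim (R ⧸ I) → Subsingleton (LocCoh.H I d R)) ↔ (∀ (p : Ideal R) [p.IsPrime], ringKrullDim (R ⧸ p) = 1 → Subsingleton (LocCoh.H p d R)) := by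
  refine ⟨fun h p _ hp => h p (by rw [hp]; exact zero_lt_one), fun h I hI => ?_⟩
  let m := IsLocalRing.maximalIdeal R
  have hex : ∃ P : PrimeSpectrum R, I ≤ P.asIdeal ∧ P.asIdeal ≠ m := by
    by_contra! hall
    refine hI.not_ge ?_
    rw [ringKrullDim_quotient]
    haveI : Subsingleton (PrimeSpectrum.zeroLocus (I : Set R)) := ⟨fun a b =>
      Subtype.ext (PrimeSpectrum.ext ((hall a.1 a.2).trans (hall b.1 b.2).symm))⟩
    exact Order.krullDim_nonpos_of_subsingleton
  obtain ⟨P, ⟨hIP, hP⟩, hmax⟩ := (InvImage.wf PrimeSpectrum.asIdeal (wellFounded_gt (α := Ideal R))).has_min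
    {P : PrimeSpectrum R | I ≤ P.asIdeal ∧ P.asIdeal ≠ m} hex
  have hdim : ringKrullDim (R ⧸ P.asIdeal) = 1 := by
    rw [ringKrullDim_quotient]
    have htwo : ∀ q : PrimeSpectrum.zeroLocus (P.asIdeal : Set R), q.1 = P ∨ q.1.asIdeal = m := fun q => by
      by_contra! hne
      exact hmax q.1 ⟨hIP.trans q.2, hne.2⟩ (show P.asIdeal < q.1.asIdeal from lt_of_le_of_ne q.2 fun he => hne.1 (PrimeSpectrum.ext he.symm))
    refine le_antisymm (Order.krullDim_le_one_iff.2 fun q => ?_) ?_
    · rcases htwo q with h1 | h1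
      · exact Or.inl fun r hr => show q.1 ≤ r.1 from le_of_eq_of_le h1 (show P ≤ r.1 from r.2)
      · exact Or.inr fun r hr => show r.1.asIdeal ≤ q.1.asIdeal from le_of_le_of_eq (IsLocalRing.le_maximalIdeal r.1.isPrime.ne_top) h1.symm
    · refine Order.le_krullDim_iff.2 ⟨(RelSeries.singleton _ (⟨P, le_refl P.asIdeal⟩ : PrimeSpectrum.zeroLocus (P.asIdeal : Set R))).snoc
        ⟨⟨m, (IsLocalRing.maximalIdeal.isMaximal R).isPrime⟩, IsLocalRing.le_maximalIdeal P.isPrime.ne_top⟩
        (show P < ⟨m, _⟩ from lt_of_le_of_ne (IsLocalRing.le_maximalIdeal P.isPrime.ne_top) fun he => hP (congrArg PrimeSpectrum.asIdeal he)), rfl⟩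
  haveI := h P.asIdeal hdim
  exact Groth.Agent.LocCoh.TopVanishing.subsingleton_of_le d hd hIP
    ((IsLocalRing.le_maximalIdeal P.isPrime.ne_top).trans (IsLocalRing.maximalIdeal_le_jacobson _)) R d le_rfl

end Groth.Agent.S17763
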