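import Groth.Statements.S17773
import Groth.Agent.TorBal.Natural

set_option autoImplicit false
universe u
open CategoryTheory CategoryTheory.Limits
open CAlg

namespace Groth.Agent.S17773

open CategoryTheory CategoryTheory.Limits HomologicalComplex MonoidalCategory Groth.Agent.KFlatLib Groth.Agent.TorBal

variable {R : Type u} [CommRing R]

theorem flat_extend (F : ChainComplex (ModuleCat.{u} R) ℕ) (hF : ∀ i : ℕ, Module.Flat R (F.X i)) (i : ℤ) :
    Module.Flat R ((F.extend ComplexShape.embeddingDownNat).X i) := by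
  by_cases h : i ≤ 0
  · obtain ⟨k, rfl⟩ := Int.exists_eq_neg_ofNat h
    haveI := hF k
    exact Module.Flat.of_linearEquiv (F.extendXIso ComplexShape.embeddingDownNat (i := k) rfl).toLinearEquiv
  · haveI := ModuleCat.subsingleton_of_isZero (F.isZero_extend_X ComplexShape.embeddingDownNat i
      (fun k hk => h (by simp at hk; omega)))
    infer_instance

theorem isKFlat_flip_extend (F : ChainComplex (ModuleCat.{u} R) ℕ) (hF : ∀ i : ℕ, Module.Flat R (F.X i)) :
    IsKFlat (TM R).flip (F.extend ComplexShape.embeddingDownNat) :=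
  isKFlat_of_bounded_above (TM R).flip _ 0
    (fun i hi => F.isZero_extend_X ComplexShape.embeddingDownNat i (fun k hk => by simp at hk; omega))
    (fun i => (tflat_of_flat (flat_extend F hF i)).1)

theorem compare (M N : ModuleCat.{u} R) (F : ChainComplex (ModuleCat.{u} R) ℕ) (hF : ∀ i : ℕ, Module.Flat R (F.X i))
    (φ : F ⟶ (ChainComplex.single₀ (ModuleCat.{u} R)).obj M) [QuasiIso φ] (n : ℕ) :
    Nonempty (((((TM R).obj M).mapHomologicalComplex (ComplexShape.down ℕ)).obj (projectiveResolution N).complex).homology n ≅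
      ((((TM R).flip.obj N).mapHomologicalComplex (ComplexShape.down ℕ)).obj F).homology n) := by
  let Fc := F.extend ComplexShape.embeddingDownNat
  let Q := projectiveResolution N
  let φ' : Fc ⟶ S₀ M := extendMap φ ComplexShape.embeddingDownNat ≫
    (extendSingleIso ComplexShape.embeddingDownNat M 0 (0 : ℤ) (by simp)).hom
  haveI : QuasiIso φ' := by dsimp [φ']; infer_instance
  have h1 := quasiIso_left (TM R) (isKFlat_res Q) φ'
  have h2 := quasiIso_left (TM R).flip (isKFlat_flip_extend F hF) Q.π'
  exact ⟨sideIso (TM R) M Q.complex n ≪≫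
    (@asIso _ _ _ _ _ ((quasiIsoAt_iff_isIso_homologyMap _ _).1 (h1.quasiIsoAt (-(n : ℤ))))).symm ≪≫
    (flipH Q.cochainComplex Fc (-(n : ℤ))).symm ≪≫
    @asIso _ _ _ _ _ ((quasiIsoAt_iff_isIso_homologyMap _ _).1 (h2.quasiIsoAt (-(n : ℤ)))) ≪≫
    (sideIso (TM R).flip N F n).symm⟩

/-- Let R be a commutative ring, M and N two R-modules, and F a flat resolution of M: a chain complex F
of flat R-modules concentrated in non-negative degrees together with a quasi-isomorphism from F to M
placed in degree 0. Then for every i ≥ 0 the i-th homology module of the complex F ⊗_R N is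
isomorphic to Tor_i^R(M, N), the i-th left derived functor of − ⊗_R N evaluated at M (existence of
an isomorphism of R-modules). -/
theorem result (R : Type u) [CommRing R] (M N : Type u) [AddCommGroup M] [Module R M] [AddCommGroup N] [Module R N] (F : ChainComplex (ModuleCat.{u} R) ℕ) (hF : ∀ i : ℕ, Module.Flat R (F.X i)) (φ : F ⟶ (ChainComplex.single₀ (ModuleCat.{u} R)).obj (ModuleCat.of R M)) [QuasiIso φ] (i : ℕ) : Nonempty ((((MonoidalCategory.tensorRight (ModuleCat.of R N)).mapHomologicalComplex (ComplexShape.down ℕ)).obj F).homology i ≅ ((Tor' (ModuleCat.{u} R) i).obj (ModuleCat.of R M)).obj (ModuleCat.of R N)) := by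
  obtain ⟨e⟩ := compare (ModuleCat.of R M) (ModuleCat.of R N) F hF φ i
  let e0 := (projectiveResolution (ModuleCat.of R N)).isoLeftDerivedObj
    ((MonoidalCategory.tensoringLeft (ModuleCat.{u} R)).obj (ModuleCat.of R M)) i
  let e1 := Groth.Agent.TorBal.torBalIso i (ModuleCat.of R M) (ModuleCat.of R N)
  let τ := BraidedCategory.tensorLeftIsoTensorRight (ModuleCat.of R N)
  let e2 : (((MonoidalCategory.tensoringLeft (ModuleCat.{u} R)).obj (ModuleCat.of R N)).leftDerived i).obj (ModuleCat.of R M) ≅
      (((MonoidalCategory.tensoringRight (ModuleCat.{u} R)).obj (ModuleCat.of R N)).leftDerived i).obj (ModuleCat.of R M) :=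
    (projectiveResolution (ModuleCat.of R M)).isoLeftDerivedObj _ i ≪≫
      (HomologicalComplex.homologyFunctor _ (ComplexShape.down ℕ) i).mapIso
        ((NatIso.mapHomologicalComplex τ (ComplexShape.down ℕ)).app _) ≪≫
      ((projectiveResolution (ModuleCat.of R M)).isoLeftDerivedObj _ i).symm
  exact ⟨e.symm ≪≫ e0.symm ≪≫ e1 ≪≫ e2⟩

end Groth.Agent.S17773
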