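import Groth.Statements.S17825
import Mathlib.CategoryTheory.Limits.Shapes.Equalizers
import Mathlib.CategoryTheory.Limits.Constructions.Over.Connected

set_option autoImplicit false
universe u
open CategoryTheory CategoryTheory.Limits AlgebraicGeometry
open JacVar

namespace Groth.Agent.S17825

/-- Let S be a scheme, Y an S-scheme separated over S, F a presheaf of sets on the category of
S-schemes, f : h_Y ⟶ F a morphism from the functor of points of Y, and s : F ⟶ h_Y a section of f (s
followed by f is the identity). Then F is represented by a closed subscheme of Y: there are an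
S-scheme Z, a morphism i : Z ⟶ Y over S which is a closed immersion, and an isomorphism F ≅ h_Z
whose composite with h_i : h_Z ⟶ h_Y is s. (The published lemma treats the case where Y is the r-th
symmetric power of a curve, F the functor of degree-r invertible families modulo twisting and f the
divisor-class map.) -/
theorem result {S : Scheme.{u}} (Y : Over S) [IsSeparated Y.hom]
    (F : (Over S)ᵒᵖ ⥤ Type u) (f : yoneda.obj Y ⟶ F) (s : F ⟶ yoneda.obj Y) (hsf : s ≫ f = 𝟙 F) :
    ∃ (Z : Over S) (i : Z ⟶ Y), IsClosedImmersion i.left ∧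
      ∃ e : F ≅ yoneda.obj Z, e.hom ≫ yoneda.map i = s := by
  obtain ⟨e, he⟩ := yoneda.map_surjective (f ≫ s)
  let ι : Limits.equalizer e (𝟙 Y) ⟶ Y := Limits.equalizer.ι e (𝟙 Y)
  have hss : s ≫ yoneda.map e = s := by rw [he, ← Category.assoc, hsf, Category.id_comp]
  have hx : ∀ (U : (Over S)ᵒᵖ) (x : F.obj U), s.app U x ≫ e = s.app U x ≫ 𝟙 Y := fun U x => by
    rw [Category.comp_id]; exact ConcreteCategory.congr_hom (NatTrans.congr_app hss U) x
  let hom : F ⟶ yoneda.obj (Limits.equalizer e (𝟙 Y)) :=
    { app := fun U => ↾(fun x => Limits.equalizer.lift (s.app U x) (hx U x))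
      naturality := fun U V g => by
        ext x
        apply Limits.equalizer.hom_ext
        show Limits.equalizer.lift (s.app V (F.map g x)) (hx V _) ≫ ι = (g.unop ≫ Limits.equalizer.lift (s.app U x) (hx U x)) ≫ ι
        rw [Limits.equalizer.lift_ι, Category.assoc, Limits.equalizer.lift_ι]
        exact NatTrans.naturality_apply s g x }
  refine ⟨Limits.equalizer e (𝟙 Y), ι, inferInstance, ⟨hom, yoneda.map ι ≫ f, ?_, ?_⟩, ?_⟩
  · ext U x
    show f.app U (Limits.equalizer.lift (s.app U x) (hx U x) ≫ ι) = x
    rw [Limits.equalizer.lift_ι]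
    exact ConcreteCategory.congr_hom (NatTrans.congr_app hsf U) x
  · ext U z
    apply Limits.equalizer.hom_ext
    show Limits.equalizer.lift (s.app U (f.app U (z ≫ ι))) (hx U _) ≫ ι = z ≫ ι
    rw [Limits.equalizer.lift_ι]
    have h1 : (z ≫ ι) ≫ e = z ≫ ι := by rw [Category.assoc, Limits.equalizer.condition, Category.comp_id]
    let y : (yoneda.obj Y).obj U := (z ≫ ι : U.unop ⟶ Y)
    have h2 := ConcreteCategory.congr_hom (NatTrans.congr_app he U) y
    exact h2.symm.trans h1
  · ext U x
    exact Limits.equalizer.lift_ι _ _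

end Groth.Agent.S17825
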