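import Groth.Statements.S17839
import Groth.Agent.HensPair.CatAdd
import Groth.Agent.RegularLocal.Basic

set_option autoImplicit false
universe u
open CategoryTheory AlgebraicGeometry
open Cyc

namespace Groth.Agent.S17839

/-- Let S be a locally Noetherian scheme all of whose local rings are regular and universally catenary,
and δS : S → ℤ the function with δS(s) = −dim O_{S,s}. Let f : X ⟶ S be locally of finite type and δ
: X → ℤ the induced function, δ(x) = δS(f x) + trdeg_{κ(f x)} κ(x) — the S-dimension: for X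
irreducible with generic point ξ, δ(ξ) is the transcendence degree of the function field of X over
κ(f ξ) minus dim O_{S, f ξ}. Then δ is a dimension function on X: it drops strictly along every
nontrivial specialization and by exactly one along immediate ones; equivalently, for irreducible
closed subsets V ⊆ W of X with generic points v and w, codim(V, W) = δ(w) − δ(v). (The published
statement fixes S Noetherian, excellent, regular and separated and X separated of finite type over
S; its proof uses only the hypotheses listed.) -/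
theorem result {X S : Scheme.{u}} (f : X ⟶ S)
    [LocallyOfFiniteType f] [IsLocallyNoetherian S]
    (hreg : ∀ s : S, IsRegularLocalRing (S.presheaf.stalk s))
    (huc : ∀ s : S, CAlg.IsUniversallyCatenary (S.presheaf.stalk s))
    (δS : S → ℤ) (hδS : ∀ s : S, ringKrullDim (S.presheaf.stalk s) = ((-δS s).toNat : WithBot ℕ∞) ∧ δS s ≤ 0)
    (δ : X → ℤ) (hδ : Cyc.DeltaCompat f δ δS) :
    Cyc.IsDimFun X δ := by
  open Groth.Agent.HensPair in
  intro x y hxy hne
  obtain ⟨n, hn, hx⟩ := hδ x
  obtain ⟨m, hm, hy⟩ := hδ y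
  have hnT : n = FibreTrdeg.T f x := by exact_mod_cast hn.symm.trans (FibreTrdeg.T_spec f x)
  have hmT : m = FibreTrdeg.T f y := by exact_mod_cast hm.symm.trans (FibreTrdeg.T_spec f y)
  obtain ⟨j, i, hi, hj, -, heq⟩ := CatScheme.alt f y x hxy
  have hij := heq (huc _)
  -- codimensions downstairs
  have hdom : ∀ s : S, EGA4.IsEquidim (S.presheaf.stalk s) := fun s p hp => by
    haveI := hreg s
    haveI : IsDomain (S.presheaf.stalk s) := Groth.Agent.RegularLocal.Basic.isDomain (R := S.presheaf.stalk s)
    have hp0 : p = ⊥ := le_bot_iff.mp (hp.2 ⟨Ideal.isPrime_bot, bot_le⟩ bot_le)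
    subst hp0
    exact ringKrullDim_eq_of_ringEquiv (RingEquiv.quotientBot _)
  obtain ⟨g, hg, hgmax⟩ := Groth.Agent.Equidim.AffineCrit.exists_maximal_above (f x)
  have h1 := CatAdd.cd_add g (f x) (f y) hg (hxy.map f.continuous) (huc _)
  rw [CatScheme.cd_eq_of_equidim g (f y) (hg.trans (hxy.map f.continuous)) hgmax (hdom _),
    CatScheme.cd_eq_of_equidim g (f x) hg hgmax (hdom _), hj, (hδS (f y)).1, (hδS (f x)).1] at h1
  have h2 : (-δS (f y)).toNat = (-δS (f x)).toNat + j := by exact_mod_cast h1
  have hsx := (hδS (f x)).2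
  have hsy := (hδS (f y)).2
  have hi1 : 1 ≤ i := by
    by_contra h0
    have hi0 : i = 0 := by omega
    rw [hi0] at hi
    let a : ↥({t : X | x ⤳ t ∧ t ⤳ y}) := ⟨y, hxy, specializes_rfl⟩
    let b : ↥({t : X | x ⤳ t ∧ t ⤳ y}) := ⟨x, specializes_rfl, hxy⟩
    have hlt : a < b := ⟨hxy, fun h => hne ((hxy.antisymm (show y ⤳ x from h)).eq)⟩
    have h3 := Order.LTSeries.length_le_krullDim ((RelSeries.singleton _ a).snoc b (show (RelSeries.singleton _ a).last < b from hlt))
    rw [show Order.krullDim ↥({t : X | x ⤳ t ∧ t ⤳ y}) = ((0 : ℕ) : WithBot ℕ∞) from hi, RelSeries.snoc_length, RelSeries.singleton_length] at h3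
    have h4 : 0 + 1 ≤ 0 := by exact_mod_cast h3
    omega
  refine ⟨by omega, fun himm => ?_⟩
  have hile : i ≤ 1 := by
    by_contra h0
    obtain ⟨l, hl⟩ := Order.le_krullDim_iff.mp (show ((i : ℕ) : WithBot ℕ∞) ≤ Order.krullDim ↥({t : X | x ⤳ t ∧ t ⤳ y}) from hi.ge)
    have hlt1 : l 0 < l ⟨1, by omega⟩ := l.strictMono (by simp [Fin.lt_def])
    have hlt2 : l ⟨1, by omega⟩ < l.last := l.strictMono (by simp [Fin.lt_def]; omega)
    rcases himm (l ⟨1, by omega⟩).1 (l ⟨1, by omega⟩).2.1 (l ⟨1, by omega⟩).2.2 with h5 | h5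
    · exact hlt2.not_ge (show (l ⟨1, by omega⟩).1 ⤳ l.last.1 from (specializes_of_eq h5).trans l.last.2.1)
    · exact hlt1.not_ge (show (l 0).1 ⤳ (l ⟨1, by omega⟩).1 from (l 0).2.2.trans (specializes_of_eq h5.symm))
  omega

end Groth.Agent.S17839
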