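import Groth.Statements.S17854
import Groth.Agent.EtAlg.Chart.Basic

set_option autoImplicit false
open TensorProduct
universe u
open EtAlg

namespace Groth.Agent.S17854

/-- In the case of a base with finite residue field, let k be a local ring whose residue field is
finite, R a finitely presented k-algebra and m a maximal ideal of R over the maximal ideal of k such
that R is smooth over k at m of relative dimension d > 0 (the module of Kähler differentials of R
over k has rank d at m). Then there are g ∉ m and an étale k-algebra homomorphism φ : k[x₁, …, x_d]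
→ R[1/g] which induces an isomorphism of residue fields at m, i.e. k[x₁, …, x_d] → R[1/g]/m R[1/g]
is surjective. The published statement is for any local ring k; this row takes the residue field of
k finite. -/
theorem result
    (k : Type u) [CommRing k] [IsLocalRing k] [Finite (IsLocalRing.ResidueField k)]
    (R : Type u) [CommRing R] [Algebra k R] [Algebra.FinitePresentation k R]
    (m : Ideal R) [m.IsMaximal] (hm : m.comap (algebraMap k R) = IsLocalRing.maximalIdeal k)
    [Algebra.IsSmoothAt k m] (d : ℕ) (hd : 0 < d)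
    (hdim : Module.finrank (R ⧸ m) ((R ⧸ m) ⊗[R] KaehlerDifferential k R) = d) :
    ∃ g : R, g ∉ m ∧ ∃ φ : MvPolynomial (Fin d) k →ₐ[k] Localization.Away g,
      φ.toRingHom.Etale ∧
      Function.Surjective
        ((Ideal.Quotient.mk (m.map (algebraMap R (Localization.Away g)))).comp φ.toRingHom) := by
  classical
  letI := Ideal.Quotient.field m
  let K := R ⧸ m
  -- the residue field is finite and unramified over `k`
  have hker : IsLocalRing.maximalIdeal k ≤ RingHom.ker (algebraMap k K) := by
    intro c hc
    rw [← hm] at hc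
    rw [RingHom.mem_ker, IsScalarTower.algebraMap_apply k R K]
    exact Ideal.Quotient.eq_zero_iff_mem.mpr hc
  let f : IsLocalRing.ResidueField k →+* K :=
    Ideal.Quotient.lift (IsLocalRing.maximalIdeal k) (algebraMap k K) fun c hc => hker hc
  letI : Algebra (IsLocalRing.ResidueField k) K := f.toAlgebra
  have : IsScalarTower k (IsLocalRing.ResidueField k) K :=
    IsScalarTower.of_algebraMap_eq fun c => rfl
  have : Algebra.FiniteType k K :=
    Algebra.FiniteType.of_surjective (Ideal.Quotient.mkₐ k m) Ideal.Quotient.mk_surjective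
  have : Algebra.FiniteType (IsLocalRing.ResidueField k) K :=
    Algebra.FiniteType.of_restrictScalars_finiteType k _ _
  have : Module.Finite (IsLocalRing.ResidueField k) K :=
    finite_of_finite_type_of_isJacobsonRing _ _
  have : Finite K := Module.finite_of_finite (IsLocalRing.ResidueField k)
  have : Algebra.FormallyUnramified (IsLocalRing.ResidueField k) K :=
    Algebra.FormallyUnramified.of_isSeparable _ _
  have : Algebra.FormallyUnramified k (IsLocalRing.ResidueField k) :=
    Algebra.FormallyUnramified.of_surjective (Algebra.ofId k (IsLocalRing.ResidueField k))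
      Ideal.Quotient.mk_surjective
  have : Algebra.FormallyUnramified k K :=
    Algebra.FormallyUnramified.comp k (IsLocalRing.ResidueField k) K
  have hlift : ∀ t : K ⊗[R] Ω[R⁄k], ∃ μ ∈ m, (1 : K) ⊗ₜ[R] KaehlerDifferential.D k R μ = t := by
    intro t
    obtain ⟨c, hc⟩ := (KaehlerDifferential.exact_kerCotangentToTensor_mapBaseChange k R K
      Ideal.Quotient.mk_surjective t).mp (Subsingleton.elim _ _)
    obtain ⟨c, rfl⟩ := Ideal.toCotangent_surjective _ c
    rw [KaehlerDifferential.kerCotangentToTensor_toCotangent] at hc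
    exact ⟨c, Ideal.Quotient.eq_zero_iff_mem.mp c.2, hc⟩
  -- the coordinates
  obtain ⟨ζ, hζ⟩ := IsCyclic.exists_monoid_generator (α := Kˣ)
  obtain ⟨r0, hr0⟩ := Ideal.Quotient.mk_surjective (ζ : K)
  let e : Module.Basis (Fin d) K (K ⊗[R] Ω[R⁄k]) := Module.finBasisOfFinrankEq K _ hdim
  let x0 : Fin d → R := fun i => if (i : ℕ) = 0 then r0 else 0
  choose μ hμm hμ using fun i => hlift (e i - 1 ⊗ₜ KaehlerDifferential.D k R (x0 i))
  let x : Fin d → R := fun i => x0 i + μ i
  letI : Algebra (MvPolynomial (Fin d) k) R := (MvPolynomial.aeval x).toRingHom.toAlgebra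
  have : IsScalarTower k (MvPolynomial (Fin d) k) R :=
    IsScalarTower.of_algebraMap_eq fun c => ((MvPolynomial.aeval x).commutes c).symm
  have hX : ∀ i, algebraMap (MvPolynomial (Fin d) k) R (MvPolynomial.X i) = x i :=
    fun i => MvPolynomial.aeval_X x i
  have he : ∀ i, e i = 1 ⊗ₜ KaehlerDifferential.D k R
      (algebraMap (MvPolynomial (Fin d) k) R (MvPolynomial.X i)) := by
    intro i
    rw [hX i, map_add, tmul_add, hμ i]
    abel
  have : Algebra.IsEtaleAt (MvPolynomial (Fin d) k) m :=
    Groth.Agent.EtAlg.Chart.Basic.isEtaleAt_of_residual_basis k R m e he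
  have : Algebra.FinitePresentation (MvPolynomial (Fin d) k) R :=
    Algebra.FinitePresentation.of_restrict_scalars_finitePresentation k _ _
  obtain ⟨g, hg, het⟩ := Algebra.exists_etale_of_isEtaleAt (R := MvPolynomial (Fin d) k) m
  refine ⟨g, hg, IsScalarTower.toAlgHom k (MvPolynomial (Fin d) k) (Localization.Away g),
    RingHom.etale_algebraMap.mpr het, ?_⟩
  -- residual surjectivity
  have hres : ∀ r : R, ∃ p : MvPolynomial (Fin d) k,
      Ideal.Quotient.mk m (algebraMap (MvPolynomial (Fin d) k) R p) = Ideal.Quotient.mk m r := by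
    intro r
    by_cases hr : Ideal.Quotient.mk m r = 0
    · exact ⟨0, by rw [map_zero, map_zero, hr]⟩
    obtain ⟨j, hj⟩ := hζ (Units.mk0 _ hr)
    refine ⟨MvPolynomial.X ⟨0, hd⟩ ^ j, ?_⟩
    have hx0 : Ideal.Quotient.mk m (x ⟨0, hd⟩) = (ζ : K) := by
      show Ideal.Quotient.mk m ((if (0 : ℕ) = 0 then r0 else 0) + μ ⟨0, hd⟩) = (ζ : K)
      rw [if_pos rfl, map_add, Ideal.Quotient.eq_zero_iff_mem.mpr (hμm _), add_zero, hr0]
    rw [map_pow, map_pow, hX, hx0]
    have := congrArg (fun u : Kˣ => (u : K)) hj
    simpa using this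
  intro q
  obtain ⟨z, rfl⟩ := Ideal.Quotient.mk_surjective q
  obtain ⟨⟨a, s⟩, hs⟩ := IsLocalization.surj (Submonoid.powers g) z
  obtain ⟨n, hn : g ^ n = (s : R)⟩ := s.2
  obtain ⟨p, hp⟩ := hres a
  obtain ⟨w, hw⟩ : ∃ w : R, Ideal.Quotient.mk m w * Ideal.Quotient.mk m g = 1 := by
    obtain ⟨w, hw⟩ := Ideal.Quotient.mk_surjective (Ideal.Quotient.mk m g)⁻¹
    exact ⟨w, by rw [hw]; exact inv_mul_cancel₀ fun h => hg (Ideal.Quotient.eq_zero_iff_mem.mp h)⟩
  obtain ⟨t, ht⟩ := hres w
  refine ⟨p * t ^ n, ?_⟩
  simp only [RingHom.coe_comp, AlgHom.toRingHom_eq_coe, RingHom.coe_coe, Function.comp_apply,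
    IsScalarTower.coe_toAlgHom', map_mul, map_pow]
  let q' : R →+* Localization.Away g ⧸ m.map (algebraMap R (Localization.Away g)) :=
    (Ideal.Quotient.mk _).comp (algebraMap R (Localization.Away g))
  have hq' : ∀ r r' : R, Ideal.Quotient.mk m r = Ideal.Quotient.mk m r' → q' r = q' r' := by
    intro r r' h
    exact Ideal.Quotient.eq.mpr (by
      rw [← map_sub]; exact Ideal.mem_map_of_mem _ (Ideal.Quotient.eq.mp h))
  have hP : ∀ y : MvPolynomial (Fin d) k,
      Ideal.Quotient.mk (m.map (algebraMap R (Localization.Away g)))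
        (algebraMap (MvPolynomial (Fin d) k) (Localization.Away g) y) =
      q' (algebraMap (MvPolynomial (Fin d) k) R y) := fun y => by
    rw [IsScalarTower.algebraMap_apply (MvPolynomial (Fin d) k) R (Localization.Away g)]
    rfl
  rw [hP, hP, hq' _ _ hp, hq' _ _ ht]
  have hgw : q' g * q' w = 1 := by
    rw [← map_mul, ← map_one q']
    exact hq' _ _ (by rw [map_mul, map_one, mul_comm, hw])
  have hz : Ideal.Quotient.mk (m.map (algebraMap R (Localization.Away g))) z * q' g ^ n = q' a := by
    rw [← map_pow, hn]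
    exact (map_mul _ _ _).symm.trans (congrArg _ hs)
  rw [← hz, mul_assoc, ← mul_pow, hgw, one_pow, mul_one]

end Groth.Agent.S17854
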