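import Groth.Statements.S17858

set_option autoImplicit false
open CategoryTheory AlgebraicGeometry
universe u
open Algz

namespace Groth.Agent.S17858

/-- Let `j : W ⟶ Y` be a quasi-affine morphism of quasi-compact quasi-separated schemes. There is a
natural number `m` such that for every commutative ring `B` and every morphism `Spec B ⟶ Y`, the
fibre product `W ×_Y Spec B` is the union of `m` affine open subschemes. -/
theorem result {W Y : Scheme.{u}} (j : W ⟶ Y)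
    [CompactSpace W] [QuasiSeparatedSpace W] [CompactSpace Y] [QuasiSeparatedSpace Y]
    (hj : Mor2.IsQuasiAffine j) :
    ∃ m : ℕ, ∀ (B : CommRingCat.{u}) (g : Spec B ⟶ Y),
      ∃ U : Fin m → (Limits.pullback j g).Opens, (∀ k, IsAffineOpen (U k)) ∧ ⨆ k, U k = ⊤ := by
  classical
  obtain ⟨t, ht⟩ := (isCompact_univ (X := Y)).elim_finite_subcover
    (fun V : Y.affineOpens => ((V : Y.Opens) : Set Y)) (fun V => (V : Y.Opens).2) (fun y _ => by
      obtain ⟨V, hV, hyV, -⟩ := TopologicalSpace.Opens.isBasis_iff_nbhd.mp Y.isBasis_affineOpens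
        (show y ∈ (⊤ : Y.Opens) from trivial)
      exact Set.mem_iUnion.mpr ⟨⟨V, hV⟩, hyV⟩)
  haveI : QuasiCompact j := hj.1
  have hW : ∀ V : Y.affineOpens, ∃ s : Finset W.affineOpens, (∀ A ∈ s, (A : W.Opens) ≤ j ⁻¹ᵁ (V : Y.Opens)) ∧
      ((j ⁻¹ᵁ (V : Y.Opens) : W.Opens) : Set W) ⊆ ⋃ A ∈ s, ((A : W.Opens) : Set W) := by
    intro V
    obtain ⟨s, hs⟩ := (j.isCompact_preimage V.2.isCompact).elim_finite_subcover
      (fun A : {A : W.affineOpens // (A : W.Opens) ≤ j ⁻¹ᵁ (V : Y.Opens)} => ((A.1 : W.Opens) : Set W))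
      (fun A => (A.1 : W.Opens).2) (fun w hw => by
        obtain ⟨A, hA, hwA, hle⟩ := TopologicalSpace.Opens.isBasis_iff_nbhd.mp W.isBasis_affineOpens
          (show w ∈ j ⁻¹ᵁ (V : Y.Opens) from hw)
        exact Set.mem_iUnion.mpr ⟨⟨⟨A, hA⟩, hle⟩, hwA⟩)
    refine ⟨s.image Subtype.val, fun A hA => ?_, fun w hw => ?_⟩
    · obtain ⟨A', -, rfl⟩ := Finset.mem_image.mp hA
      exact A'.2
    · obtain ⟨A', hA', hwA'⟩ := Set.mem_iUnion₂.mp (hs hw)
      exact Set.mem_iUnion₂.mpr ⟨A'.1, Finset.mem_image_of_mem _ hA', hwA'⟩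
  choose s hsle hscov using hW
  let ι := (V : ↥t) × ↥(s V.1)
  refine ⟨Fintype.card ι, fun B g => ?_⟩
  let J : ↥t → Ideal B := fun V =>
    Ideal.span {f | PrimeSpectrum.basicOpen f ≤ g ⁻¹ᵁ (V.1 : Y.Opens)}
  have hJ : ∀ V : ↥t, ∀ a ∈ J V, PrimeSpectrum.basicOpen a ≤ g ⁻¹ᵁ (V.1 : Y.Opens) := by
    intro V a ha p hp
    by_contra hpV
    exact hp ((Ideal.span_le.mpr fun f hf => show f ∈ p.asIdeal from
      by_contra fun hfp => hpV ((show PrimeSpectrum.basicOpen f ≤ g ⁻¹ᵁ (V.1 : Y.Opens) from hf) hfp)) ha)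
  have hsum : ⨆ V ∈ (Finset.univ : Finset ↥t), J V = ⊤ := by
    by_contra hne
    obtain ⟨m, hm, hle⟩ := Ideal.exists_le_maximal _ hne
    let p : ↥(Spec B) := (⟨m, hm.isPrime⟩ : PrimeSpectrum B)
    obtain ⟨V, hV, hgV⟩ := Set.mem_iUnion₂.mp (ht (Set.mem_univ (g.base p)))
    obtain ⟨_, ⟨f, rfl⟩, hpf, hfle⟩ := PrimeSpectrum.isTopologicalBasis_basic_opens.exists_subset_of_mem_open
      (show p ∈ ((g ⁻¹ᵁ (V : Y.Opens) : (Spec B).Opens) : Set _) from hgV) (g ⁻¹ᵁ (V : Y.Opens)).2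
    exact hpf (hle (le_iSup₂ (f := fun V (_ : V ∈ Finset.univ) => J V) ⟨V, hV⟩ (Finset.mem_univ _)
      (Ideal.subset_span hfle)))
  obtain ⟨μ, hμ⟩ := (Submodule.mem_iSup_finset_iff_exists_sum (s := Finset.univ) J (1 : B)).mp
    (hsum.symm ▸ Submodule.mem_top)
  let D : ↥t → (Spec B).Opens := fun V => PrimeSpectrum.basicOpen (μ V : B)
  let U : ι → (Limits.pullback j g).Opens := fun k =>
    (Limits.pullback.fst j g) ⁻¹ᵁ (k.2.1 : W.Opens) ⊓ (Limits.pullback.snd j g) ⁻¹ᵁ D k.1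
  refine ⟨fun k => U ((Fintype.equivFin ι).symm k), fun k => ?_, ?_⟩
  · show IsAffineOpen (U ((Fintype.equivFin ι).symm k))
    generalize (Fintype.equivFin ι).symm k = i
    have hA := hsle i.1.1 i.2.1 i.2.2
    have hD : D i.1 ≤ g ⁻¹ᵁ (i.1.1 : Y.Opens) := hJ i.1 _ (μ i.1).2
    haveI : IsAffine (i.2.1 : W.Opens).toScheme := i.2.1.2
    haveI : IsAffine (i.1.1 : Y.Opens).toScheme := i.1.1.2
    haveI : IsAffine (D i.1).toScheme := IsAffineOpen.Spec_basicOpen _
    let m := Limits.pullback.map (j.resLE (i.1.1 : Y.Opens) i.2.1 hA) (g.resLE _ (D i.1) hD) j g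
      (i.2.1 : W.Opens).ι (D i.1).ι (i.1.1 : Y.Opens).ι (Scheme.Hom.resLE_comp_ι ..) (Scheme.Hom.resLE_comp_ι ..)
    have hr : m.opensRange = U i := by
      apply TopologicalSpace.Opens.ext
      show Set.range m.base = _
      rw [Scheme.Pullback.range_map]
      simp [U]
    rw [← hr]
    exact isAffineOpen_opensRange m
  · rw [eq_top_iff]
    intro x _
    rw [TopologicalSpace.Opens.mem_iSup]
    have : ∃ V : ↥t, (Limits.pullback.snd j g).base x ∈ D V := by
      by_contra hno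
      push Not at hno
      have h1 : (1 : B) ∈ ((Limits.pullback.snd j g).base x).asIdeal := by
        rw [← hμ]
        exact sum_mem fun V _ => not_not.mp (hno V)
      exact ((Limits.pullback.snd j g).base x).2.ne_top ((Ideal.eq_top_iff_one _).mpr h1)
    obtain ⟨V, hV⟩ := this
    have hxV : j.base ((Limits.pullback.fst j g).base x) ∈ (V.1 : Y.Opens) := by
      rw [← Scheme.Hom.comp_apply, Limits.pullback.condition, Scheme.Hom.comp_apply]
      exact hJ V _ (μ V).2 hV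
    obtain ⟨A, hA, hxA⟩ := Set.mem_iUnion₂.mp (hscov V.1 hxV)
    exact ⟨Fintype.equivFin ι ⟨V, A, hA⟩, by simp only [Equiv.symm_apply_apply]; exact ⟨hxA, hV⟩⟩

end Groth.Agent.S17858
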