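import Groth.Statements.S17859
import Mathlib
-- import your own Groth.Agent.* helpers here

set_option autoImplicit false
open CategoryTheory MonoidalCategory
universe u
open Algz

namespace Groth.Agent.S17859

/-- Over an affine scheme, that is for modules over a commutative ring `R`, a finitely generated
projective `R`-module `M`, viewed as an object of the monoidal category of `R`-modules (tensor
product over `R`), has a right dual. (The published statement is the equivalence, for quasi-coherent
sheaves on a quasi-compact quasi-separated scheme, between being dualizable and being a vector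
bundle; stated here is the affine case of the implication from vector bundle to dualizable. The
converse implication, that a module admitting a dual is finitely generated projective, is stated
separately and is not repeated here.) -/
theorem result (R : Type u) [CommRing R] (M : ModuleCat.{u} R)
    [Module.Finite R M] [Module.Projective R M] : Nonempty (HasRightDual M) := by
  obtain ⟨n, f, g, -, -, hfg⟩ := Module.Finite.exists_comp_eq_id_of_projective R M
  let m : Fin n → M := fun i => f (Pi.single i 1)
  let φ : Fin n → Module.Dual R M := fun i => (LinearMap.proj i).comp g
  have hx : ∀ x : M, ∑ i, φ i x • m i = x := by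
    intro x
    conv_rhs => rw [show x = f (g x) from (LinearMap.congr_fun hfg x).symm, pi_eq_sum_univ' (g x)]
    simp [φ, m]
  have hφ : ∀ ψ : Module.Dual R M, ∑ i, ψ (m i) • φ i = ψ := by
    intro ψ
    ext x
    conv_rhs => rw [← hx x]
    simp [mul_comm]
  let D : ModuleCat.{u} R := ModuleCat.of R (Module.Dual R M)
  let η : 𝟙_ (ModuleCat.{u} R) ⟶ M ⊗ D :=
    ModuleCat.ofHom (LinearMap.toSpanSingleton R (TensorProduct R M (Module.Dual R M)) (∑ i, TensorProduct.tmul R (m i) (φ i)))
  let ε : D ⊗ M ⟶ 𝟙_ (ModuleCat.{u} R) := ModuleCat.ofHom (contractLeft R M)
  haveI : ExactPairing M D :=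
    { coevaluation' := η
      evaluation' := ε
      coevaluation_evaluation' := by
        apply ModuleCat.hom_ext
        apply TensorProduct.ext'
        intro ψ r
        change ((TensorProduct.map (contractLeft R M) LinearMap.id) ((TensorProduct.assoc R (Module.Dual R M) M (Module.Dual R M)).symm
          (TensorProduct.tmul R ψ (r • ∑ i, TensorProduct.tmul R (m i) (φ i))))) = TensorProduct.tmul R (1 : R) (r • ψ)
        simp only [TensorProduct.tmul_smul, TensorProduct.tmul_sum, map_smul, map_sum, TensorProduct.assoc_symm_tmul,
          TensorProduct.map_tmul, contractLeft_apply, LinearMap.id_apply]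
        congr 1
        calc ∑ i, TensorProduct.tmul R (ψ (m i)) (φ i) = ∑ i, TensorProduct.tmul R (1 : R) (ψ (m i) • φ i) := by
              refine Finset.sum_congr rfl fun i _ => ?_
              rw [← TensorProduct.smul_tmul, smul_eq_mul, mul_one]
          _ = _ := by rw [← TensorProduct.tmul_sum, hφ]
      evaluation_coevaluation' := by
        apply ModuleCat.hom_ext
        apply TensorProduct.ext'
        intro r x
        change ((TensorProduct.map LinearMap.id (contractLeft R M)) ((TensorProduct.assoc R M (Module.Dual R M) M)
          (TensorProduct.tmul R (r • ∑ i, TensorProduct.tmul R (m i) (φ i)) x))) = TensorProduct.tmul R (r • x) (1 : R)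
        simp only [← TensorProduct.smul_tmul', TensorProduct.sum_tmul, map_smul, map_sum, TensorProduct.assoc_tmul,
          TensorProduct.map_tmul, contractLeft_apply, LinearMap.id_apply]
        congr 1
        calc ∑ i, TensorProduct.tmul R (m i) (φ i x) = ∑ i, TensorProduct.tmul R (φ i x • m i) (1 : R) := by
              refine Finset.sum_congr rfl fun i _ => ?_
              rw [TensorProduct.smul_tmul, smul_eq_mul, mul_one]
          _ = _ := by rw [← TensorProduct.sum_tmul, hx] }
  exact ⟨{ rightDual := D }⟩

end Groth.Agent.S17859
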