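import Groth.Statements.S17878
import Mathlib

set_option autoImplicit false
universe u
open Filter Topology
open GRRSing

namespace Groth.Agent.S17878

/-- Let T be a nonzero commutative normed ℂ-algebra such that the map ℂ → T/nilradical(T) is surjective,
let P = Σ_j d_j x ^ j be a polynomial over T and put h_k = P(k). Let E_0, E_1, … be the rational
numbers with 2/(e^t + 1) = Σ_j E_j t ^ j / j! (so E_0 = 1, E_1 = -1/2). Then for every complex y
with |y| < 1 the series Σ_k h_k y ^ k converges in T, and as y → -1 along real y in (-1, 1) its sum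
tends to (1/2) Σ_j E_j d_j. (The published statement allows any norm topology on T as a complex
vector space; this row takes T a normed ℂ-algebra.) -/
theorem result {T : Type u} [NormedCommRing T] [NormedAlgebra ℂ T] [Nontrivial T]
    (hT : Function.Surjective (algebraMap ℂ (T ⧸ nilradical T)))
    (E : ℕ → ℚ) (hE : PowerSeries.mk (fun j => E j / (j.factorial : ℚ)) * (PowerSeries.exp ℚ + 1) = 2)
    (P : Polynomial T) :
    (∀ y : ℂ, ‖y‖ < 1 → Summable (fun k : ℕ => y ^ k • P.eval (k : T))) ∧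
    Tendsto (fun y : ℝ => ∑' k : ℕ, ((y : ℂ) ^ k) • P.eval (k : T)) (𝓝[Set.Ioo (-1 : ℝ) 1] (-1 : ℝ))
      (𝓝 ((2 : ℂ)⁻¹ • ∑ j ∈ Finset.range (P.natDegree + 1), ((E j : ℚ) : ℂ) • P.coeff j)) := by
  classical
  let A : ℕ → ℂ → ℂ := fun n y => ∑' m : ℕ, (m : ℂ) ^ n * y ^ m
  have hs : ∀ (n : ℕ) (y : ℂ), ‖y‖ < 1 → Summable fun m : ℕ => (m : ℂ) ^ n * y ^ m :=
    fun n y hy => summable_pow_mul_geometric_of_norm_lt_one n hy
  have hrec : ∀ (n : ℕ) (y : ℂ), ‖y‖ < 1 →
      (1 - y) * A n y = (0 : ℂ) ^ n + y * ∑ i ∈ Finset.range n, (n.choose i : ℂ) * A i y := by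
    intro n y hy
    have h1 : A n y = (0 : ℂ) ^ n +
        y * ∑ i ∈ Finset.range (n + 1), (n.choose i : ℂ) * A i y := by
      simp only [A]
      rw [(hs n y hy).tsum_eq_zero_add, Nat.cast_zero, pow_zero, mul_one]
      congr 1
      simp only [Finset.mul_sum, ← tsum_mul_left]
      rw [← Summable.tsum_finsetSum (fun i _ => ((hs i y hy).mul_left _).mul_left _)]
      refine tsum_congr fun m => ?_
      rw [Nat.cast_add, Nat.cast_one, add_pow, Finset.sum_mul]
      refine Finset.sum_congr rfl fun i _ => ?_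
      rw [one_pow, pow_succ]
      ring
    rw [Finset.sum_range_succ, Nat.choose_self, Nat.cast_one, one_mul] at h1
    linear_combination h1
  have hE' : ∀ n : ℕ, ∑ i ∈ Finset.range n, (n.choose i : ℚ) * E i + 2 * E n = 2 * 0 ^ n := by
    intro n
    have h := congrArg (PowerSeries.coeff n) hE
    rw [mul_add, mul_one, map_add, PowerSeries.coeff_mul, PowerSeries.coeff_mk,
      show (2 : PowerSeries ℚ) = PowerSeries.C 2 from (map_ofNat PowerSeries.C 2).symm,
      PowerSeries.coeff_C, Finset.Nat.sum_antidiagonal_eq_sum_range_succ_mk] at h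
    simp only [PowerSeries.coeff_mk, PowerSeries.coeff_exp, Algebra.algebraMap_self,
      RingHom.id_apply] at h
    have hnf : (n.factorial : ℚ) ≠ 0 := Nat.cast_ne_zero.mpr (Nat.factorial_ne_zero n)
    have h2 := congrArg (fun x => (n.factorial : ℚ) * x) h
    simp only [mul_add, Finset.mul_sum] at h2
    rw [mul_div_cancel₀ _ hnf] at h2
    have h3 : ∀ i ∈ Finset.range (n + 1), (n.factorial : ℚ) * (E i / (i.factorial : ℚ) *
        (1 / ((n - i).factorial : ℚ))) = (n.choose i : ℚ) * E i := by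
      intro i hi
      rw [Nat.cast_choose ℚ (Nat.lt_succ_iff.mp (Finset.mem_range.mp hi))]
      ring
    rw [Finset.sum_congr rfl h3, Finset.sum_range_succ, Nat.choose_self, Nat.cast_one, one_mul]
      at h2
    rcases Nat.eq_zero_or_pos n with rfl | hn
    · simp at h2 ⊢
      linarith
    · rw [if_neg (Nat.pos_iff_ne_zero.mp hn), mul_zero] at h2
      rw [zero_pow (Nat.pos_iff_ne_zero.mp hn), mul_zero]
      linarith
  have hball : ∀ y : ℝ, y ∈ Set.Ioo (-1 : ℝ) 1 → ‖(y : ℂ)‖ < 1 := fun y hy => by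
    rw [Complex.norm_real, Real.norm_eq_abs, abs_lt]; exact hy
  have hlim : ∀ n, Tendsto (fun y : ℝ => A n (y : ℂ)) (𝓝[Set.Ioo (-1 : ℝ) 1] (-1 : ℝ))
      (𝓝 ((2 : ℂ)⁻¹ * ((E n : ℚ) : ℂ))) := by
    intro n
    induction n using Nat.strong_induction_on with
    | _ n ih =>
      have hy : Tendsto (fun y : ℝ => (y : ℂ)) (𝓝[Set.Ioo (-1 : ℝ) 1] (-1 : ℝ)) (𝓝 (-1)) := by
        have := (Complex.continuous_ofReal.tendsto (-1 : ℝ)).mono_left
          (nhdsWithin_le_nhds (s := Set.Ioo (-1 : ℝ) 1))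
        rwa [Complex.ofReal_neg, Complex.ofReal_one] at this
      have hsum := tendsto_finsetSum (Finset.range n) fun i hi =>
        (ih i (Finset.mem_range.mp hi)).const_mul (n.choose i : ℂ)
      have hnum := (hy.mul hsum).const_add ((0 : ℂ) ^ n)
      have hden : Tendsto (fun y : ℝ => 1 - (y : ℂ)) (𝓝[Set.Ioo (-1 : ℝ) 1] (-1 : ℝ)) (𝓝 2) := by
        have := hy.const_sub 1
        rw [show (1 : ℂ) - -1 = 2 by norm_num] at this
        exact this
      have hq := hnum.div hden two_ne_zero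
      have hval : ((0 : ℂ) ^ n + -1 * ∑ i ∈ Finset.range n, (n.choose i : ℂ) *
          ((2 : ℂ)⁻¹ * ((E i : ℚ) : ℂ))) / 2 = (2 : ℂ)⁻¹ * ((E n : ℚ) : ℂ) := by
        have h := congrArg (fun x : ℚ => (x : ℂ)) (hE' n)
        push_cast at h
        simp only [mul_left_comm _ (2 : ℂ)⁻¹, ← Finset.mul_sum]
        linear_combination (-(1 / 4 : ℂ)) * h
      rw [hval] at hq
      refine hq.congr' ?_
      filter_upwards [self_mem_nhdsWithin] with y hy'
      have hne : (1 : ℂ) - (y : ℂ) ≠ 0 := sub_ne_zero.mpr fun h => by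
        have := hball y hy'
        rw [← h, norm_one] at this
        exact lt_irrefl _ this
      simp only [Pi.div_apply]
      rw [← hrec n _ (hball y hy')]
      field_simp
  have hterm : ∀ (y : ℂ) (m : ℕ), y ^ m • P.eval (m : T) =
      ∑ j ∈ Finset.range (P.natDegree + 1), ((m : ℂ) ^ j * y ^ m) • P.coeff j := by
    intro y m
    rw [Polynomial.eval_eq_sum_range, Finset.smul_sum]
    refine Finset.sum_congr rfl fun j _ => ?_
    rw [← map_natCast (algebraMap ℂ T) m, ← map_pow, ← Algebra.commutes, ← Algebra.smul_def,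
      smul_smul, mul_comm]
  have hsum : ∀ y : ℂ, ‖y‖ < 1 → HasSum (fun m : ℕ => y ^ m • P.eval (m : T))
      (∑ j ∈ Finset.range (P.natDegree + 1), A j y • P.coeff j) := by
    intro y hy
    simp only [hterm]
    exact hasSum_sum fun j _ => (hs j y hy).hasSum.smul_const _
  refine ⟨fun y hy => (hsum y hy).summable, ?_⟩
  rw [Finset.smul_sum]
  simp only [smul_smul]
  refine (tendsto_finsetSum (Finset.range (P.natDegree + 1))
    fun j _ => (hlim j).smul_const (P.coeff j)).congr' ?_
  filter_upwards [self_mem_nhdsWithin] with y hy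
  exact (hsum _ (hball y hy)).tsum_eq.symm

end Groth.Agent.S17878
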