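import Groth.Statements.S17881
import Mathlib
-- import your own Groth.Agent.* helpers here

set_option autoImplicit false
set_option backward.isDefEq.respectTransparency false
universe u
open CAlg

open CategoryTheory CategoryTheory.Limits AlgebraicGeometry
namespace Groth.Agent.S17881

/-- Let O be a subring of a nontrivial commutative ring A. The following are equivalent: (i) A is a
local ring, every non-unit of A belongs to O, and for every unit u of A one of u, u⁻¹ belongs to O —
equivalently O is the preimage in the local ring A of a valuation ring of the residue field of A,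
which makes O a semi-valuation ring with semi-fraction ring A; (ii) for all f, g in A generating the
unit ideal, either f ∈ gO or g ∈ fO. (A is taken nontrivial: over the zero ring (ii) holds and (i)
fails.) -/
theorem result (A : Type u) [CommRing A] [Nontrivial A]
    (O : Subring A) :
    (IsLocalRing A ∧ (∀ a : A, ¬ IsUnit a → a ∈ O) ∧ (∀ u : Aˣ, (u : A) ∈ O ∨ ((u⁻¹ : Aˣ) : A) ∈ O)) ↔
      ∀ f g : A, IsCoprime f g → (∃ o ∈ O, f = g * o) ∨ (∃ o ∈ O, g = f * o) := by
  constructor
  · rintro ⟨hloc, hnu, hu⟩ f g ⟨a, b, hab⟩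
    haveI := hloc
    rcases IsLocalRing.isUnit_or_isUnit_of_isUnit_add (hab ▸ isUnit_one : IsUnit (a * f + b * g)) with h | h
    · obtain ⟨v, rfl⟩ := isUnit_of_mul_isUnit_right h
      by_cases hg : IsUnit g
      · obtain ⟨w, rfl⟩ := hg
        rcases hu (v⁻¹ * w) with ho | ho
        · exact Or.inr ⟨_, ho, by simp⟩
        · exact Or.inl ⟨_, ho, by simp [mul_comm (w : A) v, mul_assoc]⟩
      · exact Or.inr ⟨↑v⁻¹ * g, hnu _ (fun hh => hg (isUnit_of_mul_isUnit_right hh)), by rw [← mul_assoc, Units.mul_inv, one_mul]⟩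
    · obtain ⟨w, rfl⟩ := isUnit_of_mul_isUnit_right h
      by_cases hf : IsUnit f
      · obtain ⟨v, rfl⟩ := hf
        rcases hu (w⁻¹ * v) with ho | ho
        · exact Or.inl ⟨_, ho, by simp⟩
        · exact Or.inr ⟨_, ho, by simp [mul_comm (v : A) w, mul_assoc]⟩
      · exact Or.inl ⟨↑w⁻¹ * f, hnu _ (fun hh => hf (isUnit_of_mul_isUnit_right hh)), by rw [← mul_assoc, Units.mul_inv, one_mul]⟩
  · intro h
    have hnu : ∀ a : A, ¬ IsUnit a → a ∈ O := fun a ha => by
      rcases h a 1 ⟨0, 1, by simp⟩ with ⟨o, ho, e⟩ | ⟨o, -, e⟩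
      · rw [e, one_mul]; exact ho
      · exact absurd (IsUnit.of_mul_eq_one o e.symm) ha
    refine ⟨IsLocalRing.of_isUnit_or_isUnit_one_sub_self fun a => ?_, hnu, fun u => ?_⟩
    · rcases h a (1 - a) ⟨1, 1, by ring⟩ with ⟨o, -, e⟩ | ⟨o, -, e⟩
      · exact Or.inr (IsUnit.of_mul_eq_one (1 + o) (by rw [mul_add, mul_one, ← e]; ring))
      · exact Or.inl (IsUnit.of_mul_eq_one (1 + o) (by rw [mul_add, mul_one, ← e]; ring))
    · rcases h u 1 ⟨0, 1, by simp⟩ with ⟨o, ho, e⟩ | ⟨o, ho, e⟩
      · rw [one_mul] at e; exact Or.inl (e ▸ ho)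
      · refine Or.inr ?_
        rw [show ((u⁻¹ : Aˣ) : A) = o from Units.inv_eq_of_mul_eq_one_right e.symm]
        exact ho

end Groth.Agent.S17881
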