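import Groth.Statements.S17882
import Mathlib
-- import your own Groth.Agent.* helpers here

set_option autoImplicit false
universe u
open CAlg

namespace Groth.Agent.S17882

/-- Let B be a commutative ring, r ≥ 1, N a finitely generated submodule of B^r, and n_1, …, n_r ∈ N.
Suppose the determinant of the matrix with rows n_1, …, n_r is a nonzerodivisor of B and that the
determinant of every matrix whose rows lie in N is a multiple of it (the image of the top exterior
power of N in that of B^r ≅ B is the principal ideal generated by n_1 ∧ ⋯ ∧ n_r, a nonzerodivisor).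
Then n_1, …, n_r are linearly independent over B and span N: N is free of rank r with this basis. -/
theorem result (B : Type u) [CommRing B] (r : ℕ) (hr : 0 < r)
    (N : Submodule B (Fin r → B)) (hN : N.FG) (n : Fin r → (Fin r → B)) (hn : ∀ i, n i ∈ N)
    (hgen : ∀ m : Fin r → (Fin r → B), (∀ i, m i ∈ N) →
      Matrix.det (Matrix.of m) ∈ Ideal.span {Matrix.det (Matrix.of n)})
    (hnzd : Matrix.det (Matrix.of n) ∈ nonZeroDivisors B) :
    LinearIndependent B n ∧ Submodule.span B (Set.range n) = N := by
  classical
  let A : Matrix (Fin r) (Fin r) B := Matrix.of n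
  have hreg : ∀ v : Fin r → B, A.det • v = 0 → v = 0 := fun v hv => funext fun i =>
    hnzd.1 _ (by simpa using congrFun hv i)
  constructor
  · rw [Fintype.linearIndependent_iff]
    intro c hc
    have h1 : Matrix.vecMul c A = 0 := by
      ext j
      simpa [Matrix.vecMul, dotProduct, A, Finset.sum_apply] using congrFun hc j
    have h2 : A.det • c = 0 := by
      have := congrArg (fun w => Matrix.vecMul w A.adjugate) h1
      simpa [Matrix.vecMul_vecMul, Matrix.mul_adjugate, Matrix.vecMul_smul, Matrix.vecMul_one] using this
    exact fun i => congrFun (hreg c h2) i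
  · refine le_antisymm (Submodule.span_le.2 (by rintro _ ⟨i, rfl⟩; exact hn i)) fun m hm => ?_
    have hc : ∀ i, ∃ c, (Matrix.vecMul m A.adjugate) i = A.det * c := fun i => by
      have h1 : (Matrix.vecMul m A.adjugate) i = (Matrix.updateRow A i m).det := by
        rw [← Matrix.cramer_transpose_apply, Matrix.cramer_eq_adjugate_mulVec, ← Matrix.adjugate_transpose, Matrix.mulVec_transpose]
      rw [h1]
      obtain ⟨c, hc⟩ := Ideal.mem_span_singleton.1 (hgen (Function.update n i m) (fun j => by
        by_cases hj : j = i
        · subst hj; simpa using hm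
        · simpa [hj] using hn j))
      exact ⟨c, hc⟩
    choose c hc using hc
    have h2 : A.det • (Matrix.vecMul c A - m) = 0 := by
      have : Matrix.vecMul (Matrix.vecMul m A.adjugate) A = A.det • m := by
        rw [Matrix.vecMul_vecMul, Matrix.adjugate_mul, Matrix.vecMul_smul, Matrix.vecMul_one]
      rw [show Matrix.vecMul m A.adjugate = A.det • c from funext hc, Matrix.smul_vecMul] at this
      rw [smul_sub, this, sub_self]
    rw [← sub_eq_zero.1 (hreg _ h2), Submodule.mem_span_range_iff_exists_fun]
    refine ⟨c, ?_⟩
    ext j
    simp [Matrix.vecMul, dotProduct, A, Finset.sum_apply]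

end Groth.Agent.S17882
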