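import Groth.Statements.S17897
import Groth.Agent.Lead.DVR.Centre
-- import your own Groth.Agent.* helpers here

set_option autoImplicit false
universe u
open CategoryTheory AlgebraicGeometry
open ValCrit

namespace Groth.Agent.S17897

/-- Let f : Y → X be a morphism of schemes (not assumed separated), R a valuation ring with fraction
field K, and i : Spec K → Y, φ : Spec R → X with i ≫ f = (Spec K → Spec R) ≫ φ. Let y be the point
of Y hit by i and g : κ(y) → K the induced embedding, R' = g⁻¹(R) the induced valuation ring of κ(y)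
and ρ : R' → R the restriction of g. Then φ factors uniquely through Spec R → Spec R': there is a
unique φ' : Spec R' → X with (Spec ρ) ≫ φ' = φ whose restriction to the generic point Spec κ(y) is
the canonical morphism Spec κ(y) → Y followed by f. (Here y and g are given as data with Spec g
followed by Spec κ(y) → Y equal to i, and ρ as data by its defining equation.) -/
theorem result {X Y : Scheme.{u}} (f : Y ⟶ X)
    (K : Type u) [Field K] (R : ValuationSubring K)
    (i : Spec (CommRingCat.of K) ⟶ Y) (φ : Spec (CommRingCat.of ↥R) ⟶ X)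
    (w : Spec.map (CommRingCat.ofHom R.subtype) ≫ φ = i ≫ f)
    (y : Y) (g : Y.residueField y ⟶ CommRingCat.of K) (hg : Spec.map g ≫ Y.fromSpecResidueField y = i)
    (ρ : ↥(R.comap g.hom) →+* ↥R)
    (hρ : ∀ x : ↥(R.comap g.hom), ((ρ x : ↥R) : K) = g.hom (x : ↑(Y.residueField y))) :
    ∃! φ' : Spec (CommRingCat.of ↥(R.comap g.hom)) ⟶ X,
      Spec.map (CommRingCat.ofHom ρ) ≫ φ' = φ ∧
      Spec.map (CommRingCat.ofHom (R.comap g.hom).subtype) ≫ φ' = Y.fromSpecResidueField y ≫ f := by
  obtain ⟨_, ⟨W, hW, rfl⟩, hxW, -⟩ :=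
    X.isBasis_affineOpens.exists_subset_of_mem_open (Set.mem_univ (φ (IsLocalRing.closedPoint R))) isOpen_univ
  obtain ⟨p, hp⟩ := Groth.Agent.Lead.DVR.exists_chart hW φ (Groth.Agent.Lead.DVR.range_subset_of_closedPoint φ hxW)
  have hyW : f y ∈ W := by
    have h1 : (i ≫ f) (IsLocalRing.closedPoint K) = f y := by
      rw [← hg, Scheme.Hom.comp_apply, Scheme.Hom.comp_apply]
      exact congrArg f (Scheme.fromSpecResidueField_apply _ _)
    rw [← h1, ← w, Scheme.Hom.comp_apply]
    exact Groth.Agent.Lead.DVR.range_subset_of_closedPoint φ hxW ⟨_, rfl⟩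
  let r := Groth.Agent.Lead.DVR.toRes hyW ≫ f.residueFieldMap y
  have hr : Spec.map r ≫ hW.fromSpec = Y.fromSpecResidueField y ≫ f := by
    rw [Spec.map_comp, Category.assoc, Groth.Agent.Lead.DVR.SpecMap_toRes hW,
      Scheme.Hom.SpecMap_residueFieldMap_fromSpecResidueField]
  have hrg : r ≫ g = p ≫ CommRingCat.ofHom R.subtype := Groth.Agent.Lead.DVR.chart_ext hW (by
    simp only [Spec.map_comp, Category.assoc]
    rw [hr, hp, w, reassoc_of% hg])
  let p' : Γ(X, W) ⟶ CommRingCat.of ↥(R.comap g.hom) := CommRingCat.ofHom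
    (r.hom.codRestrict (R.comap g.hom).toSubring fun a => by
      show g (r a) ∈ R
      rw [show g (r a) = (p a : K) from ConcreteCategory.congr_hom hrg a]
      exact (p a).2)
  have hp' : p' ≫ CommRingCat.ofHom (R.comap g.hom).subtype = r := rfl
  have hpρ : p' ≫ CommRingCat.ofHom ρ = p := CommRingCat.hom_ext (RingHom.ext fun a => Subtype.ext
    ((hρ _).trans (ConcreteCategory.congr_hom hrg a)))
  refine ⟨Spec.map p' ≫ hW.fromSpec, ⟨by rw [← Spec.map_comp_assoc, hpρ, hp], by rw [← Spec.map_comp_assoc, hp', hr]⟩, ?_⟩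
  rintro φ' ⟨h1, h2⟩
  haveI : IsLocalHom (CommRingCat.ofHom ρ).hom := ⟨fun a ha => by
    obtain ⟨b, hb⟩ := ha.exists_right_inv
    have h0 : (a : Y.residueField y) ≠ 0 := fun h => by
      have : ρ a = 0 := Subtype.ext ((hρ a).trans (by rw [h, map_zero]; rfl))
      exact ha.ne_zero this
    have hm : (a : Y.residueField y)⁻¹ ∈ R.comap g.hom := by
      show g (a : Y.residueField y)⁻¹ ∈ R
      rw [map_inv₀]
      have h3 : g (a : Y.residueField y) * (b : K) = 1 := by
        rw [← hρ]; exact congrArg Subtype.val hb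
      rw [inv_eq_of_mul_eq_one_right h3]
      exact b.2
    exact IsUnit.of_mul_eq_one ⟨_, hm⟩ (Subtype.ext (mul_inv_cancel₀ h0))⟩
  have hc : φ' (IsLocalRing.closedPoint ↥(R.comap g.hom)) = φ (IsLocalRing.closedPoint R) := by
    rw [← h1, Scheme.Hom.comp_apply]
    exact congrArg φ' (IsLocalRing.comap_closedPoint (CommRingCat.ofHom ρ).hom).symm
  obtain ⟨q, hq⟩ := Groth.Agent.Lead.DVR.exists_chart hW φ'
    (Groth.Agent.Lead.DVR.range_subset_of_closedPoint φ' (hc.symm ▸ hxW))
  have e : q ≫ CommRingCat.ofHom (R.comap g.hom).subtype = r := Groth.Agent.Lead.DVR.chart_ext hW (by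
    rw [Spec.map_comp, Category.assoc, hq, h2, hr])
  rw [← hq, show q = p' from CommRingCat.hom_ext (RingHom.ext fun a => Subtype.ext (ConcreteCategory.congr_hom e a))]

end Groth.Agent.S17897
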