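import Groth.Statements.S17898
import Groth.Agent.Lead.DVR.Centre
-- import your own Groth.Agent.* helpers here

set_option autoImplicit false
universe u
open CategoryTheory AlgebraicGeometry
open ValCrit

namespace Groth.Agent.S17898

/-- Let f : Y → X be a morphism of schemes (not assumed separated), K a field with valuation rings R ⊆
R' (inclusion ι), i : Spec K → Y and φ : Spec R → X a commutative square over f, and g : Spec R' → Y
a lift of Spec R' → Spec R → X restricting to i on Spec K. Let K̃ be the residue field of R', R̃ ⊆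
K̃ the image of R (a valuation ring of K̃) with the surjection σ : R → R̃. Then every h̃ : Spec R̃ →
Y whose restriction to Spec K̃ is Spec K̃ → Spec R' → Y (via g) and which lies over Spec R̃ → Spec R
→ X is induced by a unique h : Spec R → Y compatible with the whole diagram: h restricts to i on
Spec K, lies over φ, restricts to g along Spec R' → Spec R and to h̃ along Spec R̃ → Spec R. (ι, R̃,
σ are given as data pinned by their defining equations.) -/
theorem result {X Y : Scheme.{u}} (f : Y ⟶ X)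
    (K : Type u) [Field K] (R R' : ValuationSubring K) (hRR' : R ≤ R')
    (ι : ↥R →+* ↥R') (hι : ∀ x : ↥R, ((ι x : ↥R') : K) = (x : K))
    (i : Spec (CommRingCat.of K) ⟶ Y) (φ : Spec (CommRingCat.of ↥R) ⟶ X)
    (w : Spec.map (CommRingCat.ofHom R.subtype) ≫ φ = i ≫ f)
    (g : Spec (CommRingCat.of ↥R') ⟶ Y) (hg₁ : Spec.map (CommRingCat.ofHom R'.subtype) ≫ g = i)
    (hg₂ : g ≫ f = Spec.map (CommRingCat.ofHom ι) ≫ φ)
    (Rt : ValuationSubring (IsLocalRing.ResidueField ↥R')) (σ : ↥R →+* ↥Rt) (hσs : Function.Surjective σ)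
    (hσ : ∀ x : ↥R, ((σ x : ↥Rt) : IsLocalRing.ResidueField ↥R') = IsLocalRing.residue ↥R' (ι x))
    (ht : Spec (CommRingCat.of ↥Rt) ⟶ Y)
    (hht₁ : Spec.map (CommRingCat.ofHom Rt.subtype) ≫ ht =
      Spec.map (CommRingCat.ofHom (IsLocalRing.residue ↥R')) ≫ g)
    (hht₂ : ht ≫ f = Spec.map (CommRingCat.ofHom σ) ≫ φ) :
    ∃! h : Spec (CommRingCat.of ↥R) ⟶ Y, Spec.map (CommRingCat.ofHom R.subtype) ≫ h = i ∧ h ≫ f = φ ∧
      Spec.map (CommRingCat.ofHom ι) ≫ h = g ∧ Spec.map (CommRingCat.ofHom σ) ≫ h = ht := by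
  obtain ⟨_, ⟨W, hW, rfl⟩, hyW, -⟩ :=
    Y.isBasis_affineOpens.exists_subset_of_mem_open (Set.mem_univ (ht (IsLocalRing.closedPoint Rt))) isOpen_univ
  obtain ⟨a, ha⟩ := Groth.Agent.Lead.DVR.exists_chart hW ht (Groth.Agent.Lead.DVR.range_subset_of_closedPoint ht hyW)
  have hgW : g (IsLocalRing.closedPoint R') ∈ W := by
    have e : (Spec.map (CommRingCat.ofHom (IsLocalRing.residue R'))) (IsLocalRing.closedPoint (IsLocalRing.ResidueField R')) =
        IsLocalRing.closedPoint R' := IsLocalRing.comap_closedPoint (IsLocalRing.residue R')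
    rw [← e, ← Scheme.Hom.comp_apply, ← hht₁, Scheme.Hom.comp_apply]
    exact Groth.Agent.Lead.DVR.range_subset_of_closedPoint ht hyW ⟨_, rfl⟩
  obtain ⟨b, hb⟩ := Groth.Agent.Lead.DVR.exists_chart hW g (Groth.Agent.Lead.DVR.range_subset_of_closedPoint g hgW)
  have hab : b ≫ CommRingCat.ofHom (IsLocalRing.residue R') = a ≫ CommRingCat.ofHom Rt.subtype :=
    Groth.Agent.Lead.DVR.chart_ext hW (by
      simp only [Spec.map_comp, Category.assoc]
      rw [hb, ha, hht₁])
  have hbR : ∀ c, (b c : K) ∈ R := fun c => by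
    obtain ⟨r, hr⟩ := hσs (a c)
    have h0 : IsLocalRing.residue R' (b c - ι r) = 0 := by
      rw [map_sub, sub_eq_zero, ← hσ, hr]
      exact ConcreteCategory.congr_hom hab c
    have h1 : ((b c - ι r : R') : K) ∈ R := by
      rcases R.mem_or_inv_mem ((b c - ι r : R') : K) with h | h
      · exact h
      · by_cases hz : ((b c - ι r : R') : K) = 0
        · rw [hz]; exact R.zero_mem
        · exfalso
          exact (IsLocalRing.mem_maximalIdeal _).mp ((IsLocalRing.residue_eq_zero_iff _).mp h0)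
            (IsUnit.of_mul_eq_one ⟨_, hRR' h⟩ (Subtype.ext (mul_inv_cancel₀ hz)))
    have : (b c : K) = ((b c - ι r : R') : K) + (r : K) := by
      rw [← hι r]
      exact (sub_add_cancel (b c : K) (ι r : K)).symm
    rw [this]
    exact add_mem h1 r.2
  let ψ : Γ(Y, W) ⟶ CommRingCat.of R :=
    CommRingCat.ofHom ((R'.subtype.comp b.hom).codRestrict R.toSubring hbR)
  have hψι : ψ ≫ CommRingCat.ofHom ι = b := CommRingCat.hom_ext (RingHom.ext fun c => Subtype.ext (hι _))
  have hψσ : ψ ≫ CommRingCat.ofHom σ = a := CommRingCat.hom_ext (RingHom.ext fun c => Subtype.ext (by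
    show ((σ (ψ c) : Rt) : IsLocalRing.ResidueField R') = _
    rw [hσ, show ι (ψ c) = b c from Subtype.ext (hι _)]
    exact ConcreteCategory.congr_hom hab c))
  have hψK : ψ ≫ CommRingCat.ofHom R.subtype = b ≫ CommRingCat.ofHom R'.subtype := rfl
  haveI : IsLocalHom (CommRingCat.ofHom σ).hom := IsLocalHom.of_surjective σ hσs
  have hcl : (Spec.map (CommRingCat.ofHom σ)) (IsLocalRing.closedPoint Rt) = IsLocalRing.closedPoint R :=
    IsLocalRing.comap_closedPoint (CommRingCat.ofHom σ).hom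
  let h := Spec.map ψ ≫ hW.fromSpec
  have hK : Spec.map (CommRingCat.ofHom R.subtype) ≫ h = i := by
    rw [← Spec.map_comp_assoc, hψK, Spec.map_comp, Category.assoc, hb, hg₁]
  have hσh : Spec.map (CommRingCat.ofHom σ) ≫ h = ht := by rw [← Spec.map_comp_assoc, hψσ, ha]
  have hf : h ≫ f = φ := by
    obtain ⟨_, ⟨V, hV, rfl⟩, hxV, -⟩ :=
      X.isBasis_affineOpens.exists_subset_of_mem_open (Set.mem_univ (φ (IsLocalRing.closedPoint R))) isOpen_univ
    obtain ⟨p₂, hp₂⟩ := Groth.Agent.Lead.DVR.exists_chart hV φ (Groth.Agent.Lead.DVR.range_subset_of_closedPoint φ hxV)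
    have hc : (h ≫ f) (IsLocalRing.closedPoint R) = φ (IsLocalRing.closedPoint R) := by
      rw [← hcl, ← Scheme.Hom.comp_apply, ← Scheme.Hom.comp_apply, reassoc_of% hσh, hht₂]
    obtain ⟨p₁, hp₁⟩ := Groth.Agent.Lead.DVR.exists_chart hV (h ≫ f)
      (Groth.Agent.Lead.DVR.range_subset_of_closedPoint _ (hc.symm ▸ hxV))
    have e : p₁ ≫ CommRingCat.ofHom R.subtype = p₂ ≫ CommRingCat.ofHom R.subtype :=
      Groth.Agent.Lead.DVR.chart_ext hV (by
        simp only [Spec.map_comp, Category.assoc]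
        rw [hp₁, hp₂, w, reassoc_of% hK])
    rw [← hp₁, ← hp₂, show p₁ = p₂ from CommRingCat.hom_ext (RingHom.ext fun c => Subtype.ext (ConcreteCategory.congr_hom e c))]
  refine ⟨h, ⟨hK, hf, by rw [← Spec.map_comp_assoc, hψι, hb], hσh⟩, ?_⟩
  rintro h' ⟨h1, -, -, h4⟩
  have hc : h' (IsLocalRing.closedPoint R) ∈ W := by
    rw [← hcl, ← Scheme.Hom.comp_apply, h4]
    exact hyW
  obtain ⟨q, hq⟩ := Groth.Agent.Lead.DVR.exists_chart hW h' (Groth.Agent.Lead.DVR.range_subset_of_closedPoint h' hc)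
  have e : q ≫ CommRingCat.ofHom R.subtype = b ≫ CommRingCat.ofHom R'.subtype := Groth.Agent.Lead.DVR.chart_ext hW (by
    simp only [Spec.map_comp, Category.assoc]
    rw [hq, hb, h1, hg₁])
  rw [← hq, show q = ψ from CommRingCat.hom_ext (RingHom.ext fun c => Subtype.ext (ConcreteCategory.congr_hom e c))]

end Groth.Agent.S17898
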