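import Groth.Statements.S17909
import Groth.Agent.SymNorm.NormicBC

set_option autoImplicit false
universe u
open scoped TensorProduct
open PolLaw

namespace Groth.Agent.S17909

open Groth.Agent.SymNorm
set_option maxHeartbeats 1000000
/-- Affine-free form, stated through the universal property of the norm module. Let R → R' be a
commutative algebra, free of finite rank as an R-module; let Q be a commutative R-algebra and Q' a
commutative ring under both Q and R' which is their pushout over R; let M' be an R'-module and f :
M' → M'' an R'-linear map into a Q'-module that exhibits M'' as Q' ⊗_{R'} M'. Let (N, ν) be a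
universal normic pair for M' over R (ν a polynomial law M' → N over R with ν(x · m) = norm(x) · ν(m)
over every commutative test ring, through which every normic law factors by a unique linear map) and
(N'', ν'') a universal normic pair for M'' over Q. Then there is an R-linear map u : N → N'' which
is compatible with the two laws over every commutative Q-algebra P, in the sense ν''_P (p ⊗ f m) =
(p ⊗ u)(ν_P (p ⊗ m)), and whose Q-linear extension Q ⊗_R N → N'' is an isomorphism (N'' is the base
change of N along R → Q via u). (The published statements are for the norm modules constructed from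
divided powers, for a finite locally free extension of constant rank; here the extension is free
over an affine base and the norm modules enter through their universal property.) -/
theorem result {R R' Q Q' : Type u} [CommRing R] [CommRing R'] [Algebra R R']
    [CommRing Q] [Algebra R Q] [CommRing Q'] [Algebra R Q'] [Algebra Q Q'] [Algebra R' Q']
    [IsScalarTower R Q Q'] [IsScalarTower R R' Q'] [Algebra.IsPushout R R' Q Q']
    [Module.Free R R'] [Module.Finite R R']
    {M' : Type u} [AddCommGroup M'] [Module R M'] [Module R' M'] [IsScalarTower R R' M']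
    {M'' : Type u} [AddCommGroup M''] [Module R M''] [Module R' M''] [Module Q M''] [Module Q' M'']
    [IsScalarTower R R' M''] [IsScalarTower R Q M''] [IsScalarTower R' Q' M''] [IsScalarTower Q Q' M'']
    (f : M' →ₗ[R'] M'') (hf : IsBaseChange Q' f)
    {N : Type u} [AddCommGroup N] [Module R N] (ν : M' →ₚₗ[R] N) (hν : PolLaw.IsUnivNormic R' ν)
    {N'' : Type u} [AddCommGroup N''] [Module R N''] [Module Q N''] [IsScalarTower R Q N'']
    (ν'' : M'' →ₚₗ[Q] N'') (hν'' : PolLaw.IsUnivNormic Q' ν'') :
    ∃ u : N →ₗ[R] N'',
      (∀ (P : Type u) [CommRing P] [Algebra R P] [Algebra Q P] [IsScalarTower R Q P] (m : P ⊗[R] M'),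
          ν''.toFun' P (PolLaw.bcAlong (f.restrictScalars R) P m) = PolLaw.bcAlong u P (ν.toFun' P m)) ∧
      IsBaseChange Q u := by
  obtain ⟨u, hu, -⟩ := hν.2 N'' (descend (R := R) f ν'') (descend_normic f ν'' hν''.1)
  have hcomp : ∀ (P : Type u) [CommRing P] [Algebra R P] [Algebra Q P] [IsScalarTower R Q P] (m : P ⊗[R] M'),
      ν''.toFun' P (bmap (f.restrictScalars R) P m) = bmap u P (ν.toFun' P m) := by
    intro P _ _ _ _ m
    let ρ : Q ⊗[R] P →ₐ[Q] P :=
      Algebra.TensorProduct.lift (Algebra.ofId Q P) (AlgHom.id R P) (fun _ _ => Commute.all _ _)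
    have hρ1 : (ρ.restrictScalars R).toLinearMap.rTensor M' ((inS (Q := Q) P).toLinearMap.rTensor M' m) = m := by
      induction m using TensorProduct.induction_on with
      | zero => simp
      | tmul t x => simp [inS_apply, ρ]
      | add a b ha hb => simp only [map_add, ha, hb]
    have hρ2 : ∀ y : (Q ⊗[R] P) ⊗[Q] N'',
        ρ.toLinearMap.rTensor N'' y = bmap (LinearMap.id : N'' →ₗ[R] N'') P (kap P N'' y) := by
      intro y
      induction y using TensorProduct.induction_on with
      | zero => simp
      | tmul s n =>
        induction s using TensorProduct.induction_on with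
        | zero => simp
        | tmul q t =>
          rw [kap_tmul, bmap_tmul, LinearMap.rTensor_tmul]
          simp [ρ, Algebra.ofId_apply, ← Algebra.smul_def, TensorProduct.smul_tmul']
        | add a b ha hb => simp only [TensorProduct.add_tmul, map_add, ha, hb]
      | add a b ha hb => simp only [map_add, ha, hb]
    have hμ : kap P N'' (ν''.toFun' _ (bmap (f.restrictScalars R) (Q ⊗[R] P) ((inS (Q := Q) P).toLinearMap.rTensor M' m)))
        = u.lTensor P (ν.toFun' P m) := by
      change (descend (R := R) f ν'').toFun' P m = _
      rw [← hu]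
      rfl
    have h3 := congrArg (bmap (Q := Q) (LinearMap.id : N'' →ₗ[R] N'') P) hμ
    rw [← hρ2, PolynomialLaw.isCompat_apply', bmap_nat, hρ1] at h3
    rw [h3]
    generalize ν.toFun' P m = t
    induction t using TensorProduct.induction_on with
    | zero => simp
    | tmul p n => simp [bmap_tmul]
    | add a b ha hb => simp only [map_add, ha, hb]
  refine ⟨u, hcomp, ?_⟩
  have hfQ : IsBaseChange Q (f.restrictScalars R) := isBaseChange_restrict (Q' := Q') f hf
  refine IsBaseChange.of_lift_unique _ ?_
  intro E hE hRE hQE hT g
  letI : AddCommGroup E := Module.addCommMonoidToAddCommGroup Q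
  obtain ⟨Φ, hΦ, huniq⟩ := hν''.2 E (ascend f ν g hfQ) (ascend_normic (Q' := Q') f ν g hν.1 hfQ)
  have hnormic : ∀ h : N →ₗ[R] E, PolLaw.IsNormic R' (PolLaw.postcomp h ν) := by
    intro h S _ _ x m
    change h.lTensor S (ν.toFun' S (PolLaw.actEnd M' S x m)) = Algebra.norm S x • h.lTensor S (ν.toFun' S m)
    rw [hν.1 S x m]
    exact (h.baseChange S).map_smul _ _
  have hΦu : (Φ.restrictScalars R).comp u = g := by
    obtain ⟨w, -, hw⟩ := hν.2 E (PolLaw.postcomp g ν) (hnormic g)
    refine (hw _ (law_ext fun S _ _ z => ?_)).trans (hw g rfl).symm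
    change ((Φ.restrictScalars R).comp u).lTensor S (ν.toFun' S z) = g.lTensor S (ν.toFun' S z)
    rw [← kap_bmap (Q := Q) S E ((Φ.restrictScalars R).comp u), ← kap_bmap (Q := Q) S E g, PolynomialLaw.isCompat_apply']
    generalize (inS (R := R) (Q := Q) S).toLinearMap.rTensor M' z = y
    have e1 : (ascend f ν g hfQ).toFun' (Q ⊗[R] S) (bmap (f.restrictScalars R) (Q ⊗[R] S) y)
        = Φ.lTensor (Q ⊗[R] S) (ν''.toFun' (Q ⊗[R] S) (bmap (f.restrictScalars R) (Q ⊗[R] S) y)) := by
      rw [← hΦ]; rfl
    rw [hcomp, ascend_apply] at e1
    rw [e1]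
    congr 1
    generalize ν.toFun' (Q ⊗[R] S) _ = t
    induction t using TensorProduct.induction_on with
    | zero => simp
    | tmul p n => simp [bmap_tmul]
    | add a b ha hb => simp only [map_add, ha, hb]
  refine ⟨Φ, hΦu, fun Ψ hΨ => huniq Ψ (law_ext fun P _ _ w => ?_)⟩
  letI : Algebra R P := Algebra.compHom P (algebraMap R Q)
  haveI : IsScalarTower R Q P := IsScalarTower.of_algebraMap_eq' rfl
  obtain ⟨z, rfl⟩ := (bmap_bijective (f.restrictScalars R) P hfQ).2 w
  change Ψ.lTensor P (ν''.toFun' P _) = _
  rw [ascend_apply, hcomp]
  generalize ν.toFun' P z = t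
  induction t using TensorProduct.induction_on with
  | zero => simp
  | tmul p n =>
    have := LinearMap.congr_fun hΨ n
    simp only [LinearMap.comp_apply, LinearMap.restrictScalars_apply] at this
    simp [bmap_tmul, this]
  | add a b ha hb => simp only [map_add, ha, hb]

end Groth.Agent.S17909
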