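import Groth.Statements.S17910
import Groth.Agent.SymNorm.AltInv

set_option autoImplicit false
universe u
open scoped TensorProduct
open SymTen

namespace Groth.Agent.S17910

open Groth.Agent.SymNorm
/-- Let R be a commutative ring, A a commutative R-algebra, d ≥ 0, and P an A-module that is finitely
generated projective (finite locally free) as an R-module. Let the d-fold tensor power of A over R
act on the d-fold tensor power of P over R factor by factor, and let I_d be the R-span of the pure
tensors p_1 ⊗ ⋯ ⊗ p_d with two equal factors p_i = p_j, i ≠ j (the submodule by which the tensor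
power is divided to give the d-th exterior power). Then every symmetric tensor a ∈ TS^d_R(A) maps
I_d into itself, so that TS^d_R(A) acts on the d-th exterior power of P over R. -/
theorem result (R : Type u) [CommRing R] (A : Type u) [CommRing A] [Algebra R A]
    (P : Type u) [AddCommGroup P] [Module R P] [Module A P] [IsScalarTower R A P]
    [Module.Finite R P] [Module.Projective R P] (d : ℕ)
    (a : ⨂[R] _ : Fin d, A) (ha : a ∈ SymTen.TS R A d)
    (x : ⨂[R] _ : Fin d, P) (hx : x ∈ SymTen.altSpan R P d) :
    SymTen.tpowAct R A P d a x ∈ SymTen.altSpan R P d := by
  induction hx using Submodule.span_induction with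
  | mem y hy =>
    obtain ⟨p, i, j, hij, hp, rfl⟩ := hy
    refine invariant_mem_altSpan hij _ ?_
    set τ := Equiv.swap i j with hτ
    have hpτ : ∀ k, p (τ k) = p k := fun k => by
      rw [hτ, Equiv.swap_apply_def]
      split_ifs with h1 h2 <;> simp_all
    have key : ∀ t : ⨂[R] _ : Fin d, A,
        PiTensorProduct.reindex R (fun _ : Fin d => P) τ (SymTen.tpowAct R A P d t (PiTensorProduct.tprod R p))
          = SymTen.tpowAct R A P d (PiTensorProduct.reindex R (fun _ : Fin d => A) τ t) (PiTensorProduct.tprod R p) := by
      intro t
      induction t using PiTensorProduct.induction_on with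
      | smul_tprod r f =>
        rw [map_smul, map_smul, map_smul, LinearMap.smul_apply, LinearMap.smul_apply, map_smul,
          PiTensorProduct.reindex_tprod]
        congr 1
        simp only [SymTen.tpowAct, PiTensorProduct.lift.tprod, MultilinearMap.compLinearMap_apply]
        simp only [PiTensorProduct.mapMultilinear_apply, PiTensorProduct.map_tprod, PiTensorProduct.reindex_tprod]
        congr 1
        funext k
        simp only [AlgHom.toLinearMap_apply, Algebra.lsmul_coe]
        congr 1
        conv_rhs => rw [← hpτ k]
        rw [hτ, Equiv.symm_swap]
      | add a b ha hb => rw [map_add, LinearMap.add_apply, map_add, ha, hb, map_add, map_add, LinearMap.add_apply]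
    rw [key, ha τ]
  | zero => simp
  | add y z _ _ hy hz => rw [map_add]; exact add_mem hy hz
  | smul r y _ hy => rw [map_smul]; exact Submodule.smul_mem _ r hy

end Groth.Agent.S17910
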