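import Groth.Statements.S17914
import Groth.Agent.SymNorm.Det
import Groth.Agent.SymNorm.BC

set_option autoImplicit false
universe u
open scoped TensorProduct
open PolLaw

namespace Groth.Agent.S17914

open Groth.Agent.SymNorm
/-- Affine-free form, stated through universal properties. Let R → R' be a commutative algebra that is
free of rank d as an R-module, Q a commutative R-algebra, and Q' a commutative ring under Q and R'
which is their pushout over R and is free of rank d over Q. Let (C, γ) be the degree-d divided power
algebra of R' over R with its universal multiplicative law (hypothesis: every multiplicative law of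
degree d out of R' factors uniquely through γ) and π : C → R the R-algebra map with π ∘ γ = the norm
law of R' over R; let (C', γ', π') be the analogous data for Q' over Q. Let θ : C → C' be an
R-algebra homomorphism compatible with the two universal laws over every commutative Q-algebra P:
γ'_P applied to the image of z ∈ P ⊗_R R' in P ⊗_Q Q' equals (p ⊗ c ↦ p ⊗ θ c) applied to γ_P(z) (so
θ is the base-change homomorphism of divided power algebras). Then π' (θ c) is the image in Q of π c
for every c ∈ C: the algebra map attached to the norm commutes with base change. (The published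
lemma is for a finite locally free extension of constant rank and states the commutativity of each
of three squares; this row assumes R' free over R and states the commutativity of the composite.) -/
theorem result {R R' Q Q' : Type u} [CommRing R] [CommRing R'] [Algebra R R']
    [CommRing Q] [Algebra R Q] [CommRing Q'] [Algebra R Q'] [Algebra Q Q'] [Algebra R' Q']
    [IsScalarTower R Q Q'] [IsScalarTower R R' Q'] [Algebra.IsPushout R R' Q Q']
    [Module.Free R R'] [Module.Finite R R'] [Module.Free Q Q'] [Module.Finite Q Q']
    (d : ℕ) (hd : Module.finrank R R' = d) (hd' : Module.finrank Q Q' = d)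
    {C : Type u} [CommRing C] [Algebra R C] (γ : PolLaw.MulLaw R R' C d) (hγ : PolLaw.IsGammaD γ)
    (π : C →ₐ[R] R) (hπ : PolLaw.MulLaw.postcomp π γ = PolLaw.normLaw R R' d hd)
    {C' : Type u} [CommRing C'] [Algebra R C'] [Algebra Q C'] [IsScalarTower R Q C']
    (γ' : PolLaw.MulLaw Q Q' C' d) (hγ' : PolLaw.IsGammaD γ')
    (π' : C' →ₐ[Q] Q) (hπ' : PolLaw.MulLaw.postcomp π' γ' = PolLaw.normLaw Q Q' d hd')
    (θ : C →ₐ[R] C')
    (hθ : ∀ (P : Type u) [CommRing P] [Algebra R P] [Algebra Q P] [IsScalarTower R Q P] (z : P ⊗[R] R'),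
      γ'.law.toFun' P (PolLaw.bcAlong (IsScalarTower.toAlgHom R R' Q').toLinearMap P z) =
        PolLaw.bcAlong θ.toLinearMap P (γ.law.toFun' P z)) :
    ∀ c : C, π' (θ c) = algebraMap R Q (π c) := by
  let f1 : C →ₐ[R] Q := (π'.restrictScalars R).comp θ
  let f2 : C →ₐ[R] Q := (Algebra.ofId R Q).comp π
  obtain ⟨f, -, huniq⟩ := hγ Q (PolLaw.MulLaw.postcomp f2 γ)
  have h2 := huniq f2 rfl
  have h1 := huniq f1 (law_ext fun S _ _ z => ?_)
  · intro c
    exact DFunLike.congr_fun (h1.trans h2.symm) c
  let ι : S →ₐ[R] Q ⊗[R] S := Algebra.TensorProduct.includeRight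
  set P := Q ⊗[R] S
  set g := (IsScalarTower.toAlgHom R R' Q').toLinearMap
  let e : S ⊗[R] Q ≃ₐ[R] P := Algebra.TensorProduct.comm R S Q
  apply e.injective
  change e (f1.toLinearMap.lTensor S (γ.law.toFun' S z)) = e (f2.toLinearMap.lTensor S (γ.law.toFun' S z))
  have hπS : π.toLinearMap.lTensor S (γ.law.toFun' S z) = Algebra.norm S z ⊗ₜ[R] (1 : R) := by
    rw [← PolLaw.normLaw_apply R R' d hd S z, ← hπ]
    rfl
  have hr : e (f2.toLinearMap.lTensor S (γ.law.toFun' S z)) = ι (Algebra.norm S z) := by
    change e (((Algebra.ofId R Q).toLinearMap.comp π.toLinearMap).lTensor S (γ.law.toFun' S z)) = _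
    rw [LinearMap.lTensor_comp_apply, hπS]
    simp [e, ι]
    exact Algebra.TensorProduct.comm_tmul R _ _
  have key : ∀ y : S ⊗[R] C, TensorProduct.rid Q P
      (π'.toLinearMap.lTensor P (PolLaw.bcAlong θ.toLinearMap P (ι.toLinearMap.rTensor C y)))
      = e (f1.toLinearMap.lTensor S y) := by
    intro y
    induction y using TensorProduct.induction_on with
    | zero => simp
    | tmul s c =>
      rw [LinearMap.rTensor_tmul, bcAlong_tmul, LinearMap.lTensor_tmul, TensorProduct.rid_tmul]
      simp [e, f1, ι, P, TensorProduct.smul_tmul']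
    | add a b ha hb => simp only [map_add, ha, hb]
  have hπP : ∀ w : P ⊗[Q] Q', TensorProduct.rid Q P (π'.toLinearMap.lTensor P (γ'.law.toFun' P w)) = Algebra.norm P w := by
    intro w
    have : π'.toLinearMap.lTensor P (γ'.law.toFun' P w) = Algebra.norm P w ⊗ₜ[Q] (1 : Q) := by
      rw [← PolLaw.normLaw_apply Q Q' d hd' P w, ← hπ']
      rfl
    rw [this, TensorProduct.rid_tmul, one_smul]
  have hcompat : ι.toLinearMap.rTensor C (γ.law.toFun' S z) = γ.law.toFun' P (ι.toLinearMap.rTensor R' z) :=
    congrFun (γ.law.isCompat' ι) z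
  rw [← key, hcompat, ← hθ, hπP, norm_bcAlong, norm_rTensor, hr]

end Groth.Agent.S17914
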