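import Groth.Statements.S17934
import Groth.Agent.Mult.Basic
-- import your own Groth.Agent.* helpers here

set_option autoImplicit false
universe u
open MultCrv

namespace Groth.Agent.S17934

/-- Let R be a discrete valuation ring, n ≥ 1, A = R[X]/(X^n) with z the class of X, and M a finitely
generated A-module that is torsion-free as an R-module. Then for 1 ≤ i ≤ n the graded piece
M^(i)/M^(i-1) of the second canonical filtration (M^(i) the elements killed by z^i) is a free
R-module. (Statement at a closed point of the sheaf statement on a primitive multiple curve of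
multiplicity n, whose local rings are of the form R[X]/(X^n) with R the local ring of the reduced
smooth curve; stated for every discrete valuation ring R.) -/
theorem result (R : Type u) [CommRing R] [IsDomain R] [IsDiscreteValuationRing R] (n : ℕ) (hn : 1 ≤ n) (M : Type u) [AddCommGroup M] [Module (MultCrv.Rn R n) M] [Module R M] [IsScalarTower R (MultCrv.Rn R n) M] [Module.Finite (MultCrv.Rn R n) M] [Module.IsTorsionFree R M] (i : ℕ) (hi : 1 ≤ i) (hin : i ≤ n) : Module.Free R (MultCrv.G2 R n M i) := by
  haveI := Groth.Agent.Mult.Basic.finite_of_tower (R := R) (n := n) (M := M)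
  haveI : Module.IsTorsionFree R (MultCrv.G2 R n M i) :=
    Groth.Agent.Mult.Basic.torsionFree_of_smul fun r p hr hp => by
      obtain ⟨u, rfl⟩ := Submodule.Quotient.mk_surjective _ p
      rw [← Submodule.Quotient.mk_smul, Submodule.Quotient.mk_eq_zero, Submodule.mem_comap] at hp
      rw [Submodule.Quotient.mk_eq_zero, Submodule.mem_comap]
      have hp' : MultCrv.z R n ^ (i - 1) • r • (u : M) = 0 := hp
      rw [smul_comm] at hp'
      exact Groth.Agent.Mult.Basic.eq_zero_of_smul hr hp'
  haveI : Module.Finite R ↥(MultCrv.filt2 R n M i) :=
    Module.Finite.equiv (LinearEquiv.refl R ↥((MultCrv.filt2 R n M i).restrictScalars R))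
  haveI : Module.Finite R (MultCrv.G2 R n M i) :=
    Module.Finite.of_surjective
      ((Submodule.mkQ (Submodule.comap (MultCrv.filt2 R n M i).subtype
        (MultCrv.filt2 R n M (i - 1)))).restrictScalars R)
      (Submodule.mkQ_surjective (Submodule.comap (MultCrv.filt2 R n M i).subtype
        (MultCrv.filt2 R n M (i - 1))))
  exact Module.free_of_finite_type_torsion_free'

end Groth.Agent.S17934
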