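import Groth.Statements.S17935
import Groth.Agent.Mult.Basic
-- import your own Groth.Agent.* helpers here

set_option autoImplicit false
universe u
open MultCrv

namespace Groth.Agent.S17935

/-- Let R be a discrete valuation ring, n ≥ 1, A = R[X]/(X^n), and M a finitely generated A-module. Then
M is reflexive over A (the evaluation map into the double A-dual is bijective) if and only if M is
torsion-free as an R-module. (Statement at a closed point of the sheaf statement on a primitive
multiple curve of multiplicity n, whose local rings are of the form R[X]/(X^n) with R the local ring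
of the reduced smooth curve, torsion-freeness of a coherent sheaf there meaning no nonzero subsheaf
with finite support; stated for every discrete valuation ring R.) -/
theorem result (R : Type u) [CommRing R] [IsDomain R] [IsDiscreteValuationRing R] (n : ℕ) (hn : 1 ≤ n) (M : Type u) [AddCommGroup M] [Module (MultCrv.Rn R n) M] [Module R M] [IsScalarTower R (MultCrv.Rn R n) M] [Module.Finite (MultCrv.Rn R n) M] : Module.IsReflexive (MultCrv.Rn R n) M ↔ Module.IsTorsionFree R M := by
  open Groth.Agent.Mult.Basic in
  constructor
  · intro h
    refine torsionFree_of_smul fun r m hr hm => ?_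
    apply (Module.bijective_dual_eval (MultCrv.Rn R n) M).1
    rw [map_zero]
    refine LinearMap.ext fun f => ?_
    have h0 : r • f m = 0 := by
      rw [← algebraMap_smul (MultCrv.Rn R n) r (f m), ← map_smul, algebraMap_smul, hm, map_zero]
    haveI : Module.IsTorsionFree R (MultCrv.Rn R n) := inferInstance
    exact eq_zero_of_smul hr h0
  · intro hM
    haveI := finite_of_tower (R := R) (n := n) (M := M)
    haveI := free_of_torsionFree (R := R) (n := n) (M := M)
    refine ⟨⟨?_, ?_⟩⟩
    · rw [injective_iff_map_eq_zero]
      intro m hm
      by_contra hne
      apply hne
      apply (Module.eval_apply_injective R (V := M))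
      rw [map_zero]
      refine LinearMap.ext fun g => ?_
      have := congrArg (fun (D : Module.Dual (MultCrv.Rn R n) (Module.Dual (MultCrv.Rn R n) M)) =>
        τ R n (D (Ψ hn g))) hm
      simpa [τ_Ψ] using this
    · intro D
      let L : Module.Dual R (Module.Dual R M) :=
        { toFun := fun g => τ R n (D (Ψ hn g))
          map_add' := fun g g' => by
            rw [show Ψ hn (g + g') = Ψ hn g + Ψ hn g' from LinearMap.ext fun m => by
              simp [Ψ_apply, add_smul, Finset.sum_add_distrib], map_add, map_add]
          map_smul' := fun c g => by
            rw [show Ψ hn (c • g) = algebraMap R (MultCrv.Rn R n) c • Ψ hn g from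
              LinearMap.ext fun m => by
                rw [LinearMap.smul_apply, algebraMap_smul]
                simp [Ψ_apply, Finset.smul_sum, smul_smul], map_smul, algebraMap_smul, map_smul,
              RingHom.id_apply] }
      obtain ⟨m, hm⟩ := (Module.bijective_dual_eval R M).2 L
      refine ⟨m, LinearMap.ext fun f => ext_τ hn fun c => ?_⟩
      have h1 := LinearMap.congr_fun hm (τ R n ∘ₗ ((c • f).restrictScalars R : M →ₗ[R] MultCrv.Rn R n))
      change τ R n ((c • f) m) = τ R n (D (Ψ hn _)) at h1
      rw [Ψ_τ, map_smul] at h1
      exact h1

end Groth.Agent.S17935
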