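import Groth.Statements.S17968
import Groth.Agent.HensPair.Basic

set_option autoImplicit false
universe u
open Hensel

namespace Groth.Agent.S17968

/-- Let A be a commutative ring and I an ideal contained in the Jacobson radical of A. Suppose that for
every natural number m and every monic polynomial p over A whose reduction modulo I is the reduction
of (T^2 - T)^m, every idempotent of B/IB is the image of an idempotent of B, where B = A[T]/(p).
Then (A, I) is a henselian pair. -/
theorem result (A : Type u) [CommRing A]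
    (I : Ideal A) (hI : I ≤ Ideal.jacobson ⊥)
    (h : ∀ (m : ℕ) (p : Polynomial A), p.Monic →
      Polynomial.map (Ideal.Quotient.mk I) p =
        Polynomial.map (Ideal.Quotient.mk I) ((Polynomial.X ^ 2 - Polynomial.X) ^ m) →
      Set.SurjOn (Ideal.Quotient.mk (Ideal.map (algebraMap A (AdjoinRoot p)) I))
        {e : AdjoinRoot p | IsIdempotentElem e} {e | IsIdempotentElem e}) :
    HenselianRing A I := by
  refine HensPair.Basic.henselian_of_idemFinite hI fun B _ _ hfin b hb => ?_
  obtain ⟨f, hf, -, hfI, hfz⟩ := LinearMap.exists_monic_and_natDegree_eq_and_coeff_mem_pow_and_aeval_eq_zero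
    A (Algebra.lmul A B (b ^ 2 - b)) I (by
      rintro _ ⟨z, rfl⟩
      rw [Ideal.smul_top_eq_map, Submodule.restrictScalars_mem]
      exact Ideal.mul_mem_right _ _ hb)
  have hz : Polynomial.aeval (b ^ 2 - b) f = 0 := by
    have h1 := DFunLike.congr_fun hfz 1
    rw [Polynomial.aeval_algHom_apply, LinearMap.zero_apply] at h1
    simpa only [Algebra.coe_lmul_eq_mul, LinearMap.mul_apply', mul_one] using h1
  have hfm : f.map (Ideal.Quotient.mk I) = Polynomial.X ^ f.natDegree := by
    ext i
    rw [Polynomial.coeff_map, Polynomial.coeff_X_pow]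
    split_ifs with hi
    · subst hi; rw [hf.coeff_natDegree, map_one]
    · rcases Nat.lt_or_ge i f.natDegree with hlt | hge
      · rw [Ideal.Quotient.eq_zero_iff_mem]
        exact Ideal.pow_le_self (by omega) (hfI i)
      · rw [Polynomial.coeff_eq_zero_of_natDegree_lt (by omega), map_zero]
  rcases subsingleton_or_nontrivial A with hA | hA
  · have : Subsingleton B := Module.subsingleton A B
    exact ⟨b, Subsingleton.elim _ _, by rw [sub_self]; exact zero_mem _⟩
  let p := f.comp (Polynomial.X ^ 2 - Polynomial.X)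
  have hq : (Polynomial.X ^ 2 - Polynomial.X : Polynomial A).natDegree = 2 := by
    rw [Polynomial.natDegree_sub_eq_left_of_natDegree_lt] <;> simp
  have hp : p.Monic := hf.comp ((Polynomial.monic_X_pow 2).sub_of_left (by simp)) (by omega)
  let φ : AdjoinRoot p →ₐ[A] B := AdjoinRoot.liftAlgHom p (Algebra.ofId A B) b (by
    show Polynomial.aeval b p = 0
    rw [Polynomial.aeval_comp, map_sub, map_pow, Polynomial.aeval_X, hz])
  let J := I.map (algebraMap A (AdjoinRoot p))
  let ρ := Ideal.Quotient.mk J (AdjoinRoot.root p)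
  have hnil : (ρ ^ 2 - ρ) ^ f.natDegree = 0 := by
    have h1 : Ideal.Quotient.mk J (Polynomial.aeval (AdjoinRoot.root p)
        (p - (Polynomial.X ^ 2 - Polynomial.X) ^ f.natDegree)) = 0 := by
      rw [Ideal.Quotient.eq_zero_iff_mem, Polynomial.aeval_eq_sum_range]
      refine sum_mem fun i _ => ?_
      rw [Algebra.smul_def]
      refine Ideal.mul_mem_right _ _ (Ideal.mem_map_of_mem _ ?_)
      rw [← Ideal.Quotient.eq_zero_iff_mem, ← Polynomial.coeff_map, Polynomial.map_sub,
        Polynomial.map_comp, hfm]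
      simp
    rw [map_sub (Polynomial.aeval _), AdjoinRoot.aeval_eq, AdjoinRoot.mk_self, zero_sub, map_neg,
      neg_eq_zero, map_pow, map_sub, map_pow, Polynomial.aeval_X, map_pow, map_sub, map_pow] at h1
    rw [Polynomial.aeval_X] at h1
    exact h1
  obtain ⟨x, hxe, hxρ⟩ : ∃ x, IsIdempotentElem x ∧ IsNilpotent (x - ρ) := by
    obtain ⟨x, hx, hxρ⟩ := exists_isIdempotentElem_eq_of_ker_isNilpotent
      (Ideal.Quotient.mk (nilradical (AdjoinRoot p ⧸ J))) (fun z hz => by
        rwa [Ideal.mk_ker, mem_nilradical] at hz)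
      (Ideal.Quotient.mk _ ρ) ⟨ρ, rfl⟩ (by
        show _ * _ = _
        rw [← map_mul, Ideal.Quotient.eq, ← sq, mem_nilradical]
        exact ⟨_, hnil⟩)
    exact ⟨x, hx, mem_nilradical.mp (Ideal.Quotient.eq.mp hxρ)⟩
  obtain ⟨e, he, hex⟩ := h f.natDegree p hp (by
    rw [Polynomial.map_comp, hfm, Polynomial.map_pow, Polynomial.map_sub, Polynomial.map_pow,
      Polynomial.map_X]
    simp) hxe
  refine ⟨φ e, IsIdempotentElem.map he φ, ?_⟩
  rw [← Ideal.Quotient.eq]
  let φb : (AdjoinRoot p ⧸ J) →+* B ⧸ I.map (algebraMap A B) := Ideal.quotientMap _ φ.toRingHom (by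
    rw [← Ideal.map_le_iff_le_comap, Ideal.map_map, AlgHom.toRingHom_eq_coe, AlgHom.comp_algebraMap])
  have hbi : IsIdempotentElem (Ideal.Quotient.mk (I.map (algebraMap A B)) b) := by
    show _ * _ = _
    rw [← map_mul, Ideal.Quotient.eq, ← sq]; exact hb
  have hroot : φb ρ = Ideal.Quotient.mk (I.map (algebraMap A B)) b := by
    show Ideal.Quotient.mk _ (φ (AdjoinRoot.root p)) = _
    rw [AdjoinRoot.liftAlgHom_root]
  have h3 : φb x = Ideal.Quotient.mk (I.map (algebraMap A B)) b := by
    refine eq_of_isNilpotent_sub_of_isIdempotentElem (hxe.map φb) hbi ?_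
    rw [← hroot, ← map_sub]
    exact hxρ.map φb
  rw [← h3, ← hex]
  rfl

end Groth.Agent.S17968
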