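import Groth.Statements.S17969
import Mathlib.FieldTheory.Minpoly.Field
import Mathlib.RingTheory.Polynomial.GaussLemma
import Mathlib.RingTheory.AdjoinRoot
import Mathlib.LinearAlgebra.Charpoly.Basic
import Mathlib.RingTheory.Localization.BaseChange

set_option autoImplicit false
universe u
open scoped TensorProduct
open CAlg

namespace Groth.Agent.S17969

/-- Let A be an integrally closed domain with fraction field K and B a commutative A-algebra which is
finite and torsion-free as an A-module and generated as an A-algebra by a single element x. Let P be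
the characteristic polynomial of multiplication by 1 ⊗ x on the finite free K-module K ⊗_A B. Then P
has coefficients in A, namely P is the image of a monic polynomial over A, and the kernel of the
A-algebra map A[T] → B sending T to x is generated by that polynomial, so that B is A[T]/(P). -/
theorem result
    (A : Type u) [CommRing A] [IsDomain A] [IsIntegrallyClosed A]
    (B : Type u) [CommRing B] [Algebra A B] [Module.Finite A B] [NoZeroSMulDivisors A B]
    (x : B) (hx : Algebra.adjoin A {x} = ⊤) :
    ∃ P : Polynomial A, P.Monic ∧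
      Polynomial.map (algebraMap A (FractionRing A)) P =
        (LinearMap.mulLeft (FractionRing A) ((1 : FractionRing A) ⊗ₜ[A] x)).charpoly ∧
      RingHom.ker (Polynomial.aeval x).toRingHom = Ideal.span {P} := by
  classical
  set K := FractionRing A
  set x' : K ⊗[A] B := (1 : K) ⊗ₜ[A] x with hx'
  have hev : ∀ g : Polynomial A,
      Polynomial.aeval x' g = (1 : K) ⊗ₜ[A] (Polynomial.aeval x g) := fun g =>
    Polynomial.aeval_algHom_apply (Algebra.TensorProduct.includeRight : B →ₐ[A] K ⊗[A] B) x g
  have hinj : ∀ b : B, (1 : K) ⊗ₜ[A] b = 0 → b = 0 := by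
    intro b hb
    obtain ⟨s, hs⟩ := (IsLocalizedModule.eq_zero_iff (nonZeroDivisors A)
      (TensorProduct.mk A K B 1)).1 hb
    exact (smul_eq_zero.1 (show (s : A) • b = 0 from hs)).resolve_left
      (nonZeroDivisors.ne_zero s.2)
  have hsurj : Function.Surjective (Polynomial.aeval (R := K) x') := by
    intro z
    induction z using TensorProduct.induction_on with
    | zero => exact ⟨0, map_zero _⟩
    | tmul k b =>
      have hb : b ∈ Algebra.adjoin A {x} := hx ▸ Algebra.mem_top
      rw [Algebra.adjoin_singleton_eq_range_aeval] at hb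
      obtain ⟨g, hg⟩ := hb
      refine ⟨k • g.map (algebraMap A K), ?_⟩
      rw [map_smul, Polynomial.aeval_map_algebraMap, hev, TensorProduct.smul_tmul', smul_eq_mul,
        mul_one]
      exact congrArg _ hg
    | add u v hu hv =>
      obtain ⟨gu, hu⟩ := hu
      obtain ⟨gv, hv⟩ := hv
      exact ⟨gu + gv, by rw [map_add, hu, hv]⟩
  obtain ⟨q, hqm, hq⟩ := IsIntegral.of_finite A x
  have hqx : Polynomial.aeval x' (q.map (algebraMap A K)) = 0 := by
    rw [Polynomial.aeval_map_algebraMap, hev, Polynomial.aeval_def, hq, TensorProduct.tmul_zero]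
  have hint : IsIntegral K x' := ⟨q.map (algebraMap A K), hqm.map _, hqx⟩
  obtain ⟨P, hP⟩ := IsIntegrallyClosed.eq_map_mul_C_of_dvd K hqm (minpoly.dvd K x' hqx)
  rw [(minpoly.monic hint).leadingCoeff, map_one, mul_one] at hP
  have hPm : P.Monic :=
    Polynomial.monic_of_injective (IsFractionRing.injective A K) (hP ▸ minpoly.monic hint)
  refine ⟨P, hPm, ?_, ?_⟩
  · rw [hP]
    have hchar : Polynomial.aeval x' (Algebra.lmul K (K ⊗[A] B) x').charpoly = 0 :=
      Algebra.aeval_self_charpoly_lmul x'
    refine (Polynomial.eq_of_monic_of_dvd_of_natDegree_le (minpoly.monic hint)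
      (LinearMap.charpoly_monic (Algebra.lmul K (K ⊗[A] B) x')) (minpoly.dvd K x' hchar) ?_).symm.trans ?_
    · rw [LinearMap.charpoly_natDegree]
      have e : (Polynomial K ⧸ Ideal.span {minpoly K x'}) ≃ₗ[K] K ⊗[A] B :=
        ((Ideal.quotientEquivAlgOfEq K
          (by rw [← Ideal.submodule_span_eq, ← minpoly.ker_aeval_eq_span_minpoly])).trans
          (Ideal.quotientKerAlgEquivOfSurjective hsurj)).toLinearEquiv
      rw [← e.finrank_eq, finrank_quotient_span_eq_natDegree]
    · rfl
  · refine le_antisymm (fun f hf => ?_) ?_
    · rw [Ideal.mem_span_singleton, ← Polynomial.map_dvd_map _ (IsFractionRing.injective A K) hPm, hP]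
      refine minpoly.dvd K x' ?_
      rw [Polynomial.aeval_map_algebraMap, hev]
      have : Polynomial.aeval x f = 0 := hf
      rw [this, TensorProduct.tmul_zero]
    · rw [Ideal.span_le, Set.singleton_subset_iff]
      refine hinj _ ?_
      show (1 : K) ⊗ₜ[A] (Polynomial.aeval x P) = 0
      rw [← hev, ← Polynomial.aeval_map_algebraMap K, hP, minpoly.aeval]

end Groth.Agent.S17969
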