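import Groth.Statements.S17974
import Mathlib.RingTheory.Unramified.Finite
-- import your own Groth.Agent.* helpers here

set_option autoImplicit false
open TensorProduct
universe u
open Unram

namespace Groth.Agent.S17974

/-- Let A be a commutative ring, B an unramified A-algebra (formally unramified and of finite type), C
an A-algebra, p a prime ideal of C, and u, v : B → C two A-algebra homomorphisms which agree after
composition with C → C/p. Then there is an element f of C not in p such that u and v agree after
composition with the localization map C → C[1/f]. -/
theorem result
    (A : Type u) [CommRing A] (B : Type u) [CommRing B] [Algebra A B]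
    [Algebra.FormallyUnramified A B] [Algebra.FiniteType A B]
    (C : Type u) [CommRing C] [Algebra A C] (p : Ideal C) [p.IsPrime]
    (u v : B →ₐ[A] C)
    (huv : (Ideal.Quotient.mk p).comp u.toRingHom = (Ideal.Quotient.mk p).comp v.toRingHom) :
    ∃ f : C, f ∉ p ∧
      (algebraMap C (Localization.Away f)).comp u.toRingHom =
        (algebraMap C (Localization.Away f)).comp v.toRingHom := by
  obtain ⟨t, ht, ht1⟩ := Algebra.FormallyUnramified.iff_exists_tensorProduct.mp (inferInstance : Algebra.FormallyUnramified A B)
  let w : B ⊗[A] B →ₐ[A] C := Algebra.TensorProduct.lift u v (fun x y => mul_comm _ _)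
  refine ⟨w t, ?_, ?_⟩
  · have key : ∀ z : B ⊗[A] B, Ideal.Quotient.mk p (w z) = Ideal.Quotient.mk p (u (Algebra.TensorProduct.lmul' A z)) := by
      intro z
      induction z with
      | zero => simp
      | tmul a b =>
        have hb : Ideal.Quotient.mk p (u b) = Ideal.Quotient.mk p (v b) := RingHom.congr_fun huv b
        simp [w, hb]
      | add x y hx hy => simp only [map_add, hx, hy]
    intro h
    have := key t
    rw [ht1, map_one, map_one, Ideal.Quotient.eq_zero_iff_mem.mpr h] at this
    exact zero_ne_one this
  · refine RingHom.ext fun b => ?_
    have h := congrArg w (ht b)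
    simp only [map_mul, map_sub, map_zero, w, Algebra.TensorProduct.lift_tmul, map_one, one_mul, mul_one] at h
    have h2 := congrArg (algebraMap C (Localization.Away (w t))) h
    rw [map_mul, map_zero, (IsLocalization.Away.algebraMap_isUnit (S := Localization.Away (w t)) (w t)).mul_left_eq_zero, map_sub, sub_eq_zero] at h2
    exact h2.symm

end Groth.Agent.S17974
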