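import Groth.Statements.S17975
import Mathlib.RingTheory.Nakayama
import Mathlib.RingTheory.AdjoinRoot
import Mathlib.RingTheory.LocalRing.ResidueField.Basic

set_option autoImplicit false
universe u
open Hensel

namespace Groth.Agent.S17975

/-- Let A be a local ring with maximal ideal m and residue field k, C a commutative A-algebra which is
finitely generated as an A-module, Q₀ a monic polynomial of degree n over k, e an A-algebra
isomorphism from C/mC to k[T]/(Q₀), and x an element of C whose class is sent by e to the class of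
T. Then x generates C as an A-algebra, and x is a root of a monic polynomial Q over A of degree n
whose reduction modulo m equals Q₀. -/
theorem result
    (A : Type u) [CommRing A] [IsLocalRing A] (C : Type u) [CommRing C] [Algebra A C] [Module.Finite A C]
    (Q₀ : Polynomial (IsLocalRing.ResidueField A)) (hQ₀ : Q₀.Monic)
    (e : (C ⧸ Ideal.map (algebraMap A C) (IsLocalRing.maximalIdeal A)) ≃ₐ[A] AdjoinRoot Q₀)
    (x : C) (hx : e (Ideal.Quotient.mk (Ideal.map (algebraMap A C) (IsLocalRing.maximalIdeal A)) x) = AdjoinRoot.root Q₀) :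
    Algebra.adjoin A {x} = ⊤ ∧
      ∃ Q : Polynomial A, Q.Monic ∧ Q.natDegree = Q₀.natDegree ∧
        Polynomial.map (IsLocalRing.residue A) Q = Q₀ ∧ Polynomial.aeval x Q = 0 := by
  classical
  let k := IsLocalRing.ResidueField A
  let φ : C →ₐ[A] AdjoinRoot Q₀ := e.toAlgHom.comp (Ideal.Quotient.mkₐ A _)
  have hφ : ∀ p : Polynomial A, φ (Polynomial.aeval x p) =
      AdjoinRoot.mk Q₀ (p.map (IsLocalRing.residue A)) := fun p => by
    rw [← Polynomial.aeval_algHom_apply, show φ x = AdjoinRoot.root Q₀ from hx,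
      ← Polynomial.aeval_map_algebraMap k, AdjoinRoot.aeval_eq, IsLocalRing.ResidueField.algebraMap_eq]
  let S : Submodule A C := Submodule.span A (Set.range fun i : Fin Q₀.natDegree => x ^ (i : ℕ))
  have hmem : ∀ p : Polynomial A, p.degree < Q₀.natDegree → Polynomial.aeval x p ∈ S := fun p hp => by
    rcases eq_or_ne p 0 with rfl | hp0
    · simp
    rw [Polynomial.aeval_eq_sum_range]
    refine sum_mem fun i hi => S.smul_mem _ (Submodule.subset_span ⟨⟨i, ?_⟩, rfl⟩)
    have := (Polynomial.natDegree_lt_iff_degree_lt hp0).mpr hp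
    have := Finset.mem_range.mp hi
    omega
  have hle : (⊤ : Submodule A C) ≤ S ⊔ IsLocalRing.maximalIdeal A • (⊤ : Submodule A C) := by
    intro c _
    obtain ⟨P, hP⟩ := AdjoinRoot.mk_surjective (g := Q₀) (φ c)
    obtain ⟨p, hp, hpd⟩ := Polynomial.mem_lifts_and_degree_eq (f := IsLocalRing.residue A)
      (p := P %ₘ Q₀) ((Polynomial.lifts_iff_coeff_lifts _).mpr fun _ => IsLocalRing.residue_surjective _)
    rw [Ideal.smul_top_eq_map]
    have hk : c - Polynomial.aeval x p ∈ Ideal.map (algebraMap A C) (IsLocalRing.maximalIdeal A) := by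
      rw [← Ideal.Quotient.eq]
      apply e.injective
      show φ c = φ (Polynomial.aeval x p)
      rw [hφ, hp, ← hP]
      exact AdjoinRoot.mk_eq_mk.mpr ⟨P /ₘ Q₀, by
        linear_combination -(Polynomial.modByMonic_add_div P Q₀)⟩
    exact Submodule.mem_sup.mpr ⟨_, hmem p (hpd ▸ (Polynomial.degree_modByMonic_lt P hQ₀).trans_le
      Polynomial.degree_le_natDegree), _, hk, add_sub_cancel _ _⟩
  have htop : S = ⊤ := top_le_iff.mp
    (Submodule.le_of_le_smul_of_le_jacobson_bot Module.Finite.fg_top
      (IsLocalRing.maximalIdeal_le_jacobson _) hle)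
  refine ⟨?_, ?_⟩
  · rw [eq_top_iff]
    intro c _
    have hc : c ∈ S := htop ▸ Submodule.mem_top
    have hS : S ≤ Subalgebra.toSubmodule (Algebra.adjoin A {x}) :=
      Submodule.span_le.mpr (Set.range_subset_iff.mpr fun i =>
        pow_mem (Algebra.self_mem_adjoin_singleton A x) (i : ℕ))
    exact hS hc
  obtain ⟨a, ha⟩ := (Submodule.mem_span_range_iff_exists_fun A).mp
    (htop ▸ Submodule.mem_top : x ^ Q₀.natDegree ∈ S)
  let R : Polynomial A := ∑ i : Fin Q₀.natDegree, Polynomial.C (a i) * Polynomial.X ^ (i : ℕ)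
  have hR : R.degree < Q₀.natDegree := Polynomial.degree_sum_fin_lt _
  have hQ : (Polynomial.X ^ Q₀.natDegree - R).Monic := Polynomial.monic_X_pow_sub hR
  have hd : (Polynomial.X ^ Q₀.natDegree - R).natDegree = Q₀.natDegree := by
    refine Polynomial.natDegree_eq_of_degree_eq_some ?_
    rw [Polynomial.degree_sub_eq_left_of_degree_lt (by rwa [Polynomial.degree_X_pow]),
      Polynomial.degree_X_pow]
  have h0 : Polynomial.aeval x (Polynomial.X ^ Q₀.natDegree - R) = 0 := by
    simp [R, ← ha, Algebra.smul_def]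
  refine ⟨_, hQ, hd, ?_, h0⟩
  refine (Polynomial.eq_of_monic_of_dvd_of_natDegree_le hQ₀ (hQ.map _) ?_ ?_)
  · rw [← AdjoinRoot.mk_eq_zero, ← hφ, h0, map_zero]
  · rw [(hQ).natDegree_map, hd]

end Groth.Agent.S17975
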