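import Groth.Statements.S17977
import Mathlib
import Groth.Agent.Hensel.EssEtale

set_option autoImplicit false
universe u
open EGA4loc

namespace Groth.Agent.S17977

/-- Let A be a local ring, B a local ring which is a local-etale A-algebra, and C a local ring with a
local structure map A → C. Then every A-algebra homomorphism B → C is local. (The source states this
for local ind-etale B, i.e. filtered colimits of local-etale algebras along local maps, and reduces
at once to the local-etale case stated here.) -/
theorem result (A : Type u) [CommRing A] [IsLocalRing A]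
    (B : Type u) [CommRing B] [IsLocalRing B] [Algebra A B] (hB : EGA4loc.IsEssentiallyEtale A B)
    (C : Type u) [CommRing C] [IsLocalRing C] [Algebra A C] [IsLocalHom (algebraMap A C)]
    (φ : B →ₐ[A] C) : IsLocalHom φ.toRingHom := by
  haveI : IsLocalHom (algebraMap A B) := by
    obtain ⟨D, _, _, q, _, _, hq, ⟨e⟩⟩ := hB
    refine ⟨fun a ha => ?_⟩
    have h1 : IsUnit (algebraMap A (Localization.AtPrime q) a) := by
      rw [← e.commutes a]; exact ha.map e
    rw [IsScalarTower.algebraMap_apply A D (Localization.AtPrime q),
      IsLocalization.AtPrime.isUnit_to_map_iff (Localization.AtPrime q) q] at h1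
    by_contra h2
    have h3 : a ∈ IsLocalRing.maximalIdeal A := h2
    rw [← hq] at h3
    exact h1 h3
  have hm := Groth.Agent.Hensel.EssEtale.map_maximalIdeal hB
  have hle : IsLocalRing.maximalIdeal B ≤ (IsLocalRing.maximalIdeal C).comap φ.toRingHom := by
    rw [← hm, Ideal.map_le_iff_le_comap]
    intro a ha
    show φ (algebraMap A B a) ∈ IsLocalRing.maximalIdeal C
    rw [φ.commutes]
    exact fun h => ha (isUnit_of_map_unit (algebraMap A C) a h)
  refine ⟨fun b hb => ?_⟩
  by_contra h2
  exact hle h2 hb

end Groth.Agent.S17977
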