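import Groth.Statements.S17979
import Groth.Agent.Hensel.Idem
import Mathlib.RingTheory.AdjoinRoot

set_option autoImplicit false
universe u
open Hensel

namespace Groth.Agent.S17979

/-- Let A be a local ring with residue field k and Q, R polynomials over A with Q monic. If the images
of Q and R in k[T] generate the unit ideal, then Q and R already generate the unit ideal of A[T]. -/
theorem result (A : Type u) [CommRing A] [IsLocalRing A]
    (Q R : Polynomial A) (hQ : Q.Monic)
    (h : IsCoprime (Polynomial.map (IsLocalRing.residue A) Q) (Polynomial.map (IsLocalRing.residue A) R)) :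
    IsCoprime Q R := by
  obtain ⟨a₀, b₀, hab⟩ := h
  have hsurj := Polynomial.map_surjective (IsLocalRing.residue A) IsLocalRing.residue_surjective
  obtain ⟨a, rfl⟩ := hsurj a₀
  obtain ⟨b, rfl⟩ := hsurj b₀
  have : Module.Finite A (AdjoinRoot Q) := hQ.finite_adjoinRoot
  have hmem : AdjoinRoot.mk Q (a * Q + b * R - 1) ∈ Ideal.jacobson (⊥ : Ideal (AdjoinRoot Q)) := by
    refine Groth.Agent.Hensel.Idem.map_le_jacobson
      (Groth.Agent.Hensel.Idem.maximalIdeal_le_jacobson A) ?_
    have h1 : a * Q + b * R - 1 ∈ Ideal.map Polynomial.C (IsLocalRing.maximalIdeal A) := by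
      rw [← IsLocalRing.ker_residue (R := A), ← Polynomial.ker_mapRingHom, RingHom.mem_ker,
        Polynomial.coe_mapRingHom, Polynomial.map_sub, Polynomial.map_add, Polynomial.map_mul,
        Polynomial.map_mul, hab, Polynomial.map_one, sub_self]
    have h2 := Ideal.mem_map_of_mem (AdjoinRoot.mk Q) h1
    rwa [Ideal.map_map] at h2
  have hu : IsUnit (AdjoinRoot.mk Q (b * R)) := by
    by_contra hnu
    obtain ⟨M, hM, hxM⟩ := exists_max_ideal_of_mem_nonunits hnu
    have h1 := Groth.Agent.Hensel.Idem.mem_of_mem_jacobson hmem M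
    rw [map_sub, map_add, map_mul, AdjoinRoot.mk_self, mul_zero, zero_add, map_one] at h1
    exact hM.ne_top ((Ideal.eq_top_iff_one _).mpr (by simpa using sub_mem hxM h1))
  obtain ⟨c, hc⟩ := hu.exists_left_inv
  obtain ⟨c, rfl⟩ := AdjoinRoot.mk_surjective c
  rw [← map_mul, ← map_one (AdjoinRoot.mk Q), AdjoinRoot.mk_eq_mk] at hc
  obtain ⟨d, hd⟩ := hc
  exact ⟨-d, c * b, by linear_combination hd⟩

end Groth.Agent.S17979
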