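import Groth.Statements.S18015
import Mathlib

set_option autoImplicit false
set_option linter.style.haveILetI false
universe u
open CategoryTheory
open Coh

namespace Groth.Agent.S18015

/-- Let A be a Noetherian commutative ring and F an additive functor from A-modules to A-modules which
is half-exact, i.e. for every short exact sequence 0 → M' → M → M'' → 0 the sequence F(M') → F(M) →
F(M'') is exact at F(M). Then F(M) is a finitely generated A-module for every finitely generated
A-module M if and only if F(A/p) is a finitely generated A-module for every prime ideal p of A. (The
published statement takes F from quasi-coherent sheaves on Spec A to abelian groups, with A acting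
on each F(M) through F; this row allows any additive functor between A-module categories, A-linear
or not, and the same argument applies, since it uses only that each map F(f) is A-linear.) -/
theorem result {A : Type u} [CommRing A] [IsNoetherianRing A]
    (F : ModuleCat.{u} A ⥤ ModuleCat.{u} A) [F.Additive]
    (hF : ∀ S : ShortComplex (ModuleCat.{u} A), S.ShortExact → (S.map F).Exact) :
    (∀ M : ModuleCat.{u} A, Module.Finite A M → Module.Finite A (F.obj M)) ↔
      ∀ p : PrimeSpectrum A, Module.Finite A (F.obj (ModuleCat.of A (A ⧸ p.asIdeal))) := by
  constructor
  · intro h p
    exact h _ (Module.Finite.quotient A p.asIdeal)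
  intro h M₀ hM₀
  suffices H : ∀ (M : Type u) [AddCommGroup M] [Module A M] (_ : Module.Finite A M),
      Module.Finite A (F.obj (ModuleCat.of A M)) from H M₀ hM₀
  intro M _ _ hM
  induction hM using IsNoetherianRing.induction_on_isQuotientEquivQuotientPrime A with
  | subsingleton N =>
    haveI : Subsingleton (F.obj (ModuleCat.of A N)) :=
      ModuleCat.subsingleton_of_isZero (F.map_isZero (ModuleCat.isZero_of_subsingleton _))
    infer_instance
  | quotient N p e =>
    haveI := h p
    exact Module.Finite.equiv (F.mapIso (LinearEquiv.toModuleIso e.symm)).toLinearEquiv
  | exact N₁ N₂ N₃ f g hf hg hfg ih₁ ih₃ =>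
    let S : ShortComplex (ModuleCat.{u} A) := ShortComplex.mk (ModuleCat.ofHom f) (ModuleCat.ofHom g)
      (ModuleCat.hom_ext hfg.linearMap_comp_eq_zero)
    have hS : S.ShortExact :=
      { exact := by
          rw [ShortComplex.moduleCat_exact_iff]
          intro x hx
          exact (hfg x).mp hx
        mono_f := (ModuleCat.mono_iff_injective _).mpr hf
        epi_g := (ModuleCat.epi_iff_surjective _).mpr hg }
    have hE := hF S hS
    have hrk := (ShortComplex.moduleCat_exact_iff_range_eq_ker _).mp hE
    haveI : Module.Finite A (S.map F).X₁ := ih₁
    haveI : Module.Finite A (S.map F).X₃ := ih₃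
    show Module.Finite A (S.map F).X₂
    rw [Module.finite_def]
    refine Submodule.fg_of_fg_map_of_fg_inf_ker (S.map F).g.hom ?_ ?_
    · exact IsNoetherian.noetherian _
    · rw [top_inf_eq, ← hrk, LinearMap.range_eq_map]
      exact Module.Finite.fg_top.map _

end Groth.Agent.S18015
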