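import Groth.Statements.S18019
import Mathlib
-- import your own Groth.Agent.* helpers here

set_option autoImplicit false
universe u
open ClassStk

namespace Groth.Agent.S18019

open Polynomial in
/-- Let R be an integral domain of characteristic 2 and let a be a nonzero element of R, so that x ↦ x +
a defines an R-algebra involution of the polynomial ring R[x] (an action of the group of order two).
A polynomial f is invariant, f(x + a) = f(x), if and only if f belongs to the R-subalgebra generated
by u = x (x + a); in other words the ring of invariants is the polynomial ring R[u]. -/
theorem result (R : Type u) [CommRing R] [IsDomain R]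
    [CharP R 2] (a : R) (ha : a ≠ 0) (f : Polynomial R) :
    f.comp (X + C a) = f ↔ f ∈ Algebra.adjoin R ({X * (X + C a)} : Set (Polynomial R)) := by
  constructor
  · intro hf
    induction hn : f.natDegree using Nat.strong_induction_on generalizing f with
    | _ n IH =>
      by_cases h0 : f.natDegree = 0
      · rw [eq_C_of_natDegree_eq_zero h0]
        exact Subalgebra.algebraMap_mem _ _
      let u : R[X] := X * (X + C a)
      have hu : u.Monic := monic_X.mul (monic_X_add_C a)
      have hud : u.natDegree = 2 := by
        rw [monic_X.natDegree_mul (monic_X_add_C a), natDegree_X, natDegree_X_add_C]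
      have huc : u.comp (X + C a) = u := by
        have : (C a + C a : R[X]) = 0 := by rw [← C_add, CharTwo.add_self_eq_zero, C_0]
        simp only [u, mul_comp, add_comp, X_comp, C_comp]
        linear_combination (X + C a) * this
      have hd := modByMonic_add_div f u
      set q := f /ₘ u
      set r := f %ₘ u
      have hr : r.degree < u.degree := degree_modByMonic_lt f hu
      have h2 : r.comp (X + C a) + u * q.comp (X + C a) = f := by
        conv_rhs => rw [← hf, ← hd]
        rw [add_comp, mul_comp, huc]
      have hdeg : (r.comp (X + C a)).degree < u.degree := by
        rwa [← taylor_apply, degree_taylor]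
      obtain ⟨hq, hr'⟩ := div_modByMonic_unique (q.comp (X + C a)) (r.comp (X + C a)) hu ⟨h2, hdeg⟩
      have hr1 : r.natDegree ≤ 1 := by
        by_cases hr0 : r = 0
        · simp [hr0]
        · have := natDegree_lt_natDegree hr0 hr
          omega
      obtain ⟨c1, c0, hc⟩ := exists_eq_X_add_C_of_natDegree_le_one hr1
      have hc1 : c1 = 0 := by
        have h3 : r.comp (X + C a) = r := hr'.symm
        rw [hc] at h3
        have h4 := congrArg (fun p => coeff p 0) h3
        simp [mul_add] at h4
        exact h4.resolve_right ha
      have hqn : q.natDegree < n := by
        have : q.natDegree = f.natDegree - u.natDegree := natDegree_divByMonic f hu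
        omega
      have hqA := IH _ hqn q hq.symm rfl
      rw [← hd, hc, hc1, C_0, zero_mul, zero_add]
      exact add_mem (Subalgebra.algebraMap_mem _ _) (mul_mem (Algebra.subset_adjoin rfl) hqA)
  · intro hf
    induction hf using Algebra.adjoin_induction with
    | mem x hx =>
      rw [Set.mem_singleton_iff] at hx
      subst hx
      have : (C a + C a : R[X]) = 0 := by rw [← C_add, CharTwo.add_self_eq_zero, C_0]
      simp only [mul_comp, add_comp, X_comp, C_comp]
      linear_combination (X + C a) * this
    | algebraMap r => simp
    | add x y _ _ hx hy => rw [add_comp, hx, hy]
    | mul x y _ _ hx hy => rw [mul_comp, hx, hy]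

end Groth.Agent.S18019
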