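import Groth.Statements.S18049
import Mathlib.Tactic

set_option autoImplicit false
open STCI

namespace Groth.Agent.S18049

/-- For natural numbers 0 < k < N such that k does not divide N, ⌊N/k⌋ ≤ (N - k)/gcd(k, N); stated here
in the equivalent cleared form ⌊N/k⌋ · gcd(k, N) ≤ N - k. -/
theorem result (k N : ℕ) (hk : 0 < k) (hkN : k < N) (hndvd : ¬ k ∣ N) :
    N / k * Nat.gcd k N ≤ N - k := by
  obtain ⟨r, hr⟩ : ∃ r, r = N % k := ⟨_, rfl⟩
  have hN : k * (N / k) + N % k = N := Nat.div_add_mod N k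
  have hr0 : 0 < N % k := Nat.pos_of_ne_zero fun h => hndvd (Nat.dvd_of_mod_eq_zero h)
  have hg : Nat.gcd k N ∣ N % k := (Nat.dvd_mod_iff (Nat.gcd_dvd_left k N)).2 (Nat.gcd_dvd_right k N)
  have hgle : Nat.gcd k N ≤ N % k := Nat.le_of_dvd hr0 hg
  have hrk : N % k < k := Nat.mod_lt _ hk
  have hq : 1 ≤ N / k := Nat.div_pos hkN.le hk
  have h2 : 2 * Nat.gcd k N ≤ k := by
    obtain ⟨c, hc⟩ := Nat.gcd_dvd_left k N
    match c, hc with
    | 0, hc => simp at hc; omega
    | 1, hc => omega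
    | c + 2, hc => nlinarith
  have h3 : N / k * Nat.gcd k N * 2 ≤ N / k * k := by rw [mul_assoc]; gcongr; omega
  rw [Nat.le_sub_iff_add_le hkN.le]
  nlinarith

end Groth.Agent.S18049
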