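import Groth.Statements.S18050
import Mathlib.Data.Nat.GCD.Basic
import Mathlib.Algebra.Order.BigOperators.Group.Finset
import Mathlib.Algebra.BigOperators.Intervals
import Mathlib.Tactic.Linarith

set_option autoImplicit false
open STCI

namespace Groth.Agent.S18050

open W4c5stcicurvesp3 in
/-- Let k ≤ N be positive integers, let t be the least positive integer with rem_t(N, k) = 0, where
rem_0 = k, rem_1 = N mod k and rem_i is the remainder of rem_{i-2} by rem_{i-1} (iterated Euclidean
remainders), and let d_i be the corresponding iterated quotients (d_1 = ⌊N/k⌋, d_i =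
⌊rem_{i-2}/rem_{i-1}⌋). Then d_1 + ⋯ + d_t ≤ N/gcd(k, N); stated in the cleared form (d_1 + ⋯ + d_t)
· gcd(k, N) ≤ N. -/
theorem result (k N t : ℕ) (hk : 0 < k) (hkN : k ≤ N) (ht : 0 < t)
    (hzero : irem N k t = 0) (hmin : ∀ i, 0 < i → i < t → irem N k i ≠ 0) :
    (∑ i ∈ Finset.Icc 1 t, idiv N k i) * Nat.gcd k N ≤ N := by
  let g := Nat.gcd k N
  have hg : 0 < g := Nat.gcd_pos_of_pos_left N hk
  have hdvd : ∀ i, g ∣ irem N k i := by
    intro i
    induction i using Nat.strong_induction_on with
    | _ i ih =>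
      match i with
      | 0 => exact Nat.gcd_dvd_left k N
      | 1 => exact (Nat.dvd_mod_iff (Nat.gcd_dvd_left k N)).2 (Nat.gcd_dvd_right k N)
      | n + 2 =>
        rw [irem]
        split_ifs
        · exact dvd_zero g
        · exact (Nat.dvd_mod_iff (ih (n + 1) (by omega))).2 (ih n (by omega))
  have hge : ∀ i, i < t → g ≤ irem N k i := fun i hi =>
    Nat.le_of_dvd (Nat.pos_of_ne_zero (by
      rcases Nat.eq_zero_or_pos i with rfl | h
      · exact hk.ne'
      · exact hmin i h hi)) (hdvd i)
  have hinv : ∀ j, j < t → (∑ i ∈ Finset.Icc 1 (j + 1), idiv N k i) * g + irem N k j + irem N k (j + 1) ≤ N + g := by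
    intro j
    induction j with
    | zero =>
      intro _
      simp only [zero_add, Finset.Icc_self, Finset.sum_singleton, irem, idiv]
      have h1 := Nat.div_add_mod N k
      have hq : 1 ≤ N / k := (Nat.one_le_div_iff hk).2 hkN
      have hgk : g ≤ k := Nat.le_of_dvd hk (Nat.gcd_dvd_left k N)
      obtain ⟨q, hq'⟩ : ∃ q, N / k = q + 1 := ⟨N / k - 1, by omega⟩
      rw [hq'] at h1 ⊢
      nlinarith
    | succ j ih =>
      intro hj
      have hne : irem N k (j + 1) ≠ 0 := hmin _ (by omega) hj
      have hstep : irem N k (j + 1) * idiv N k (j + 2) + irem N k (j + 2) = irem N k j := by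
        rw [irem.eq_3, idiv.eq_3, if_neg hne, if_neg hne]
        exact Nat.div_add_mod _ _
      have h2 := ih (by omega)
      have h3 := hge (j + 1) hj
      rw [Finset.sum_Icc_succ_top (by omega : 1 ≤ j + 1 + 1)]
      have h4 : g * idiv N k (j + 2) ≤ irem N k (j + 1) * idiv N k (j + 2) := Nat.mul_le_mul_right _ h3
      show ((∑ i ∈ Finset.Icc 1 (j + 1), idiv N k i) + idiv N k (j + 2)) * g + irem N k (j + 1) + irem N k (j + 2) ≤ N + g
      nlinarith
  obtain ⟨u, rfl⟩ : ∃ u, t = u + 1 := ⟨t - 1, by omega⟩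
  have h1 := hinv u (by omega)
  have h2 := hge u (by omega)
  rw [hzero] at h1
  show (∑ i ∈ Finset.Icc 1 (u + 1), idiv N k i) * g ≤ N
  omega

end Groth.Agent.S18050
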