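import Groth.Statements.S18053
import Mathlib.Analysis.SpecificLimits.Basic
import Mathlib.Topology.Algebra.InfiniteSum.Basic
import Mathlib.Tactic.Linarith
import Mathlib.Algebra.BigOperators.Field

set_option autoImplicit false
open STCI

namespace Groth.Agent.S18053

theorem wk (k : ℝ) (hk : 0 ≤ k) : (20 : ℝ) ≤ (k + 3 + 1) * (k + 3 + 2) := by nlinarith

theorem bnd (p : ℕ → ℕ) : ∑ k ∈ Finset.range 20, (p k : ℝ) / (((k : ℝ) + 1) * ((k : ℝ) + 2)) ≤
    (p 0 : ℝ) / 2 + (p 1 : ℝ) / 6 + (p 2 : ℝ) / 12 + ((∑ k ∈ Finset.range 17, p (k + 3) : ℕ) : ℝ) / 20 := by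
  have e : ∀ (M : ℕ) (g : ℕ → ℝ), ∑ k ∈ Finset.range (M + 3), g k = g 0 + g 1 + g 2 + ∑ k ∈ Finset.range M, g (k + 3) := fun M g => by
    rw [Finset.sum_range_succ', Finset.sum_range_succ', Finset.sum_range_succ']
    ring
  refine (e 17 (fun k => (p k : ℝ) / (((k : ℝ) + 1) * ((k : ℝ) + 2)))).le.trans ?_
  rw [Nat.cast_sum, Finset.sum_div]
  refine add_le_add (le_of_eq (by norm_num)) (Finset.sum_le_sum fun k _ => ?_)
  push_cast
  exact div_le_div_of_nonneg_left (Nat.cast_nonneg _) (by norm_num) (wk k (Nat.cast_nonneg k))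


/-- Let (p_k)_{k ≥ 1} be a sequence of nonnegative integers and n a nonnegative integer such that (i)
p_1 ≤ 9 - (2/5)n, (ii) p_1 ≥ p_2 ≥ p_3 ≥ ⋯, (iii) Σ_k p_k ≤ 19 - n, and (iv) n/4 + Σ_{k ≥ 1}
p_k/(k(k+1)) ≥ 6. Then n = 0 and (p_k) is one of (9, 8, 2), (9, 9), (9, 9, 1) (followed by zeros).
Here the sequence is indexed from 0 (so p 0 is p_1 and the weight of p k is 1/((k+1)(k+2))), (iii)
is stated for every partial sum, and the series in (iv) is the real sum Σ' over all k. -/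
theorem result (p : ℕ → ℕ) (n : ℕ)
    (h1 : (p 0 : ℝ) ≤ 9 - (2 / 5 : ℝ) * n) (h2 : Antitone p)
    (h3 : ∀ m : ℕ, ((∑ k ∈ Finset.range m, p k : ℕ) : ℝ) ≤ 19 - (n : ℝ))
    (h4 : (6 : ℝ) ≤ (n : ℝ) / 4 + ∑' k : ℕ, (p k : ℝ) / (((k : ℝ) + 1) * ((k : ℝ) + 2))) :
    n = 0 ∧ (p = (fun k => if k = 0 then 9 else if k = 1 then 8 else if k = 2 then 2 else 0)
      ∨ p = (fun k => if k = 0 then 9 else if k = 1 then 9 else 0)
      ∨ p = (fun k => if k = 0 then 9 else if k = 1 then 9 else if k = 2 then 1 else 0)) := by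
  have hs : ∀ m, (∑ k ∈ Finset.range m, p k) + n ≤ 19 := fun m => by
    have h := h3 m
    have : (((∑ k ∈ Finset.range m, p k) + n : ℕ) : ℝ) ≤ ((19 : ℕ) : ℝ) := by push_cast at h ⊢; linarith
    exact_mod_cast this
  have hz : ∀ k, 20 ≤ k → p k = 0 := fun k hk => by
    by_contra h
    have h' := hs 20
    have : ∑ _i ∈ Finset.range 20, 1 ≤ ∑ i ∈ Finset.range 20, p i := Finset.sum_le_sum fun i hi =>
      (Nat.one_le_iff_ne_zero.2 h).trans (h2 (by have := Finset.mem_range.1 hi; omega))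
    simp at this
    omega
  rw [tsum_eq_sum (s := Finset.range 20) (fun k hk => by rw [hz k (by simpa using hk)]; simp)] at h4
  let T := ∑ k ∈ Finset.range 17, p (k + 3)
  have hT : ∑ k ∈ Finset.range 20, p k = p 0 + p 1 + p 2 + T := by
    simp only [T, Finset.sum_range_succ', show (20 : ℕ) = 17 + 1 + 1 + 1 from rfl]
    ring
  have hb := bnd p
  rw [show ∑ k ∈ Finset.range 17, p (k + 3) = T from rfl] at hb
  generalize (∑ k ∈ Finset.range 20, (p k : ℝ) / (((k : ℝ) + 1) * ((k : ℝ) + 2))) = Q at hb h4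
  have hkey : 360 ≤ 30 * p 0 + 10 * p 1 + 5 * p 2 + 3 * T + 15 * n := by
    have : ((360 : ℕ) : ℝ) ≤ ((30 * p 0 + 10 * p 1 + 5 * p 2 + 3 * T + 15 * n : ℕ) : ℝ) := by push_cast; linarith
    exact_mod_cast this
  have hp0 : 5 * p 0 + 2 * n ≤ 45 := by
    have : ((5 * p 0 + 2 * n : ℕ) : ℝ) ≤ ((45 : ℕ) : ℝ) := by push_cast; linarith
    exact_mod_cast this
  have h20 := hs 20
  have e10 := h2 (show 0 ≤ 1 by omega)
  have e21 := h2 (show 1 ≤ 2 by omega)
  refine ⟨by omega, ?_⟩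
  have hT3 : ∀ k, 3 ≤ k → p k ≤ T := fun k hk => by
    rcases lt_or_ge k 20 with h | h
    · calc p k = p (k - 3 + 3) := by rw [Nat.sub_add_cancel hk]
        _ ≤ T := Finset.single_le_sum (f := fun i => p (i + 3)) (fun i _ => Nat.zero_le _) (Finset.mem_range.2 (by omega))
    · rw [hz k h]; exact Nat.zero_le _
  have e32 : p 2 = 0 → ∀ k, 3 ≤ k → p k = 0 := fun h k hk => Nat.le_zero.1 (h ▸ h2 (show 2 ≤ k by omega))
  rcases (show (p 0 = 9 ∧ p 1 = 8 ∧ p 2 = 2 ∧ T = 0) ∨ (p 0 = 9 ∧ p 1 = 9 ∧ p 2 = 0) ∨ (p 0 = 9 ∧ p 1 = 9 ∧ p 2 = 1 ∧ T = 0) by omega) with ⟨a, b, c, e⟩ | ⟨a, b, c⟩ | ⟨a, b, c, e⟩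
  · left
    funext k
    rcases k with _ | _ | _ | k <;> simp_all
  · right; left
    funext k
    rcases k with _ | _ | _ | k <;> simp_all
  · right; right
    funext k
    rcases k with _ | _ | _ | k <;> simp_all

end Groth.Agent.S18053
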