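import Groth.Statements.S18054
import Mathlib.Tactic.Linarith
import Mathlib.Tactic.IntervalCases

set_option autoImplicit false
open STCI

namespace Groth.Agent.S18054

/-- Let s, t, d, g be integers with t ≥ s ≥ 4, d ≥ 1, g ≥ 0 and d dividing st; put n = st/d and assume n
≥ 2; put r = d[n(s - 4) + t] + (2 - 2g)n and assume r ≤ (s/3)(2s² - 6s + 7) - 1. Then d ≤ g + 3.
(The bound is written cleared of the denominator 3; s(2s² - 6s + 7) is always divisible by 3, so
this is the same condition.) -/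
theorem result (s t d g n : ℤ) (hs : 4 ≤ s) (hst : s ≤ t) (hd : 1 ≤ d) (hg : 0 ≤ g)
    (hn : s * t = d * n) (hn2 : 2 ≤ n)
    (hr : 3 * (d * (n * (s - 4) + t) + (2 - 2 * g) * n) ≤ s * (2 * s ^ 2 - 6 * s + 7) - 3) :
    d ≤ g + 3 := by
  by_contra hc
  have hd4 : 4 ≤ d := by omega
  have hE : 3 * (t * (s ^ 2 - 6 * s) + d * t + 10 * n) ≤ s * (2 * s ^ 2 - 6 * s + 7) - 3 := by
    nlinarith [mul_le_mul_of_nonneg_right (show 10 - 2 * d ≤ 2 - 2 * g by omega) (show (0:ℤ) ≤ n by omega)]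
  have hmain : 3 * (t * (d ^ 2 + (s ^ 2 - 6 * s) * d + 10 * s)) ≤ d * (s * (2 * s ^ 2 - 6 * s + 7) - 3) := by
    nlinarith [mul_le_mul_of_nonneg_left hE (show (0:ℤ) ≤ d by omega)]
  rcases (show s = 4 ∨ 5 ≤ s by omega) with rfl | hs5
  · have hpos : 0 ≤ d ^ 2 + ((4:ℤ) ^ 2 - 6 * 4) * d + 10 * 4 := by nlinarith [sq_nonneg (d - 4)]
    have h' := mul_le_mul_of_nonneg_right hst hpos
    have hd5 : 6 ≤ d := by nlinarith
    have hd7 : d ≤ 7 := by nlinarith
    interval_cases d <;> omega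
  · have hf : 0 < 3 * s * d ^ 2 + d * (s ^ 3 - 12 * s ^ 2 - 7 * s + 3) + 30 * s ^ 2 := by
      rcases (show s ≤ 12 ∨ 13 ≤ s by omega) with h | h
      · interval_cases s <;> nlinarith [sq_nonneg (d - 6), sq_nonneg (d - 7), sq_nonneg (d - 5), sq_nonneg (d - 9)]
      · have : 0 ≤ s ^ 3 - 12 * s ^ 2 - 7 * s + 3 := by nlinarith
        nlinarith [mul_nonneg (show (0:ℤ) ≤ d by omega) this]
    have hpos : 0 ≤ d ^ 2 + (s ^ 2 - 6 * s) * d + 10 * s := by
      rcases (show s ≤ 5 ∨ 6 ≤ s by omega) with h | h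
      · have : s = 5 := by omega
        subst this
        nlinarith [sq_nonneg (d - 3)]
      · have : 0 ≤ s ^ 2 - 6 * s := by nlinarith
        nlinarith [mul_nonneg (show (0:ℤ) ≤ d by omega) this]
    nlinarith [mul_le_mul_of_nonneg_right hst hpos]

end Groth.Agent.S18054
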