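import Groth.Statements.S18055
import Mathlib.Tactic.Linarith
import Mathlib.Tactic.Ring
import Mathlib.Tactic.LinearCombination
import Mathlib.Tactic.Positivity
import Mathlib.Algebra.Order.Ring.Int

set_option autoImplicit false
open STCI

namespace Groth.Agent.S18055

/-- Let d ≥ 1, g ≥ 0 and 1 ≤ s ≤ t be integers with d dividing st, put n = st/d and r = d[n(s - 4) + t]
+ (2 - 2g)n, and assume n ≥ 2, r > 0 and (n - 1) divides r. Then s < 2d² and t < 2d⁴. This is the
statement about the degree data (d, g the degree and genus of the curve, s ≤ t the degrees of the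
two surfaces) to which the published proof reduces the degree bound: there the divisibility and
positivity express that r/(n - 1), the common value of the type numbers of the pair, is a positive
integer; the geometric hypotheses themselves are not part of this row. -/
theorem result (d g s t n : ℤ) (hd : 1 ≤ d) (hg : 0 ≤ g) (hs : 1 ≤ s) (hst : s ≤ t)
    (hn : s * t = d * n) (hn2 : 2 ≤ n)
    (hpos : 0 < d * (n * (s - 4) + t) + (2 - 2 * g) * n)
    (hdvd : (n - 1) ∣ d * (n * (s - 4) + t) + (2 - 2 * g) * n) :
    s < 2 * d ^ 2 ∧ t < 2 * d ^ 4 := by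
  set A := d * (s - 4) + (2 - 2 * g) with hA
  have hr : d * (n * (s - 4) + t) + (2 - 2 * g) * n = n * A + d * t := by rw [hA]; ring
  rw [hr] at hpos hdvd
  have hdt : 0 < d * t := mul_pos (by linarith) (by linarith)
  have h1 : n - 1 ∣ A + d * t := by
    have h := Int.dvd_sub hdvd (dvd_mul_right (n - 1) A)
    rwa [show n * A + d * t - (n - 1) * A = A + d * t by ring] at h
  have h1pos : 0 < A + d * t := by
    rcases le_or_gt 0 A with h | h
    · linarith
    · nlinarith
  have h2 : n - 1 ∣ s * A + d ^ 2 := by
    have h := Int.dvd_sub (h1.mul_left s) (dvd_mul_right (n - 1) (d ^ 2))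
    rwa [show s * (A + d * t) - (n - 1) * d ^ 2 = s * A + d ^ 2 by linear_combination d * hn] at h
  have h2pos : 0 < s * A + d ^ 2 := by
    have : 0 < n * (s * A + d ^ 2) := by
      rw [show n * (s * A + d ^ 2) = s * (n * A + d * t) by linear_combination -d * hn]
      positivity
    exact (mul_pos_iff_of_pos_left (by linarith)).1 this
  have b1 := Int.le_of_dvd h1pos h1
  have b2 := Int.le_of_dvd h2pos h2
  have hA' : A ≤ d * (s - 4) + 2 := by rw [hA]; linarith
  have hs2 : s < 2 * d ^ 2 := by
    by_contra hcon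
    have e1 : d * n ≤ d * (d * (s - 4) + 2 + d * t + 1) :=
      mul_le_mul_of_nonneg_left (by linarith) (by linarith)
    rw [← hn] at e1
    nlinarith [mul_le_mul_of_nonneg_right (not_lt.1 hcon) (show (0:ℤ) ≤ t by linarith),
      mul_le_mul_of_nonneg_left hst (sq_nonneg d)]
  refine ⟨hs2, ?_⟩
  have e2 : d * n ≤ d * (s * (d * (s - 4) + 2) + d ^ 2 + 1) := by
    refine mul_le_mul_of_nonneg_left ?_ (by linarith)
    nlinarith
  rw [← hn] at e2
  by_contra hcon
  have e3 := mul_le_mul_of_nonneg_left (not_lt.1 hcon) (show (0:ℤ) ≤ s by linarith)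
  nlinarith [mul_nonneg (show (0:ℤ) ≤ s - 1 by linarith) (show (0:ℤ) ≤ 2 * d ^ 2 - 1 - s by linarith),
    sq_nonneg d, sq_nonneg (d - 1), mul_pos (show (0:ℤ) < d by linarith) (show (0:ℤ) < d by linarith)]

end Groth.Agent.S18055
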