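import Groth.Statements.S18056
import Groth.Agent.WQ8.CoeffField
import Groth.Agent.Misc9.ArtinFam
import Mathlib.RingTheory.Length
import Mathlib.RingTheory.Ideal.Cotangent
import Mathlib.Algebra.DualNumber
import Mathlib.RingTheory.Smooth.Basic
import Mathlib.RingTheory.Flat.Basic
import Mathlib.LinearAlgebra.Dual.Lemmas
import Mathlib.RingTheory.HopkinsLevitzki

set_option autoImplicit false
universe u v
open STCI

namespace Groth.Agent.S18056

open IsLocalRing TensorProduct

theorem hom_bot_ext {k : Type*} [Field k] {T : Type*} [CommRing T] [Nontrivial T]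
    (f g : (⊥ : Subfield k) →+* T) : f = g := by
  ext x
  have h := (bot_le : (⊥ : Subfield k) ≤ (f.eqLocusField g).map (Subfield.subtype _)) x.2
  obtain ⟨y, hy, he⟩ := h
  obtain rfl : y = x := Subtype.ext he
  exact hy

open Polynomial in
theorem maximalIdeal_map_eq (A : Type u) (B : Type v) [CommRing A] [CommRing B]
    [IsLocalRing A] [IsLocalRing B] [IsArtinianRing A] [IsArtinianRing B] [Algebra A B]
    [Algebra.FormallySmooth A B] :
    (maximalIdeal A).map (algebraMap A B) = maximalIdeal B := by
  set I := (maximalIdeal A).map (algebraMap A B) with hI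
  have hAn : IsNilpotent (maximalIdeal A) := (isArtinianRing_iff_isNilpotent_maximalIdeal A).mp inferInstance
  have hIle : I ≤ maximalIdeal B := by
    obtain ⟨a, ha⟩ := hAn
    rw [hI, Ideal.map_le_iff_le_comap]
    intro y hy
    have hy0 : y ^ a = 0 := by simpa [ha] using Ideal.pow_mem_pow hy a
    exact (maximalIdeal.isMaximal B).isPrime.mem_of_pow_mem a (by rw [← map_pow, hy0, map_zero]; exact zero_mem _)
  by_contra hne
  haveI : Nontrivial (B ⧸ I) := Ideal.Quotient.nontrivial_iff.mpr (ne_top_of_le_ne_top (maximalIdeal.isMaximal B).ne_top hIle)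
  haveI : IsLocalRing (B ⧸ I) := IsLocalRing.of_surjective' (Ideal.Quotient.mk I) Ideal.Quotient.mk_surjective
  haveI : IsLocalHom (Ideal.Quotient.mk I) := IsLocalHom.of_surjective _ Ideal.Quotient.mk_surjective
  let kB : ResidueField A →+* B ⧸ I := Ideal.Quotient.lift (maximalIdeal A) ((Ideal.Quotient.mk I).comp (algebraMap A B))
    (fun a ha => Ideal.Quotient.eq_zero_iff_mem.2 (Ideal.mem_map_of_mem _ ha))
  let kL : ResidueField A →+* ResidueField (B ⧸ I) := (residue (B ⧸ I)).comp kB
  -- the coefficient field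
  let F' : Subfield (ResidueField (B ⧸ I)) := ⊥
  haveI : PerfectField F' := Groth.Agent.WQ8.perfectField_bot _
  haveI := Groth.Agent.WQ8.formallySmooth_of_perfect F' (ResidueField (B ⧸ I))
  let j : F' →+* ResidueField A :=
    (RingEquiv.ofBijective kL.rangeRestrictField ⟨fun a b h => kL.injective (congrArg Subtype.val h), kL.rangeRestrictField_bijective.2⟩).symm.toRingHom.comp (Subfield.inclusion bot_le)
  letI : Algebra F' (B ⧸ I) := (kB.comp j).toAlgebra
  have hres : ∀ x : F', residue (B ⧸ I) (algebraMap F' (B ⧸ I) x) = algebraMap F' (ResidueField (B ⧸ I)) x :=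
    fun x => RingHom.congr_fun (hom_bot_ext ((residue (B ⧸ I)).comp (kB.comp j)) (algebraMap F' _)) x
  let resA : (B ⧸ I) →ₐ[F'] ResidueField (B ⧸ I) := { residue (B ⧸ I) with commutes' := hres }
  have hBn : IsNilpotent (maximalIdeal (B ⧸ I)) := (isArtinianRing_iff_isNilpotent_maximalIdeal (B ⧸ I)).mp inferInstance
  have hk : IsNilpotent (RingHom.ker resA.toRingHom) := by
    change IsNilpotent (RingHom.ker (residue (B ⧸ I)))
    rwa [IsLocalRing.ker_residue]
  let σ := Algebra.FormallySmooth.liftOfSurjective (AlgHom.id F' _) resA Ideal.Quotient.mk_surjective hk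
  have hσ : ∀ l, residue (B ⧸ I) (σ l) = l := fun l =>
    DFunLike.congr_fun (Algebra.FormallySmooth.comp_liftOfSurjective (AlgHom.id F' _) resA Ideal.Quotient.mk_surjective hk) l
  -- a nonzero functional on the cotangent space
  have hnf : ¬ IsField (B ⧸ I) := fun hf => by
    haveI := Ideal.Quotient.maximal_of_isField I hf
    exact hne (IsLocalRing.eq_maximalIdeal this)
  have hcot : Nontrivial (CotangentSpace (B ⧸ I)) := by
    rw [← not_subsingleton_iff_nontrivial, IsLocalRing.subsingleton_cotangentSpace_iff]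
    exact hnf
  obtain ⟨v, hv⟩ := exists_ne (0 : CotangentSpace (B ⧸ I))
  obtain ⟨ℓ0, hℓ0⟩ : ∃ ℓ : Module.Dual (ResidueField (B ⧸ I)) (CotangentSpace (B ⧸ I)), ℓ v ≠ 0 := by
    by_contra h; push Not at h
    exact hv ((Module.forall_dual_apply_eq_zero_iff _ v).1 h)
  let ℓ := (ℓ0 v)⁻¹ • ℓ0
  have hℓ : ℓ v = 1 := by simp [ℓ, hℓ0]
  have hm : ∀ y : B ⧸ I, y - σ (residue _ y) ∈ maximalIdeal (B ⧸ I) := fun y => by
    rw [← IsLocalRing.residue_eq_zero_iff, map_sub, hσ, sub_self]
  let d : (B ⧸ I) → ResidueField (B ⧸ I) := fun y => ℓ ((maximalIdeal (B ⧸ I)).toCotangent ⟨_, hm y⟩)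
  have dadd : ∀ y z, d (y + z) = d y + d z := fun y z => by
    simp only [d, ← map_add]
    congr 2; ext; simp only [map_add, Submodule.coe_add]; ring
  have dmul : ∀ y z, d (y * z) = residue _ y * d z + residue _ z * d y := fun y z => by
    have h2 : (maximalIdeal (B ⧸ I)).toCotangent ⟨_, hm (y * z)⟩ =
        (maximalIdeal (B ⧸ I)).toCotangent (σ (residue _ y) • ⟨_, hm z⟩ + σ (residue _ z) • ⟨_, hm y⟩) := by
      rw [Ideal.toCotangent_eq, sq]
      convert Ideal.mul_mem_mul (hm y) (hm z) using 1
      simp only [Submodule.coe_add, Submodule.coe_smul_of_tower, smul_eq_mul, map_mul]; ring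
    simp only [d, h2, map_add, map_smul]
    rw [← algebraMap_smul (ResidueField (B ⧸ I)) (σ (residue _ y)), ← algebraMap_smul (ResidueField (B ⧸ I)) (σ (residue _ z)),
      map_smul, map_smul, ResidueField.algebraMap_eq, hσ, hσ, smul_eq_mul, smul_eq_mul]
  have d1 : d 1 = 0 := by simpa using dmul 1 1
  have d0 : d 0 = 0 := by simpa using dadd 0 0
  let ψ : (B ⧸ I) →+* DualNumber (ResidueField (B ⧸ I)) :=
    { toFun := fun y => TrivSqZeroExt.inl (residue _ y) + TrivSqZeroExt.inr (d y)
      map_one' := by ext <;> simp [d1]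
      map_zero' := by ext <;> simp [d0]
      map_add' := fun y z => by ext <;> simp [dadd]
      map_mul' := fun y z => by
        ext
        · simp
        · simp [dmul]; ring }
  obtain ⟨⟨x, hx⟩, hxv⟩ := Ideal.toCotangent_surjective (maximalIdeal (B ⧸ I)) v
  have hdx : d x = 1 := by
    have h0 : residue (B ⧸ I) x = 0 := (IsLocalRing.residue_eq_zero_iff x).2 hx
    simp only [d, h0, map_zero, sub_zero]
    rw [hxv, hℓ]
  obtain ⟨xB, hxB⟩ := Ideal.Quotient.mk_surjective x
  have hxBm : xB ∈ maximalIdeal B := by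
    rw [IsLocalRing.mem_maximalIdeal, mem_nonunits_iff]
    intro hu
    exact (IsLocalRing.mem_maximalIdeal x).1 hx (hxB ▸ hu.map _)
  obtain ⟨n, hn⟩ := (isArtinianRing_iff_isNilpotent_maximalIdeal B).mp inferInstance
  have hxn : xB ^ n = 0 := by simpa [hn] using Ideal.pow_mem_pow hxBm n
  -- truncated polynomials
  let J : Ideal (ResidueField (B ⧸ I))[X] := Ideal.span {X ^ (n + 2)}
  let π : (ResidueField (B ⧸ I))[X] ⧸ J →+* DualNumber (ResidueField (B ⧸ I)) :=
    Ideal.Quotient.lift J (Polynomial.aeval (DualNumber.eps : DualNumber (ResidueField (B ⧸ I)))).toRingHom (fun f hf => by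
      obtain ⟨q, rfl⟩ := Ideal.mem_span_singleton.1 hf
      simp [pow_add, DualNumber.eps_mul_eps, sq])
  have hπ : ∀ f : (ResidueField (B ⧸ I))[X], π (Ideal.Quotient.mk J f) = TrivSqZeroExt.inl (f.coeff 0) + TrivSqZeroExt.inr (f.coeff 1) := by
    intro f
    change Polynomial.aeval (DualNumber.eps : DualNumber (ResidueField (B ⧸ I))) f = _
    induction f using Polynomial.induction_on with
    | C a => ext <;> simp [TrivSqZeroExt.algebraMap_eq_inl]
    | add f g hf hg => rw [map_add, hf, hg]; ext <;> simp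
    | monomial i a _ =>
      rcases i with _ | i
      · ext <;> simp [TrivSqZeroExt.algebraMap_eq_inl]
      · ext
        · simp [pow_succ, mul_assoc, DualNumber.eps_mul_eps, TrivSqZeroExt.algebraMap_eq_inl, coeff_X_pow]
        · simp [pow_succ, mul_assoc, DualNumber.eps_mul_eps, TrivSqZeroExt.algebraMap_eq_inl, coeff_X_pow]
          right; rw [← mul_assoc, show (1 : ℕ) = 0 + 1 from rfl, coeff_mul_X]; simp
  have hπs : Function.Surjective π := fun c =>
    ⟨Ideal.Quotient.mk J (C c.fst + C c.snd * X), by rw [hπ]; ext <;> simp⟩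
  have hπk : IsNilpotent (RingHom.ker π) := by
    refine ⟨n + 2, ?_⟩
    rw [Ideal.zero_eq_bot, eq_bot_iff]
    have hle : RingHom.ker π ≤ Ideal.span {Ideal.Quotient.mk J X} := by
      intro f hf
      obtain ⟨f, rfl⟩ := Ideal.Quotient.mk_surjective f
      rw [RingHom.mem_ker, hπ] at hf
      have h0 := congrArg TrivSqZeroExt.fst hf
      simp at h0
      obtain ⟨q, rfl⟩ := X_dvd_iff.2 h0
      exact Ideal.mem_span_singleton.2 ⟨Ideal.Quotient.mk J q, by rw [map_mul]⟩
    refine (Ideal.pow_right_mono hle _).trans ?_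
    rw [Ideal.span_singleton_pow, Ideal.span_le, Set.singleton_subset_iff, SetLike.mem_coe, Ideal.mem_bot, ← map_pow,
      Ideal.Quotient.eq_zero_iff_mem]
    exact Ideal.mem_span_singleton_self _
  -- lift the residue field of `A`
  let F : Subfield (ResidueField A) := ⊥
  haveI : PerfectField F := Groth.Agent.WQ8.perfectField_bot _
  haveI := Groth.Agent.WQ8.formallySmooth_of_perfect F (ResidueField A)
  let c0 : F →+* (ResidueField (B ⧸ I))[X] ⧸ J := ((Ideal.Quotient.mk J).comp C).comp (kL.comp F.subtype)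
  letI : Algebra F ((ResidueField (B ⧸ I))[X] ⧸ J) := c0.toAlgebra
  letI : Algebra F (DualNumber (ResidueField (B ⧸ I))) := (π.comp c0).toAlgebra
  let πF : ((ResidueField (B ⧸ I))[X] ⧸ J) →ₐ[F] DualNumber (ResidueField (B ⧸ I)) := { π with commutes' := fun _ => rfl }
  let ψk : ResidueField A →ₐ[F] DualNumber (ResidueField (B ⧸ I)) :=
    { ψ.comp kB with commutes' := fun a => RingHom.congr_fun (hom_bot_ext ((ψ.comp kB).comp F.subtype) (π.comp c0)) a }
  let h := Algebra.FormallySmooth.liftOfSurjective ψk πF hπs hπk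
  have hh : ∀ a, π (h a) = ψ (kB a) := fun a =>
    DFunLike.congr_fun (Algebra.FormallySmooth.comp_liftOfSurjective ψk πF hπs hπk) a
  letI : Algebra A ((ResidueField (B ⧸ I))[X] ⧸ J) := (h.toRingHom.comp (residue A)).toAlgebra
  letI : Algebra A (DualNumber (ResidueField (B ⧸ I))) := (ψ.comp (kB.comp (residue A))).toAlgebra
  let πA : ((ResidueField (B ⧸ I))[X] ⧸ J) →ₐ[A] DualNumber (ResidueField (B ⧸ I)) :=
    { π with commutes' := fun a => hh (residue A a) }
  let ψA : B →ₐ[A] DualNumber (ResidueField (B ⧸ I)) := { ψ.comp (Ideal.Quotient.mk I) with commutes' := fun a => rfl }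
  let g := Algebra.FormallySmooth.liftOfSurjective ψA πA hπs hπk
  have hg : π (g xB) = ψ x := by
    rw [← hxB]
    exact DFunLike.congr_fun (Algebra.FormallySmooth.comp_liftOfSurjective ψA πA hπs hπk) xB
  obtain ⟨f, hf⟩ := Ideal.Quotient.mk_surjective (g xB)
  rw [← hf, hπ] at hg
  have h0 := congrArg TrivSqZeroExt.fst hg
  have h1 := congrArg TrivSqZeroExt.snd hg
  simp [ψ, hdx, (IsLocalRing.residue_eq_zero_iff x).2 hx] at h0 h1
  obtain ⟨q, rfl⟩ := X_dvd_iff.2 h0
  have hpow : (X * q) ^ n ∈ J := by
    rw [← Ideal.Quotient.eq_zero_iff_mem, map_pow, hf, ← map_pow, hxn, map_zero]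
  obtain ⟨r, hr⟩ := Ideal.mem_span_singleton.1 hpow
  have hc := congrArg (fun p => Polynomial.coeff p n) hr
  rw [coeff_X_mul] at h1
  simp [mul_pow, coeff_X_pow_mul', Polynomial.coeff_zero_eq_eval_zero] at hc
  simp [← Polynomial.coeff_zero_eq_eval_zero, h1] at hc

theorem length_baseChange (A : Type u) (B : Type v) [CommRing A] [CommRing B]
    [IsLocalRing A] [IsLocalRing B] [Algebra A B] [Module.Flat A B]
    (hmax : (maximalIdeal A).map (algebraMap A B) = maximalIdeal B)
    (N : Type u) [AddCommGroup N] [Module A N] (hN : IsFiniteLength A N) :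
    Module.length B (B ⊗[A] N) = Module.length A N := by
  induction hN with
  | of_subsingleton => simp
  | @of_simple_quotient N _ _ P _ _ ih =>
    have hexA := LinearMap.exact_subtype_mkQ P
    have hs : Module.length B (B ⊗[A] (N ⧸ P)) = 1 := by
      obtain ⟨M, hM, ⟨e⟩⟩ := isSimpleModule_iff_quot_maximal.1 (inferInstance : IsSimpleModule A (N ⧸ P))
      obtain rfl := IsLocalRing.eq_maximalIdeal hM
      rw [(e.baseChange A B).length_eq,
        ← (Algebra.TensorProduct.quotIdealMapEquivTensorQuot B (maximalIdeal A)).toLinearEquiv.length_eq]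
      rw [Module.length_eq_one_iff, isSimpleModule_iff_isCoatom, ← Ideal.isMaximal_def]
      convert maximalIdeal.isMaximal B
    rw [Module.length_eq_add_of_exact (P.subtype.baseChange B) (P.mkQ.baseChange B)
        (Module.Flat.lTensor_preserves_injective_linearMap _ P.injective_subtype)
        (LinearMap.lTensor_surjective B P.mkQ_surjective) (lTensor_exact B hexA P.mkQ_surjective),
      Module.length_eq_add_of_exact P.subtype P.mkQ P.injective_subtype P.mkQ_surjective hexA, ih, hs,
      Module.length_eq_one A (N ⧸ P)]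


/-- Let A → B be a homomorphism of Artinian local rings that is flat and formally smooth, where A has a
subring that is a field. Then A and B have the same length, each as a module over itself. -/
theorem result (A : Type u) (B : Type v) [CommRing A] [CommRing B]
    [IsLocalRing A] [IsLocalRing B] [IsArtinianRing A] [IsArtinianRing B] [Algebra A B]
    [Module.Flat A B] [Algebra.FormallySmooth A B] (hK : ∃ K : Subring A, IsField K) :
    Module.length A A = Module.length B B := by
  have hmax := maximalIdeal_map_eq A B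
  have h := length_baseChange A B hmax A (Module.length_ne_top_iff.1 Module.length_ne_top)
  rw [(AlgebraTensorModule.rid A B B).length_eq] at h
  exact h.symm

end Groth.Agent.S18056
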