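import Groth.Statements.S18121
import Mathlib

set_option autoImplicit false
set_option linter.style.haveILetI false
universe u
open Pinch

namespace Groth.Agent.S18121

/-- Let B be a commutative ring, b an element of B, B' := B[z]/(z^2 - b) the rank-two B-algebra with z^2
= b, and Ψ : B[u, v] → B'[t] the B-algebra homomorphism with u ↦ z t and v ↦ t. Then the kernel of Ψ
is the principal ideal generated by u^2 - b v^2, and a polynomial of B'[t] lies in the image of Ψ as
soon as its constant coefficient lies in B. Equivalently, B[u, v]/(u^2 - b v^2) is the fibre product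
of B'[t] and B over B' (for t ↦ 0 and the inclusion of B): the pinching of Spec B' × 𝔸¹ along Spec
B' × {0} by the double cover Spec B' → Spec B is the hypersurface u^2 = b v^2 over B; for B = K[w]
and b = w this is the pinch point u^2 = v^2 w. -/
theorem result (B : Type u) [CommRing B] (b : B) :
    letI Ψ : MvPolynomial (Fin 2) B →ₐ[B] Polynomial (AdjoinRoot (Polynomial.X ^ 2 - Polynomial.C b)) :=
      MvPolynomial.aeval
        ![Polynomial.C (AdjoinRoot.root (Polynomial.X ^ 2 - Polynomial.C b)) * Polynomial.X, Polynomial.X]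
    RingHom.ker Ψ.toRingHom =
        Ideal.span {MvPolynomial.X 0 ^ 2 - MvPolynomial.C b * MvPolynomial.X 1 ^ 2} ∧
      ∀ G : Polynomial (AdjoinRoot (Polynomial.X ^ 2 - Polynomial.C b)),
        (∃ c : B, G.coeff 0 = algebraMap B (AdjoinRoot (Polynomial.X ^ 2 - Polynomial.C b)) c) →
          G ∈ Ψ.range := by
  classical
  set P : Polynomial B := Polynomial.X ^ 2 - Polynomial.C b with hP
  set s := AdjoinRoot.root P with hs
  set Ψ : MvPolynomial (Fin 2) B →ₐ[B] Polynomial (AdjoinRoot P) :=
      MvPolynomial.aeval ![Polynomial.C s * Polynomial.X, Polynomial.X] with hΨ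
  set J : Ideal (MvPolynomial (Fin 2) B) := Ideal.span {MvPolynomial.X 0 ^ 2 - MvPolynomial.C b * MvPolynomial.X 1 ^ 2} with hJ
  have hs2 : s ^ 2 = algebraMap B (AdjoinRoot P) b := by
    have h := AdjoinRoot.eval₂_root P
    rw [hP] at h
    simp only [Polynomial.eval₂_sub, Polynomial.eval₂_pow, Polynomial.eval₂_X, Polynomial.eval₂_C, sub_eq_zero] at h
    exact h
  have hindep : ∀ u v : B, algebraMap B (AdjoinRoot P) u + algebraMap B (AdjoinRoot P) v * s = 0 → u = 0 ∧ v = 0 := by
    intro u v h
    rcases subsingleton_or_nontrivial B with hB | hB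
    · exact ⟨Subsingleton.elim _ _, Subsingleton.elim _ _⟩
    have hm : P.Monic := by rw [hP]; exact Polynomial.monic_X_pow_sub_C b (by norm_num)
    have hdeg : P.natDegree = 2 := by rw [hP]; exact Polynomial.natDegree_X_pow_sub_C
    have h0 : AdjoinRoot.mk P (Polynomial.C u + Polynomial.C v * Polynomial.X) = 0 := by
      rw [map_add, map_mul, AdjoinRoot.mk_C, AdjoinRoot.mk_C, AdjoinRoot.mk_X]; exact h
    have hz : Polynomial.C u + Polynomial.C v * Polynomial.X = 0 := by
      by_contra hne
      refine hm.not_dvd_of_natDegree_lt hne ?_ (AdjoinRoot.mk_eq_zero.mp h0)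
      rw [hdeg]
      exact lt_of_le_of_lt (le_trans (le_of_eq (by rw [add_comm])) Polynomial.natDegree_linear_le) one_lt_two
    exact ⟨by simpa using congrArg (fun q => Polynomial.coeff q 0) hz, by simpa using congrArg (fun q => Polynomial.coeff q 1) hz⟩
  have hdec : ∀ f : MvPolynomial (Fin 2) B, ∃ a c : Polynomial B,
      f - (Polynomial.aeval (MvPolynomial.X 1) a + MvPolynomial.X 0 * Polynomial.aeval (MvPolynomial.X 1) c) ∈ J := by
    intro f
    induction f using MvPolynomial.induction_on with
    | C u => exact ⟨Polynomial.C u, 0, by simp [MvPolynomial.algebraMap_eq]⟩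
    | add f g hf hg =>
      obtain ⟨a, c, h⟩ := hf
      obtain ⟨a', c', h'⟩ := hg
      refine ⟨a + a', c + c', ?_⟩
      convert J.add_mem h h' using 1
      simp only [map_add]; ring
    | mul_X f i hf =>
      obtain ⟨a, c, h⟩ := hf
      fin_cases i
      · refine ⟨Polynomial.C b * Polynomial.X ^ 2 * c, a, ?_⟩
        convert J.add_mem (J.mul_mem_right (MvPolynomial.X 0) h)
          (J.mul_mem_left (Polynomial.aeval (MvPolynomial.X 1) c) (Ideal.subset_span rfl : _ ∈ J)) using 1
        simp [MvPolynomial.algebraMap_eq]; ring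
      · refine ⟨a * Polynomial.X, c * Polynomial.X, ?_⟩
        convert J.mul_mem_right (MvPolynomial.X 1) h using 1
        simp; ring
  have hval : ∀ a c : Polynomial B, Ψ (Polynomial.aeval (MvPolynomial.X 1) a + MvPolynomial.X 0 * Polynomial.aeval (MvPolynomial.X 1) c)
      = a.map (algebraMap B (AdjoinRoot P)) + Polynomial.C s * (Polynomial.X * c.map (algebraMap B (AdjoinRoot P))) := by
    intro a c
    have e : ∀ q : Polynomial B, Ψ (Polynomial.aeval (MvPolynomial.X 1) q) = q.map (algebraMap B (AdjoinRoot P)) := by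
      intro q
      rw [← Polynomial.aeval_algHom_apply, show Ψ (MvPolynomial.X 1) = Polynomial.X by simp [hΨ]]
      induction q using Polynomial.induction_on' with
      | add p q hp hq => rw [map_add, hp, hq, Polynomial.map_add]
      | monomial n r => rw [Polynomial.aeval_monomial, Polynomial.map_monomial, ← Polynomial.C_mul_X_pow_eq_monomial, IsScalarTower.algebraMap_apply B (AdjoinRoot P) (Polynomial (AdjoinRoot P)), Polynomial.algebraMap_eq]
    rw [map_add, map_mul, e, e, show Ψ (MvPolynomial.X 0) = Polynomial.C s * Polynomial.X by simp [hΨ], mul_assoc]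
  constructor
  · refine le_antisymm (fun f hf => ?_) ?_
    · obtain ⟨a, c, h⟩ := hdec f
      have hJk : ∀ g ∈ J, Ψ g = 0 := by
        intro g hg
        obtain ⟨q, rfl⟩ := Ideal.mem_span_singleton'.mp hg
        rw [map_mul, map_sub, map_mul, map_pow, map_pow, MvPolynomial.algHom_C]
        rw [show Ψ (MvPolynomial.X 0) = Polynomial.C s * Polynomial.X by simp [hΨ], show Ψ (MvPolynomial.X 1) = Polynomial.X by simp [hΨ],
          mul_pow, ← Polynomial.C_pow, hs2, IsScalarTower.algebraMap_apply B (AdjoinRoot P) (Polynomial (AdjoinRoot P)), Polynomial.algebraMap_eq, sub_self, mul_zero]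
      have h0 := hJk _ h
      rw [map_sub, show Ψ f = 0 from RingHom.mem_ker.mp hf, zero_sub, neg_eq_zero, hval] at h0
      have hc : ∀ n, a.coeff n = 0 ∧ (Polynomial.X * c).coeff n = 0 := fun n => hindep _ _ (by
        have := congrArg (fun q => Polynomial.coeff q n) h0
        simp only [Polynomial.coeff_add, Polynomial.coeff_map, Polynomial.coeff_C_mul, Polynomial.coeff_zero] at this
        simp only [mul_comm _ s, ← Polynomial.coeff_map, Polynomial.map_mul, Polynomial.map_X]
        rw [Polynomial.coeff_map] at *; exact this)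
      have ha : a = 0 := Polynomial.ext fun n => by rw [(hc n).1, Polynomial.coeff_zero]
      have hc0 : c = 0 := Polynomial.ext fun n => by
        have := (hc (n + 1)).2
        rwa [Polynomial.coeff_X_mul] at this
      simpa [ha, hc0] using h
    · rw [Ideal.span_singleton_le_iff_mem, RingHom.mem_ker]
      show Ψ _ = 0
      rw [map_sub, map_mul, map_pow, map_pow, MvPolynomial.algHom_C]
      rw [show Ψ (MvPolynomial.X 0) = Polynomial.C s * Polynomial.X by simp [hΨ], show Ψ (MvPolynomial.X 1) = Polynomial.X by simp [hΨ],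
        mul_pow, ← Polynomial.C_pow, hs2, IsScalarTower.algebraMap_apply B (AdjoinRoot P) (Polynomial (AdjoinRoot P)), Polynomial.algebraMap_eq, sub_self]
  · rintro G ⟨c0, hc0⟩
    rw [Polynomial.as_sum_range G]
    refine sum_mem fun n _ => ?_
    have hm : P.Monic := by rw [hP]; exact Polynomial.monic_X_pow_sub_C b (by norm_num)
    obtain ⟨q, hq⟩ := AdjoinRoot.mk_surjective (G.coeff n)
    rcases Nat.eq_zero_or_pos n with rfl | hn
    · refine ⟨MvPolynomial.C c0, ?_⟩
      show Ψ _ = _
      rw [MvPolynomial.algHom_C, hc0, Polynomial.monomial_zero_left]; rfl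
    · have hC : ∀ x : AdjoinRoot P, x ∈ Algebra.adjoin B ({s} : Set (AdjoinRoot P)) := fun x => by
        rw [hs, AdjoinRoot.adjoinRoot_eq_top]; trivial
      obtain ⟨m, rfl⟩ := Nat.exists_eq_succ_of_ne_zero hn.ne'
      have key : ∀ x : AdjoinRoot P, ∃ u v : B, x = algebraMap B _ u + algebraMap B _ v * s := by
        intro x
        induction hC x using Algebra.adjoin_induction with
        | mem y hy => exact ⟨0, 1, by simp [Set.mem_singleton_iff.mp hy]⟩
        | algebraMap u => exact ⟨u, 0, by simp⟩
        | add y z _ _ hy hz =>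
          obtain ⟨u, v, rfl⟩ := hy; obtain ⟨u', v', rfl⟩ := hz
          exact ⟨u + u', v + v', by simp only [map_add]; ring⟩
        | mul y z _ _ hy hz =>
          obtain ⟨u, v, rfl⟩ := hy; obtain ⟨u', v', rfl⟩ := hz
          exact ⟨u * u' + v * v' * b, u * v' + v * u', by simp only [map_add, map_mul]; rw [← hs2]; ring⟩
      obtain ⟨u, v, huv⟩ := key (G.coeff (m + 1))
      refine ⟨Polynomial.aeval (MvPolynomial.X 1) (Polynomial.monomial (m + 1) u) + MvPolynomial.X 0 * Polynomial.aeval (MvPolynomial.X 1) (Polynomial.monomial m v), ?_⟩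
      show Ψ _ = _
      rw [hval, Polynomial.map_monomial, Polynomial.map_monomial, huv, Polynomial.X_mul_monomial, Polynomial.C_mul_monomial, ← map_add, mul_comm s]

end Groth.Agent.S18121
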