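import Groth.Statements.S18123
import Mathlib

set_option autoImplicit false
set_option linter.style.haveILetI false
universe u
open Pinch

namespace Groth.Agent.S18123

/-- Let K be a field in which 2 ≠ 0, S = K[x, y], and R ⊆ S the K-subalgebra generated by x^2, x y, y,
the coordinate ring of the pinch point with normalization S, obtained by gluing the plane along the
line y = 0 via x ↦ -x. A K-derivation D of S maps R into R if and only if D(y) is a multiple of y
and D(x) = y s + x p(x^2) for some s in S and some polynomial p in one variable. Every K-derivation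
R → S extends uniquely to S, and under this identification the derivations mapping R into R form the
image of the tangent sheaf of the pinch point in that of its normalization; so this image contains y
times all derivations of S, and modulo those it is spanned by the odd multiples x^(2k+1) ∂/∂x, the
part of the tangent sheaf of the line y = 0 invariant under x ↦ -x. (The text works over an
algebraically closed field of characteristic different from 2; the computation uses only 2 ≠ 0.) -/
theorem result
    (K : Type u) [Field K] [NeZero (2 : K)]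
    (D : Derivation K (MvPolynomial (Fin 2) K) (MvPolynomial (Fin 2) K)) :
    letI x : MvPolynomial (Fin 2) K := MvPolynomial.X 0
    letI y : MvPolynomial (Fin 2) K := MvPolynomial.X 1
    letI R : Subalgebra K (MvPolynomial (Fin 2) K) := Algebra.adjoin K {x ^ 2, x * y, y}
    (∀ r ∈ R, D r ∈ R) ↔
      (D y ∈ Ideal.span {y} ∧
        ∃ (s : MvPolynomial (Fin 2) K) (p : Polynomial K), D x = y * s + x * Polynomial.aeval (x ^ 2) p) := by
  set x : MvPolynomial (Fin 2) K := MvPolynomial.X 0 with hxdef
  set y : MvPolynomial (Fin 2) K := MvPolynomial.X 1 with hydef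
  set R : Subalgebra K (MvPolynomial (Fin 2) K) := Algebra.adjoin K {x ^ 2, x * y, y} with hRdef
  set ev : MvPolynomial (Fin 2) K →ₐ[K] Polynomial K := MvPolynomial.aeval ![Polynomial.X, 0] with hev
  have evx : ev x = Polynomial.X := by simp [hev, x]
  have evy : ev y = 0 := by simp [hev, y]
  have h2 : (2 : K) ≠ 0 := two_ne_zero
  set E : Subalgebra K (Polynomial K) := (Polynomial.aeval (Polynomial.X ^ 2 : Polynomial K)).range with hE
  have hRE : ∀ r ∈ R, ev r ∈ E := by
    intro r hr
    have : R ≤ E.comap ev := by
      refine Algebra.adjoin_le ?_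
      rintro z (rfl | rfl | rfl)
      · exact ⟨Polynomial.X, by simp [evx]⟩
      · exact ⟨0, by simp [evy]⟩
      · exact ⟨0, by simp [evy]⟩
    exact this hr
  have hx2R : x ^ 2 ∈ R := Algebra.subset_adjoin (by simp)
  have hxyR : x * y ∈ R := Algebra.subset_adjoin (by simp)
  have hyR : y ∈ R := Algebra.subset_adjoin (by simp)
  have hyS : ∀ f, y * f ∈ R ∧ x * y * f ∈ R := by
    intro f
    induction f using MvPolynomial.induction_on with
    | C a =>
      exact ⟨R.mul_mem hyR (R.algebraMap_mem a), R.mul_mem hxyR (R.algebraMap_mem a)⟩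
    | add p q hp hq =>
      exact ⟨by rw [mul_add]; exact R.add_mem hp.1 hq.1, by rw [mul_add]; exact R.add_mem hp.2 hq.2⟩
    | mul_X p i hp =>
      fin_cases i
      · refine ⟨?_, ?_⟩
        · convert hp.2 using 1; simp [x]; ring
        · convert R.mul_mem hx2R hp.1 using 1; simp [x]; ring
      · refine ⟨?_, ?_⟩
        · convert R.mul_mem hyR hp.1 using 1; simp [y]; ring
        · convert R.mul_mem hyR hp.2 using 1; simp [y]; ring
  have hpR : ∀ p : Polynomial K, Polynomial.aeval (x ^ 2) p ∈ R := by
    intro p
    have := Polynomial.aeval_subalgebra_coe p R ⟨x ^ 2, hx2R⟩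
    rw [← this]
    exact SetLike.coe_mem _
  have hker : ∀ f, f - Polynomial.aeval x (ev f) ∈ Ideal.span {y} := by
    intro f
    have he : (Ideal.Quotient.mkₐ K (Ideal.span {y})).comp ((Polynomial.aeval x).comp ev)
        = Ideal.Quotient.mkₐ K (Ideal.span {y}) := by
      apply MvPolynomial.algHom_ext
      intro i
      fin_cases i
      · simp [hev, x]
      · simp only [AlgHom.comp_apply, Ideal.Quotient.mkₐ_eq_mk, hev]
        simp [y]
    have := AlgHom.congr_fun he f
    simp only [AlgHom.comp_apply, Ideal.Quotient.mkₐ_eq_mk] at this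
    exact Ideal.Quotient.eq.mp this.symm
  constructor
  · intro hD
    have hσ : ∀ z ∈ E, Polynomial.aeval (-Polynomial.X : Polynomial K) z = z := by
      rintro _ ⟨q, rfl⟩
      rw [AlgHom.toRingHom_eq_coe, RingHom.coe_coe, ← Polynomial.aeval_algHom_apply]
      simp
    have hy1 := hσ _ (hRE _ (hD y hyR))
    have hxy1 := hσ _ (hRE _ (hD _ hxyR))
    rw [Derivation.leibniz, smul_eq_mul, smul_eq_mul, map_add, map_mul, map_mul, evx, evy, zero_mul,
      add_zero, map_mul, hy1, Polynomial.aeval_X] at hxy1
    have hC2 : (2 : Polynomial K) ≠ 0 := by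
      rw [← map_ofNat Polynomial.C 2]
      exact Polynomial.C_ne_zero.mpr h2
    have he0 : ev (D y) = 0 := by
      have : 2 * (Polynomial.X * ev (D y)) = 0 := by linear_combination -hxy1
      rcases mul_eq_zero.mp this with h | h
      · exact absurd h hC2
      · exact (mul_eq_zero.mp h).resolve_left Polynomial.X_ne_zero
    refine ⟨?_, ?_⟩
    · have := hker (D y)
      rwa [he0, map_zero, sub_zero] at this
    · obtain ⟨q, hq⟩ := hRE _ (hD _ hx2R)
      rw [show x ^ 2 = x * x from sq x, Derivation.leibniz, smul_eq_mul, map_add, map_mul, evx] at hq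
      have hq0 : q.coeff 0 = 0 := by
        have := congrArg (Polynomial.aeval (0 : K)) hq
        rw [AlgHom.toRingHom_eq_coe, RingHom.coe_coe, ← Polynomial.aeval_algHom_apply] at this
        simpa [Polynomial.coeff_zero_eq_eval_zero] using this
      obtain ⟨q', rfl⟩ := Polynomial.X_dvd_iff.mpr hq0
      have hd : Polynomial.C (2 : K) * ev (D x) = Polynomial.X * Polynomial.aeval (Polynomial.X ^ 2 : Polynomial K) q' := by
        apply mul_left_cancel₀ (Polynomial.X_ne_zero (R := K))
        rw [map_ofNat]
        simp only [AlgHom.toRingHom_eq_coe, RingHom.coe_coe, map_mul, Polynomial.aeval_X] at hq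
        linear_combination -hq
      obtain ⟨s, hs⟩ := Ideal.mem_span_singleton.mp (hker (D x))
      refine ⟨s, Polynomial.C (2 : K)⁻¹ * q', ?_⟩
      have hd' : ev (D x) = Polynomial.X * Polynomial.aeval (Polynomial.X ^ 2 : Polynomial K) (Polynomial.C (2 : K)⁻¹ * q') := by
        rw [map_mul, Polynomial.aeval_C, Polynomial.algebraMap_eq, mul_left_comm, ← hd, ← mul_assoc,
          ← Polynomial.C_mul, inv_mul_cancel₀ h2, Polynomial.C_1, one_mul]
      rw [hd', map_mul, Polynomial.aeval_X, ← Polynomial.aeval_algHom_apply, map_pow, Polynomial.aeval_X] at hs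
      rw [← hs]
      ring
  · rintro ⟨hy', s, p, hp⟩
    obtain ⟨t, ht⟩ := Ideal.mem_span_singleton.mp hy'
    intro r hr
    induction hr using Algebra.adjoin_induction with
    | mem z hz =>
      rcases hz with rfl | rfl | rfl
      · rw [show x ^ 2 = x * x from sq x, Derivation.leibniz, smul_eq_mul, hp]
        have : x * (y * s + x * Polynomial.aeval (x ^ 2) p) + x * (y * s + x * Polynomial.aeval (x ^ 2) p)
          = x * y * (2 * s) + x ^ 2 * Polynomial.aeval (x ^ 2) p * 2 := by ring
        rw [this]
        exact R.add_mem (hyS _).2 (R.mul_mem (R.mul_mem hx2R (hpR p)) (R.add_mem R.one_mem R.one_mem |> fun h => by rwa [one_add_one_eq_two] at h))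
      · rw [Derivation.leibniz, smul_eq_mul, smul_eq_mul, hp, ht]
        have : x * (y * t) + y * (y * s + x * Polynomial.aeval (x ^ 2) p)
          = y * (x * t + (y * s + x * Polynomial.aeval (x ^ 2) p)) := by ring
        rw [this]
        exact (hyS _).1
      · rw [ht]; exact (hyS t).1
    | algebraMap a => rw [Derivation.map_algebraMap]; exact R.zero_mem
    | add a b _ _ ha hb => rw [map_add]; exact R.add_mem ha hb
    | mul a b ha' hb' ha hb =>
      rw [Derivation.leibniz, smul_eq_mul, smul_eq_mul]
      exact R.add_mem (R.mul_mem ha' hb) (R.mul_mem hb' ha)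

end Groth.Agent.S18123
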