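import Groth.Statements.S18125
import Mathlib
-- import your own Groth.Agent.* helpers here

set_option autoImplicit false
universe u
open Pinch

namespace Groth.Agent.S18125

/-- Let K be a field in which 2 ≠ 0, n ≥ 0, S = K[u, v, w, t_1, …, t_n] (u, v, w the first three
variables), h = u^2 - v^2 w the equation of the pinch-point model, and Jac the ideal generated by h
and its three partial derivatives 2u, -2vw, -v^2, which cuts out the scheme-theoretic singular locus
of {h = 0}. Then the ideal (u, v) of the double locus is Jac + (v), and the colon ideal of Jac by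
(v) is (u, v, w). Consequently (u, v)/Jac, the ideal of the double locus restricted to the singular
locus, is an invertible sheaf on the pinch locus u = v = w = 0: it is free of rank one over K[t_1,
…, t_n] on the class of v. (The text states this for every semi-smooth variety and reduces to this
model; K algebraically closed is not needed for the model computation.) -/
theorem result
    (K : Type u) [Field K] [NeZero (2 : K)] (n : ℕ) :
    letI u : MvPolynomial (Fin (n + 3)) K := MvPolynomial.X 0
    letI v : MvPolynomial (Fin (n + 3)) K := MvPolynomial.X 1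
    letI w : MvPolynomial (Fin (n + 3)) K := MvPolynomial.X 2
    letI Jac : Ideal (MvPolynomial (Fin (n + 3)) K) :=
      Ideal.span {u ^ 2 - v ^ 2 * w, 2 * u, -(2 * v * w), -(v ^ 2)}
    Ideal.span {u, v} = Jac ⊔ Ideal.span {v} ∧ Jac.colon (Ideal.span {v}) = Ideal.span {u, v, w} := by
  set u : MvPolynomial (Fin (n + 3)) K := MvPolynomial.X 0 with hu'
  set v : MvPolynomial (Fin (n + 3)) K := MvPolynomial.X 1 with hv'
  set w : MvPolynomial (Fin (n + 3)) K := MvPolynomial.X 2 with hw'
  set Jac : Ideal (MvPolynomial (Fin (n + 3)) K) := Ideal.span {u ^ 2 - v ^ 2 * w, 2 * u, -(2 * v * w), -(v ^ 2)} with hJ'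
  have h2 : IsUnit (2 : MvPolynomial (Fin (n + 3)) K) := by
    rw [show (2 : MvPolynomial (Fin (n + 3)) K) = MvPolynomial.C (2 : K) from (map_ofNat MvPolynomial.C 2).symm]
    exact (isUnit_iff_ne_zero.mpr (NeZero.ne (2 : K))).map _
  obtain ⟨h, hh⟩ := h2.exists_left_inv
  have hu : u ∈ Jac := by
    have : u = h * (2 * u) := by rw [← mul_assoc, hh, one_mul]
    rw [this]; exact Jac.mul_mem_left _ (Ideal.subset_span (by simp))
  have hvv : v * v ∈ Jac := by
    have h1 : -(v ^ 2) ∈ Jac := Ideal.subset_span (by simp)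
    have := Jac.neg_mem h1
    simpa [pow_two] using this
  have hvw : v * w ∈ Jac := by
    have : v * w = (-h) * (-(2 * v * w)) := by linear_combination (-(v * w)) * hh
    rw [this]; exact Jac.mul_mem_left _ (Ideal.subset_span (by simp))
  refine ⟨le_antisymm ?_ ?_, le_antisymm ?_ ?_⟩
  · rw [Ideal.span_le]
    rintro x (rfl | rfl)
    · exact Submodule.mem_sup_left hu
    · exact Submodule.mem_sup_right (Ideal.mem_span_singleton_self _)
  · refine sup_le (Ideal.span_le.mpr ?_) (Ideal.span_le.mpr ?_)
    · rintro x (rfl | rfl | rfl | rfl)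
      · exact Ideal.mem_span_pair.mpr ⟨u, -(v * w), by ring⟩
      · exact Ideal.mem_span_pair.mpr ⟨2, 0, by ring⟩
      · exact Ideal.mem_span_pair.mpr ⟨0, -(2 * w), by ring⟩
      · exact Ideal.mem_span_pair.mpr ⟨0, -v, by ring⟩
    · rintro x rfl; exact Ideal.subset_span (by simp)
  · intro x hx
    have hxv : x * v ∈ Jac := Submodule.mem_colon.mp hx v (Ideal.mem_span_singleton_self v)
    have hle : Jac ≤ Ideal.span {u} ⊔ Ideal.span {v} * Ideal.span {v, w} := by
      refine Ideal.span_le.mpr ?_
      rintro x (rfl | rfl | rfl | rfl) <;> rw [SetLike.mem_coe, Submodule.mem_sup]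
      · exact ⟨u * u, Ideal.mul_mem_left _ _ (Ideal.mem_span_singleton_self u), v * (-(v * w)), Ideal.mul_mem_mul (Ideal.mem_span_singleton_self v) (Ideal.mem_span_pair.mpr ⟨-w, 0, by ring⟩), by ring⟩
      · exact ⟨2 * u, Ideal.mul_mem_left _ _ (Ideal.mem_span_singleton_self u), 0, Submodule.zero_mem _, by ring⟩
      · exact ⟨0, Submodule.zero_mem _, v * (-(2 * w)), Ideal.mul_mem_mul (Ideal.mem_span_singleton_self v) (Ideal.mem_span_pair.mpr ⟨0, -2, by ring⟩), by ring⟩
      · exact ⟨0, Submodule.zero_mem _, v * (-v), Ideal.mul_mem_mul (Ideal.mem_span_singleton_self v) (Ideal.mem_span_pair.mpr ⟨-1, 0, by ring⟩), by ring⟩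
    obtain ⟨p, hp, q, hq, e⟩ := Submodule.mem_sup.mp (hle hxv)
    obtain ⟨b, hb, rfl⟩ := Ideal.mem_span_singleton_mul.mp hq
    obtain ⟨a, rfl⟩ := Ideal.mem_span_singleton'.mp hp
    have hd : u ∣ (x - b) * v := ⟨a, by linear_combination -e⟩
    have huv : ¬ u ∣ v := by
      rintro ⟨c, hc⟩
      have := congrArg (MvPolynomial.eval (fun i : Fin (n + 3) => if i = 1 then (1 : K) else 0)) hc
      simp [u, v] at this
    obtain ⟨c, hc⟩ := ((MvPolynomial.X_prime (R := K) (i := (0 : Fin (n + 3)))).dvd_or_dvd hd).resolve_right huv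
    have hbm : b ∈ Ideal.span {u, v, w} := Ideal.span_mono (by simp) hb
    have : x = c * u + b := by linear_combination hc
    rw [this]
    exact Ideal.add_mem _ (Ideal.mul_mem_left _ c (Ideal.subset_span (by simp))) hbm
  · refine Ideal.span_le.mpr fun x hx => Submodule.mem_colon.mpr fun y hy => ?_
    obtain ⟨t, rfl⟩ := Ideal.mem_span_singleton'.mp hy
    rw [smul_eq_mul, mul_left_comm]
    refine Jac.mul_mem_left _ ?_
    rcases hx with rfl | rfl | rfl
    · exact Jac.mul_mem_right _ hu
    · exact hvv
    · rw [mul_comm]; exact hvw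

end Groth.Agent.S18125
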