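import Groth.Statements.S18153
import Mathlib

set_option autoImplicit false
set_option linter.style.haveILetI false
universe u w
open FrobAlg

namespace Groth.Agent.S18153

/-- Let R be a commutative ring of prime characteristic p and f_1, …, f_m (m ≥ 1) polynomials over R in
the variables t_1, …, t_m and a further, possibly empty, family of variables s_a. Then in the m × m
Jacobian determinant det(∂f_i/∂t_j) with respect to the t-variables, the coefficient of the monomial
t_1^{p-1} ⋯ t_m^{p-1} (all s-exponents zero) vanishes. (In the source this is the claim, for formal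
power series in n ≥ m variables over the base field, to which the proof of the proposition reduces;
the coefficient in question only involves truncations of the f_i, so the polynomial form over any
ring of characteristic p is the same assertion.) -/
theorem result
    (p : ℕ) [Fact p.Prime] (R : Type u) [CommRing R] [CharP R p]
    {m : ℕ} (hm : 0 < m) (σ : Type w) (f : Fin m → MvPolynomial (Fin m ⊕ σ) R) :
    MvPolynomial.coeff
        (Finsupp.sumElim (Finsupp.equivFunOnFinite.symm fun _ : Fin m => p - 1) (0 : σ →₀ ℕ))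
        (Matrix.of fun i j : Fin m => MvPolynomial.pderiv (Sum.inl j) (f i)).det = 0 := by
  classical
  set d : (Fin m ⊕ σ) →₀ ℕ := Finsupp.sumElim (Finsupp.equivFunOnFinite.symm fun _ : Fin m => p - 1) (0 : σ →₀ ℕ) with hd
  let row : Fin m → ((Fin m ⊕ σ) →₀ ℕ) → (Fin m → MvPolynomial (Fin m ⊕ σ) R) := fun i a j =>
    MvPolynomial.pderiv (Sum.inl j) (MvPolynomial.monomial a ((f i).coeff a))
  have hrow : (Matrix.of fun i j : Fin m => MvPolynomial.pderiv (Sum.inl j) (f i)) = fun i => ∑ a ∈ (f i).support, row i a := by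
    funext i j
    rw [Finset.sum_apply, Matrix.of_apply]
    conv_lhs => rw [(f i).as_sum, map_sum]
  have hdet : (Matrix.of fun i j : Fin m => MvPolynomial.pderiv (Sum.inl j) (f i)).det
      = ∑ r ∈ Fintype.piFinset (fun i => (f i).support), (Matrix.of fun i j => row i (r i) j).det := by
    rw [hrow]
    exact (Matrix.detRowAlternating (R := MvPolynomial (Fin m ⊕ σ) R) (n := Fin m)).toMultilinearMap.map_sum_finset _ _
  rw [hdet, MvPolynomial.coeff_sum]
  refine Finset.sum_eq_zero fun r _ => ?_
  set N : Matrix (Fin m) (Fin m) R := Matrix.of fun i j => ((r i (Sum.inl j) : ℕ) : R) with hN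
  set E : (Fin m ⊕ σ) →₀ ℕ := ∑ j : Fin m, Finsupp.single (Sum.inl j) 1 with hE
  set P : Prop := (∑ i, r i) = d + E with hP
  have hpr : 1 ≤ p := (Fact.out : p.Prime).one_le
  have key : ∀ τ : Equiv.Perm (Fin m),
      MvPolynomial.coeff d (∏ i, row (τ i) (r (τ i)) i)
      = (if P then (∏ i, (f i).coeff (r i)) else 0) * ∏ i, N (τ i) i := by
    intro τ
    simp only [row, MvPolynomial.pderiv_monomial]
    rw [← MvPolynomial.monomial_sum_prod, MvPolynomial.coeff_monomial]
    rw [Finset.prod_mul_distrib, Equiv.prod_comp τ (fun i => (f i).coeff (r i))]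
    by_cases hz : ∀ i, 1 ≤ r (τ i) (Sum.inl i)
    · have hle : ∀ i, Finsupp.single (Sum.inl i) 1 ≤ r (τ i) := fun i => Finsupp.single_le_iff.mpr (hz i)
      have hs : (∑ i, (r (τ i) - Finsupp.single (Sum.inl i) 1)) + E = ∑ i, r i := by
        rw [hE, ← Finset.sum_add_distrib, ← Equiv.sum_comp τ r]
        exact Finset.sum_congr rfl fun i _ => tsub_add_cancel_of_le (hle i)
      have hiff : (∑ i, (r (τ i) - Finsupp.single (Sum.inl i) 1)) = d ↔ P := by
        rw [hP, ← hs]
        exact ⟨fun h => by rw [h], fun h => add_right_cancel h⟩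
      by_cases hc : P
      · rw [if_pos hc, if_pos (hiff.mpr hc)]; rfl
      · rw [if_neg hc, if_neg (mt hiff.mp hc), zero_mul]
    · push Not at hz
      obtain ⟨i, hi⟩ := hz
      have h0 : r (τ i) (Sum.inl i) = 0 := by omega
      have hN0 : ∏ i, ((r (τ i) (Sum.inl i) : ℕ) : R) = 0 :=
        Finset.prod_eq_zero (Finset.mem_univ i) (by rw [h0, Nat.cast_zero])
      rw [hN0, mul_zero, ite_self]
      have hN1 : ∏ i, N (τ i) i = 0 := hN0
      rw [hN1, mul_zero]
  rw [Matrix.det_apply, MvPolynomial.coeff_sum]
  have e : ∀ τ : Equiv.Perm (Fin m),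
      MvPolynomial.coeff d (Equiv.Perm.sign τ • ∏ i, (Matrix.of fun i j => row i (r i) j) (τ i) i)
      = (if P then (∏ i, (f i).coeff (r i)) else 0) * (Equiv.Perm.sign τ • ∏ i, N (τ i) i) := by
    intro τ
    rw [Units.smul_def, MvPolynomial.coeff_smul, Units.smul_def, mul_smul_comm, ← key τ]
    rfl
  rw [Finset.sum_congr rfl (fun τ _ => e τ), ← Finset.mul_sum, ← Matrix.det_apply]
  by_cases hc : P
  · have hN0 : N.det = 0 := by
      let i0 : Fin m := ⟨0, hm⟩
      have h := Matrix.det_updateRow_sum N i0 (fun _ => (1 : R))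
      rw [one_smul] at h
      rw [← h]
      refine Matrix.det_eq_zero_of_row_eq_zero i0 fun j => ?_
      rw [Matrix.updateRow_self, Finset.sum_apply]
      simp only [one_smul, hN, Matrix.of_apply]
      have hj := DFunLike.congr_fun (hP ▸ hc : (∑ i, r i) = d + E) (Sum.inl j)
      rw [Finsupp.finsetSum_apply, Finsupp.add_apply, hE, Finsupp.finsetSum_apply, hd] at hj
      simp [Finsupp.single_apply] at hj
      rw [← Nat.cast_sum, hj, Nat.sub_add_cancel hpr, CharP.cast_eq_zero]
    rw [hN0, mul_zero]
  · rw [if_neg hc, zero_mul]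

end Groth.Agent.S18153
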