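import Groth.Statements.S9436
import Mathlib.RingTheory.Smooth.StandardSmoothOfFree
import Mathlib.RingTheory.Etale.Kaehler
import Mathlib.RingTheory.RingHom.StandardSmooth

set_option autoImplicit false
universe u
open CAlg

namespace Groth.Agent.S9436
open TensorProduct MvPolynomial
set_option backward.isDefEq.respectTransparency false

open TensorProduct in
/-- Étale algebras lift along surjections: for an ideal I of R and an étale (R/I)-algebra S̄ there is an
étale R-algebra S with (R/I) ⊗_R S ≅ S̄ over R/I. -/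
theorem result (R : Type u) [CommRing R] (I : Ideal R) (Sb : Type u)
    [CommRing Sb] [Algebra (R ⧸ I) Sb] [Algebra.Etale (R ⧸ I) Sb] :
    ∃ (S : Type u) (_ : CommRing S) (_ : Algebra R S), Algebra.Etale R S ∧
      Nonempty (((R ⧸ I) ⊗[R] S) ≃ₐ[R ⧸ I] Sb) := by
  classical
  letI : Algebra R Sb := ((algebraMap (R ⧸ I) Sb).comp (algebraMap R (R ⧸ I))).toAlgebra
  have : IsScalarTower R (R ⧸ I) Sb := .of_algebraMap_eq fun _ => rfl
  have hst : Algebra.IsStandardSmoothOfRelativeDimension 0 (R ⧸ I) Sb :=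
    Algebra.Etale.iff_isStandardSmoothOfRelativeDimension_zero.mp inferInstance
  obtain ⟨ι, σ, _, _, P, hdim⟩ := hst.out
  have : Fintype σ := Fintype.ofFinite σ
  let m := MvPolynomial.map (σ := ι) (algebraMap R (R ⧸ I))
  choose f hf using fun i => MvPolynomial.map_surjective (algebraMap R (R ⧸ I)) Ideal.Quotient.mk_surjective (P.relation i)
  let S₁ := MvPolynomial ι R ⧸ Ideal.span (Set.range f)
  let P₁ : Algebra.PreSubmersivePresentation R S₁ ι σ :=
    { Algebra.Presentation.naive (v := f) with map := P.map, map_inj := P.map_inj }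
  let J := P₁.jacobian
  let S := Localization.Away J
  have hS : Algebra.Etale R S := by
    let Q := (Algebra.SubmersivePresentation.localizationAway S J).toPreSubmersivePresentation.comp P₁
    let P₂ : Algebra.SubmersivePresentation R S _ _ :=
      { Q with
        jacobian_isUnit := by
          rw [Algebra.PreSubmersivePresentation.comp_jacobian_eq_jacobian_smul_jacobian,
            Algebra.smul_def, IsUnit.mul_iff]
          exact ⟨IsLocalization.Away.algebraMap_isUnit J,
            (Algebra.SubmersivePresentation.localizationAway S J).jacobian_isUnit⟩ }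
    rw [Algebra.Etale.iff_isStandardSmoothOfRelativeDimension_zero]
    refine P₂.isStandardSmoothOfRelativeDimension ?_
    change Q.dimension = 0
    rw [Algebra.PreSubmersivePresentation.dimension_comp_eq_dimension_add_dimension]
    simp only [Algebra.Presentation.dimension] at hdim ⊢
    simp [Nat.card_eq_fintype_card] at hdim ⊢; omega
  have hrel : ∀ i, aeval (R := R) P.val (f i) = 0 := fun i => by
    rw [← aeval_map_algebraMap (R ⧸ I) P.val (f i), hf, P.aeval_val_relation]
  let φ₁ : S₁ →ₐ[R] Sb := Ideal.Quotient.liftₐ _ (aeval P.val) fun a ha => by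
    refine Ideal.span_le (I := RingHom.ker (aeval (R := R) P.val)).mpr ?_ ha
    rintro _ ⟨i, rfl⟩; exact hrel i
  have hX : ∀ k, φ₁ (Ideal.Quotient.mk _ (X k)) = P.val k := fun k => by
    change aeval P.val (X k) = _
    simp
  have hJ : φ₁ J = P.jacobian := by
    simp only [J, Algebra.PreSubmersivePresentation.jacobian_eq_jacobiMatrix_det]
    change φ₁ (algebraMap P₁.Ring S₁ _) = algebraMap P.Ring Sb _
    rw [RingHom.map_det, RingHom.map_det, AlgHom.map_det]
    congr 1
    ext i j
    simp only [RingHom.mapMatrix_apply, AlgHom.mapMatrix_apply, Matrix.map_apply,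
      Algebra.PreSubmersivePresentation.jacobiMatrix_apply]
    rw [Algebra.Generators.algebraMap_apply, Algebra.Generators.algebraMap_apply,
      ← hf j, MvPolynomial.pderiv_map, aeval_map_algebraMap, ← AlgHom.comp_apply, MvPolynomial.comp_aeval]
    congr 2
    exact funext hX
  have hu : ∀ y : Submonoid.powers J, IsUnit (φ₁ y) := by
    rintro ⟨_, n, rfl⟩
    rw [map_pow, hJ]
    exact P.jacobian_isUnit.pow n
  let φ₂ : S →ₐ[R] Sb := IsLocalization.liftAlgHom (f := φ₁) hu
  let φ : (R ⧸ I) ⊗[R] S →ₐ[R ⧸ I] Sb :=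
    Algebra.TensorProduct.lift (Algebra.ofId _ _) φ₂ fun _ _ => Commute.all _ _
  let x : ι → S := fun i => algebraMap S₁ S (Ideal.Quotient.mk _ (X i))
  let y : ι → (R ⧸ I) ⊗[R] S := fun i => 1 ⊗ₜ x i
  let g : MvPolynomial ι (R ⧸ I) →ₐ[R ⧸ I] (R ⧸ I) ⊗[R] S := aeval y
  have hg : P.ker ≤ RingHom.ker g := by
    rw [← P.span_range_relation_eq_ker, Ideal.span_le]
    rintro _ ⟨i, rfl⟩
    change g (P.relation i) = 0
    rw [← hf i]
    simp only [g, aeval_map_algebraMap]
    have : aeval (R := R) y = (Algebra.TensorProduct.includeRight.comp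
        ((IsScalarTower.toAlgHom R S₁ S).comp (Ideal.Quotient.mkₐ R (Ideal.span (Set.range f))))) := by
      ext j; simp [y, x]; rfl
    rw [this]
    rw [AlgHom.comp_apply, AlgHom.comp_apply, show Ideal.Quotient.mkₐ R (Ideal.span (Set.range f)) (f i) = 0 from
      Ideal.Quotient.eq_zero_iff_mem.mpr (Ideal.subset_span (Set.mem_range_self i)), map_zero, map_zero]
  let e := Ideal.quotientKerAlgEquivOfSurjective (f := (aeval P.val : MvPolynomial ι (R ⧸ I) →ₐ[R ⧸ I] Sb))
    P.aeval_val_surjective
  let ψ : Sb →ₐ[R ⧸ I] (R ⧸ I) ⊗[R] S := (Ideal.Quotient.liftₐ _ g fun a ha => hg (by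
    rw [Algebra.Generators.ker_eq_ker_aeval_val]; exact ha)).comp e.symm.toAlgHom
  have hψ : ∀ p, ψ (aeval P.val p) = g p := fun p => by
    have he : e.symm (aeval P.val p) = Ideal.Quotient.mk _ p := by
      rw [AlgEquiv.symm_apply_eq]; rfl
    simp only [ψ, AlgHom.comp_apply, AlgEquiv.toAlgHom_eq_coe, AlgEquiv.coe_algHom, he]
    rfl
  have hφx : ∀ i, φ₂ (x i) = P.val i := fun i => by
    simp only [x, φ₂, IsLocalization.liftAlgHom_apply, IsLocalization.lift_eq]
    exact hX i
  refine ⟨S, inferInstance, inferInstance, hS, ⟨AlgEquiv.ofAlgHom φ ψ ?_ ?_⟩⟩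
  · refine AlgHom.cancel_right P.aeval_val_surjective |>.mp (MvPolynomial.algHom_ext fun i => ?_)
    simp only [AlgHom.comp_apply, AlgHom.id_apply, hψ]
    simp [φ, g, y, hφx]
  · refine Algebra.TensorProduct.ext (by ext) ?_
    refine IsLocalization.algHom_ext (Submonoid.powers J) (Ideal.Quotient.algHom_ext R (MvPolynomial.algHom_ext fun i => ?_))
    change ψ (φ (1 ⊗ₜ x i)) = 1 ⊗ₜ x i
    have h1 : φ (1 ⊗ₜ x i) = P.val i := by simp [φ, hφx]
    rw [h1, ← aeval_X (R := R ⧸ I) P.val i, hψ]
    simp [g, y]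

end Groth.Agent.S9436
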