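import Groth.Statements.S18155
import Groth.Agent.S9436
import Groth.Agent.Misc9.W2Ker
-- import your own Groth.Agent.* helpers here

set_option autoImplicit false
open TensorProduct
universe u v
open FrobAlg

namespace Groth.Agent.S18155

/-- Let k be an algebraically closed field of characteristic p, A a commutative k-algebra and C an étale
A-algebra. If A admits a flat lifting over W_2(k) together with a lift of Frobenius, then so does C.
(The source states this for an étale cover Y → X of smooth varieties over k; its argument uses only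
that Y is étale over X, and the affine case is stated here with no smoothness or finiteness
hypothesis on A over k.) -/
theorem result
    (p : ℕ) [Fact p.Prime] (k : Type u) [Field k] [IsAlgClosed k] [CharP k p]
    (A C : Type v) [CommRing A] [CommRing C] [Algebra k A] [Algebra k C]
    [Algebra A C] [IsScalarTower k A C] [Algebra.Etale A C]
    (hA : FrobAlg.IsFLiftable p k A) : FrobAlg.IsFLiftable p k C := by
  have : PerfectRing k p := PerfectField.toPerfectRing p
  obtain ⟨B, _, ι, π, Φ, hF⟩ := hA
  let I := RingHom.ker π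
  let e := RingHom.quotientKerEquivOfSurjective hF.surj
  letI : Algebra (B ⧸ I) C := ((algebraMap A C).comp e.toRingHom).toAlgebra
  letI : Algebra (B ⧸ I) A := e.toRingHom.toAlgebra
  have : IsScalarTower (B ⧸ I) A C := IsScalarTower.of_algebraMap_eq fun _ => rfl
  have : Algebra.Etale (B ⧸ I) A := Algebra.Etale.of_equiv
    { e with commutes' := fun _ => rfl }
  have : Algebra.Etale (B ⧸ I) C := Algebra.Etale.comp (B ⧸ I) A C
  obtain ⟨S, _, _, hS, ⟨g⟩⟩ := Groth.Agent.S9436.result B I C
  let πC : S →+* C := g.toRingHom.comp Algebra.TensorProduct.includeRight.toRingHom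
  have hπC : ∀ b : B, πC (algebraMap B S b) = algebraMap A C (π b) := fun b => by
    have h : (1 : B ⧸ I) ⊗ₜ[B] algebraMap B S b = algebraMap (B ⧸ I) ((B ⧸ I) ⊗[B] S) (Ideal.Quotient.mk I b) := by
      rw [Algebra.TensorProduct.algebraMap_apply, Algebra.algebraMap_self, RingHom.id_apply,
        Algebra.algebraMap_eq_smul_one, TensorProduct.tmul_smul, TensorProduct.smul_tmul']
      congr 1
      rw [Algebra.smul_def, mul_one]
      rfl
    change g ((1 : B ⧸ I) ⊗ₜ[B] algebraMap B S b) = _
    rw [h, AlgEquiv.commutes]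
    rfl
  have hsurj : Function.Surjective πC := fun c => by
    obtain ⟨z, rfl⟩ := g.surjective c
    obtain ⟨s, rfl⟩ := TensorProduct.mk_surjective B S (B ⧸ I) Ideal.Quotient.mk_surjective z
    exact ⟨s, rfl⟩
  have hker : RingHom.ker πC = I.map (algebraMap B S) := by
    apply le_antisymm
    · intro s hs
      have h0 : (1 : B ⧸ I) ⊗ₜ[B] s = 0 := g.injective (hs.trans (map_zero g).symm)
      have h1 := congrArg (TensorProduct.quotTensorEquivQuotSMul S I) h0
      rw [map_zero, ← map_one (Ideal.Quotient.mk I), TensorProduct.quotTensorEquivQuotSMul_mk_tmul,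
        one_smul] at h1
      have h2 : s ∈ I • (⊤ : Submodule B S) := (Submodule.Quotient.mk_eq_zero _).1 h1
      rw [Ideal.smul_top_eq_map] at h2
      exact h2
    · rw [Ideal.map_le_iff_le_comap]
      intro b hb
      rw [Ideal.mem_comap, RingHom.mem_ker, hπC, RingHom.mem_ker.1 hb, map_zero]
  let ιC : FrobAlg.W2 p k →+* S := (algebraMap B S).comp ι
  have hlift : FrobAlg.IsLift p k C S ιC πC :=
    { flat := hF.flat.comp (RingHom.flat_algebraMap_iff.2 inferInstance)
      surj := hsurj
      ker_eq := by rw [hker, show I = _ from hF.ker_eq, Ideal.map_map]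
      comm := RingHom.ext fun w => (hπC (ι w)).trans (by
        rw [← RingHom.comp_apply π ι, hF.comm, RingHom.comp_apply, RingHom.comp_apply,
          ← IsScalarTower.algebraMap_apply]) }
  obtain ⟨θ, hθ, hθι⟩ := Misc9.W2Lift.exists_theta p hF.toIsLift Φ hF.semi hF.red
  letI : Algebra B (FrobAlg.W2 p C) := ((WittGrp.truncMap p 2 (algebraMap A C)).comp θ).toAlgebra
  letI : Algebra B C := ((algebraMap A C).comp π).toAlgebra
  let r : FrobAlg.W2 p C →ₐ[B] C :=
    { FrobAlg.res p C with
      commutes' := fun b => by
        change FrobAlg.res p C (WittGrp.truncMap p 2 (algebraMap A C) (θ b)) = algebraMap A C (π b)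
        rw [← hθ, RingHom.comp_apply, FrobAlg.res_apply, FrobAlg.res_apply, WittGrp.coeff_truncMap] }
  let q : S →ₐ[B] C := { πC with commutes' := hπC }
  have hr : Function.Surjective r := fun c =>
    ⟨WittVector.truncate 2 (WittVector.teichmuller p c), by
      change FrobAlg.res p C _ = c
      rw [FrobAlg.res_apply, WittVector.coeff_truncate]; simp⟩
  have hnil : IsNilpotent (RingHom.ker r.toRingHom) := by
    refine ⟨2, ?_⟩
    rw [pow_two, Ideal.zero_eq_bot, eq_bot_iff, Ideal.mul_le]
    intro x hx y hy
    rw [Ideal.mem_bot]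
    exact Misc9.W2Ker.mul_eq_zero p (Misc9.W2Lift.cast_p_eq_zero (k := k) p C) hx hy
  let φ := Algebra.FormallySmooth.liftOfSurjective q r hr hnil
  have hφ : ∀ s, FrobAlg.res p C (φ s) = πC s := fun s => Algebra.FormallySmooth.liftOfSurjective_apply q r hr hnil s
  obtain ⟨Ψ, hΨ⟩ := Misc9.W2Lift.exists_frobLift p hlift φ.toRingHom (RingHom.ext hφ) (by
    ext1 w
    change φ (algebraMap B S (ι w)) = _
    rw [AlgHom.commutes]
    change WittGrp.truncMap p 2 (algebraMap A C) (θ (ι w)) = _
    rw [← RingHom.comp_apply θ ι, hθι]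
    refine Misc9.W2Lift.W2_ext p ?_ ?_ <;>
      simp [WittGrp.coeff_truncMap, ← IsScalarTower.algebraMap_apply])
  exact ⟨S, inferInstance, ιC, πC, Ψ, hΨ⟩

end Groth.Agent.S18155
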