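import Groth.Statements.S18175
import Groth.Agent.FunFldLib.Order

set_option autoImplicit false
open FunFld

namespace Groth.Agent.S18175
open Groth.Agent.FunFldLib


/-- Let `k` be an algebraically closed field of characteristic zero and `K/k` a function field of one
variable (the function field of a smooth projective curve over `k`). A `g^r_d` is a divisor `D` of
degree `d` with a subspace `V ⊆ L(D)` of dimension `r + 1`; for a place `P` and `n ≥ 0`, `V(-nP) = V
∩ L(D - nP)` is the space of members vanishing to order at least `n` at `P`, so `dim V(-nP)` counts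
the vanishing orders `m_0 < ⋯ < m_r` of `V` at `P` that are at least `n`, and the weight of `V` at
`P` is `∑_{n=1}^{d} dim V(-nP) - r(r+1)/2`. Assume `K` has genus `0` and the `g^r_d` `(D, V)` has at
least a cusp at the place `Q` (`dim V(-2Q) ≥ r`), and let `P, P'` be places other than `Q`. Then up
to a constant factor there is at most one member of `V` vanishing only at `P` and `P'`: if `f, g ∈
V` are nonzero and the divisors `div f + D`, `div g + D` are both supported on `{P, P'}`, then `g =
c f` for some `c ∈ k`. (In the source `Q` is the point where the rational component `Y` meets a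
chain of curves ending in a curve of positive genus, a situation that forces the cusp condition
assumed here.) (The source states this for curves over the complex numbers.) -/
theorem result
    (k : Type*) [Field k] [IsAlgClosed k] [CharZero k]
    (K : Type*) [Field K] [Algebra k K] (hK : FunFld.IsFunctionField k K) (hg0 : FunFld.genus k K = 0)
    (d r : ℕ) (D : FunFld.Divisor k K) (hD : D.deg = d)
    (V : Submodule k K) (hV : V ≤ FunFld.L D) (hVr : Module.finrank k ↥V = r + 1)
    (Q : FunFld.Place k K) (hcusp : r ≤ Module.finrank k ↥(V ⊓ FunFld.L (D - Finsupp.single Q ((2 : ℤ)))))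
    (P P' : FunFld.Place k K) (hP : P ≠ Q) (hP' : P' ≠ Q)
    (f g : K) (hf : f ∈ V) (hg : g ∈ V) (hf0 : f ≠ 0) (hg0' : g ≠ 0)
    (hfs : ∀ R : FunFld.Place k K, R ≠ P → R ≠ P' → (FunFld.div k f + D) R = 0)
    (hgs : ∀ R : FunFld.Place k K, R ≠ P → R ≠ P' → (FunFld.div k g + D) R = 0) :
    ∃ c : k, g = c • f := by
  classical
  have h1 : ∀ R : FunFld.Place k K, R.deg = 1 := deg_eq_one hK
  have key : ∀ (f g : K), f ∈ V → g ∈ V → f ≠ 0 → g ≠ 0 →
      (∀ R : FunFld.Place k K, R ≠ P → R ≠ P' → (FunFld.div k f + D) R = 0) →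
      (∀ R : FunFld.Place k K, R ≠ P → R ≠ P' → (FunFld.div k g + D) R = 0) →
      0 ≤ (FunFld.div k f - FunFld.div k g) P → ∃ c : k, g = c • f := by
    intro f g hf hg hf0 hg0' hfs hgs hm
    obtain ⟨m, hm'⟩ : ∃ m : ℕ, (FunFld.div k f - FunFld.div k g) P = m := ⟨_, (Int.toNat_of_nonneg hm).symm⟩
    set h := f / g
    have hh0 : h ≠ 0 := div_ne_zero hf0 hg0'
    have hdh : FunFld.div k h = FunFld.div k f - FunFld.div k g := by
      rw [show h = f * g⁻¹ from div_eq_mul_inv f g, div_mul hK hf0 (inv_ne_zero hg0'), div_inv hK, sub_eq_add_neg]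
    have hsupp : ∀ R, R ≠ P → R ≠ P' → FunFld.div k h R = 0 := fun R a b => by
      have e1 := hfs R a b; have e2 := hgs R a b
      simp only [hdh, Finsupp.add_apply, Finsupp.sub_apply] at *
      omega
    obtain ⟨t, htP, htQ⟩ := exists_rational_of_genus_zero hK hg0 (h1 P')
    by_cases hPP : P = P' ∨ m = 0
    · have hz : FunFld.div k h = 0 := by
        have hd0 := deg_div hK.1 h
        set E := FunFld.div k h
        have hE : E = Finsupp.single P' (E P') := Finsupp.ext fun R => by
          rcases eq_or_ne R P' with rfl | hR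
          · simp
          rw [Finsupp.single_eq_of_ne hR]
          rcases eq_or_ne R P with rfl | hR'
          · rcases hPP with e | e
            · exact absurd e hR
            · rw [hdh, hm', e]; rfl
          · exact hsupp R hR' hR
        rw [hE, deg_single, h1, Nat.cast_one, mul_one] at hd0
        rw [hE, hd0, Finsupp.single_zero]
      have hmem : h ∈ FunFld.L (0 : FunFld.Divisor k K) := by rw [mem_L_iff hK hh0, hz]; simp
      rw [L_zero hK, Submodule.mem_one] at hmem
      obtain ⟨c, hc⟩ := hmem
      have hc0 : c ≠ 0 := fun e => hh0 (by rw [← hc, e, map_zero])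
      refine ⟨c⁻¹, ?_⟩
      rw [Algebra.smul_def, map_inv₀, hc]
      simp only [h]
      field_simp
    exfalso
    push Not at hPP
    obtain ⟨hne, hm0⟩ := hPP
    -- an element of degree one vanishing at `P` with pole at `P'`
    have hres : ∀ (R : FunFld.Place k K) (z : K), R.1 z ≤ 1 → ∃ c : k, R.1 (z - algebraMap k K c) < 1 := by
      intro R z hz
      have := finite_residue hK R
      have : Algebra.IsIntegral k (IsLocalRing.ResidueField R.O) := @Algebra.IsIntegral.of_finite k (IsLocalRing.ResidueField R.O) _ _ _ this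
      obtain ⟨c, hc⟩ := (IsAlgClosed.algebraMap_bijective_of_isIntegral (k := k) (K := IsLocalRing.ResidueField R.O)).2 (IsLocalRing.residue R.O ⟨z, hz⟩)
      refine ⟨c, (residue_eq_zero (⟨z, hz⟩ - algebraMap k R.O c)).1 ?_⟩
      rw [map_sub, ← hc]; exact sub_self _
    have shift : ∀ c : k, P'.ord (t - algebraMap k K c) = -1 ∧ ∀ R, R ≠ P' → 0 ≤ R.ord (t - algebraMap k K c) := by
      intro c
      have ht0 : t ≠ 0 := fun e => by rw [e] at htP; simp [FunFld.Place.ord] at htP
      have hv : P'.1 (t - algebraMap k K c) = WithZero.exp 1 := by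
        have h2 : P'.1 t = WithZero.exp 1 := by rw [v_eq_exp P' ht0, htP, neg_neg]
        rw [Valuation.map_sub_eq_of_lt_left, h2]
        rw [h2]
        exact (P'.2.1 c).trans_lt (by simp only [← WithZero.exp_zero, WithZero.exp_lt_exp]; omega)
      refine ⟨by simp [FunFld.Place.ord, hv], fun R hR => ?_⟩
      rcases eq_or_ne (t - algebraMap k K c) 0 with h0 | h0
      · simp [h0, FunFld.Place.ord]
      exact (v_le_one_iff R h0).1 ((Valuation.map_sub _ _ _).trans (max_le ((v_le_one_iff R ht0).2 (htQ R hR)) (R.2.1 c)))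
    have simple : ∀ (c : k) (R : FunFld.Place k K), R ≠ P' → R.1 (t - algebraMap k K c) < 1 →
        ∀ S, FunFld.div k (t - algebraMap k K c) S = (Finsupp.single R 1 - Finsupp.single P' 1 : FunFld.Divisor k K) S := by
      intro c R hR hlt
      obtain ⟨a1, a2⟩ := shift c
      set s := t - algebraMap k K c
      have hs0 : s ≠ 0 := fun e => by rw [e] at a1; simp [FunFld.Place.ord] at a1
      have a3 : 0 < R.ord s := (v_lt_one_iff R hs0).1 hlt
      have hle : (Finsupp.single R 1 - Finsupp.single P' 1 : FunFld.Divisor k K) ≤ FunFld.div k s := fun S => by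
        rw [div_apply hK.1]
        rcases eq_or_ne S P' with rfl | hS
        · simp [Finsupp.single_eq_of_ne (Ne.symm hR), a1]
        rcases eq_or_ne S R with rfl | hS'
        · simp [Finsupp.single_eq_of_ne hR]; omega
        · simpa [Finsupp.single_eq_of_ne hS, Finsupp.single_eq_of_ne hS'] using a2 S hS
      rw [(deg_mono_aux (deg_pos hK) hle).2 (by rw [deg_div hK.1, deg_sub, deg_single, deg_single, h1, h1]; ring)]
      intro S; rfl
    have ht0 : t ≠ 0 := fun e => by rw [e] at htP; simp [FunFld.Place.ord] at htP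
    obtain ⟨cP, hcP⟩ := hres P t ((v_le_one_iff P ht0).2 (htQ P hne))
    set u := t - algebraMap k K cP
    have hdu : ∀ S, FunFld.div k u S = (Finsupp.single P 1 - Finsupp.single P' 1 : FunFld.Divisor k K) S := simple cP P hne hcP
    have hu0 : u ≠ 0 := fun e => by
      have := hdu P
      rw [e, div_apply hK.1] at this
      simp [Finsupp.single_eq_of_ne hne, FunFld.Place.ord] at this
    obtain ⟨cQ, hcQ⟩ := hres Q t ((v_le_one_iff Q ht0).2 (htQ Q (Ne.symm hP')))
    set w := t - algebraMap k K cQ
    have hdw : ∀ S, FunFld.div k w S = (Finsupp.single Q 1 - Finsupp.single P' 1 : FunFld.Divisor k K) S := simple cQ Q (Ne.symm hP') hcQ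
    have hw0 : w ≠ 0 := fun e => by
      have := hdw Q
      rw [e, div_apply hK.1] at this
      simp [Finsupp.single_eq_of_ne (Ne.symm hP'), FunFld.Place.ord] at this
    have hwQ : Q.ord w = 1 := by
      rw [← div_apply hK.1, hdw]; simp [Finsupp.single_eq_of_ne (Ne.symm hP')]
    -- `h = c₁ u ^ m`
    have hdivpow : FunFld.div k h = FunFld.div k (u ^ m) := by
      have hd0 := deg_div hK.1 h
      have hP1 : FunFld.div k h P = m := by rw [hdh]; exact hm'
      have hE : FunFld.div k h = Finsupp.single P (m : ℤ) + Finsupp.single P' (FunFld.div k h P') := Finsupp.ext fun R => by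
        rcases eq_or_ne R P' with rfl | hR
        · simp [Finsupp.single_eq_of_ne (Ne.symm hne)]
        rcases eq_or_ne R P with rfl | hR'
        · simp [Finsupp.single_eq_of_ne hR, hP1]
        · simp [Finsupp.single_eq_of_ne hR, Finsupp.single_eq_of_ne hR', hsupp R hR' hR]
      rw [hE, deg_add, deg_single, deg_single, h1, h1] at hd0
      ext R
      rw [div_apply hK.1 (u ^ m), ord_pow R hu0, ← div_apply hK.1 u, hdu, hE]
      have e : FunFld.div k h P' = -(m : ℤ) := by push_cast at hd0; omega
      simp only [e, Finsupp.add_apply, Finsupp.sub_apply, Finsupp.single_apply]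
      split_ifs <;> push_cast <;> ring
    have hmem : h / u ^ m ∈ FunFld.L (0 : FunFld.Divisor k K) := by
      rw [mem_L_iff hK (div_ne_zero hh0 (pow_ne_zero _ hu0)), div_eq_mul_inv,
        div_mul hK hh0 (inv_ne_zero (pow_ne_zero _ hu0)), div_inv hK, hdivpow]
      simp
    rw [L_zero hK, Submodule.mem_one] at hmem
    obtain ⟨c₁, hc₁⟩ := hmem
    have hhu : h = algebraMap k K c₁ * u ^ m := by rw [hc₁, div_mul_cancel₀ _ (pow_ne_zero _ hu0)]
    have hc10 : c₁ ≠ 0 := fun e => hh0 (by rw [hhu, e, map_zero, zero_mul])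
    -- `u = a + w` at `Q`
    set a := cQ - cP
    have hua : u = algebraMap k K a + w := by simp only [u, w, a, map_sub]; ring
    have huQ : Q.1 u = 1 := by
      rw [v_eq_exp Q hu0, ← div_apply hK.1, hdu]
      simp [Finsupp.single_eq_of_ne (Ne.symm hP), Finsupp.single_eq_of_ne (Ne.symm hP')]
    have ha0 : a ≠ 0 := fun e => by
      rw [hua, e, map_zero, zero_add] at huQ
      exact absurd hcQ (not_lt.2 huQ.ge)
    have hsum : Q.1 (∑ i ∈ Finset.range m, u ^ i * (algebraMap k K a) ^ (m - 1 - i)) = 1 := by
      have hb : ∀ i, Q.1 (u ^ i * (algebraMap k K a) ^ (m - 1 - i) - (algebraMap k K a) ^ i * (algebraMap k K a) ^ (m - 1 - i)) < 1 := fun i => by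
        rw [← sub_mul, map_mul, map_pow, v_algebraMap Q ha0, one_pow, mul_one]
        induction i with
        | zero => simp
        | succ i ih =>
          rw [show u ^ (i + 1) - (algebraMap k K a) ^ (i + 1) = u * (u ^ i - (algebraMap k K a) ^ i) + (algebraMap k K a) ^ i * (u - algebraMap k K a) by ring]
          refine (Valuation.map_add _ _ _).trans_lt (max_lt ?_ ?_)
          · rwa [map_mul, huQ, one_mul]
          · rw [map_mul, map_pow, v_algebraMap Q ha0, one_pow, one_mul, hua, add_sub_cancel_left]
            exact hcQ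
      have hmain : Q.1 ((m : K) * (algebraMap k K a) ^ (m - 1)) = 1 := by
        rw [map_mul, map_pow, v_algebraMap Q ha0, one_pow, mul_one, ← map_natCast (algebraMap k K), v_algebraMap Q]
        exact Nat.cast_ne_zero.2 hm0
      have e : ∑ i ∈ Finset.range m, u ^ i * (algebraMap k K a) ^ (m - 1 - i) = (m : K) * (algebraMap k K a) ^ (m - 1) +
          ∑ i ∈ Finset.range m, (u ^ i * (algebraMap k K a) ^ (m - 1 - i) - (algebraMap k K a) ^ i * (algebraMap k K a) ^ (m - 1 - i)) := by
        rw [Finset.sum_sub_distrib, Finset.sum_congr rfl (fun i hi => by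
          rw [← pow_add, show i + (m - 1 - i) = m - 1 by rw [Finset.mem_range] at hi; omega] :
          ∀ i ∈ Finset.range m, (algebraMap k K a) ^ i * (algebraMap k K a) ^ (m - 1 - i) = (algebraMap k K a) ^ (m - 1))]
        rw [Finset.sum_const, Finset.card_range, nsmul_eq_mul]
        ring
      rw [e, Valuation.map_add_eq_of_lt_left]
      · exact hmain
      · rw [hmain]
        exact Valuation.map_sum_lt _ one_ne_zero fun i _ => hb i
    -- the difference `f - c g` vanishes exactly to order one at `Q`
    set c := c₁ * a ^ m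
    have hd : f - c • g = g * (algebraMap k K c₁ * ((u - algebraMap k K a) * ∑ i ∈ Finset.range m, u ^ i * (algebraMap k K a) ^ (m - 1 - i))) := by
      rw [mul_comm (u - _), geom_sum₂_mul]
      have : f = h * g := (div_mul_cancel₀ f hg0').symm
      rw [this, hhu, Algebra.smul_def, map_mul, map_pow]
      ring
    have hgQ : Q.1 g = WithZero.exp (D Q) := by
      have := hgs Q (Ne.symm hP) (Ne.symm hP')
      rw [Finsupp.add_apply, div_apply hK.1] at this
      rw [v_eq_exp Q hg0']; congr 1; omega
    have hfin := finiteDimensional_of_le_L hK hV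
    have hQ1 : f - c • g ∈ V ⊓ FunFld.L (D - Finsupp.single Q 1) := by
      refine ⟨V.sub_mem hf (V.smul_mem c hg), fun R => ?_⟩
      rcases eq_or_ne R Q with rfl | hR
      · rw [hd, map_mul, map_mul, map_mul, hsum, v_algebraMap R hc10, hua, add_sub_cancel_left, v_eq_exp R hw0, hwQ, hgQ]
        simp only [mul_one, one_mul, ← WithZero.exp_add, WithZero.exp_le_exp, Finsupp.sub_apply, Finsupp.single_eq_same]
        omega
      · simpa [Finsupp.single_eq_of_ne hR] using hV (V.sub_mem hf (V.smul_mem c hg)) R
    have hQ2 : f - c • g ∉ FunFld.L (D - Finsupp.single Q ((2 : ℤ))) := fun hmem => by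
      have := hmem Q
      rw [hd, map_mul, map_mul, map_mul, hsum, v_algebraMap Q hc10, hua, add_sub_cancel_left, v_eq_exp Q hw0, hwQ, hgQ] at this
      simp only [mul_one, one_mul, ← WithZero.exp_add, WithZero.exp_le_exp, Finsupp.sub_apply, Finsupp.single_eq_same] at this
      omega
    have hlt : V ⊓ FunFld.L (D - Finsupp.single Q ((2 : ℤ))) < V ⊓ FunFld.L (D - Finsupp.single Q 1) :=
      lt_of_le_of_ne (inf_le_inf_left _ (L_mono (sub_le_sub_left (Finsupp.single_le_single.2 (by norm_num)) _)))
        fun e => hQ2 (e ▸ hQ1 : f - c • g ∈ V ⊓ FunFld.L (D - Finsupp.single Q ((2 : ℤ)))).2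
    have hlt2 : V ⊓ FunFld.L (D - Finsupp.single Q 1) < V :=
      lt_of_le_of_ne inf_le_left fun e => by
        have hg1 : g ∈ V ⊓ FunFld.L (D - Finsupp.single Q 1) := e.symm ▸ hg
        have := hg1.2 Q
        rw [hgQ, WithZero.exp_le_exp] at this
        simp at this
    have : FiniteDimensional k ↥(V ⊓ FunFld.L (D - Finsupp.single Q 1)) := Submodule.finiteDimensional_of_le inf_le_left
    have a1 := Submodule.finrank_lt_finrank_of_lt hlt
    have a2 := Submodule.finrank_lt_finrank_of_lt hlt2
    omega
  rcases le_total 0 ((FunFld.div k f - FunFld.div k g) P) with h | h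
  · exact key f g hf hg hf0 hg0' hfs hgs h
  · obtain ⟨c, hc⟩ := key g f hg hf hg0' hf0 hgs hfs (by
      simp only [Finsupp.sub_apply] at h ⊢; omega)
    have hc0 : c ≠ 0 := fun e => hf0 (by rw [hc, e, zero_smul])
    exact ⟨c⁻¹, by rw [hc, smul_smul, inv_mul_cancel₀ hc0, one_smul]⟩

end Groth.Agent.S18175
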