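import Groth.Statements.S18176
import Groth.Agent.FunFldLib.Order

set_option autoImplicit false
open FunFld

namespace Groth.Agent.S18176
open Groth.Agent.FunFldLib


/-- Let `k` be an algebraically closed field of characteristic zero and `K/k` a function field of one
variable (the function field of a smooth projective curve over `k`). A `g^r_d` is a divisor `D` of
degree `d` with a subspace `V ⊆ L(D)` of dimension `r + 1`; for a place `P` and `n ≥ 0`, `V(-nP) = V
∩ L(D - nP)` is the space of members vanishing to order at least `n` at `P`, so `dim V(-nP)` counts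
the vanishing orders `m_0 < ⋯ < m_r` of `V` at `P` that are at least `n`, and the weight of `V` at
`P` is `∑_{n=1}^{d} dim V(-nP) - r(r+1)/2`. For a `g^r_d` `(D, V)` and two distinct places `P ≠ Q`:
the vanishing sequence at `P` is bounded by `m_i(V, P) ≤ d - m_{r-i}(V, Q)`, that is `dim V(-nP) +
dim V(-(d+1-n)Q) ≤ r + 1` for `0 ≤ n ≤ d + 1`; consequently `w(V, P) + w(V, Q) ≤ (r+1)(d-r)`, that
is `∑_{n=1}^{d} dim V(-nP) + ∑_{n=1}^{d} dim V(-nQ) ≤ (r+1)d`. (In the source the curve is an
elliptic tail of a degenerate curve, `P` its node and `Q` the limit of a moving ramification point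
with vanishing sequence `(m_i)` there, and the bound is rewritten as `w(V, P) ≤ r(g-1) + ρ + r - 1`
with `ρ = 1 + g - (r+1)(g+r-d) - ∑ (m_i - i)` the moving-point Brill–Noether number of the whole
genus-`g` curve, where the printed statement has `r(g+1)` for `r(g-1)`; the argument uses only `P ≠
Q`, so the row is stated for any function field.) (The source states this for curves over the
complex numbers.) -/
theorem result
    (k : Type*) [Field k] [IsAlgClosed k] [CharZero k]
    (K : Type*) [Field K] [Algebra k K] (hK : FunFld.IsFunctionField k K)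
    (d r : ℕ) (D : FunFld.Divisor k K) (hD : D.deg = d)
    (V : Submodule k K) (hV : V ≤ FunFld.L D) (hVr : Module.finrank k ↥V = r + 1)
    (P Q : FunFld.Place k K) (hPQ : P ≠ Q) :
    (∀ n : ℕ, n ≤ d + 1 →
      Module.finrank k ↥(V ⊓ FunFld.L (D - Finsupp.single P ((n : ℤ)))) + Module.finrank k ↥(V ⊓ FunFld.L (D - Finsupp.single Q ((d : ℤ) + 1 - n))) ≤ r + 1) ∧
    (∑ n ∈ Finset.range d, Module.finrank k ↥(V ⊓ FunFld.L (D - Finsupp.single P ((n : ℤ) + 1)))) +
      (∑ n ∈ Finset.range d, Module.finrank k ↥(V ⊓ FunFld.L (D - Finsupp.single Q ((n : ℤ) + 1)))) ≤ (r + 1) * d := by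
  classical
  have h1 : ∀ R : FunFld.Place k K, R.deg = 1 := deg_eq_one hK
  have hfin := finiteDimensional_of_le_L hK hV
  have key : ∀ n : ℕ, n ≤ d + 1 →
      Module.finrank k ↥(V ⊓ FunFld.L (D - Finsupp.single P ((n : ℤ)))) + Module.finrank k ↥(V ⊓ FunFld.L (D - Finsupp.single Q ((d : ℤ) + 1 - n))) ≤ r + 1 := by
    intro n hn
    set A := V ⊓ FunFld.L (D - Finsupp.single P ((n : ℤ)))
    set B := V ⊓ FunFld.L (D - Finsupp.single Q ((d : ℤ) + 1 - n))
    have : FiniteDimensional k A := Submodule.finiteDimensional_of_le inf_le_left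
    have : FiniteDimensional k B := Submodule.finiteDimensional_of_le inf_le_left
    have hbot : A ⊓ B = ⊥ := eq_bot_iff.2 fun x hx => by
      have hx' : x ∈ FunFld.L (D - Finsupp.single P ((n : ℤ)) - Finsupp.single Q ((d : ℤ) + 1 - n)) := fun R => by
        rcases eq_or_ne R Q with rfl | hR
        · simpa [Finsupp.single_eq_of_ne (Ne.symm hPQ)] using hx.2.2 R
        · simpa [Finsupp.single_eq_of_ne hR] using hx.1.2 R
      rwa [L_eq_bot_of_deg_neg hK (by simp only [deg_sub, deg_single, h1, hD]; push_cast; omega)] at hx'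
    have h2 := Submodule.finrank_sup_add_finrank_inf_eq A B
    have h3 : Module.finrank k ↥(A ⊔ B) ≤ Module.finrank k V :=
      Submodule.finrank_mono (sup_le inf_le_left inf_le_left)
    rw [hbot, finrank_bot] at h2
    omega
  refine ⟨key, ?_⟩
  rw [← Finset.sum_range_reflect (fun n => Module.finrank k ↥(V ⊓ FunFld.L (D - Finsupp.single Q ((n : ℤ) + 1)))) d,
    ← Finset.sum_add_distrib]
  refine (Finset.sum_le_card_nsmul _ _ (r + 1) fun j hj => ?_).trans_eq (by simp [mul_comm])
  rw [Finset.mem_range] at hj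
  have := key (j + 1) (by omega)
  have e : (((d - 1 - j : ℕ) : ℤ) + 1) = (d : ℤ) + 1 - ((j + 1 : ℕ) : ℤ) := by omega
  rw [e]
  push_cast at this ⊢
  exact this

end Groth.Agent.S18176
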