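import Groth.Statements.S18177
import Groth.Agent.FunFldLib.Order

set_option autoImplicit false
open FunFld

namespace Groth.Agent.S18177
open Groth.Agent.FunFldLib


/-- Let `k` be an algebraically closed field of characteristic zero and `K/k` a function field of one
variable (the function field of a smooth projective curve over `k`). A `g^r_d` is a divisor `D` of
degree `d` with a subspace `V ⊆ L(D)` of dimension `r + 1`; for a place `P` and `n ≥ 0`, `V(-nP) = V
∩ L(D - nP)` is the space of members vanishing to order at least `n` at `P`, so `dim V(-nP)` counts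
the vanishing orders `m_0 < ⋯ < m_r` of `V` at `P` that are at least `n`, and the weight of `V` at
`P` is `∑_{n=1}^{d} dim V(-nP) - r(r+1)/2`. Let `(D, V)` be a `g^r_d` with `r ≥ 1` and `P ≠ Q`
places at which the weights are large: `w(V, P) + w(V, Q) ≥ (r+1)(d-r) - (r-1)`, that is `(r+1)d + 1
≤ ∑_{n=1}^{d} dim V(-nP) + ∑_{n=1}^{d} dim V(-nQ) + r`. Then `V` contains members with divisors `m_i
Q + (d - m_i) P` for two different indices `i`, and hence `m(Q - P)` is a principal divisor for some
`1 ≤ m ≤ d`. (In the source `K` is an elliptic tail of a degenerate curve, `P` its node and `Q` the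
limit of the moving ramification point, the weight hypothesis coming from `ρ ≤ 0`; it concludes that
only finitely many `Q` are possible. The torsion assertion holds in any genus and is what is stated
here.) (The source states this for curves over the complex numbers.) -/
theorem result
    (k : Type*) [Field k] [IsAlgClosed k] [CharZero k]
    (K : Type*) [Field K] [Algebra k K] (hK : FunFld.IsFunctionField k K)
    (d r : ℕ) (hr : 1 ≤ r) (D : FunFld.Divisor k K) (hD : D.deg = d)
    (V : Submodule k K) (hV : V ≤ FunFld.L D) (hVr : Module.finrank k ↥V = r + 1)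
    (P Q : FunFld.Place k K) (hPQ : P ≠ Q)
    (hw : (r + 1) * d + 1 ≤
      (∑ n ∈ Finset.range d, Module.finrank k ↥(V ⊓ FunFld.L (D - Finsupp.single P ((n : ℤ) + 1)))) +
        (∑ n ∈ Finset.range d, Module.finrank k ↥(V ⊓ FunFld.L (D - Finsupp.single Q ((n : ℤ) + 1)))) + r) :
    ∃ m : ℕ, 1 ≤ m ∧ m ≤ d ∧ ∃ h : K, h ≠ 0 ∧
      FunFld.div k h = Finsupp.single Q (m : ℤ) - Finsupp.single P (m : ℤ) := by
  classical
  have h1 : ∀ R : FunFld.Place k K, R.deg = 1 := deg_eq_one hK
  have hfin := finiteDimensional_of_le_L hK hV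
  let A : ℕ → ℕ := fun n => Module.finrank k ↥(V ⊓ FunFld.L (D - Finsupp.single P ((n : ℤ))))
  let B : ℕ → ℕ := fun n => Module.finrank k ↥(V ⊓ FunFld.L (D - Finsupp.single Q ((n : ℤ))))
  let I : ℕ → Submodule k K := fun n => (V ⊓ FunFld.L (D - Finsupp.single P ((n : ℤ)))) ⊓ (V ⊓ FunFld.L (D - Finsupp.single Q ((d : ℤ) - n)))
  have hI : ∀ n ≤ d, A n + B (d - n) ≤ r + 1 + Module.finrank k ↥(I n) ∧ Module.finrank k ↥(I n) ≤ 1 := by
    intro n hn
    have : FiniteDimensional k ↥(V ⊓ FunFld.L (D - Finsupp.single P ((n : ℤ)))) := Submodule.finiteDimensional_of_le inf_le_left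
    have : FiniteDimensional k ↥(V ⊓ FunFld.L (D - Finsupp.single Q ((d : ℤ) - n))) := Submodule.finiteDimensional_of_le inf_le_left
    have h2 := Submodule.finrank_sup_add_finrank_inf_eq (V ⊓ FunFld.L (D - Finsupp.single P ((n : ℤ)))) (V ⊓ FunFld.L (D - Finsupp.single Q ((d : ℤ) - n)))
    have h3 : Module.finrank k ↥((V ⊓ FunFld.L (D - Finsupp.single P ((n : ℤ)))) ⊔ (V ⊓ FunFld.L (D - Finsupp.single Q ((d : ℤ) - n)))) ≤ Module.finrank k V :=
      Submodule.finrank_mono (sup_le inf_le_left inf_le_left)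
    have e : ((d - n : ℕ) : ℤ) = (d : ℤ) - n := by omega
    have hB : B (d - n) = Module.finrank k ↥(V ⊓ FunFld.L (D - Finsupp.single Q ((d : ℤ) - n))) := by
      simp only [B]; rw [e]
    refine ⟨by rw [hB]; simp only [A, I]; omega, ?_⟩
    have hle : I n ≤ FunFld.L (D - Finsupp.single P ((n : ℤ)) - Finsupp.single Q ((d : ℤ) - n)) := fun x hx R => by
      rcases eq_or_ne R Q with rfl | hR
      · simpa [Finsupp.single_eq_of_ne (Ne.symm hPQ)] using hx.2.2 R
      · simpa [Finsupp.single_eq_of_ne hR] using hx.1.2 R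
    have := finite_L hK (D - Finsupp.single P ((n : ℤ)) - Finsupp.single Q ((d : ℤ) - n))
    refine (Submodule.finrank_mono hle).trans ?_
    set E := D - Finsupp.single P ((n : ℤ)) - Finsupp.single Q ((d : ℤ) - n)
    have hE : E.deg = 0 := by simp only [E, deg_sub, deg_single, h1, hD]; push_cast; ring
    show FunFld.ell E ≤ 1
    by_contra hlt
    obtain ⟨x, hx0, hx⟩ := exists_mem_L hK (show 0 < FunFld.ell E by omega)
    have hz := (deg_mono_aux (deg_pos hK) hx).2 (by rw [deg_zero, deg_add, deg_div hK.1, hE, add_zero])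
    have := ell_add_div hK E hx0
    rw [← hz, ell_zero hK] at this
    omega
  set T := (Finset.range (d + 1)).filter fun n => I n ≠ ⊥
  have hsum : ∑ n ∈ Finset.range (d + 1), (A n + B (d - n)) ≤ (d + 1) * (r + 1) + T.card := by
    have h2 : ∀ n ∈ Finset.range (d + 1), A n + B (d - n) ≤ (r + 1) + if I n ≠ ⊥ then 1 else 0 := by
      intro n hn
      obtain ⟨ha, hb⟩ := hI n (by rw [Finset.mem_range] at hn; omega)
      split_ifs with h
      · omega
      · rw [not_not] at h; rw [h, finrank_bot] at ha; omega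
    refine (Finset.sum_le_sum h2).trans_eq ?_
    rw [Finset.sum_add_distrib, Finset.sum_const, Finset.card_range, smul_eq_mul, Finset.sum_boole]
    simp [T]
  have hlow : (r + 1) * (d + 1) + 2 ≤ ∑ n ∈ Finset.range (d + 1), (A n + B (d - n)) := by
    rw [Finset.sum_add_distrib]
    have e := Finset.sum_range_reflect B (d + 1)
    simp only [Nat.add_sub_cancel] at e
    rw [e, Finset.sum_range_succ' A, Finset.sum_range_succ' B]
    have a0 : A 0 = r + 1 := by
      show Module.finrank k ↥(V ⊓ FunFld.L (D - Finsupp.single P ((0 : ℕ) : ℤ))) = r + 1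
      rw [Nat.cast_zero, Finsupp.single_zero, sub_zero, inf_eq_left.2 hV, hVr]
    have b0 : B 0 = r + 1 := by
      show Module.finrank k ↥(V ⊓ FunFld.L (D - Finsupp.single Q ((0 : ℕ) : ℤ))) = r + 1
      rw [Nat.cast_zero, Finsupp.single_zero, sub_zero, inf_eq_left.2 hV, hVr]
    rw [a0, b0]
    have : (r + 1) * (d + 1) = (r + 1) * d + (r + 1) := by ring
    have hA : ∑ x ∈ Finset.range d, A (x + 1) = ∑ x ∈ Finset.range d, Module.finrank k ↥(V ⊓ FunFld.L (D - Finsupp.single P ((x : ℤ) + 1))) :=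
      Finset.sum_congr rfl fun x _ => by simp only [A]; rw [Nat.cast_succ]
    have hB : ∑ x ∈ Finset.range d, B (x + 1) = ∑ x ∈ Finset.range d, Module.finrank k ↥(V ⊓ FunFld.L (D - Finsupp.single Q ((x : ℤ) + 1))) :=
      Finset.sum_congr rfl fun x _ => by simp only [B]; rw [Nat.cast_succ]
    omega
  have hT : 1 < T.card := by
    have e : (d + 1) * (r + 1) = (r + 1) * (d + 1) := mul_comm _ _
    omega
  obtain ⟨a, ha, b, hb, hab⟩ : ∃ a ∈ T, ∃ b ∈ T, a < b := by
    obtain ⟨a, ha, b, hb, hab⟩ := Finset.one_lt_card.1 hT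
    rcases lt_or_gt_of_ne hab with h | h
    exacts [⟨a, ha, b, hb, h⟩, ⟨b, hb, a, ha, h⟩]
  have wit : ∀ n ∈ T, n ≤ d ∧ ∃ f : K, f ≠ 0 ∧ FunFld.div k f = Finsupp.single P (n : ℤ) + Finsupp.single Q ((d : ℤ) - n) - D := by
    intro n hn
    obtain ⟨hn1, hn2⟩ := Finset.mem_filter.1 hn
    rw [Finset.mem_range] at hn1
    refine ⟨by omega, ?_⟩
    obtain ⟨f, hf, hf0⟩ := Submodule.exists_mem_ne_zero_of_ne_bot hn2
    refine ⟨f, hf0, ?_⟩
    have hle : f ∈ FunFld.L (D - Finsupp.single P ((n : ℤ)) - Finsupp.single Q ((d : ℤ) - n)) := fun R => by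
      rcases eq_or_ne R Q with rfl | hR
      · simpa [Finsupp.single_eq_of_ne (Ne.symm hPQ)] using hf.2.2 R
      · simpa [Finsupp.single_eq_of_ne hR] using hf.1.2 R
    have hz := (deg_mono_aux (deg_pos hK) ((mem_L_iff hK hf0 _).1 hle)).2 (by
      simp only [deg_zero, deg_add, deg_div hK.1, deg_sub, deg_single, h1, hD]; push_cast; ring)
    rw [← sub_eq_zero]
    refine Eq.trans ?_ hz.symm
    abel
  obtain ⟨ha', f, hf0, hf⟩ := wit a ha
  obtain ⟨hb', g, hg0, hg⟩ := wit b hb
  refine ⟨b - a, by omega, by omega, f / g, div_ne_zero hf0 hg0, ?_⟩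
  rw [div_eq_mul_inv, div_mul hK hf0 (inv_ne_zero hg0), div_inv hK, hf, hg]
  ext R
  simp only [Finsupp.add_apply, Finsupp.sub_apply, Finsupp.neg_apply, Finsupp.single_apply]
  split_ifs <;> omega

end Groth.Agent.S18177
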