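import Groth.Statements.S18181
import Groth.Agent.FunFldLib.LimitSeries

set_option autoImplicit false
open FunFld

namespace Groth.Agent.S18181

open Groth.Agent.FunFldLib


/-- Let `k` be an algebraically closed field of characteristic zero and `K/k` a function field of one
variable (the function field of a smooth projective curve over `k`). A `g^r_d` is a divisor `D` of
degree `d` with a subspace `V ⊆ L(D)` of dimension `r + 1`; for a place `P` and `n ≥ 0`, `V(-nP) = V
∩ L(D - nP)` is the space of members vanishing to order at least `n` at `P`, so `dim V(-nP)` counts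
the vanishing orders `m_0 < ⋯ < m_r` of `V` at `P` that are at least `n`, and the weight of `V` at
`P` is `∑_{n=1}^{d} dim V(-nP) - r(r+1)/2`. Aspects `(D_Y, V_Y)` on `K_Y` and `(D_Z, V_Z)` on `K_Z`
of a limit `g^r_d` on two components meeting in a node (a place `P` of `K_Y` and a place `Q` of
`K_Z`) are compatible there when `m_i(V_Y, P) + m_{r-i}(V_Z, Q) = d` for every `i`, equivalently
`dim V_Y(-nP) + dim V_Z(-(d+1-n)Q) = r + 1` for `0 ≤ n ≤ d + 1`. A backbone is a chain of rational
components `Z_0, …, Z_N` (function fields `K_i` of genus `0`), `Z_i` meeting `Z_{i+1}` in a node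
given by a place `B_i` of `K_i` and a place `A_{i+1}` of `K_{i+1}`, the two node places `A_i ≠ B_i`
of an inner component being distinct; each `Z_i` carries an aspect `(D_i, V_i)` of a limit `g^r_d`
and consecutive aspects are compatible at the nodes. A set `T` of indices marks the components
carrying a tail: for `i ∈ T` the aspect `V_i` has at least a cusp (`dim V_i(-2Q_i) ≥ r`) at a
further place `Q_i` of `K_i`, distinct from the node places of `Z_i`. (In the source these are the
backbone components of a flag curve to which a chain of rational curves ending in an elliptic tail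
is attached, `T` has `g` elements, and the cusp is forced by that chain.) Then for an inner backbone
component `Z_i` with `i ∈ T` the weight of its aspect at the place `Q_i` where the tail is attached
is at most `(r+1)(d-r) - r · |T ∖ {i}|` (in the source: `(r+1)(d-r) - r(g-1)`), that is `∑_{n=1}^{d}
dim V_i(-nQ_i) + r · |T ∖ {i}| + r(r+1)/2 ≤ (r+1)d`. (The source states this for curves over the
complex numbers.) -/
theorem result
    (k : Type*) [Field k] [IsAlgClosed k] [CharZero k]
    (N : ℕ) (Z : Fin (N + 1) → Type*) [∀ i, Field (Z i)] [∀ i, Algebra k (Z i)]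
    (hZ : ∀ i, FunFld.IsFunctionField k (Z i)) (hrat : ∀ i, FunFld.genus k (Z i) = 0)
    (d r : ℕ) (D : ∀ i, FunFld.Divisor k (Z i)) (hD : ∀ i, (D i).deg = d)
    (V : ∀ i, Submodule k (Z i)) (hV : ∀ i, V i ≤ FunFld.L (D i))
    (hVr : ∀ i, Module.finrank k ↥(V i) = r + 1)
    (A B : ∀ i, FunFld.Place k (Z i))
    (hAB : ∀ i : Fin (N + 1), 0 < (i : ℕ) → (i : ℕ) < N → A i ≠ B i)
    (hcomp : ∀ (l : Fin N) (m : ℕ), m ≤ d + 1 →
      Module.finrank k ↥((V l.castSucc) ⊓ FunFld.L ((D l.castSucc) - Finsupp.single (B l.castSucc) ((m : ℤ)))) +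
        Module.finrank k ↥((V l.succ) ⊓ FunFld.L ((D l.succ) - Finsupp.single (A l.succ) ((d : ℤ) + 1 - m))) = r + 1)
    (T : Finset (Fin (N + 1))) (Q : ∀ i, FunFld.Place k (Z i))
    (hQA : ∀ i ∈ T, 0 < (i : ℕ) → Q i ≠ A i) (hQB : ∀ i ∈ T, (i : ℕ) < N → Q i ≠ B i)
    (hcusp : ∀ i ∈ T, r ≤ Module.finrank k ↥((V i) ⊓ FunFld.L ((D i) - Finsupp.single (Q i) ((2 : ℤ)))))
    (i : Fin (N + 1)) (hiT : i ∈ T) (hi0 : 0 < (i : ℕ)) (hiN : (i : ℕ) < N) :
    (∑ n ∈ Finset.range d, Module.finrank k ↥((V i) ⊓ FunFld.L ((D i) - Finsupp.single (Q i) ((n : ℤ) + 1)))) +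
      r * (T.erase i).card + r * (r + 1) / 2 ≤ (r + 1) * d := by
  classical
  have hR : 2 * (r * (r + 1) / 2) = r * (r + 1) := Nat.two_mul_div_two_of_even (Nat.even_mul_succ_self r)
  set a : Fin (N + 1) → ℤ := fun j => 2 * (vsum (D j) (V j) (A j) d : ℤ) - r * (r + 1) with ha
  set b : Fin (N + 1) → ℤ := fun j => 2 * (vsum (D j) (V j) (B j) d : ℤ) - r * (r + 1) with hb
  set W : ℤ := 2 * ((r : ℤ) + 1) * ((d : ℤ) - r) with hW
  have hnode : ∀ j : Fin N, b j.castSucc + a j.succ = W := by
    intro j
    have h := vsum_node _ _ _ _ _ _ d r (hcomp j)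
    have h' : ((vsum (D j.castSucc) (V j.castSucc) (B j.castSucc) d +
      vsum (D j.succ) (V j.succ) (A j.succ) d : ℕ) : ℤ) = (((r + 1) * d : ℕ) : ℤ) := by rw [h]
    simp only [ha, hb, hW]
    push_cast at h'
    linarith
  -- the bound on a single component, with any further set of places
  have hloc : ∀ (j : Fin (N + 1)) (X : Finset (FunFld.Place k (Z j))),
      (0 < (j : ℕ) → A j ∉ X) → ((j : ℕ) < N → B j ∉ X) → (j ∈ T → Q j ∉ X) →
      (if 0 < (j : ℕ) then a j else 0) + (if (j : ℕ) < N then b j else 0) +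
        (if j ∈ T then (2 * r : ℤ) else 0) +
        ∑ P ∈ X, (2 * (vsum (D j) (V j) P d : ℤ) - r * (r + 1)) ≤ W := by
    intro j X hXA hXB hXQ
    set SA : Finset (FunFld.Place k (Z j)) := if 0 < (j : ℕ) then {A j} else ∅ with hSA
    set SB : Finset (FunFld.Place k (Z j)) := if (j : ℕ) < N then {B j} else ∅ with hSB
    set SQ : Finset (FunFld.Place k (Z j)) := if j ∈ T then {Q j} else ∅ with hSQ
    have d1 : Disjoint SA SB := by
      by_cases h1 : 0 < (j : ℕ)
      · by_cases h2 : (j : ℕ) < N
        · simp only [hSA, hSB, if_pos h1, if_pos h2]; simp [hAB j h1 h2]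
        · simp only [hSB, if_neg h2]; simp
      · simp only [hSA, if_neg h1]; simp
    have d2 : Disjoint (SA ∪ SB) SQ := by
      by_cases hT : j ∈ T
      · simp only [hSA, hSB, hSQ, Finset.disjoint_union_left, if_pos hT]
        constructor
        · by_cases h1 : 0 < (j : ℕ)
          · rw [if_pos h1]; simp [(hQA j hT h1).symm]
          · rw [if_neg h1]; simp
        · by_cases h2 : (j : ℕ) < N
          · rw [if_pos h2]; simp [(hQB j hT h2).symm]
          · rw [if_neg h2]; simp
      · simp only [hSQ, if_neg hT]; simp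
    have d3 : Disjoint (SA ∪ SB ∪ SQ) X := by
      simp only [hSA, hSB, hSQ, Finset.disjoint_union_left]
      refine ⟨⟨?_, ?_⟩, ?_⟩
      · split_ifs with h1 <;> simp [*]
      · split_ifs with h1 <;> simp [*]
      · split_ifs with h1 <;> simp [*]
    have h := weight_sum_le (hZ j) (hrat j) (hD j) (hV j) (hVr j) (SA ∪ SB ∪ SQ ∪ X)
    rw [Finset.sum_union d3, Finset.sum_union d2, Finset.sum_union d1] at h
    have eA : (if 0 < (j : ℕ) then a j else 0) =
        ∑ P ∈ SA, (2 * (vsum (D j) (V j) P d : ℤ) - r * (r + 1)) := by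
      simp only [hSA]; split_ifs <;> simp [ha]
    have eB : (if (j : ℕ) < N then b j else 0) =
        ∑ P ∈ SB, (2 * (vsum (D j) (V j) P d : ℤ) - r * (r + 1)) := by
      simp only [hSB]; split_ifs <;> simp [hb]
    have eQ : (if j ∈ T then (2 * r : ℤ) else 0) ≤
        ∑ P ∈ SQ, (2 * (vsum (D j) (V j) P d : ℤ) - r * (r + 1)) := by
      simp only [hSQ]
      split_ifs with h1
      · rw [Finset.sum_singleton]
        have := cusp_weight (hZ j) (hD j) (hV j) (hVr j) (Q j) (hcusp j h1)
        linarith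
      · simp
    rw [eA, eB, hW]
    linarith
  have hloc0 : ∀ j : Fin (N + 1), (if 0 < (j : ℕ) then a j else 0) + (if (j : ℕ) < N then b j else 0) +
      (if j ∈ T then (2 * r : ℤ) else 0) ≤ W := fun j => by
    simpa using hloc j ∅ (by simp) (by simp) (by simp)
  have hl := Chain.left_ge T a b W (2 * r : ℤ) hnode (fun j hj => by simpa [hj] using hloc0 j) i
  have hr' := Chain.right_ge T a b W (2 * r : ℤ) hnode (fun j hj => by simpa [hj] using hloc0 j) i
  have hsplit := Chain.card_erase_split T i
  have hsplit' : ((T.filter fun l => l < i).card : ℤ) + (T.filter fun l => i < l).card = (T.erase i).card := by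
    exact_mod_cast hsplit

  have hA : Q i ≠ A i := hQA i hiT hi0
  have hB : Q i ≠ B i := hQB i hiT hiN
  rw [if_pos hi0] at hl
  rw [if_pos hiN] at hr'
  have h3 := weight_sum_le (hZ i) (hrat i) (hD i) (hV i) (hVr i) {A i, B i, Q i}
  rw [Finset.sum_insert (by simp [hAB i hi0 hiN, hA.symm]), Finset.sum_pair hB.symm] at h3
  change vsum (D i) (V i) (Q i) d + r * (T.erase i).card + r * (r + 1) / 2 ≤ _
  have h4 : ((2 * vsum (D i) (V i) (Q i) d + 2 * (r * (T.erase i).card) + r * (r + 1) : ℕ) : ℤ) ≤
      ((2 * ((r + 1) * d) : ℕ) : ℤ) := by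
    push_cast
    simp only [ha, hb] at hl hr'
    rw [← hsplit']
    linarith
  omega

end Groth.Agent.S18181
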