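import Groth.Statements.S18185
import Groth.Agent.FunFldLib.LimitSeries

set_option autoImplicit false
open FunFld

namespace Groth.Agent.S18185

open Groth.Agent.FunFldLib

open Groth.Agent.FunFldLib in
theorem down {k : Type*} [Field k] [IsAlgClosed k]
    {n : ℕ} {U : Fin (n + 1) → Type*} [∀ l, Field (U l)] [∀ l, Algebra k (U l)]
    (hU : ∀ l, FunFld.IsFunctionField k (U l)) {d r : ℕ} {D : ∀ l, FunFld.Divisor k (U l)}
    (hD : ∀ l, (D l).deg = d) {V : ∀ l, Submodule k (U l)} (hV : ∀ l, V l ≤ FunFld.L (D l))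
    (hVr : ∀ l, Module.finrank k ↥(V l) = r + 1) {A B : ∀ l, FunFld.Place k (U l)}
    (hAB : ∀ l : Fin (n + 1), 0 < (l : ℕ) → (l : ℕ) < n → A l ≠ B l)
    (hnode : ∀ l : Fin n, vsum (D l.castSucc) (V l.castSucc) (B l.castSucc) d +
      vsum (D l.succ) (V l.succ) (A l.succ) d = (r + 1) * d)
    (c : ℕ) (hc : vsum (D 0) (V 0) (B 0) d + c + r * (r + 1) ≤ (r + 1) * d + r * (r + 1) / 2)
    (l : Fin (n + 1)) : 0 < (l : ℕ) → c + r * (r + 1) / 2 ≤ vsum (D l) (V l) (A l) d := by
  have hR : 2 * (r * (r + 1) / 2) = r * (r + 1) := Nat.two_mul_div_two_of_even (Nat.even_mul_succ_self r)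
  induction l using Fin.induction with
  | zero => intro h; simp at h
  | succ j ih =>
    intro _
    have h1 := hnode j
    rcases Nat.eq_zero_or_pos j.val with h0 | h0
    · have e : j.castSucc = 0 := Fin.ext (by simpa using h0)
      rw [e] at h1
      omega
    · have h2 := ih (by simpa using h0)
      have h3 := two_point (hU j.castSucc) (hD _) (hV _) (hVr _) _ _
        (hAB j.castSucc (by simpa using h0) (by simp))
      omega


/-- Let `k` be an algebraically closed field of characteristic zero and `K/k` a function field of one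
variable (the function field of a smooth projective curve over `k`). A `g^r_d` is a divisor `D` of
degree `d` with a subspace `V ⊆ L(D)` of dimension `r + 1`; for a place `P` and `n ≥ 0`, `V(-nP) = V
∩ L(D - nP)` is the space of members vanishing to order at least `n` at `P`, so `dim V(-nP)` counts
the vanishing orders `m_0 < ⋯ < m_r` of `V` at `P` that are at least `n`, and the weight of `V` at
`P` is `∑_{n=1}^{d} dim V(-nP) - r(r+1)/2`. Aspects `(D_Y, V_Y)` on `K_Y` and `(D_Z, V_Z)` on `K_Z`
of a limit `g^r_d` on two components meeting in a node (a place `P` of `K_Y` and a place `Q` of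
`K_Z`) are compatible there when `m_i(V_Y, P) + m_{r-i}(V_Z, Q) = d` for every `i`, equivalently
`dim V_Y(-nP) + dim V_Z(-(d+1-n)Q) = r + 1` for `0 ≤ n ≤ d + 1`. Consider a chain of components
`U_0, U_1, …, U_n` (`n ≥ 1`; function fields `K_l`), `U_l` meeting `U_{l+1}` in a node given by
places `B_l` of `K_l` and `A_{l+1}` of `K_{l+1}`, with `A_l ≠ B_l` on the inner components `U_1, …,
U_{n-1}`, which have genus `0`; each `U_l` carries an aspect `(D_l, V_l)` of a limit `g^r_d`,
consecutive aspects compatible at the nodes, and the weight of `V_0` at `B_0` is at most `(r+1)(d-r)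
- c`. (In the source `U_0` is a backbone component of a flag curve with `g` tails, `U_1, …, U_{n-1}`
the chain of rational curves attached to it at `B_0`, `U_n` the elliptic tail, and `c = r(g-1)`, the
weight bound at `B_0` being the one established for backbone components.) Assume moreover that `U_n`
has positive genus. Then at every place `Q'` of an inner component `U_l` (`0 < l < n`) other than
`A_l, B_l`, the weight of `V_l` is at most `(r+1)(d-r) - c - r`: `∑_{j=1}^{d} dim V_l(-jQ') + c + r
+ r(r+1) ≤ (r+1)d + r(r+1)/2`. With `c = r(g-1)` this is `(r+1)(d-r) - rg`, so when `ρ ≤ 0` the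
limit of the moving ramification point (weight `≥ (r+1)(d-r) - rg + 1`) is not on the chain curves
either. (The printed argument bounds such weights only by `(r+1)(d-r) - r(g-1)`; the extra `r` comes
from the cusp that `V_l` has at `B_l`.) (The source states this for curves over the complex
numbers.) -/
theorem result
    (k : Type*) [Field k] [IsAlgClosed k] [CharZero k]
    (n : ℕ) (hn : 0 < n) (U : Fin (n + 1) → Type*) [∀ l, Field (U l)] [∀ l, Algebra k (U l)]
    (hU : ∀ l, FunFld.IsFunctionField k (U l))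
    (hrat : ∀ l : Fin (n + 1), 0 < (l : ℕ) → (l : ℕ) < n → FunFld.genus k (U l) = 0)
    (d r : ℕ) (D : ∀ l, FunFld.Divisor k (U l)) (hD : ∀ l, (D l).deg = d)
    (V : ∀ l, Submodule k (U l)) (hV : ∀ l, V l ≤ FunFld.L (D l))
    (hVr : ∀ l, Module.finrank k ↥(V l) = r + 1)
    (A B : ∀ l, FunFld.Place k (U l))
    (hAB : ∀ l : Fin (n + 1), 0 < (l : ℕ) → (l : ℕ) < n → A l ≠ B l)
    (hcomp : ∀ (l : Fin n) (m : ℕ), m ≤ d + 1 →
      Module.finrank k ↥((V l.castSucc) ⊓ FunFld.L ((D l.castSucc) - Finsupp.single (B l.castSucc) ((m : ℤ)))) +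
        Module.finrank k ↥((V l.succ) ⊓ FunFld.L ((D l.succ) - Finsupp.single (A l.succ) ((d : ℤ) + 1 - m))) = r + 1)
    (c : ℕ) (hc : (∑ j ∈ Finset.range d, Module.finrank k ↥((V 0) ⊓ FunFld.L ((D 0) - Finsupp.single (B 0) ((j : ℤ) + 1)))) + c + r * (r + 1) ≤ (r + 1) * d + r * (r + 1) / 2)
    (hpos : 0 < FunFld.genus k (U (Fin.last n)))
    (l : Fin (n + 1)) (hl0 : 0 < (l : ℕ)) (hln : (l : ℕ) < n)
    (Q' : FunFld.Place k (U l)) (hQ'A : Q' ≠ A l) (hQ'B : Q' ≠ B l) :
    (∑ j ∈ Finset.range d, Module.finrank k ↥((V l) ⊓ FunFld.L ((D l) - Finsupp.single Q' ((j : ℤ) + 1)))) + c + r + r * (r + 1) ≤ (r + 1) * d + r * (r + 1) / 2 := by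
  have hnode : ∀ j : Fin n, vsum (D j.castSucc) (V j.castSucc) (B j.castSucc) d +
      vsum (D j.succ) (V j.succ) (A j.succ) d = (r + 1) * d := fun j => vsum_node _ _ _ _ _ _ d r (hcomp j)

  classical
  have hR : 2 * (r * (r + 1) / 2) = r * (r + 1) := Nat.two_mul_div_two_of_even (Nat.even_mul_succ_self r)
  have hB : ∀ j : Fin (n + 1), (j : ℕ) < n →
      r + r * (r + 1) / 2 ≤ vsum (D j) (V j) (B j) d := by
    intro j
    induction j using Fin.reverseInduction with
    | last => intro h; simp at h
    | cast j ih =>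
      intro _
      have h1 := hnode j
      by_cases hj : (j : ℕ) + 1 = n
      · have hlast : 0 < FunFld.genus k (U j.succ) := by
          rw [show j.succ = Fin.last n from Fin.ext (by simp [hj])]; exact hpos
        have h2 := positive_genus_weight (hU j.succ) (hD _) (hV _) (hVr _) hlast (A j.succ)
        have h3 : ((2 * vsum (D j.succ) (V j.succ) (A j.succ) d + 2 * r + r * (r + 1) : ℕ) : ℤ) ≤
            ((2 * ((r + 1) * d) : ℕ) : ℤ) := by push_cast; linarith
        omega
      · have hlt : ((j.succ : Fin (n + 1)) : ℕ) < n := by simp; omega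
        have h2 := ih hlt
        have h3 := two_point (hU j.succ) (hD _) (hV _) (hVr _) _ _ (hAB j.succ (by simp) hlt)
        omega
  have h1 := down hU hD hV hVr hAB hnode c hc l hl0
  have h2 := hB l hln
  have h3 := weight_sum_le (hU l) (hrat l hl0 hln) (hD l) (hV l) (hVr l) {A l, B l, Q'}
  rw [Finset.sum_insert (by simp [hAB l hl0 hln, hQ'A.symm]), Finset.sum_pair hQ'B.symm] at h3
  have h4 : ((2 * vsum (D l) (V l) (A l) d + 2 * vsum (D l) (V l) (B l) d + 2 * vsum (D l) (V l) Q' d : ℕ) : ℤ) ≤
      ((2 * ((r + 1) * d) + r * (r + 1) : ℕ) : ℤ) := by push_cast; linarith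
  change vsum _ _ Q' d + c + r + r * (r + 1) ≤ _
  omega

end Groth.Agent.S18185
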