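import Groth.Statements.S18187
import Groth.Agent.Misc9.SF.Cond
-- import your own Groth.Agent.* helpers here

set_option autoImplicit false
universe u v
open CategoryTheory
open T1Lift

namespace Groth.Agent.S18187

/-- In the set-valued case, let k be a field of characteristic zero and F a functor on local Artinian
k-algebras with residue field k such that F(k) is one point, F satisfies the Rim–Schlessinger
condition (for every fibre-product square A' ×_A A'' with A'' → A surjective the comparison map F(A'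
×_A A'') → F(A') ×_{F(A)} F(A'') is bijective), and F has an obstruction theory with values in a
k-vector space V which is moreover functorial for every commutative square of surjections whose
kernels are killed by the maximal ideal. Write A_m = k[t]/(t^(m+1)), B_m = A_m[y]/(y²), α : A_(m+1)
→ A_m and ξ : B_(m+1) → B_m for t ↦ t, β : B_m → A_m for y ↦ 0 and ε : A_(m+1) → B_m for t ↦ t + y.
Then an element X ∈ F(A_(n+1)) lifts to F(A_(n+2)) along α if and only if there is Y ∈ F(B_(n+1))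
with F(β) Y = X and F(ξ) Y = F(ε) X, i.e. if and only if the element of the first-order tangent set
T¹(F(α)X / A_n) defined by F(ε) X lies in the image of T¹(X / A_(n+1)). (Stated here for functors
with values in sets; the version for predeformation categories in groupoids satisfying the
Rim–Schlessinger condition specialises to it. The functoriality of the obstruction theory for
arbitrary commutative squares is an explicit hypothesis, pinned through linear maps between the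
kernels that agree with the given ring map.) -/
theorem result (k : Type u) [Field k] [CharZero k]
    (F : ArtFun.Art k k ⥤ Type v) (h0 : ArtFun.H0 F)
    (hRS : ∀ ⦃P A A' A'' : ArtFun.Art k k⦄ (p' : P ⟶ A') (p'' : P ⟶ A'') (f' : A' ⟶ A) (f'' : A'' ⟶ A)
      (h : ArtFun.Art.IsFibreProd p' p'' f' f''), Function.Surjective f'' → Function.Bijective (ArtFun.cmp F h))
    (V : Type u) [AddCommGroup V] [Module k V] (O : ArtFun.ObsTheory F V)
    (hnat : ∀ ⦃A' A C' C : ArtFun.Art k k⦄ (φ : A' ⟶ A) (hφ : ArtFun.Art.IsSemismallExt φ)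
      (ψ : C' ⟶ C) (hψ : ArtFun.Art.IsSemismallExt ψ) (g' : A' ⟶ C') (g : A ⟶ C), φ ≫ g = g' ≫ ψ →
      ∀ (ℓ : ↥(RingHom.ker φ.toAlgHom) →ₗ[k] ↥(RingHom.ker ψ.toAlgHom)),
        (∀ j : ↥(RingHom.ker φ.toAlgHom), ((ℓ j : ↥(RingHom.ker ψ.toAlgHom)) : C') = g' (j : A')) →
        ∀ u : F.obj A, O.obs ψ hψ (F.map g u) = LinearMap.lTensor V ℓ (O.obs φ hφ u))
    (n : ℕ) (X : F.obj (T1Lift.A k (n + 1))) :
    (∃ X' : F.obj (T1Lift.A k (n + 2)), F.map (T1Lift.α k (n + 1)) X' = X) ↔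
      ∃ Y : F.obj (T1Lift.B k (n + 1)), F.map (T1Lift.β k (n + 1)) Y = X ∧
        F.map (T1Lift.ξ k n) Y = F.map (T1Lift.ε k n) X := by
  have hαs : ∀ m, Function.Surjective (T1Lift.α k m) := fun m a => by
    obtain ⟨p, rfl⟩ := AdjoinRoot.mk_surjective a
    refine ⟨AdjoinRoot.mk _ p, ?_⟩
    change T1Lift.αAlg k m (AdjoinRoot.mk _ p) = AdjoinRoot.mk _ p
    rw [← AdjoinRoot.aeval_eq, ← AdjoinRoot.aeval_eq, ← Polynomial.aeval_algHom_apply, T1Lift.αAlg_t]
  have hker : ∀ m (a : T1Lift.Tr k (m + 1)), T1Lift.αAlg k m a = 0 →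
      a = T1Lift.resA k (m + 1) a • 0 + a ∧ ∃ b, a = b * T1Lift.t k (m + 1) ^ (m + 1) := fun m a ha => by
    refine ⟨by rw [smul_zero, zero_add], ?_⟩
    obtain ⟨p, rfl⟩ := AdjoinRoot.mk_surjective a
    rw [← AdjoinRoot.aeval_eq, ← Polynomial.aeval_algHom_apply, T1Lift.αAlg_t, AdjoinRoot.aeval_eq,
      AdjoinRoot.mk_eq_zero] at ha
    obtain ⟨q, rfl⟩ := ha
    exact ⟨AdjoinRoot.mk _ q, by rw [map_mul, map_pow, AdjoinRoot.mk_X, mul_comm]⟩
  have hkill : ∀ m (u a : T1Lift.Tr k (m + 1)), T1Lift.αAlg k m a = 0 → u * a = T1Lift.resA k (m + 1) u • a := fun m u a ha => by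
    obtain ⟨-, b, rfl⟩ := hker m a ha
    obtain ⟨c, hc⟩ := T1Lift.eq_algebraMap_add_t_mul k (m + 1) u
    have h0 : T1Lift.t k (m + 1) * c * (b * T1Lift.t k (m + 1) ^ (m + 1)) = 0 := by
      rw [show T1Lift.t k (m + 1) * c * (b * T1Lift.t k (m + 1) ^ (m + 1)) = c * b * T1Lift.t k (m + 1) ^ (m + 1 + 1) by ring,
        T1Lift.t_pow, mul_zero]
    conv_lhs => rw [hc]
    rw [add_mul, h0, add_zero, ← Algebra.smul_def]
  have hne : T1Lift.t k (n + 1) ^ (n + 1) ≠ 0 := by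
    change AdjoinRoot.root ((Polynomial.X : Polynomial k) ^ (n + 1 + 1)) ^ (n + 1) ≠ 0
    rw [← AdjoinRoot.mk_X, ← map_pow, ne_eq, AdjoinRoot.mk_eq_zero, Polynomial.X_pow_dvd_iff]
    intro h
    have := h (n + 1) (Nat.lt_succ_self _)
    rw [Polynomial.coeff_X_pow_self] at this
    exact one_ne_zero this
  have hεα : ∀ m, T1Lift.ε k m ≫ T1Lift.β k m = T1Lift.α k m := fun m =>
    ArtFun.Art.hom_ext (AdjoinRoot.algHom_ext (by
      change (T1Lift.εAlg k m (T1Lift.t k (m + 1))).fst = T1Lift.αAlg k m (T1Lift.t k (m + 1))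
      rw [T1Lift.εAlg_t, T1Lift.αAlg_t, TrivSqZeroExt.fst_add, TrivSqZeroExt.fst_inl, DualNumber.fst_eps, add_zero]))
  have hεξ : T1Lift.ε k (n + 1) ≫ T1Lift.ξ k n = T1Lift.α k (n + 1) ≫ T1Lift.ε k n :=
    ArtFun.Art.hom_ext (AdjoinRoot.algHom_ext (by
      change T1Lift.dualMap k (T1Lift.αAlg k n) (T1Lift.εAlg k (n + 1) (T1Lift.t k (n + 2))) =
        T1Lift.εAlg k n (T1Lift.αAlg k (n + 1) (T1Lift.t k (n + 2)))
      rw [T1Lift.εAlg_t, T1Lift.αAlg_t, T1Lift.εAlg_t]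
      refine TrivSqZeroExt.ext ?_ ?_
      · change T1Lift.αAlg k n (TrivSqZeroExt.inl _ + DualNumber.eps : DualNumber (T1Lift.Tr k (n + 1))).fst = _
        simp
      · change T1Lift.αAlg k n (TrivSqZeroExt.inl _ + DualNumber.eps : DualNumber (T1Lift.Tr k (n + 1))).snd = _
        simp))
  constructor
  · rintro ⟨X', rfl⟩
    exact ⟨F.map (T1Lift.ε k (n + 1)) X', by rw [Misc9.SF.map_map, hεα],
      by rw [Misc9.SF.map_map, Misc9.SF.map_map, hεξ]⟩
  rintro ⟨Y, hY, hY'⟩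
  obtain ⟨D, p₁, p₂, hD⟩ := Misc9.SF.exists_fib (T1Lift.β k n) (T1Lift.α k n) (hαs n)
  have hξβ : T1Lift.ξ k n ≫ T1Lift.β k n = T1Lift.β k (n + 1) ≫ T1Lift.α k n := ArtFun.Art.hom_ext (AlgHom.ext fun x => rfl)
  obtain ⟨φ, hφ₁, hφ₂⟩ := Misc9.SF.fp_exists_lift hD (T1Lift.ξ k n) (T1Lift.β k (n + 1)) hξβ
  obtain ⟨g, hg₁, hg₂⟩ := Misc9.SF.fp_exists_lift hD (T1Lift.ε k n) (𝟙 _) (by rw [hεα, Category.id_comp])
  have hφker : ∀ x, φ x = 0 → (x : DualNumber (T1Lift.Tr k (n + 1))).fst = 0 ∧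
      T1Lift.αAlg k n (x : DualNumber (T1Lift.Tr k (n + 1))).snd = 0 := fun x hx => by
    refine ⟨?_, ?_⟩
    · have h := congrArg p₂.toAlgHom hx
      rw [map_zero] at h
      exact (congrArg (fun f : T1Lift.B k (n + 1) ⟶ _ => f x) hφ₂).symm.trans h
    · have h := congrArg p₁.toAlgHom hx
      rw [map_zero] at h
      exact congrArg TrivSqZeroExt.snd ((congrArg (fun f : T1Lift.B k (n + 1) ⟶ _ => f x) hφ₁).symm.trans h)
  have hφ : ArtFun.Art.IsSemismallExt φ := by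
    refine ⟨fun d => ?_, ?_⟩
    · obtain ⟨a, ha⟩ := hαs n (TrivSqZeroExt.snd (p₁ d : DualNumber (T1Lift.Tr k n)))
      let x : DualNumber (T1Lift.Tr k (n + 1)) := (p₂ d, a)
      refine ⟨x, hD.inj _ _ ?_ ?_⟩
      · refine (congrArg (fun f : T1Lift.B k (n + 1) ⟶ _ => f x) hφ₁).trans (TrivSqZeroExt.ext ?_ ha)
        exact (hD.w_apply d).symm
      · exact congrArg (fun f : T1Lift.B k (n + 1) ⟶ _ => f x) hφ₂
    · rw [eq_bot_iff, Ideal.mul_le]
      intro r hr x hx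
      obtain ⟨h1, h2⟩ := hφker x (RingHom.mem_ker.1 hx)
      rw [Ideal.mem_bot]
      have hr' : T1Lift.resA k (n + 1) (r : DualNumber (T1Lift.Tr k (n + 1))).fst = 0 :=
        ((T1Lift.B k (n + 1)).mem_maximalIdeal_iff r).1 hr
      let u : DualNumber (T1Lift.Tr k (n + 1)) := r
      let w : DualNumber (T1Lift.Tr k (n + 1)) := x
      change u * w = 0
      refine TrivSqZeroExt.ext ?_ ?_
      · rw [TrivSqZeroExt.fst_mul, show w.fst = 0 from h1, mul_zero]; rfl
      · rw [TrivSqZeroExt.snd_mul, show w.fst = 0 from h1, MulOpposite.op_zero, zero_smul, add_zero, smul_eq_mul,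
          hkill n _ _ h2, hr', zero_smul]
        rfl
  have hα : ArtFun.Art.IsSemismallExt (T1Lift.α k (n + 1)) := by
    refine ⟨hαs _, ?_⟩
    rw [eq_bot_iff, Ideal.mul_le]
    intro r hr x hx
    rw [Ideal.mem_bot]
    have hr' : T1Lift.resA k (n + 2) r = 0 := ((T1Lift.A k (n + 2)).mem_maximalIdeal_iff r).1 hr
    let u : T1Lift.Tr k (n + 2) := r
    let w : T1Lift.Tr k (n + 2) := x
    change u * w = 0
    rw [hkill (n + 1) u w (RingHom.mem_ker.1 hx), hr', zero_smul]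
  have hsq : T1Lift.α k (n + 1) ≫ g = T1Lift.ε k (n + 1) ≫ φ := by
    refine Misc9.SF.fp_hom_ext hD ?_ ?_
    · rw [Category.assoc, Category.assoc, hg₁, hφ₁, hεξ]
    · rw [Category.assoc, Category.assoc, hg₂, hφ₂, hεα, Category.comp_id]
  have hmem : ∀ j : RingHom.ker (T1Lift.α k (n + 1)).toAlgHom, (T1Lift.ε k (n + 1)) j ∈ RingHom.ker φ.toAlgHom := fun j => by
    rw [RingHom.mem_ker]
    refine (congrArg (fun f : _ ⟶ D => f (j : T1Lift.A k (n + 2))) hsq).symm.trans ?_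
    change g.toAlgHom ((T1Lift.α k (n + 1)).toAlgHom j) = 0
    rw [RingHom.mem_ker.1 j.2, map_zero]
  let ℓ : ↥(RingHom.ker (T1Lift.α k (n + 1)).toAlgHom) →ₗ[k] ↥(RingHom.ker φ.toAlgHom) :=
    { toFun := fun j => ⟨T1Lift.ε k (n + 1) j, hmem j⟩
      map_add' := fun a b => Subtype.ext (map_add (T1Lift.ε k (n + 1)).toAlgHom _ _)
      map_smul' := fun c a => Subtype.ext (map_smul (T1Lift.ε k (n + 1)).toAlgHom c _) }
  have hℓ : Function.Injective ℓ := by
    refine (injective_iff_map_eq_zero _).2 fun j hj => ?_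
    have h0 : T1Lift.εAlg k (n + 1) (j : T1Lift.A k (n + 2)) = 0 := congrArg Subtype.val hj
    obtain ⟨-, b, hb⟩ := hker (n + 1) (j : T1Lift.A k (n + 2)) (RingHom.mem_ker.1 j.2)
    obtain ⟨c, hc⟩ := T1Lift.eq_algebraMap_add_t_mul k (n + 2) b
    have hb' : ((j : T1Lift.A k (n + 2)) : T1Lift.Tr k (n + 2)) =
        T1Lift.resA k (n + 2) b • T1Lift.t k (n + 2) ^ (n + 2) := by
      refine hb.trans ?_
      conv_lhs => rw [hc]
      rw [Algebra.smul_def, add_mul, show T1Lift.t k (n + 2) * c * T1Lift.t k (n + 2) ^ (n + 1 + 1) =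
        c * T1Lift.t k (n + 2) ^ (n + 2 + 1) by ring, T1Lift.t_pow, mul_zero, add_zero]
    rw [hb', map_smul, map_pow, T1Lift.εAlg_t] at h0
    have h1 := congrArg TrivSqZeroExt.snd h0
    rw [TrivSqZeroExt.snd_smul, TrivSqZeroExt.snd_pow] at h1
    simp only [TrivSqZeroExt.fst_add, TrivSqZeroExt.snd_add, TrivSqZeroExt.fst_inl, TrivSqZeroExt.snd_inl,
      DualNumber.fst_eps, DualNumber.snd_eps, add_zero, zero_add, smul_eq_mul, mul_one] at h1
    change T1Lift.resA k (n + 2) b • ((n + 2) • T1Lift.t k (n + 1) ^ (n + 1)) = 0 at h1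
    rw [← Nat.cast_smul_eq_nsmul k (n + 2), smul_smul, smul_eq_zero] at h1
    rcases h1 with h1 | h1
    · refine Subtype.ext (hb'.trans ?_)
      rw [(mul_eq_zero.1 h1).resolve_right (Nat.cast_ne_zero.2 (by omega)), zero_smul]
      rfl
    · exact absurd h1 hne
  refine (O.obs_eq_zero_iff _ hα X).1 (Module.Flat.lTensor_preserves_injective_linearMap ℓ hℓ ?_)
  rw [map_zero, ← hnat (T1Lift.α k (n + 1)) hα φ hφ (T1Lift.ε k (n + 1)) g hsq ℓ (fun j => rfl) X]
  refine (O.obs_eq_zero_iff _ hφ _).2 ⟨Y, ?_⟩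
  refine Misc9.SF.cmp_inj (hRS p₁ p₂ _ _ hD (hαs n)).1 ?_ ?_
  · rw [Misc9.SF.map_map, Misc9.SF.map_map, hφ₁, hg₁, hY']
  · rw [Misc9.SF.map_map, Misc9.SF.map_map, hφ₂, hg₂, hY, Misc9.SF.map_id']

end Groth.Agent.S18187
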