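import Groth.Statements.S18189
import Mathlib

set_option autoImplicit false
set_option linter.style.haveILetI false
open OrbRR

namespace Groth.Agent.S18189

/-- Let N ≥ 1 be a natural number, let ζ ∈ ℂ be a primitive N-th root of unity, and put f(i) = i(i −
N)/2 + (N² − 1)/12 for 0 ≤ i < N. For every natural number m the complex number ε_m = (1/N)
∑_{i=0}^{N−1} f(i) ζ^{mi}, an eigenvalue of the symmetric circulant N × N matrix with (i, j) entry
f(j − i)/N, is real and nonnegative. -/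
theorem result (N : ℕ) (hN : 0 < N) (ζ : ℂ)
    (hζ : IsPrimitiveRoot ζ N) (m : ℕ) :
    (∑ i ∈ Finset.range N,
        ((i : ℂ) * ((i : ℂ) - (N : ℂ)) / 2 + ((N : ℂ) ^ 2 - 1) / 12) / (N : ℂ) * ζ ^ (m * i)).im = 0 ∧
    0 ≤ (∑ i ∈ Finset.range N,
        ((i : ℂ) * ((i : ℂ) - (N : ℂ)) / 2 + ((N : ℂ) ^ 2 - 1) / 12) / (N : ℂ) * ζ ^ (m * i)).re := by
  set w : ℂ := ζ ^ m with hw
  set c : ℂ := ((N : ℂ) ^ 2 - 1) / 12 with hc
  have hwN : w ^ N = 1 := by rw [hw, ← pow_mul, mul_comm, pow_mul, hζ.pow_eq_one, one_pow]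
  have hN0 : (N : ℂ) ≠ 0 := by exact_mod_cast hN.ne'
  set S : ℂ := ∑ i ∈ Finset.range N, ((i : ℂ) * ((i : ℂ) - (N : ℂ)) / 2 + c) * w ^ i with hS
  have hsum : (∑ i ∈ Finset.range N,
      ((i : ℂ) * ((i : ℂ) - (N : ℂ)) / 2 + c) / (N : ℂ) * ζ ^ (m * i)) = S / N := by
    rw [hS, Finset.sum_div]
    refine Finset.sum_congr rfl fun i _ => ?_
    rw [hw, ← pow_mul]
    ring
  rw [hsum]
  have key1 : ∀ n : ℕ, ∑ i ∈ Finset.range n, ((i : ℂ) * ((i : ℂ) - (N : ℂ)) / 2 + c)
      = (n : ℂ) * ((n : ℂ) - 1) * (2 * (n : ℂ) - 1) / 12 - (N : ℂ) * ((n : ℂ) * ((n : ℂ) - 1)) / 4 + (n : ℂ) * c := by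
    intro n
    induction n with
    | zero => simp
    | succ n ih => rw [Finset.sum_range_succ, ih]; push_cast; ring
  have key2 : ∀ n : ℕ, (w - 1) * ∑ i ∈ Finset.range n, ((i : ℂ) * ((i : ℂ) - (N : ℂ)) / 2 + c) * w ^ i
      = w ^ n * ((n : ℂ) * ((n : ℂ) - (N : ℂ)) / 2 + c) - c
        - w * ∑ i ∈ Finset.range n, ((i : ℂ) - ((N : ℂ) - 1) / 2) * w ^ i := by
    intro n
    induction n with
    | zero => simp
    | succ n ih =>
      rw [Finset.sum_range_succ, Finset.sum_range_succ, mul_add, ih, pow_succ]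
      push_cast
      ring
  have key3 : ∀ n : ℕ, (w - 1) * ∑ i ∈ Finset.range n, ((i : ℂ) - ((N : ℂ) - 1) / 2) * w ^ i
      = w ^ n * ((n : ℂ) - ((N : ℂ) - 1) / 2) + ((N : ℂ) - 1) / 2
        - w * ∑ i ∈ Finset.range n, w ^ i := by
    intro n
    induction n with
    | zero => simp
    | succ n ih =>
      rw [Finset.sum_range_succ, Finset.sum_range_succ, mul_add, ih, pow_succ]
      push_cast
      ring
  by_cases h1 : w = 1
  · have hS0 : S = 0 := by
      rw [hS]
      simp only [h1, one_pow, mul_one]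
      rw [key1 N, hc]
      ring
    simp [hS0]
  · have h1' : w - 1 ≠ 0 := sub_ne_zero.mpr h1
    have hg : ∑ i ∈ Finset.range N, w ^ i = 0 := by
      rw [geom_sum_eq h1, hwN, sub_self, zero_div]
    have e3 := key3 N
    rw [hwN, hg] at e3
    have e2 := key2 N
    rw [← hS, hwN] at e2
    have e4 : (w - 1) ^ 2 * S = - (w * N) := by
      linear_combination (w - 1) * e2 - w * e3
    have hnorm : ‖w‖ = 1 := Complex.norm_eq_one_of_pow_eq_one hwN hN.ne'
    have hw0 : w ≠ 0 := by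
      intro h; rw [h, norm_zero] at hnorm; exact zero_ne_one hnorm
    have hconj : w * (starRingEnd ℂ) w = 1 := by
      rw [Complex.mul_conj, Complex.normSq_eq_norm_sq, hnorm]; simp
    have hval : S / N = ((1 / Complex.normSq (w - 1) : ℝ) : ℂ) := by
      have hns : (Complex.normSq (w - 1) : ℂ) ≠ 0 := by
        exact_mod_cast (Complex.normSq_pos.mpr h1').ne'
      push_cast
      rw [div_eq_div_iff hN0 hns, one_mul]
      apply mul_left_cancel₀ h1'
      rw [← Complex.mul_conj (w - 1), map_sub, map_one]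
      have e5 : (w - 1) * ((w - 1) * ((starRingEnd ℂ) w - 1)) * w = (w - 1) ^ 2 * (1 - w) := by
        linear_combination (w - 1) ^ 2 * hconj
      apply mul_right_cancel₀ hw0
      linear_combination S * e5 + (1 - w) * e4
    rw [hval]
    refine ⟨Complex.ofReal_im _, ?_⟩
    rw [Complex.ofReal_re]
    exact div_nonneg zero_le_one (Complex.normSq_nonneg _)

end Groth.Agent.S18189
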