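import Groth.Statements.S18190
import Mathlib.LinearAlgebra.Matrix.PosDef
import Mathlib.Algebra.BigOperators.Field
import Mathlib.Tactic.FieldSimp
import Mathlib.Tactic.LinearCombination
import Mathlib.Data.ZMod.Basic
import Mathlib.Algebra.BigOperators.Intervals

set_option autoImplicit false
open OrbRR

namespace Groth.Agent.S18190

/-- Let N ≥ 1 and let f : ℤ/Nℤ → ℚ be f(x) = x(x − N)/2 + (N² − 1)/12, where x is read as its
representative with 0 ≤ x < N. The real N × N matrix indexed by ℤ/Nℤ whose (i, j) entry is f(j −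
i)/N, a symmetric circulant matrix, is positive semidefinite. -/
theorem result (N : ℕ) [NeZero N] :
    (Matrix.of fun i j : ZMod N =>
        ((((j - i).val : ℝ) * (((j - i).val : ℝ) - (N : ℝ))) / 2 + ((N : ℝ) ^ 2 - 1) / 12) / (N : ℝ)).PosSemidef := by
  classical
  set φ : ℕ → ℝ := fun t => (((t : ℝ) * ((t : ℝ) - (N : ℝ))) / 2 + ((N : ℝ) ^ 2 - 1) / 12) / (N : ℝ) with hφ
  have hN : (N : ℝ) ≠ 0 := Nat.cast_ne_zero.2 (NeZero.ne N)
  let g : ZMod N → ℝ := fun d => φ d.val
  have hsymm : ∀ d : ZMod N, g (-d) = g d := by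
    intro d
    by_cases hd : d = 0
    · simp [hd]
    · haveI : NeZero d := ⟨hd⟩
      simp only [g, hφ, ZMod.val_neg_of_ne_zero, Nat.cast_sub (ZMod.val_lt d).le]
      ring
  have hsum : ∑ d : ZMod N, g d = 0 := by
    have h1 : ∀ M : ℕ, ∑ t ∈ Finset.range M,
        (((t : ℝ) * ((t : ℝ) - (N : ℝ))) / 2 + ((N : ℝ) ^ 2 - 1) / 12) =
        ((M : ℝ) * (M - 1) * (2 * M - 1)) / 12 - (N : ℝ) * (M * (M - 1)) / 4 + M * (((N : ℝ) ^ 2 - 1) / 12) := by
      intro M
      induction M with
      | zero => simp
      | succ M ih => rw [Finset.sum_range_succ, ih]; push_cast; ring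
    have h2 : ∑ d : ZMod N, g d = ∑ t ∈ Finset.range N, φ t := by
      refine Finset.sum_nbij (fun d => d.val) (fun d _ => Finset.mem_range.2 (ZMod.val_lt d))
        (fun a _ b _ h => ZMod.val_injective N h) (fun t ht => ?_) (fun d _ => rfl)
      exact ⟨(t : ZMod N), Finset.mem_univ _, ZMod.val_cast_of_lt (Finset.mem_range.1 ht)⟩
    rw [h2]
    simp only [hφ, ← Finset.sum_div, h1]
    rw [div_eq_zero_iff]
    left
    ring
  have hlap : ∀ d : ZMod N, g (d + 1) + g (d - 1) - 2 * g d = 1 / (N : ℝ) - if d = 0 then 1 else 0 := by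
    intro d
    have hper : φ N = φ 0 := by simp [hφ]
    have hval1 : φ ((d + 1).val) = φ (d.val + 1) := by
      rcases Nat.lt_or_ge (d.val + 1) N with h | h
      · congr 1
        rw [← ZMod.val_cast_of_lt h, Nat.cast_add, Nat.cast_one, ZMod.natCast_zmod_val]
      · have hNd : d.val + 1 = N := le_antisymm (ZMod.val_lt d) h
        have hd1 : d + 1 = 0 := by
          rw [← ZMod.natCast_zmod_val d, ← Nat.cast_one, ← Nat.cast_add, hNd, ZMod.natCast_self]
        rw [hd1, hNd, hper, ZMod.val_zero]
    by_cases hd : d = 0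
    · subst hd
      rw [if_pos rfl, zero_sub, hsymm]
      have : g (0 + 1) = φ 1 := by simpa [g] using hval1
      rw [zero_add] at this ⊢
      rw [this]
      simp only [g, hφ, ZMod.val_zero]
      field_simp
      ring
    · rw [if_neg hd]
      have hpos : 0 < d.val := Nat.pos_of_ne_zero (by simpa [ZMod.val_eq_zero] using hd)
      have hval2 : (d - 1).val = d.val - 1 := by
        have : d - 1 = ((d.val - 1 : ℕ) : ZMod N) := by
          rw [Nat.cast_sub hpos, ZMod.natCast_zmod_val, Nat.cast_one]
        rw [this, ZMod.val_cast_of_lt]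
        exact lt_of_le_of_lt (Nat.sub_le _ _) (ZMod.val_lt d)
      simp only [g]
      rw [hval1, hval2]
      simp only [hφ]
      rw [Nat.cast_sub (show 1 ≤ d.val from hpos)]
      push_cast
      field_simp
      ring
  refine Matrix.PosSemidef.of_dotProduct_mulVec_nonneg ?_ fun x => ?_
  · ext i j
    show g (i - j) = g (j - i)
    rw [← hsymm, neg_sub]
  · let y : ZMod N → ℝ := fun i => ∑ j, g (j - i) * x j
    show 0 ≤ ∑ i, x i * y i
    let S := ∑ j, x j
    have hy : ∀ i, x i = S / N - (y (i + 1) + y (i - 1) - 2 * y i) := by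
      intro i
      have hterm : ∀ j, g (j - (i + 1)) * x j + g (j - (i - 1)) * x j - 2 * (g (j - i) * x j) =
          (1 / (N : ℝ)) * x j - if j = i then x j else 0 := by
        intro j
        have h := hlap (j - i)
        rw [show j - (i + 1) = j - i - 1 by abel, show j - (i - 1) = j - i + 1 by abel]
        by_cases hji : j = i
        · rw [if_pos (sub_eq_zero.2 hji)] at h
          rw [if_pos hji]
          linear_combination x j * h
        · rw [if_neg (sub_ne_zero.2 hji)] at h
          rw [if_neg hji]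
          linear_combination x j * h
      have : y (i + 1) + y (i - 1) - 2 * y i = S / N - x i := by
        simp only [y, Finset.mul_sum, ← Finset.sum_add_distrib, ← Finset.sum_sub_distrib]
        rw [Finset.sum_congr rfl fun j _ => hterm j, Finset.sum_sub_distrib, ← Finset.mul_sum,
          Finset.sum_ite_eq' Finset.univ i x]
        simp [S]
        ring
      linarith
    have hy0 : ∑ i, y i = 0 := by
      simp only [y]
      rw [Finset.sum_comm]
      refine Finset.sum_eq_zero fun j _ => ?_
      rw [← Finset.sum_mul, show ∑ i, g (j - i) = 0 from (Equiv.sum_comp (Equiv.subLeft j) g).trans hsum, zero_mul]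
    have e1 : ∑ i, y (i - 1) * y i = ∑ i, y i * y (i + 1) := by
      rw [← Equiv.sum_comp (Equiv.addRight (1 : ZMod N))]
      simp
    have e2 : ∑ i, y (i + 1) * y (i + 1) = ∑ i, y i * y i :=
      Equiv.sum_comp (Equiv.addRight (1 : ZMod N)) fun i => y i * y i
    calc (0 : ℝ) ≤ ∑ i, (y (i + 1) - y i) ^ 2 := Finset.sum_nonneg fun i _ => sq_nonneg _
      _ = ∑ i, y (i + 1) * y (i + 1) + ∑ i, y i * y i - 2 * ∑ i, y i * y (i + 1) := by
        rw [Finset.mul_sum, ← Finset.sum_add_distrib, ← Finset.sum_sub_distrib]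
        exact Finset.sum_congr rfl fun i _ => by ring
      _ = (S / N) * ∑ i, y i - (∑ i, y i * y (i + 1) + ∑ i, y (i - 1) * y i - 2 * ∑ i, y i * y i) := by
        rw [hy0, e1, e2]; ring
      _ = ∑ i, x i * y i := by
        rw [Finset.mul_sum, Finset.mul_sum, ← Finset.sum_add_distrib, ← Finset.sum_sub_distrib, ← Finset.sum_sub_distrib]
        refine Finset.sum_congr rfl fun i _ => ?_
        rw [hy i]; ring

end Groth.Agent.S18190
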