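import Groth.Statements.S18207
import Mathlib
-- import your own Groth.Agent.* helpers here

set_option autoImplicit false
universe u
open LocImm

namespace Groth.Agent.S18207

open CategoryTheory AlgebraicGeometry in
/-- A morphism of Noetherian schemes is a localizing immersion (localizing and injective on points) if
and only if it is a localizing monomorphism in the category of schemes. -/
theorem result {X Y : Scheme.{u}} [IsNoetherian X] [IsNoetherian Y] (f : X ⟶ Y) :
    LocImm.IsLocImmersion f ↔ (LocImm.IsLocalizing f ∧ Mono f) := by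
  refine ⟨fun ⟨hl, hinj⟩ => ⟨hl, ?_⟩, fun ⟨hl, _⟩ => ⟨hl, f.injective⟩⟩
  refine ⟨fun {T} g h w => ?_⟩
  have hpt : ∀ t, g t = h t := fun t => hinj (by
    show f (g t) = f (h t)
    rw [← Scheme.Hom.comp_apply, w, Scheme.Hom.comp_apply])
  have hchart : ∀ x : X, ∃ V : X.Opens, x ∈ V ∧ CategoryTheory.Mono (V.ι ≫ f) := by
    intro x
    obtain ⟨U, V, hxV, e, hloc⟩ := hl x
    refine ⟨V.1, hxV, ?_⟩
    letI := (f.appLE U V e).hom.toAlgebra
    obtain ⟨S, hS⟩ := hloc
    haveI : CategoryTheory.Epi (f.appLE U V e) := by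
      refine ⟨fun a b hab => ?_⟩
      exact CommRingCat.hom_ext (@IsLocalization.ringHom_ext _ _ S _ _ _ hS _ _ _ _ (congrArg CommRingCat.Hom.hom hab))
    haveI : CategoryTheory.Mono (Spec.map (f.appLE U V e)) := by
      haveI : CategoryTheory.Mono (f.appLE U V e).op := inferInstance
      exact Scheme.Spec.map_mono (f.appLE U V e).op
    have e' : V.1.ι ≫ f = V.2.isoSpec.hom ≫ Spec.map (f.appLE U V e) ≫ U.2.fromSpec := by
      rw [U.2.SpecMap_appLE_fromSpec f V.2 e, IsAffineOpen.fromSpec]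
      simp
    rw [e']
    infer_instance
  choose V hV hmono using hchart
  refine Scheme.hom_ext_of_forall g h fun t => ?_
  haveI := hmono (g t)
  refine ⟨g ⁻¹ᵁ V (g t), hV _, ?_⟩
  have h1 : Set.range ((g ⁻¹ᵁ V (g t)).ι ≫ g) ⊆ Set.range (V (g t)).ι := by
    rw [Scheme.Opens.range_ι]; rintro _ ⟨a, rfl⟩; exact a.2
  have h2 : Set.range ((g ⁻¹ᵁ V (g t)).ι ≫ h) ⊆ Set.range (V (g t)).ι := by
    rw [Scheme.Opens.range_ι]; rintro _ ⟨a, rfl⟩
    rw [Scheme.Hom.comp_apply, ← hpt]; exact a.2
  rw [← IsOpenImmersion.lift_fac _ _ h1, ← IsOpenImmersion.lift_fac _ _ h2]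
  congr 1
  rw [← CategoryTheory.cancel_mono ((V (g t)).ι ≫ f), ← CategoryTheory.Category.assoc, ← CategoryTheory.Category.assoc,
    IsOpenImmersion.lift_fac, IsOpenImmersion.lift_fac, CategoryTheory.Category.assoc, CategoryTheory.Category.assoc, w]

end Groth.Agent.S18207
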