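import Groth.Statements.S18232
import Groth.Agent.Misc9.UnrLift
-- import your own Groth.Agent.* helpers here

set_option autoImplicit false
open CategoryTheory.Limits
universe u
open CategoryTheory MonoidalCategory CartesianMonoidalCategory AlgebraicGeometry Opposite
open Magnet

namespace Groth.Agent.S18232

/-- Let S be a scheme, M a finitely generated abelian group, N a submonoid of M, and let X, Y be
S-schemes with actions of the diagonalizable group scheme D(M)_S and f : X → Y an equivariant,
formally unramified S-morphism. Then the induced map f^N : X^N → Y^N, viewed as a transformation of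
functors on S-schemes, is again formally unramified: for every ring A, ideal I of A with I² = 0 and
structure morphism Spec A → S, writing T = Spec (A/I) ⊂ T' = Spec A, two elements of X^N(T') with
the same restriction to T and the same image in Y^N(T') are equal. (Stated for schemes; the
published statement is for algebraic spaces over S.) -/
theorem result (S : Scheme.{u}) (M : Type) [AddCommGroup M]
    [AddGroup.FG M] (N : AddSubmonoid M) {X Y : Over S} (aX : Magnet.MonAct (Magnet.AMonS S M) X)
    (aY : Magnet.MonAct (Magnet.AMonS S M) Y) (f : X ⟶ Y) (hf : Magnet.MonAct.IsEquivariant aX aY f)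
    [FormallyUnramified f.left] (A : Type u) [CommRing A] (I : Ideal A) (hI : I ^ 2 = ⊥)
    (str : Spec (CommRingCat.of A) ⟶ S) (l₁ l₂ : (Magnet.attr aX N).obj (op (Over.mk str)))
    (htop : (Magnet.attr aX N).map (Over.homMk (Spec.map (CommRingCat.ofHom (Ideal.Quotient.mk I))) rfl :
        Over.mk (Spec.map (CommRingCat.ofHom (Ideal.Quotient.mk I)) ≫ str) ⟶ Over.mk str).op l₁ =
      (Magnet.attr aX N).map (Over.homMk (Spec.map (CommRingCat.ofHom (Ideal.Quotient.mk I))) rfl :
        Over.mk (Spec.map (CommRingCat.ofHom (Ideal.Quotient.mk I)) ≫ str) ⟶ Over.mk str).op l₂)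
    (hbot : (Magnet.MonAct.eqvHom.postcomp (Magnet.subAct S M N) f hf).app _ l₁ =
      (Magnet.MonAct.eqvHom.postcomp (Magnet.subAct S M N) f hf).app _ l₂) :
    l₁ = l₂ := by
  haveI : IsAffineHom (AMonS S N).hom :=
    MorphismProperty.pullback_snd (P := @IsAffineHom) (AMon (ULift.{u} ℤ) N).hom _
      (show IsAffineHom (Spec.map _) from inferInstance)
  let T' : Over S := Over.mk str
  let T₀ : Over S := Over.mk (Spec.map (CommRingCat.ofHom (Ideal.Quotient.mk I)) ≫ str)
  let tt : T₀ ⟶ T' := Over.homMk (Spec.map (CommRingCat.ofHom (Ideal.Quotient.mk I))) rfl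
  haveI : IsAffineHom (snd (AMonS S N) T').left :=
    MorphismProperty.pullback_snd (P := @IsAffineHom) (AMonS S N).hom T'.hom inferInstance
  haveI : IsAffine T'.left := show IsAffine (Spec (CommRingCat.of A)) from inferInstance
  haveI : IsAffine (AMonS S N ⊗ T').left := isAffine_of_isAffineHom (snd (AMonS S N) T').left
  apply Subtype.ext
  ext1
  refine Groth.Agent.Misc9.UnrLift.ext_of_sq_zero I hI (snd (AMonS S N) T').left f.left ?_ ?_
  · intro V v t h
    have h2 : (AMonS S N ◁ tt) ≫ l₁.1 = (AMonS S N ◁ tt) ≫ l₂.1 := congrArg Subtype.val htop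
    have cond : (v ≫ (fst (AMonS S N) T').left) ≫ (AMonS S N).hom = t ≫ T₀.hom := by
      show _ = t ≫ Spec.map _ ≫ str
      rw [← Category.assoc t, ← h, Category.assoc, Category.assoc]
      exact congrArg (v ≫ ·) pullback.condition
    let v₀ : V ⟶ (AMonS S N ⊗ T₀).left := pullback.lift (v ≫ (fst (AMonS S N) T').left) t cond
    have hv : v₀ ≫ (AMonS S N ◁ tt).left = v := by
      apply pullback.hom_ext
      · rw [Category.assoc, Over.whiskerLeft_left_fst]
        exact pullback.lift_fst _ _ _
      · rw [Category.assoc, Over.whiskerLeft_left_snd, ← Category.assoc]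
        exact (congrArg (· ≫ tt.left) (pullback.lift_snd _ _ _)).trans h.symm
    rw [← hv, Category.assoc, Category.assoc, ← Over.comp_left, ← Over.comp_left]
    exact congrArg (fun z => v₀ ≫ z.left) h2
  · rw [← Over.comp_left, ← Over.comp_left]
    exact congrArg (fun z => z.1.left) hbot

end Groth.Agent.S18232
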