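import Groth.Statements.S18234
import Groth.Agent.S18232
-- import your own Groth.Agent.* helpers here

set_option autoImplicit false
universe u
open CategoryTheory MonoidalCategory CartesianMonoidalCategory AlgebraicGeometry Opposite
open Magnet

namespace Groth.Agent.S18234

/-- Let S be a scheme, M a finitely generated abelian group, N a submonoid of M, X and Y schemes over S
with actions of the diagonalizable group scheme D(M)_S, and f : X → Y a formally unramified
equivariant S-morphism. If the attractors X^N and Y^N are represented by S-schemes Z_X and Z_Y, and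
j : Z_X → Z_Y is the S-morphism that corresponds to f^N under the two representing bijections, then
j is formally unramified. (Stated for schemes; the published statement is for algebraic spaces over
S.) -/
theorem result (S : Scheme.{u}) (M : Type) [AddCommGroup M]
    [AddGroup.FG M] (N : AddSubmonoid M) {X Y : Over S} (aX : Magnet.MonAct (Magnet.AMonS S M) X)
    (aY : Magnet.MonAct (Magnet.AMonS S M) Y) (f : X ⟶ Y) (hf : Magnet.MonAct.IsEquivariant aX aY f)
    [FormallyUnramified f.left] {ZX ZY : Over S} (eX : (Magnet.attr aX N).RepresentableBy ZX) (eY : (Magnet.attr aY N).RepresentableBy ZY)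
    (j : ZX ⟶ ZY) (hj : ∀ (T : Over S) (z : T ⟶ ZX),
      eY.homEquiv (z ≫ j) = (Magnet.MonAct.eqvHom.postcomp (Magnet.subAct S M N) f hf).app (op T) (eX.homEquiv z)) :
    FormallyUnramified j.left := by
  refine FormallyUnramified.of_hom_ext _ fun R R' φ hφ hker g₁ g₂ h hg => ?_
  let str : Spec R ⟶ S := g₁ ≫ ZX.hom
  have hg2 : g₂ ≫ ZX.hom = str := by
    show _ = g₁ ≫ ZX.hom
    rw [← Over.w j, ← Category.assoc, ← hg, Category.assoc]
  let z₁ : Over.mk str ⟶ ZX := Over.homMk g₁ rfl
  let z₂ : Over.mk str ⟶ ZX := Over.homMk g₂ hg2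
  let tt : Over.mk (Spec.map (CommRingCat.ofHom (Ideal.Quotient.mk (RingHom.ker φ.hom))) ≫ str) ⟶ Over.mk str :=
    Over.homMk (Spec.map (CommRingCat.ofHom (Ideal.Quotient.mk (RingHom.ker φ.hom)))) rfl
  let e : (R ⧸ RingHom.ker φ.hom) ≃+* R' := RingHom.quotientKerEquivOfSurjective hφ
  have he : φ = CommRingCat.ofHom (Ideal.Quotient.mk (RingHom.ker φ.hom)) ≫ e.toCommRingCatIso.hom :=
    CommRingCat.hom_ext (RingHom.ext fun r => (RingHom.quotientKerEquivOfSurjective_apply_mk hφ r).symm)
  have ht : tt ≫ z₁ = tt ≫ z₂ := by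
    ext1
    rw [he, Spec.map_comp, Category.assoc, Category.assoc, cancel_epi] at h
    exact h
  have key := Groth.Agent.S18232.result S M N aX aY f hf R (RingHom.ker φ.hom) hker str
    (eX.homEquiv z₁) (eX.homEquiv z₂)
    ((eX.homEquiv_comp tt z₁).symm.trans ((congrArg (fun z => eX.homEquiv z) ht).trans (eX.homEquiv_comp tt z₂)))
    (by
      rw [← hj, ← hj]
      congr 1
      ext1
      exact hg)
  exact congrArg (fun z => z.left) (eX.homEquiv.injective key)

end Groth.Agent.S18234
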