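import Groth.Statements.S18286
import Groth.Agent.Misc9.MagnetDom
import Mathlib.CategoryTheory.Limits.Shapes.Pullback.IsPullback.Basic
import Mathlib.CategoryTheory.Limits.Types.Pullbacks
-- import your own Groth.Agent.* helpers here

set_option autoImplicit false
universe u
open CategoryTheory MonoidalCategory CartesianMonoidalCategory MonObj AlgebraicGeometry Opposite
open Magnet

namespace Groth.Agent.S18286

/-- Let Y be an S-scheme affine over S with an action of the diagonalizable monoid scheme A(M)_S of a
commutative monoid M, let f : Z → Y be an equivariant closed immersion (for an action of A(M)_S on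
Z), and let N ⊆ M be a submonoid (magnet). Then Z^N = Z ×_Y Y^N: the square of functors on S-schemes
formed by f^N : Z^N → Y^N, the canonical maps Z^N → Z and Y^N → Y (evaluation at the unit section)
and f is cartesian. -/
theorem result (S : Scheme.{u}) (M : Type) [AddCommMonoid M]
    (N : AddSubmonoid M) (Y Z : Over S) [IsAffineHom Y.hom] (aY : Magnet.MonAct (Magnet.AMonS S M) Y)
    (aZ : Magnet.MonAct (Magnet.AMonS S M) Z) (f : Z ⟶ Y) [IsClosedImmersion f.left]
    (hf : Magnet.MonAct.IsEquivariant aZ aY f) :
    IsPullback (Magnet.MonAct.eqvHom.postcomp (Magnet.subAct S M N) f hf) (Magnet.attrToX aZ N)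
      (Magnet.attrToX aY N) (yoneda.map f) := by
  haveI : Mono f := Groth.Agent.Misc9.MagnetDom.mono_of_closedImmersion f
  refine IsPullback.of_forall_isPullback_app fun T => ?_
  rw [CategoryTheory.Limits.Types.isPullback_iff]
  refine ⟨?_, ?_, ?_⟩
  · exact ConcreteCategory.hom_ext _ _ fun φ => (Category.assoc _ φ.1 f).symm
  · rintro x y ⟨h1, -⟩
    exact Subtype.ext ((cancel_mono f).mp (congrArg Subtype.val h1))
  · intro φ z hz
    have hφ := Groth.Agent.Misc9.MagnetDom.whiskerRight_comp_eq (AMonS.map S N.subtype) aY φ.1 φ.2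
    have hz' : lift (toUnit _ ≫ η[AMonS S N]) (𝟙 _) ≫ φ.1 = z ≫ f := hz
    have key : ((AMonS S M ◁ z) ≫ aZ.act) ≫ f = (AMonS.map S N.subtype ▷ unop T) ≫ φ.1 := by
      have h := hf
      unfold MonAct.IsEquivariant at h
      rw [hφ, hz', MonoidalCategory.whiskerLeft_comp, Category.assoc, Category.assoc, h]
    obtain ⟨l, hl⟩ := Groth.Agent.Misc9.MagnetDom.over_lift f (AMonS.map S N.subtype ▷ unop T)
      (Groth.Agent.Misc9.MagnetDom.schDom_subtype_whiskerRight N _) φ.1 _ key
    refine ⟨⟨l, ?_⟩, Subtype.ext hl, ?_⟩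
    · have h := φ.2
      have h' := hf
      unfold MonAct.IsEquivariant at h h' ⊢
      rw [← cancel_mono f, Category.assoc, Category.assoc, hl, h, h', ← MonoidalCategory.whiskerLeft_comp_assoc, hl]
    · show lift (toUnit _ ≫ η[AMonS S N]) (𝟙 _) ≫ l = z
      rw [← cancel_mono f, Category.assoc, hl, hz']

end Groth.Agent.S18286
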