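import Groth.Statements.S18288
import Groth.Agent.Misc9.MagnetDom
-- import your own Groth.Agent.* helpers here

set_option autoImplicit false
open Magnet.MonAct
universe u
open CategoryTheory MonoidalCategory CartesianMonoidalCategory MonObj AlgebraicGeometry Opposite
open Magnet

namespace Groth.Agent.S18288

/-- Let M be a commutative monoid with an injective homomorphism f : M → Z into a commutative group Z
(so M is cancellative; the published statement takes Z to be the group completion of M, and the same
argument applies to any such Z), let Y be a submonoid of Z contained in the image of M, and let X be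
an S-scheme separated over S with an action of the diagonalizable monoid scheme A(M)_S. Regard X as
a D(Z)_S-scheme through D(Z)_S → A(M)_S. Then the canonical map of attractors X^{f⁻¹Y ⊂ M} → X^{Y ⊂
Z} is an isomorphism: a D(Z)_S-equivariant family out of A(Y)_S is automatically A(M)_S-equivariant.
(The published statement allows X to be an algebraic space; here X is a scheme.) -/
theorem result (S : Scheme.{u}) (M Z : Type) [AddCommMonoid M]
    [AddCommGroup Z] (f : M →+ Z) (hf : Function.Injective f) (Y : AddSubmonoid Z)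
    (hY : Y ≤ AddMonoidHom.mrange f) (X : Over S) [IsSeparated X.hom]
    (a : Magnet.MonAct (Magnet.AMonS S M) X) :
    IsIso (Magnet.attrComap a f Y) := by
  classical
  let κ : ↥(Y.comap f) →+ ↥Y := (f.comp (Y.comap f).subtype).codRestrict Y (fun x => x.2)
  have hκ : Function.Bijective κ := by
    refine ⟨fun x y h => Subtype.ext (hf (congrArg (fun z : Y => (z : Z)) h)), fun y => ?_⟩
    obtain ⟨m, hm⟩ := hY y.2
    exact ⟨⟨m, show f m ∈ Y by rw [hm]; exact y.2⟩, Subtype.ext hm⟩
  let e := AddEquiv.ofBijective κ hκ
  have mapid : ∀ (P : Type) [AddCommMonoid P], AMonS.map S (AddMonoidHom.id P) = 𝟙 (AMonS S P) := by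
    intro P _
    have h : AMon.map (ULift.{u} ℤ) (AddMonoidHom.id P) = 𝟙 (AMon (ULift.{u} ℤ) P) := by
      ext : 1
      rw [AMon.map_left]
      refine Eq.trans (congrArg Spec.map ?_) (Spec.map_id _)
      ext x : 2
      · simp
      · simp
    rw [AMonS.map, h]
    exact CategoryTheory.Functor.map_id _ _
  have hid1 : AMonS.map S κ ≫ AMonS.map S e.symm.toAddMonoidHom = 𝟙 (AMonS S Y) := by
    rw [← AMonS.map_comp, ← mapid Y]
    exact congrArg _ (AddMonoidHom.ext fun y => e.apply_symm_apply y)
  have hid2 : AMonS.map S e.symm.toAddMonoidHom ≫ AMonS.map S κ = 𝟙 (AMonS S ↥(Y.comap f)) := by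
    rw [← AMonS.map_comp, ← mapid ↥(Y.comap f)]
    exact congrArg _ (AddMonoidHom.ext fun y => e.symm_apply_apply y)
  have hcomp : AMonS.map S f ≫ AMonS.map S (Y.comap f).subtype ≫ AMonS.map S e.symm.toAddMonoidHom =
      AMonS.map S Y.subtype := by
    rw [← AMonS.map_comp, ← AMonS.map_comp]
    exact congrArg _ (AddMonoidHom.ext fun y => (congrArg (fun z : Y => (z : Z)) (e.apply_symm_apply y)))
  rw [NatTrans.isIso_iff_isIso_app]
  intro T
  rw [isIso_iff_bijective]
  constructor
  · intro φ φ' h
    refine Subtype.ext ?_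
    have h2 := congrArg (fun z => (AMonS.map S e.symm.toAddMonoidHom ▷ unop T) ≫ z) (congrArg Subtype.val h)
    change (AMonS.map S e.symm.toAddMonoidHom ▷ unop T) ≫ (AMonS.map S κ ▷ unop T) ≫ φ.1 =
      (AMonS.map S e.symm.toAddMonoidHom ▷ unop T) ≫ (AMonS.map S κ ▷ unop T) ≫ φ'.1 at h2
    rwa [← MonoidalCategory.comp_whiskerRight_assoc, ← MonoidalCategory.comp_whiskerRight_assoc, hid2,
      MonoidalCategory.id_whiskerRight, Category.id_comp, Category.id_comp] at h2
  · intro ψ
    refine ⟨⟨(AMonS.map S e.symm.toAddMonoidHom ▷ unop T) ≫ ψ.1, ?_⟩, ?_⟩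
    · refine Groth.Agent.Misc9.MagnetDom.over_ext
        (AMonS.map S f ▷ (AMonS S ↥(Y.comap f) ⊗ unop T))
        (Groth.Agent.Misc9.MagnetDom.schDom_map_whiskerRight (S := S) f hf _) ?_
      apply hom_ext_lift₂
      intro T' g z
      rw [← lift_comp_fst_snd z, lift_whiskerRight_assoc, lift_whiskerRight_assoc, lift_prod_act_assoc,
        lift_trivial_act, lift_whiskerLeft_assoc]
      generalize z ≫ fst _ _ = b
      generalize z ≫ snd _ _ = t
      rw [show subAct S M (Y.comap f) = (MonAct.regular _).restrict (AMonS.map S (Y.comap f).subtype) from rfl,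
        lift_restrict_act, lift_regular_act, lift_whiskerRight_assoc, MonObj.mul_comp, lift_whiskerRight_assoc]
      simp only [Category.assoc]
      rw [hcomp]
      have h := (mem_eqvHom_iff ψ.1).mp ψ.2 T' g (b ≫ AMonS.map S e.symm.toAddMonoidHom) t
      simp only [subAct, lift_restrict_act, lift_regular_act] at h
      exact h
    · apply Subtype.ext
      show (AMonS.map S κ ▷ unop T) ≫ (AMonS.map S e.symm.toAddMonoidHom ▷ unop T) ≫ ψ.1 = ψ.1
      rw [← MonoidalCategory.comp_whiskerRight_assoc, hid1, MonoidalCategory.id_whiskerRight, Category.id_comp]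

end Groth.Agent.S18288
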