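import Groth.Statements.S1834
import Groth.Agent.Misc9.DimOne
import Groth.Agent.Misc9.DimOneReduced
-- import your own Groth.Agent.* helpers here

set_option autoImplicit false
universe u
open CycAlg

namespace Groth.Agent.S1834

/-- Let R be a Noetherian local ring of dimension 1 and a, b nonzerodivisors. There is a finite
extension ring R ⊆ R' with R'/R killed by a power of the maximal ideal, and nonzerodivisors t, a',
b' of R' with a = t a', b = t b' and (a', b') the unit ideal of R'. -/
theorem result (R : Type u) [CommRing R] [IsNoetherianRing R] [IsLocalRing R] (hR : ringKrullDim R = 1) (a b : R) (ha : a ∈ nonZeroDivisors R) (hb : b ∈ nonZeroDivisors R) : ∃ (R' : Type u) (_ : CommRing R') (_ : Algebra R R'), CycAlg.IsFinExt R R' (IsLocalRing.maximalIdeal R) ∧ ∃ t a' b' : R', t ∈ nonZeroDivisors R' ∧ a' ∈ nonZeroDivisors R' ∧ b' ∈ nonZeroDivisors R' ∧ algebraMap R R' a = t * a' ∧ algebraMap R R' b = t * b' ∧ Ideal.span {a', b'} = ⊤ := by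
  classical
  have hK : Ring.KrullDimLE 1 R := Ring.krullDimLE_iff.2 hR.le
  have hmin : ∀ s ∈ nonZeroDivisors R, ∀ p ∈ minimalPrimes R, s ∉ p := fun s hs p hp h =>
    Set.disjoint_left.1 (Ideal.disjoint_nonZeroDivisors_of_mem_minimalPrimes hp) h hs
  by_cases ham : a ∈ IsLocalRing.maximalIdeal R
  swap
  · refine ⟨R, inferInstance, inferInstance, ⟨fun x y h => h, inferInstance, 0, fun r _ x => ⟨r * x, rfl⟩⟩,
      1, a, b, one_mem _, ha, hb, by simp, by simp, ?_⟩
    exact Ideal.eq_top_of_isUnit_mem _ (Ideal.subset_span (Set.mem_insert a {b})) (IsLocalRing.notMem_maximalIdeal.1 ham)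
  let ι := {p : PrimeSpectrum R // p.asIdeal ∈ minimalPrimes R}
  let S := ∀ p : ι, Localization.AtPrime p.1.asIdeal
  have hloc : IsLocalization.Away a S := Misc9.DimOneReduced.isLocalizationAway_pi ham (hmin a ha)
  have hfinι : Finite ι := by
    haveI := (minimalPrimes.finite_of_isNoetherianRing R).to_subtype
    exact Finite.of_injective (fun p : ι => (⟨p.1.asIdeal, p.2⟩ : minimalPrimes R))
      (fun x y e => Subtype.ext (PrimeSpectrum.ext (congrArg Subtype.val e)))
  have := Fintype.ofFinite ι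
  -- per minimal prime: a gcd in the normalisation of `R / p`
  have hcomp : ∀ p : ι, ∃ τ α β a₁ b₁ : p.1.asIdeal.ResidueField,
      IsIntegral R τ ∧ IsIntegral R α ∧ IsIntegral R β ∧ IsIntegral R a₁ ∧ IsIntegral R b₁ ∧ τ ≠ 0 ∧
      algebraMap R _ a = τ * a₁ ∧ algebraMap R _ b = τ * b₁ ∧ α * a₁ + β * b₁ = 1 := by
    intro p
    let K := p.1.asIdeal.ResidueField
    let B := R ⧸ p.1.asIdeal
    have : Ring.KrullDimLE 1 B := Ring.krullDimLE_iff.2 ((ringKrullDim_quotient_le _).trans hR.le)
    have : Nontrivial B := Ideal.Quotient.nontrivial_iff.2 p.1.isPrime.ne_top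
    have : IsLocalRing B := IsLocalRing.of_surjective' (Ideal.Quotient.mk _) Ideal.Quotient.mk_surjective
    let D := integralClosure B K
    have := Misc9.DimOne.isDedekindDomain_intClosure B K
    have hsl : Finite (MaximalSpectrum B) := by
      have : Subsingleton (MaximalSpectrum B) :=
        ⟨fun x y => MaximalSpectrum.ext ((IsLocalRing.eq_maximalIdeal x.isMaximal).trans (IsLocalRing.eq_maximalIdeal y.isMaximal).symm)⟩
      exact Finite.of_subsingleton
    have hnf : ¬ IsField B := fun hf => by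
      have := Ideal.Quotient.maximal_of_isField p.1.asIdeal hf
      exact hmin a ha _ p.2 (IsLocalRing.eq_maximalIdeal this ▸ ham)
    have := Misc9.DimOne.finite_maximalSpectrum_intClosure B K hsl hnf
    have : IsPrincipalIdealRing D := IsPrincipalIdealRing.of_finite_maximals (by
      refine (Set.finite_range (fun m : MaximalSpectrum D => m.asIdeal)).subset fun I hI => ⟨⟨I, hI⟩, rfl⟩)
    let a₀ : D := algebraMap B D (Ideal.Quotient.mk _ a)
    let b₀ : D := algebraMap B D (Ideal.Quotient.mk _ b)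
    obtain ⟨τ, hτ⟩ := IsPrincipalIdealRing.principal (Ideal.span {a₀, b₀})
    rw [← Ideal.span] at hτ
    obtain ⟨a₁, ha₁⟩ := Ideal.mem_span_singleton.1 (show a₀ ∈ Ideal.span {τ} from hτ ▸ Ideal.subset_span (Set.mem_insert a₀ {b₀}))
    obtain ⟨b₁, hb₁⟩ := Ideal.mem_span_singleton.1 (show b₀ ∈ Ideal.span {τ} from hτ ▸ Ideal.subset_span (Set.mem_insert_of_mem a₀ rfl))
    obtain ⟨α, β, hαβ⟩ := Ideal.mem_span_pair.1 (hτ.symm ▸ Ideal.mem_span_singleton_self τ)
    have hτ0 : τ ≠ 0 := fun h => by
      have h0 : (algebraMap R K a) = 0 := by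
        have := congrArg Subtype.val ha₁
        rw [h, zero_mul] at this
        exact this
      exact hmin a ha _ p.2 (Ideal.algebraMap_residueField_eq_zero.1 h0)
    have hint : ∀ z : D, IsIntegral R (z : K) := fun z =>
      have : Algebra.IsIntegral R B := Algebra.IsIntegral.of_surjective (Algebra.ofId R B) Ideal.Quotient.mk_surjective
      isIntegral_trans (A := B) (z : K) z.2
    refine ⟨τ, α, β, a₁, b₁, hint _, hint _, hint _, hint _, hint _, fun h => hτ0 (Subtype.ext h),
      congrArg Subtype.val ha₁, congrArg Subtype.val hb₁, ?_⟩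
    have h1 : α * a₁ + β * b₁ = 1 := mul_left_cancel₀ hτ0 (by rw [mul_one]; conv_rhs => rw [← hαβ, ha₁, hb₁]
                                                              ring)
    exact congrArg Subtype.val h1
  choose τ α β a₁ b₁ hτi hαi hβi ha₁i hb₁i hτ0 hτa hτb hsum using hcomp
  let π : ∀ p : ι, Localization.AtPrime p.1.asIdeal →ₐ[R] p.1.asIdeal.ResidueField := fun p =>
    IsScalarTower.toAlgHom R (Localization.AtPrime p.1.asIdeal) p.1.asIdeal.ResidueField
  have hπs : ∀ p, Function.Surjective (π p) := fun p => Ideal.Quotient.mk_surjective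
  have hπn : ∀ p x, π p x = 0 → IsNilpotent x := fun p x hx => by
    rw [nilpotent_iff_mem_prime]
    intro J hJ
    have hx' : x ∈ IsLocalRing.maximalIdeal (Localization.AtPrime p.1.asIdeal) := Ideal.Quotient.eq_zero_iff_mem.1 hx
    have hdis := (IsLocalization.isPrime_iff_isPrime_disjoint p.1.asIdeal.primeCompl _ J).1 hJ
    have hle : J.comap (algebraMap R (Localization.AtPrime p.1.asIdeal)) ≤ p.1.asIdeal :=
      fun c hc => by_contra fun h => Set.disjoint_left.1 hdis.2 h hc
    have heq := le_antisymm hle (p.2.2 ⟨hdis.1, bot_le⟩ hle)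
    have hJm : J = IsLocalRing.maximalIdeal _ := by
      rw [← IsLocalization.map_under p.1.asIdeal.primeCompl _ J,
        ← IsLocalization.map_under p.1.asIdeal.primeCompl _ (IsLocalRing.maximalIdeal (Localization.AtPrime p.1.asIdeal))]
      exact congrArg _ (heq.trans Localization.AtPrime.under_maximalIdeal.symm)
    exact hJm ▸ hx'
  -- integrality modulo nilpotents
  have hint : ∀ z : S, (∀ p, IsIntegral R (π p (z p))) → IsIntegral R z := by
    intro z hz
    choose f hf hf0 using hz
    have hnil : ∀ p, IsNilpotent (Polynomial.aeval (z p) (∏ q, f q)) := fun p => hπn p _ (by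
      rw [← Polynomial.aeval_algHom_apply, map_prod]
      exact Finset.prod_eq_zero (Finset.mem_univ p) (hf0 p))
    choose N hN using hnil
    refine ⟨(∏ q, f q) ^ (∑ p, N p), (Polynomial.monic_prod_of_monic _ _ fun q _ => hf q).pow _, ?_⟩
    rw [← Polynomial.aeval_def, map_pow]
    funext p
    have hp : (Polynomial.aeval z (∏ q, f q)) p = Polynomial.aeval (z p) (∏ q, f q) :=
      (Polynomial.aeval_algHom_apply (Pi.evalAlgHom R _ p) z _).symm
    rw [Pi.pow_apply, hp]
    exact pow_eq_zero_of_le (Finset.single_le_sum (fun q _ => Nat.zero_le (N q)) (Finset.mem_univ p)) (hN p)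
  have hlift := fun p => hπs p (τ p)
  choose t ht using hlift
  choose al hal using fun p => hπs p (α p)
  choose be hbe using fun p => hπs p (β p)
  have htu : IsUnit t := Pi.isUnit_iff.2 fun p => by
    by_contra h
    exact hτ0 p ((ht p).symm.trans (Ideal.Quotient.eq_zero_iff_mem.2 ((IsLocalRing.mem_maximalIdeal _).2 h)))
  obtain ⟨u, hu⟩ := htu
  let a' : S := algebraMap R S a * ↑u⁻¹
  let b' : S := algebraMap R S b * ↑u⁻¹
  have hcancel : ∀ (p : ι) (c : R) (x : p.1.asIdeal.ResidueField), algebraMap R _ c = τ p * x →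
      π p ((algebraMap R S c * ↑u⁻¹) p) = x := fun p c x h => by
    have h1 : ((↑u⁻¹ : S) p) * t p = 1 := by
      rw [← hu, ← Pi.mul_apply, Units.inv_mul, Pi.one_apply]
    have h2 : π p ((↑u⁻¹ : S) p) * τ p = 1 := by rw [← ht p, ← map_mul, h1, map_one]
    rw [Pi.mul_apply, map_mul, Pi.algebraMap_apply, AlgHom.commutes, h, mul_right_comm, mul_comm (τ p), h2, one_mul]
  have hnilν : IsNilpotent (al * a' + be * b' - 1) := by
    have : ∀ p, IsNilpotent ((al * a' + be * b' - 1) p) := fun p => hπn p _ (by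
      rw [Pi.sub_apply, Pi.add_apply, Pi.mul_apply, Pi.mul_apply, Pi.one_apply, map_sub, map_add, map_mul,
        map_mul, map_one, hal, hbe, hcancel p a _ (hτa p), hcancel p b _ (hτb p), hsum, sub_self])
    choose N hN using this
    refine ⟨∑ p, N p, funext fun p => ?_⟩
    rw [Pi.pow_apply]
    exact pow_eq_zero_of_le (Finset.single_le_sum (fun q _ => Nat.zero_le (N q)) (Finset.mem_univ p)) (hN p)
  let T : Set S := {t, al, be, a', b'}
  let R' := Algebra.adjoin R T
  have hfg : R'.toSubmodule.FG := fg_adjoin_of_finite (Set.toFinite T) (by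
    rintro z (rfl | rfl | rfl | rfl | rfl) <;> refine hint _ fun p => ?_
    · exact (ht p).symm ▸ hτi p
    · exact (hal p).symm ▸ hαi p
    · exact (hbe p).symm ▸ hβi p
    · exact (hcancel p a _ (hτa p)).symm ▸ ha₁i p
    · exact (hcancel p b _ (hτb p)).symm ▸ hb₁i p)
  have hfinR' : Module.Finite R R' := Module.Finite.iff_fg.2 hfg
  have hpow : Submonoid.powers a ≤ nonZeroDivisors R := by
    rintro _ ⟨n, rfl⟩
    exact pow_mem ha n
  have hinjS : Function.Injective (algebraMap R S) := IsLocalization.injective S hpow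
  have hreg : ∀ c : R', IsUnit (c : S) → c ∈ nonZeroDivisors R' := fun c hc =>
    mem_nonZeroDivisors_iff_right.2 fun z hz => Subtype.ext (hc.mul_left_eq_zero.1 (congrArg Subtype.val hz))
  have hbu : IsUnit (algebraMap R S b) := Pi.isUnit_iff.2 fun p =>
    IsLocalization.map_units (Localization.AtPrime p.1.asIdeal) (⟨b, hmin b hb _ p.2⟩ : p.1.asIdeal.primeCompl)
  have hau : IsUnit (algebraMap R S a) := IsLocalization.Away.algebraMap_isUnit a
  obtain ⟨Tm, hTm⟩ := hfg
  obtain ⟨⟨g, hg⟩, hgT⟩ := IsLocalization.exist_integer_multiples_of_finset (Submonoid.powers a) Tm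
  obtain ⟨N, rfl⟩ := hg
  have hclear : ∀ z ∈ R', algebraMap R S (a ^ N) * z ∈ (algebraMap R S).range := fun z hz => by
    have hle : Submodule.span R (Tm : Set S) ≤
        (LinearMap.range (Algebra.linearMap R S)).comap (LinearMap.mulLeft R (algebraMap R S (a ^ N))) := by
      rw [Submodule.span_le]
      intro c hc
      obtain ⟨d, hd⟩ := hgT c hc
      exact ⟨d, hd.trans (Algebra.smul_def (a ^ N) c)⟩
    obtain ⟨d, hd⟩ := hle (hTm ▸ hz : z ∈ Submodule.span R (Tm : Set S))
    exact ⟨d, hd⟩
  obtain ⟨M, hM⟩ := Ideal.exists_pow_le_of_le_radical_of_fg (I := IsLocalRing.maximalIdeal R)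
    (J := Ideal.span {a ^ N}) (fun x hx => by
      obtain ⟨n, hn⟩ := Misc9.DimOneReduced.exists_pow_mem_span hx (Ideal.span {a ^ N}) fun p hp hle =>
        hmin _ (pow_mem ha N) p hp (hle (Ideal.mem_span_singleton_self _))
      exact ⟨n, hn⟩) (IsNoetherian.noetherian _)
  refine ⟨R', inferInstance, inferInstance, ⟨fun x y h => hinjS (congrArg Subtype.val h), hfinR', M, fun r hr z => ?_⟩,
    ⟨t, Algebra.subset_adjoin (by simp [T])⟩, ⟨a', Algebra.subset_adjoin (by simp [T])⟩,
    ⟨b', Algebra.subset_adjoin (by simp [T])⟩, hreg _ (hu ▸ u.isUnit), hreg _ (hau.mul (Units.isUnit _)),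
    hreg _ (hbu.mul (Units.isUnit _)), Subtype.ext ?_, Subtype.ext ?_, ?_⟩
  · obtain ⟨c, rfl⟩ := Ideal.mem_span_singleton.1 (hM hr)
    obtain ⟨d, hd⟩ := hclear z z.2
    refine ⟨d * c, Subtype.ext ?_⟩
    change algebraMap R S (d * c) = (a ^ N * c) • (z : S)
    rw [map_mul, hd, Algebra.smul_def, map_mul]
    ring
  · change algebraMap R S a = t * a'
    rw [← hu, mul_left_comm, Units.mul_inv, mul_one]
  · change algebraMap R S b = t * b'
    rw [← hu, mul_left_comm, Units.mul_inv, mul_one]
  · let ν : R' := ⟨al, Algebra.subset_adjoin (by simp [T])⟩ * ⟨a', Algebra.subset_adjoin (by simp [T])⟩ +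
      ⟨be, Algebra.subset_adjoin (by simp [T])⟩ * ⟨b', Algebra.subset_adjoin (by simp [T])⟩
    refine Ideal.eq_top_of_isUnit_mem _ (x := ν) (add_mem (Ideal.mul_mem_left _ _ (Ideal.subset_span (Set.mem_insert _ _)))
      (Ideal.mul_mem_left _ _ (Ideal.subset_span (Set.mem_insert_of_mem _ rfl)))) ?_
    obtain ⟨n, hn⟩ := hnilν
    have hν : IsNilpotent (ν - 1) := ⟨n, Subtype.ext (by rw [Subalgebra.coe_pow]; exact hn)⟩
    have := hν.isUnit_add_one
    rwa [sub_add_cancel] at this

end Groth.Agent.S1834
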