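import Groth.Statements.S1835
import Groth.Agent.Misc9.DimOne
-- import your own Groth.Agent.* helpers here

set_option autoImplicit false
universe u
open CycAlg

namespace Groth.Agent.S1835

/-- Let R be a Noetherian local ring of dimension 1, a a nonzerodivisor in the maximal ideal and b a
nonzerodivisor. There is an integer n such that whenever b = a^m c in some finite extension ring R ⊆
R', one has m ≤ n. -/
theorem result (R : Type u) [CommRing R] [IsNoetherianRing R] [IsLocalRing R] (hR : ringKrullDim R = 1) (a b : R) (ha : a ∈ nonZeroDivisors R) (ham : a ∈ IsLocalRing.maximalIdeal R) (hb : b ∈ nonZeroDivisors R) : ∃ n : ℕ, ∀ (R' : Type u) [CommRing R'] [Algebra R R'], Function.Injective (algebraMap R R') → Module.Finite R R' → ∀ (m : ℕ) (c : R'), algebraMap R R' b = algebraMap R R' a ^ m * c → m ≤ n := by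
  classical
  obtain ⟨p, hp, -⟩ := Ideal.exists_minimalPrimes_le (I := (⊥ : Ideal R)) (J := IsLocalRing.maximalIdeal R) bot_le
  have := hp.1.1
  have hane : a ∉ p := fun h =>
    Set.disjoint_left.1 (Ideal.disjoint_nonZeroDivisors_of_mem_minimalPrimes hp) h ha
  have hbne : b ∉ p := fun h =>
    Set.disjoint_left.1 (Ideal.disjoint_nonZeroDivisors_of_mem_minimalPrimes hp) h hb
  have : Ring.KrullDimLE 1 (R ⧸ p) := Ring.krullDimLE_iff.2 ((ringKrullDim_quotient_le p).trans hR.le)
  let K := FractionRing (R ⧸ p)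
  let D := integralClosure (R ⧸ p) K
  have := Misc9.DimOne.isDedekindDomain_intClosure (R ⧸ p) K
  have : IsFractionRing D K := Misc9.DimOne.isFractionRing_intClosure (R ⧸ p) K
  let α : D := algebraMap (R ⧸ p) D (Ideal.Quotient.mk p a)
  let β : D := algebraMap (R ⧸ p) D (Ideal.Quotient.mk p b)
  have hinj : Function.Injective (algebraMap (R ⧸ p) D) := Misc9.DimOne.algebraMap_injective (C := D) (R ⧸ p) K K
  have hα : Ideal.span {α} ≠ ⊤ := fun h => by
    have hu : IsUnit α := Ideal.span_singleton_eq_top.1 h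
    have : Algebra.IsIntegral (R ⧸ p) D := IsIntegralClosure.isIntegral_algebra (R ⧸ p) K
    have hu' : IsUnit (Ideal.Quotient.mk p a) := by
      by_contra hn
      obtain ⟨M, hM, haM⟩ := exists_max_ideal_of_mem_nonunits (mem_nonunits_iff.2 hn)
      have : FaithfulSMul (R ⧸ p) D := (faithfulSMul_iff_algebraMap_injective _ _).2 hinj
      obtain ⟨Q, hQ, hlies⟩ := Ideal.exists_maximal_ideal_liesOver_of_isIntegral (S := D) M
      have hMQ : M = Q.comap (algebraMap (R ⧸ p) D) := hlies.over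
      exact hQ.ne_top (Ideal.eq_top_of_isUnit_mem _ (Ideal.mem_comap.1 (hMQ ▸ haM)) hu)
    obtain ⟨u, hu'⟩ := hu'.exists_right_inv
    obtain ⟨u, rfl⟩ := Ideal.Quotient.mk_surjective u
    rw [← map_mul, ← map_one (Ideal.Quotient.mk p), Ideal.Quotient.eq] at hu'
    have hone := (IsLocalRing.maximalIdeal R).sub_mem ((IsLocalRing.maximalIdeal R).mul_mem_right u ham)
      (IsLocalRing.le_maximalIdeal (Ideal.IsPrime.ne_top inferInstance) hu')
    rw [sub_sub_cancel] at hone
    exact (IsLocalRing.maximalIdeal.isMaximal R).ne_top ((Ideal.eq_top_iff_one _).2 hone)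
  have hβ : β ≠ 0 := fun h => hbne (Ideal.Quotient.eq_zero_iff_mem.1 (hinj (h.trans (map_zero _).symm)))
  obtain ⟨n, hn⟩ : ∃ n, β ∉ Ideal.span {α} ^ n := by
    by_contra! h
    have := Ideal.mem_iInf.2 h
    rw [Ideal.iInf_pow_eq_bot_of_isDomain _ hα, Ideal.mem_bot] at this
    exact hβ this
  refine ⟨n, fun R' _ _ hinjR hfin m c hc => ?_⟩
  by_contra hnm
  apply hn
  obtain ⟨Q, -, hQ, hQp⟩ := Ideal.exists_ideal_over_prime_of_isIntegral (R := R) (S := R') p ⊥
    (by intro x hx; rw [Ideal.mem_comap, Ideal.mem_bot] at hx; rw [hinjR (hx.trans (map_zero _).symm)]; exact zero_mem p)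
  let π : R' →+* R' ⧸ Q := Ideal.Quotient.mk Q
  let ι : R ⧸ p →+* R' ⧸ Q := Ideal.Quotient.lift p (π.comp (algebraMap R R')) fun x hx =>
    Ideal.Quotient.eq_zero_iff_mem.2 (Ideal.mem_comap.1 (hQp.symm ▸ hx))
  have hι : Function.Injective ι := by
    rw [injective_iff_map_eq_zero]
    intro x hx
    obtain ⟨x, rfl⟩ := Ideal.Quotient.mk_surjective x
    exact Ideal.Quotient.eq_zero_iff_mem.2 (hQp ▸ Ideal.mem_comap.2 (Ideal.Quotient.eq_zero_iff_mem.1 hx))
  let L := FractionRing (R' ⧸ Q)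
  let j : R ⧸ p →+* L := (algebraMap (R' ⧸ Q) L).comp ι
  have hj : Function.Injective j := (IsFractionRing.injective (R' ⧸ Q) L).comp hι
  obtain ⟨J, hJ⟩ : ∃ J : K →+* L, ∀ x, J (algebraMap (R ⧸ p) K x) = j x :=
    ⟨IsFractionRing.lift hj, fun x => IsFractionRing.lift_algebraMap hj x⟩
  have hcint : (algebraMap R R').IsIntegralElem c := Algebra.IsIntegral.isIntegral c
  have hjint : j.IsIntegralElem (algebraMap (R' ⧸ Q) L (π c)) := by
    obtain ⟨f, hf, hf0⟩ := hcint
    refine ⟨f.map (Ideal.Quotient.mk p), hf.map _, ?_⟩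
    rw [Polynomial.eval₂_map]
    have h1 : j.comp (Ideal.Quotient.mk p) = ((algebraMap (R' ⧸ Q) L).comp π).comp (algebraMap R R') := rfl
    rw [h1]
    have h2 := Polynomial.hom_eval₂ f (algebraMap R R') ((algebraMap (R' ⧸ Q) L).comp π) c
    rw [hf0, map_zero] at h2
    exact h2.symm
  have hap : Ideal.Quotient.mk p a ≠ 0 := fun h => hane (Ideal.Quotient.eq_zero_iff_mem.1 h)
  have hα0 : algebraMap (R ⧸ p) K (Ideal.Quotient.mk p a) ≠ 0 :=
    fun h => hap (IsFractionRing.injective (R ⧸ p) K (h.trans (map_zero _).symm))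
  let z : K := algebraMap (R ⧸ p) K (Ideal.Quotient.mk p b) / algebraMap (R ⧸ p) K (Ideal.Quotient.mk p a) ^ m
  have hJz : J z = algebraMap (R' ⧸ Q) L (π c) := by
    simp only [z, map_div₀, map_pow, hJ]
    rw [div_eq_iff (pow_ne_zero _ fun h => hap (hj (h.trans (map_zero _).symm)))]
    change algebraMap (R' ⧸ Q) L (π (algebraMap R R' b)) = _ * algebraMap (R' ⧸ Q) L (π (algebraMap R R' a)) ^ m
    rw [hc, map_mul, map_mul, map_pow, map_pow, mul_comm]
  have hz : IsIntegral (R ⧸ p) z := by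
    obtain ⟨f, hf, hf0⟩ := hjint
    refine ⟨f, hf, J.injective ?_⟩
    rw [map_zero, Polynomial.hom_eval₂, hJz]
    have hcomp : J.comp (algebraMap (R ⧸ p) K) = j := RingHom.ext hJ
    rw [hcomp]
    exact hf0
  have hmem : β ∈ Ideal.span {α} ^ m := by
    rw [Ideal.span_singleton_pow, Ideal.mem_span_singleton']
    refine ⟨⟨z, hz⟩, Subtype.ext ?_⟩
    exact div_mul_cancel₀ _ (pow_ne_zero _ hα0)
  exact Ideal.pow_le_pow_right (Nat.le_of_lt (not_le.1 hnm)) hmem

end Groth.Agent.S1835
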