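import Groth.Statements.S18367
import Groth.Agent.S14128
import Groth.Agent.Segre.CM

set_option autoImplicit false
universe u
open CategoryTheory CategoryTheory.Limits
open LocAlg

namespace Groth.Agent.S18367

/-- Let R be a Cohen–Macaulay local ring of Krull dimension g and K = (K^0 → K^1 → ⋯) a bounded cochain
complex of finitely generated free R-modules (K^i = 0 for i > N) such that every cohomology module
H^i(K) has finite length. Then H^i(K) = 0 for all i < g. -/
theorem result (R : Type u) [CommRing R]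
    [LocCoh.IsCohenMacaulayLocalRing R] (g : ℕ) (hg : ringKrullDim R = g) (K : CochainComplex (ModuleCat.{u} R) ℕ)
    (N : ℕ) (hbd : ∀ i, N < i → IsZero (K.X i)) (hfree : ∀ i, Module.Free R (K.X i) ∧ Module.Finite R (K.X i))
    (hfl : ∀ i, IsFiniteLength R (K.homology i)) (i : ℕ) (hi : i < g) :
    IsZero (K.homology i) := by
  obtain ⟨g', rfl⟩ : ∃ g', g = g' + 1 := ⟨g - 1, by omega⟩
  obtain ⟨l, hlen, hreg, hmem⟩ := Segre.CM.exists_regular_of_cm (L := R) (n := g') (by rw [hg])
  have hlg : g' + 1 ≤ l.length := hlen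
  have hregF : ∀ j, RingTheory.Sequence.IsWeaklyRegular (K.X j) l := fun j => by
    haveI := (hfree j).1
    exact ((TensorProduct.rid R (K.X j)).isWeaklyRegular_congr l).mp hreg.isWeaklyRegular_lTensor
  have hd : ∀ j z, (K.d (j + 1) (j + 1 + 1)).hom ((K.d j (j + 1)).hom z) = 0 := fun j z => by
    rw [← LinearMap.comp_apply, ← ModuleCat.hom_comp, K.d_comp_d]; rfl
  
  obtain ⟨h0, hs⟩ := Groth.Agent.S14128.exact_of_kill (rs := l) (fun j => K.X j) (fun j => (K.d j (j + 1)).hom) hd hregF
    (fun x hx z hz => by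
      have hp : (ComplexShape.up ℕ).prev 0 = 0 := CochainComplex.prev_nat_zero
      obtain ⟨N, y, hy⟩ := Groth.Agent.S14128.exists_pow_smul_mem (K.sc' 0 0 1)
        ((LinearEquiv.isFiniteLength (K.homologyIsoSc' 0 0 1 hp (by simp)).toLinearEquiv (hfl 0))) (hmem x hx) z hz
      refine ⟨N, hy.trans ?_⟩
      show (K.d 0 0).hom y = 0
      rw [K.shape 0 0 (by simp)]; rfl)
    (fun x hx j z hz => Groth.Agent.S14128.exists_pow_smul_mem (K.sc' j (j + 1) (j + 1 + 1))
      ((LinearEquiv.isFiniteLength (K.homologyIsoSc' j (j + 1) (j + 1 + 1) (by simp) (by simp)).toLinearEquiv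
        (hfl (j + 1)))) (hmem x hx) z hz)
  rw [← K.exactAt_iff_isZero_homology]
  cases i with
  | zero =>
    rw [K.exactAt_iff' 0 0 1 CochainComplex.prev_nat_zero (by simp), ShortComplex.moduleCat_exact_iff]
    intro z hz
    exact ⟨0, (map_zero _).trans (h0 (lt_of_lt_of_le hi hlg) z hz).symm⟩
  | succ j =>
    rw [K.exactAt_iff' j (j + 1) (j + 1 + 1) (by simp) (by simp), ShortComplex.moduleCat_exact_iff]
    exact fun z hz => hs j (lt_of_lt_of_le hi hlg) z hz

end Groth.Agent.S18367
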