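import Groth.Statements.S18370


set_option autoImplicit false
universe u
open CategoryTheory CategoryTheory.Limits MonoidalCategory CartesianMonoidalCategory MonObj GrpObj AlgebraicGeometry
open GrpSch

namespace Groth.Agent.S18370

/-- Let S be a scheme and G a commutative S-group scheme which is killed by a natural number n, i.e. the
n-th power map of G is the trivial homomorphism, and let n = a·b with a and b coprime. If i_a : G_a
→ G and i_b : G_b → G are scheme-theoretic kernels of the a-th and b-th power maps of G, then the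
morphism G_a ×_S G_b → G sending (x, y) to i_a(x)·i_b(y) is an isomorphism of S-schemes. (The
published statement assumes n ≠ 0; the case n = 0, where {a, b} = {0, 1} and one kernel is all of G
while the other is trivial, is included here.) -/
theorem result {S : Scheme.{u}} (G Ga Gb : Over S)
    [GrpObj G] [IsCommMonObj G] (n a b : ℕ) (hn : n = a * b) (hab : Nat.Coprime a b)
    (hG : (𝟙 G) ^ n = 1)
    (ia : Ga ⟶ G) (hia : AlgGrp.IsKernel ia ((𝟙 G) ^ a))
    (ib : Gb ⟶ G) (hib : AlgGrp.IsKernel ib ((𝟙 G) ^ b)) :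
    IsIso ((fst Ga Gb ≫ ia) * (snd Ga Gb ≫ ib)) := by
  obtain ⟨u, v, huv⟩ := Nat.Coprime.isCoprime hab
  have hnz : ∀ (T : Over S) (g : T ⟶ G) (z : ℤ), g ^ ((n : ℤ) * z) = 1 := fun T g z => by
    rw [zpow_mul, zpow_natCast]
    have : g ^ n = 1 := by
      have := congrArg (g ≫ ·) hG
      simpa [MonObj.comp_pow] using this
    rw [this, one_zpow]
  have hwa : ((𝟙 G : G ⟶ G) ^ (v * (b : ℤ))) ≫ ((𝟙 G) ^ a) = toUnit G ≫ η[G] := by
    rw [MonObj.comp_pow, Category.comp_id, ← zpow_natCast, ← zpow_mul, ← Hom.one_def]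
    convert hnz G (𝟙 G) v using 2
    rw [hn]; push_cast; ring
  have hwb : ((𝟙 G : G ⟶ G) ^ (u * (a : ℤ))) ≫ ((𝟙 G) ^ b) = toUnit G ≫ η[G] := by
    rw [MonObj.comp_pow, Category.comp_id, ← zpow_natCast, ← zpow_mul, ← Hom.one_def]
    convert hnz G (𝟙 G) u using 2
    rw [hn]; push_cast; ring
  have hia' : ia ^ a = 1 := by
    have := hia.w
    rwa [MonObj.comp_pow, Category.comp_id, ← Hom.one_def] at this
  have hib' : ib ^ b = 1 := by
    have := hib.w
    rwa [MonObj.comp_pow, Category.comp_id, ← Hom.one_def] at this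
  refine ⟨lift (hia.lift _ _ hwa) (hib.lift _ _ hwb), ?_, ?_⟩
  · have hm : ∀ z : ℤ, (fst Ga Gb ≫ ia * snd Ga Gb ≫ ib) ≫ ((𝟙 G : G ⟶ G) ^ z) =
        (fst Ga Gb ≫ ia) ^ z * (snd Ga Gb ≫ ib) ^ z := fun z => by
      rw [GrpObj.comp_zpow, Category.comp_id, mul_zpow]
    have hxa : ∀ z : ℤ, (fst Ga Gb ≫ ia) ^ ((a : ℤ) * z) = 1 := fun z => by
      rw [zpow_mul, zpow_natCast, ← MonObj.comp_pow, hia', MonObj.comp_one, one_zpow]
    have hxb : ∀ z : ℤ, (snd Ga Gb ≫ ib) ^ ((b : ℤ) * z) = 1 := fun z => by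
      rw [zpow_mul, zpow_natCast, ← MonObj.comp_pow, hib', MonObj.comp_one, one_zpow]
    apply CartesianMonoidalCategory.hom_ext
    · apply hia.hom_ext
      · simp only [Category.assoc, lift_fst_assoc, hia.lift_fst, Category.id_comp]
        rw [hm, mul_comm v, hxb v, _root_.mul_one]
        have e : (b : ℤ) * v = 1 + (a : ℤ) * -u := by linarith
        rw [e, zpow_add, zpow_one, hxa, _root_.mul_one]
      · exact toUnit_unique _ _
    · apply hib.hom_ext
      · simp only [Category.assoc, lift_snd_assoc, hib.lift_fst, Category.id_comp]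
        rw [hm, mul_comm u, hxa u, _root_.one_mul]
        have e : (a : ℤ) * u = 1 + (b : ℤ) * -v := by linarith
        rw [e, zpow_add, zpow_one, hxb, _root_.mul_one]
      · exact toUnit_unique _ _
  · rw [MonObj.comp_mul, lift_fst_assoc, lift_snd_assoc, hia.lift_fst, hib.lift_fst, ← zpow_add]
    rw [show v * (b : ℤ) + u * (a : ℤ) = 1 by linarith, zpow_one]

end Groth.Agent.S18370
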