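import Groth.Statements.S18378
import Groth.Agent.Verlinde.Schur
import Groth.Agent.Verlinde.Orth
-- import your own Groth.Agent.* helpers here

set_option autoImplicit false
open Complex
open VerlindeComb

namespace Groth.Agent.S18378

/-- Let r, k ≥ 1 be integers and v, v' two integer vectors with r + k > v_1 > ⋯ > v_r ≥ 0 and r + k >
v'_1 > ⋯ > v'_r ≥ 0 whose difference v - v' is not a constant vector (a, …, a). Put z_j = exp(2πi
v_j / (r + k)), z'_j = exp(2πi v'_j / (r + k)), let S_μ(w) = det(w_j^{μ_i + r - i}) / det(w_j^{r -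
i}) be the Schur value at w = z or z', and write |x| for the sum of the coordinates of a vector and
μ* = (k - μ_r, …, k - μ_1). Then the sum over all μ with k ≥ μ_1 ≥ ⋯ ≥ μ_{r-1} ≥ μ_r = 0 of exp(-2πi
|μ| |v| / (r (r + k))) · exp(-2πi |μ*| |v'| / (r (r + k))) · S_μ(z) · S_{μ*}(z') is zero. The
vanishing is the orthogonality of distinct characters and holds exactly for non-equivalent v, v';
for v - v' constant the sum is nonzero. Indices are 0-based below: μ i stands for μ_{i+1}. -/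
theorem result (r k : ℕ) (hr : 1 ≤ r)
    (hk : 1 ≤ k) (v v' : Fin r → ℕ) (hv : StrictAnti v) (hvlt : ∀ i, v i < r + k) (hv' : StrictAnti v')
    (hv'lt : ∀ i, v' i < r + k) (hne : ¬ ∃ a : ℤ, ∀ i, (v i : ℤ) - (v' i : ℤ) = a)
    (z z' : Fin r → ℂ) (hz : ∀ j, z j = Complex.exp (2 * Real.pi * Complex.I * (v j : ℂ) / ((r : ℂ) + k)))
    (hz' : ∀ j, z' j = Complex.exp (2 * Real.pi * Complex.I * (v' j : ℂ) / ((r : ℂ) + k)))
    (S S' : (Fin r → ℕ) → ℂ)
    (hS : ∀ μ : Fin r → ℕ, S μ =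
      (Matrix.of fun i j : Fin r => z j ^ (μ i + (r - 1 - (i : ℕ)))).det /
        (Matrix.of fun i j : Fin r => z j ^ (r - 1 - (i : ℕ))).det)
    (hS' : ∀ μ : Fin r → ℕ, S' μ =
      (Matrix.of fun i j : Fin r => z' j ^ (μ i + (r - 1 - (i : ℕ)))).det /
        (Matrix.of fun i j : Fin r => z' j ^ (r - 1 - (i : ℕ))).det) :
    (∑ μ ∈ (Finset.univ : Finset (Fin r → Fin (k + 1))).filter
        (fun μ : Fin r → Fin (k + 1) => Antitone μ ∧ ∀ i : Fin r, (i : ℕ) = r - 1 → (μ i : ℕ) = 0),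
      Complex.exp (-(2 * Real.pi * Complex.I * ((∑ i, (μ i : ℕ) : ℕ) : ℂ) * ((∑ j, v j : ℕ) : ℂ) /
          ((r : ℂ) * ((r : ℂ) + k)))) *
      Complex.exp (-(2 * Real.pi * Complex.I * ((∑ i, (k - (μ (Fin.rev i) : ℕ)) : ℕ) : ℂ) *
          ((∑ j, v' j : ℕ) : ℂ) / ((r : ℂ) * ((r : ℂ) + k)))) *
      S (fun i => (μ i : ℕ)) * S' (fun i => k - (μ (Fin.rev i) : ℕ))) = 0 := by
  open Finset Groth.Agent.Verlinde.Basic Groth.Agent.Verlinde.Schur in
  haveI : NeZero (r + k) := ⟨by omega⟩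
  have hN0 : r + k ≠ 0 := by omega
  have hrC : (r : ℂ) ≠ 0 := Nat.cast_ne_zero.mpr (by omega)
  have hzE : ∀ j, z j = E (r + k) (v j) := fun j => by
    rw [hz j, E]
    push_cast
    ring_nf
  have hz'E : ∀ j, z' j = E (r + k) (v' j) := fun j => by
    rw [hz' j, E]
    push_cast
    ring_nf
  set t : ℤ := ∑ i, ((v i : ℤ) - v' i) with ht
  set c : ℕ := ∑ i : Fin r, (r - 1 - (i : ℕ))
  set V' : ℕ := ∑ j, v' j
  set C : ℂ := E (r + k) ((c : ℂ) * t / r - (k : ℂ) * V') *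
    ((∏ j, z' j)⁻¹ / (alt z (fun i => r - 1 - (i : ℕ)) * (Matrix.vandermonde z').det)) with hC
  let A : Fin r → Fin (r + k) → ℂ := fun j a => E (r + k) ((v j : ℂ) - (t : ℂ) / r) ^ (a : ℕ)
  let B : Fin r → Fin (r + k) → ℂ := fun l a => E (r + k) (-(v' l : ℂ)) ^ (a : ℕ)
  have hterm : ∀ μ : Fin r → Fin (k + 1),
      Complex.exp (-(2 * Real.pi * Complex.I * ((∑ i, (μ i : ℕ) : ℕ) : ℂ) * ((∑ j, v j : ℕ) : ℂ) /
          ((r : ℂ) * ((r : ℂ) + k)))) *
      Complex.exp (-(2 * Real.pi * Complex.I * ((∑ i, (k - (μ (Fin.rev i) : ℕ)) : ℕ) : ℂ) *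
          ((∑ j, v' j : ℕ) : ℂ) / ((r : ℂ) * ((r : ℂ) + k)))) *
      S (fun i => (μ i : ℕ)) * S' (fun i => k - (μ (Fin.rev i) : ℕ)) =
      (fun e : Fin r → ℕ => (E (r + k) (-(t : ℂ) / r)) ^ (∑ i, e i) * alt z e *
        alt (fun j => (z' j)⁻¹) e * C) (fun i => (μ i : ℕ) + (r - 1 - (i : ℕ))) := by
    intro μ
    have hw : (∑ i, (μ i : ℕ)) + (∑ i, (k - (μ (Fin.rev i) : ℕ))) = r * k := by
      rw [show (∑ i, (k - (μ (Fin.rev i) : ℕ))) = ∑ i, (k - (μ i : ℕ)) from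
        Equiv.sum_comp Fin.revPerm (fun i => k - (μ i : ℕ)), ← Finset.sum_add_distrib,
        Finset.sum_congr rfl (fun i _ => show (μ i : ℕ) + (k - (μ i : ℕ)) = k from
          Nat.add_sub_cancel' (Nat.le_of_lt_succ (μ i).isLt))]
      simp
    have hw' : ((∑ i, (μ i : ℕ) : ℕ) : ℂ) + ((∑ i, (k - (μ (Fin.rev i) : ℕ)) : ℕ) : ℂ) = (r : ℂ) * k := by
      exact_mod_cast hw
    have htC : (t : ℂ) = ((∑ j, v j : ℕ) : ℂ) - (V' : ℂ) := by
      rw [ht]
      push_cast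
      rw [Finset.sum_sub_distrib]
      simp [V']
    have hN : ((r : ℂ) + k) ≠ 0 := by
      have : ((r + k : ℕ) : ℂ) ≠ 0 := Nat.cast_ne_zero.mpr hN0
      push_cast at this
      exact this
    have h1 : Complex.exp (-(2 * Real.pi * Complex.I * ((∑ i, (μ i : ℕ) : ℕ) : ℂ) * ((∑ j, v j : ℕ) : ℂ) /
          ((r : ℂ) * ((r : ℂ) + k)))) *
        Complex.exp (-(2 * Real.pi * Complex.I * ((∑ i, (k - (μ (Fin.rev i) : ℕ)) : ℕ) : ℂ) *
          ((∑ j, v' j : ℕ) : ℂ) / ((r : ℂ) * ((r : ℂ) + k)))) =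
        (E (r + k) (-(t : ℂ) / r)) ^ (∑ i, ((μ i : ℕ) + (r - 1 - (i : ℕ)))) *
          E (r + k) ((c : ℂ) * t / r - (k : ℂ) * V') := by
      rw [E_pow, ← E_add, ← Complex.exp_add, E, Finset.sum_add_distrib]
      simp only [Nat.cast_add]
      congr 1
      rw [show ((∑ i : Fin r, (r - 1 - (i : ℕ)) : ℕ) : ℂ) = (c : ℂ) from rfl, htC,
        show ((∑ j, v' j : ℕ) : ℂ) = (V' : ℂ) from rfl,
        eq_sub_of_add_eq' hw']
      field_simp
      ring
    have h2 := schur_mul hr k z z' (fun j => by rw [hz'E j]; exact E_natCast_pow_N hN0 _)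
      (fun i => (μ i : ℕ)) (fun i => Nat.le_of_lt_succ (μ i).isLt)
    rw [mul_assoc _ (S _) (S' _), hS, hS']
    show _ * (alt z (fun i => (μ i : ℕ) + (r - 1 - (i : ℕ))) / alt z (fun i => r - 1 - (i : ℕ)) *
      (alt z' (fun i => (k - (μ (Fin.rev i) : ℕ)) + (r - 1 - (i : ℕ))) / alt z' (fun i => r - 1 - (i : ℕ)))) = _
    rw [h1, h2, hC]
    ring
  rw [Finset.sum_congr rfl fun μ _ => hterm μ]
  have hfilt : (Finset.univ : Finset (Fin r → Fin (k + 1))).filter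
      (fun μ : Fin r → Fin (k + 1) => Antitone μ ∧ ∀ i : Fin r, (i : ℕ) = r - 1 → (μ i : ℕ) = 0) =
      (Finset.univ : Finset (Fin r → Fin (k + 1))).filter (fun μ : Fin r → Fin (k + 1) => Antitone μ ∧
        (fun e : Fin r → ℕ => ∀ i : Fin r, (i : ℕ) = r - 1 → e i = 0) (fun i => (μ i : ℕ) + (r - 1 - (i : ℕ)))) := by
    refine Finset.filter_congr fun μ _ => and_congr_right fun _ => forall₂_congr fun i hi => ?_
    show (μ i : ℕ) = 0 ↔ (μ i : ℕ) + (r - 1 - (i : ℕ)) = 0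
    omega
  rw [hfilt]
  refine (sum_antitone_eq hr k (r + k) (by omega) (fun e : Fin r → ℕ =>
    (E (r + k) (-(t : ℂ) / r)) ^ (∑ i, e i) * alt z e * alt (fun j => (z' j)⁻¹) e * C) (fun e : Fin r → ℕ => ∀ i : Fin r, (i : ℕ) = r - 1 → e i = 0)).trans ?_
  rw [Finset.filter_congr (fun w _ => and_congr_right fun hw => last_zero_iff hr hw), ← Finset.sum_mul]
  have horth := Groth.Agent.Verlinde.Orth.orth hr v v' hv hv' hvlt hv'lt hne
  have hm : ∀ w : Fin r → Fin (r + k), minor A w * minor B w =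
      (E (r + k) (-(t : ℂ) / r)) ^ (∑ i, (w i : ℕ)) * alt z (fun i => (w i : ℕ)) *
        alt (fun j => (z' j)⁻¹) (fun i => (w i : ℕ)) := by
    intro w
    rw [show A = fun j a => (fun a : Fin (r + k) => E (r + k) (-(t : ℂ) / r) ^ (a : ℕ)) a *
        (fun j (a : Fin (r + k)) => z j ^ (a : ℕ)) j a from funext fun j => funext fun a => by
          simp only [A, ← mul_pow, hzE, ← E_add]
          ring_nf, minor_mul, Finset.prod_pow_eq_pow_sum, alt, alt, ← Matrix.det_transpose,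
      ← Matrix.det_transpose (Matrix.of fun i j => (z' j)⁻¹ ^ (w i : ℕ))]
    simp only [minor, B, E_neg, hz'E]
    rfl
  simp only [← hm]
  rw [horth, zero_mul]

end Groth.Agent.S18378
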