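import Groth.Statements.S18379
import Groth.Agent.Verlinde.Basic
-- import your own Groth.Agent.* helpers here

set_option autoImplicit false
open VerlindeComb

namespace Groth.Agent.S18379

/-- Let r, k ≥ 1 be integers. Summing over all integer vectors v with r + k > v_1 > v_2 > ⋯ > v_{r-1} >
v_r = 0, one has Σ_v ∏_{i<j} (2 sin(π (v_i - v_j) / (r + k)))² = r (r + k)^{r-1}; that is, the
genus-zero Verlinde number of rank r and level k with no parabolic points, defined as (r (r +
k)^{r-1})⁻¹ times this sum, equals 1. Indices are 0-based below: v i stands for v_{i+1}. -/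
theorem result (r k : ℕ) (hr : 1 ≤ r) (hk : 1 ≤ k) :
    (∑ v ∈ (Finset.univ : Finset (Fin r → Fin (r + k))).filter
        (fun v : Fin r → Fin (r + k) => StrictAnti v ∧ ∀ i : Fin r, (i : ℕ) = r - 1 → (v i : ℕ) = 0),
      ∏ p ∈ (Finset.univ : Finset (Fin r × Fin r)).filter (fun p => p.1 < p.2),
        ((2 : ℝ) * Real.sin (Real.pi * ((v p.1 : ℕ) - (v p.2 : ℕ) : ℝ) / ((r : ℝ) + k))) ^ 2) =
      (r : ℝ) * ((r : ℝ) + k) ^ (r - 1) := by
  open Finset Groth.Agent.Verlinde.Basic in
  have hN0 : r + k ≠ 0 := by omega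
  haveI : NeZero (r + k) := ⟨hN0⟩
  have hNC : ((r + k : ℕ) : ℂ) ≠ 0 := Nat.cast_ne_zero.mpr hN0
  apply Complex.ofReal_injective
  rw [Complex.ofReal_sum]
  let A : Fin r → Fin (r + k) → ℂ := fun j a => E (r + k) ((a : ℕ) : ℂ) ^ (j : ℕ)
  let B : Fin r → Fin (r + k) → ℂ := fun j a => E (r + k) (-((a : ℕ) : ℂ)) ^ (j : ℕ)
  have hterm : ∀ v : Fin r → Fin (r + k),
      ((∏ p ∈ (Finset.univ : Finset (Fin r × Fin r)).filter (fun p => p.1 < p.2),
        ((2 : ℝ) * Real.sin (Real.pi * ((v p.1 : ℕ) - (v p.2 : ℕ) : ℝ) / ((r : ℝ) + k))) ^ 2 : ℝ) : ℂ) =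
      minor A v * minor B v := by
    intro v
    have hh := vandermonde_mul_inv (N := r + k) fun i => (v i : ℕ)
    push_cast at hh ⊢
    rw [← hh, ← Matrix.det_transpose (Matrix.vandermonde fun j => E (r + k) ((v j : ℕ) : ℂ)),
      ← Matrix.det_transpose (Matrix.vandermonde fun j => E (r + k) (-((v j : ℕ) : ℂ)))]
    rfl
  simp only [hterm]
  have hM : ∀ j l : Fin r, (∑ a, A j a * B l a) = if j = l then ((r + k : ℕ) : ℂ) else 0 := by
    intro j l
    have h2 : ∀ a : Fin (r + k), A j a * B l a = E (r + k) (((j : ℕ) : ℤ) - (l : ℕ) : ℤ) ^ (a : ℕ) := by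
      intro a
      simp only [A, B, E_pow, ← E_add]
      congr 1
      push_cast
      ring
    rw [Finset.sum_congr rfl fun a _ => h2 a, sum_E_pow_int hN0]
    refine if_congr ?_ rfl rfl
    constructor
    · intro hd
      have hj := j.isLt
      have hl := l.isLt
      have := Int.eq_zero_of_abs_lt_dvd hd (abs_lt.mpr ⟨by omega, by omega⟩)
      exact Fin.ext (by omega)
    · rintro rfl
      simp
  have h01 : ∀ j : Fin r, A j 0 = 1 ∧ B j 0 = 1 := fun j => by simp [A, B, E_zero]
  have key := det_add_smul_col A B 1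
  simp only [(h01 _).1, (h01 _).2, mul_one, one_mul, hM] at key
  have e1 := det_smul_one_add ((r + k : ℕ) : ℂ) hNC hr (fun _ : Fin r => (1 : ℂ)) fun _ => 1
  have e2 := det_smul_one_add ((r + k : ℕ) : ℂ) hNC hr (fun _ : Fin r => (0 : ℂ)) fun _ => 0
  simp only [mul_one, mul_zero, add_zero, Finset.sum_const, Finset.card_univ, Fintype.card_fin,
    nsmul_eq_mul] at e1 e2
  rw [e1, e2] at key
  rw [Finset.filter_congr (fun v _ => and_congr_right fun hv => last_zero_iff hr hv)]
  push_cast at key ⊢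
  linear_combination (-1 : ℂ) * key

end Groth.Agent.S18379
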