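import Groth.Statements.S18383
import Mathlib

set_option autoImplicit false
universe u
open CategoryTheory CategoryTheory.Limits MonoidalCategory CartesianMonoidalCategory MonObj GrpObj AlgebraicGeometry
open GrpSch

namespace Groth.Agent.S18383

/-- Let S be a scheme, H an S-group scheme and i : G → H a homomorphism of S-group schemes which is a
closed immersion (G a closed subgroup scheme of H). Then the left-translation action of G on H is
strictly free: the S-morphism G ×_S H → H ×_S H, (g, h) ↦ (i(g)·h, h), is a closed immersion. -/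
theorem result {S : Scheme.{u}} (G H : Over S)
    [GrpObj G] [GrpObj H] (i : G ⟶ H) [IsMonHom i] [IsClosedImmersion i.left] :
    IsClosedImmersion (CartesianMonoidalCategory.lift ((i ▷ H) ≫ μ[H]) (snd G H)).left := by
  let e : H ⊗ H ≅ H ⊗ H :=
    { hom := lift (fst H H * snd H H) (snd H H)
      inv := lift (fst H H * (snd H H)⁻¹) (snd H H)
      hom_inv_id := by simp [MonObj.comp_mul, GrpObj.comp_inv, _root_.mul_assoc]
      inv_hom_id := by simp [MonObj.comp_mul, GrpObj.comp_inv, _root_.mul_assoc] }
  have h : CartesianMonoidalCategory.lift ((i ▷ H) ≫ μ[H]) (snd G H) = (i ▷ H) ≫ e.hom := by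
    apply CartesianMonoidalCategory.hom_ext
    · simp [e, Hom.mul_def]
    · simp [e]
  rw [h, Over.comp_left]
  haveI : IsIso e.hom.left := ((Over.forget S).mapIso e).isIso_hom
  haveI : IsClosedImmersion (i ▷ H).left := by
    show IsClosedImmersion (CategoryTheory.Limits.pullback.map G.hom H.hom H.hom H.hom i.left (𝟙 _) (𝟙 _) (by simp) (by simp))
    haveI : MorphismProperty.IsStableUnderComposition @IsClosedImmersion.{u} := ⟨fun {X Y Z : Scheme.{u}} (f : X ⟶ Y) (g : Y ⟶ Z) (hf : IsClosedImmersion f) (hg : IsClosedImmersion g) => @IsClosedImmersion.comp _ _ _ f g hf hg⟩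
    exact MorphismProperty.pullback_map (P := @IsClosedImmersion.{u}) (inferInstance : IsClosedImmersion i.left) (inferInstance : IsClosedImmersion (𝟙 H.left)) (Over.w i).symm (Category.id_comp _).symm
  infer_instance

end Groth.Agent.S18383
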