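import Groth.Statements.S18386
import Mathlib
-- import your own Groth.Agent.* helpers here

set_option autoImplicit false
universe u
open LVCorr

namespace Groth.Agent.S18386

open AlgebraicGeometry in
/-- Let X be a connected Noetherian scheme and I a quasi-coherent sheaf of ideals on X, different from
the structure sheaf, such that I^k = I^(k+1) for some natural number k. Then I^k = 0. -/
theorem result (X : Scheme.{u}) [AlgebraicGeometry.IsNoetherian X]
    [ConnectedSpace X] (I : X.IdealSheafData) (hI : I ≠ ⊤) (k : ℕ)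
    (h : I ^ k = I ^ (k + 1)) : I ^ k = ⊥ := by
  let J := I ^ k
  have hJI : ∀ U : X.affineOpens, J.ideal U = J.ideal U * I.ideal U := by
    intro U
    have h1 := congrFun (congrArg Scheme.IdealSheafData.ideal h) U
    simp only [Scheme.IdealSheafData.ideal_pow, Pi.pow_apply, pow_succ] at h1
    simpa [J] using h1
  have hJJ : ∀ U : X.affineOpens, IsIdempotentElem (J.ideal U) := by
    intro U
    have h1 : ∀ n, J.ideal U = J.ideal U * I.ideal U ^ n := by
      intro n
      induction n with
      | zero => simp
      | succ n ih => rw [pow_succ, ← mul_assoc, ← ih, ← hJI U]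
    have h2 := h1 k
    have h3 : J.ideal U = I.ideal U ^ k := by simp [J]
    show J.ideal U * J.ideal U = J.ideal U
    nth_rewrite 2 [h3]
    exact h2.symm
  have hgen : ∀ U : X.affineOpens, ∃ e, IsIdempotentElem e ∧ J.ideal U = Ideal.span {e} := by
    intro U
    haveI : IsNoetherianRing Γ(X, U.1) := IsLocallyNoetherian.component_noetherian U
    exact (Ideal.isIdempotentElem_iff_of_fg _ (IsNoetherian.noetherian _)).mp (hJJ U)
  have hopen : IsOpen (J.support : Set X) := by
    rw [isOpen_iff_forall_mem_open]
    intro x hx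
    obtain ⟨U, hU, hxU, -⟩ := exists_isAffineOpen_mem_and_subset (X := X) (x := x) (U := ⊤) trivial
    refine ⟨(J.support : Set X) ∩ U, Set.inter_subset_left, ?_, hx, hxU⟩
    obtain ⟨e, he, hJ⟩ := hgen ⟨U, hU⟩
    rw [J.coe_support_inter ⟨U, hU⟩, hJ, Scheme.zeroLocus_span]
    have h4 : X.zeroLocus (U := U) {e} ∩ (U : Set X) = X.basicOpen (1 - e) := by
      ext y
      by_cases hy : y ∈ U
      · have h5 : IsIdempotentElem (X.presheaf.germ U y hy e) := he.map _
        simp only [Set.mem_inter_iff, Scheme.mem_zeroLocus_iff, Set.mem_singleton_iff, forall_eq, SetLike.mem_coe, hy, and_true,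
          X.mem_basicOpen _ _ hy, map_sub, map_one]
        rcases IsLocalRing.isUnit_or_isUnit_one_sub_self (X.presheaf.germ U y hy e) with hu | hu
        · have : X.presheaf.germ U y hy e = 1 := (IsIdempotentElem.iff_eq_one_of_isUnit hu).mp h5
          simp [this]
        · have h6 : X.presheaf.germ U y hy e = 0 := by
            have h7 := (IsIdempotentElem.iff_eq_one_of_isUnit hu).mp h5.one_sub
            simpa using h7
          simp [h6]
      · exact ⟨fun h => absurd h.2 hy, fun h => absurd (X.basicOpen_le _ h) hy⟩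
    rw [h4]; exact (X.basicOpen _).2
  rcases isClopen_iff.mp ⟨J.support.isClosed, hopen⟩ with hs | hs
  · exfalso
    apply hI
    ext U : 2
    rw [Scheme.IdealSheafData.ideal_top]
    have h1 := J.coe_support_inter U
    rw [hs, Set.empty_inter, ← U.2.fromSpec_image_zeroLocus] at h1
    have h2 := Set.image_eq_empty.mp h1.symm
    have h3 := hJI U
    rw [PrimeSpectrum.zeroLocus_empty_iff_eq_top.mp h2, Ideal.top_mul] at h3
    exact h3.symm
  · show J = ⊥
    ext U : 2
    rw [Scheme.IdealSheafData.ideal_bot, Pi.bot_apply]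
    obtain ⟨e, he, hJ⟩ := hgen U
    have h1 := J.coe_support_inter U
    rw [hs, Set.univ_inter, ← U.2.fromSpec_image_zeroLocus, hJ] at h1
    have h2 : PrimeSpectrum.zeroLocus ((Ideal.span {e} : Ideal Γ(X, U.1)) : Set Γ(X, U.1)) = Set.univ := by
      refine Set.eq_univ_of_forall fun p => ?_
      obtain ⟨q, hq, hqp⟩ := h1.le (U.2.range_fromSpec.le ⟨p, rfl⟩)
      rwa [← U.2.fromSpec.isOpenEmbedding.injective hqp]
    have h3 := (PrimeSpectrum.zeroLocus_eq_univ_iff _).mp h2 (Ideal.mem_span_singleton_self e)
    rw [hJ, IsIdempotentElem.eq_zero_of_isNilpotent he h3]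
    simp

end Groth.Agent.S18386
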