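import Groth.Statements.S18387
import Mathlib
-- import your own Groth.Agent.* helpers here

set_option autoImplicit false
universe u
open LVCorr

namespace Groth.Agent.S18387

/-- In the affine form which its proof establishes. Let A be a commutative algebra over a field F which
is finite-dimensional of dimension d over F. Then the d-th power of the nilradical of A vanishes.
(Applied to the fibre algebra A = B/mB of a quasi-finite morphism over a closed point with maximal
ideal m, this says that the d-th power of the radical of mB lies in mB, i.e. the ramification of the
morphism at that point is at most the degree d of the fibre.) -/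
theorem result (F A : Type u) [Field F] [CommRing A] [Algebra F A]
    [FiniteDimensional F A] : nilradical A ^ Module.finrank F A = ⊥ := by
  haveI : IsArtinianRing A := IsArtinianRing.of_finite F A
  obtain ⟨N, hN⟩ := IsArtinianRing.isNilpotent_nilradical (R := A)
  have key : ∀ k, nilradical A ^ k = ⊥ ∨ Module.finrank F ((nilradical A ^ k).restrictScalars F) + k ≤ Module.finrank F A := by
    intro k
    induction k with
    | zero => exact Or.inr (Submodule.finrank_le _)
    | succ k ih =>
      rcases ih with h | h
      · exact Or.inl (by rw [pow_succ, h, Ideal.bot_mul])
      · by_cases he : nilradical A ^ (k + 1) = nilradical A ^ k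
        · left
          have h2 : ∀ m, nilradical A ^ k = nilradical A ^ (k + m) := fun m => by
            induction m with
            | zero => rfl
            | succ m ihm => rw [← add_assoc, pow_succ, ← ihm, ← pow_succ, he]
          rw [he, h2 N, pow_add, hN]; simp
        · refine Or.inr ?_
          have hlt : (nilradical A ^ (k + 1)).restrictScalars F < (nilradical A ^ k).restrictScalars F :=
            lt_of_le_of_ne (Ideal.pow_le_pow_right (Nat.le_succ k)) fun e => he (Submodule.restrictScalars_injective F A A e)
          have := Submodule.finrank_lt_finrank_of_lt hlt
          omega
  rcases key (Module.finrank F A) with h | h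
  · exact h
  · have h0 : Module.finrank F ((nilradical A ^ Module.finrank F A).restrictScalars F) = 0 := by omega
    exact (Submodule.restrictScalars_eq_bot_iff F A A).mp (Submodule.finrank_eq_zero.mp h0)

end Groth.Agent.S18387
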