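import Groth.Statements.S18390
import Mathlib

set_option autoImplicit false
set_option linter.style.haveILetI false
universe u
open LVCorr

namespace Groth.Agent.S18390

/-- In the affine, ring-theoretic form which its proof establishes. Let φ : A' → A be a ring
homomorphism, I' a finitely generated ideal of A' and I an ideal of A containing the image of I'.
Then some power I'^k is mapped into I^(k+1) if and only if for every n ≥ 1 and every a ∈ I'^n there
is a k with φ(a)^k ∈ I^(nk+1). (Geometrically, for a morphism f : (X, Z) → (X', Z') of pairs with Z
a closed subscheme of the preimage of Z', the normal cone of Z in X is the spectrum of the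
associated graded algebra of I, and the second condition says that the induced map of normal cones
sends the normal cone of Z set-theoretically into the zero section Z'; the source states the
equivalence in that language.) -/
theorem result (A' A : Type u) [CommRing A'] [CommRing A]
    (φ : A' →+* A) (I' : Ideal A') (hI' : I'.FG) (I : Ideal A) (hle : I'.map φ ≤ I) :
    (∃ k : ℕ, (I' ^ k).map φ ≤ I ^ (k + 1)) ↔
      ∀ n : ℕ, 1 ≤ n → ∀ a ∈ I' ^ n, ∃ k : ℕ, 1 ≤ k ∧ φ a ^ k ∈ I ^ (n * k + 1) := by
  constructor
  · rintro ⟨k, hk⟩ n hn a ha
    have hk1 : (I' ^ (k + 1)).map φ ≤ I ^ (k + 1 + 1) := by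
      rw [pow_succ I', Ideal.map_mul, pow_succ I]
      exact Ideal.mul_mono hk hle
    refine ⟨k + 1, Nat.succ_pos _, ?_⟩
    have h1 : φ a ^ (k + 1) ∈ ((I' ^ (k + 1)).map φ) ^ n := by
      have h0 : a ^ (k + 1) ∈ (I' ^ (k + 1)) ^ n := by
        rw [← pow_mul, mul_comm, pow_mul]
        exact Ideal.pow_mem_pow ha _
      rw [← Ideal.map_pow, ← map_pow]
      exact Ideal.mem_map_of_mem φ h0
    have h2 : ((I' ^ (k + 1)).map φ) ^ n ≤ I ^ (n * (k + 1) + 1) := by
      refine le_trans (Ideal.pow_right_mono hk1 n) ?_
      rw [← pow_mul]
      apply Ideal.pow_le_pow_right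
      have : (k + 1 + 1) * n = n * (k + 1) + n := by ring
      omega
    exact h2 h1
  · intro h
    obtain ⟨s, rfl⟩ := hI'
    have key : ∀ t : Finset A', t ⊆ s → ∃ m : ℕ, ((Ideal.span (t : Set A')).map φ) ^ m ≤ I ^ (m + 1) := by
      classical
      intro t
      induction t using Finset.induction with
      | empty =>
        intro _
        refine ⟨1, ?_⟩
        simp
      | @insert a t hat ih =>
        intro hts
        obtain ⟨m, hm⟩ := ih (fun x hx => hts (Finset.mem_insert_of_mem hx))
        have has : a ∈ Ideal.span (s : Set A') := Ideal.subset_span (hts (Finset.mem_insert_self _ _))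
        obtain ⟨k, hk1, hk⟩ := h 1 le_rfl a (by rwa [pow_one])
        rw [one_mul] at hk
        refine ⟨k + m, ?_⟩
        set X := (Ideal.span {a}).map φ with hX
        set Y := (Ideal.span (t : Set A')).map φ with hY
        have hXk : X ^ k ≤ I ^ (k + 1) := by
          rw [hX, Ideal.map_span, Set.image_singleton, Ideal.span_singleton_pow,
            Ideal.span_singleton_le_iff_mem]
          exact hk
        have hXI : X ≤ I := le_trans (Ideal.map_mono (by
          rw [Ideal.span_singleton_le_iff_mem]; exact has)) hle
        have hYI : Y ≤ I := le_trans (Ideal.map_mono (Ideal.span_mono (by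
          exact_mod_cast (fun x hx => hts (Finset.mem_insert_of_mem hx))))) hle
        have hXY : (Ideal.span ((insert a t : Finset A') : Set A')).map φ = X + Y := by
          rw [Finset.coe_insert, Ideal.span_insert, Ideal.map_sup]
          rfl
        rw [hXY, add_pow, Ideal.sum_eq_sup]
        refine Finset.sup_le fun i hi => ?_
        refine le_trans Ideal.mul_le_left ?_
        rw [Finset.mem_range] at hi
        rcases Nat.lt_or_ge i k with hik | hik
        · have hj : k + m - i = m + (k - i) := by omega
          rw [hj, pow_add Y]
          refine le_trans (Ideal.mul_mono (Ideal.pow_right_mono hXI i)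
            (Ideal.mul_mono hm (Ideal.pow_right_mono hYI _))) ?_
          rw [← pow_add, ← pow_add]
          apply Ideal.pow_le_pow_right
          omega
        · have hi' : i = k + (i - k) := by omega
          rw [hi', pow_add X]
          refine le_trans (Ideal.mul_mono (Ideal.mul_mono hXk (Ideal.pow_right_mono hXI _))
            (Ideal.pow_right_mono hYI _)) ?_
          rw [← pow_add, ← pow_add]
          apply Ideal.pow_le_pow_right
          omega
    obtain ⟨m, hm⟩ := key s (Finset.Subset.refl _)
    exact ⟨m, by rw [Ideal.map_pow]; exact hm⟩

end Groth.Agent.S18390
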