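import Groth.Statements.S18392
import Mathlib

set_option autoImplicit false
set_option linter.style.haveILetI false
universe u
open LVCorr

namespace Groth.Agent.S18392

/-- Let A be a normal (integrally closed) Noetherian domain and z an element of A such that the radical
of (z) is prime. Then for every non-empty open subset V of Spec A contained in the basic open set
D(z) (that is, every non-empty open subset of Spec A[1/z]) there is an element x of A, not in the
radical of (z), such that the basic open set D(xz) = Spec A[1/xz] is contained in V. -/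
theorem result (A : Type u) [CommRing A]
    [IsDomain A] [IsNoetherianRing A] [IsIntegrallyClosed A] (z : A)
    (hz : (Ideal.span {z}).radical.IsPrime) (V : Set (PrimeSpectrum A)) (hV : IsOpen V)
    (hVz : V ⊆ (PrimeSpectrum.basicOpen z : Set (PrimeSpectrum A))) (hne : V.Nonempty) :
    ∃ x : A, x ∉ (Ideal.span {z}).radical ∧
      ((PrimeSpectrum.basicOpen (x * z) : TopologicalSpace.Opens (PrimeSpectrum A)) :
        Set (PrimeSpectrum A)) ⊆ V := by
  classical
  set P := (Ideal.span {z}).radical with hP
  haveI := hz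
  have hzP : z ∈ P := Ideal.le_radical (Ideal.mem_span_singleton_self z)
  have hmin : P ∈ (Ideal.span {z}).minimalPrimes := by
    refine ⟨⟨hz, Ideal.le_radical⟩, fun q hq _ => ?_⟩
    exact hq.1.radical_le_iff.mpr hq.2
  have hht : P.height ≤ 1 := Ideal.height_le_one_of_isPrincipal_of_mem_minimalPrimes _ P hmin
  obtain ⟨p, hp⟩ := hne
  obtain ⟨_, ⟨g, rfl⟩, hpg, hgV⟩ :=
    PrimeSpectrum.isTopologicalBasis_basic_opens.exists_subset_of_mem_open hp hV
  have hg0 : g ≠ 0 := by
    intro h0
    exact hpg (h0 ▸ p.asIdeal.zero_mem)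
  set S := ((Ideal.span {g}).finite_minimalPrimes_of_isNoetherianRing).toFinset.filter (fun q => q ≠ P) with hS
  have hnot : ¬ (S.prod fun q => q) ≤ P := by
    rw [Ideal.IsPrime.prod_le hz]
    rintro ⟨q, hq, hqP⟩
    rw [hS, Finset.mem_filter, Set.Finite.mem_toFinset] at hq
    haveI := hq.1.1.1
    have hlt : q < P := lt_of_le_of_ne hqP hq.2
    have hq0 : q ≠ ⊥ := by
      intro h0
      have := hq.1.1.2 (Ideal.mem_span_singleton_self g)
      rw [h0, Ideal.mem_bot] at this
      exact hg0 this
    have h1 : q.height < P.height := Ideal.height_strict_mono_of_isPrime_of_isPrime hlt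
    haveI : (⊥ : Ideal A).IsPrime := Ideal.isPrime_bot
    have h2 : (⊥ : Ideal A).height < q.height :=
      Ideal.height_strict_mono_of_isPrime_of_isPrime (bot_lt_iff_ne_bot.mpr hq0)
    have h3 : (1 : ℕ∞) ≤ q.height := Order.one_le_iff_pos.mpr (lt_of_le_of_lt zero_le h2)
    exact absurd (lt_of_le_of_lt h3 h1) (not_lt.mpr hht)
  obtain ⟨x, hx, hxP⟩ := SetLike.not_le_iff_exists.mp hnot
  refine ⟨x, hxP, fun r hr => hgV ?_⟩
  rw [SetLike.mem_coe, PrimeSpectrum.mem_basicOpen] at hr ⊢
  intro hgr
  apply hr
  obtain ⟨q, hq, hqr⟩ := Ideal.exists_minimalPrimes_le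
    ((Ideal.span_singleton_le_iff_mem r.asIdeal).mpr hgr)
  by_cases hqP : q = P
  · exact hqr (q.mul_mem_left _ (hqP ▸ hzP))
  · exact hqr (q.mul_mem_right _ (Ideal.le_of_dvd (Finset.dvd_prod_of_mem _ (by
      rw [hS, Finset.mem_filter, Set.Finite.mem_toFinset]
      exact ⟨hq, hqP⟩)) hx))

end Groth.Agent.S18392
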