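import Groth.Statements.S18405
-- import your own Groth.Agent.* helpers here
import Groth.Agent.Lead.HessePencil

set_option autoImplicit false
universe u
open Cubic

namespace Groth.Agent.S18405

open Groth.Agent.Lead.PlaneCubic in
open MvPolynomial in
/-- Let f be a nonzero homogeneous cubic in three variables over ℂ whose plane curve is smooth (at every
nonzero zero of f some partial derivative is nonzero), and let A be an invertible matrix whose
linear substitution X_i ↦ Σ_j A_ij X_j multiplies f by a constant, so that v ↦ A·v is a projective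
automorphism of the curve. If A·v is proportional to v for every flex v of the curve (every nonzero
zero v of f through which some line meets the curve with multiplicity three: there is w linearly
independent from v with f(v + t·w) = t³·f(w) for all t), then A is a scalar matrix: the projective
automorphisms of a smooth plane cubic act faithfully on its flexes. -/
theorem result (f : MvPolynomial (Fin 3) ℂ) (hf : f.IsHomogeneous 3)
    (hf0 : f ≠ 0) (hsm : ∀ v : Fin 3 → ℂ, v ≠ 0 → eval v f = 0 → ∃ i : Fin 3, eval v (pderiv i f) ≠ 0)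
    (A : Matrix (Fin 3) (Fin 3) ℂ) (hA : IsUnit A.det)
    (hAf : ∃ c : ℂ, aeval (fun i : Fin 3 => ∑ j : Fin 3, C (A i j) * X j) f = C c * f)
    (hfix : ∀ v : Fin 3 → ℂ, v ≠ 0 → eval v f = 0 →
      (∃ w : Fin 3 → ℂ, LinearIndependent ℂ ![v, w] ∧ ∀ t : ℂ, eval (v + t • w) f = t ^ 3 * eval w f) →
      ∃ d : ℂ, A.mulVec v = d • v) :
    ∃ c : ℂ, A = c • (1 : Matrix (Fin 3) (Fin 3) ℂ) := by
  obtain ⟨B, k, c, hk, hc, hB⟩ := exists_hesse_equiv hf hsm
  obtain ⟨ω, hω⟩ := exists_omega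
  have hω3 : ω ^ 3 = 1 := by linear_combination (ω - 1) * hω
  have hω1 : ω ≠ 1 := fun h => by rw [h] at hω; norm_num at hω
  have hflex : ∀ γ : ℂ, γ ^ 3 = 1 → ∀ p : Fin 3 → ℂ, (p = ![0, 1, -γ] ∨ p = ![-γ, 0, 1] ∨ p = ![1, -γ, 0]) →
      ∃ d : ℂ, A.mulVec (B p) = d • B p := by
    intro γ hγ p hp
    have hp0 : p ≠ 0 := by
      intro h
      rcases hp with rfl | rfl | rfl
      · simpa using congrFun h 1
      · simpa using congrFun h 2
      · simpa using congrFun h 0
    have hz : eval p (HesseCubic.form k) = 0 := by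
      rcases hp with rfl | rfl | rfl <;> simp [HesseCubic.form] <;> linear_combination -hγ
    obtain ⟨w, hli, hw⟩ := (hesse_flex_iff k hk p hp0 hz).2 ⟨γ, 1, hγ, by simpa using hp⟩
    refine hfix _ (fun h => hp0 (by rwa [LinearEquiv.map_eq_zero_iff] at h)) (by rw [hB, hz, mul_zero]) ⟨B w, ?_, fun t => ?_⟩
    · rw [LinearIndependent.pair_iff] at hli ⊢
      intro s t hst
      apply hli
      apply B.injective
      rw [map_add, map_smul, map_smul, hst, map_zero]
    · rw [← map_smul, ← map_add, hB, hB, hw]; ring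
  have h1 : (1 : ℂ) ^ 3 = 1 := one_pow 3
  obtain ⟨d1, e1⟩ := hflex 1 h1 _ (Or.inl rfl)
  obtain ⟨d2, e2⟩ := hflex ω hω3 _ (Or.inl rfl)
  obtain ⟨d3, e3⟩ := hflex (ω ^ 2) (by linear_combination (ω ^ 3 + 1) * hω3) _ (Or.inl rfl)
  obtain ⟨d4, e4⟩ := hflex 1 h1 _ (Or.inr (Or.inl rfl))
  obtain ⟨d5, e5⟩ := hflex ω hω3 _ (Or.inr (Or.inl rfl))
  obtain ⟨d6, e6⟩ := hflex (ω ^ 2) (by linear_combination (ω ^ 3 + 1) * hω3) _ (Or.inr (Or.inl rfl))
  let G : (Fin 3 → ℂ) →ₗ[ℂ] (Fin 3 → ℂ) := B.symm.toLinearMap ∘ₗ A.mulVecLin ∘ₗ B.toLinearMap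
  have hG : ∀ p d, A.mulVec (B p) = d • B p → G p = d • p := fun p d h => by
    change B.symm (A.mulVec (B p)) = _
    rw [h, map_smul, B.symm_apply_apply]
  have key : ∀ (p q : Fin 3 → ℂ) (a b r : ℂ), r ≠ 0 → LinearIndependent ℂ ![p, q] → G p = a • p → G q = b • q →
      (∃ e : ℂ, G (p + r • q) = e • (p + r • q)) → a = b := by
    intro p q a b r hr hli hp hq ⟨e, he⟩
    rw [map_add, map_smul, hp, hq, smul_smul, smul_add, smul_smul] at he
    obtain ⟨q1, q2⟩ := LinearIndependent.pair_iff.1 hli (a - e) (r * b - e * r) (by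
      rw [sub_smul, sub_smul]; linear_combination (norm := module) he)
    have : r * (b - e) = 0 := by linear_combination q2
    linear_combination q1 - (mul_eq_zero.1 this).resolve_left hr
  have hli1 : LinearIndependent ℂ ![(![0, 1, -1] : Fin 3 → ℂ), ![0, 1, -ω]] := by
    rw [LinearIndependent.pair_iff]
    intro s t hst
    have a1 := congrFun hst 1
    have a2 := congrFun hst 2
    simp at a1 a2
    have ht : t * (1 - ω) = 0 := by linear_combination a1 + a2
    have := (mul_eq_zero.1 ht).resolve_right (sub_ne_zero.2 (Ne.symm hω1))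
    exact ⟨by rw [this] at a1; simpa using a1, this⟩
  have hli2 : LinearIndependent ℂ ![(![-1, 0, 1] : Fin 3 → ℂ), ![-ω, 0, 1]] := by
    rw [LinearIndependent.pair_iff]
    intro s t hst
    have a1 := congrFun hst 0
    have a2 := congrFun hst 2
    simp at a1 a2
    have ht : t * (1 - ω) = 0 := by linear_combination a1 + a2
    have := (mul_eq_zero.1 ht).resolve_right (sub_ne_zero.2 (Ne.symm hω1))
    exact ⟨by rw [this] at a2; simpa using a2, this⟩
  have hr : -(ω + 1) ≠ 0 := fun h => by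
    have h' : ω = -1 := by linear_combination -h
    rw [h'] at hω; norm_num at hω
  -- third points of the two lines
  have t1 : (ω + 1) • (![0, 1, -ω] : Fin 3 → ℂ) = ω • ![0, 1, -1] + ![0, 1, -(ω ^ 2)] := by
    ext i; fin_cases i <;> simp; linear_combination (0 : ℂ) * hω
  have t2 : (ω + 1) • (![-ω, 0, 1] : Fin 3 → ℂ) = ω • ![-1, 0, 1] + ![-(ω ^ 2), 0, 1] := by
    ext i; fin_cases i <;> simp; linear_combination (0 : ℂ) * hω
  have ω0 : ω ≠ 0 := fun h => by rw [h] at hω; norm_num at hω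
  have s1 : d1 = d2 := key _ _ _ _ (-(ω + 1) / ω) (div_ne_zero hr ω0) hli1 (hG _ _ e1) (hG _ _ e2) ⟨d3, by
    have : (![0, 1, -1] : Fin 3 → ℂ) + (-(ω + 1) / ω) • ![0, 1, -ω] = (-ω⁻¹) • ![0, 1, -(ω ^ 2)] := by
      rw [div_eq_inv_mul, mul_smul, neg_smul, t1, smul_neg, smul_add, inv_smul_smul₀ ω0]; module
    rw [this, map_smul, hG _ _ e3, smul_comm]⟩
  have s2 : d4 = d5 := key _ _ _ _ (-(ω + 1) / ω) (div_ne_zero hr ω0) hli2 (hG _ _ e4) (hG _ _ e5) ⟨d6, by
    have : (![-1, 0, 1] : Fin 3 → ℂ) + (-(ω + 1) / ω) • ![-ω, 0, 1] = (-ω⁻¹) • ![-(ω ^ 2), 0, 1] := by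
      rw [div_eq_inv_mul, mul_smul, neg_smul, t2, smul_neg, smul_add, inv_smul_smul₀ ω0]; module
    rw [this, map_smul, hG _ _ e6, smul_comm]⟩
  have g1 := hG _ _ e1
  have g2 := hG _ _ e2
  have g4 := hG _ _ e4
  have g5 := hG _ _ e5
  rw [← s1] at g2
  rw [← s2] at g5
  have hne : 1 - ω ≠ 0 := sub_ne_zero.2 (Ne.symm hω1)
  have x1 : (Pi.single 1 1 : Fin 3 → ℂ) = (1 - ω)⁻¹ • (![0, 1, -ω] - ω • ![0, 1, -1]) := by
    ext i; fin_cases i <;> simp [hne]
  have x2 : (Pi.single 2 1 : Fin 3 → ℂ) = (1 - ω)⁻¹ • (![0, 1, -ω] - ![0, 1, -1]) := by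
    ext i; fin_cases i <;> simp [hne]
    rw [show -ω + 1 = 1 - ω by ring, inv_mul_cancel₀ hne]
  have x2' : (Pi.single 2 1 : Fin 3 → ℂ) = (1 - ω)⁻¹ • (![-ω, 0, 1] - ω • ![-1, 0, 1]) := by
    ext i; fin_cases i <;> simp [hne]
  have x0 : (Pi.single 0 1 : Fin 3 → ℂ) = (1 - ω)⁻¹ • (![-ω, 0, 1] - ![-1, 0, 1]) := by
    ext i; fin_cases i <;> simp [hne]
    rw [show -ω + 1 = 1 - ω by ring, inv_mul_cancel₀ hne]
  have y1 : G (Pi.single 1 1) = d1 • Pi.single 1 1 := by rw [x1, map_smul, map_sub, map_smul, g1, g2]; module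
  have y2 : G (Pi.single 2 1) = d1 • Pi.single 2 1 := by rw [x2, map_smul, map_sub, g1, g2]; module
  have y2' : G (Pi.single 2 1) = d4 • Pi.single 2 1 := by rw [x2', map_smul, map_sub, map_smul, g4, g5]; module
  have y0 : G (Pi.single 0 1) = d4 • Pi.single 0 1 := by rw [x0, map_smul, map_sub, g4, g5]; module
  have hd : d4 = d1 := by simpa using congrFun (y2'.symm.trans y2) 2
  have hall : ∀ x, A.mulVec x = d1 • x := fun x => by
    apply B.symm.injective
    have hx : G (B.symm x) = d1 • B.symm x := by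
      generalize B.symm x = z
      conv_lhs => rw [pi_eq_sum_univ' z, Fin.sum_univ_three]
      conv_rhs => rw [pi_eq_sum_univ' z, Fin.sum_univ_three]
      simp only [map_add, map_smul, y0, y1, y2, hd]
      module
    simpa [G] using hx
  refine ⟨d1, Matrix.toLin'.injective (LinearMap.ext fun x => ?_)⟩
  simp [hall]

end Groth.Agent.S18405
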