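import Groth.Statements.S18406
-- import your own Groth.Agent.* helpers here
import Groth.Agent.Lead.HessePencil

set_option autoImplicit false
universe u
open Cubic

namespace Groth.Agent.S18406

open Groth.Agent.Lead.PlaneCubic in
open MvPolynomial in
/-- Let f be a nonzero homogeneous cubic in three variables over ℂ whose plane curve is smooth (at every
nonzero zero of f some partial derivative is nonzero), and let v and v′ be flexes of the curve, that
is nonzero zeros of f through each of which some line meets the curve with multiplicity three (there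
is a vector w linearly independent from the point with f(point + t·w) = t³·f(w) for every t). Then a
projective automorphism of the curve carries the point of v to the point of v′: there are an
invertible matrix A whose substitution X_i ↦ Σ_j A_ij X_j multiplies f by a constant c, and a
constant d with A·v = d·v′. (The published statement gives more: a subgroup of the projective
automorphism group isomorphic to C₃ × C₃ acts simply transitively on the nine flexes; only
transitivity is stated here.) -/
theorem result (f : MvPolynomial (Fin 3) ℂ) (hf : f.IsHomogeneous 3)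
    (hf0 : f ≠ 0) (hsm : ∀ v : Fin 3 → ℂ, v ≠ 0 → eval v f = 0 → ∃ i : Fin 3, eval v (pderiv i f) ≠ 0)
    (v v' : Fin 3 → ℂ) (hv : v ≠ 0) (hv' : v' ≠ 0) (hfv : eval v f = 0) (hfv' : eval v' f = 0)
    (hflex : (∃ w : Fin 3 → ℂ, LinearIndependent ℂ ![v, w] ∧ ∀ t : ℂ, eval (v + t • w) f = t ^ 3 * eval w f))
    (hflex' : (∃ w : Fin 3 → ℂ, LinearIndependent ℂ ![v', w] ∧ ∀ t : ℂ, eval (v' + t • w) f = t ^ 3 * eval w f)) :
    ∃ (A : Matrix (Fin 3) (Fin 3) ℂ) (c d : ℂ), IsUnit A.det ∧
      aeval (fun i : Fin 3 => ∑ j : Fin 3, C (A i j) * X j) f = C c * f ∧ A.mulVec v = d • v' := by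
  obtain ⟨B, k, c, hk, hc, hB⟩ := exists_hesse_equiv hf hsm
  obtain ⟨g, d, hg, hd, rfl⟩ := flex_pullback hk hc hB hv hfv hflex
  obtain ⟨g', d', hg', hd', rfl⟩ := flex_pullback hk hc hB hv' hfv' hflex'
  set σ : (Fin 3 → ℂ) ≃ₗ[ℂ] (Fin 3 → ℂ) := B.symm.trans ((g.symm.trans g').trans B) with hσ
  refine ⟨LinearMap.toMatrix' σ.toLinearMap, 1, d / d', ?_, ?_, ?_⟩
  · rw [← Matrix.isUnit_iff_isUnit_det, ← Matrix.mulVec_injective_iff_isUnit]
    intro x y hxy
    simpa [← Matrix.toLin'_apply] using hxy
  · apply MvPolynomial.funext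
    intro x
    rw [eval_subst, ← Matrix.toLin'_apply, Matrix.toLin'_toMatrix', map_mul, eval_C, one_mul]
    conv_rhs => rw [← B.apply_symm_apply x, hB, (hesse_rep k).1, ← (hg.symm.trans hg') (B.symm x), ← (hesse_rep k).1, ← hB]
    rfl
  · rw [← Matrix.toLin'_apply, Matrix.toLin'_toMatrix']
    simp [hσ, smul_smul, div_mul_cancel₀ _ hd']

end Groth.Agent.S18406
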