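import Groth.Statements.S18409
-- import your own Groth.Agent.* helpers here
import Groth.Agent.Lead.EckardtPairs

set_option autoImplicit false
universe u
open Cubic

namespace Groth.Agent.S18409

open Groth.Agent.Lead.Eckardt in
open MvPolynomial in
/-- Let f be a nonzero homogeneous cubic in four variables over ℂ whose surface S = V_+(f) ⊂ P³ is
smooth (at every nonzero zero of f some partial derivative is nonzero); a line on S is a
2-dimensional subspace of ℂ⁴ on which f vanishes, and an Eckardt point of S is a nonzero vector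
lying on three distinct lines on S. Let e and e′ be Eckardt points of S that are not proportional
and let L be their span, a plane in ℂ⁴, i.e. the line of P³ through the two points. Then exactly one
of the two cases occurs: either f vanishes identically on L (the line lies on S), or L contains a
third Eckardt point e″, proportional to neither e nor e′, and every zero of f in L is proportional
to e, e′ or e″ (the line meets S in exactly three points, all Eckardt points). -/
theorem result (f : MvPolynomial (Fin 4) ℂ) (hf : f.IsHomogeneous 3)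
    (hf0 : f ≠ 0) (hsm : ∀ v : Fin 4 → ℂ, v ≠ 0 → eval v f = 0 → ∃ i : Fin 4, eval v (pderiv i f) ≠ 0)
    (e e' : Fin 4 → ℂ) (he : e ≠ 0) (he' : e' ∉ Submodule.span ℂ {e})
    (hE : (∃ U : Fin 3 → Submodule ℂ (Fin 4 → ℂ), Function.Injective U ∧
        ∀ i : Fin 3, Module.finrank ℂ ↥(U i) = 2 ∧ e ∈ U i ∧ ∀ u ∈ U i, eval u f = 0))
    (hE' : (∃ U : Fin 3 → Submodule ℂ (Fin 4 → ℂ), Function.Injective U ∧
        ∀ i : Fin 3, Module.finrank ℂ ↥(U i) = 2 ∧ e' ∈ U i ∧ ∀ u ∈ U i, eval u f = 0)) :
    Xor (∀ u ∈ Submodule.span ℂ {e, e'}, eval u f = 0)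
      (∃ e'' : Fin 4 → ℂ, e'' ∈ Submodule.span ℂ {e, e'} ∧ e'' ∉ Submodule.span ℂ {e} ∧ e'' ∉ Submodule.span ℂ {e'} ∧
        (∃ U : Fin 3 → Submodule ℂ (Fin 4 → ℂ), Function.Injective U ∧
        ∀ i : Fin 3, Module.finrank ℂ ↥(U i) = 2 ∧ e'' ∈ U i ∧ ∀ u ∈ U i, eval u f = 0) ∧
        ∀ u ∈ Submodule.span ℂ {e, e'}, eval u f = 0 →
          u ∈ Submodule.span ℂ {e} ∨ u ∈ Submodule.span ℂ {e'} ∨ u ∈ Submodule.span ℂ {e''}) := by
  obtain ⟨T, hT⟩ := exists_rep hf
  have hs := smooth_of hT hsm
  obtain ⟨M, hM⟩ := exists_hasInv hs he ((eck_iff hT e).2 hE)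
  have he'0 : e' ≠ 0 := fun h => he' (h ▸ zero_mem _)
  obtain ⟨M', hM'⟩ := exists_hasInv hs he'0 ((eck_iff hT e').2 hE')
  by_cases hL : ∀ u ∈ Submodule.span ℂ {e, e'}, T u u u = 0
  · refine Or.inl ⟨by simpa [hT.1] using hL, ?_⟩
    rintro ⟨e'', h1, h2, h3, -, hall⟩
    have hmem : e + e' + e'' ∈ Submodule.span ℂ {e, e'} ∧ (2 : ℂ) • e + (3 : ℂ) • e' ∈ Submodule.span ℂ {e, e'} :=
      ⟨add_mem (add_mem (Submodule.subset_span (by simp)) (Submodule.subset_span (by simp))) h1,
       add_mem (Submodule.smul_mem _ _ (Submodule.subset_span (by simp))) (Submodule.smul_mem _ _ (Submodule.subset_span (by simp)))⟩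
    have key : ∀ t : ℂ, t ≠ 0 → e' + t • e ∈ Submodule.span ℂ {e''} := by
      intro t ht
      have hm : e' + t • e ∈ Submodule.span ℂ {e, e'} :=
        add_mem (Submodule.subset_span (by simp)) (Submodule.smul_mem _ _ (Submodule.subset_span (by simp)))
      rcases hall _ hm (by rw [hT.1]; exact hL _ hm) with h | h | h
      · exact absurd ((Submodule.add_mem_iff_left _ (Submodule.smul_mem _ t (Submodule.mem_span_singleton_self e))).1 h) he'
      · have h' := Submodule.smul_mem _ t⁻¹ ((Submodule.add_mem_iff_right _ (Submodule.mem_span_singleton_self e')).1 h)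
        rw [smul_smul, inv_mul_cancel₀ ht, one_smul] at h'
        obtain ⟨a, ha⟩ := Submodule.mem_span_singleton.1 h'
        have ha0 : a ≠ 0 := fun h0 => he (by rw [← ha, h0, zero_smul])
        exact absurd (Submodule.mem_span_singleton.2 ⟨a⁻¹, by rw [← ha, smul_smul, inv_mul_cancel₀ ha0, one_smul]⟩) he'
      · exact h
    have hd : e ∈ Submodule.span ℂ {e''} := by
      have := sub_mem (key 2 two_ne_zero) (key 1 one_ne_zero)
      convert this using 1; module
    obtain ⟨a, ha⟩ := Submodule.mem_span_singleton.1 hd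
    have ha0 : a ≠ 0 := fun h0 => he (by rw [← ha, h0, zero_smul])
    exact h2 (Submodule.mem_span_singleton.2 ⟨a⁻¹, by rw [← ha, smul_smul, inv_mul_cancel₀ ha0, one_smul]⟩)
  · obtain ⟨h1, h2, h3, h4⟩ := third hs he he' hM hM' hL
    refine Or.inr ⟨⟨refl e M e', h1, h2, h3, (eck_iff hT _).1 (eck_map hM ((eck_iff hT e').2 hE')),
      by simpa [hT.1] using h4⟩, by simpa [hT.1] using hL⟩

end Groth.Agent.S18409
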