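import Groth.Statements.S18410
-- import your own Groth.Agent.* helpers here
import Groth.Agent.Lead.EckardtPairs

set_option autoImplicit false
universe u
open Cubic

namespace Groth.Agent.S18410

open Groth.Agent.Lead.Eckardt in
open MvPolynomial in
/-- Let f be a nonzero homogeneous cubic in four variables over ℂ whose surface S = V_+(f) ⊂ P³ is
smooth (at every nonzero zero of f some partial derivative is nonzero); a line on S is a
2-dimensional subspace of ℂ⁴ on which f vanishes, and an Eckardt point of S is a nonzero vector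
lying on three distinct lines on S. Let e, e′ be non-proportional Eckardt points of S such that f
vanishes on their span (the line joining them lies on S), and let A, A′ be their Eckardt
involutions: an involutory matrix A (A² = 1) whose +1-eigenspace is a hyperplane and with A·e = −e,
such that the substitution X_i ↦ Σ_j A_ij X_j multiplies f by a constant — that is, a projective
involution preserving S whose fixed locus is the disjoint union of a plane and the point of e, and
likewise A′ for e′. Then the two involutions commute as projective transformations (A·A′ is a scalar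
multiple of A′·A) and each fixes the other point (A·e′ is proportional to e′ and A′·e to e). -/
theorem result (f : MvPolynomial (Fin 4) ℂ) (hf : f.IsHomogeneous 3)
    (hf0 : f ≠ 0) (hsm : ∀ v : Fin 4 → ℂ, v ≠ 0 → eval v f = 0 → ∃ i : Fin 4, eval v (pderiv i f) ≠ 0)
    (e e' : Fin 4 → ℂ) (he : e ≠ 0) (he' : e' ∉ Submodule.span ℂ {e})
    (hE : (∃ U : Fin 3 → Submodule ℂ (Fin 4 → ℂ), Function.Injective U ∧
        ∀ i : Fin 3, Module.finrank ℂ ↥(U i) = 2 ∧ e ∈ U i ∧ ∀ u ∈ U i, eval u f = 0))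
    (hE' : (∃ U : Fin 3 → Submodule ℂ (Fin 4 → ℂ), Function.Injective U ∧
        ∀ i : Fin 3, Module.finrank ℂ ↥(U i) = 2 ∧ e' ∈ U i ∧ ∀ u ∈ U i, eval u f = 0))
    (hL : ∀ u ∈ Submodule.span ℂ {e, e'}, eval u f = 0)
    (A A' : Matrix (Fin 4) (Fin 4) ℂ)
    (hA : A * A = 1 ∧ Module.finrank ℂ ↥(LinearMap.ker (Matrix.toLin' A - LinearMap.id)) = 3 ∧
        A.mulVec e = -e ∧ ∃ c : ℂ, aeval (fun i : Fin 4 => ∑ j : Fin 4, C (A i j) * X j) f = C c * f)
    (hA' : A' * A' = 1 ∧ Module.finrank ℂ ↥(LinearMap.ker (Matrix.toLin' A' - LinearMap.id)) = 3 ∧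
        A'.mulVec e' = -e' ∧ ∃ c : ℂ, aeval (fun i : Fin 4 => ∑ j : Fin 4, C (A' i j) * X j) f = C c * f) :
    (∃ c : ℂ, A * A' = c • (A' * A)) ∧ (∃ d : ℂ, A.mulVec e' = d • e') ∧ (∃ d : ℂ, A'.mulVec e = d • e) := by
  obtain ⟨T, hT⟩ := exists_rep hf
  have hs := smooth_of hT hsm
  obtain ⟨M, hM⟩ := exists_hasInv hs he ((eck_iff hT e).2 hE)
  have he'0 : e' ≠ 0 := fun h => he' (h ▸ zero_mem _)
  obtain ⟨M', hM'⟩ := exists_hasInv hs he'0 ((eck_iff hT e').2 hE')
  obtain ⟨N, hN, hAN⟩ := inv_of_matrix hT hs he hM.1 hA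
  obtain ⟨N', hN', hAN'⟩ := inv_of_matrix hT hs he'0 hM'.1 hA'
  obtain ⟨h1, h2, -⟩ := two_points hs he he' hN hN'
  have hNe : N e' = 0 := h2.1 (h1.2 (by simpa [hT.1] using hL))
  have he2 : e ∉ Submodule.span ℂ {e'} := fun h => by
    obtain ⟨a, ha⟩ := Submodule.mem_span_singleton.1 h
    have ha0 : a ≠ 0 := fun h0 => he (by rw [← ha, h0, zero_smul])
    exact he' (Submodule.mem_span_singleton.2 ⟨a⁻¹, by rw [← ha, smul_smul, inv_mul_cancel₀ ha0, one_smul]⟩)
  obtain ⟨h1', h2', -⟩ := two_points hs he'0 he2 hN' hN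
  have hN'e : N' e = 0 := h2'.1 (h1'.2 (by rw [Set.pair_comm]; simpa [hT.1] using hL))
  obtain ⟨hq, hc, heq⟩ := conj hs he hN' hN
  have he_fix : refl e' N' e = e := by simp [hN'e]
  rw [he_fix] at hq hc heq
  rw [← hN.eq hs he hc, ← hAN, ← hAN', ← Matrix.toLin'_mul, ← Matrix.toLin'_mul] at heq
  have hmat : A' * (A * A') = A := Matrix.toLin'.injective heq
  refine ⟨⟨1, ?_⟩, ⟨1, ?_⟩, ⟨1, ?_⟩⟩
  · rw [one_smul]
    conv_rhs => rw [← hmat]
    rw [← Matrix.mul_assoc A' A', hA'.1, Matrix.one_mul]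
  · rw [← Matrix.toLin'_apply, hAN]; simp [hNe]
  · rw [← Matrix.toLin'_apply, hAN']; simp [hN'e]

end Groth.Agent.S18410
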