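import Groth.Statements.S18411
-- import your own Groth.Agent.* helpers here
import Groth.Agent.Lead.EckardtPairs

set_option autoImplicit false
universe u
open Cubic

namespace Groth.Agent.S18411

open Groth.Agent.Lead.Eckardt in
open MvPolynomial in
/-- Let f be a nonzero homogeneous cubic in four variables over ℂ whose surface S = V_+(f) ⊂ P³ is
smooth (at every nonzero zero of f some partial derivative is nonzero); a line on S is a
2-dimensional subspace of ℂ⁴ on which f vanishes, and an Eckardt point of S is a nonzero vector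
lying on three distinct lines on S. Let e, e′, e″ be pairwise non-proportional Eckardt points of S
spanning a single plane L = span(e, e′) of ℂ⁴ on which f does not vanish identically (three
collinear Eckardt points whose line is not on S), and let A, A′, A″ be their Eckardt involutions: an
involutory matrix A (A² = 1) whose +1-eigenspace is a hyperplane and with A·e = −e, such that the
substitution X_i ↦ Σ_j A_ij X_j multiplies f by a constant — that is, a projective involution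
preserving S whose fixed locus is the disjoint union of a plane and the point of e, and likewise for
e′ and e″. Then the three involutions generate, as projective transformations, a group isomorphic to
the symmetric group on three letters: the product A·A′ is not a scalar matrix, its cube is, and A″
is a scalar multiple of A·A′·A. -/
theorem result (f : MvPolynomial (Fin 4) ℂ) (hf : f.IsHomogeneous 3)
    (hf0 : f ≠ 0) (hsm : ∀ v : Fin 4 → ℂ, v ≠ 0 → eval v f = 0 → ∃ i : Fin 4, eval v (pderiv i f) ≠ 0)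
    (e e' e'' : Fin 4 → ℂ) (he : e ≠ 0) (he' : e' ∉ Submodule.span ℂ {e})
    (he''1 : e'' ∉ Submodule.span ℂ {e}) (he''2 : e'' ∉ Submodule.span ℂ {e'}) (he''L : e'' ∈ Submodule.span ℂ {e, e'})
    (hE : (∃ U : Fin 3 → Submodule ℂ (Fin 4 → ℂ), Function.Injective U ∧
        ∀ i : Fin 3, Module.finrank ℂ ↥(U i) = 2 ∧ e ∈ U i ∧ ∀ u ∈ U i, eval u f = 0))
    (hE' : (∃ U : Fin 3 → Submodule ℂ (Fin 4 → ℂ), Function.Injective U ∧
        ∀ i : Fin 3, Module.finrank ℂ ↥(U i) = 2 ∧ e' ∈ U i ∧ ∀ u ∈ U i, eval u f = 0))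
    (hE'' : (∃ U : Fin 3 → Submodule ℂ (Fin 4 → ℂ), Function.Injective U ∧
        ∀ i : Fin 3, Module.finrank ℂ ↥(U i) = 2 ∧ e'' ∈ U i ∧ ∀ u ∈ U i, eval u f = 0))
    (hL : ¬ ∀ u ∈ Submodule.span ℂ {e, e'}, eval u f = 0)
    (A A' A'' : Matrix (Fin 4) (Fin 4) ℂ)
    (hA : A * A = 1 ∧ Module.finrank ℂ ↥(LinearMap.ker (Matrix.toLin' A - LinearMap.id)) = 3 ∧
        A.mulVec e = -e ∧ ∃ c : ℂ, aeval (fun i : Fin 4 => ∑ j : Fin 4, C (A i j) * X j) f = C c * f)
    (hA' : A' * A' = 1 ∧ Module.finrank ℂ ↥(LinearMap.ker (Matrix.toLin' A' - LinearMap.id)) = 3 ∧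
        A'.mulVec e' = -e' ∧ ∃ c : ℂ, aeval (fun i : Fin 4 => ∑ j : Fin 4, C (A' i j) * X j) f = C c * f)
    (hA'' : A'' * A'' = 1 ∧ Module.finrank ℂ ↥(LinearMap.ker (Matrix.toLin' A'' - LinearMap.id)) = 3 ∧
        A''.mulVec e'' = -e'' ∧ ∃ c : ℂ, aeval (fun i : Fin 4 => ∑ j : Fin 4, C (A'' i j) * X j) f = C c * f) :
    (¬ ∃ c : ℂ, A * A' = c • (1 : Matrix (Fin 4) (Fin 4) ℂ)) ∧ (∃ c : ℂ, (A * A') ^ 3 = c • (1 : Matrix (Fin 4) (Fin 4) ℂ)) ∧
      ∃ c : ℂ, A'' = c • (A * A' * A) := by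
  obtain ⟨T, hT⟩ := exists_rep hf
  have hs := smooth_of hT hsm
  obtain ⟨M, hM⟩ := exists_hasInv hs he ((eck_iff hT e).2 hE)
  have he'0 : e' ≠ 0 := fun h => he' (h ▸ zero_mem _)
  obtain ⟨M', hM'⟩ := exists_hasInv hs he'0 ((eck_iff hT e').2 hE')
  have he''0 : e'' ≠ 0 := fun h => he''1 (h ▸ zero_mem _)
  obtain ⟨M'', hM''⟩ := exists_hasInv hs he''0 ((eck_iff hT e'').2 hE'')
  obtain ⟨N, hN, hAN⟩ := inv_of_matrix hT hs he hM.1 hA
  obtain ⟨N', hN', hAN'⟩ := inv_of_matrix hT hs he'0 hM'.1 hA'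
  obtain ⟨N'', hN'', hAN''⟩ := inv_of_matrix hT hs he''0 hM''.1 hA''
  have he2 : e ∉ Submodule.span ℂ {e'} := fun h => by
    obtain ⟨a, ha⟩ := Submodule.mem_span_singleton.1 h
    have ha0 : a ≠ 0 := fun h0 => he (by rw [← ha, h0, zero_smul])
    exact he' (Submodule.mem_span_singleton.2 ⟨a⁻¹, by rw [← ha, smul_smul, inv_mul_cancel₀ ha0, one_smul]⟩)
  have hL1 : ¬ ∀ u ∈ Submodule.span ℂ {e, e'}, T u u u = 0 := by simpa [hT.1] using hL
  have hL2 : ¬ ∀ u ∈ Submodule.span ℂ {e', e}, T u u u = 0 := by rwa [Set.pair_comm]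
  have key1 : A * (A' * A) = A'' := by
    obtain ⟨-, -, -, h4⟩ := third hs he he' hN hN' hL1
    obtain ⟨hq, hc, heq⟩ := conj hs he'0 hN hN'
    have hmem := ((h4 _ he''L hM''.1).resolve_left he''1).resolve_left he''2
    rw [refl_eq hs hq he''0 hmem hc hN'', ← hAN, ← hAN', ← hAN'', ← Matrix.toLin'_mul,
      ← Matrix.toLin'_mul] at heq
    exact Matrix.toLin'.injective heq
  have key2 : A' * (A * A') = A'' := by
    obtain ⟨-, -, -, h4⟩ := third hs he'0 he2 hN' hN hL2
    obtain ⟨hq, hc, heq⟩ := conj hs he hN' hN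
    have hmem := ((h4 _ (by rwa [Set.pair_comm]) hM''.1).resolve_left he''2).resolve_left he''1
    rw [refl_eq hs hq he''0 hmem hc hN'', ← hAN, ← hAN', ← hAN'', ← Matrix.toLin'_mul,
      ← Matrix.toLin'_mul] at heq
    exact Matrix.toLin'.injective heq
  refine ⟨?_, ⟨1, ?_⟩, ⟨1, ?_⟩⟩
  · rintro ⟨c, hc⟩
    obtain ⟨-, h2, h3, -⟩ := third hs he he' hN hN' hL1
    apply h3
    rw [← hAN, Matrix.toLin'_apply]
    have : A * A' * A' = c • A' := by rw [hc, smul_mul_assoc, Matrix.one_mul]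
    rw [Matrix.mul_assoc, hA'.1, Matrix.mul_one] at this
    rw [this, Matrix.smul_mulVec, hA'.2.2.1]
    exact Submodule.smul_mem _ _ (neg_mem (Submodule.mem_span_singleton_self e'))
  · rw [one_smul]
    calc (A * A') ^ 3 = (A * (A' * A)) * (A' * (A * A')) := by simp only [pow_succ, pow_zero, one_mul, mul_assoc]
      _ = 1 := by rw [key1, key2, hA''.1]
  · rw [one_smul, Matrix.mul_assoc, key1]

end Groth.Agent.S18411
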