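import Groth.Statements.S18422
import Mathlib.Topology.Separation.Connected
import Mathlib.Topology.Algebra.ClopenNhdofOne
import Mathlib.Data.Nat.Prime.Basic
-- import your own Groth.Agent.* helpers here

set_option autoImplicit false
open ProfiniteGrp
universe u v
open Pi1

namespace Groth.Agent.S18422

/-- Let p and l be distinct primes, G a profinite group (a compact totally disconnected topological
group) which is pro-p, meaning that every open normal subgroup of G has index a power of p, and H a
profinite group which is pro-l in the same sense. Then every continuous group homomorphism from G to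
H is trivial. -/
theorem result {p l : ℕ} (hp : p.Prime) (hl : l.Prime) (hpl : p ≠ l)
    (G : Type u) [Group G] [TopologicalSpace G] [IsTopologicalGroup G] [CompactSpace G]
    [TotallyDisconnectedSpace G]
    (H : Type v) [Group H] [TopologicalSpace H] [IsTopologicalGroup H] [CompactSpace H]
    [TotallyDisconnectedSpace H]
    (hG : ∀ U : OpenNormalSubgroup G, ∃ n : ℕ, U.toSubgroup.index = p ^ n)
    (hH : ∀ V : OpenNormalSubgroup H, ∃ n : ℕ, V.toSubgroup.index = l ^ n)
    (f : G →* H) (hf : Continuous f) (g : G) : f g = 1 := by
  haveI : T2Space H := inferInstance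
  by_contra hne
  obtain ⟨V, hV⟩ := exist_openNormalSubgroup_sub_open_nhds_of_one (isOpen_compl_singleton (x := f g)) (by simpa [Set.mem_compl_iff] using fun h => hne h.symm)
  haveI : (V.toSubgroup).Normal := V.isNormal'
  let U : OpenNormalSubgroup G := { toOpenSubgroup := OpenSubgroup.comap f hf V.toOpenSubgroup, isNormal' := Subgroup.Normal.comap V.isNormal' f }
  obtain ⟨n, hn⟩ := hG U
  obtain ⟨m, hm⟩ := hH V
  have hd : U.toSubgroup.index ∣ V.toSubgroup.index := by
    rw [show U.toSubgroup = V.toSubgroup.comap f from rfl, Subgroup.index_comap]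
    exact Subgroup.relIndex_dvd_index_of_normal V.toSubgroup f.range
  rw [hn, hm] at hd
  have hn0 : n = 0 := by
    by_contra hn0
    exact hpl ((Nat.prime_dvd_prime_iff_eq hp hl).mp (hp.dvd_of_dvd_pow ((dvd_pow_self p hn0).trans hd)))
  rw [hn0, pow_zero, Subgroup.index_eq_one] at hn
  have : g ∈ U.toSubgroup := by rw [hn]; trivial
  exact hV this rfl

end Groth.Agent.S18422
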