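import Groth.Statements.S18429
import Mathlib

set_option autoImplicit false
universe u
open SpinCurv

namespace Groth.Agent.S18429

/-- Let n ≥ 1 and r ≥ 2 be integers and let e_0, …, e_{nr} be integers with e_0 = e_{nr} = 0 (the
coefficients of a chain of nr - 1 exceptional curves joining two non-exceptional components with
coefficient zero) such that at every interior index 1 ≤ j ≤ nr - 1 the second difference e_{j-1} - 2
e_j + e_{j+1} (the degree of the divisor Σ e_i E_i on the j-th curve of the chain) is divisible by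
r. Then there are integers e'_0, …, e'_{nr}, with e'_j ≡ e_j modulo r for every interior j, with
e'_0 = e'_{nr} = 0 and every e'_j ≤ 0, whose second differences at the interior indices are each 0
or r, and are nonzero at no two distinct interior indices. -/
theorem result (n r : ℕ) (hn : 1 ≤ n) (hr : 2 ≤ r)
    (e : ℕ → ℤ) (he0 : e 0 = 0) (henr : e (n * r) = 0)
    (hdiv : ∀ j : ℕ, 1 ≤ j → j < n * r → (r : ℤ) ∣ e (j - 1) - 2 * e j + e (j + 1)) :
    ∃ e' : ℕ → ℤ, e' 0 = 0 ∧ e' (n * r) = 0 ∧
      (∀ j : ℕ, 1 ≤ j → j < n * r → (r : ℤ) ∣ e' j - e j) ∧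
      (∀ j : ℕ, j ≤ n * r → e' j ≤ 0) ∧
      (∀ j : ℕ, 1 ≤ j → j < n * r →
        (e' (j - 1) - 2 * e' j + e' (j + 1) = 0 ∨ e' (j - 1) - 2 * e' j + e' (j + 1) = r)) ∧
      (∀ j j' : ℕ, 1 ≤ j → j < n * r → 1 ≤ j' → j' < n * r →
        e' (j - 1) - 2 * e' j + e' (j + 1) ≠ 0 → e' (j' - 1) - 2 * e' j' + e' (j' + 1) ≠ 0 → j = j') := by
  obtain ⟨a, ha0, har, ha⟩ : ∃ a : ℤ, 0 ≤ a ∧ a < r ∧ (r : ℤ) ∣ e 1 - a :=
    ⟨e 1 % r, Int.emod_nonneg _ (by omega), Int.emod_lt_of_pos _ (by omega), Int.dvd_self_sub_emod⟩
  have hr0 : (0 : ℤ) < r := by omega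
  have hcong : ∀ j : ℕ, j ≤ n * r → (r : ℤ) ∣ e j - j * a := by
    intro j
    induction j using Nat.strong_induction_on with
    | _ j ih =>
      intro hj
      match j with
      | 0 => simp [he0]
      | 1 => simpa using ha
      | j + 2 =>
        have h1 := hdiv (j + 1) (by omega) (by omega)
        have h2 := ih j (by omega) (by omega)
        have h3 := ih (j + 1) (by omega) (by omega)
        rw [Nat.add_sub_cancel] at h1
        have := dvd_add (dvd_sub h1 h2) (dvd_mul_of_dvd_right h3 2)
        refine this.trans (dvd_of_eq ?_)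
        push_cast; ring
  let e' : ℕ → ℤ := fun j => if (j : ℤ) ≤ n * a then j * (a - r) else j * a - n * a * r
  have hna : (n : ℤ) * a ≤ n * r := mul_le_mul_of_nonneg_left har.le (by omega)
  refine ⟨e', ?_, ?_, fun j hj1 hj2 => ?_, fun j hj => ?_, fun j hj1 hj2 => ?_, fun j j' hj1 hj2 hj1' hj2' h h' => ?_⟩
  · simp only [e']; rw [if_pos (by positivity)]; simp
  · simp only [e']
    rw [if_neg]
    · push_cast; ring
    · push_cast
      have : (n : ℤ) * a < n * r := mul_lt_mul_of_pos_left har (by omega)
      omega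
  · have h := hcong j hj2.le
    simp only [e']
    split_ifs
    · have := dvd_sub (Dvd.intro_left (-(j : ℤ)) rfl : (r : ℤ) ∣ -(j : ℤ) * r) h
      exact this.trans (dvd_of_eq (by ring))
    · have := dvd_sub (Dvd.intro_left (-((n : ℤ) * a)) rfl : (r : ℤ) ∣ -((n : ℤ) * a) * r) h
      exact this.trans (dvd_of_eq (by ring))
  · have hjn : (j : ℤ) ≤ n * r := by exact_mod_cast hj
    simp only [e']
    split_ifs
    · nlinarith
    · nlinarith
  · simp only [e']
    obtain ⟨i, rfl⟩ : ∃ i, j = i + 1 := ⟨j - 1, by omega⟩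
    rw [Nat.add_sub_cancel]
    rcases lt_trichotomy ((i : ℤ) + 1) (n * a) with h | h | h
    · left; rw [if_pos (by omega), if_pos (by push_cast; omega), if_pos (by push_cast; omega)]; push_cast; ring
    · right; rw [if_pos (by omega), if_pos (by push_cast; omega), if_neg (by push_cast; omega)]; push_cast; linear_combination (r : ℤ) * h
    · left
      by_cases h0 : (i : ℤ) = n * a
      · rw [if_pos (by omega), if_neg (by push_cast; omega), if_neg (by push_cast; omega)]; push_cast; linear_combination (-(r : ℤ)) * h0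
      · rw [if_neg (by omega), if_neg (by push_cast; omega), if_neg (by push_cast; omega)]; push_cast; ring
  · have key : ∀ j : ℕ, 1 ≤ j → e' (j - 1) - 2 * e' j + e' (j + 1) ≠ 0 → (j : ℤ) = n * a := by
      intro j hj h
      obtain ⟨i, rfl⟩ : ∃ i, j = i + 1 := ⟨j - 1, by omega⟩
      by_contra hne
      apply h
      simp only [e', Nat.add_sub_cancel]
      push_cast at hne ⊢
      rcases lt_or_gt_of_ne hne with h1 | h1
      · rw [if_pos (by omega), if_pos (by omega), if_pos (by omega)]; ring
      · by_cases h0 : (i : ℤ) = n * a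
        · rw [if_pos (by omega), if_neg (by omega), if_neg (by omega)]; linear_combination (-(r : ℤ)) * h0
        · rw [if_neg (by omega), if_neg (by omega), if_neg (by omega)]; ring
    exact_mod_cast (key j hj1 h).trans (key j' hj1' h').symm

end Groth.Agent.S18429
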