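import Groth.Statements.S18430
-- import your own Groth.Agent.* helpers here

set_option autoImplicit false
universe u
open SpinCurv

namespace Groth.Agent.S18430

/-- Let n ≥ 1 and r ≥ 2 be integers and let e_0, …, e_{nr} be integers, thought of as the coefficients
of two non-exceptional components C = E_0 and D = E_{nr} of the special fibre and of the chain of nr
- 1 exceptional curves joining them. If at every interior index 1 ≤ j ≤ nr - 1 the second difference
e_{j-1} - 2 e_j + e_{j+1} is divisible by r (the degree of the divisor on each exceptional curve of
the chain is a multiple of r), then e_0 ≡ e_{nr} modulo r. (The published statement deduces from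
this step, using that the special fibre is connected, that all non-exceptional components are joined
by such chains and that one non-exceptional coefficient may be taken to be 0, that every
non-exceptional coefficient can be assumed divisible by r; only the chain step is stated here.) -/
theorem result (n r : ℕ) (hn : 1 ≤ n) (hr : 2 ≤ r)
    (e : ℕ → ℤ)
    (hdiv : ∀ j : ℕ, 1 ≤ j → j < n * r → (r : ℤ) ∣ e (j - 1) - 2 * e j + e (j + 1)) :
    (r : ℤ) ∣ e (n * r) - e 0 := by
  have h : ∀ j : ℕ, j ≤ n * r → (r : ℤ) ∣ e j - (e 0 + j * (e 1 - e 0)) := by
    intro j
    induction j using Nat.strong_induction_on with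
    | _ j ih =>
      intro hj
      match j with
      | 0 => simp
      | 1 => simp
      | j + 2 =>
        obtain ⟨a, ha⟩ := ih j (by omega) (by omega)
        obtain ⟨b, hb⟩ := ih (j + 1) (by omega) (by omega)
        obtain ⟨c, hc⟩ := hdiv (j + 1) (by omega) (by omega)
        rw [Nat.add_sub_cancel] at hc
        refine ⟨c - a + 2 * b, ?_⟩
        push_cast at ha hb ⊢
        linear_combination hc - ha + 2 * hb
  obtain ⟨a, ha⟩ := h (n * r) le_rfl
  push_cast at ha
  exact ⟨a + n * (e 1 - e 0), by linear_combination ha⟩

end Groth.Agent.S18430
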