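import Groth.Statements.S18431
import Mathlib.RingTheory.LocalRing.MaximalIdeal.Basic
import Mathlib.RingTheory.Ideal.Quotient.Operations
import Mathlib.Algebra.Ring.GeomSum
-- import your own Groth.Agent.* helpers here

set_option autoImplicit false
universe u
open SpinCurv

namespace Groth.Agent.S18431

/-- Let R be a Noetherian local ring in which the natural number r is invertible and let ξ, ζ ∈ R
satisfy ξ^r = 1 and ζ^r = 1. Then either ξ = ζ, or ξ - ζ is a unit of R. (Consequently an element of
R annihilated by ξ - ζ is zero unless ξ = ζ. In the published setting R is moreover complete; the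
step does not use completeness.) -/
theorem result (R : Type u) [CommRing R] [IsNoetherianRing R] [IsLocalRing R]
    (r : ℕ) (hr : IsUnit (r : R)) (ξ ζ : R) (hξ : ξ ^ r = 1) (hζ : ζ ^ r = 1) :
    ξ = ζ ∨ IsUnit (ξ - ζ) := by
  by_cases h : IsUnit (ξ - ζ)
  · exact Or.inr h
  left
  have hm : ξ - ζ ∈ IsLocalRing.maximalIdeal R := h
  have hr0 : r ≠ 0 := by
    rintro rfl
    simp at hr
  have hz : IsUnit ζ := IsUnit.of_pow_eq_one hζ hr0
  set S := ∑ i ∈ Finset.range r, ξ ^ i * ζ ^ (r - 1 - i)
  have h1 : S * (ξ - ζ) = 0 := by rw [geom_sum₂_mul, hξ, hζ, sub_self]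
  have h2 : IsUnit S := by
    have h3 : Ideal.Quotient.mk (IsLocalRing.maximalIdeal R) S =
        Ideal.Quotient.mk (IsLocalRing.maximalIdeal R) ((r : R) * ζ ^ (r - 1)) := by
      have e : Ideal.Quotient.mk (IsLocalRing.maximalIdeal R) ξ =
          Ideal.Quotient.mk (IsLocalRing.maximalIdeal R) ζ := Ideal.Quotient.eq.2 hm
      simp only [S, map_sum, map_mul, map_pow, e, ← pow_add, map_natCast]
      rw [Finset.sum_congr rfl (g := fun _ => Ideal.Quotient.mk (IsLocalRing.maximalIdeal R) ζ ^ (r - 1))
        (fun i hi => by congr 1; have := Finset.mem_range.1 hi; omega)]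
      simp
    by_contra hS
    have : (r : R) * ζ ^ (r - 1) ∈ IsLocalRing.maximalIdeal R := by
      rw [← Ideal.Quotient.eq_zero_iff_mem, ← h3, Ideal.Quotient.eq_zero_iff_mem]
      exact hS
    exact this (hr.mul (hz.pow _))
  exact sub_eq_zero.1 (h2.mul_right_eq_zero.1 h1)

end Groth.Agent.S18431
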