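import Groth.Statements.S18445
import Groth.Agent.Misc9.SF.T1
-- import your own Groth.Agent.* helpers here

set_option autoImplicit false
universe u
open CategoryTheory
open Deform

namespace Groth.Agent.S18445

/-- Let k be a field of characteristic zero and R a complete local Noetherian k-algebra with residue
field k, with n the dimension of its cotangent space m_R/m_R². Then R is isomorphic as a k-algebra
to the power series ring k[[x_1, …, x_n]] if and only if for every local Artinian k-algebra A with
residue field k, all A-modules M and M' and every surjective A-linear map f : M' → M, every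
k-algebra homomorphism R → A ⊕ M into the trivial square-zero extension is the composite of some
k-algebra homomorphism R → A ⊕ M' with the map A ⊕ M' → A ⊕ M induced by f. (The modules are taken
in the universe of k, with the A-action on both sides equal; in positive characteristic the
criterion fails, e.g. for k[x]/(x^p).) -/
theorem result
    {k : Type u} [Field k] [CharZero k] (R : ArtFun.CRing k k) :
    Nonempty (R.carrier ≃ₐ[k] MvPowerSeries
        (Fin (Module.finrank (IsLocalRing.ResidueField R.carrier) (IsLocalRing.CotangentSpace R.carrier))) k) ↔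
      ∀ (A : ArtFun.Art k k) (M M' : Type u) [AddCommGroup M] [Module (↥A) M] [Module (↥A)ᵐᵒᵖ M]
        [IsCentralScalar (↥A) M] [Module k M] [IsScalarTower k (↥A) M] [IsScalarTower k (↥A)ᵐᵒᵖ M]
        [AddCommGroup M'] [Module (↥A) M'] [Module (↥A)ᵐᵒᵖ M'] [IsCentralScalar (↥A) M'] [Module k M']
        [IsScalarTower k (↥A) M'] [IsScalarTower k (↥A)ᵐᵒᵖ M'] (f : M' →ₗ[↥A] M),
        Function.Surjective f →
          ∀ φ : R.carrier →ₐ[k] TrivSqZeroExt (↥A) M,
            ∃ ψ : R.carrier →ₐ[k] TrivSqZeroExt (↥A) M',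
              ∀ r : R.carrier, (ψ r).fst = (φ r).fst ∧ f (ψ r).snd = (φ r).snd := by
  classical
  constructor
  swap
  · intro h
    obtain ⟨e, -⟩ := Misc9.SF.exists_equiv_of_t1 R (Misc9.SF.t1Lifts_of_modules R h)
    exact ⟨e.symm⟩
  rintro ⟨e⟩ A M M' _ _ _ _ _ _ _ _ _ _ _ _ _ _ f hf φ
  haveI := Misc9.SF.field_isAdicComplete (k := k)
  obtain ⟨d, hd⟩ : ∃ d, Module.finrank (IsLocalRing.ResidueField R.carrier) (IsLocalRing.CotangentSpace R.carrier) = d := ⟨_, rfl⟩
  revert e
  rw [hd]
  intro e
  let P := Misc9.SF.psRing (Misc9.SF.cringField k) d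
  let θ : P.carrier →ₐ[k] TrivSqZeroExt A M := φ.comp (e.symm : MvPowerSeries (Fin d) k →ₐ[k] R.carrier)
  let θ₁ : ArtFun.HomSet P.carrier P.res A :=
    ⟨(TrivSqZeroExt.fstHom k A M).comp θ, Misc9.SF.res_comp_eq (R := P) A _⟩
  choose m hm using fun i => hf (θ (Misc9.SF.psX (Misc9.SF.cringField k) d i)).snd
  let c : Fin d → Misc9.SF.tszArt A d := fun i =>
    ((θ₁.1 (Misc9.SF.psX (Misc9.SF.cringField k) d i), Pi.single i (1 : A)) : TrivSqZeroExt A (Fin d → A))
  obtain ⟨g, -, hgX⟩ := Misc9.SF.exists_ps_hom (C := Misc9.SF.cringField k) (n := d)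
    (Misc9.SF.selfPt (Λ := k) (k := k) Function.surjective_id (Misc9.SF.tszArt A d)) c fun i => by
      rw [(Misc9.SF.tszArt A d).mem_maximalIdeal_iff]
      exact (AlgHom.congr_fun θ₁.2 _).trans (Misc9.SF.psX_res _ _ i)
  let L : (Fin d → A) →ₗ[A] M' := Fintype.linearCombination A m
  let g' : P.carrier →ₐ[k] TrivSqZeroExt A (Fin d → A) := g.1
  have h1 : ArtFun.HomSet.map (Misc9.SF.tszFst A d) g = θ₁ := by
    refine Misc9.SF.ps_hom_ext (Misc9.SF.self_hom_ext Function.surjective_id _ _) fun i => ?_
    exact (congrArg TrivSqZeroExt.fst (hgX i) :)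
  have hfst : ∀ r, (g' r).fst = (θ r).fst := fun r => AlgHom.congr_fun (congrArg Subtype.val h1) r
  let δ : P.carrier → M := fun r => (θ r).snd - f (L (g' r).snd)
  have hδadd : ∀ x y, δ (x + y) = δ x + δ y := fun x y => by
    simp only [δ, map_add, TrivSqZeroExt.snd_add]
    abel
  have hδmul : ∀ x y, δ (x * y) = (θ x).fst • δ y + (θ y).fst • δ x := fun x y => by
    simp only [δ, map_mul, TrivSqZeroExt.snd_mul, op_smul_eq_smul, hfst, map_add, map_smul, smul_sub]
    abel
  have hres : ∀ x ∈ IsLocalRing.maximalIdeal P.carrier, (θ x).fst ∈ IsLocalRing.maximalIdeal A := fun x hx => by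
    rw [A.mem_maximalIdeal_iff]
    exact (AlgHom.congr_fun θ₁.2 x).trans ((ArtFun.CRing.mem_maximalIdeal_iff P x).1 hx)
  have hpow : ∀ (j : ℕ), ∀ x ∈ IsLocalRing.maximalIdeal P.carrier ^ (j + 1),
      δ x ∈ IsLocalRing.maximalIdeal A ^ j • (⊤ : Submodule A M) := by
    intro j
    induction j with
    | zero => intro x _; rw [pow_zero, Ideal.one_eq_top, Submodule.top_smul]; trivial
    | succ j ih =>
      intro x hx
      rw [pow_succ] at hx
      refine Submodule.mul_induction_on hx (fun a ha b hb => ?_) fun a b ha hb => by rw [hδadd]; exact add_mem ha hb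
      rw [hδmul]
      refine add_mem (Submodule.smul_mem_smul ?_ Submodule.mem_top) ?_
      · have hle : IsLocalRing.maximalIdeal P.carrier ≤
            (IsLocalRing.maximalIdeal A).comap ((TrivSqZeroExt.fstHom k A M).comp θ) := fun z hz => hres z hz
        exact (Ideal.le_comap_pow _ _) (Ideal.pow_right_mono hle _ ha)
      · rw [pow_succ', Submodule.mul_smul]
        exact Submodule.smul_mem_smul (hres b hb) (ih a ha)
  obtain ⟨N, hN⟩ := Misc9.SF.exists_pow_eq_bot A
  have hδ0 : ∀ r : MvPowerSeries (Fin d) k, δ r = 0 := fun r => by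
    have hC : ∀ t : k, δ (MvPowerSeries.C t : MvPowerSeries (Fin d) k) = 0 := fun t => by
      have e1 : ∀ B : P.carrier →ₐ[k] TrivSqZeroExt A M, (B (MvPowerSeries.C t : MvPowerSeries (Fin d) k)).snd = 0 := fun B => by
        have e0 : (MvPowerSeries.C t : MvPowerSeries (Fin d) k) = algebraMap k (MvPowerSeries (Fin d) k) t :=
          (MvPowerSeries.algebraMap_apply (R := k) (A := k) (σ := Fin d)).symm
        refine (congrArg TrivSqZeroExt.snd ((congrArg B e0).trans (B.commutes t))).trans ?_
        rw [TrivSqZeroExt.algebraMap_eq_inl', TrivSqZeroExt.snd_inl]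
      have e2 : (g' (MvPowerSeries.C t : MvPowerSeries (Fin d) k)).snd = 0 := by
        have e0 : (MvPowerSeries.C t : MvPowerSeries (Fin d) k) = algebraMap k (MvPowerSeries (Fin d) k) t :=
          (MvPowerSeries.algebraMap_apply (R := k) (A := k) (σ := Fin d)).symm
        refine (congrArg TrivSqZeroExt.snd ((congrArg g' e0).trans (g'.commutes t))).trans ?_
        rw [TrivSqZeroExt.algebraMap_eq_inl', TrivSqZeroExt.snd_inl]
      change (θ _).snd - f (L (g' _).snd) = 0
      rw [e1 θ, e2, map_zero, map_zero, sub_zero]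
    have hX : ∀ i, δ (Misc9.SF.psX (Misc9.SF.cringField k) d i) = 0 := fun i => by
      have e2 : (g' (Misc9.SF.psX (Misc9.SF.cringField k) d i)).snd = Pi.single i (1 : A) :=
        congrArg TrivSqZeroExt.snd (hgX i)
      change (θ _).snd - f (L (g' _).snd) = 0
      rw [e2, Fintype.linearCombination_apply_single, one_smul, hm, sub_self]
    have hpoly : ∀ p : MvPolynomial (Fin d) k, δ (p : MvPowerSeries (Fin d) k) = 0 := fun p => by
      induction p using MvPolynomial.induction_on with
      | C t => rw [MvPolynomial.coe_C]; exact hC t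
      | add p q hp hq =>
        rw [MvPolynomial.coe_add]
        exact (hδadd _ _).trans (by rw [hp, hq, add_zero])
      | mul_X p i hp =>
        rw [MvPolynomial.coe_mul, MvPolynomial.coe_X]
        refine (hδmul _ _).trans ?_
        rw [show δ (MvPowerSeries.X i : MvPowerSeries (Fin d) k) = 0 from hX i, hp, smul_zero, smul_zero, add_zero]
    have hsub : (r : MvPowerSeries (Fin d) k) - ((MvPowerSeries.truncTotal (N + 1) r : MvPolynomial (Fin d) k) : MvPowerSeries (Fin d) k) ∈ IsLocalRing.maximalIdeal P.carrier ^ (N + 1) :=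
      Ideal.pow_right_mono (Misc9.SF.mX_le_psMaximal (Misc9.SF.cringField k) d) _ (Misc9.SF.sub_truncTotal_mem (Misc9.SF.cringField k) d (N + 1) r)
    have h2 := hpow N _ hsub
    rw [hN, Submodule.bot_smul, Submodule.mem_bot] at h2
    have h3 := hδadd ((r : MvPowerSeries (Fin d) k) - ((MvPowerSeries.truncTotal (N + 1) r : MvPolynomial (Fin d) k) : MvPowerSeries (Fin d) k)) ((MvPowerSeries.truncTotal (N + 1) r : MvPolynomial (Fin d) k) : MvPowerSeries (Fin d) k)
    rw [h2, hpoly, add_zero] at h3
    exact (congrArg δ (sub_add_cancel r _).symm).trans h3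
  refine ⟨((TrivSqZeroExt.map L).restrictScalars k).comp (g'.comp (e : R.carrier →ₐ[k] MvPowerSeries (Fin d) k)), fun r => ?_⟩
  have hθ : θ (e r) = φ r := congrArg φ (e.symm_apply_apply r)
  refine ⟨?_, ?_⟩
  · change (TrivSqZeroExt.map L (g' (e r))).fst = _
    rw [TrivSqZeroExt.fst_map, hfst, hθ]
  · change f (TrivSqZeroExt.map L (g' (e r))).snd = _
    rw [TrivSqZeroExt.snd_map]
    have := hδ0 (e r)
    rw [sub_eq_zero, hθ] at this
    exact this.symm

end Groth.Agent.S18445
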