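import Groth.Statements.S1846
import Mathlib.RingTheory.HopfAlgebra.Convolution
import Mathlib.RingTheory.Kaehler.Basic
import Mathlib.RingTheory.Ideal.Cotangent
import Mathlib.RingTheory.Bialgebra.Hom
import Mathlib.LinearAlgebra.Basis.VectorSpace
import Mathlib.RingTheory.TensorProduct.Free

set_option autoImplicit false
universe u v
open GrpSch

namespace Groth.Agent.S1846

open TensorProduct Coalgebra

variable (K : Type u) [Field K] (B : Type v) [CommRing B] [HopfAlgebra K B]

/-- The augmentation ideal. -/
noncomputable abbrev aug : Ideal B := RingHom.ker (Bialgebra.counitAlgHom K B)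

theorem sub_counit_mem (b : B) : b - algebraMap K B (counit b) ∈ aug K B := by
  rw [RingHom.mem_ker, map_sub]
  simp

/-- The projection onto the cotangent space at the identity. -/
noncomputable def proj : B →ₗ[K] (aug K B).Cotangent where
  toFun b := (aug K B).toCotangent ⟨b - algebraMap K B (counit b), sub_counit_mem K B b⟩
  map_add' x y := by
    rw [← map_add]; congr 1; ext
    show x + y - algebraMap K B (counit (x + y)) = (x - algebraMap K B (counit x)) + (y - algebraMap K B (counit y))
    rw [map_add, map_add]; ring
  map_smul' c x := by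
    rw [RingHom.id_apply, ← algebraMap_smul B c ((aug K B).toCotangent _), ← map_smul]
    congr 1; ext
    show c • x - algebraMap K B (counit (c • x)) = algebraMap K B c * (x - algebraMap K B (counit x))
    rw [map_smul, smul_eq_mul, map_mul, Algebra.smul_def]; ring

theorem proj_mul (x y : B) :
    proj K B (x * y) = (counit x : K) • proj K B y + (counit y : K) • proj K B x := by
  show (aug K B).toCotangent _ = _ • (aug K B).toCotangent _ + _ • (aug K B).toCotangent _
  rw [← algebraMap_smul B (counit x : K) ((aug K B).toCotangent _),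
    ← algebraMap_smul B (counit y : K) ((aug K B).toCotangent _), ← map_smul, ← map_smul, ← map_add,
    Ideal.toCotangent_eq]
  show x * y - algebraMap K B (counit (x * y)) - (algebraMap K B (counit x) * (y - algebraMap K B (counit y)) +
    algebraMap K B (counit y) * (x - algebraMap K B (counit x))) ∈ _
  rw [Bialgebra.counit_mul, map_mul, pow_two]
  convert Ideal.mul_mem_mul (sub_counit_mem K B x) (sub_counit_mem K B y) using 1
  ring

/-- `x ⊗ y ↦ x · ε y`. -/
noncomputable def mEps : B ⊗[K] B →ₗ[K] B := (TensorProduct.rid K B).toLinearMap.comp (counit.lTensor B)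

/-- `x ⊗ y ↦ x ⊗ π y`. -/
noncomputable def pD : B ⊗[K] B →ₗ[K] B ⊗[K] (aug K B).Cotangent := (proj K B).lTensor B

theorem pD_mul (s t : B ⊗[K] B) : pD K B (s * t) = mEps K B s • pD K B t + mEps K B t • pD K B s := by
  induction s using TensorProduct.induction_on with
  | zero => simp
  | add a b ha hb => simp only [add_mul, map_add, add_smul, ha, hb, smul_add]; abel
  | tmul a a' =>
    induction t using TensorProduct.induction_on with
    | zero => simp
    | add c d hc hd => simp only [mul_add, map_add, add_smul, smul_add, hc, hd]; abel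
    | tmul c c' =>
      rw [Algebra.TensorProduct.tmul_mul_tmul]
      simp only [pD, mEps, LinearMap.comp_apply, LinearMap.lTensor_tmul, LinearEquiv.coe_coe, TensorProduct.rid_tmul,
        proj_mul, TensorProduct.tmul_add, TensorProduct.smul_tmul', smul_eq_mul]
      rw [show (a * c) ⊗ₜ[K] ((counit a' : K) • proj K B c') = ((counit a' : K) • a * c) ⊗ₜ[K] proj K B c' from by
          rw [TensorProduct.tmul_smul, TensorProduct.smul_tmul', smul_mul_assoc],
        show (a * c) ⊗ₜ[K] ((counit c' : K) • proj K B a') = ((counit c' : K) • c * a) ⊗ₜ[K] proj K B a' from by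
          rw [TensorProduct.tmul_smul, TensorProduct.smul_tmul', smul_mul_assoc, mul_comm a c]]

theorem mEps_comul (b : B) : mEps K B (comul b) = b := by
  show (TensorProduct.rid K B) (counit.lTensor B (comul b)) = b
  rw [lTensor_counit_comul, TensorProduct.rid_tmul, one_smul]

/-- The derivation to `B ⊗ ω`. -/
noncomputable def der : Derivation K B (B ⊗[K] (aug K B).Cotangent) :=
  Derivation.mk' ((pD K B).comp comul) fun x y => by
    show pD K B (comul (x * y)) = x • pD K B (comul y) + y • pD K B (comul x)
    rw [Bialgebra.comul_mul, pD_mul, mEps_comul, mEps_comul]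

/-- `x ⊗ y ↦ S x · d y`. -/
noncomputable def pS : B ⊗[K] B →ₗ[K] Ω[B⁄K] :=
  TensorProduct.lift ((LinearMap.lsmul B (Ω[B⁄K])).restrictScalars₁₂ K K |>.comp (HopfAlgebra.antipode K) |>.compl₂
    (KaehlerDifferential.D K B).toLinearMap)

theorem pS_tmul (x y : B) : pS K B (x ⊗ₜ y) = HopfAlgebra.antipode K x • KaehlerDifferential.D K B y := rfl

/-- `x ⊗ y ↦ S x · y`. -/
noncomputable def mS : B ⊗[K] B →ₗ[K] B := (LinearMap.mul' K B).comp ((HopfAlgebra.antipode K).rTensor B)

theorem pS_mul (s t : B ⊗[K] B) : pS K B (s * t) = mS K B s • pS K B t + mS K B t • pS K B s := by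
  induction s using TensorProduct.induction_on with
  | zero => simp
  | add a b ha hb => simp only [add_mul, map_add, add_smul, ha, hb, smul_add]; abel
  | tmul a a' =>
    induction t using TensorProduct.induction_on with
    | zero => simp
    | add c d hc hd => simp only [mul_add, map_add, add_smul, smul_add, hc, hd]; abel
    | tmul c c' =>
      rw [Algebra.TensorProduct.tmul_mul_tmul]
      simp only [pS_tmul, mS, LinearMap.comp_apply, LinearMap.rTensor_tmul, LinearMap.mul'_apply, Derivation.leibniz,
        HopfAlgebra.antipode_mul_distrib, smul_add, smul_smul]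
      congr 1 <;> ring_nf

/-- `b ↦ Σ S b₁ d b₂`. -/
noncomputable def xi : B →ₗ[K] Ω[B⁄K] := (pS K B).comp comul

theorem xi_mul (x y : B) : xi K B (x * y) = (counit x : K) • xi K B y + (counit y : K) • xi K B x := by
  show pS K B (comul (x * y)) = _
  rw [Bialgebra.comul_mul, pS_mul, show mS K B (comul x) = algebraMap K B (counit x) from
      HopfAlgebra.mul_antipode_rTensor_comul_apply x,
    show mS K B (comul y) = algebraMap K B (counit y) from HopfAlgebra.mul_antipode_rTensor_comul_apply y,
    algebraMap_smul, algebraMap_smul]
  rfl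

theorem xi_eq_zero (z : aug K B) (hz : z ∈ (aug K B) • (⊤ : Submodule B (aug K B))) : xi K B z = 0 := by
  refine Submodule.smul_induction_on (p := fun z : aug K B => xi K B z = 0) hz (fun r hr x _ => ?_)
    fun x y hx hy => ?_
  · have hr' : (counit r : K) = 0 := hr
    have hx' : (counit x.1 : K) = 0 := x.2
    show xi K B (r * x.1) = 0
    rw [xi_mul, hr', hx', zero_smul, zero_smul, add_zero]
  · show xi K B (x.1 + y.1) = 0
    rw [map_add, hx, hy, add_zero]

theorem exists_mu : ∃ M : (aug K B).Cotangent →ₗ[K] Ω[B⁄K], ∀ b, M (proj K B b) = xi K B b := by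
  let g : (aug K B).Cotangent →+ Ω[B⁄K] :=
    QuotientAddGroup.lift _ ((xi K B).toAddMonoidHom.comp (Submodule.subtype _).toAddMonoidHom) fun z hz =>
      xi_eq_zero K B z hz
  have hg : ∀ z : aug K B, g ((aug K B).toCotangent z) = xi K B z := fun z => rfl
  refine ⟨{ toFun := g, map_add' := g.map_add, map_smul' := fun c x => ?_ }, fun b => ?_⟩
  · obtain ⟨z, rfl⟩ := (aug K B).toCotangent_surjective x
    rw [← algebraMap_smul B c ((aug K B).toCotangent z), ← map_smul, hg, hg, RingHom.id_apply]
    show xi K B (algebraMap K B c * z.1) = _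
    rw [← Algebra.smul_def, map_smul]
  · show g ((aug K B).toCotangent _) = _
    rw [hg]
    show xi K B (b - algebraMap K B (counit b)) = _
    have h1 : xi K B 1 = 0 := by
      have h := xi_mul K B 1 1
      rw [mul_one, Bialgebra.counit_one, one_smul] at h
      exact add_eq_left.mp h.symm
    rw [map_sub, Algebra.algebraMap_eq_smul_one, map_smul, h1, smul_zero, sub_zero]

/-- `Ω ≅ B ⊗ ω`. -/
theorem nonempty_equiv : Nonempty (B ⊗[K] (aug K B).Cotangent ≃ₗ[B] Ω[B⁄K]) := by
  obtain ⟨M, hM⟩ := exists_mu K B
  let F := M.liftBaseChange B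
  let L := (der K B).liftKaehlerDifferential
  have hL : ∀ b, L (KaehlerDifferential.D K B b) = pD K B (comul b) :=
    fun b => Derivation.liftKaehlerDifferential_comp_D _ b
  refine ⟨LinearEquiv.ofLinearMap F L ?_ ?_⟩
  · apply Derivation.liftKaehlerDifferential_unique
    ext b
    show F (L (KaehlerDifferential.D K B b)) = KaehlerDifferential.D K B b
    rw [hL]
    let T : B ⊗[K] (B ⊗[K] B) →ₗ[K] Ω[B⁄K] :=
      TensorProduct.lift ((LinearMap.lsmul B (Ω[B⁄K])).restrictScalars₁₂ K K |>.compl₂ (pS K B))
    have h1 : ∀ s, F (pD K B s) = T (comul.lTensor B s) := by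
      intro s
      induction s using TensorProduct.induction_on with
      | zero => simp
      | add x y hx hy => simp only [map_add, hx, hy]
      | tmul x y =>
        show F (x ⊗ₜ proj K B y) = x • pS K B (comul y)
        rw [LinearMap.liftBaseChange_tmul, hM]
        rfl
    let T' : B ⊗[K] B →ₗ[K] Ω[B⁄K] :=
      TensorProduct.lift ((LinearMap.lsmul B (Ω[B⁄K])).restrictScalars₁₂ K K |>.compl₂
        (KaehlerDifferential.D K B).toLinearMap)
    have h2 : ∀ s : (B ⊗[K] B) ⊗[K] B, T (TensorProduct.assoc K B B B s) =
        T' (((LinearMap.mul' K B).comp ((HopfAlgebra.antipode K).lTensor B)).rTensor B s) := by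
      intro s
      induction s using TensorProduct.induction_on with
      | zero => simp
      | add x y hx hy => simp only [map_add, hx, hy]
      | tmul w z =>
        induction w using TensorProduct.induction_on with
        | zero => simp
        | add x y hx hy => simp only [TensorProduct.add_tmul, map_add, hx, hy]
        | tmul x y =>
          show x • (HopfAlgebra.antipode K y • KaehlerDifferential.D K B z) =
            (x * HopfAlgebra.antipode K y) • KaehlerDifferential.D K B z
          rw [smul_smul]
    rw [h1, ← coassoc_apply, h2, ← LinearMap.rTensor_comp_apply, LinearMap.comp_assoc,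
      HopfAlgebra.mul_antipode_lTensor_comul, LinearMap.rTensor_comp_apply, rTensor_counit_comul]
    show algebraMap K B 1 • KaehlerDifferential.D K B b = _
    rw [map_one, one_smul]
  · refine TensorProduct.AlgebraTensorModule.ext fun c w => ?_
    obtain ⟨z, rfl⟩ := (aug K B).toCotangent_surjective w
    have hz : (aug K B).toCotangent z = proj K B z.1 := by
      show _ = (aug K B).toCotangent _
      congr 1; ext
      show z.1 = z.1 - algebraMap K B (counit z.1)
      rw [show (counit z.1 : K) = 0 from z.2, map_zero, sub_zero]
    rw [hz, show c ⊗ₜ[K] proj K B z.1 = c • ((1 : B) ⊗ₜ[K] proj K B z.1) from by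
      rw [TensorProduct.smul_tmul', smul_eq_mul, mul_one], map_smul]
    show c • L (F (1 ⊗ₜ proj K B z.1)) = c • ((1 : B) ⊗ₜ[K] proj K B z.1)
    congr 1
    show L (F (1 ⊗ₜ proj K B z.1)) = 1 ⊗ₜ proj K B z.1
    rw [LinearMap.liftBaseChange_tmul, one_smul, hM]
    let T : B ⊗[K] (B ⊗[K] B) →ₗ[K] B ⊗[K] (aug K B).Cotangent :=
      TensorProduct.lift ((LinearMap.lsmul B (B ⊗[K] (aug K B).Cotangent)).restrictScalars₁₂ K K
        |>.comp (HopfAlgebra.antipode K) |>.compl₂ (pD K B))
    have h1 : ∀ s, L (pS K B s) = T (comul.lTensor B s) := by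
      intro s
      induction s using TensorProduct.induction_on with
      | zero => simp
      | add x y hx hy => simp only [map_add, hx, hy]
      | tmul x y =>
        rw [pS_tmul, map_smul, hL]
        rfl
    have h2 : ∀ s : (B ⊗[K] B) ⊗[K] B, T (TensorProduct.assoc K B B B s) =
        (proj K B).lTensor B ((mS K B).rTensor B s) := by
      intro s
      induction s using TensorProduct.induction_on with
      | zero => simp
      | add x y hx hy => simp only [map_add, hx, hy]
      | tmul w z =>
        induction w using TensorProduct.induction_on with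
        | zero => simp
        | add x y hx hy => simp only [TensorProduct.add_tmul, map_add, hx, hy]
        | tmul x y =>
          show HopfAlgebra.antipode K x • (y ⊗ₜ[K] proj K B z) =
            (HopfAlgebra.antipode K x * y) ⊗ₜ[K] proj K B z
          rw [TensorProduct.smul_tmul', smul_eq_mul]
    show L (pS K B (comul z.1)) = _
    rw [h1, ← coassoc_apply, h2, ← LinearMap.rTensor_comp_apply, mS, LinearMap.comp_assoc,
      HopfAlgebra.mul_antipode_rTensor_comul, LinearMap.rTensor_comp_apply, rTensor_counit_comul]
    show algebraMap K B 1 ⊗ₜ[K] proj K B z.1 = _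
    rw [map_one]

/-- Affine case of the last sentence: for a group scheme over a field the module of differentials is a
free module; stated for an affine group scheme Spec B, i.e. for a commutative Hopf algebra B over a
field K: Ω_{B/K} is a free B-module. -/
theorem result (K : Type u) [Field K] (B : Type v) [CommRing B] [HopfAlgebra K B] : Module.Free B (Ω[B⁄K]) := by
  obtain ⟨e⟩ := nonempty_equiv K B
  exact Module.Free.of_equiv e

end Groth.Agent.S1846
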