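import Groth.Statements.S18465
-- import your own Groth.Agent.* helpers here

set_option autoImplicit false
universe u v w x
open WildLef

namespace Groth.Agent.S18465

/-- Let f : G₁ → G₂ be a homomorphism of groups, ρ : G₂ → Γ a homomorphism with finite image G, and A a
nontrivial commutative ring. Let G₂ act on the group algebra A[G] through ρ followed by the left
regular representation, and G₁ through f. If the elements of A[G] fixed by G₁ coincide with those
fixed by G₂, then ρ ∘ f and ρ have the same image. (The published statement has Γ a general linear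
group GL_r(A); over the zero ring that group is trivial, so requiring A nontrivial and allowing any
target group loses nothing.) -/
theorem result
    {G₁ : Type u} {G₂ : Type v} {Γ : Type w} [Group G₁] [Group G₂] [Group Γ]
    (f : G₁ →* G₂) (ρ : G₂ →* Γ) [Finite ρ.range] (A : Type x) [CommRing A] [Nontrivial A]
    (h : {x : MonoidAlgebra A ρ.range | ∀ g : G₁, MonoidAlgebra.of A ρ.range (ρ.rangeRestrict (f g)) * x = x} =
      {x : MonoidAlgebra A ρ.range | ∀ g : G₂, MonoidAlgebra.of A ρ.range (ρ.rangeRestrict g) * x = x}) :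
    (ρ.comp f).range = ρ.range := by
  classical
  have : Fintype ρ.range := Fintype.ofFinite _
  let H : Subgroup ρ.range := (ρ.rangeRestrict.comp f).range
  let x : MonoidAlgebra A ρ.range := ∑ g ∈ Finset.univ.filter (· ∈ H), MonoidAlgebra.single g 1
  have hcoef : ∀ g, x.coeff g = if g ∈ H then 1 else 0 := fun g => by
    simp [x, Finsupp.finsetSum_apply, Finset.sum_filter, apply_ite (fun y : MonoidAlgebra A ρ.range => y.coeff g), Finsupp.single_apply]
    rw [Finset.sum_eq_single g (fun b _ hb => by simp [hb]) (fun h => absurd (Finset.mem_univ g) h)]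
    simp

  have hshift : ∀ (g a : ρ.range), (MonoidAlgebra.of A ρ.range g * x).coeff a = x.coeff (g⁻¹ * a) := fun g a => by
    rw [MonoidAlgebra.of_apply, MonoidAlgebra.single_mul_apply, one_mul]
  have hx : ∀ g : G₁, MonoidAlgebra.of A ρ.range (ρ.rangeRestrict (f g)) * x = x := by
    intro g
    ext a
    rw [hshift, hcoef, hcoef]
    have hg : ρ.rangeRestrict (f g) ∈ H := ⟨g, rfl⟩
    simp [H.mul_mem_cancel_left (H.inv_mem hg)]
  have hx' : x ∈ {x : MonoidAlgebra A ρ.range | ∀ g : G₂, MonoidAlgebra.of A ρ.range (ρ.rangeRestrict g) * x = x} := h ▸ hx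
  refine le_antisymm (by rintro _ ⟨a, rfl⟩; exact ⟨f a, rfl⟩) ?_
  rintro _ ⟨g, rfl⟩
  have e := congrArg (fun y : MonoidAlgebra A ρ.range => y.coeff (ρ.rangeRestrict g)) (hx' g)
  simp only [hshift, inv_mul_cancel, hcoef, if_pos H.one_mem] at e
  by_cases hg : ρ.rangeRestrict g ∈ H
  · obtain ⟨a, ha⟩ := hg
    exact ⟨a, congrArg Subtype.val ha⟩
  · rw [if_neg hg] at e
    exact absurd e one_ne_zero

end Groth.Agent.S18465
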