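import Groth.Statements.S18467
import Mathlib

set_option autoImplicit false
universe u
open Hopf

namespace Groth.Agent.S18467

/-- Let p be a prime and R a commutative ring containing an element u with u(p − 1) = 1, and let χ be a
homomorphism from the group of units of ℤ/p to the group of units of R such that χ(m) − 1 is a unit
of R for every m ≠ 1. For 0 ≤ i < p − 1 put e_i = u · Σ_m χ(m)^{−i} [m] in the group algebra
R[(ℤ/p)ˣ]. Then the e_i are idempotents, e_i e_j = 0 for i ≠ j, and Σ_i e_i = 1. (The published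
statement is for algebras over the subring of the p-adic integers generated over ℤ by the values of
the Teichmüller character χ and by 1/(p(p − 1)); the hypotheses on R and χ here are the properties
of that situation which the computation uses, so the row is stated for every such pair.) -/
theorem result
    (p : ℕ) [Fact p.Prime] (R : Type u) [CommRing R] (u : R) (hu : u * ((p - 1 : ℕ) : R) = 1)
    (χ : (ZMod p)ˣ →* Rˣ) (hχ : ∀ m : (ZMod p)ˣ, m ≠ 1 → IsUnit ((χ m : R) - 1)) :
    CompleteOrthogonalIdempotents (fun i : Fin (p - 1) =>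
      u • ∑ m : (ZMod p)ˣ, ((χ m⁻¹ : Rˣ) : R) ^ (i : ℕ) • MonoidAlgebra.of R (ZMod p)ˣ m) := by
  classical
  have hcard : Fintype.card (ZMod p)ˣ = p - 1 := ZMod.card_units p
  obtain ⟨t, ht⟩ := IsCyclic.exists_generator (α := (ZMod p)ˣ)
  have hord : orderOf t = p - 1 := by rw [orderOf_eq_card_of_forall_mem_zpowers ht, Nat.card_eq_fintype_card, hcard]
  let a : (ZMod p)ˣ → R := fun m => ((χ m⁻¹ : Rˣ) : R)
  let b : (ZMod p)ˣ → R := fun m => ((χ m : Rˣ) : R)
  have amul : ∀ m n, a (m * n) = a m * a n := fun m n => by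
    simp only [a, mul_inv, map_mul, Units.val_mul]
  have orth : ∀ i j : Fin (p - 1), ∑ m : (ZMod p)ˣ, a m ^ (i : ℕ) * b m ^ (j : ℕ) = if i = j then ((p - 1 : ℕ) : R) else 0 := by
    intro i j
    split_ifs with h
    · subst h
      simp only [a, b, ← mul_pow, ← Units.val_mul, ← map_mul, inv_mul_cancel, map_one, Units.val_one, one_pow,
        Finset.sum_const, Finset.card_univ, hcard, nsmul_eq_mul, mul_one]
    · let S : R := ∑ m : (ZMod p)ˣ, a m ^ (i : ℕ) * b m ^ (j : ℕ)
      let c : R := a t ^ (i : ℕ) * b t ^ (j : ℕ)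
      have hS : c * S = S := by
        rw [Finset.mul_sum]
        refine Fintype.sum_equiv (Equiv.mulLeft t) _ _ fun m => ?_
        simp only [Equiv.coe_mulLeft, amul, show b (t * m) = b t * b m from by simp [b], c, mul_pow]
        ring
      have hne : (t⁻¹) ^ (i : ℕ) * t ^ (j : ℕ) ≠ 1 := by
        rw [inv_pow, Ne, inv_mul_eq_one]
        exact fun e => h (Fin.ext (pow_injOn_Iio_orderOf (hord.symm ▸ i.2) (hord.symm ▸ j.2) e))
      have hu' := hχ _ hne
      rw [map_mul, map_pow, map_pow, Units.val_mul, Units.val_pow_eq_pow_val, Units.val_pow_eq_pow_val] at hu'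
      refine hu'.mul_right_eq_zero.1 ?_
      show (c - 1) * S = 0
      rw [sub_mul, one_mul, hS, sub_self]
  have geo : ∀ m : (ZMod p)ˣ, ∑ i : Fin (p - 1), a m ^ (i : ℕ) = if m = 1 then ((p - 1 : ℕ) : R) else 0 := by
    intro m
    split_ifs with h
    · subst h; simp [a]
    · rw [Fin.sum_univ_eq_sum_range (fun i => a m ^ i)]
      refine (hχ m⁻¹ (by simpa using h)).mul_left_eq_zero.1 ?_
      show _ * (a m - 1) = 0
      rw [geom_sum_mul, sub_eq_zero]
      show ((χ m⁻¹ : Rˣ) : R) ^ (p - 1) = 1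
      rw [← Units.val_pow_eq_pow_val, ← map_pow, ← hcard, pow_card_eq_one, map_one, Units.val_one]
  have key : ∀ i j : Fin (p - 1),
      (u • ∑ m : (ZMod p)ˣ, a m ^ (i : ℕ) • MonoidAlgebra.of R (ZMod p)ˣ m) * (u • ∑ m : (ZMod p)ˣ, a m ^ (j : ℕ) • MonoidAlgebra.of R (ZMod p)ˣ m) =
      (u * if i = j then ((p - 1 : ℕ) : R) else 0) • (u • ∑ m : (ZMod p)ˣ, a m ^ (j : ℕ) • MonoidAlgebra.of R (ZMod p)ˣ m) := by
    intro i j
    rw [smul_mul_smul_comm, smul_smul, mul_right_comm u _ u, mul_smul (u * u)]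
    congr 1
    rw [← orth i j, Finset.sum_smul, Finset.sum_mul]
    refine Finset.sum_congr rfl fun m _ => ?_
    rw [Finset.mul_sum, Finset.smul_sum]
    refine Fintype.sum_equiv (Equiv.mulLeft m) _ _ fun n => ?_
    simp only [Equiv.coe_mulLeft, smul_mul_smul_comm, ← map_mul, smul_smul]
    congr 1
    rw [amul, mul_pow]
    have : b m * a m = 1 := by simp [a, b]
    calc a m ^ (i : ℕ) * a n ^ (j : ℕ) = a m ^ (i : ℕ) * (b m * a m) ^ (j : ℕ) * a n ^ (j : ℕ) := by rw [this, one_pow, mul_one]
      _ = _ := by ring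
  constructor
  · constructor
    · intro i
      show _ * _ = _
      rw [key i i, if_pos rfl, hu, one_smul]
    · intro i j hij
      show _ * _ = _
      rw [key i j, if_neg hij, mul_zero, zero_smul]
  · rw [← Finset.smul_sum, Finset.sum_comm]
    simp only [← Finset.sum_smul]
    rw [Finset.sum_congr rfl fun m _ => congrArg (· • MonoidAlgebra.of R (ZMod p)ˣ m) (geo m),
      Finset.sum_eq_single 1 (fun m _ h => by rw [if_neg h, zero_smul]) (fun h => absurd (Finset.mem_univ _) h), if_pos rfl,
      smul_smul, hu, one_smul, map_one]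

end Groth.Agent.S18467
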