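import Groth.Statements.S18472
import Mathlib

set_option autoImplicit false
universe u v
open Hopf

namespace Groth.Agent.S18472

/-- Let R be a commutative ring and A a commutative Hopf algebra over R which is finitely generated and
projective as an R-module (a finite locally free group scheme G = Spec A over Spec R), and let I =
ker ε be its augmentation ideal. Then A is étale over R if and only if I² = I. (The published text
calls G finite flat, meaning that A is finitely generated and projective.) -/
theorem result
    (R : Type u) [CommRing R] (A : Type v) [CommRing A] [HopfAlgebra R A]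
    [Module.Finite R A] [Module.Projective R A] :
    Algebra.Etale R A ↔
      RingHom.ker (Bialgebra.counitAlgHom R A) ^ 2 = RingHom.ker (Bialgebra.counitAlgHom R A) := by
  open TensorProduct WithConv in
  let ε := Bialgebra.counitAlgHom R A
  let I : Ideal A := RingHom.ker ε
  constructor
  · intro _
    refine le_antisymm (Ideal.pow_le_self two_ne_zero) fun x hx => ?_
    have hI : ∀ a : A, a - algebraMap R A (ε a) ∈ I := fun a => by simp [I, RingHom.mem_ker]
    let d : A →ₗ[R] I.Cotangent := (I.toCotangent.restrictScalars R) ∘ₗ
      LinearMap.codRestrict (I.restrictScalars R) (LinearMap.id - Algebra.linearMap R A ∘ₗ ε.toLinearMap) hI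
    let D : Derivation R A I.Cotangent := Derivation.mk' d (fun a b => by
      show I.toCotangent ⟨_, hI (a * b)⟩ = a • I.toCotangent ⟨_, hI b⟩ + b • I.toCotangent ⟨_, hI a⟩
      rw [← map_smul, ← map_smul, ← map_add, Ideal.toCotangent_eq]
      have := Ideal.mul_mem_mul (hI a) (hI b)
      rw [← pow_two] at this
      simp only [Submodule.coe_add, SetLike.val_smul, smul_eq_mul, map_mul]
      convert Ideal.neg_mem_iff _ |>.2 this using 1
      ring)
    have hD : D x = 0 := by
      rw [← D.liftKaehlerDifferential_comp_D x, Subsingleton.elim (KaehlerDifferential.D R A x) 0, map_zero]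
    have h2 : I.toCotangent ⟨_, hI x⟩ = 0 := hD
    rw [Ideal.toCotangent_eq_zero] at h2
    simpa [show ε x = 0 from hx] using h2
  · intro hI2
    have hunr : Algebra.FormallyUnramified R A := by
      refine ⟨?_⟩
      rw [← not_nontrivial_iff_subsingleton]
      intro hnt
      obtain ⟨ω, hω⟩ := exists_ne (0 : KaehlerDifferential R A)
      apply hω
      let D := KaehlerDifferential.D R A
      let Φ : A ⊗[R] A →ₗ[R] KaehlerDifferential R A :=
        TensorProduct.lift (LinearMap.compl₂ (LinearMap.mk₂ R (fun (a : A) (w : KaehlerDifferential R A) => a • w) (fun a b w => add_smul a b w) (fun r a w => smul_assoc r a w) (fun a v w => smul_add a v w) (fun r a w => smul_comm a r w)) D.toLinearMap)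
      let m := LinearMap.mul' R A
      have hm : ∀ z w, m (z * w) = m z * m w := fun z w =>
        map_mul (Algebra.TensorProduct.lmul' R (S := A)) z w
      have hΦ : ∀ z w, Φ (z * w) = m z • Φ w + m w • Φ z := by
        intro z w
        induction z with
        | zero => simp
        | add a b ha hb => simp only [add_mul, map_add, ha, hb, add_smul, smul_add]; abel
        | tmul x y =>
          induction w with
          | zero => simp
          | add a b ha hb => simp only [mul_add, map_add, ha, hb, add_smul, smul_add]; abel
          | tmul x' y' =>
            simp only [Φ, m, Algebra.TensorProduct.tmul_mul_tmul, TensorProduct.lift.tmul, LinearMap.compl₂_apply,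
              LinearMap.mk₂_apply, Derivation.coeFn_coe,
              Derivation.leibniz, smul_add, smul_smul, LinearMap.mul'_apply]
            congr 1 <;> ring_nf
      let L : A →ₐ[R] A ⊗[R] A := Algebra.TensorProduct.includeLeft
      let Rr : A →ₐ[R] A ⊗[R] A := Algebra.TensorProduct.includeRight
      let ωc : A →ₐ[R] A ⊗[R] A := (toConv (L.comp (HopfAlgebra.antipodeAlgHom R A)) * toConv Rr).ofConv
      have hS : toConv (AlgHom.id R A) * toConv (HopfAlgebra.antipodeAlgHom R A) = 1 :=
        mul_eq_one_comm.1 AlgHom.antipode_id_cancel
      have hmω : ∀ a, m (ωc a) = algebraMap R A (ε a) := by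
        intro a
        have h := DFunLike.congr_fun (AlgHom.comp_convMul_distrib (Algebra.TensorProduct.lmul' R (S := A))
          (toConv (L.comp (HopfAlgebra.antipodeAlgHom R A))) (toConv Rr)) a
        have e1 : (Algebra.TensorProduct.lmul' R (S := A)).comp (L.comp (HopfAlgebra.antipodeAlgHom R A)) =
            HopfAlgebra.antipodeAlgHom R A := by ext; simp [L]
        have e2 : (Algebra.TensorProduct.lmul' R (S := A)).comp Rr = AlgHom.id R A := by ext; simp [Rr]
        simp only [e1, e2, AlgHom.comp_apply] at h
        rw [show m (ωc a) = Algebra.TensorProduct.lmul' R (S := A) (ωc a) from rfl, h, AlgHom.antipode_id_cancel,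
          AlgHom.convOne_apply]
        rfl
      have h1 : Φ 1 = 0 := by simp [Φ, Algebra.TensorProduct.one_def]
      have hδ : ∀ a, Φ (ωc a) = 0 := by
        have hI0 : ∀ a ∈ I, Φ (ωc a) = 0 := by
          intro a ha
          change a ∈ RingHom.ker (Bialgebra.counitAlgHom R A) at ha
          rw [← hI2, pow_two] at ha
          refine Submodule.mul_induction_on ha (fun x hx y hy => ?_) (fun x y hx hy => by rw [map_add, map_add, hx, hy, add_zero])
          rw [map_mul, hΦ, hmω, hmω, show ε x = 0 from hx, show ε y = 0 from hy]
          simp
        intro a
        have := hI0 (a - algebraMap R A (ε a)) (by simp [I, RingHom.mem_ker])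
        rwa [map_sub, AlgHom.commutes, Algebra.algebraMap_eq_smul_one (A := A ⊗[R] A), map_sub, map_smul, h1, smul_zero, sub_zero] at this
      let τ : A ⊗[R] A →ₐ[R] A ⊗[R] A := Algebra.TensorProduct.lift L ωc fun _ _ => Commute.all _ _
      have hτ : ∀ z, Φ (τ z) = 0 := by
        intro z
        induction z with
        | zero => simp
        | add a b ha hb => rw [map_add, map_add, ha, hb, add_zero]
        | tmul x y =>
          have hL : Φ (L x) = 0 := by simp [Φ, L]
          simp [τ, hΦ, hδ, hL]
      have hτΔ : τ.comp (Bialgebra.comulAlgHom R A) = Rr := by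
        have h := AlgHom.comp_convMul_distrib τ (toConv L) (toConv ωc)
        have hc : (toConv L * toConv ωc).ofConv = Rr := by
          show (toConv L * (toConv (L.comp (HopfAlgebra.antipodeAlgHom R A)) * toConv Rr)).ofConv = Rr
          have h1 : toConv (L.comp (1 : WithConv (A →ₐ[R] A)).ofConv) = 1 := by
            apply WithConv.ext
            apply AlgHom.ext
            intro a
            simp [AlgHom.convOne_def]
          have hinv : toConv L * toConv (L.comp (HopfAlgebra.antipodeAlgHom R A)) = 1 := by
            rw [← h1, ← hS, AlgHom.comp_convMul_distrib]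
            simp
          rw [← mul_assoc, hinv, one_mul]
        rw [← hc]
        refine AlgHom.ext fun a => ?_
        rw [AlgHom.convMul_apply, AlgHom.comp_apply, Bialgebra.comulAlgHom_apply]
      have hD : ∀ a, D a = 0 := fun a => by
        have := hτ (Bialgebra.comulAlgHom R A a)
        rw [← AlgHom.comp_apply, hτΔ] at this
        simpa [Φ, Rr, D] using this
      have hω' := (KaehlerDifferential.span_range_derivation R A).ge (Submodule.mem_top (x := ω))
      rw [show Set.range D = {0} from by ext; simp [hD, eq_comm], Submodule.span_zero_singleton, Submodule.mem_bot] at hω'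
      exact hω'
    have : Module.FinitePresentation R A := Module.finitePresentation_of_projective R A
    have : Algebra.FinitePresentation R A := inferInstance
    exact Algebra.Etale.of_formallyUnramified_of_flat

end Groth.Agent.S18472
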