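import Groth.Statements.S18480
import Mathlib.Tactic.LinearCombination
-- import your own Groth.Agent.* helpers here

set_option autoImplicit false
universe u v
open scoped TensorProduct
open OortTate

namespace Groth.Agent.S18480

/-- Let R be a commutative ring and let A and A' be commutative Hopf algebras over R whose augmentation
ideals are free of rank one with generators x and x', with constants a, b and a', b' ∈ R such that
x² = a x, Δ(x) = x ⊗ 1 + 1 ⊗ x + b x ⊗ x and x'² = a' x', Δ(x') = x' ⊗ 1 + 1 ⊗ x' + b' x' ⊗ x' (the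
group schemes of order two G_{a,b} and G_{a',b'}). Then A and A' are isomorphic as bialgebras over R
(G_{a,b} ≅ G_{a',b'} as group schemes) if and only if there is a unit s of R with a = a'·s and b' =
b·s. -/
theorem result
    (R : Type u) [CommRing R] (A : Type v) [CommRing A] [HopfAlgebra R A]
    (x : A) (hx : Bialgebra.counitAlgHom R A x = 0)
    (hgen : ∀ f : A, Bialgebra.counitAlgHom R A f = 0 → ∃ r : R, f = r • x)
    (hfree : ∀ r : R, r • x = 0 → r = 0)
    (a b : R) (hxa : x * x = a • x)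
    (hxb : Bialgebra.comulAlgHom R A x = x ⊗ₜ[R] 1 + 1 ⊗ₜ[R] x + b • (x ⊗ₜ[R] x))
    (A' : Type v) [CommRing A'] [HopfAlgebra R A']
    (x' : A') (hx' : Bialgebra.counitAlgHom R A' x' = 0)
    (hgen' : ∀ f : A', Bialgebra.counitAlgHom R A' f = 0 → ∃ r : R, f = r • x')
    (hfree' : ∀ r : R, r • x' = 0 → r = 0)
    (a' b' : R) (hxa' : x' * x' = a' • x')
    (hxb' : Bialgebra.comulAlgHom R A' x' = x' ⊗ₜ[R] 1 + 1 ⊗ₜ[R] x' + b' • (x' ⊗ₜ[R] x')) :
    Nonempty (A ≃ₐc[R] A') ↔ ∃ s : Rˣ, a = a' * (s : R) ∧ b' = b * (s : R) := by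
  classical
  let ε := Bialgebra.counitAlgHom R A
  let ε' := Bialgebra.counitAlgHom R A'
  have mk : ∀ (B : Type v) [CommRing B] [HopfAlgebra R B] (y : B),
      Bialgebra.counitAlgHom R B y = 0 →
      (∀ f : B, Bialgebra.counitAlgHom R B f = 0 → ∃ r : R, f = r • y) →
      (∀ r : R, r • y = 0 → r = 0) →
      ∃ φ : (R × R) ≃ₗ[R] B, ∀ c r, φ (c, r) = c • 1 + r • y := by
    intro B _ _ y hy hg hf
    let φ : (R × R) →ₗ[R] B :=
      (LinearMap.toSpanSingleton R B 1).coprod (LinearMap.toSpanSingleton R B y)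
    refine ⟨LinearEquiv.ofBijective φ ⟨?_, ?_⟩, fun c r => rfl⟩
    · rw [injective_iff_map_eq_zero]
      rintro ⟨c, r⟩ h
      have hc : c = 0 := by
        have := congrArg (Bialgebra.counitAlgHom R B) (show c • (1 : B) + r • y = 0 from h)
        simpa [hy, show Coalgebra.counit (R := R) y = 0 from hy] using this
      subst hc
      simp [hf r (by simpa [φ] using h)]
    · intro f
      obtain ⟨r, hr⟩ := hg (f - Bialgebra.counitAlgHom R B f • 1) (by simp)
      exact ⟨(Bialgebra.counitAlgHom R B f, r), by simp [φ, ← hr]⟩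
  obtain ⟨φ, hφ⟩ := mk A x hx hgen hfree
  obtain ⟨φ', hφ'⟩ := mk A' x' hx' hgen' hfree'
  let κ : A' →ₗ[R] R := LinearMap.snd R R R ∘ₗ φ'.symm.toLinearMap
  have hκx : κ x' = 1 := by
    have : φ'.symm x' = (0, 1) := by rw [LinearEquiv.symm_apply_eq, hφ']; simp
    simp [κ, this]
  have hκ1 : κ 1 = 0 := by
    have : φ'.symm 1 = (1, 0) := by rw [LinearEquiv.symm_apply_eq, hφ']; simp
    simp [κ, this]
  constructor
  · rintro ⟨e⟩
    obtain ⟨s, hs⟩ := hgen' (e x) (by
      show Coalgebra.counit (R := R) (e x) = 0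
      rw [CoalgHomClass.counit_comp_apply]; exact hx)
    obtain ⟨t, ht⟩ := hgen (e.symm x') (by
      show Coalgebra.counit (R := R) (e.symm x') = 0
      rw [CoalgHomClass.counit_comp_apply]; exact hx')
    have hst : t * s = 1 := by
      have h : e (e.symm x') = x' := e.apply_symm_apply x'
      rw [ht, map_smul, hs, smul_smul] at h
      refine sub_eq_zero.mp (hfree' _ ?_)
      rw [sub_smul, one_smul, h, sub_self]
    refine ⟨⟨s, t, by rwa [mul_comm], hst⟩, ?_, ?_⟩
    · have h := map_mul e x x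
      rw [hxa, map_smul, hs, smul_smul, smul_mul_smul_comm, hxa', smul_smul] at h
      have h2 : a * s = s * s * a' := sub_eq_zero.mp (hfree' _ (by rw [sub_smul, h, sub_self]))
      show a = a' * s
      linear_combination t * h2 - (a - s * a') * hst
    · have h : TensorProduct.map (e : A →ₗ[R] A') (e : A →ₗ[R] A') (Coalgebra.comul x) =
          Coalgebra.comul (e x) := LinearMap.congr_fun (CoalgHomClass.map_comp_comul e) x
      rw [show Coalgebra.comul x = _ from hxb, hs, map_smul, show Coalgebra.comul x' = _ from hxb'] at h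
      have := congrArg (fun z => TensorProduct.lid R R (TensorProduct.map κ κ z)) h
      simp [hs, hκx, hκ1] at this
      show b' = b * s
      linear_combination t * (-this) - (b' - b * s) * hst
  · rintro ⟨s, hsa, hsb⟩
    let ψ : A ≃ₗ[R] A' := φ.symm ≪≫ₗ
      (LinearEquiv.refl R R).prodCongr (LinearEquiv.smulOfUnit s) ≪≫ₗ φ'
    have hψ : ∀ (c r : R), ψ (c • (1 : A) + r • x) = c • (1 : A') + ((s : R) * r) • x' := by
      intro c r
      rw [← hφ]
      simp [ψ, hφ']
      rfl
    have hψ1 : ψ 1 = 1 := by simpa using hψ 1 0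
    have hψx : ψ x = (s : R) • x' := by simpa using hψ 0 1
    have hsurjA : ∀ f : A, ∃ c r : R, f = c • (1 : A) + r • x := fun f =>
      ⟨(φ.symm f).1, (φ.symm f).2, by rw [← hφ]; simp⟩
    have hmul : ∀ f g, ψ (f * g) = ψ f * ψ g := by
      intro f g
      obtain ⟨c, r, rfl⟩ := hsurjA f
      obtain ⟨c', r', rfl⟩ := hsurjA g
      simp only [map_add, map_smul, hψ1, hψx, add_mul, mul_add, smul_mul_smul_comm, mul_one, one_mul,
        hxa, hxa', smul_smul]
      rw [hsa]
      ring_nf
    let E : A ≃ₐ[R] A' := AlgEquiv.ofLinearEquiv ψ hψ1 hmul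
    refine ⟨BialgEquiv.ofAlgEquiv E ?_ ?_⟩
    · apply AlgHom.toLinearMap_injective
      apply LinearMap.ext
      intro f
      obtain ⟨c, r, rfl⟩ := hsurjA f
      simp [E, hψ1, hψx, show Coalgebra.counit (R := R) x = 0 from hx,
        show Coalgebra.counit (R := R) x' = 0 from hx']
    · apply AlgHom.toLinearMap_injective
      apply LinearMap.ext
      intro f
      obtain ⟨c, r, rfl⟩ := hsurjA f
      show Algebra.TensorProduct.map (E : A →ₐ[R] A') (E : A →ₐ[R] A')
          (Bialgebra.comulAlgHom R A (c • 1 + r • x)) =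
        Bialgebra.comulAlgHom R A' (ψ (c • 1 + r • x))
      simp only [map_add, map_smul, map_one, hxb, hψ1, hψx, hxb', Algebra.TensorProduct.map_tmul,
        show (E : A →ₐ[R] A') x = ψ x from rfl, show (E : A →ₐ[R] A') 1 = 1 from map_one _,
        TensorProduct.tmul_smul, ← TensorProduct.smul_tmul', smul_add, smul_smul]
      rw [hsb]
      ring_nf

end Groth.Agent.S18480
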