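import Groth.Statements.S18490
import Mathlib

set_option autoImplicit false
universe u
open CategoryTheory CategoryTheory.Limits AlgebraicGeometry
open FlatMor

namespace Groth.Agent.S18490

/-- Let f : X → S and g : Y → S be morphisms of schemes and suppose that g has a section y : S → Y. If
the structure morphism X ×_S Y → S (first projection followed by f) is quasi-compact, then so is f;
likewise for locally of finite type, for separated, and for flat. (Finite type, also listed in the
source, is the conjunction of the first two.) -/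
theorem result {X Y S : Scheme.{u}} (f : X ⟶ S) (g : Y ⟶ S)
    (y : S ⟶ Y) (hy : y ≫ g = 𝟙 S) :
    (QuasiCompact (pullback.fst f g ≫ f) → QuasiCompact f) ∧
    (LocallyOfFiniteType (pullback.fst f g ≫ f) → LocallyOfFiniteType f) ∧
    (IsSeparated (pullback.fst f g ≫ f) → IsSeparated f) ∧
    (Flat (pullback.fst f g ≫ f) → Flat f) := by
  let σ : X ⟶ pullback f g := pullback.lift (𝟙 X) (f ≫ y) (by rw [Category.id_comp, Category.assoc, hy, Category.comp_id])
  have hσ : σ ≫ pullback.fst f g = 𝟙 X := pullback.lift_fst _ _ _
  have hf : σ ≫ (pullback.fst f g ≫ f) = f := by rw [reassoc_of% hσ]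
  haveI hs : Surjective (pullback.fst f g) :=
    ⟨fun z => ⟨σ z, by rw [← Scheme.Hom.comp_apply, hσ]; rfl⟩⟩
  haveI : IsSeparated σ := by
    haveI : IsSeparated (σ ≫ pullback.fst f g) := by rw [hσ]; infer_instance
    exact IsSeparated.of_comp σ (pullback.fst f g)
  haveI : LocallyOfFiniteType σ := by
    haveI : LocallyOfFiniteType (σ ≫ pullback.fst f g) := by rw [hσ]; infer_instance
    exact locallyOfFiniteType_of_comp σ (pullback.fst f g)
  refine ⟨fun hc => ⟨fun U hU hUc => ?_⟩, fun hc => ?_, fun hc => ?_, fun hc => ?_⟩
  · have h2 := hc.isCompact_preimage U hU hUc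
    have h3 := h2.image (pullback.fst f g).continuous
    rw [show (pullback.fst f g ≫ f) ⁻¹' U = (pullback.fst f g) ⁻¹' (f ⁻¹' U) from rfl,
      Set.image_preimage_eq _ hs.surj] at h3
    exact h3
  · rw [← hf]; infer_instance
  · rw [← hf]; infer_instance
  · refine Flat.of_stalkMap _ fun x => ?_
    have hz : pullback.fst f g (σ x) = x := by rw [← Scheme.Hom.comp_apply, hσ]; rfl
    have hflat := Flat.stalkMap (pullback.fst f g ≫ f) (σ x)
    rw [Scheme.Hom.stalkMap_comp] at hflat
    have key : ∀ x' : X, x' = x → (f.stalkMap x').hom.Flat → (f.stalkMap x).hom.Flat := by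
      rintro _ rfl h; exact h
    refine key _ hz ?_
    let a := (f.stalkMap (pullback.fst f g (σ x))).hom
    let b := ((pullback.fst f g).stalkMap (σ x)).hom
    let i := X.presheaf.stalkSpecializes (specializes_of_eq hz)
    have hex : ∃ c : (pullback f g).presheaf.stalk (σ x) →+* X.presheaf.stalk (pullback.fst f g (σ x)),
        c.comp b = RingHom.id _ := by
      let j := X.presheaf.stalkSpecializes (specializes_of_eq hz.symm)
      have e1 : (σ ≫ pullback.fst f g).stalkMap x =
          (pullback.fst f g).stalkMap (σ x) ≫ σ.stalkMap x := Scheme.Hom.stalkMap_comp _ _ _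
      haveI : IsOpenImmersion (σ ≫ pullback.fst f g) := by rw [hσ]; infer_instance
      haveI : IsIso ((pullback.fst f g).stalkMap (σ x) ≫ σ.stalkMap x) := by
        have h0 : IsIso ((σ ≫ pullback.fst f g).stalkMap x) := inferInstance
        rw [← e1]; exact h0
      refine ⟨(σ.stalkMap x ≫ inv ((pullback.fst f g).stalkMap (σ x) ≫ σ.stalkMap x)).hom, ?_⟩
      have e2 : (pullback.fst f g).stalkMap (σ x) ≫ σ.stalkMap x ≫
          inv ((pullback.fst f g).stalkMap (σ x) ≫ σ.stalkMap x) = 𝟙 _ := by
        rw [← Category.assoc, IsIso.hom_inv_id]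
      exact congrArg CommRingCat.Hom.hom e2
    obtain ⟨c, hcb⟩ := hex
    have hab : (b.comp a).Flat := hflat
    show a.Flat
    letI := a.toAlgebra
    letI := b.toAlgebra
    letI := (b.comp a).toAlgebra
    haveI : IsScalarTower (S.presheaf.stalk (f (pullback.fst f g (σ x))))
        (X.presheaf.stalk (pullback.fst f g (σ x))) ((pullback f g).presheaf.stalk (σ x)) :=
      IsScalarTower.of_algebraMap_eq' rfl
    haveI : Module.Flat (S.presheaf.stalk (f (pullback.fst f g (σ x))))
        ((pullback f g).presheaf.stalk (σ x)) := hab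
    show Module.Flat _ _
    let cl : (pullback f g).presheaf.stalk (σ x) →ₗ[S.presheaf.stalk (f (pullback.fst f g (σ x)))]
        X.presheaf.stalk (pullback.fst f g (σ x)) :=
      { toFun := c
        map_add' := map_add c
        map_smul' := fun r z => by
          simp only [Algebra.smul_def, RingHom.algebraMap_toAlgebra, map_mul, RingHom.id_apply]
          exact congrArg (· * c z) (RingHom.congr_fun hcb (a r)) }
    exact Module.Flat.of_retract (IsScalarTower.toAlgHom _ _ _).toLinearMap cl
      (LinearMap.ext fun z => RingHom.congr_fun hcb z)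

end Groth.Agent.S18490
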