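import Groth.Statements.S18539
import Mathlib.RingTheory.Regular.RegularSequence

set_option autoImplicit false
universe u v w
open CAlg

namespace Groth.Agent.S18539

open scoped Pointwise

/-- For a commutative ring R, R-modules M and N and elements r₁, r₂ of R such that r₁ is a
non-zero-divisor on N and r₂ is a non-zero-divisor on N/r₁N, the element r₁ is a non-zero-divisor on
the module Hom_R(M, N) and r₂ is a non-zero-divisor on Hom_R(M, N)/r₁Hom_R(M, N). (Weak regularity
on both sides: no condition that the quotient by (r₁, r₂) is nonzero, which would fail for M = 0.) -/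
theorem result
    (R : Type u) [CommRing R] (M : Type v) (N : Type w)
    [AddCommGroup M] [Module R M] [AddCommGroup N] [Module R N]
    (r₁ r₂ : R) (h : RingTheory.Sequence.IsWeaklyRegular N [r₁, r₂]) :
    RingTheory.Sequence.IsWeaklyRegular (M →ₗ[R] N) [r₁, r₂] := by
  rw [RingTheory.Sequence.isWeaklyRegular_cons_iff, RingTheory.Sequence.isWeaklyRegular_singleton_iff] at h ⊢
  obtain ⟨h1, h2⟩ := h
  have hH : IsSMulRegular (M →ₗ[R] N) r₁ := fun f g hfg => LinearMap.ext fun m => h1 (LinearMap.congr_fun hfg m)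
  refine ⟨hH, fun a b hab => ?_⟩
  obtain ⟨f, rfl⟩ := Submodule.Quotient.mk_surjective _ a
  obtain ⟨g, rfl⟩ := Submodule.Quotient.mk_surjective _ b
  have hmem : ∀ m, (f - g) m ∈ r₁ • (⊤ : Submodule R N) := by
    intro m
    change Submodule.Quotient.mk (r₂ • f) = Submodule.Quotient.mk (r₂ • g) at hab
    rw [Submodule.Quotient.eq, ← smul_sub] at hab
    obtain ⟨k, -, hk⟩ := (Submodule.mem_smul_pointwise_iff_exists _ _ _).1 hab
    have h3 : r₂ • (f - g) m ∈ r₁ • (⊤ : Submodule R N) :=
      (Submodule.mem_smul_pointwise_iff_exists _ _ _).2 ⟨k m, trivial, LinearMap.congr_fun hk m⟩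
    rw [← Submodule.Quotient.mk_eq_zero, Submodule.Quotient.mk_smul] at h3
    exact (Submodule.Quotient.mk_eq_zero _).1 (h2 (show r₂ • Submodule.Quotient.mk ((f - g) m) = r₂ • (0 : QuotSMulTop r₁ N) by rw [h3, smul_zero]))
  choose c hc hc' using fun m => (Submodule.mem_smul_pointwise_iff_exists _ _ _).1 (hmem m)
  rw [Submodule.Quotient.eq, Submodule.mem_smul_pointwise_iff_exists]
  refine ⟨{ toFun := c, map_add' := fun x y => h1 ?_, map_smul' := fun s x => h1 ?_ }, trivial, LinearMap.ext hc'⟩
  · change r₁ • c (x + y) = r₁ • (c x + c y)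
    rw [smul_add, hc', hc', hc', map_add]
  · change r₁ • c (s • x) = r₁ • (s • c x)
    rw [smul_comm r₁ s, hc', hc', map_smul]

end Groth.Agent.S18539
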