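import Groth.Statements.S18544
import Mathlib.LinearAlgebra.Matrix.Transvection
import Mathlib.Algebra.MvPolynomial.Funext
import Mathlib.Algebra.Polynomial.Roots
-- import your own Groth.Agent.* helpers here

set_option autoImplicit false
universe u
open CAlg

namespace Groth.Agent.S18544

/-- Let F be an algebraically closed field of characteristic zero, n a natural number, and N a nonzero
polynomial over F in the n² matrix entries whose evaluation on n × n matrices is multiplicative,
N(xy) = N(x)·N(y) for all x, y (a norm form on the matrix algebra M_n(F) over F). Then N is a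
natural power of the determinant: for some m, N(x) = det(x)^m for every matrix x. The published
statement concerns norm forms of any central simple algebra over a subfield; this row is the case of
the full matrix algebra over an algebraically closed field, which is the case its proof treats. -/
theorem result (F : Type u) [Field F] [IsAlgClosed F]
    [CharZero F] (n : ℕ) (N : MvPolynomial (Fin n × Fin n) F) (hN : N ≠ 0)
    (hmul : ∀ x y : Matrix (Fin n) (Fin n) F,
      MvPolynomial.eval (fun ij : Fin n × Fin n => (x * y) ij.1 ij.2) N =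
        MvPolynomial.eval (fun ij : Fin n × Fin n => x ij.1 ij.2) N * MvPolynomial.eval (fun ij : Fin n × Fin n => y ij.1 ij.2) N) :
    ∃ m : ℕ, ∀ x : Matrix (Fin n) (Fin n) F,
      MvPolynomial.eval (fun ij : Fin n × Fin n => x ij.1 ij.2) N = x.det ^ m := by
  classical
  let ev : Matrix (Fin n) (Fin n) F → F := fun x => MvPolynomial.eval (fun ij : Fin n × Fin n => x ij.1 ij.2) N
  have hmul' : ∀ x y, ev (x * y) = ev x * ev y := hmul
  obtain ⟨x₀, hx₀⟩ : ∃ x, ev x ≠ 0 := by
    by_contra h
    push_neg at h
    exact hN (MvPolynomial.funext fun v => by simpa [ev] using h (Matrix.of fun i j => v (i, j)))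
  have h1 : ev 1 = 1 := by
    have := hmul' x₀ 1
    rw [mul_one] at this
    exact (mul_right_eq_self₀.1 this.symm).resolve_right hx₀
  have line : ∀ g : F → Matrix (Fin n) (Fin n) F, (∀ i j, ∃ p : Polynomial F, ∀ t, p.eval t = g t i j) →
      ∃ q : Polynomial F, ∀ t, q.eval t = ev (g t) := by
    intro g hg
    choose p hp using hg
    refine ⟨MvPolynomial.eval₂ Polynomial.C (fun ij => p ij.1 ij.2) N, fun t => ?_⟩
    rw [← Polynomial.coe_evalRingHom, MvPolynomial.eval₂_comp_left]
    simp [ev, MvPolynomial.eval_eq, MvPolynomial.eval₂_eq, hp]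
  have htr : ∀ (i j : Fin n), i ≠ j → ∀ t : F, ev (Matrix.transvection i j t) = 1 := by
    intro i j hij t
    obtain ⟨q, hq⟩ := line (fun t => Matrix.transvection i j t) fun a b =>
      ⟨Polynomial.C ((1 : Matrix (Fin n) (Fin n) F) a b) + Polynomial.C ((Matrix.single i j (1 : F)) a b) * Polynomial.X,
        fun t => by by_cases h : i = a ∧ j = b <;> simp [Matrix.transvection, Matrix.single_apply, h]⟩
    have hsq : q.comp (Polynomial.C 2 * Polynomial.X) = q ^ 2 := Polynomial.funext fun s => by
      simp [Polynomial.eval_comp, hq, sq, ← hmul', Matrix.transvection_mul_transvection_same i j hij, two_mul]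
    have hdeg := congrArg Polynomial.natDegree hsq
    rw [Polynomial.natDegree_comp, Polynomial.natDegree_C_mul_X 2 two_ne_zero, Polynomial.natDegree_pow, mul_one] at hdeg
    have hc := Polynomial.eq_C_of_natDegree_eq_zero (show q.natDegree = 0 by omega)
    have e0 := hq 0
    rw [Matrix.transvection_zero, h1, hc, Polynomial.eval_C] at e0
    rw [← hq, hc, Polynomial.eval_C, e0]
  let u : Fin n → F → Matrix (Fin n) (Fin n) F := fun k t => Matrix.diagonal (Function.update (1 : Fin n → F) k t)
  have hu : ∀ k, ∃ d : ℕ, ∀ t : F, ev (u k t) = t ^ d := by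
    intro k
    obtain ⟨q, hq⟩ := line (u k) fun a b => by
      by_cases hab : a = b ∧ a = k
      · exact ⟨Polynomial.X, fun t => by obtain ⟨rfl, rfl⟩ := hab; simp [u]⟩
      · refine ⟨Polynomial.C (if a = b then 1 else 0), fun t => ?_⟩
        by_cases hab' : a = b
        · subst hab'
          simp [u, Function.update_of_ne (fun h => hab ⟨rfl, h⟩)]
        · simp [u, hab']
    have hq0 : q ≠ 0 := by
      intro h
      have := hq 1
      simp [u, h, h1, Function.update_eq_self_iff.2] at this
    refine ⟨q.natDegree, fun s => ?_⟩
    have hs : q.comp (Polynomial.C s * Polynomial.X) = Polynomial.C (q.eval s) * q := Polynomial.funext fun t => by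
      simp only [Polynomial.eval_comp, Polynomial.eval_mul, Polynomial.eval_C, Polynomial.eval_X, hq, u]
      rw [← hmul', Matrix.diagonal_mul_diagonal]
      congr 2
      funext a
      by_cases ha : a = k
      · subst ha; simp
      · simp [Function.update_of_ne ha]
    have hco := congrArg (fun p : Polynomial F => p.coeff q.natDegree) hs
    simp only [Polynomial.comp_C_mul_X_coeff, Polynomial.coeff_C_mul] at hco
    rw [← hq]
    rw [mul_comm] at hco
    exact (mul_right_cancel₀ (Polynomial.leadingCoeff_ne_zero.2 hq0) hco).symm
  choose d hd using hu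
  have hconj : ∀ (σ : Equiv.Perm (Fin n)) M, ev (M.submatrix σ σ) = ev M := by
    intro σ M
    have e : M.submatrix σ σ = (1 : Matrix (Fin n) (Fin n) F).submatrix σ id * M *
        (1 : Matrix (Fin n) (Fin n) F).submatrix id σ := by
      ext a b; simp [Matrix.mul_apply, Matrix.one_apply]
    have e' : (1 : Matrix (Fin n) (Fin n) F).submatrix σ id * (1 : Matrix (Fin n) (Fin n) F).submatrix id σ = 1 := by
      ext a b; simp [Matrix.mul_apply, Matrix.one_apply]
    rw [e, hmul', hmul', mul_right_comm, ← hmul', e', h1, one_mul]
  obtain ⟨m, hm⟩ : ∃ m, ∀ k, d k = m := by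
    rcases isEmpty_or_nonempty (Fin n) with h | ⟨⟨k₀⟩⟩
    · exact ⟨0, fun k => h.elim k⟩
    refine ⟨d k₀, fun k => ?_⟩
    have hall : ∀ t : F, t ^ d k = t ^ d k₀ := fun t => by
      rw [← hd, ← hd, ← hconj (Equiv.swap k k₀) (u k₀ t)]
      simp only [u, Matrix.submatrix_diagonal_equiv]
      congr 2
      funext a
      rcases eq_or_ne a k with rfl | ha
      · simp
      · rw [Function.update_of_ne ha]
        show (1 : F) = Function.update (1 : Fin n → F) k₀ t (Equiv.swap k k₀ a)
        rw [Function.update_of_ne (fun h => ha (by simpa using congrArg (Equiv.swap k k₀) h))]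
        rfl
    have := congrArg Polynomial.natDegree (Polynomial.funext (p := Polynomial.X ^ d k) (q := Polynomial.X ^ d k₀)
      fun t : F => by simp [hall])
    simpa using this
  have hdiag : ∀ D : Fin n → F, ev (Matrix.diagonal D) = (Matrix.diagonal D).det ^ m := by
    intro D
    suffices ∀ s : Finset (Fin n), ev (Matrix.diagonal fun k => if k ∈ s then D k else 1) = (∏ k ∈ s, D k) ^ m by
      simpa using this Finset.univ
    intro s
    induction s using Finset.induction_on with
    | empty => simp [h1]
    | insert k s hk ih =>
      have e : (Matrix.diagonal fun a => if a ∈ insert k s then D a else 1) =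
          u k (D k) * Matrix.diagonal fun a => if a ∈ s then D a else 1 := by
        rw [Matrix.diagonal_mul_diagonal]
        congr 1
        funext a
        rcases eq_or_ne a k with rfl | ha
        · simp [hk]
        · simp [ha, Function.update_of_ne ha]
      rw [e, hmul', hd, ih, Finset.prod_insert hk, mul_pow, hm]
  have hne : ∀ M : Matrix (Fin n) (Fin n) F, M.det ≠ 0 → ev M = M.det ^ m := fun M hM =>
    Matrix.diagonal_transvection_induction_of_det_ne_zero (fun M => ev M = M.det ^ m) M hM (fun D _ => hdiag D)
      (fun t => by rw [Matrix.TransvectionStruct.det, one_pow]; exact htr t.i t.j t.hij t.c)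
      (fun A B _ _ hA hB => by rw [hmul', Matrix.det_mul, mul_pow, hA, hB])
  let P : MvPolynomial (Fin n × Fin n) F := (Matrix.of fun i j => MvPolynomial.X (i, j)).det
  have hP : ∀ v : Fin n × Fin n → F, MvPolynomial.eval v P = (Matrix.of fun i j => v (i, j)).det := fun v => by
    rw [RingHom.map_det]; congr 1; ext i j; simp
  have hP0 : P ≠ 0 := fun h => by
    have := hP (fun ij => (1 : Matrix (Fin n) (Fin n) F) ij.1 ij.2)
    rw [h] at this
    simp [show (Matrix.of fun i j => (1 : Matrix (Fin n) (Fin n) F) i j) = 1 from rfl] at this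
  have hNP : (N - P ^ m) * P = 0 := MvPolynomial.funext fun v => by
    by_cases h : (Matrix.of fun i j => v (i, j)).det = 0
    · simp [hP, h]
    · have := hne _ h
      simp only [ev, Matrix.of_apply, Prod.mk.eta] at this
      simp [hP, this]
  have hNPm := sub_eq_zero.1 ((mul_eq_zero.1 hNP).resolve_right hP0)
  refine ⟨m, fun x => ?_⟩
  rw [hNPm, map_pow, hP]
  rfl

end Groth.Agent.S18544
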