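import Groth.Statements.S18545
import Mathlib.LinearAlgebra.BilinearForm.Orthogonal

set_option autoImplicit false
universe u
open AbVar

namespace Groth.Agent.S18545

/-- A step in the proof of Tate's isogeny result over finite fields, in linear-algebra form. Let K be a
field and V a K-vector space of finite dimension 2g carrying a nondegenerate alternating bilinear
form e. Let F be a K-subalgebra of End(V) which is isomorphic as a K-algebra to a finite product K ×
⋯ × K and which is spanned over K by a set S of similitudes of e (for each s in S there is a nonzero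
scalar c with e(s x, s y) = c·e(x, y) for all x, y). Let D be a set of endomorphisms of V such that
every F-stable isotropic subspace W of dimension g (a maximal isotropic subspace) is D-stable. Then
every F-stable isotropic subspace of V is D-stable. (In the application V is the rational ℓ-adic
Tate module of an abelian variety over a finite field with the Riemann form of a polarisation, F the
algebra generated by the Galois group, split for the chosen ℓ, and D the commutant of the image of
the endomorphism algebra; the hypothesis on maximal isotropic subspaces is the step obtained from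
the finiteness of isomorphism classes.) -/
theorem result (K : Type u) [Field K]
    (V : Type u) [AddCommGroup V] [Module K V] [FiniteDimensional K V] (g : ℕ) (hV : Module.finrank K V = 2 * g)
    (e : LinearMap.BilinForm K V) (he : e.IsAlt) (hnd : e.Nondegenerate)
    (F : Subalgebra K (Module.End K V)) (r : ℕ) (hF : Nonempty (F ≃ₐ[K] (Fin r → K)))
    (S : Set (Module.End K V)) (hS : Submodule.span K S = Subalgebra.toSubmodule F)
    (hsim : ∀ s ∈ S, ∃ c : K, c ≠ 0 ∧ ∀ x y : V, e (s x) (s y) = c * e x y)
    (D : Set (Module.End K V))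
    (hmax : ∀ W : Submodule K V, (∀ f ∈ F, ∀ w ∈ W, f w ∈ W) → (∀ x ∈ W, ∀ y ∈ W, e x y = 0) →
      Module.finrank K W = g → ∀ d ∈ D, ∀ w ∈ W, d w ∈ W)
    (W : Submodule K V) (hWF : ∀ f ∈ F, ∀ w ∈ W, f w ∈ W) (hWiso : ∀ x ∈ W, ∀ y ∈ W, e x y = 0) :
    ∀ d ∈ D, ∀ w ∈ W, d w ∈ W := by
  classical
  obtain ⟨φ⟩ := hF
  have hsplit : ∀ (Z : Submodule K V), (∀ f ∈ F, ∀ w ∈ Z, f w ∈ Z) → ∀ Y : Submodule K V, ¬ Z ≤ Y →
      ∃ u ∈ Z, u ∉ Y ∧ ∀ f ∈ F, ∃ c : K, f u = c • u := fun Z hZ Y hZY => by
    obtain ⟨z, hz, hzY⟩ := SetLike.not_le_iff_exists.1 hZY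
    let E : Fin r → F := fun i => φ.symm (Pi.single i 1)
    have hsum : ∑ i, E i = 1 := by
      simp only [E, ← map_sum]
      rw [Finset.univ_sum_single, ← map_one φ.symm]
      rfl
    have hz' : z = ∑ i, (E i : Module.End K V) z := by
      have := congrArg (fun x : F => (x : Module.End K V) z) hsum
      simpa [AddSubmonoidClass.coe_finsetSum] using this.symm
    obtain ⟨i, hi⟩ : ∃ i, (E i : Module.End K V) z ∉ Y := by
      by_contra! h
      exact hzY (hz' ▸ Submodule.sum_mem _ fun i _ => h i)
    refine ⟨_, hZ _ (E i).2 z hz, hi, fun f hf => ⟨φ ⟨f, hf⟩ i, ?_⟩⟩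
    have h : (⟨f, hf⟩ : F) * E i = φ ⟨f, hf⟩ i • E i := by
      apply φ.injective
      rw [map_mul, map_smul]
      simp only [E, φ.apply_symm_apply]
      ext j
      by_cases hj : j = i
      · subst hj; simp
      · simp [hj]
    exact congrArg (fun x : F => (x : Module.End K V) z) h
  suffices key : ∀ (n : ℕ) (W : Submodule K V), (∀ f ∈ F, ∀ w ∈ W, f w ∈ W) → (∀ x ∈ W, ∀ y ∈ W, e x y = 0) →
      g - Module.finrank K W = n → ∀ d ∈ D, ∀ w ∈ W, d w ∈ W from key _ W hWF hWiso rfl
  intro n
  induction n using Nat.strong_induction_on with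
  | _ n ih =>
  intro W hWF hWiso hn
  have hrefl : e.IsRefl := he.isRefl
  set O := e.orthogonal W with hO
  have hWO : W ≤ O := fun x hx => LinearMap.BilinForm.mem_orthogonal_iff.2 fun y hy => hWiso y hy x hx
  have hdim := LinearMap.BilinForm.finrank_orthogonal hnd W
  rw [hV, ← hO] at hdim
  have hle : Module.finrank K W ≤ g := by
    have h1 := Submodule.finrank_mono hWO
    have h2 := Submodule.finrank_le W
    omega
  rcases eq_or_lt_of_le hle with heq | hlt
  · exact hmax W hWF hWiso heq
  have hOF : ∀ f ∈ F, ∀ v ∈ O, f v ∈ O := by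
    have hs : ∀ s ∈ S, ∀ v ∈ O, s v ∈ O := fun s hsS v hv => by
      obtain ⟨c, hc, hsc⟩ := hsim s hsS
      have hsF : s ∈ F := by
        have : s ∈ Submodule.span K S := Submodule.subset_span hsS
        rwa [hS] at this
      have hinj : Function.Injective s := (injective_iff_map_eq_zero s).2 fun x hx => hnd.1 x fun y => by
        have := hsc x y
        rw [hx, map_zero, LinearMap.zero_apply, eq_comm, mul_eq_zero] at this
        exact this.resolve_left hc
      refine LinearMap.BilinForm.mem_orthogonal_iff.2 fun w hw => ?_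
      obtain ⟨w', hw'⟩ := (LinearMap.injective_iff_surjective.1
        (show Function.Injective (s.restrict (hWF s hsF)) from fun a b h => Subtype.ext (hinj (congrArg Subtype.val h)))) ⟨w, hw⟩
      have : s w' = w := congrArg Subtype.val hw'
      show e w (s v) = 0
      rw [← this, hsc, LinearMap.BilinForm.mem_orthogonal_iff.1 hv w' w'.2, mul_zero]
    intro f hf v hv
    have : f ∈ Submodule.span K S := by rw [hS]; exact hf
    induction this using Submodule.span_induction with
    | mem s hs' => exact hs s hs' v hv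
    | zero => simp
    | add a b _ _ h₁ h₂ => exact O.add_mem (h₁ (by rw [← Subalgebra.mem_toSubmodule, ← hS]; assumption)) (h₂ (by rw [← Subalgebra.mem_toSubmodule, ← hS]; assumption))
    | smul c a _ h₁ => exact O.smul_mem c (h₁ (by rw [← Subalgebra.mem_toSubmodule, ← hS]; assumption))
  have hext : ∀ u ∈ O, (∀ f ∈ F, ∃ c : K, f u = c • u) → u ∉ W → ∀ d ∈ D, ∀ w ∈ W, d w ∈ W ⊔ Submodule.span K {u} := fun u hu hev hnW d hd w hw => by
    refine ih (g - Module.finrank K (W ⊔ Submodule.span K {u} : Submodule K V)) ?_ _ ?_ ?_ rfl d hd w (Submodule.mem_sup_left hw)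
    · have : Module.finrank K W < Module.finrank K (W ⊔ Submodule.span K {u} : Submodule K V) :=
        Submodule.finrank_lt_finrank_of_lt (left_lt_sup.2 fun h => hnW (h (Submodule.mem_span_singleton_self u)))
      omega
    · intro f hf x hx
      obtain ⟨a, ha, b, hb, rfl⟩ := Submodule.mem_sup.1 hx
      obtain ⟨t, rfl⟩ := Submodule.mem_span_singleton.1 hb
      obtain ⟨c, hc⟩ := hev f hf
      rw [map_add, map_smul, hc, smul_smul]
      exact Submodule.add_mem_sup (hWF f hf a ha) (Submodule.smul_mem _ _ (Submodule.mem_span_singleton_self u))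
    · intro x hx y hy
      obtain ⟨a, ha, b, hb, rfl⟩ := Submodule.mem_sup.1 hx
      obtain ⟨t, rfl⟩ := Submodule.mem_span_singleton.1 hb
      obtain ⟨a', ha', b', hb', rfl⟩ := Submodule.mem_sup.1 hy
      obtain ⟨t', rfl⟩ := Submodule.mem_span_singleton.1 hb'
      have h1 : e a u = 0 := LinearMap.BilinForm.mem_orthogonal_iff.1 hu a ha
      have h2 : e u a' = 0 := hrefl _ _ (LinearMap.BilinForm.mem_orthogonal_iff.1 hu a' ha')
      simp [hWiso a ha a' ha', h1, h2, he u]
  obtain ⟨u, hu, huW, hue⟩ := hsplit O hOF W fun h => by have := Submodule.finrank_mono h; omega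
  obtain ⟨u', hu', huW', hue'⟩ := hsplit O hOF (W ⊔ Submodule.span K {u}) fun h => by
    have h1 := Submodule.finrank_mono h
    have h2 : Module.finrank K (W ⊔ Submodule.span K {u} : Submodule K V) ≤ Module.finrank K W + 1 :=
      (Submodule.finrank_add_le_finrank_add_finrank W _).trans (Nat.add_le_add_left ((finrank_span_le_card ({u} : Set V)).trans (by simp)) _)
    omega
  intro d hd w hw
  have h1 := hext u hu hue huW d hd w hw
  have h2 := hext u' hu' hue' (fun h => huW' (Submodule.mem_sup_left h)) d hd w hw
  obtain ⟨a, ha, b, hb, hab⟩ := Submodule.mem_sup.1 h1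
  obtain ⟨a', ha', b', hb', hab'⟩ := Submodule.mem_sup.1 h2
  obtain ⟨t', rfl⟩ := Submodule.mem_span_singleton.1 hb'
  rcases eq_or_ne t' 0 with rfl | ht
  · rw [← hab', zero_smul, add_zero]; exact ha'
  · exfalso
    refine huW' ?_
    have hu2 : u' = t'⁻¹ • ((a - a') + b) := by
      rw [eq_inv_smul_iff₀ ht, eq_sub_iff_add_eq'.2 (hab'.trans hab.symm)]
      abel
    rw [hu2]
    exact Submodule.smul_mem _ _ (Submodule.add_mem_sup (W.sub_mem ha ha') hb)

end Groth.Agent.S18545
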