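import Groth.Statements.S18546
import Mathlib

set_option autoImplicit false
open scoped TensorProduct
universe u v
open GalCoh

namespace Groth.Agent.S18546

/-- Let G be a group acting linearly on a vector space V of dimension 2 over the field 𝔽₂ with two
elements. Then the short exact sequence of G-modules 0 → V → S²V → Λ²V → 0 (v ↦ v·v, x·y ↦ x ∧ y)
splits G-equivariantly. Here, for a vector space V over the field with two elements carrying a
linear action ρ of a group G, write N_a ⊆ V ⊗ V for the span of the tensors v ⊗ v and N_s ⊆ N_a for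
the span of the tensors x ⊗ y + y ⊗ x, so that S²V = (V ⊗ V)/N_s, Λ²V = (V ⊗ V)/N_a and the
surjection S²V → Λ²V, x·y ↦ x ∧ y, is G-equivariant for the diagonal action; a G-equivariant linear
section of this surjection is the same thing as a G-stable subspace W of V ⊗ V with W ∩ N_a = N_s
and W + N_a = V ⊗ V, which is how the splitting is stated. (The source has the absolute Galois group
of a field acting continuously; any group is allowed here.) -/
theorem result (G : Type u) [Group G] (V : Type v)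
    [AddCommGroup V] [Module (ZMod 2) V] (hV : Module.finrank (ZMod 2) V = 2)
    (ρ : Representation (ZMod 2) G V) :
    ∃ W : Submodule (ZMod 2) (V ⊗[ZMod 2] V),
      (∀ g : G, ∀ w ∈ W, ρ.tprod ρ g w ∈ W) ∧
      W ⊓ Submodule.span (ZMod 2) (Set.range fun v : V => v ⊗ₜ[ZMod 2] v) =
        Submodule.span (ZMod 2) (Set.range fun p : V × V => p.1 ⊗ₜ[ZMod 2] p.2 + p.2 ⊗ₜ[ZMod 2] p.1) ∧
      W ⊔ Submodule.span (ZMod 2) (Set.range fun v : V => v ⊗ₜ[ZMod 2] v) = ⊤ := by
  classical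
  haveI : Module.Finite (ZMod 2) V := Module.finite_of_finrank_eq_succ hV
  let b := Module.finBasisOfFinrankEq (ZMod 2) V hV
  let N := Submodule.span (ZMod 2) (Set.range fun v : V => v ⊗ₜ[ZMod 2] v)
  let S := Submodule.span (ZMod 2) (Set.range fun p : V × V => p.1 ⊗ₜ[ZMod 2] p.2 + p.2 ⊗ₜ[ZMod 2] p.1)
  let t : V → V → V ⊗[ZMod 2] V := fun x y => x ⊗ₜ[ZMod 2] y + y ⊗ₜ[ZMod 2] (x + y) + (x + y) ⊗ₜ[ZMod 2] x
  let W := S ⊔ Submodule.span (ZMod 2) {t (b 0) (b 1)}
  have hS : ∀ x y : V, x ⊗ₜ[ZMod 2] y + y ⊗ₜ[ZMod 2] x ∈ S := fun x y => Submodule.subset_span ⟨(x, y), rfl⟩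
  have h2 : ∀ v : V, v + v = 0 := fun v => by
    rw [← two_smul (ZMod 2) v, show (2 : ZMod 2) = 0 from by decide, zero_smul]
  have h2' : ∀ v : V ⊗[ZMod 2] V, v + v = 0 := fun v => by
    rw [← two_smul (ZMod 2) v, show (2 : ZMod 2) = 0 from by decide, zero_smul]
  have hsym : ∀ x y, t x y + t y x ∈ S := fun x y => by
    have : t x y + t y x = (x ⊗ₜ[ZMod 2] y + y ⊗ₜ[ZMod 2] x) + ((x + y) ⊗ₜ[ZMod 2] y + y ⊗ₜ[ZMod 2] (x + y)) + ((x + y) ⊗ₜ[ZMod 2] x + x ⊗ₜ[ZMod 2] (x + y)) := by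
      simp only [t, add_comm y x]; abel
    rw [this]
    exact add_mem (add_mem (hS _ _) (hS _ _)) (hS _ _)
  have hcyc : ∀ x y, t y (x + y) = t x y := fun x y => by
    have : y + (x + y) = x := by rw [add_left_comm, h2, add_zero]
    simp only [t, this]; abel
  have hdec : ∀ v : V, ∃ a c : ZMod 2, v = a • b 0 + c • b 1 := fun v => ⟨b.repr v 0, b.repr v 1, (b.sum_repr v).symm.trans (Fin.sum_univ_two _)⟩
  let B := b.tensorProduct b
  let f : V ⊗[ZMod 2] V →ₗ[ZMod 2] ZMod 2 := B.coord (0, 1) + B.coord (1, 0)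
  have hf : ∀ x y, f (x ⊗ₜ[ZMod 2] y) = b.repr x 0 * b.repr y 1 + b.repr x 1 * b.repr y 0 := fun x y => by
    simp [f, B, Module.Basis.coord_apply, Module.Basis.tensorProduct_repr_tmul_apply, mul_comm]
  have hfN : ∀ z ∈ N, f z = 0 := fun z hz => by
    induction hz using Submodule.span_induction with
    | mem y hy => obtain ⟨v, rfl⟩ := hy; rw [hf, mul_comm, CharTwo.add_self_eq_zero]
    | zero => exact map_zero f
    | add y z _ _ h1 h2 => rw [map_add, h1, h2, add_zero]
    | smul c y _ h1 => rw [map_smul, h1, smul_zero]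
  have hft : f (t (b 0) (b 1)) = 1 := by
    simp [t, map_add, hf, Module.Basis.repr_self]
    decide
  have hSN : S ≤ N := Submodule.span_le.2 (by
    rintro _ ⟨⟨x, y⟩, rfl⟩
    have e : x ⊗ₜ[ZMod 2] y + y ⊗ₜ[ZMod 2] x = (x + y) ⊗ₜ[ZMod 2] (x + y) - x ⊗ₜ[ZMod 2] x - y ⊗ₜ[ZMod 2] y := by
      rw [TensorProduct.add_tmul, TensorProduct.tmul_add, TensorProduct.tmul_add]; abel
    show x ⊗ₜ[ZMod 2] y + y ⊗ₜ[ZMod 2] x ∈ N
    rw [e]
    exact sub_mem (sub_mem (Submodule.subset_span ⟨_, rfl⟩) (Submodule.subset_span ⟨_, rfl⟩)) (Submodule.subset_span ⟨_, rfl⟩))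
  have h01 : t (b 0) (b 1) ∈ W := Submodule.mem_sup_right (Submodule.mem_span_singleton_self _)
  have hswap : ∀ x y, t x y ∈ W → t y x ∈ W := fun x y h => by
    have := sub_mem (Submodule.mem_sup_left (hsym x y) : t x y + t y x ∈ W) h
    simpa using this
  have key : ∀ x y : V, x ≠ 0 → y ≠ 0 → x ≠ y → t x y ∈ W := by
    have h12 : t (b 1) (b 0 + b 1) ∈ W := by rw [hcyc]; exact h01
    have h20 : t (b 0 + b 1) (b 0) ∈ W := by
      have e := hcyc (b 1) (b 0 + b 1)
      rw [show b 1 + (b 0 + b 1) = b 0 by rw [add_left_comm, h2, add_zero]] at e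
      rw [e]; exact h12
    intro x y hx hy hxy
    obtain ⟨a, c, rfl⟩ := hdec x
    obtain ⟨a', c', rfl⟩ := hdec y
    have h01' : ∀ u : ZMod 2, u = 0 ∨ u = 1 := by decide
    rcases h01' a with rfl | rfl <;> rcases h01' c with rfl | rfl <;> rcases h01' a' with rfl | rfl <;>
      rcases h01' c' with rfl | rfl <;> simp only [zero_smul, one_smul, zero_add, add_zero, ne_eq, not_true] at hx hy hxy ⊢ <;>
      first
        | exact h01 | exact hswap _ _ h01 | exact h12 | exact hswap _ _ h12 | exact h20 | exact hswap _ _ h20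
  refine ⟨W, fun g w hw => ?_, le_antisymm (fun z hz => ?_) (le_inf le_sup_left hSN), ?_⟩
  · obtain ⟨s, hs, d, hd, rfl⟩ := Submodule.mem_sup.1 hw
    rw [map_add]
    refine add_mem (Submodule.mem_sup_left ?_) ?_
    · clear hw
      induction hs using Submodule.span_induction with
      | mem y hy =>
        obtain ⟨⟨x, y⟩, rfl⟩ := hy
        simp only [map_add, Representation.tprod_apply, TensorProduct.map_tmul]
        exact hS _ _
      | zero => rw [map_zero]; exact zero_mem _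
      | add y z _ _ h1 h2 => rw [map_add]; exact add_mem h1 h2
      | smul c y _ h1 => rw [map_smul]; exact Submodule.smul_mem _ _ h1
    · obtain ⟨c, rfl⟩ := Submodule.mem_span_singleton.1 hd
      rw [map_smul]
      refine Submodule.smul_mem _ _ ?_
      have hinj : Function.Injective (ρ g) := fun x y h => by
        have := congrArg (ρ g⁻¹) h
        rwa [← Module.End.mul_apply, ← Module.End.mul_apply, ← map_mul, inv_mul_cancel, map_one] at this
      have e : ρ.tprod ρ g (t (b 0) (b 1)) = t (ρ g (b 0)) (ρ g (b 1)) := by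
        simp [t, Representation.tprod_apply]
      rw [e]
      exact key _ _ (fun h => b.ne_zero 0 (hinj (h.trans (map_zero _).symm))) (fun h => b.ne_zero 1 (hinj (h.trans (map_zero _).symm)))
        (fun h => absurd (b.injective (hinj h)) (by decide))
  · obtain ⟨hzW, hzN⟩ := hz
    obtain ⟨s, hs, d, hd, rfl⟩ := Submodule.mem_sup.1 hzW
    obtain ⟨c, rfl⟩ := Submodule.mem_span_singleton.1 hd
    have h := hfN _ hzN
    rw [map_add, hfN _ (hSN hs), zero_add, map_smul, hft, smul_eq_mul, mul_one] at h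
    rw [h, zero_smul, add_zero]
    exact hs
  · show W ⊔ N = ⊤
    have hN : ∀ v : V, v ⊗ₜ[ZMod 2] v ∈ W ⊔ N := fun v => Submodule.mem_sup_right (Submodule.subset_span ⟨v, rfl⟩)
    have hA : b 0 ⊗ₜ[ZMod 2] b 1 ∈ W ⊔ N := by
      have e : b 0 ⊗ₜ[ZMod 2] b 1 = t (b 0) (b 1) - (b 0 ⊗ₜ[ZMod 2] b 0 + b 1 ⊗ₜ[ZMod 2] b 1) - (b 1 ⊗ₜ[ZMod 2] b 0 + b 1 ⊗ₜ[ZMod 2] b 0) := by
        simp only [t, TensorProduct.tmul_add, TensorProduct.add_tmul]; abel
      rw [e, h2', sub_zero]
      exact sub_mem (Submodule.mem_sup_left h01) (add_mem (hN _) (hN _))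
    have hB : b 1 ⊗ₜ[ZMod 2] b 0 ∈ W ⊔ N := by
      simpa using sub_mem (Submodule.mem_sup_left (Submodule.mem_sup_left (hS (b 0) (b 1))) : b 0 ⊗ₜ[ZMod 2] b 1 + b 1 ⊗ₜ[ZMod 2] b 0 ∈ W ⊔ N) hA
    rw [eq_top_iff, ← B.span_eq, Submodule.span_le]
    rintro _ ⟨⟨i, j⟩, rfl⟩
    rw [SetLike.mem_coe, Module.Basis.tensorProduct_apply]
    fin_cases i <;> fin_cases j
    · exact hN _
    · exact hA
    · exact hB
    · exact hN _

end Groth.Agent.S18546
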