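import Groth.Statements.S18548
import Mathlib

set_option autoImplicit false
open scoped TensorProduct
universe u v w
open GalCoh

namespace Groth.Agent.S18548

/-- Let G be a group acting linearly on a vector space V over the field 𝔽₂ with two elements, and
suppose V is a permutation module: G permutes the vectors of some basis of V. Then the short exact
sequence of G-modules 0 → V → S²V → Λ²V → 0 (v ↦ v·v, x·y ↦ x ∧ y) splits G-equivariantly. Here, for
a vector space V over the field with two elements carrying a linear action ρ of a group G, write N_a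
⊆ V ⊗ V for the span of the tensors v ⊗ v and N_s ⊆ N_a for the span of the tensors x ⊗ y + y ⊗ x,
so that S²V = (V ⊗ V)/N_s, Λ²V = (V ⊗ V)/N_a and the surjection S²V → Λ²V, x·y ↦ x ∧ y, is
G-equivariant for the diagonal action; a G-equivariant linear section of this surjection is the same
thing as a G-stable subspace W of V ⊗ V with W ∩ N_a = N_s and W + N_a = V ⊗ V, which is how the
splitting is stated. (The source has the absolute Galois group of a field acting continuously; any
group and any basis index set are allowed here.) -/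
theorem result (G : Type u) [Group G] (V : Type v)
    [AddCommGroup V] [Module (ZMod 2) V] (ρ : Representation (ZMod 2) G V)
    (ι : Type w) (b : Module.Basis ι (ZMod 2) V) (hb : ∀ g : G, ∀ i : ι, ∃ j : ι, ρ g (b i) = b j) :
    ∃ W : Submodule (ZMod 2) (V ⊗[ZMod 2] V),
      (∀ g : G, ∀ w ∈ W, ρ.tprod ρ g w ∈ W) ∧
      W ⊓ Submodule.span (ZMod 2) (Set.range fun v : V => v ⊗ₜ[ZMod 2] v) =
        Submodule.span (ZMod 2) (Set.range fun p : V × V => p.1 ⊗ₜ[ZMod 2] p.2 + p.2 ⊗ₜ[ZMod 2] p.1) ∧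
      W ⊔ Submodule.span (ZMod 2) (Set.range fun v : V => v ⊗ₜ[ZMod 2] v) = ⊤ := by
  classical
  let B := b.tensorProduct b
  let N := Submodule.span (ZMod 2) (Set.range fun v : V => v ⊗ₜ[ZMod 2] v)
  let S := Submodule.span (ZMod 2) (Set.range fun p : V × V => p.1 ⊗ₜ[ZMod 2] p.2 + p.2 ⊗ₜ[ZMod 2] p.1)
  let W := Submodule.span (ZMod 2) (B '' {p | p.1 ≠ p.2})
  let D := Submodule.span (ZMod 2) (B '' {p | p.1 = p.2})
  have hSW : S ≤ W := Submodule.span_le.2 (by
    rintro _ ⟨⟨x, y⟩, rfl⟩
    refine (Module.Basis.mem_span_image B).2 fun p hp he => ?_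
    obtain ⟨i, j⟩ := p
    change i = j at he
    subst he
    refine (Finsupp.mem_support_iff.1 hp) ?_
    simp only [B, map_add, Finsupp.add_apply, Module.Basis.tensorProduct_repr_tmul_apply, smul_eq_mul]
    rw [mul_comm (b.repr y i) (b.repr x i), CharTwo.add_self_eq_zero])
  have hSN : S ≤ N := Submodule.span_le.2 (by
    rintro _ ⟨⟨x, y⟩, rfl⟩
    have e : x ⊗ₜ[ZMod 2] y + y ⊗ₜ[ZMod 2] x = (x + y) ⊗ₜ[ZMod 2] (x + y) - x ⊗ₜ[ZMod 2] x - y ⊗ₜ[ZMod 2] y := by
      rw [TensorProduct.add_tmul, TensorProduct.tmul_add, TensorProduct.tmul_add]; abel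
    show x ⊗ₜ[ZMod 2] y + y ⊗ₜ[ZMod 2] x ∈ N
    rw [e]
    exact sub_mem (sub_mem (Submodule.subset_span ⟨_, rfl⟩) (Submodule.subset_span ⟨_, rfl⟩)) (Submodule.subset_span ⟨_, rfl⟩))
  have hND : N ≤ S ⊔ D := Submodule.span_le.2 (by
    rintro _ ⟨v, rfl⟩
    show v ⊗ₜ[ZMod 2] v ∈ S ⊔ D
    have hv : v ∈ Submodule.span (ZMod 2) (Set.range b) := by rw [b.span_eq]; trivial
    induction hv using Submodule.span_induction with
    | mem y hy =>
      obtain ⟨i, rfl⟩ := hy
      exact Submodule.mem_sup_right (Submodule.subset_span ⟨(i, i), rfl, Module.Basis.tensorProduct_apply b b i i⟩)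
    | zero => rw [TensorProduct.tmul_zero]; exact zero_mem _
    | add y z _ _ h1 h2 =>
      rw [TensorProduct.add_tmul, TensorProduct.tmul_add, TensorProduct.tmul_add,
        show y ⊗ₜ[ZMod 2] y + y ⊗ₜ[ZMod 2] z + (z ⊗ₜ[ZMod 2] y + z ⊗ₜ[ZMod 2] z) =
          (y ⊗ₜ[ZMod 2] y + z ⊗ₜ[ZMod 2] z) + (y ⊗ₜ[ZMod 2] z + z ⊗ₜ[ZMod 2] y) by abel]
      exact add_mem (add_mem h1 h2) (Submodule.mem_sup_left (Submodule.subset_span ⟨(y, z), rfl⟩))
    | smul c y _ h1 =>
      rw [← TensorProduct.smul_tmul', TensorProduct.tmul_smul]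
      exact Submodule.smul_mem _ _ (Submodule.smul_mem _ _ h1))
  refine ⟨W, fun g w hw => ?_, le_antisymm (fun z hz => ?_) (le_inf hSW hSN), ?_⟩
  · choose σ hσ using hb g
    have hinj : Function.Injective σ := fun i j h => b.injective ((by
      have e : ρ g (b i) = ρ g (b j) := by rw [hσ, hσ, h]
      have := congrArg (ρ g⁻¹) e
      rwa [← Module.End.mul_apply, ← Module.End.mul_apply, ← map_mul, inv_mul_cancel, map_one] at this) : b i = b j)
    induction hw using Submodule.span_induction with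
    | mem y hy =>
      obtain ⟨⟨i, j⟩, hij, rfl⟩ := hy
      refine Submodule.subset_span ⟨(σ i, σ j), fun e => hij (hinj e), ?_⟩
      simp [B, Module.Basis.tensorProduct_apply, hσ]
    | zero => rw [map_zero]; exact zero_mem _
    | add y z _ _ h1 h2 => rw [map_add]; exact add_mem h1 h2
    | smul c y _ h1 => rw [map_smul]; exact Submodule.smul_mem _ _ h1
  · obtain ⟨hzW, hzN⟩ := hz
    obtain ⟨s, hs, d, hd, rfl⟩ := Submodule.mem_sup.1 (hND hzN)
    have hdW : d ∈ W := by simpa using sub_mem hzW (hSW hs)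
    have h0 : d = 0 := Submodule.disjoint_def.1 (B.linearIndependent.disjoint_span_image
      (Set.disjoint_left.2 fun p h1 h2 => h1 h2 : Disjoint {p : ι × ι | p.1 ≠ p.2} {p | p.1 = p.2})) d hdW hd
    rw [h0, add_zero]
    exact hs
  · rw [eq_top_iff, ← B.span_eq, Submodule.span_le]
    rintro _ ⟨⟨i, j⟩, rfl⟩
    by_cases h : i = j
    · subst h
      exact Submodule.mem_sup_right (Submodule.subset_span ⟨b i, (Module.Basis.tensorProduct_apply b b i i).symm⟩)
    · exact Submodule.mem_sup_left (Submodule.subset_span ⟨(i, j), h, rfl⟩)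

end Groth.Agent.S18548
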