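import Groth.Statements.S18614
import Mathlib.Topology.Algebra.LinearTopology
import Mathlib.LinearAlgebra.Basis.VectorSpace
import Mathlib.Topology.Algebra.OpenSubgroup

set_option autoImplicit false
universe u v
open LinTop

namespace Groth.Agent.S18614

/-- Let k be a field carrying the discrete topology and M a separated topological k-module with a
k-linear topology (the open k-submodules form a basis of neighbourhoods of zero and M is a
topological additive group). For a closed submodule M₁, the perpendicular of the perpendicular of
M₁, both taken with respect to the pairing of M with its continuous dual (the continuous k-linear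
maps M → k), is M₁ itself: an element killed by every continuous functional vanishing on M₁ belongs
to M₁. -/
theorem result (k : Type u) (M : Type v) [Field k]
    [TopologicalSpace k] [DiscreteTopology k] [AddCommGroup M] [Module k M] [TopologicalSpace M]
    [IsTopologicalAddGroup M] [IsLinearTopology k M] [T2Space M]
    (M₁ : Submodule k M) (hM₁ : IsClosed (M₁ : Set M)) (x : M)
    (hx : ∀ φ : M →L[k] k, (∀ m ∈ M₁, φ m = 0) → φ x = 0) : x ∈ M₁ := by
  by_contra hxM
  have h0 : (fun m => x + m) ⁻¹' (M₁ : Set M)ᶜ ∈ nhds (0 : M) :=
    (continuous_const_add x).continuousAt.preimage_mem_nhds (hM₁.isOpen_compl.mem_nhds (by simpa using hxM))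
  obtain ⟨U, hU, hUs⟩ := (IsLinearTopology.hasBasis_open_submodule k).mem_iff.mp h0
  have hW : x ∉ M₁ ⊔ U := fun h => by
    obtain ⟨a, ha, b, hb, hab⟩ := Submodule.mem_sup.mp h
    exact hUs (U.neg_mem hb) (by rw [← hab]; simpa using ha)
  obtain ⟨φ, hφx, hφ⟩ := Submodule.exists_le_ker_of_notMem hW
  have hcont : Continuous φ := by
    refine continuous_of_continuousAt_zero φ.toAddMonoidHom ?_
    rw [ContinuousAt, map_zero, nhds_discrete k, Filter.tendsto_pure]
    exact Filter.mem_of_superset (hU.mem_nhds U.zero_mem) fun m hm => hφ (Submodule.mem_sup_right hm)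
  exact hφx (hx ⟨φ, hcont⟩ fun m hm => hφ (Submodule.mem_sup_left hm))

end Groth.Agent.S18614
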