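import Groth.Statements.S18615
import Mathlib.Topology.Algebra.LinearTopology
import Mathlib.LinearAlgebra.Basis.VectorSpace
import Mathlib.LinearAlgebra.Isomorphisms
import Mathlib.Topology.Algebra.OpenSubgroup

set_option autoImplicit false
universe u v
open LinTop

namespace Groth.Agent.S18615

/-- Let k be a field carrying the discrete topology and M a separated topological k-module with a
k-linear topology (open k-submodules form a basis of neighbourhoods of zero, M a topological
additive group). For closed submodules M₁ ⊆ M₂ there is a short exact sequence 0 → M₂^⊥ → M₁^⊥ →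
(M₂/M₁)^* → 0 of plain k-modules, where ⊥ denotes the annihilator in the continuous dual of M and *
the continuous dual. Stated here as its one non-formal part, surjectivity on the right: every
continuous functional on M₂ (subspace topology) that vanishes on M₁ is the restriction of a
continuous functional on M vanishing on M₁ (continuous functionals on M₂/M₁ being the continuous
functionals on M₂ that kill M₁). -/
theorem result (k : Type u) (M : Type v) [Field k]
    [TopologicalSpace k] [DiscreteTopology k] [AddCommGroup M] [Module k M] [TopologicalSpace M]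
    [IsTopologicalAddGroup M] [IsLinearTopology k M] [T2Space M]
    (M₁ M₂ : Submodule k M) (h₁₂ : M₁ ≤ M₂) (hM₁ : IsClosed (M₁ : Set M))
    (hM₂ : IsClosed (M₂ : Set M)) (ψ : M₂ →L[k] k)
    (hψ : ∀ m : M₂, (m : M) ∈ M₁ → ψ m = 0) :
    ∃ φ : M →L[k] k, (∀ m ∈ M₁, φ m = 0) ∧ ∀ m : M₂, φ (m : M) = ψ m := by
  have h0 : {m : M₂ | ψ m = 0} ∈ nhds (0 : M₂) :=
    ψ.continuous.continuousAt.preimage_mem_nhds (t := ({0} : Set k)) (by simp [nhds_discrete])
  rw [nhds_subtype, Filter.mem_comap] at h0
  obtain ⟨V, hV, hVs⟩ := h0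
  obtain ⟨U, hU, hUs⟩ := (IsLinearTopology.hasBasis_open_submodule k).mem_iff.mp hV
  let W : Submodule k M := M₁ ⊔ U
  let ι : M₂ →ₗ[k] M ⧸ W := W.mkQ ∘ₗ M₂.subtype
  have hker : LinearMap.ker ι ≤ LinearMap.ker (ψ : M₂ →ₗ[k] k) := by
    intro m hm
    have hmW : (m : M) ∈ W := (Submodule.Quotient.mk_eq_zero W).mp hm
    obtain ⟨a, ha, b, hb, hab⟩ := Submodule.mem_sup.mp hmW
    have hb2 : b ∈ M₂ := by
      have : b = (m : M) - a := by rw [← hab]; abel
      rw [this]; exact M₂.sub_mem m.2 (h₁₂ ha)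
    have hm2 : m = ⟨a, h₁₂ ha⟩ + ⟨b, hb2⟩ := Subtype.ext hab.symm
    have hbz : ψ ⟨b, hb2⟩ = 0 := hVs (hUs hb)
    rw [LinearMap.mem_ker, hm2, map_add]
    simp [hψ _ (show ((⟨a, h₁₂ ha⟩ : M₂) : M) ∈ M₁ from ha), hbz]
  let g : LinearMap.range ι →ₗ[k] k :=
    (Submodule.liftQ _ (ψ : M₂ →ₗ[k] k) hker) ∘ₗ ι.quotKerEquivRange.symm.toLinearMap
  obtain ⟨G, hG⟩ := LinearMap.exists_extend g
  let φ : M →ₗ[k] k := G ∘ₗ W.mkQ
  have hcont : Continuous φ := by
    refine continuous_of_continuousAt_zero φ.toAddMonoidHom ?_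
    rw [ContinuousAt, map_zero, nhds_discrete k, Filter.tendsto_pure]
    refine Filter.mem_of_superset (hU.mem_nhds U.zero_mem) fun m hm => ?_
    change G (W.mkQ m) = 0
    rw [show W.mkQ m = 0 from (Submodule.Quotient.mk_eq_zero W).mpr (Submodule.mem_sup_right hm), map_zero]
  refine ⟨⟨φ, hcont⟩, fun m hm => ?_, fun m => ?_⟩
  · change G (W.mkQ m) = 0
    rw [show W.mkQ m = 0 from (Submodule.Quotient.mk_eq_zero W).mpr (Submodule.mem_sup_left hm), map_zero]
  · change G (ι m) = _
    have h1 := LinearMap.congr_fun hG ⟨ι m, LinearMap.mem_range_self ι m⟩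
    rw [LinearMap.comp_apply, Submodule.subtype_apply] at h1
    rw [h1]
    simp [g]

end Groth.Agent.S18615
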