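import Groth.Statements.S18617
import Groth.Agent.FunFldLib.Tate.Dlog

set_option autoImplicit false
universe u
open LocRes

namespace Groth.Agent.S18617

/-- The published statement is that, for a complete separated linearly topologized commutative algebra K
over a field of characteristic zero, the separated de Rham complex of K tensored with the exterior
algebra on symbols α_1, ..., α_n maps quasi-isomorphically to the separated de Rham complex of the
iterated Laurent series ring K((t_1, ..., t_n)), α_i going to dlog t_i; this row is the case K = k
and n = 1, unpacked: over a field k of characteristic 0, a formal Laurent series f in k((t)) has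
term-by-term derivative zero if and only if it is the constant series on its coefficient of degree
0, and a Laurent series g is the derivative of some Laurent series if and only if its residue (the
coefficient of t⁻¹) vanishes; so H⁰ of the complex k((t)) → k((t)) dt is k and H¹ is the line
spanned by the class of dt/t, on which the residue is 1. -/
theorem result (k : Type u) [Field k] [CharZero k] :
    (∀ f : LaurentSeries k, LocRes.D k f = 0 ↔ f = HahnSeries.C (f.coeff 0)) ∧
      ∀ g : LaurentSeries k, (∃ f : LaurentSeries k, LocRes.D k f = g) ↔ LocRes.res k g = 0 := by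
  refine ⟨fun f => ⟨fun h => HahnSeries.ext (funext fun m => ?_), fun h => ?_⟩, fun g => ⟨?_, fun h => ?_⟩⟩
  · rw [HahnSeries.C_apply, HahnSeries.coeff_single]
    split_ifs with hm
    · rw [hm]
    · have h1 := congrArg (fun f : LaurentSeries k => f.coeff (m - 1)) h
      simp only [LocRes.D_coeff, sub_add_cancel, HahnSeries.coeff_zero, smul_eq_zero] at h1
      exact h1.resolve_left hm
  · rw [h, LocRes.D_apply, LocRes.derivative_C]
  · rintro ⟨f, rfl⟩
    rw [LocRes.res_apply, LocRes.D_coeff]; norm_num
  · rw [LocRes.res_apply] at h
    let f : LaurentSeries k := HahnSeries.ofSuppBddBelow (fun m : ℤ => ((m : k))⁻¹ * g.coeff (m - 1))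
      ⟨g.order, fun m hm => not_lt.1 fun hlt => hm (by
        show ((m : k))⁻¹ * g.coeff (m - 1) = 0
        rw [HahnSeries.coeff_eq_zero_of_lt_order (by omega), mul_zero])⟩
    refine ⟨f, HahnSeries.ext (funext fun m => ?_)⟩
    rw [LocRes.D_coeff]
    show (m + 1) • (((m + 1 : ℤ) : k)⁻¹ * g.coeff (m + 1 - 1)) = g.coeff m
    rw [add_sub_cancel_right, zsmul_eq_mul]
    rcases eq_or_ne m (-1) with rfl | hne
    · simp [h]
    · rw [mul_inv_cancel_left₀ (by exact_mod_cast (show m + 1 ≠ 0 by omega))]

end Groth.Agent.S18617
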