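import Groth.Statements.S18646
import Mathlib.RingTheory.GradedAlgebra.Basic
import Mathlib.RingTheory.FiniteStability
import Mathlib.LinearAlgebra.TensorProduct.Basic
import Mathlib.RingTheory.TensorProduct.Maps
-- import your own Groth.Agent.* helpers here

set_option autoImplicit false
universe u
open scoped TensorProduct
open GrSegre

namespace Groth.Agent.S18646

/-- Let R and S be graded rings defined over a field k. Then their Segre product T = R # S is a
Noetherian ring (hence again a graded ring defined over k). Here a graded ring defined over k is a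
commutative k-algebra of finite type, graded in nonnegative degrees by k-subspaces with degree-zero
part k·1; the Segre product T = R # S = ⊕_n R_n ⊗_k S_n (graded by T_n = R_n ⊗_k S_n) is presented
abstractly as a graded k-algebra T with an injective k-algebra homomorphism ψ : T → R ⊗_k S carrying
T_n onto the k-span of the elementary tensors a ⊗ b with a ∈ R_n, b ∈ S_n, for every n. -/
theorem result (k : Type u) [Field k] (R : Type u) [CommRing R] [Algebra k R] (𝒜 : ℤ → Submodule k R) [GradedAlgebra 𝒜] (hposR : ∀ n : ℤ, n < 0 → 𝒜 n = ⊥) (h0R : 𝒜 0 = Submodule.span k {(1 : R)}) [Algebra.FiniteType k R] (S : Type u) [CommRing S] [Algebra k S] (ℬ : ℤ → Submodule k S) [GradedAlgebra ℬ] (hposS : ∀ n : ℤ, n < 0 → ℬ n = ⊥) (h0S : ℬ 0 = Submodule.span k {(1 : S)}) [Algebra.FiniteType k S] (T : Type u) [CommRing T] [Algebra k T] (𝒯 : ℤ → Submodule k T) [GradedAlgebra 𝒯] (ψ : T →ₐ[k] TensorProduct k R S) (hψ : Function.Injective ψ) (hdegT : ∀ n : ℤ, (𝒯 n).map ψ.toLinearMap = Submodule.span k {x : TensorProduct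 k R S | ∃ a ∈ 𝒜 n, ∃ b ∈ ℬ n, x = a ⊗ₜ[k] b}) : IsNoetherianRing T := by
  classical
  let prS : ℤ → S →ₗ[k] S := fun n => GradedAlgebra.proj ℬ n
  let f : ∀ n : ℤ, 𝒜 n →ₗ[k] (S →ₗ[k] TensorProduct k R S) := fun n =>
    ((TensorProduct.mk k R S).compl₂ (prS n)).comp (𝒜 n).subtype
  let π : TensorProduct k R S →ₗ[k] TensorProduct k R S :=
    TensorProduct.lift ((DirectSum.toModule k ℤ _ f).comp
      (DirectSum.decomposeLinearEquiv 𝒜).toLinearMap)
  have hπ : ∀ (n : ℤ) (a : R), a ∈ 𝒜 n → ∀ b : S, π (a ⊗ₜ[k] b) = a ⊗ₜ[k] prS n b := by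
    intro n a ha b
    simp only [π, TensorProduct.lift.tmul, LinearMap.comp_apply]
    rw [show (DirectSum.decomposeLinearEquiv 𝒜).toLinearMap a = DirectSum.lof k ℤ (fun i => 𝒜 i) n ⟨a, ha⟩
      from DirectSum.decompose_of_mem 𝒜 ha, DirectSum.toModule_lof]
    rfl
  have hπh : ∀ (n j : ℤ) (a : R) (b : S), a ∈ 𝒜 n → b ∈ ℬ j →
      π (a ⊗ₜ[k] b) = if j = n then a ⊗ₜ[k] b else 0 := by
    intro n j a b ha hb
    rw [hπ n a ha]
    simp only [prS, GradedAlgebra.proj_apply]
    split_ifs with h
    · subst h; rw [DirectSum.decompose_of_mem_same ℬ hb]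
    · rw [DirectSum.decompose_of_mem_ne ℬ hb h, TensorProduct.tmul_zero]
  -- reduction to homogeneous tensors
  have hom : ∀ (Q : TensorProduct k R S → Prop), Q 0 → (∀ x y, Q x → Q y → Q (x + y)) →
      (∀ (i j : ℤ) (a : R) (b : S), a ∈ 𝒜 i → b ∈ ℬ j → Q (a ⊗ₜ[k] b)) → ∀ u, Q u := by
    intro Q h0 hadd hgen u
    induction u using TensorProduct.induction_on with
    | zero => exact h0
    | add x y hx hy => exact hadd x y hx hy
    | tmul a b =>
      induction a using DirectSum.Decomposition.inductionOn 𝒜 with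
      | zero => rw [TensorProduct.zero_tmul]; exact h0
      | add a a' h h' => rw [TensorProduct.add_tmul]; exact hadd _ _ h h'
      | homogeneous a =>
        induction b using DirectSum.Decomposition.inductionOn ℬ with
        | zero => rw [TensorProduct.tmul_zero]; exact h0
        | add b b' h h' => rw [TensorProduct.tmul_add]; exact hadd _ _ h h'
        | homogeneous b => exact hgen _ _ _ _ a.2 b.2
  have hT : ∀ (Q : TensorProduct k R S → Prop), Q 0 → (∀ x y, Q x → Q y → Q (x + y)) →
      (∀ (c : k) x, Q x → Q (c • x)) →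
      (∀ (n : ℤ) (a : R) (b : S), a ∈ 𝒜 n → b ∈ ℬ n → Q (a ⊗ₜ[k] b)) → ∀ t, Q (ψ t) := by
    intro Q h0 hadd hsmul hgen t
    induction t using DirectSum.Decomposition.inductionOn 𝒯 with
    | zero => rw [map_zero]; exact h0
    | add a a' h h' => rw [map_add]; exact hadd _ _ h h'
    | homogeneous t =>
      rename_i n
      have : ψ t ∈ (𝒯 n).map ψ.toLinearMap := Submodule.mem_map_of_mem (f := ψ.toLinearMap) t.2
      rw [hdegT] at this
      generalize ψ (t : T) = y at this ⊢
      induction this using Submodule.span_induction with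
      | mem x hx => obtain ⟨a, ha, b, hb, rfl⟩ := hx; exact hgen n a b ha hb
      | zero => exact h0
      | add x y _ _ hx hy => exact hadd x y hx hy
      | smul c x _ hx => exact hsmul c x hx
  have hrange : ∀ u, ∃ t, ψ t = π u := by
    refine hom (fun u => ∃ t, ψ t = π u) ⟨0, by simp⟩ ?_ ?_
    · rintro x y ⟨t, ht⟩ ⟨t', ht'⟩; exact ⟨t + t', by simp [ht, ht']⟩
    intro i j a b ha hb
    rw [hπh i j a b ha hb]
    split_ifs with h
    · subst h
      have : a ⊗ₜ[k] b ∈ (𝒯 j).map ψ.toLinearMap := by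
        rw [hdegT]; exact Submodule.subset_span ⟨a, ha, b, hb, rfl⟩
      obtain ⟨t, -, ht⟩ := this
      exact ⟨t, ht⟩
    · exact ⟨0, map_zero ψ⟩
  have hlin : ∀ t u, π (ψ t * u) = ψ t * π u := by
    intro t
    refine hT (fun x => ∀ u, π (x * u) = x * π u) (fun u => by simp)
      (fun x y hx hy u => by simp [add_mul, hx, hy])
      (fun c x hx u => by simp [hx]) ?_ t
    intro n a b ha hb
    refine hom _ (by simp) (fun x y hx hy => by simp [mul_add, hx, hy]) ?_
    intro i j c d hc hd
    rw [Algebra.TensorProduct.tmul_mul_tmul,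
      hπh (n + i) (n + j) _ _ (SetLike.mul_mem_graded ha hc) (SetLike.mul_mem_graded hb hd),
      hπh i j c d hc hd]
    simp only [add_right_inj]
    split_ifs with h
    · rw [Algebra.TensorProduct.tmul_mul_tmul]
    · rw [mul_zero]
  have hfix : ∀ t, π (ψ t) = ψ t := by
    refine hT (fun x => π x = x) (map_zero π) (fun x y hx hy => by simp [hx, hy])
      (fun c x hx => by simp [hx]) ?_
    intro n a b ha hb
    rw [hπh n n a b ha hb, if_pos rfl]
  haveI : IsNoetherianRing R := Algebra.FiniteType.isNoetherianRing k R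
  haveI : IsNoetherianRing (TensorProduct k R S) := Algebra.FiniteType.isNoetherianRing R _
  rw [isNoetherianRing_iff, isNoetherian_iff']
  have key : ∀ J : Ideal T, (J.map ψ).comap ψ = J := by
    intro J
    refine le_antisymm (fun x hx => ?_) Ideal.le_comap_map
    have : ∀ y ∈ J.map ψ, ∀ u, ∃ t ∈ J, ψ t = π (u * y) := by
      intro y hy
      induction hy using Submodule.span_induction with
      | mem z hz =>
        obtain ⟨j, hj, rfl⟩ := hz
        intro u
        obtain ⟨t, ht⟩ := hrange u
        exact ⟨j * t, J.mul_mem_right _ hj, by rw [map_mul, ht, mul_comm u, hlin]⟩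
      | zero => exact fun u => ⟨0, J.zero_mem, by simp⟩
      | add a b _ _ ha hb =>
        intro u
        obtain ⟨t, ht, e⟩ := ha u
        obtain ⟨t', ht', e'⟩ := hb u
        exact ⟨t + t', add_mem ht ht', by rw [map_add, e, e', mul_add, map_add]⟩
      | smul c a _ ha =>
        intro u
        obtain ⟨t, ht, e⟩ := ha (u * c)
        exact ⟨t, ht, by rw [e, smul_eq_mul, mul_assoc]⟩
    obtain ⟨t, ht, e⟩ := this (ψ x) hx 1
    rw [one_mul, hfix] at e
    exact hψ e ▸ ht
  refine StrictMono.wellFoundedGT (f := fun J : Ideal T => J.map ψ) ?_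
  intro I J hIJ
  refine lt_of_le_of_ne (Ideal.map_mono hIJ.le) fun h => hIJ.ne ?_
  rw [← key I, ← key J]
  exact congrArg _ h

end Groth.Agent.S18646
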