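import Groth.Statements.S18668
import Mathlib
import Groth.Agent.GrSect.Semigroup

set_option autoImplicit false
universe u
open GrSect

namespace Groth.Agent.S18668

/-- Let X be a complete smooth curve of genus g ≥ 1 over an algebraically closed field k, P a closed
point, R = R_{X,P} = ⊕_{n ≥ 0} H^0(X, O_X(nP)) and H = H_{X,P} its Weierstrass semigroup. For any
nonzero t of degree one in R, t is prime in R and the quotient R/tR is isomorphic to k[H], the
semigroup algebra of H. Here the complete smooth curve X over the algebraically closed field k is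
given by its function field K/k (a function field of one variable in which k is algebraically
closed), the closed point P by a place of K/k, g ≥ 1 is the genus, H^0(X, O_X(nP)) = L(nP), and
R_{X,P} = ⊕_{n ≥ 0} L(nP)·T^n is realised as the k-subalgebra of K[T] of polynomials whose
coefficient of T^n lies in L(nP); the Weierstrass semigroup H_{X,P} is the set of n ≥ 0 with ℓ(nP) =
ℓ((n−1)P) + 1. The isomorphism is stated as a k-algebra isomorphism with the semigroup algebra of
the additive submonoid of ℕ generated by H_{X,P} (which is H_{X,P} itself). -/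
theorem result (k : Type u) [Field k] [IsAlgClosed k] (K : Type u) [Field K] [Algebra k K] (hK : FunFld.IsFunctionField k K) (hg : 1 ≤ FunFld.genus k K) (P : FunFld.Place k K) (t : ↥(W4c6gradedringsgw.sectRing (Finsupp.single P 1 : FunFld.Divisor k K))) (a : K) (ha : a ≠ 0) (ht : (t : Polynomial K) = Polynomial.C a * Polynomial.X) : Prime t ∧ Nonempty ((↥(W4c6gradedringsgw.sectRing (Finsupp.single P 1 : FunFld.Divisor k K)) ⧸ Ideal.span {t}) ≃ₐ[k] AddMonoidAlgebra k ↥(AddSubmonoid.closure (W4c6gradedringsgw.poleOrders P))) := by
  classical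
  open Groth.Agent.GrSect in
  have ha1 : a ∈ FunFld.L (nP P 1) := by
    have := t.2 1
    simpa [ht] using this
  rw [Groth.Agent.GrSect.L_one hK hg] at ha1
  obtain ⟨c, rfl⟩ := Groth.Agent.GrSect.L_zero' hK P ha1
  have hc : c ≠ 0 := fun h => ha (by simp [h])
  have hspan : Ideal.span ({t} : Set _) = RingHom.ker (Groth.Agent.GrSect.psi hK P) := by
    rw [Groth.Agent.GrSect.ker_psi, show t = algebraMap k _ c * Groth.Agent.GrSect.tX P from
      Subtype.ext (by rw [ht]; rfl)]
    exact Ideal.span_singleton_mul_left_unit ((IsUnit.mk0 c hc).map _) _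
  have ht0 : t ≠ 0 := fun h => by
    have := congrArg Subtype.val h
    rw [ht] at this
    exact ha (Polynomial.C_eq_zero.1 ((mul_eq_zero.1 this).resolve_right Polynomial.X_ne_zero))
  refine ⟨(Ideal.span_singleton_prime ht0).1 (hspan ▸ RingHom.ker_isPrime _), ?_⟩
  obtain ⟨θ, hθ, hk⟩ := Groth.Agent.GrSect.exists_theta hK P
  exact ⟨(Ideal.quotientEquivAlgOfEq k (hspan.trans hk.symm)).trans
    (Ideal.quotientKerAlgEquivOfSurjective hθ)⟩

end Groth.Agent.S18668
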