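import Groth.Statements.S18672
import Mathlib

set_option autoImplicit false
universe u
open GrLC

namespace Groth.Agent.S18672

/-- Let R be a graded ring defined over a field k = R_0 which is Cohen–Macaulay and generated over k by
R_1 (the standing hypotheses of this section; only generation in degree one is used), q ≥ 1, R' =
R^(q), and a an integer. Then the Veronese submodule [R(a)]^(q) = ⊕_j R_{a+jq} is generated over R'
by its piece R(a)_n = R_{a+n}, where n is the smallest multiple of q with n + a ≥ 0. Here 'graded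
ring defined over a field' means R = ⊕_{n ≥ 0} R_n is Noetherian with R_0 a field, and m = R_+ is
its unique graded maximal ideal. The Veronese subring R^(q) = ⊕_j R_{jq}, regraded by (R^(q))_j =
R_{jq}, is presented abstractly as a ℤ-graded ring R' with an injective ring homomorphism φ : R' → R
carrying R'_j onto R_{jq} for every j. The module [R(a)]^(q) is presented as a graded R'-module M'
with an injective additive map g : M' → R, semilinear over φ, carrying M'_j onto R_{a+jq} for every
j; with n = j₀q, the conclusion is that the R'-span of M'_{j₀} is all of M'. -/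
theorem result (R : Type u) [CommRing R] [LocCoh.IsCohenMacaulayRing R] (𝒜 : ℤ → AddSubgroup R) [GradedRing 𝒜] (hpos : ∀ n : ℤ, n < 0 → 𝒜 n = ⊥) (h0 : IsField (GrLC.deg0 𝒜)) (hstd : Ideal.span (⋃ n ∈ Set.Ioi (0 : ℤ), (𝒜 n : Set R)) = Ideal.span ((𝒜 1 : AddSubgroup R) : Set R)) (q : ℕ) (hq : 0 < q) (R' : Type u) [CommRing R'] (𝒜' : ℤ → AddSubgroup R') [GradedRing 𝒜'] (φ : R' →+* R) (hφ : Function.Injective φ) (hdeg : ∀ j : ℤ, (𝒜' j).map (φ : R' →+ R) = 𝒜 (j * q)) (a : ℤ) (M' : Type u) [AddCommGroup M'] [Module R' M'] (ℳ' : ℤ → AddSubgroup M') [DirectSum.Decomposition ℳ'] [SetLike.GradedSMul 𝒜' ℳ'] (g : M' →ₛₗ[φ] R) (hg : Function.Injective g) (hgdeg : ∀ j : ℤ, (ℳ' j).map (g : M' →+ R) = 𝒜 (a + j * q)) (j₀ : ℤ) (hj₀ : 0 ≤ a + j₀ * q) (hj₀' : a + (j₀ - 1) * q < 0) : Submodule.span R' ((ℳ' j₀ : AddSubgroup M') : Set M') = ⊤ := by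
  classical
  -- degree one generates
  have step : ∀ m : ℕ, ∀ x ∈ 𝒜 ((m : ℤ) + 1),
      x ∈ AddSubgroup.closure (Set.image2 (· * ·) (𝒜 1 : Set R) (𝒜 (m : ℤ) : Set R)) := by
    intro m x hx
    have hxI : x ∈ Ideal.span ((𝒜 1 : AddSubgroup R) : Set R) := by
      rw [← hstd]
      exact Ideal.subset_span (Set.mem_biUnion (x := ((m : ℤ) + 1)) (Set.mem_Ioi.2 (by omega)) hx)
    suffices h : ∀ y ∈ Ideal.span ((𝒜 1 : AddSubgroup R) : Set R),
        (DirectSum.decompose 𝒜 y ((m : ℤ) + 1) : R) ∈
          AddSubgroup.closure (Set.image2 (· * ·) (𝒜 1 : Set R) (𝒜 (m : ℤ) : Set R)) by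
      simpa [DirectSum.decompose_of_mem_same 𝒜 hx] using h x hxI
    intro y hy
    induction hy using Submodule.span_induction with
    | mem s hs =>
      by_cases hm : (m : ℤ) + 1 = 1
      · rw [hm, DirectSum.decompose_of_mem_same 𝒜 hs]
        exact AddSubgroup.subset_closure ⟨s, hs, 1, by
          have : (m : ℤ) = 0 := by omega
          rw [this]; exact SetLike.one_mem_graded 𝒜, mul_one s⟩
      · rw [DirectSum.decompose_of_mem_ne 𝒜 hs (Ne.symm hm)]
        exact zero_mem _
    | zero => simp
    | add u v _ _ hu hv =>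
      rw [DirectSum.decompose_add, DirectSum.add_apply]
      exact add_mem hu hv
    | smul r s hs ihs =>
      clear ihs
      rw [smul_eq_mul]
      induction hs using Submodule.span_induction generalizing r with
      | mem s hs =>
        rw [mul_comm r s, add_comm (m : ℤ) 1, DirectSum.coe_decompose_mul_add_of_left_mem 𝒜 hs]
        exact AddSubgroup.subset_closure ⟨s, hs, _, (DirectSum.decompose 𝒜 r (m : ℤ)).2, rfl⟩
      | zero => simp
      | add u v _ _ hu hv =>
        rw [mul_add, DirectSum.decompose_add, DirectSum.add_apply]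
        exact add_mem (hu r) (hv r)
      | smul t u _ hu =>
        rw [smul_eq_mul, ← mul_assoc]
        exact hu (r * t)
  have split : ∀ i j : ℕ, ∀ x ∈ 𝒜 ((i : ℤ) + j),
      x ∈ AddSubgroup.closure (Set.image2 (· * ·) (𝒜 (i : ℤ) : Set R) (𝒜 (j : ℤ) : Set R)) := by
    intro i
    induction i with
    | zero =>
      intro j x hx
      exact AddSubgroup.subset_closure ⟨1, SetLike.one_mem_graded 𝒜, x, by simpa using hx, one_mul x⟩
    | succ i ih =>
      intro j x hx
      have h1 := step (i + j) x (by convert hx using 2; push_cast; ring)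
      refine (AddSubgroup.closure_le _).2 ?_ h1
      rintro _ ⟨s, hs, y, hy, rfl⟩
      have h2 := ih j y (by simpa using hy)
      clear hy
      induction h2 using AddSubgroup.closure_induction with
      | mem z hz =>
        obtain ⟨u, hu, v, hv, rfl⟩ := hz
        refine AddSubgroup.subset_closure ⟨s * u, ?_, v, hv, mul_assoc s u v⟩
        have : s * u ∈ 𝒜 (1 + (i : ℤ)) := SetLike.mul_mem_graded hs hu
        simpa [add_comm] using this
      | zero => simp
      | add u v _ _ hu hv =>
        simp only [SetLike.mem_coe, mul_add] at *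
        exact add_mem hu hv
      | neg u _ hu =>
        simp only [SetLike.mem_coe, mul_neg] at *
        exact neg_mem hu
  have key : ∀ n : ℕ, ∀ x ∈ ℳ' (j₀ + n), x ∈ Submodule.span R' ((ℳ' j₀ : AddSubgroup M') : Set M') := by
    intro n
    induction n with
    | zero => intro x hx; exact Submodule.subset_span (by simpa using hx)
    | succ n ih =>
      intro x hx
      obtain ⟨c, hc⟩ := Int.eq_ofNat_of_zero_le hj₀
      have hgx : g x ∈ 𝒜 ((q : ℤ) + ((c + n * q : ℕ) : ℤ)) := by
        have h : g x ∈ (ℳ' (j₀ + ((n + 1 : ℕ) : ℤ))).map (g : M' →+ R) := ⟨x, hx, rfl⟩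
        rw [hgdeg] at h
        convert h using 2
        push_cast
        linear_combination -hc
      have h1 := split q _ (g x) hgx
      suffices hs : ∀ y ∈ AddSubgroup.closure (Set.image2 (· * ·) (𝒜 (q : ℤ) : Set R)
          (𝒜 ((c + n * q : ℕ) : ℤ) : Set R)),
          ∃ z ∈ Submodule.span R' ((ℳ' j₀ : AddSubgroup M') : Set M'), g z = y by
        obtain ⟨z, hz, hzx⟩ := hs _ h1
        exact hg hzx ▸ hz
      intro y hy
      induction hy using AddSubgroup.closure_induction with
      | mem z hz =>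
        obtain ⟨u, hu, v, hv, rfl⟩ := hz
        have hu' : u ∈ (𝒜' 1).map (φ : R' →+ R) := by rw [hdeg 1, one_mul]; exact hu
        obtain ⟨r, _, rfl⟩ := hu'
        have hv' : v ∈ (ℳ' (j₀ + n)).map (g : M' →+ R) := by
          have e : a + (j₀ + (n : ℤ)) * q = ((c + n * q : ℕ) : ℤ) := by
            push_cast
            linear_combination hc
          rw [hgdeg, e]
          exact hv
        obtain ⟨w, hw, rfl⟩ := hv'
        exact ⟨r • w, Submodule.smul_mem _ _ (ih w hw), by simp⟩
      | zero => exact ⟨0, zero_mem _, map_zero g⟩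
      | add u v _ _ hu hv =>
        obtain ⟨a', ha', rfl⟩ := hu
        obtain ⟨b', hb', rfl⟩ := hv
        exact ⟨a' + b', add_mem ha' hb', map_add g _ _⟩
      | neg u _ hu =>
        obtain ⟨a', ha', rfl⟩ := hu
        exact ⟨-a', neg_mem ha', map_neg g _⟩
  rw [eq_top_iff]
  intro x _
  rw [← DirectSum.sum_support_decompose ℳ' x]
  refine Submodule.sum_mem _ fun j _ => ?_
  by_cases hj : j₀ ≤ j
  · obtain ⟨n, hn⟩ := Int.eq_ofNat_of_zero_le (show 0 ≤ j - j₀ by omega)
    refine key n _ ?_
    rw [show j₀ + (n : ℤ) = j by omega]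
    exact (DirectSum.decompose ℳ' x j).2
  · have hlt : a + j * q < 0 := by
      have : j * (q : ℤ) ≤ (j₀ - 1) * q := mul_le_mul_of_nonneg_right (by omega) (by positivity)
      omega
    have h : g (DirectSum.decompose ℳ' x j : M') ∈ (ℳ' j).map (g : M' →+ R) :=
      ⟨_, (DirectSum.decompose ℳ' x j).2, rfl⟩
    rw [hgdeg, hpos _ hlt, AddSubgroup.mem_bot] at h
    rw [hg (h.trans (map_zero g).symm)]
    exact zero_mem _

end Groth.Agent.S18672
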