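import Groth.Statements.S18702
import Groth.Agent.IdealDepth.Kernel
import Groth.Agent.IdealDepth.Serre

set_option autoImplicit false
universe u
open QGor

namespace Groth.Agent.S18702

/-- Affine form, for an arbitrary Noetherian ring A (not assumed to be a domain). Let I be an ideal and
G a finite reflexive A-module (the evaluation map into the double dual is bijective). For k = 1 and
k = 2: if depth_I A ≥ k then depth_I G ≥ k; and if A satisfies (S_k) then G satisfies (S_k). -/
theorem result (A : Type u) [CommRing A] [IsNoetherianRing A] (I : Ideal A)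
    (G : Type u) [AddCommGroup G] [Module A G] [Module.Finite A G] [Module.IsReflexive A G] :
    (1 ≤ LocCoh.idealDepth I A → 1 ≤ LocCoh.idealDepth I G) ∧
    (2 ≤ LocCoh.idealDepth I A → 2 ≤ LocCoh.idealDepth I G) ∧
    (LocCoh.HasSk 1 A A → LocCoh.HasSk 1 A G) ∧ (LocCoh.HasSk 2 A A → LocCoh.HasSk 2 A G) := by
  have key : ∀ k : ℕ, k ≤ 2 → LocCoh.HasSk k A A → LocCoh.HasSk k A G := by
    intro k hk h p _
    have hdim : Module.supportDim (Localization.AtPrime p) (LocalizedModule p.primeCompl G) ≤
        ringKrullDim (Localization.AtPrime p) := Module.supportDim_le_ringKrullDim _ _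
    have hA := (IdealDepth.Serre.hasSk_self_iff A k).1 h p
    rw [IsLocalization.AtPrime.ringKrullDim_eq_height p (Localization.AtPrime p)] at hdim
    generalize Module.supportDim (Localization.AtPrime p) (LocalizedModule p.primeCompl G) = d at hdim
    cases d with
    | bot => rw [min_eq_right bot_le]; exact bot_le
    | coe d =>
      rw [WithBot.coe_le_coe] at hdim
      rw [show ((k : ℕ) : WithBot ℕ∞) = ((k : ℕ∞) : WithBot ℕ∞) from rfl, ← WithBot.coe_min, WithBot.coe_le_coe]
      refine ENat.forall_natCast_le_iff_le.1 fun j hj => ?_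
      rw [le_min_iff] at hj
      exact IdealDepth.le_depth_localization_of_reflexive ((Nat.cast_le.1 hj.1).trans hk) G p
        (le_trans (le_min hj.1 (hj.2.trans hdim)) hA)
  refine ⟨fun h => ?_, fun h => ?_, key 1 (by omega), key 2 (le_refl 2)⟩
  · exact_mod_cast IdealDepth.le_of_reflexive (k := 1) I (by omega) G (by exact_mod_cast h)
  · exact_mod_cast IdealDepth.le_of_reflexive (k := 2) I (le_refl 2) G (by exact_mod_cast h)

end Groth.Agent.S18702
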