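import Groth.Statements.S18790
import Mathlib

set_option autoImplicit false
universe u v w
open TorusGr

namespace Groth.Agent.S18790

/-- Let `A` be a commutative algebra over a field `k`, graded by an additive commutative group `M` (for
`M` the character group of a split torus `T`, a `T`-action on `Spec A`), let `J` be the ideal
generated by the homogeneous elements of non-zero degree (its zero locus is the fixed-point
subscheme) and let `m ⊇ J` be a maximal ideal with residue field `k` (a fixed rational point) at
which the fixed-point subscheme is the reduced point: `J` and `m` agree after localizing at `m`.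
Then the cotangent space `m/m²` has no part of weight zero: every degree-zero element of `m` lies in
`m²`. (The published statement has `M ≅ ℤ^r`, a split torus, and phrases the conclusion as the
non-vanishing of the weights of a semi-invariant basis of `m/m²`; here `M` is any additive
commutative group, i.e. any diagonalizable group.) -/
theorem result
    {k : Type u} [Field k] {M : Type v} [AddCommGroup M] [DecidableEq M]
    {A : Type w} [CommRing A] [Algebra k A] (𝒜 : M → Submodule k A) [GradedAlgebra 𝒜]
    (m : Ideal A) [m.IsMaximal] (hrat : Function.Surjective (algebraMap k (A ⧸ m)))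
    (hfix : ∀ i : M, i ≠ 0 → ∀ a ∈ 𝒜 i, a ∈ m)
    (hred : ∀ a ∈ m, ∃ s ∉ m, s * a ∈ Ideal.span {b : A | ∃ i : M, i ≠ 0 ∧ b ∈ 𝒜 i})
    {f : A} (hf0 : f ∈ 𝒜 0) (hfm : f ∈ m) : f ∈ m ^ 2 := by
  classical
  let p : A →+ A := GradedRing.proj 𝒜 0
  have hp : ∀ x : A, p x = (DirectSum.decompose 𝒜 x 0 : A) := fun x => rfl
  have hgen : ∀ x ∈ Ideal.span {b : A | ∃ i : M, i ≠ 0 ∧ b ∈ 𝒜 i}, ∀ r : A, p (r * x) ∈ m ^ 2 := by
    intro x hx
    induction hx using Submodule.span_induction with
    | mem b hb =>
      obtain ⟨j, hj, hb⟩ := hb
      intro r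
      induction r using DirectSum.Decomposition.inductionOn 𝒜 with
      | zero => simp
      | @homogeneous i r =>
        have hrb : (r : A) * b ∈ 𝒜 (i + j) := SetLike.mul_mem_graded r.2 hb
        rw [hp]
        by_cases h : i + j = 0
        · rw [DirectSum.decompose_of_mem_same 𝒜 (h ▸ hrb), pow_two]
          refine Ideal.mul_mem_mul (hfix i (fun hi => hj ?_) _ r.2) (hfix j hj b hb)
          rwa [hi, zero_add] at h
        · rw [DirectSum.decompose_of_mem_ne 𝒜 hrb h]
          exact zero_mem _
      | add r r' hr hr' => rw [add_mul, map_add]; exact add_mem hr hr'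
    | zero => intro r; simp
    | add x y _ _ hx hy => intro r; rw [mul_add, map_add]; exact add_mem (hx r) (hy r)
    | smul a x _ hx => intro r; rw [smul_eq_mul, ← mul_assoc]; exact hx _
  have hsub : ∀ s : A, s - p s ∈ m := by
    intro s
    induction s using DirectSum.Decomposition.inductionOn 𝒜 with
    | zero => simp
    | @homogeneous i r =>
      rw [hp]
      by_cases h : i = 0
      · subst h; rw [DirectSum.decompose_of_mem_same 𝒜 r.2, sub_self]; exact zero_mem _
      · rw [DirectSum.decompose_of_mem_ne 𝒜 r.2 h, sub_zero]; exact hfix i h _ r.2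
    | add r r' hr hr' =>
      have := add_mem hr hr'
      rw [map_add]
      convert this using 1
      ring
  have hmulf : ∀ s : A, p (s * f) = p s * f := by
    intro s
    induction s using DirectSum.Decomposition.inductionOn 𝒜 with
    | zero => simp
    | @homogeneous i r =>
      have hrf : (r : A) * f ∈ 𝒜 i := by simpa using SetLike.mul_mem_graded r.2 hf0
      rw [hp, hp]
      by_cases h : i = 0
      · subst h; rw [DirectSum.decompose_of_mem_same 𝒜 hrf, DirectSum.decompose_of_mem_same 𝒜 r.2]
      · rw [DirectSum.decompose_of_mem_ne 𝒜 hrf h, DirectSum.decompose_of_mem_ne 𝒜 r.2 h,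
          zero_mul]
    | add r r' hr hr' => rw [add_mul, map_add, map_add, hr, hr', add_mul]
  obtain ⟨s, hs, hsf⟩ := hred f hfm
  have h2 : p s * f ∈ m ^ 2 := by
    rw [← hmulf]
    simpa using hgen _ hsf 1
  have hs0 : p s ∉ m := fun h => hs (by simpa using add_mem (hsub s) h)
  obtain ⟨t, u, hu, htu⟩ := Ideal.IsMaximal.exists_inv ‹m.IsMaximal› hs0
  have : f = t * (p s * f) + u * f := by rw [← mul_assoc, ← add_mul, htu, one_mul]
  rw [this]
  exact add_mem (Ideal.mul_mem_left _ _ h2) (by rw [pow_two]; exact Ideal.mul_mem_mul hu hfm)

end Groth.Agent.S18790
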