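import Groth.Statements.S18791
import Mathlib

set_option autoImplicit false
universe u v w x
open TorusGr

namespace Groth.Agent.S18791

/-- Let `φ : B → A` be a degree-preserving homomorphism of commutative algebras over a field `k` graded
by an additive commutative group `M` (for `M` the character group of a split torus, an equivariant
morphism `Spec A → Spec B`), and let `m` be a maximal ideal of `A` containing all homogeneous
elements of non-zero degree (a fixed point). Then the ideal of those `b` whose image is zero in the
local ring `A_m` is homogeneous: the homogeneous (weight) components of such a `b` again die in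
`A_m`. Since `A_m` embeds in its completion when `A` is Noetherian, these are the elements of `B`
that die in the completed local ring. (The published lemma asserts moreover that, for `B = k[Y_1, …,
Y_d]` mapping the `Y_i` to semi-invariant lifts of a basis of `m/m²`, the kernel of the induced
surjection of completions `k[[Y]] → Â_m` is generated by semi-invariant polynomials; generation of
that kernel by polynomials can fail, so only the statement about polynomial elements of the kernel
is recorded here. The published statement has `M ≅ ℤ^r` (a split torus) and `B` the polynomial ring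
on the lifts; here `M` is any additive commutative group and `B` any `M`-graded `k`-algebra.) -/
theorem result
    {k : Type u} [Field k] {M : Type v} [AddCommGroup M] [DecidableEq M]
    {A : Type w} [CommRing A] [Algebra k A] (𝒜 : M → Submodule k A) [GradedAlgebra 𝒜]
    {B : Type x} [CommRing B] [Algebra k B] (ℬ : M → Submodule k B) [GradedAlgebra ℬ]
    (φ : B →ₐ[k] A) (hφ : ∀ i : M, ∀ b ∈ ℬ i, φ b ∈ 𝒜 i)
    (m : Ideal A) [m.IsMaximal] (hfix : ∀ i : M, i ≠ 0 → ∀ a ∈ 𝒜 i, a ∈ m) :
    (RingHom.ker ((algebraMap A (Localization.AtPrime m)).comp (φ : B →+* A))).IsHomogeneous ℬ := by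
  classical
  let L : A →+* Localization.AtPrime m := algebraMap A (Localization.AtPrime m)
  have hcomm : ∀ (b : B) (i : M), φ (DirectSum.decompose ℬ b i : B) =
      (DirectSum.decompose 𝒜 (φ b) i : A) := by
    intro b i
    induction b using DirectSum.Decomposition.inductionOn ℬ with
    | zero => simp
    | @homogeneous j r =>
      by_cases h : j = i
      · subst h
        rw [DirectSum.decompose_of_mem_same ℬ r.2, DirectSum.decompose_of_mem_same 𝒜 (hφ _ _ r.2)]
      · rw [DirectSum.decompose_of_mem_ne ℬ r.2 h,
          DirectSum.decompose_of_mem_ne 𝒜 (hφ _ _ r.2) h, map_zero]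
    | add r r' hr hr' => simp [hr, hr']
  have key : ∀ a : A, L a = 0 → ∀ i : M, L (DirectSum.decompose 𝒜 a i : A) = 0 := by
    intro a ha
    obtain ⟨⟨s, hs⟩, hsa⟩ := (IsLocalization.map_eq_zero_iff m.primeCompl _ a).1 ha
    let T : Set (Localization.AtPrime m) :=
      ↑((DirectSum.decompose 𝒜 a).support.image fun j => L (DirectSum.decompose 𝒜 a j : A))
    let I : Ideal (Localization.AtPrime m) := Ideal.span T
    have hI : ∀ j : M, L (DirectSum.decompose 𝒜 a j : A) ∈ I := by
      intro j
      by_cases h : j ∈ (DirectSum.decompose 𝒜 a).support
      · exact Ideal.subset_span (Finset.mem_coe.2 (Finset.mem_image.2 ⟨j, h, rfl⟩))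
      · rw [DFinsupp.notMem_support_iff.1 h]; simp
    let mm := IsLocalRing.maximalIdeal (Localization.AtPrime m)
    have hmm : ∀ x ∈ m, L x ∈ mm := fun x hx =>
      (IsLocalization.AtPrime.to_map_mem_maximal_iff _ m x).2 hx
    have hdiff : ∀ (r : A) (i : M), L (DirectSum.decompose 𝒜 (r * a) i : A) -
        L (DirectSum.decompose 𝒜 r 0 : A) * L (DirectSum.decompose 𝒜 a i : A) ∈ mm * I := by
      intro r i
      induction r using DirectSum.Decomposition.inductionOn 𝒜 with
      | zero => simp
      | @homogeneous j r =>
        have h1 : (DirectSum.decompose 𝒜 ((r : A) * a) i : A) =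
            (r : A) * (DirectSum.decompose 𝒜 a (i - j) : A) := by
          have := DirectSum.coe_decompose_mul_add_of_left_mem (b := a) (j := i - j) 𝒜 r.2
          rwa [add_sub_cancel] at this
        rw [h1, map_mul]
        by_cases h : j = 0
        · subst h
          rw [DirectSum.decompose_of_mem_same 𝒜 r.2, sub_zero, sub_self]
          exact zero_mem _
        · rw [DirectSum.decompose_of_mem_ne 𝒜 r.2 h, map_zero, zero_mul, sub_zero]
          exact Ideal.mul_mem_mul (hmm _ (hfix j h _ r.2)) (hI _)
      | add r r' hr hr' =>
        have := add_mem hr hr'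
        convert this using 1
        simp [add_mul]
        ring
    have hs0 : IsUnit (L (DirectSum.decompose 𝒜 s 0 : A)) := by
      refine IsLocalization.map_units (Localization.AtPrime m)
        (⟨(DirectSum.decompose 𝒜 s 0 : A), ?_⟩ : m.primeCompl)
      intro h
      apply hs
      have hsub : ∀ x : A, x - (DirectSum.decompose 𝒜 x 0 : A) ∈ m := by
        intro x
        induction x using DirectSum.Decomposition.inductionOn 𝒜 with
        | zero => simp
        | @homogeneous j r =>
          by_cases hj : j = 0
          · subst hj; rw [DirectSum.decompose_of_mem_same 𝒜 r.2, sub_self]; exact zero_mem _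
          · rw [DirectSum.decompose_of_mem_ne 𝒜 r.2 hj, sub_zero]; exact hfix j hj _ r.2
        | add r r' hr hr' =>
          have := add_mem hr hr'
          convert this using 1
          simp
          ring
      show s ∈ m
      simpa using add_mem (hsub s) h
    have hle : I ≤ mm * I := by
      refine Ideal.span_le.2 ?_
      intro x hx
      obtain ⟨i, -, rfl⟩ := Finset.mem_image.1 (Finset.mem_coe.1 hx)
      have h1 := hdiff s i
      rw [show (s : A) * a = 0 from hsa, DirectSum.decompose_zero, DirectSum.zero_apply,
        ZeroMemClass.coe_zero, map_zero, zero_sub, neg_mem_iff] at h1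
      exact (Ideal.unit_mul_mem_iff_mem _ hs0).1 h1
    have hbot : I = ⊥ :=
      Submodule.eq_bot_of_le_smul_of_le_jacobson_bot mm I (Submodule.fg_span (Finset.finite_toSet _))
        hle (IsLocalRing.maximalIdeal_le_jacobson _)
    intro i
    have := hI i
    rw [hbot] at this
    exact (Submodule.mem_bot _).1 this
  intro i b hb
  rw [RingHom.mem_ker] at hb ⊢
  show L (φ (DirectSum.decompose ℬ b i : B)) = 0
  rw [hcomm]
  exact key _ hb i

end Groth.Agent.S18791
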