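import Groth.Statements.S18806
import Groth.Agent.HopfRep.Slice

set_option autoImplicit false
universe u v v' w w' x
open TensorProduct
open HopfRep

namespace Groth.Agent.S18806

open TensorProduct

/-- Let k be a field, i : C → D an injective morphism of k-coalgebras and V a right D-comodule with
coaction ρ : V → V ⊗ D. If ρ(v) lies in the image of V ⊗ C → V ⊗ D (induced by i) for every v, then
V comes from a C-comodule: there is a C-comodule structure on V whose coaction, followed by V ⊗ C →
V ⊗ D, is ρ. (The source states this for left comodules over the coordinate bialgebras of an affine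
monoid scheme over k and of its group of units, assumed open and schematically dense, and uses that
assumption only through the injectivity of the restriction map of coordinate rings; the row is the
right-comodule mirror image for any injective coalgebra map. The converse direction is immediate.) -/
theorem result (k : Type u) [Field k]
    (C : Type v) [AddCommGroup C] [Module k C] [Coalgebra k C]
    (D : Type v') [AddCommGroup D] [Module k D] [Coalgebra k D]
    (i : C →ₗc[k] D) (hi : Function.Injective i)
    (V : Type w) [AddCommGroup V] [Module k V] [HopfRep.Comod k D V]
    (h : ∀ v : V, HopfRep.Comod.coact (k := k) (A := D) v ∈ LinearMap.range ((i : C →ₗ[k] D).lTensor V)) :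
    ∃ c : HopfRep.Comod k C V,
      (i : C →ₗ[k] D).lTensor V ∘ₗ c.coact = HopfRep.Comod.coact (k := k) (A := D) := by
  let i' : C →ₗ[k] D := (i : C →ₗ[k] D)
  have hinj : Function.Injective (i'.lTensor V) := Module.Flat.lTensor_preserves_injective_linearMap _ hi
  let c : V →ₗ[k] V ⊗[k] C := (LinearEquiv.ofInjective (i'.lTensor V) hinj).symm.toLinearMap ∘ₗ
    LinearMap.codRestrict (LinearMap.range (i'.lTensor V)) (HopfRep.Comod.coact (k := k) (A := D)) h
  have hc : ∀ v, i'.lTensor V (c v) = HopfRep.Comod.coact (k := k) (A := D) v := fun v => by
    simp only [c, LinearMap.comp_apply, LinearEquiv.coe_coe]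
    exact congrArg Subtype.val ((LinearEquiv.ofInjective (i'.lTensor V) hinj).apply_symm_apply _)
  refine ⟨{ coact := c, coassoc := ?_, counit_comp := ?_ }, LinearMap.ext hc⟩
  · refine LinearMap.ext fun v => ?_
    have hii : Function.Injective ((TensorProduct.map i' i').lTensor V) := by
      refine Module.Flat.lTensor_preserves_injective_linearMap _ ?_
      rw [← LinearMap.rTensor_comp_lTensor]
      exact (Module.Flat.rTensor_preserves_injective_linearMap i' hi).comp
        (Module.Flat.lTensor_preserves_injective_linearMap i' hi)
    apply hii
    have e1 : ∀ z : V ⊗[k] C, (TensorProduct.map i' i').lTensor V (TensorProduct.assoc k V C C (c.rTensor C z)) =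
        TensorProduct.assoc k V D D ((HopfRep.Comod.coact (k := k) (A := D) (V := V)).rTensor D (i'.lTensor V z)) := by
      intro z
      induction z with
      | zero => simp
      | add p q hp hq => simp only [map_add, hp, hq]
      | tmul p a =>
        simp only [LinearMap.rTensor_tmul, LinearMap.lTensor_tmul, ← hc p]
        generalize c p = w
        induction w with
        | zero => simp
        | add p q hp hq => simp only [map_add, TensorProduct.add_tmul, hp, hq]
        | tmul p b => simp
    simp only [LinearMap.comp_apply, LinearEquiv.coe_coe]
    rw [e1, hc, Groth.Agent.HopfRep.Slice.coassoc_apply, ← hc, ← LinearMap.lTensor_comp_apply,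
      ← LinearMap.lTensor_comp_apply]
    congr 2
    exact (CoalgHomClass.map_comp_comul i).symm
  · refine LinearMap.ext fun v => ?_
    have h1 := LinearMap.congr_fun (HopfRep.Comod.counit_comp (k := k) (A := D) (V := V)) v
    simp only [LinearMap.comp_apply] at h1 ⊢
    rw [← h1, ← hc, ← LinearMap.lTensor_comp_apply]
    congr 2
    exact (CoalgHomClass.counit_comp i).symm

end Groth.Agent.S18806
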