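import Groth.Statements.S18808
import Groth.Agent.HopfRep.Coalg

set_option autoImplicit false
universe u v v' w w' x
open TensorProduct
open HopfRep

namespace Groth.Agent.S18808

/-- Let k be a field, i : C → D an injective morphism of k-coalgebras and V a right D-comodule with
coaction ρ. Call a D-subcomodule K of V admissible when the induced coaction of V/K, namely ρ
followed by the projection V ⊗ D → (V/K) ⊗ D, takes all its values in the image of (V/K) ⊗ C → (V/K)
⊗ D (so that V/K comes from a C-comodule). Then there is a least admissible D-subcomodule of V: V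
has a largest quotient D-comodule coming from C, through which every D-comodule map from V to a
comodule coming from C factors. (The source states this for left comodules over the coordinate
bialgebras of an affine monoid scheme and its open schematically dense group of units, as the
existence of a universal map from a representation of the unit group to a representation of the
monoid; it uses that assumption only through the injectivity of the restriction map.) -/
theorem result (k : Type u) [Field k]
    (C : Type v) [AddCommGroup C] [Module k C] [Coalgebra k C]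
    (D : Type v') [AddCommGroup D] [Module k D] [Coalgebra k D]
    (i : C →ₗc[k] D) (hi : Function.Injective i)
    (V : Type w) [AddCommGroup V] [Module k V] [HopfRep.Comod k D V] :
    ∃ K : Submodule k V, HopfRep.IsSubcomod (k := k) (A := D) K ∧
      (∀ v : V, K.mkQ.rTensor D (HopfRep.Comod.coact (k := k) (A := D) v) ∈
        LinearMap.range ((i : C →ₗ[k] D).lTensor (V ⧸ K))) ∧
      ∀ K' : Submodule k V, HopfRep.IsSubcomod (k := k) (A := D) K' →
        (∀ v : V, K'.mkQ.rTensor D (HopfRep.Comod.coact (k := k) (A := D) v) ∈
          LinearMap.range ((i : C →ₗ[k] D).lTensor (V ⧸ K'))) → K ≤ K' := by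
  open Groth.Agent.HopfRep in
  classical
  let il : C →ₗ[k] D := (i : C →ₗ[k] D)
  let Φ : Set (D →ₗ[k] k) := {f | ∀ c, f (il c) = 0}
  let K : Submodule k V := ⨆ f : Φ, LinearMap.range (Slice.slice k V f.1)
  have hcl : ∀ (f g : D →ₗ[k] k), f ∈ Φ → g ∘ₗ Slice.contr k D f ∘ₗ Coalgebra.comul (R := k) (A := D) ∈ Φ := by
    intro f g hf c
    show g (Slice.contr k D f (Coalgebra.comul (R := k) (il c))) = 0
    rw [show Coalgebra.comul (R := k) (il c) = TensorProduct.map il il (Coalgebra.comul (R := k) c) from
      (LinearMap.congr_fun i.map_comp_comul c).symm]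
    have : ∀ z : C ⊗[k] C, Slice.contr k D f (TensorProduct.map il il z) = 0 := by
      intro z
      induction z with
      | zero => simp
      | tmul p q => simp [hf q]
      | add p q hp hq => rw [map_add, map_add, hp, hq, add_zero]
    rw [this, map_zero]
  refine ⟨K, Slice.isSubcomod_iff.2 fun g x hx => ?_, fun v => ?_, fun K' _ hK' => ?_⟩
  · have : K ≤ K.comap (Slice.slice k V g) := by
      refine iSup_le fun f => ?_
      rintro _ ⟨v, rfl⟩
      show Slice.slice k V g (Slice.slice k V f.1 v) ∈ K
      rw [Slice.slice_slice]
      exact Submodule.mem_iSup_of_mem (⟨_, hcl f.1 g f.2⟩ : Φ) ⟨v, rfl⟩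
    exact this hx
  · have h : K.mkQ.rTensor D (HopfRep.Comod.coact (k := k) (A := D) v) ∈
        LinearMap.range ((LinearMap.range il).subtype.lTensor (V ⧸ K)) := by
      refine (Coalg.mem_range_lTensor_iff _ _).2 fun φ => ?_
      by_contra hn
      obtain ⟨f, hf1, hf2⟩ := Submodule.exists_le_ker_of_notMem hn
      refine hf1 ?_
      rw [Flag.contr_dcontr, ← Slice.map_contr, ← Slice.slice_apply, Submodule.mkQ_apply,
        (Submodule.Quotient.mk_eq_zero K).2 (Submodule.mem_iSup_of_mem
          (⟨f, fun c => hf2 ⟨c, rfl⟩⟩ : Φ) ⟨v, rfl⟩), map_zero]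
    obtain ⟨y, hy⟩ := h
    obtain ⟨z, rfl⟩ := LinearMap.lTensor_surjective (V ⧸ K) il.surjective_rangeRestrict y
    refine ⟨z, ?_⟩
    rw [← hy, ← LinearMap.lTensor_comp_apply]
    rfl
  · refine iSup_le fun f => ?_
    rintro _ ⟨v, rfl⟩
    rw [← Submodule.Quotient.mk_eq_zero, ← Submodule.mkQ_apply, Slice.slice_apply, Slice.map_contr]
    obtain ⟨y, hy⟩ := hK' v
    rw [← hy]
    have : Slice.contr k (V ⧸ K') f.1 ∘ₗ LinearMap.lTensor (V ⧸ K') il = 0 :=
      TensorProduct.ext' fun p q => by simp [f.2 q]
    exact LinearMap.congr_fun this y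

end Groth.Agent.S18808
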