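import Groth.Statements.S18809
import Groth.Agent.HopfRep.Slice

set_option autoImplicit false
universe u v v' w w' x
open TensorProduct
open HopfRep

namespace Groth.Agent.S18809

open TensorProduct

/-- Let k be a field and i : C → D an injective morphism of k-coalgebras. If every right D-comodule is
semisimple (every subcomodule has a complementary subcomodule), then every right C-comodule is
semisimple. (The source states this for the coordinate bialgebras of an affine monoid scheme over k
and of its open schematically dense group of units, through the injectivity of the restriction map,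
with semisimple meaning that every representation is a sum of irreducible subrepresentations;
D-comodules are quantified in the universe of the given C-comodule.) -/
theorem result (k : Type u) [Field k]
    (C : Type v) [AddCommGroup C] [Module k C] [Coalgebra k C]
    (D : Type v') [AddCommGroup D] [Module k D] [Coalgebra k D]
    (i : C →ₗc[k] D) (hi : Function.Injective i)
    (hD : ∀ (W : Type w) [AddCommGroup W] [Module k W] [HopfRep.Comod k D W], HopfRep.IsSemisimpleComod k D W)
    (V : Type w) [AddCommGroup V] [Module k V] [HopfRep.Comod k C V] :
    HopfRep.IsSemisimpleComod k C V := by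
  let i' : C →ₗ[k] D := (i : C →ₗ[k] D)
  obtain ⟨l, hl⟩ := i'.exists_leftInverse_of_injective (LinearMap.ker_eq_bot.2 hi)
  let cD : HopfRep.Comod k D V :=
    { coact := i'.lTensor V ∘ₗ HopfRep.Comod.coact (k := k) (A := C)
      coassoc := by
        refine LinearMap.ext fun v => ?_
        have e1 : ∀ z : V ⊗[k] C, TensorProduct.assoc k V D D
            ((i'.lTensor V ∘ₗ HopfRep.Comod.coact (k := k) (A := C) (V := V)).rTensor D (i'.lTensor V z)) =
            (TensorProduct.map i' i').lTensor V (TensorProduct.assoc k V C C
              ((HopfRep.Comod.coact (k := k) (A := C) (V := V)).rTensor C z)) := by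
          intro z
          induction z with
          | zero => simp
          | add p q hp hq => simp only [map_add, hp, hq]
          | tmul p a =>
            simp only [LinearMap.rTensor_tmul, LinearMap.lTensor_tmul, LinearMap.comp_apply]
            generalize HopfRep.Comod.coact (k := k) (A := C) p = w
            induction w with
            | zero => simp
            | add p q hp hq => simp only [map_add, TensorProduct.add_tmul, hp, hq]
            | tmul p b => simp
        simp only [LinearMap.comp_apply, LinearEquiv.coe_coe]
        rw [e1, Groth.Agent.HopfRep.Slice.coassoc_apply, ← LinearMap.lTensor_comp_apply,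
          ← LinearMap.lTensor_comp_apply]
        congr 2
        exact CoalgHomClass.map_comp_comul i
      counit_comp := by
        rw [← LinearMap.comp_assoc, ← LinearMap.lTensor_comp,
          show Coalgebra.counit (R := k) ∘ₗ i' = Coalgebra.counit (R := k) from CoalgHomClass.counit_comp i]
        exact HopfRep.Comod.counit_comp }
  intro U hU
  letI := cD
  have e : ∀ (f : C →ₗ[k] k) (x : V), Groth.Agent.HopfRep.Slice.slice k V (f ∘ₗ l) x =
      Groth.Agent.HopfRep.Slice.slice k V f x := by
    intro f x
    show TensorProduct.rid k V ((f ∘ₗ l).lTensor V (i'.lTensor V (HopfRep.Comod.coact (k := k) (A := C) x))) = _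
    rw [← LinearMap.lTensor_comp_apply, LinearMap.comp_assoc, hl, LinearMap.comp_id]
    rfl
  have e' : ∀ (f : D →ₗ[k] k) (x : V), Groth.Agent.HopfRep.Slice.slice k V f x =
      Groth.Agent.HopfRep.Slice.slice k V (f ∘ₗ i') x := by
    intro f x
    show TensorProduct.rid k V (f.lTensor V (i'.lTensor V (HopfRep.Comod.coact (k := k) (A := C) x))) = _
    rw [← LinearMap.lTensor_comp_apply]
    rfl
  obtain ⟨U', hU', hc⟩ := hD V U (Groth.Agent.HopfRep.Slice.isSubcomod_iff.2 fun f x hx => by
    rw [e']; exact Groth.Agent.HopfRep.Slice.isSubcomod_iff.1 hU _ x hx)
  exact ⟨U', Groth.Agent.HopfRep.Slice.isSubcomod_iff.2 fun f x hx => by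
    rw [← e]; exact Groth.Agent.HopfRep.Slice.isSubcomod_iff.1 hU' _ x hx, hc⟩

end Groth.Agent.S18809
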