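import Groth.Statements.S18810
import Groth.Agent.HopfRep.Bridge
import Mathlib.RingTheory.SimpleModule.Isotypic

set_option autoImplicit false
universe u v v' w w' x
open TensorProduct
open HopfRep

namespace Groth.Agent.S18810

/-- Let k be a field, C a k-coalgebra, V a right C-comodule and (S_j) a family of simple C-comodules
which are pairwise non-isomorphic (for j ≠ j' no k-linear isomorphism S_j ≃ S_j' commutes with the
coactions). For each j let V[j] be the isotypic component of type S_j: the sum of the images of all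
comodule maps S_j → V (equivalently of all simple subcomodules of V isomorphic to S_j, a nonzero
such map being injective). Then the family j ↦ V[j] is independent, so that the socle of V is the
direct sum of its isotypic components. (The source states this for representations of an affine
monoid scheme over k, i.e. left comodules over its coordinate bialgebra; the row is the
right-comodule form over any coalgebra.) -/
theorem result (k : Type u) [Field k]
    (C : Type v) [AddCommGroup C] [Module k C] [Coalgebra k C]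
    (V : Type w) [AddCommGroup V] [Module k V] [HopfRep.Comod k C V]
    {ι : Type x} (S : ι → Type w') [∀ j, AddCommGroup (S j)] [∀ j, Module k (S j)]
    [∀ j, HopfRep.Comod k C (S j)] (hS : ∀ j, HopfRep.IsSimpleComod k C (S j))
    (hne : ∀ j j', j ≠ j' → ∀ e : S j ≃ₗ[k] S j', ¬ Hoch.IsComodHom C (e : S j →ₗ[k] S j')) :
    iSupIndep (fun j => ⨆ f : {f : S j →ₗ[k] V // Hoch.IsComodHom C f}, LinearMap.range f.1) := by
  letI := Groth.Agent.HopfRep.Bridge.module k C V
  haveI := Groth.Agent.HopfRep.Bridge.scalarTower k C V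
  letI : ∀ j, Module (Groth.Agent.HopfRep.Bridge.Opr k C) (S j) := fun j => Groth.Agent.HopfRep.Bridge.module k C (S j)
  haveI : ∀ j, IsScalarTower k (Groth.Agent.HopfRep.Bridge.Opr k C) (S j) := fun j => Groth.Agent.HopfRep.Bridge.scalarTower k C (S j)
  haveI := fun j => Groth.Agent.HopfRep.Bridge.isSimpleModule_of (hS j)
  let c := fun j => isotypicComponent (Groth.Agent.HopfRep.Bridge.Opr k C) V (S j)
  have hle : ∀ j, (⨆ f : {f : S j →ₗ[k] V // Hoch.IsComodHom C f}, LinearMap.range f.1) ≤ (c j).restrictScalars k := by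
    intro j
    refine iSup_le fun f => ?_
    let f' := Groth.Agent.HopfRep.Bridge.toLin f.1 f.2
    by_cases hf : f' = 0
    · rintro _ ⟨x, rfl⟩
      rw [show f.1 x = 0 from LinearMap.congr_fun hf x]
      exact Submodule.zero_mem _
    · intro x hx
      exact (le_sSup (show LinearMap.range f' ∈ {m : Submodule _ V | Nonempty (m ≃ₗ[Groth.Agent.HopfRep.Bridge.Opr k C] S j)} from
        ⟨(LinearEquiv.ofInjective f' (LinearMap.injective_of_ne_zero hf)).symm⟩)) hx
  intro j
  refine Disjoint.mono (hle j) (iSup₂_mono fun i _ => hle i) ?_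
  rw [show (⨆ (i) (_ : i ≠ j), (c i).restrictScalars k) = (⨆ (i) (_ : i ≠ j), c i).restrictScalars k by
    simp only [Submodule.restrictScalars_iSup]]
  rw [Submodule.disjoint_def]
  intro x hx hx'
  by_contra hx0
  haveI : IsSemisimpleModule (Groth.Agent.HopfRep.Bridge.Opr k C) ↥(c j ⊓ ⨆ (i) (_ : i ≠ j), c i) :=
    IsSemisimpleModule.of_injective (Submodule.inclusion (inf_le_left : c j ⊓ _ ≤ c j)) (Submodule.inclusion_injective _)
  rcases IsSemisimpleModule.eq_bot_or_exists_simple_le (c j ⊓ ⨆ (i) (_ : i ≠ j), c i) (R := Groth.Agent.HopfRep.Bridge.Opr k C)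
    (M := V) with h | ⟨m, hm, hms⟩
  · exact hx0 ((Submodule.mem_bot _).1 (h ▸ ⟨hx, hx'⟩ : x ∈ (⊥ : Submodule (Groth.Agent.HopfRep.Bridge.Opr k C) V)))
  · haveI := hms
    let T : Set (Submodule (Groth.Agent.HopfRep.Bridge.Opr k C) V) :=
      {q | ∃ i, i ≠ j ∧ Nonempty (q ≃ₗ[Groth.Agent.HopfRep.Bridge.Opr k C] S i)}
    have hTs : ∀ q : T, IsSimpleModule (Groth.Agent.HopfRep.Bridge.Opr k C) q := by
      rintro ⟨q, i, -, ⟨e⟩⟩
      exact IsSimpleModule.congr e
    have h2 : m ≤ sSup T := hm.trans (inf_le_right.trans (iSup₂_le fun i hi =>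
      sSup_le_sSup fun q hq => ⟨i, hi, hq⟩))
    haveI := hTs
    obtain ⟨q, ⟨i, hij, ⟨e₁⟩⟩, ⟨e₂⟩⟩ := Submodule.linearEquiv_of_le_sSup m T h2
    have hTj : ∀ q : {q : Submodule (Groth.Agent.HopfRep.Bridge.Opr k C) V | Nonempty (q ≃ₗ[Groth.Agent.HopfRep.Bridge.Opr k C] S j)},
        IsSimpleModule (Groth.Agent.HopfRep.Bridge.Opr k C) q := by
      rintro ⟨q, ⟨e⟩⟩
      exact IsSimpleModule.congr e
    haveI := hTj
    obtain ⟨q', ⟨e₃⟩, ⟨e₄⟩⟩ := Submodule.linearEquiv_of_le_sSup m _ (hm.trans inf_le_left)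
    let E := (e₁.symm.trans e₂.symm).trans (e₄.trans e₃)
    exact hne i j hij (E.restrictScalars k) (Groth.Agent.HopfRep.Bridge.isComodHom_restrictScalars E.toLinearMap)

end Groth.Agent.S18810
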