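import Groth.Statements.S18813
import Groth.Agent.HopfRep.Integral
import Mathlib.RingTheory.HopfAlgebra.TensorProduct

set_option autoImplicit false
universe u
open scoped TensorProduct
open HopfRep

namespace Groth.Agent.S18813

open TensorProduct

/-- Let k be a field, K a field extension of k and A a commutative Hopf algebra over k, the coordinate
ring of an affine group scheme G (no finiteness assumed). Then G is linearly reductive (every
finite-dimensional A-comodule is semisimple) if and only if the base change G_K is (every
finite-dimensional comodule over the K-Hopf algebra K ⊗_k A is semisimple). (The source phrases both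
sides as semisimplicity of all representations, which over a field is equivalent to semisimplicity
of the finite-dimensional ones since every comodule is the union of its finite-dimensional
subcomodules.) -/
theorem result (k K A : Type u) [Field k] [Field K]
    [Algebra k K] [CommRing A] [HopfAlgebra k A] :
    HopfRep.IsLinearlyReductive k A ↔ HopfRep.IsLinearlyReductive K (K ⊗[k] A) := by
  rw [Groth.Agent.HopfRep.Integral.isLinearlyReductive_iff, Groth.Agent.HopfRep.Integral.isLinearlyReductive_iff]
  have hcomul : ∀ (c : K) (a : A), Coalgebra.comul (R := K) (c ⊗ₜ[k] a) =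
      c • TensorProduct.lift ((TensorProduct.mk K (K ⊗[k] A) (K ⊗[k] A)).restrictScalars₁₂ k k |>.compl₁₂
        (TensorProduct.mk k K A 1) (TensorProduct.mk k K A 1)) (Coalgebra.comul (R := k) a) := by
    intro c a
    rw [TensorProduct.comul_tmul]
    generalize Coalgebra.comul (R := k) a = z
    induction z with
    | zero => simp
    | add p q hp hq => simp only [TensorProduct.tmul_add, map_add, smul_add, hp, hq]
    | tmul p q =>
      simp [TensorProduct.smul_tmul']
      rw [show c ⊗ₜ[k] q = c • ((1 : K) ⊗ₜ[k] q) by simp [TensorProduct.smul_tmul'], TensorProduct.tmul_smul,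
        TensorProduct.smul_tmul']
      simp [TensorProduct.smul_tmul']
  refine ⟨fun ⟨β, hβ⟩ => ?_, fun ⟨β, hβ⟩ => ?_⟩
  · let βK : K ⊗[k] A →ₗ[K] K := (TensorProduct.AlgebraTensorModule.rid k K K).toLinearMap ∘ₗ β.baseChange K
    refine ⟨βK, fun x => ?_, ?_⟩
    · induction x with
      | zero => simp
      | add p q hp hq => simp only [map_add, hp, hq, add_smul]
      | tmul c a =>
        have e : βK (c ⊗ₜ[k] a) • (1 : K ⊗[k] A) = c ⊗ₜ[k] (β a • (1 : A)) := by
          simp [βK, Algebra.TensorProduct.one_def, TensorProduct.smul_tmul']
        rw [e, ← hβ.inv a, hcomul, map_smul]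
        generalize Coalgebra.comul (R := k) a = z
        induction z with
        | zero => simp
        | add p q hp hq => simp only [map_add, smul_add, hp, hq, TensorProduct.tmul_add]
        | tmul p q => simp [βK, TensorProduct.smul_tmul']
    · simp [βK, Algebra.TensorProduct.one_def, hβ.one]
  · obtain ⟨τ, hτ⟩ := (LinearMap.toSpanSingleton k K 1).exists_leftInverse_of_injective
      (LinearMap.ker_eq_bot.2 (smul_left_injective k one_ne_zero))
    have hτ1 : τ 1 = 1 := by simpa using LinearMap.congr_fun hτ 1
    let β' : A →ₗ[k] k := τ ∘ₗ β.restrictScalars k ∘ₗ TensorProduct.mk k K A 1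
    refine ⟨β', fun a => ?_, ?_⟩
    · have e := congrArg (fun z => TensorProduct.lid k A (τ.rTensor A z)) (hβ.inv ((1 : K) ⊗ₜ[k] a))
      simp only [hcomul, one_smul] at e
      refine Eq.trans ?_ (e.trans ?_)
      · generalize Coalgebra.comul (R := k) a = z
        induction z with
        | zero => simp
        | add p q hp hq => simp only [map_add, hp, hq]
        | tmul p q => simp [β', TensorProduct.smul_tmul']
      · simp [β', Algebra.TensorProduct.one_def, TensorProduct.smul_tmul']
    · have := hβ.one
      rw [Algebra.TensorProduct.one_def] at this
      simp [β', this, hτ1]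

end Groth.Agent.S18813
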