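import Groth.Statements.S18814
import Groth.Agent.HopfRep.Bridge

set_option autoImplicit false
universe u v v' w w'
open TensorProduct
open HopfRep

namespace Groth.Agent.S18814

open TensorProduct

/-- Let k be a field, C and D commutative bialgebras over k (coordinate rings of affine monoid schemes M
and N) and V a k-vector space carrying a right C-comodule structure with coaction ρ_C : V → V ⊗ C
and a right D-comodule structure with coaction ρ_D : V → V ⊗ D which commute: (ρ_C ⊗ id_D) ∘ ρ_D and
(ρ_D ⊗ id_C) ∘ ρ_C agree in V ⊗ C ⊗ D after reassociating and swapping the last two factors (the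
actions of M and N on V commute). Assume V is semisimple as a D-comodule. Then for every simple
D-comodule S the isotypic component of V of type S, the sum of the images of all D-comodule maps S →
V, is a C-subcomodule of V. (The source works with left comodules; this is the right-comodule form.) -/
theorem result (k : Type u) [Field k]
    (C : Type v) [CommRing C] [Bialgebra k C] (D : Type v') [CommRing D] [Bialgebra k D]
    (V : Type w) [AddCommGroup V] [Module k V] [HopfRep.Comod k C V] [HopfRep.Comod k D V]
    (hcomm : (TensorProduct.assoc k V C D).toLinearMap ∘ₗ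
        (HopfRep.Comod.coact (k := k) (A := C) (V := V)).rTensor D ∘ₗ HopfRep.Comod.coact (k := k) (A := D) =
      (TensorProduct.comm k D C).toLinearMap.lTensor V ∘ₗ (TensorProduct.assoc k V D C).toLinearMap ∘ₗ
        (HopfRep.Comod.coact (k := k) (A := D) (V := V)).rTensor C ∘ₗ HopfRep.Comod.coact (k := k) (A := C))
    (hV : HopfRep.IsSemisimpleComod k D V)
    (S : Type w') [AddCommGroup S] [Module k S] [HopfRep.Comod k D S] (hS : HopfRep.IsSimpleComod k D S) :
    HopfRep.IsSubcomod (k := k) (A := C)
      (⨆ f : {f : S →ₗ[k] V // Hoch.IsComodHom D f}, LinearMap.range f.1) := by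
  refine Groth.Agent.HopfRep.Slice.isSubcomod_iff.2 fun g => ?_
  let σ := Groth.Agent.HopfRep.Slice.slice k V g
  have hcom : ∀ (h : D →ₗ[k] k) (v : V), σ (Groth.Agent.HopfRep.Slice.slice k V h v) =
      Groth.Agent.HopfRep.Slice.slice k V h (σ v) := by
    intro h v
    let Λ : V ⊗[k] (C ⊗[k] D) →ₗ[k] V := Groth.Agent.HopfRep.Slice.contr k V
      ((TensorProduct.lid k k).toLinearMap ∘ₗ TensorProduct.map g h)
    have e := congrArg Λ (LinearMap.congr_fun hcomm v)
    simp only [LinearMap.comp_apply, LinearEquiv.coe_coe] at e
    have l1 : ∀ y : V ⊗[k] D, Λ (TensorProduct.assoc k V C D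
        ((HopfRep.Comod.coact (k := k) (A := C) (V := V)).rTensor D y)) = σ (Groth.Agent.HopfRep.Slice.contr k V h y) := by
      intro y
      induction y with
      | zero => simp
      | add p q hp hq => simp only [map_add, hp, hq]
      | tmul p d =>
        rw [LinearMap.rTensor_tmul, Groth.Agent.HopfRep.Slice.contr_tmul, map_smul,
          show σ p = Groth.Agent.HopfRep.Slice.contr k V g (HopfRep.Comod.coact (k := k) (A := C) p) from rfl]
        generalize HopfRep.Comod.coact (k := k) (A := C) p = z
        induction z with
        | zero => simp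
        | add p q hp hq => simp only [map_add, TensorProduct.add_tmul, smul_add, hp, hq]
        | tmul p c => simp [Λ, smul_smul, mul_comm]
    have l2 : ∀ y : V ⊗[k] C, Λ ((TensorProduct.comm k D C).toLinearMap.lTensor V (TensorProduct.assoc k V D C
        ((HopfRep.Comod.coact (k := k) (A := D) (V := V)).rTensor C y))) =
        Groth.Agent.HopfRep.Slice.slice k V h (Groth.Agent.HopfRep.Slice.contr k V g y) := by
      intro y
      induction y with
      | zero => simp
      | add p q hp hq => simp only [map_add, hp, hq]
      | tmul p c =>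
        rw [LinearMap.rTensor_tmul, Groth.Agent.HopfRep.Slice.contr_tmul, map_smul,
          Groth.Agent.HopfRep.Slice.slice_apply]
        generalize HopfRep.Comod.coact (k := k) (A := D) p = z
        induction z with
        | zero => simp
        | add p q hp hq => simp only [map_add, TensorProduct.add_tmul, smul_add, hp, hq]
        | tmul p d => simp [Λ, smul_smul, mul_comm]
    rw [l1, l2] at e
    exact e
  have hσ : Hoch.IsComodHom D σ := Groth.Agent.HopfRep.Slice.isComodHom_of_slice hcom
  intro x hx
  have hmap : (⨆ f : {f : S →ₗ[k] V // Hoch.IsComodHom D f}, LinearMap.range f.1).map σ ≤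
      ⨆ f : {f : S →ₗ[k] V // Hoch.IsComodHom D f}, LinearMap.range f.1 := by
    rw [Submodule.map_iSup]
    refine iSup_le fun f => ?_
    rw [← LinearMap.range_comp]
    have hf : Hoch.IsComodHom D (σ ∘ₗ f.1) := Groth.Agent.HopfRep.Slice.isComodHom_of_slice fun h v => by
      simp [Groth.Agent.HopfRep.Slice.map_slice f.2, Groth.Agent.HopfRep.Slice.map_slice hσ]
    exact le_iSup (fun f : {f : S →ₗ[k] V // Hoch.IsComodHom D f} => LinearMap.range f.1) ⟨_, hf⟩
  exact hmap ⟨x, hx, rfl⟩

end Groth.Agent.S18814
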