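import Groth.Statements.S18819
import Groth.Agent.HopfRep.Bridge
import Mathlib.RingTheory.SimpleModule.Isotypic

set_option autoImplicit false
universe u v w w'
open TensorProduct
open HopfRep

namespace Groth.Agent.S18819

/-- Let k be a field, C a k-coalgebra and V a right C-comodule which is the sum of finitely many simple
subcomodules, given as the images of comodule maps g_i : K_i → V (i < n) from simple comodules K_i.
If S is a simple comodule and f : S → V a nonzero comodule map (so that its image is a simple
subcomodule of V), then S is isomorphic as a comodule to some K_i: there is a k-linear isomorphism S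
≃ K_i commuting with the coactions. (The source states this for representations of an affine monoid
scheme over k with the subrepresentations given as subspaces; here the simple subcomodules are
presented as images of maps from simple comodules.) -/
theorem result (k : Type u) [Field k]
    (C : Type v) [AddCommGroup C] [Module k C] [Coalgebra k C]
    (V : Type w) [AddCommGroup V] [Module k V] [HopfRep.Comod k C V]
    {n : ℕ} (K : Fin n → Type w') [∀ i, AddCommGroup (K i)] [∀ i, Module k (K i)] [∀ i, HopfRep.Comod k C (K i)]
    (hK : ∀ i, HopfRep.IsSimpleComod k C (K i)) (g : ∀ i, K i →ₗ[k] V) (hg : ∀ i, Hoch.IsComodHom C (g i))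
    (hsum : (⨆ i, LinearMap.range (g i)) = ⊤)
    (S : Type w') [AddCommGroup S] [Module k S] [HopfRep.Comod k C S] (hS : HopfRep.IsSimpleComod k C S)
    (f : S →ₗ[k] V) (hf : Hoch.IsComodHom C f) (hf0 : f ≠ 0) :
    ∃ (i : Fin n) (e : S ≃ₗ[k] K i), Hoch.IsComodHom C (e : S →ₗ[k] K i) := by
  letI := Groth.Agent.HopfRep.Bridge.module k C V
  haveI := Groth.Agent.HopfRep.Bridge.scalarTower k C V
  letI : ∀ i, Module (Groth.Agent.HopfRep.Bridge.Opr k C) (K i) := fun i => Groth.Agent.HopfRep.Bridge.module k C (K i)
  haveI : ∀ i, IsScalarTower k (Groth.Agent.HopfRep.Bridge.Opr k C) (K i) := fun i => Groth.Agent.HopfRep.Bridge.scalarTower k C (K i)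
  letI := Groth.Agent.HopfRep.Bridge.module k C S
  haveI := Groth.Agent.HopfRep.Bridge.scalarTower k C S
  haveI := Groth.Agent.HopfRep.Bridge.isSimpleModule_of hS
  haveI := fun i => Groth.Agent.HopfRep.Bridge.isSimpleModule_of (hK i)
  let f' := Groth.Agent.HopfRep.Bridge.toLin f hf
  let g' := fun i => Groth.Agent.HopfRep.Bridge.toLin (g i) (hg i)
  have hinj : Function.Injective f' := LinearMap.injective_of_ne_zero fun h =>
    hf0 (LinearMap.ext fun x => (LinearMap.congr_fun h x :))
  let eS := LinearEquiv.ofInjective f' hinj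
  haveI : IsSimpleModule (Groth.Agent.HopfRep.Bridge.Opr k C) (LinearMap.range f') := IsSimpleModule.congr eS.symm
  let s : Set (Submodule (Groth.Agent.HopfRep.Bridge.Opr k C) V) := {m | ∃ i, g' i ≠ 0 ∧ LinearMap.range (g' i) = m}
  have hsimp : ∀ m : s, IsSimpleModule (Groth.Agent.HopfRep.Bridge.Opr k C) m := by
    rintro ⟨_, i, hi, rfl⟩
    exact IsSimpleModule.congr (LinearEquiv.ofInjective (g' i) (LinearMap.injective_of_ne_zero hi)).symm
  have hs : sSup s = ⊤ := by
    rw [← Submodule.restrictScalars_inj k, Submodule.restrictScalars_top, eq_top_iff, ← hsum]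
    refine iSup_le fun i => ?_
    by_cases hi : g' i = 0
    · rintro _ ⟨x, rfl⟩
      rw [show g i x = 0 from LinearMap.congr_fun hi x]
      exact Submodule.zero_mem _
    · exact fun x hx => SetLike.le_def.1 (le_sSup (show LinearMap.range (g' i) ∈ s from ⟨i, hi, rfl⟩)) hx
  haveI := hsimp
  obtain ⟨m, ⟨i, hi, rfl⟩, ⟨e⟩⟩ := Submodule.linearEquiv_of_sSup_eq_top (LinearMap.range f') s hs
  let E := (eS.trans e).trans (LinearEquiv.ofInjective (g' i) (LinearMap.injective_of_ne_zero hi)).symm
  exact ⟨i, E.restrictScalars k, Groth.Agent.HopfRep.Bridge.isComodHom_restrictScalars E.toLinearMap⟩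

end Groth.Agent.S18819
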