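import Groth.Statements.S18820
import Mathlib

set_option autoImplicit false
universe u
open CategoryTheory MonoidalCategory CartesianMonoidalCategory AlgebraicGeometry
open AlgGrp

namespace Groth.Agent.S18820

/-- Let k be a field, M a k-scheme (in the source a monoid k-scheme) acting on a k-scheme X through a :
M ×_k X → X, and z : Z → X a closed immersion which is surjective (a closed subscheme defined by an
ideal all of whose sections are nilpotent, e.g. the reduction of X), stable under the action: a_Z :
M ×_k Z → Z satisfies (id_M × z) followed by a = a_Z followed by z. For an open subset U of X the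
following are equivalent: (i) U is stable, i.e. a maps M ×_k U into U; (ii) U ∩ Z is stable, i.e.
a_Z maps M ×_k (U ∩ Z) into U ∩ Z. (The monoid axioms of the source play no role and are not
assumed.) -/
theorem result (k : Type u) [Field k]
    (M X Z : Over (Spec (CommRingCat.of k))) (a : M ⊗ X ⟶ X) (aZ : M ⊗ Z ⟶ Z) (z : Z ⟶ X)
    [IsClosedImmersion z.left] [Surjective z.left] (hz : (M ◁ z) ≫ a = aZ ≫ z) (U : X.left.Opens) :
    (CartesianMonoidalCategory.snd M X).left ⁻¹ᵁ U ≤ a.left ⁻¹ᵁ U ↔
      (CartesianMonoidalCategory.snd M Z).left ⁻¹ᵁ (z.left ⁻¹ᵁ U) ≤ aZ.left ⁻¹ᵁ (z.left ⁻¹ᵁ U) := by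
  haveI : Surjective (M ◁ z).left := by
    refine ⟨?_⟩
    rw [← Set.range_eq_univ]
    show Set.range (CategoryTheory.Limits.pullback.map M.hom Z.hom M.hom X.hom (𝟙 _) z.left (𝟙 _) (by simp) (by simp)) = _
    rw [Scheme.Pullback.range_map]
    simp [Set.range_eq_univ.2 z.left.surjective]
  have e1 : (M ◁ z).left ≫ (CartesianMonoidalCategory.snd M X).left = (CartesianMonoidalCategory.snd M Z).left ≫ z.left := by
    rw [← Over.comp_left, ← Over.comp_left, CartesianMonoidalCategory.whiskerLeft_snd]
  have e2 : (M ◁ z).left ≫ a.left = aZ.left ≫ z.left := by rw [← Over.comp_left, ← Over.comp_left, hz]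
  rw [← Scheme.Hom.comp_preimage, ← Scheme.Hom.comp_preimage, ← e1, ← e2, Scheme.Hom.comp_preimage, Scheme.Hom.comp_preimage]
  constructor
  · exact fun h x hx => h hx
  · intro h x hx
    obtain ⟨w, rfl⟩ := (M ◁ z).left.surjective x
    exact h hx

end Groth.Agent.S18820
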