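import Groth.Statements.S18821
import Mathlib

set_option autoImplicit false
universe u
open CategoryTheory MonoidalCategory CartesianMonoidalCategory MonObj AlgebraicGeometry
open AlgGrp

namespace Groth.Agent.S18821

/-- Let k be a commutative ring and M a monoid k-scheme (a monoid object in k-schemes). Then the group
k-functor of units T ↦ M(T)^× is representable by a k-scheme: there are a k-scheme G and a
monomorphism i : G → M such that, for every k-scheme T, a T-valued point of M factors through i if
and only if it is invertible in the monoid M(T). If moreover M is affine then G is affine. -/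
theorem result (k : Type u) [CommRing k]
    (M : Over (Spec (CommRingCat.of k))) [MonObj M] :
    ∃ (G : Over (Spec (CommRingCat.of k))) (i : G ⟶ M), Mono i ∧
      (∀ (T : Over (Spec (CommRingCat.of k))) (m : T ⟶ M), (∃ g : T ⟶ G, g ≫ i = m) ↔ IsUnit m) ∧
      (IsAffine M.left → IsAffine G.left) := by
  let A : M ⊗ M ⟶ M ⊗ M := lift (fst M M * snd M M) (snd M M * fst M M)
  let B : 𝟙_ (Over (Spec (CommRingCat.of k))) ⟶ M ⊗ M := lift 1 1
  let G := CategoryTheory.Limits.pullback A B
  let P : G ⟶ M ⊗ M := CategoryTheory.Limits.pullback.fst A B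
  have hP1 : (P ≫ fst M M) * (P ≫ snd M M) = 1 := by
    have h := congrArg (fun z => z ≫ fst M M) (CategoryTheory.Limits.pullback.condition (f := A) (g := B))
    simpa [A, B, P, MonObj.comp_mul, MonObj.comp_one] using h
  have hP2 : (P ≫ snd M M) * (P ≫ fst M M) = 1 := by
    have h := congrArg (fun z => z ≫ snd M M) (CategoryTheory.Limits.pullback.condition (f := A) (g := B))
    simpa [A, B, P, MonObj.comp_mul, MonObj.comp_one] using h
  refine ⟨G, P ≫ fst M M, ⟨fun {T} g g' h => ?_⟩, fun T m => ⟨?_, ?_⟩, fun hM => ?_⟩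
  · apply CategoryTheory.Limits.pullback.hom_ext
    · apply CartesianMonoidalCategory.hom_ext
      · simpa [P] using h
      · have e : ∀ z : T ⟶ G, (z ≫ P ≫ fst M M) * (z ≫ P ≫ snd M M) = 1 ∧ (z ≫ P ≫ snd M M) * (z ≫ P ≫ fst M M) = 1 := fun z => by
          simp only [← Category.assoc z P, ← MonObj.comp_mul]
          exact ⟨by rw [Category.assoc, MonObj.comp_mul, hP1, MonObj.comp_one], by rw [Category.assoc, MonObj.comp_mul, hP2, MonObj.comp_one]⟩
        have := left_inv_eq_right_inv (e g).2 (by rw [h]; exact (e g').1)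
        simpa [P] using this
    · exact CartesianMonoidalCategory.toUnit_unique _ _
  · rintro ⟨g, rfl⟩
    exact ⟨⟨g ≫ P ≫ fst M M, g ≫ P ≫ snd M M, by rw [← MonObj.comp_mul, hP1, MonObj.comp_one],
      by rw [← MonObj.comp_mul, hP2, MonObj.comp_one]⟩, rfl⟩
  · rintro ⟨u, rfl⟩
    refine ⟨CategoryTheory.Limits.pullback.lift (lift (u : T ⟶ M) ((u⁻¹ : (T ⟶ M)ˣ) : T ⟶ M)) (toUnit T) ?_, ?_⟩
    · apply CartesianMonoidalCategory.hom_ext <;> simp [A, B, MonObj.comp_mul, MonObj.comp_one]
    · rw [CategoryTheory.Limits.pullback.lift_fst_assoc, lift_fst]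
  · haveI := hM
    haveI : IsAffine ((Over.forget (Spec (CommRingCat.of k))).obj (M ⊗ M)) := inferInstanceAs (IsAffine (CategoryTheory.Limits.pullback M.hom M.hom))
    haveI : IsAffine ((Over.forget (Spec (CommRingCat.of k))).obj (𝟙_ (Over (Spec (CommRingCat.of k))))) := inferInstanceAs (IsAffine (Spec (CommRingCat.of k)))
    let e := CategoryTheory.Limits.PreservesPullback.iso (Over.forget (Spec (CommRingCat.of k))) A B
    haveI : IsAffine ((Over.forget (Spec (CommRingCat.of k))).obj G) := IsAffine.of_isIso (f := e.hom)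
    exact this

end Groth.Agent.S18821
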