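import Groth.Statements.S18829
import Groth.Agent.S18813
import Groth.Agent.HopfRep.Integral
import Mathlib.RingTheory.HopfAlgebra.MonoidAlgebra

set_option autoImplicit false
universe u
open scoped TensorProduct
open HopfRep

namespace Groth.Agent.S18829

open TensorProduct

/-- Let k be a field and A a finitely generated commutative Hopf algebra over k, the coordinate ring of
an affine algebraic group T. Suppose T is a torus: for some algebraically closed field extension K
of k the base change K ⊗_k A is isomorphic as a K-bialgebra to the group algebra over K of a free
abelian group ℤ^n (T_K is a split torus of rank n). Then T is linearly reductive in the sense that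
every finite-dimensional A-comodule is semisimple. (The source's definition of a torus asks for such
an isomorphism over every algebraically closed extension; one suffices for the printed argument. The
source's notion of a linearly reductive algebraic group also includes smoothness of T over k, which
this row does not assert.) -/
theorem result (k K A : Type u) [Field k] [Field K]
    [Algebra k K] [IsAlgClosed K] [CommRing A] [HopfAlgebra k A] [Algebra.FiniteType k A] (n : ℕ)
    (e : (K ⊗[k] A) ≃ₐc[K] MonoidAlgebra K (Multiplicative (Fin n → ℤ))) :
    HopfRep.IsLinearlyReductive k A := by
  rw [S18813.result k K A, Groth.Agent.HopfRep.Integral.isLinearlyReductive_iff]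
  let G := MonoidAlgebra K (Multiplicative (Fin n → ℤ))
  let coef : G →ₗ[K] K := Finsupp.lapply 1 ∘ₗ (MonoidAlgebra.coeffLinearEquiv K).toLinearMap
  refine ⟨coef ∘ₗ e.toLinearMap, fun x => ?_, ?_⟩
  · have key : ∀ y : G, Groth.Agent.HopfRep.Slice.contr K G coef (Coalgebra.comul (R := K) y) = coef y • (1 : G) := by
      intro y
      induction y using MonoidAlgebra.induction_linear with
      | zero => simp
      | add f g hf hg => simp only [map_add, hf, hg, add_smul]
      | single g r =>
        have hcoef : ∀ (g : Multiplicative (Fin n → ℤ)) (r : K),
            coef (MonoidAlgebra.single g r) = if g = 1 then r else 0 := fun g r => by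
          show (MonoidAlgebra.single g r).coeff 1 = _
          simp [Finsupp.single_apply]
        erw [MonoidAlgebra.comul_single]
        by_cases hg : g = 1
        · subst hg
          simp [hcoef, MonoidAlgebra.one_def]
          rfl
        · simp [hcoef, hg]
    apply (show Function.Injective e from EquivLike.injective e)
    have hc : ∀ y : (K ⊗[k] A) ⊗[K] (K ⊗[k] A), e (Groth.Agent.HopfRep.Slice.contr K _ (coef ∘ₗ e.toLinearMap) y) =
        Groth.Agent.HopfRep.Slice.contr K G coef (TensorProduct.map e.toLinearMap e.toLinearMap y) := by
      intro y
      induction y with
      | zero => simp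
      | add p q hp hq => simp only [map_add, hp, hq]
      | tmul p q => simp; rfl
    rw [hc, map_smul, map_one, LinearMap.comp_apply]
    refine Eq.trans ?_ (key _)
    congr 1
    exact CoalgHomClass.map_comp_comul_apply e x
  · show coef (e 1) = 1
    rw [map_one]
    show (MonoidAlgebra.single (1 : Multiplicative (Fin n → ℤ)) (1 : K)).coeff 1 = 1
    simp

end Groth.Agent.S18829
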