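import Groth.Statements.S18864
import Mathlib

set_option autoImplicit false
universe u v w
open HopfRep

namespace Groth.Agent.S18864

/-- Let k be a field and G = lim G_i a pro-algebraic group scheme over k, so that G = Spec A with A the
direct limit of the Hopf algebras A_i of the affine group schemes G_i of finite type; assume
moreover that the maps A_i → A are injective, so that A is the directed union of the A_i, here given
as injective bialgebra maps A_i → A with directed, jointly covering images. Then every homomorphism
from G to an affine group scheme H = Spec B of finite type over k factors through some projection G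
→ G_i: every bialgebra map f : B → A with B finitely generated as a k-algebra is the composite of
A_i → A with a bialgebra map B → A_i for some i. (The published statement allows arbitrary
transition maps in the system; this row assumes each A_i → A injective, the case the printed
argument treats. The source also states the pro-finite variant with H finite, which is the case of
finite-dimensional A_i and B; finite generation of the A_i is not used.) -/
theorem result (k : Type u) [Field k]
    (A : Type v) [CommRing A] [HopfAlgebra k A] {ι : Type v} (Aι : ι → Type v)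
    [∀ i, CommRing (Aι i)] [∀ i, HopfAlgebra k (Aι i)] (emb : ∀ i, Aι i →ₐc[k] A)
    (hinj : ∀ i, Function.Injective (emb i))
    (hdir : ∀ i j, ∃ l, Set.range (emb i) ⊆ Set.range (emb l) ∧ Set.range (emb j) ⊆ Set.range (emb l))
    (hcov : ∀ a : A, ∃ i, a ∈ Set.range (emb i))
    (B : Type w) [CommRing B] [HopfAlgebra k B] [Algebra.FiniteType k B] (f : B →ₐc[k] A) :
    ∃ (i : ι) (g : B →ₐc[k] Aι i), (emb i).comp g = f := by
  classical
  obtain ⟨S, hS⟩ := Algebra.FiniteType.out (R := k) (A := B)
  obtain ⟨i₀, -⟩ := hcov 1
  have hfin : ∀ T : Finset B, ∃ i, ∀ b ∈ T, f b ∈ Set.range (emb i) := by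
    intro T
    induction T using Finset.induction_on with
    | empty => exact ⟨i₀, by simp⟩
    | insert b T hb ih =>
      obtain ⟨i, hi⟩ := ih
      obtain ⟨j, hj⟩ := hcov (f b)
      obtain ⟨l, hl1, hl2⟩ := hdir i j
      refine ⟨l, fun c hc => ?_⟩
      rcases Finset.mem_insert.1 hc with rfl | hc
      · exact hl2 hj
      · exact hl1 (hi c hc)
  obtain ⟨i, hi⟩ := hfin S
  let e : Aι i →ₐ[k] A := (emb i : Aι i →ₐ[k] A)
  have hrange : ∀ b : B, (f : B →ₐ[k] A) b ∈ e.range := by
    have h1 : Algebra.adjoin k (S : Set B) ≤ e.range.comap (f : B →ₐ[k] A) :=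
      Algebra.adjoin_le fun b hb => hi b hb
    rw [hS] at h1
    exact fun b => h1 Algebra.mem_top
  let g₀ : B →ₐ[k] Aι i :=
    (AlgEquiv.ofInjective e (hinj i)).symm.toAlgHom.comp ((f : B →ₐ[k] A).codRestrict e.range hrange)
  have hg : ∀ b, emb i (g₀ b) = f b := fun b =>
    congrArg Subtype.val ((AlgEquiv.ofInjective e (hinj i)).apply_symm_apply ⟨f b, hrange b⟩)
  let el : Aι i →ₗ[k] A := (emb i : Aι i →ₗc[k] A).toLinearMap
  have hinj2 : Function.Injective (TensorProduct.map el el) := by
    rw [← LinearMap.rTensor_comp_lTensor]
    exact (Module.Flat.rTensor_preserves_injective_linearMap _ (hinj i)).comp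
      (Module.Flat.lTensor_preserves_injective_linearMap _ (hinj i))
  have h1 : (Bialgebra.counitAlgHom k (Aι i)).comp g₀ = Bialgebra.counitAlgHom k B := by
    refine AlgHom.ext fun b => ?_
    show Coalgebra.counit (R := k) (g₀ b) = Coalgebra.counit (R := k) b
    rw [← CoalgHomClass.counit_comp_apply (emb i), hg, CoalgHomClass.counit_comp_apply f]
  have h2 : (Algebra.TensorProduct.map g₀ g₀).comp (Bialgebra.comulAlgHom k B) =
      (Bialgebra.comulAlgHom k (Aι i)).comp g₀ := by
    refine AlgHom.ext fun b => hinj2 ?_
    show TensorProduct.map el el (TensorProduct.map g₀.toLinearMap g₀.toLinearMap (Coalgebra.comul (R := k) b)) =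
      TensorProduct.map el el (Coalgebra.comul (R := k) (g₀ b))
    rw [← LinearMap.comp_apply, ← TensorProduct.map_comp]
    have he : el ∘ₗ g₀.toLinearMap = (f : B →ₗc[k] A).toLinearMap := LinearMap.ext hg
    rw [he]
    refine (LinearMap.congr_fun (f : B →ₗc[k] A).map_comp_comul b).trans ?_
    refine Eq.trans ?_ (LinearMap.congr_fun (emb i : Aι i →ₗc[k] A).map_comp_comul (g₀ b)).symm
    exact congrArg (Coalgebra.comul (R := k)) (hg b).symm
  exact ⟨i, BialgHom.ofAlgHom g₀ h1 h2, BialgHom.ext hg⟩

end Groth.Agent.S18864
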