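import Groth.Statements.S18887
import Mathlib.RingTheory.Trace.Basic
import Mathlib.LinearAlgebra.Dimension.Free
import Mathlib.Tactic.LinearCombination
import Mathlib.Algebra.Algebra.Basic

set_option autoImplicit false
universe u v
open DblCov

namespace Groth.Agent.S18887

/-- Let A be a commutative ring in which 2 is invertible and B a commutative A-algebra which is free of
rank 2 as an A-module and whose trace form tr : B → A has kernel free of rank 1 over A. Then σ(b) =
tr(b) − b defines an A-algebra endomorphism σ of B with σ ≠ id and σ ∘ σ = id, and the elements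
fixed by σ are exactly the image of A in B. -/
theorem result {A : Type u} {B : Type v} [CommRing A] [CommRing B]
    [Algebra A B] (h2 : IsUnit (2 : A)) [Module.Free A B] [Module.Finite A B]
    (hrk : Module.finrank A B = 2)
    [Module.Free A (LinearMap.ker (Algebra.trace A B))]
    (hker : Module.finrank A (LinearMap.ker (Algebra.trace A B)) = 1) :
    ∃ σ : B →ₐ[A] B, (∀ b : B, σ b = algebraMap A B (Algebra.trace A B b) - b) ∧
      σ ≠ AlgHom.id A B ∧ σ.comp σ = AlgHom.id A B ∧
      ∀ b : B, σ b = b ↔ b ∈ Set.range (algebraMap A B) := by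
  classical
  rcases subsingleton_or_nontrivial A with hA | hA
  · haveI : Subsingleton B := (algebraMap A B).codomain_trivial
    rw [Module.finrank_subsingleton] at hrk
    omega
  obtain ⟨i2, hi2⟩ := h2.exists_left_inv
  have htr : ∀ a : A, Algebra.trace A B (algebraMap A B a) = 2 * a := fun a => by
    rw [Algebra.trace_algebraMap_of_basis (Module.finBasisOfFinrankEq A B hrk), Fintype.card_fin, nsmul_eq_mul]
    norm_num
  haveI : Module.Finite A (LinearMap.ker (Algebra.trace A B)) := Module.finite_of_finrank_eq_succ hker
  let bk := Module.finBasisOfFinrankEq A (LinearMap.ker (Algebra.trace A B)) hker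
  let e : B := (bk 0 : B)
  have he : Algebra.trace A B e = 0 := LinearMap.mem_ker.1 (bk 0).2
  have hdec : ∀ b : B, ∃ c : A, b = algebraMap A B (i2 * Algebra.trace A B b) + c • e := by
    intro b
    have hm : b - algebraMap A B (i2 * Algebra.trace A B b) ∈ LinearMap.ker (Algebra.trace A B) := by
      rw [LinearMap.mem_ker, map_sub, htr, show 2 * (i2 * Algebra.trace A B b) = (i2 * 2) * Algebra.trace A B b by ring,
        hi2, one_mul, sub_self]
    refine ⟨bk.repr ⟨_, hm⟩ 0, ?_⟩
    have := congrArg Subtype.val (bk.sum_repr ⟨_, hm⟩)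
    rw [Fin.sum_univ_one] at this
    rw [show (bk.repr ⟨_, hm⟩ 0) • e = b - algebraMap A B (i2 * Algebra.trace A B b) from this]
    abel
  have hli : ∀ a c : A, algebraMap A B a + c • e = 0 → a = 0 ∧ c = 0 := by
    intro a c h
    have ha : a = 0 := by
      have := congrArg (Algebra.trace A B) h
      rw [map_add, map_smul, he, smul_zero, add_zero, map_zero, htr] at this
      rw [← one_mul a, ← hi2, mul_assoc, this, mul_zero]
    subst ha
    rw [map_zero, zero_add] at h
    have h0 : c • bk 0 = 0 := Subtype.ext h
    have := congrArg (fun x => bk.repr x 0) h0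
    simpa using this
  let v : Fin 2 → B := ![1, e]
  have hv : LinearIndependent A v := by
    rw [LinearIndependent.pair_iff]
    intro a c h
    exact hli a c (by rw [Algebra.algebraMap_eq_smul_one]; exact h)
  have hsp : ⊤ ≤ Submodule.span A (Set.range v) := by
    intro b _
    obtain ⟨c, hc⟩ := hdec b
    rw [hc, Algebra.algebraMap_eq_smul_one]
    exact add_mem (Submodule.smul_mem _ _ (Submodule.subset_span ⟨0, rfl⟩)) (Submodule.smul_mem _ _ (Submodule.subset_span ⟨1, rfl⟩))
  let bb := Module.Basis.mk hv hsp
  obtain ⟨α, β, hee⟩ : ∃ α β : A, e * e = algebraMap A B α + β • e := ⟨_, hdec (e * e)⟩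
  have hβ : β = 0 := by
    have h := he
    rw [Algebra.trace_eq_matrix_trace bb, Matrix.trace_fin_two, Algebra.leftMulMatrix_eq_repr_mul, Algebra.leftMulMatrix_eq_repr_mul] at h
    have h0 : bb 0 = 1 := by simp [bb, v]
    have h1 : bb 1 = e := by simp [bb, v]
    rw [h0, h1, mul_one, hee, map_add, map_smul, Algebra.algebraMap_eq_smul_one, map_smul, ← h0, ← h1,
      bb.repr_self, bb.repr_self] at h
    simpa using h
  subst hβ
  rw [zero_smul, add_zero] at hee
  let s : B →ₗ[A] B := (Algebra.linearMap A B).comp (Algebra.trace A B) - LinearMap.id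
  have hs : ∀ a c : A, s (algebraMap A B a + c • e) = algebraMap A B a - c • e := by
    intro a c
    show algebraMap A B (Algebra.trace A B (algebraMap A B a + c • e)) - (algebraMap A B a + c • e) = _
    rw [map_add, map_smul, he, smul_zero, add_zero, htr, two_mul, map_add]
    abel
  have hmul : ∀ x y, s (x * y) = s x * s y := by
    intro x y
    obtain ⟨c, hc⟩ := hdec x
    obtain ⟨d, hd⟩ := hdec y
    generalize i2 * Algebra.trace A B x = a at hc
    generalize i2 * Algebra.trace A B y = b at hd
    subst hc hd
    have hxy : (algebraMap A B a + c • e) * (algebraMap A B b + d • e) =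
        algebraMap A B (a * b + c * d * α) + (a * d + b * c) • e := by
      simp only [Algebra.smul_def, map_add, map_mul]
      linear_combination (algebraMap A B c * algebraMap A B d) * hee
    rw [hxy, hs, hs, hs]
    simp only [Algebra.smul_def, map_add, map_mul]
    linear_combination (-(algebraMap A B c * algebraMap A B d)) * hee
  have hone : s 1 = 1 := by
    show algebraMap A B (Algebra.trace A B 1) - 1 = 1
    rw [show (1 : B) = algebraMap A B 1 from (map_one _).symm, htr, mul_one, ← map_sub]
    norm_num
  refine ⟨AlgHom.ofLinearMap s hone hmul, fun b => rfl, fun h => ?_, AlgHom.ext fun b => ?_, fun b => ⟨fun h => ?_, ?_⟩⟩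
  · have h1 : s e = e := DFunLike.congr_fun h e
    have h2' := hs 0 1
    rw [map_zero, zero_add, zero_sub, one_smul, h1] at h2'
    have := (hli 0 2 (by rw [map_zero, zero_add, two_smul]; nth_rewrite 1 [h2']; exact neg_add_cancel e)).2
    exact zero_ne_one (by linear_combination (i2) * this.symm + hi2 - 0 : (0 : A) = 1)
  · obtain ⟨c, hc⟩ := hdec b
    show s (s b) = b
    rw [hc, hs, sub_eq_add_neg, ← neg_smul, hs, neg_smul, sub_neg_eq_add]
  · obtain ⟨c, hc⟩ := hdec b
    have h' : s b = b := h
    rw [hc, hs, sub_eq_iff_eq_add, add_assoc, left_eq_add, ← two_smul A, smul_smul] at h'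
    have := (hli 0 (2 * c) (by rw [map_zero, zero_add]; exact h')).2
    have hc0 : c = 0 := by rw [← one_mul c, ← hi2, mul_assoc, this, mul_zero]
    exact ⟨i2 * Algebra.trace A B b, by rw [hc0, zero_smul, add_zero] at hc; exact hc.symm⟩
  · rintro ⟨a, rfl⟩
    have := hs a 0
    rwa [zero_smul, add_zero, sub_zero] at this

end Groth.Agent.S18887
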