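import Groth.Statements.S18889
import Mathlib.RingTheory.FinitePresentation
import Mathlib.RingTheory.FiniteStability
import Mathlib.RingTheory.Adjoin.Tower
import Mathlib.RingTheory.Invariant.Basic
import Mathlib.RingTheory.IntegralClosure.IsIntegralClosure.Basic
import Mathlib.RingTheory.TensorProduct.MvPolynomial
import Mathlib.RingTheory.TensorProduct.Free

set_option autoImplicit false
universe u v w
open CAlg

namespace Groth.Agent.S18889

/-- Let R be a commutative ring, A a commutative R-algebra of finite presentation, and G a finite group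
acting on A by R-algebra automorphisms such that the order of G is invertible in R. Then the ring of
invariants A^G is an R-algebra of finite presentation. (The source takes G to be a group of
automorphisms of A; here G acts through a possibly non-faithful action, which changes nothing since
the invariants and the invertibility of the order only depend on the image of G.) -/
theorem result {R : Type u} {A : Type v} [CommRing R] [CommRing A]
    [Algebra R A] [Algebra.FinitePresentation R A]
    {G : Type w} [Group G] [Finite G] [MulSemiringAction G A] [SMulCommClass G R A]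
    (hG : IsUnit ((Nat.card G : ℕ) : R)) :
    Algebra.FinitePresentation R (FixedPoints.subalgebra R A G) := by
  classical
  have := Fintype.ofFinite G
  obtain ⟨n, π, hπ, -⟩ := (inferInstance : Algebra.FinitePresentation R A).out
  let σ := G × Fin n
  let P₀ := MvPolynomial σ ℤ
  let act : MulSemiringAction G P₀ :=
    { smul := fun g f => MvPolynomial.rename (fun s : σ => (g * s.1, s.2)) f
      one_smul := fun f => by
        show MvPolynomial.rename (fun s : σ => ((1 : G) * s.1, s.2)) f = f
        rw [show (fun s : σ => ((1 : G) * s.1, s.2)) = id from funext fun s => by simp,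
          MvPolynomial.rename_id, AlgHom.id_apply]
      mul_smul := fun g h f => by
        show MvPolynomial.rename (fun s : σ => (g * h * s.1, s.2)) f =
          MvPolynomial.rename (fun s : σ => (g * s.1, s.2)) (MvPolynomial.rename (fun s : σ => (h * s.1, s.2)) f)
        rw [MvPolynomial.rename_rename]
        congr 2
        funext s
        simp [mul_assoc]
      smul_zero := fun g => map_zero _
      smul_add := fun g => map_add _
      smul_one := fun g => map_one _
      smul_mul := fun g => map_mul _ }
  have : SMulCommClass G ℤ P₀ := ⟨fun g m f =>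
    map_zsmul (MvPolynomial.rename (fun s : σ => (g * s.1, s.2)) : P₀ →ₐ[ℤ] P₀) m f⟩
  let S₀ := FixedPoints.subalgebra ℤ P₀ G
  have : Algebra.IsInvariant S₀ P₀ G := ⟨fun b hb => ⟨⟨b, hb⟩, rfl⟩⟩
  have : SMulCommClass G S₀ P₀ := ⟨fun g s f => by
    show g • ((s : P₀) * f) = (s : P₀) * g • f
    rw [smul_mul', s.2 g]⟩
  have : Algebra.IsIntegral S₀ P₀ := Algebra.IsInvariant.isIntegral S₀ P₀ G
  have : Algebra.FiniteType S₀ P₀ := Algebra.FiniteType.of_restrictScalars_finiteType ℤ S₀ P₀
  have : Module.Finite S₀ P₀ := Algebra.IsIntegral.finite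
  have hS₀ft : Algebra.FiniteType ℤ S₀ :=
    ⟨fg_of_fg_of_fg ℤ S₀ P₀ Algebra.FiniteType.out Module.Finite.fg_top Subtype.val_injective⟩
  have : Algebra.FinitePresentation ℤ S₀ := Algebra.FinitePresentation.of_finiteType.1 hS₀ft
  let T := TensorProduct ℤ R S₀
  let P := TensorProduct ℤ R P₀
  -- the cover of `A`
  let x : σ → A := fun s => s.1 • π (MvPolynomial.X s.2)
  let ψ : P →ₐ[R] A := Algebra.TensorProduct.lift (Algebra.ofId R A) (MvPolynomial.aeval x)
    fun _ _ => Commute.all _ _
  let J : T →ₐ[R] P := Algebra.TensorProduct.map (AlgHom.id R R) S₀.val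
  let ρ : G → (P →ₐ[R] P) := fun g => Algebra.TensorProduct.map (AlgHom.id R R)
    (MvPolynomial.rename (fun s : σ => (g * s.1, s.2)) : P₀ →ₐ[ℤ] P₀)
  have hψρ : ∀ g z, ψ (ρ g z) = g • ψ z := by
    intro g z
    induction z using TensorProduct.induction_on with
    | zero => simp
    | add a b ha hb => rw [map_add, map_add, map_add, smul_add, ha, hb]
    | tmul r f =>
      show algebraMap R A r * MvPolynomial.aeval x (MvPolynomial.rename _ f) =
        g • (algebraMap R A r * MvPolynomial.aeval x f)
      rw [smul_mul', smul_algebraMap]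
      congr 1
      induction f using MvPolynomial.induction_on with
      | C a => rw [MvPolynomial.rename_C, MvPolynomial.aeval_C, algebraMap_int_eq, eq_intCast,
          show g • ((a : A)) = (a : A) from map_intCast (MulSemiringAction.toRingHom G A g) a]
      | add a b ha hb => rw [map_add, map_add, map_add, smul_add, ha, hb]
      | mul_X f s hf => simp only [map_mul, MvPolynomial.rename_X, MvPolynomial.aeval_X, smul_mul', hf,
          x, mul_smul]
  have hψ : Function.Surjective ψ := by
    intro a
    obtain ⟨q, rfl⟩ := hπ a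
    induction q using MvPolynomial.induction_on with
    | C r => exact ⟨r ⊗ₜ 1, by
        show algebraMap R A r * MvPolynomial.aeval x 1 = _
        simp⟩
    | add a b ha hb =>
      obtain ⟨u, hu⟩ := ha
      obtain ⟨v, hv⟩ := hb
      exact ⟨u + v, by rw [map_add, map_add, hu, hv]⟩
    | mul_X q i hq =>
      obtain ⟨u, hu⟩ := hq
      refine ⟨u * (1 ⊗ₜ MvPolynomial.X ((1 : G), i)), ?_⟩
      rw [map_mul, map_mul, hu]
      show π q * (algebraMap R A 1 * MvPolynomial.aeval x (MvPolynomial.X ((1 : G), i))) = _
      simp [x]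
  -- the trace
  let τ₀ : P₀ →ₗ[ℤ] S₀ :=
    { toFun := fun f => ⟨∑ g : G, g • f, fun h => by
        rw [Finset.smul_sum]
        simp only [smul_smul]
        exact Fintype.sum_equiv (Equiv.mulLeft h) _ _ fun g => rfl⟩
      map_add' := fun a b => Subtype.ext (by
        show ∑ g : G, g • (a + b) = (∑ g : G, g • a) + ∑ g : G, g • b
        simp only [smul_add, Finset.sum_add_distrib])
      map_smul' := fun m a => Subtype.ext (by
        show ∑ g : G, g • (m • a) = m • ∑ g : G, g • a
        rw [Finset.smul_sum]
        exact Finset.sum_congr rfl fun g _ => smul_comm g m a) }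
  let τ : P →ₗ[ℤ] T := τ₀.lTensor R
  have hJτ : ∀ z, J (τ z) = ∑ g : G, ρ g z := by
    intro z
    induction z using TensorProduct.induction_on with
    | zero => simp
    | add a b ha hb => simp only [map_add, ha, hb, Finset.sum_add_distrib]
    | tmul r f =>
      show r ⊗ₜ[ℤ] (∑ g : G, g • f) = _
      rw [TensorProduct.tmul_sum]
      rfl
  have hlin : ∀ t z, τ (J t * z) = t * τ z := by
    intro t z
    induction t using TensorProduct.induction_on with
    | zero => simp
    | add a b ha hb => simp only [map_add, add_mul, ha, hb]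
    | tmul r s =>
      induction z using TensorProduct.induction_on with
      | zero => simp
      | add a b ha hb => simp only [map_add, mul_add, ha, hb]
      | tmul r' f =>
        rw [show J (r ⊗ₜ[ℤ] s) = r ⊗ₜ[ℤ] (s : P₀) from rfl, Algebra.TensorProduct.tmul_mul_tmul,
          show τ (r' ⊗ₜ[ℤ] f) = r' ⊗ₜ[ℤ] τ₀ f from rfl, Algebra.TensorProduct.tmul_mul_tmul]
        show (r * r') ⊗ₜ[ℤ] τ₀ ((s : P₀) * f) = _
        congr 1
        refine Subtype.ext ?_
        show ∑ g : G, g • ((s : P₀) * f) = (s : P₀) * ∑ g : G, g • f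
        rw [Finset.mul_sum]
        exact Finset.sum_congr rfl fun g _ => by rw [smul_mul', s.2 g]
  have hN : (Nat.card G : R) = (Fintype.card G : R) := by rw [Nat.card_eq_fintype_card]
  rw [hN] at hG
  have hfix : ∀ t, ψ (J t) ∈ FixedPoints.subalgebra R A G := by
    intro t g
    rw [← hψρ]
    congr 1
    induction t using TensorProduct.induction_on with
    | zero => simp
    | add a b ha hb => simp only [map_add, ha, hb]
    | tmul r s =>
      show r ⊗ₜ[ℤ] (g • (s : P₀)) = r ⊗ₜ[ℤ] (s : P₀)
      rw [s.2 g]
  let φ : T →ₐ[R] FixedPoints.subalgebra R A G := (ψ.comp J).codRestrict _ hfix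
  have htr : ∀ z, ψ (J (τ z)) = ∑ g : G, g • ψ z := fun z => by
    rw [hJτ, map_sum]; exact Finset.sum_congr rfl fun g _ => hψρ g z
  have hφ : Function.Surjective φ := by
    rintro ⟨a, ha⟩
    obtain ⟨z, rfl⟩ := hψ a
    refine ⟨(hG.unit⁻¹ : Rˣ).1 • τ z, Subtype.ext ?_⟩
    show ψ (J ((hG.unit⁻¹ : Rˣ).1 • τ z)) = ψ z
    rw [map_smul, map_smul, htr, Finset.sum_congr rfl (fun g _ => ha g), Finset.sum_const,
      Finset.card_univ, ← Nat.cast_smul_eq_nsmul R, smul_smul, IsUnit.val_inv_mul, one_smul]
  refine Algebra.FinitePresentation.of_surjective hφ ?_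
  obtain ⟨Fg, hFg⟩ := Algebra.FinitePresentation.ker_fG_of_surjective ψ hψ
  obtain ⟨E, hE⟩ := (Module.Finite.fg_top : (⊤ : Submodule S₀ P₀).FG)
  refine ⟨(E ×ˢ Fg).image (fun ef => τ (((1 : R) ⊗ₜ[ℤ] ef.1) * ef.2)), le_antisymm ?_ ?_⟩
  · rw [Submodule.span_le]
    intro y hy
    obtain ⟨⟨e, f⟩, hef, rfl⟩ := Finset.mem_image.1 (Finset.mem_coe.1 hy)
    refine Subtype.ext ?_
    show ψ (J (τ _)) = 0
    have hf : ψ f = 0 := RingHom.mem_ker.1 (hFg ▸ Submodule.subset_span (Finset.mem_product.1 hef).2)
    rw [htr, map_mul, hf, mul_zero]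
    simp
  · intro t ht
    have ht' : J t ∈ Submodule.span P (Fg : Set P) := by
      exact hFg.ge (congrArg Subtype.val ht)
    let W : Ideal T := Submodule.span T
      (((E ×ˢ Fg).image (fun ef => τ (((1 : R) ⊗ₜ[ℤ] ef.1) * ef.2)) : Finset T) : Set T)
    have hW : ∀ y ∈ Submodule.span P (Fg : Set P), ∀ q : P, τ (q * y) ∈ W := by
      intro y hy
      induction hy using Submodule.span_induction with
      | mem f hf =>
        intro q
        induction q using TensorProduct.induction_on with
        | zero => rw [zero_mul, map_zero]; exact zero_mem W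
        | add a b ha hb => rw [add_mul, map_add]; exact W.add_mem ha hb
        | tmul r w =>
          have hw : w ∈ Submodule.span S₀ (E : Set P₀) := hE ▸ Submodule.mem_top
          induction hw using Submodule.span_induction with
          | mem e he =>
            have h1 : (r ⊗ₜ[ℤ] e : P) = J (r ⊗ₜ[ℤ] (1 : S₀)) * ((1 : R) ⊗ₜ[ℤ] e) := by
              rw [show J (r ⊗ₜ[ℤ] (1 : S₀)) = r ⊗ₜ[ℤ] ((1 : S₀) : P₀) from rfl,
                Algebra.TensorProduct.tmul_mul_tmul, mul_one, OneMemClass.coe_one, one_mul]
            rw [h1, mul_assoc, hlin]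
            exact W.mul_mem_left _ (Submodule.subset_span
              (Finset.mem_image.2 ⟨(e, f), Finset.mem_product.2 ⟨he, hf⟩, rfl⟩))
          | zero => rw [TensorProduct.tmul_zero, zero_mul, map_zero]; exact zero_mem W
          | add a b _ _ ha hb => rw [TensorProduct.tmul_add, add_mul, map_add]; exact W.add_mem ha hb
          | smul s a _ ha =>
            have h1 : (r ⊗ₜ[ℤ] (s • a) : P) = J ((1 : R) ⊗ₜ[ℤ] s) * (r ⊗ₜ[ℤ] a) := by
              rw [show J ((1 : R) ⊗ₜ[ℤ] s) = (1 : R) ⊗ₜ[ℤ] (s : P₀) from rfl,
                Algebra.TensorProduct.tmul_mul_tmul, one_mul]; rfl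
            rw [h1, mul_assoc, hlin]
            exact W.mul_mem_left _ ha
      | zero => intro q; rw [mul_zero, map_zero]; exact zero_mem W
      | add a b _ _ ha hb => intro q; rw [mul_add, map_add]; exact W.add_mem (ha q) (hb q)
      | smul p a _ ha => intro q; rw [smul_eq_mul, ← mul_assoc]; exact ha _
    have h2 := hW _ ht' 1
    rw [one_mul, ← mul_one (J t), hlin] at h2
    have hτ1 : τ 1 = (Fintype.card G : T) := by
      show (1 : R) ⊗ₜ[ℤ] τ₀ 1 = _
      rw [show τ₀ 1 = (Fintype.card G : S₀) from Subtype.ext (by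
        show ∑ g : G, g • (1 : P₀) = _
        simp), ← map_natCast (Algebra.TensorProduct.includeRight : S₀ →ₐ[ℤ] T)]
      rfl
    rw [hτ1, ← map_natCast (algebraMap R T)] at h2
    exact (Ideal.mul_unit_mem_iff_mem W (hG.map _)).1 h2

end Groth.Agent.S18889
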