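import Groth.Statements.S18890
import Groth.Agent.SGA1Q.Average

set_option autoImplicit false
universe u v w w'
open CAlg

namespace Groth.Agent.S18890

/-- Let R be a commutative ring, G a finite group whose order is invertible in R, M an R-module with an
R-linear action ρ of G and N an arbitrary R-module. Then the natural map M^G ⊗_R N → M ⊗_R N induced
by the inclusion of the invariants is injective, and its image is the submodule of invariants of M
⊗_R N under the action ρ ⊗ 1 (G acting on the first factor). (The source lets G be a group of
R-automorphisms of M; a possibly non-faithful linear action changes nothing.) -/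
theorem result {R : Type u} [CommRing R]
    {G : Type v} [Group G] [Finite G] (hG : IsUnit ((Nat.card G : ℕ) : R))
    {M : Type w} {N : Type w'} [AddCommGroup M] [Module R M] [AddCommGroup N] [Module R N]
    (ρ : Representation R G M) :
    Function.Injective (LinearMap.rTensor N ρ.invariants.subtype) ∧
      LinearMap.range (LinearMap.rTensor N ρ.invariants.subtype) =
        (ρ.tprod (Representation.trivial R G N)).invariants := by
  obtain ⟨h1, h2⟩ := SGA1Q.Average.main (N := N) hG ρ
  refine ⟨h1, ?_⟩
  ext x
  rw [h2]
  refine forall_congr' fun g => ?_
  have : (ρ.tprod (Representation.trivial R G N)) g = LinearMap.rTensor N (ρ g) := by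
    apply TensorProduct.ext'
    intro m n
    simp
  rw [this]

end Groth.Agent.S18890
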