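import Groth.Statements.S18891
import Mathlib.AlgebraicGeometry.ZariskisMainTheorem
-- import your own Groth.Agent.* helpers here

set_option autoImplicit false
universe u
open CategoryTheory CategoryTheory.Limits AlgebraicGeometry
open Mor

namespace Groth.Agent.S18891

/-- Let f : X → Y be a morphism of schemes which is proper and formally unramified, and such that for
every algebraically closed field Ω the map X(Ω) → Y(Ω), g ↦ g ≫ f, is injective. Then f is a closed
immersion. -/
theorem result {X Y : Scheme.{u}} (f : X ⟶ Y)
    [IsProper f] [FormallyUnramified f]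
    (hinj : ∀ (Ω : Type u) [Field Ω] [IsAlgClosed Ω],
      Function.Injective (fun g : Spec (CommRingCat.of Ω) ⟶ X => g ≫ f)) :
    IsClosedImmersion f := by
  haveI : IsOpenImmersion (Limits.pullback.diagonal f) := inferInstance
  haveI : Surjective (Limits.pullback.diagonal f) := ⟨fun z => by
    let Ω := AlgebraicClosure ((Limits.pullback f f).residueField z)
    let p : Spec (CommRingCat.of Ω) ⟶ Limits.pullback f f :=
      Spec.map (CommRingCat.ofHom (algebraMap ((Limits.pullback f f).residueField z) Ω)) ≫
        (Limits.pullback f f).fromSpecResidueField z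
    have e : p ≫ Limits.pullback.fst f f = p ≫ Limits.pullback.snd f f :=
      hinj Ω (by simp only [Category.assoc, Limits.pullback.condition])
    have e' : (p ≫ Limits.pullback.fst f f) ≫ Limits.pullback.diagonal f = p :=
      Limits.pullback.hom_ext (by simp) (by simpa using e)
    refine ⟨(p ≫ Limits.pullback.fst f f) (IsLocalRing.closedPoint Ω), ?_⟩
    rw [← Scheme.Hom.comp_apply, e', Scheme.Hom.comp_apply]
    exact Scheme.fromSpecResidueField_apply _ _⟩
  haveI : IsIso (Limits.pullback.diagonal f) :=
    (isIso_iff_isOpenImmersion_and_epi_base _).mpr ⟨inferInstance, (TopCat.epi_iff_surjective _).mpr (Scheme.Hom.surjective _)⟩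
  haveI : Mono f := (Limits.pullback.isIso_diagonal_iff f).mp inferInstance
  exact (IsClosedImmersion.iff_isProper_and_mono _).mpr ⟨inferInstance, inferInstance⟩

end Groth.Agent.S18891
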