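import Groth.Statements.S1890
import Mathlib.AlgebraicGeometry.Morphisms.Immersion
import Mathlib.AlgebraicGeometry.Morphisms.Affine

set_option autoImplicit false
universe u
open CategoryTheory CategoryTheory.Limits AlgebraicGeometry
open Grpd

namespace Groth.Agent.S1890

/-- Take a quasi-compact immersion j : V → Spec A and an element f ∈ A such that j⁻¹(D(f)) is affine and
j(V) ∩ V(f) is closed in Spec A. Then V is affine. -/
theorem result (A : Type u) [CommRing A] (V : Scheme.{u}) (j : V ⟶ Spec (CommRingCat.of A)) [IsImmersion j] [QuasiCompact j] (f : A) (haff : IsAffineOpen (j ⁻¹ᵁ PrimeSpectrum.basicOpen f)) (hcl : IsClosed (Set.range ⇑j ∩ PrimeSpectrum.zeroLocus {f})) : IsAffine V := by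
  suffices h : IsAffineHom j by exact isAffine_of_isAffineHom j
  let F := Set.range ⇑j ∩ PrimeSpectrum.zeroLocus {f}
  have hx : ∀ x : Spec (CommRingCat.of A), ∃ g : A, x ∈ PrimeSpectrum.basicOpen g ∧
      IsAffineOpen (j ⁻¹ᵁ PrimeSpectrum.basicOpen g) := by
    intro x
    by_cases hxF : x ∈ F
    · have hxO : x ∈ (j.coborderRange : Set _) := subset_coborder hxF.1
      obtain ⟨_, ⟨_, ⟨g, rfl⟩, rfl⟩, hgx, hg⟩ :=
        PrimeSpectrum.isBasis_basic_opens.exists_subset_of_mem_open hxO j.coborderRange.2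
      refine ⟨g, hgx, ?_⟩
      have h1 : IsAffineOpen (j.coborderRange.ι ⁻¹ᵁ PrimeSpectrum.basicOpen g) :=
        (IsAffineOpen.Spec_basicOpen g).preimage_of_isOpenImmersion _ (by
          rw [Scheme.Opens.opensRange_ι]; exact hg)
      have h2 := h1.preimage j.liftCoborder
      exact (congrArg (fun φ : V ⟶ Spec (CommRingCat.of A) => IsAffineOpen (φ ⁻¹ᵁ PrimeSpectrum.basicOpen g))
        (Scheme.Hom.liftCoborder_ι (f := j))).mp h2
    · have hO : IsOpen Fᶜ := hcl.isOpen_compl
      obtain ⟨_, ⟨_, ⟨g, rfl⟩, rfl⟩, hgx, hg⟩ :=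
        PrimeSpectrum.isBasis_basic_opens.exists_subset_of_mem_open hxF hO
      refine ⟨g, hgx, ?_⟩
      have h1 : j ⁻¹ᵁ PrimeSpectrum.basicOpen g ≤ j ⁻¹ᵁ PrimeSpectrum.basicOpen f := fun v hv => by
        by_contra hvf
        exact hg hv ⟨⟨v, rfl⟩, fun a ha => by
          rw [Set.mem_singleton_iff] at ha
          subst ha
          exact not_not.1 hvf⟩
      let e := (Scheme.ΓSpecIso (CommRingCat.of A)).inv g
      have h2 : j ⁻¹ᵁ PrimeSpectrum.basicOpen g =
          V.basicOpen ((j.app ⊤ ≫ V.presheaf.map (homOfLE (le_top : j ⁻¹ᵁ PrimeSpectrum.basicOpen f ≤ ⊤)).op) e) := by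
        rw [CommRingCat.comp_apply]
        erw [Scheme.basicOpen_res, ← Scheme.preimage_basicOpen, basicOpen_eq_of_affine]
        exact (inf_eq_right.2 h1).symm
      rw [h2]
      exact haff.basicOpen _
  choose g hgx hg using hx
  exact isAffineHom_of_forall_exists_isAffineOpen j fun x =>
    ⟨PrimeSpectrum.basicOpen (g x), hgx x, IsAffineOpen.Spec_basicOpen (R := CommRingCat.of A) (g x), hg x⟩

end Groth.Agent.S1890
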