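import Groth.Statements.S18920
import Mathlib

set_option autoImplicit false
set_option linter.style.haveILetI false
universe u
open CAlg

namespace Groth.Agent.S18920

/-- Let M be a commutative monoid, s ≥ 1, and ξ_1, …, ξ_s elements of M with ξ_i ^ (s!/i) = 1 for 1 ≤ i
≤ s (an (s!/i)-th root of unity for each i). Suppose that for every finitely supported function d on
{1, …, s} with Σ_i i · d_i = s! the product ∏_i ξ_i ^ d_i equals 1. Then ξ_1 ^ j = ξ_j for every 1 ≤
j ≤ s. (The source works with roots of unity in the complex numbers.) -/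
theorem result
    {M : Type u} [CommMonoid M] (s : ℕ) (hs : 1 ≤ s) (ξ : ℕ → M)
    (hξ : ∀ i : ℕ, 1 ≤ i → i ≤ s → ξ i ^ (s.factorial / i) = 1)
    (hprod : ∀ d : ℕ →₀ ℕ, (∀ i ∈ d.support, 1 ≤ i ∧ i ≤ s) →
      (d.sum fun i n => i * n) = s.factorial → (d.prod fun i n => ξ i ^ n) = 1)
    (j : ℕ) (hj : 1 ≤ j) (hjs : j ≤ s) :
    ξ 1 ^ j = ξ j := by
  rcases eq_or_lt_of_le hj with h1 | h1
  · rw [← h1, pow_one]
  have hN1 : 1 ≤ s.factorial / j := (Nat.one_le_div_iff (by omega)).mpr (le_trans hjs (Nat.self_le_factorial s))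
  have hdvd : j ∣ s.factorial := Nat.dvd_factorial (by omega) hjs
  set N := s.factorial / j with hN
  have hd := hprod (Finsupp.single j (N - 1) + Finsupp.single 1 j) ?_ ?_
  · rw [Finsupp.prod_add_index' (fun i => pow_zero (ξ i)) (fun i a b => pow_add (ξ i) a b),
      Finsupp.prod_single_index (h := fun i n => ξ i ^ n) (pow_zero _),
      Finsupp.prod_single_index (h := fun i n => ξ i ^ n) (pow_zero _)] at hd
    have e : ξ j ^ (N - 1) * ξ j = 1 := by
      rw [← pow_succ, Nat.sub_add_cancel hN1]; exact hξ j hj hjs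
    calc ξ 1 ^ j = ξ 1 ^ j * (ξ j ^ (N - 1) * ξ j) := by rw [e, mul_one]
      _ = (ξ j ^ (N - 1) * ξ 1 ^ j) * ξ j := by rw [← mul_assoc, mul_comm (ξ 1 ^ j)]
      _ = ξ j := by rw [hd, one_mul]
  · intro i hi
    have := Finsupp.support_add hi
    rw [Finset.mem_union] at this
    rcases this with h | h
    · have := Finsupp.support_single_subset h; rw [Finset.mem_singleton] at this; omega
    · have := Finsupp.support_single_subset h; rw [Finset.mem_singleton] at this; omega
  · rw [Finsupp.sum_add_index' (fun i => by simp) (fun i a b => mul_add _ _ _),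
      Finsupp.sum_single_index (h := fun i n => i * n) (by simp), Finsupp.sum_single_index (h := fun i n => i * n) (by simp)]
    have : j * N = s.factorial := Nat.mul_div_cancel' hdvd
    obtain ⟨M, hM⟩ := Nat.exists_eq_add_of_le hN1
    rw [hM] at this ⊢
    rw [Nat.add_sub_cancel_left, one_mul]
    rw [← this]; ring

end Groth.Agent.S18920
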