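import Groth.Statements.S18928
import Mathlib.RingTheory.DividedPowers.Basic
import Mathlib.RingTheory.Ideal.Operations
import Mathlib.Data.Nat.Choose.Sum

set_option autoImplicit false
universe u
open DPow

namespace Groth.Agent.S18928

/-- Let B be a commutative ring, I an ideal of B with a divided power structure, p a prime, r a natural
number, b an element of B and δ an element of I. Then (b + δ)^(p^r) − b^(p^r) lies in the ideal p^r
I. (The source states this for a divided power thickening over the Witt vectors of length n and 0 ≤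
r ≤ n; neither restriction is used.) -/
theorem result {B : Type u} [CommRing B] {I : Ideal B}
    (hI : DividedPowers I) (p : ℕ) [Fact p.Prime] (r : ℕ) (b δ : B) (hδ : δ ∈ I) :
    (b + δ) ^ (p ^ r) - b ^ (p ^ r) ∈ Ideal.span {((p : B) ^ r)} * I := by
  rw [add_comm, (Commute.all δ b).add_pow, Finset.sum_range_succ', Ideal.mem_span_singleton_mul]
  refine ⟨∑ k ∈ Finset.range (p ^ r), (((p ^ r - 1).choose k * k.factorial : ℕ) : B) * hI.dpow (k + 1) δ * b ^ (p ^ r - (k + 1)),
    Submodule.sum_mem _ fun k _ => Ideal.mul_mem_right _ _ (Ideal.mul_mem_left _ _ (hI.dpow_mem (Nat.succ_ne_zero k) hδ)), ?_⟩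
  simp only [pow_zero, one_mul, Nat.sub_zero, Nat.choose_zero_right, Nat.cast_one, mul_one, add_sub_cancel_right]
  rw [Finset.mul_sum]
  refine Finset.sum_congr rfl fun k hk => ?_
  rw [Finset.mem_range] at hk
  rw [← hI.factorial_mul_dpow_eq_pow hδ (n := k + 1)]
  have h : p ^ r * (p ^ r - 1).choose k = (p ^ r).choose (k + 1) * (k + 1) := by
    have := Nat.add_one_mul_choose_eq (p ^ r - 1) k
    rwa [Nat.sub_add_cancel (by omega : 1 ≤ p ^ r)] at this
  have h' : ((p : B) ^ r) * (((p ^ r - 1).choose k * k.factorial : ℕ) : B) =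
      (((p ^ r).choose (k + 1) * (k + 1).factorial : ℕ) : B) := by
    rw [Nat.factorial_succ, ← mul_assoc, ← h]; push_cast; ring
  rw [← mul_assoc, ← mul_assoc, h']
  push_cast
  ring

end Groth.Agent.S18928
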