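import Groth.Statements.S18930
import Mathlib

set_option autoImplicit false
universe u
open DPow

namespace Groth.Agent.S18930

/-- Let p be a prime, n ≥ 1, B a commutative ring with p^n = 0 and A = B/pB. Let θ : W_n(A) → B be the
ring homomorphism which sends the reduction of a Witt vector (x_0, …, x_{n−1}) over B to Σ_{i<n} p^i
x_i^(p^(n−i)), let J_n be its kernel and let I_n be the set of a in W_n(A) whose zeroth component
satisfies a_0^(p^n) = 0. Then J_n + (p) ⊆ I_n. (In the source B is the ring of global sections of a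
scheme over the Witt vectors of length n of a perfect field.) -/
theorem result (p : ℕ) [Fact p.Prime] (n : ℕ) (hn : 0 < n)
    {B : Type u} [CommRing B] (hp : (p : B) ^ n = 0)
    (θ : TruncatedWittVector p n (B ⧸ (Ideal.span {(p : B)})) →+* B)
    (hθ : ∀ x : WittVector p B, θ (WittVector.truncate n (WittVector.map (Ideal.Quotient.mk (Ideal.span {(p : B)})) x)) =
        ∑ i : Fin n, (p : B) ^ (i : ℕ) * (x.coeff i) ^ (p ^ (n - i)))
    (a : TruncatedWittVector p n (B ⧸ (Ideal.span {(p : B)})))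
    (ha : a ∈ RingHom.ker θ ⊔ Ideal.span {(p : TruncatedWittVector p n (B ⧸ (Ideal.span {(p : B)})))}) :
    (TruncatedWittVector.coeff ⟨0, hn⟩ a) ^ (p ^ n) = 0 := by
  obtain ⟨y, hy, z, hz, rfl⟩ := Submodule.mem_sup.1 ha
  obtain ⟨c, rfl⟩ := Ideal.mem_span_singleton'.1 hz
  set π := Ideal.Quotient.mk (Ideal.span {(p : B)}) with hπ
  set a := y + c * (p : TruncatedWittVector p n (B ⧸ (Ideal.span {(p : B)}))) with hadef
  have hθa : θ a ∈ Ideal.span {(p : B)} := by
    rw [hadef, map_add, show θ y = 0 from hy, zero_add, map_mul, map_natCast]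
    exact Ideal.mem_span_singleton'.2 ⟨_, rfl⟩
  obtain ⟨w, hw⟩ := WittVector.truncate_surjective p n (B ⧸ (Ideal.span {(p : B)})) a
  obtain ⟨x, rfl⟩ := WittVector.map_surjective π Ideal.Quotient.mk_surjective w
  rw [← hw, hθ] at hθa
  rw [← hw, WittVector.coeff_truncate, WittVector.map_coeff]
  show π (x.coeff 0) ^ p ^ n = 0
  rw [← map_pow, hπ, Ideal.Quotient.eq_zero_iff_mem]
  have h0 := sub_mem hθa (Ideal.sum_mem _ (fun (i : Fin n) (hi : i ∈ Finset.univ.erase ⟨0, hn⟩) =>
    (Ideal.mul_mem_right ((x.coeff i) ^ (p ^ (n - i))) _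
      (Ideal.pow_mem_of_mem _ (Ideal.mem_span_singleton_self (p : B)) (i : ℕ) (Nat.pos_of_ne_zero fun h => (Finset.ne_of_mem_erase hi) (Fin.ext h))))))
  rw [← Finset.add_sum_erase _ _ (Finset.mem_univ (⟨0, hn⟩ : Fin n)), add_sub_cancel_right] at h0
  simpa using h0

end Groth.Agent.S18930
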