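import Groth.Statements.S18932
import Mathlib.RingTheory.WittVector.Identities
import Mathlib.RingTheory.WittVector.Truncated
import Mathlib.Tactic.LinearCombination
import Mathlib.RingTheory.Ideal.Quotient.Operations

set_option autoImplicit false
universe u
open DPow

namespace Groth.Agent.S18932

/-- Let p be a prime, k a perfect field of characteristic p, n a natural number and A a commutative
W_n(k)-algebra, W_n(k) the truncated Witt vectors, which is flat over W_n(k) and whose reduction
A/pA has surjective p-th power map. Let θ : W_n(A/pA) → A be the ring homomorphism which sends the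
reduction of a Witt vector (x_0, …, x_{n−1}) over A to Σ_{i<n} p^i x_i^(p^(n−i)). Then θ is
surjective, so A is the quotient of W_n(A/pA) by the kernel of θ. (This is the step of the source's
proposition establishing that Spec of the divided power envelope of that kernel is a thickening of
Spec A; the assertion that it is a final object of the crystalline site is not stated here.) -/
theorem result (p : ℕ) [Fact p.Prime]
    (k : Type u) [Field k] [CharP k p] [PerfectRing k p] (n : ℕ)
    (A : Type u) [CommRing A] [Algebra (TruncatedWittVector p n k) A] [Module.Flat (TruncatedWittVector p n k) A]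
    (hF : Function.Surjective (fun y : A ⧸ (Ideal.span {(p : A)}) => y ^ p))
    (θ : TruncatedWittVector p n (A ⧸ (Ideal.span {(p : A)})) →+* A)
    (hθ : ∀ x : WittVector p A, θ (WittVector.truncate n (WittVector.map (Ideal.Quotient.mk (Ideal.span {(p : A)})) x)) =
        ∑ i : Fin n, (p : A) ^ (i : ℕ) * (x.coeff i) ^ (p ^ (n - i))) :
    Function.Surjective θ := by
  have hpn : (p : A) ^ n = 0 := by
    have h0 : WittVector.truncate (p := p) n ((p : WittVector p k) ^ n) = 0 := by
      rw [← RingHom.mem_ker, WittVector.mem_ker_truncate]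
      intro i hi
      exact WittVector.coeff_p_pow_eq_zero p k (Nat.ne_of_lt hi)
    rw [map_pow, map_natCast] at h0
    rw [← map_natCast (algebraMap (TruncatedWittVector p n k) A), ← map_pow, h0, map_zero]
  have hroot : ∀ (e : ℕ) (c : A), ∃ y, c - y ^ p ^ e ∈ Ideal.span {(p : A)} := fun e c => by
    have hs : ∀ e : ℕ, Function.Surjective (fun y : A ⧸ Ideal.span {(p : A)} => y ^ p ^ e) := by
      intro e
      induction e with
      | zero => intro z; exact ⟨z, by simp⟩
      | succ e ih =>
        intro z
        obtain ⟨w, hw⟩ := hF z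
        obtain ⟨y, hy⟩ := ih w
        exact ⟨y, by simp only at hw hy ⊢; rw [pow_succ, pow_mul, hy, hw]⟩
    obtain ⟨ybar, hy⟩ := hs e (Ideal.Quotient.mk _ c)
    obtain ⟨y, rfl⟩ := Ideal.Quotient.mk_surjective ybar
    exact ⟨y, Ideal.Quotient.eq.1 (by rw [map_pow]; exact hy.symm)⟩
  intro a
  have key : ∀ j : ℕ, ∃ y : ℕ → A, (p : A) ^ j ∣ a - ∑ i ∈ Finset.range j, (p : A) ^ i * y i ^ p ^ (n - i) := by
    intro j
    induction j with
    | zero => exact ⟨0, by simp⟩
    | succ j ih =>
      obtain ⟨y, c, hc⟩ := ih
      obtain ⟨z, hz⟩ := hroot (n - j) c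
      obtain ⟨d, hd⟩ := Ideal.mem_span_singleton.1 hz
      refine ⟨Function.update y j z, d, ?_⟩
      rw [Finset.sum_range_succ, Function.update_self,
        Finset.sum_congr rfl (g := fun i => (p : A) ^ i * y i ^ p ^ (n - i))
          (fun i hi => by rw [Function.update_of_ne (Finset.mem_range.1 hi).ne])]
      linear_combination hc + (p : A) ^ j * hd
  obtain ⟨y, c, hc⟩ := key n
  refine ⟨WittVector.truncate n (WittVector.map (Ideal.Quotient.mk (Ideal.span {(p : A)})) (WittVector.mk p y)), ?_⟩
  rw [hθ, Fin.sum_univ_eq_sum_range (fun i => (p : A) ^ i * (WittVector.mk p y).coeff i ^ p ^ (n - i)) n]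
  rw [hpn, zero_mul, sub_eq_zero] at hc
  exact hc.symm

end Groth.Agent.S18932
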