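import Groth.Statements.S18933
import Groth.Agent.SyntLib.FinitePres
import Mathlib.RingTheory.RingHom.FaithfullyFlat
import Mathlib.RingTheory.MvPolynomial.Basic
import Mathlib.RingTheory.AlgebraicIndependent.Defs

set_option autoImplicit false
universe u
open Synt

namespace Groth.Agent.S18933

open MvPolynomial in
theorem aux (p : ℕ) (hp : 0 < p) (A : Type u) [CommRing A] (m : ℕ)
    (S : Type u) [CommRing S] [Algebra (MvPolynomial (Fin m) A) S] (g : MvPolynomial (Fin m) A ≃+* S)
    (hC : ∀ a : A, algebraMap (MvPolynomial (Fin m) A) S (C a) = g (C a))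
    (hX : ∀ i, algebraMap (MvPolynomial (Fin m) A) S (X i) = g (X i) ^ p) :
    ∃ L : ((Fin m → Fin p) →₀ MvPolynomial (Fin m) A) →ₗ[MvPolynomial (Fin m) A] S,
      Function.Bijective L := by
  classical
  let mon : (Fin m →₀ ℕ) → MvPolynomial (Fin m) A := fun d => monomial d 1
  let low : (Fin m → Fin p) → (Fin m →₀ ℕ) := fun r => Finsupp.equivFunOnFinite.symm fun i => (r i : ℕ)
  have hmon : ∀ (d : Fin m →₀ ℕ) (a : A),
      algebraMap (MvPolynomial (Fin m) A) S (monomial d a) = g (monomial (p • d) a) := by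
    intro d a
    rw [monomial_eq, monomial_eq, map_mul, map_mul, hC, Finsupp.prod_fintype _ _ (fun i => pow_zero _),
      Finsupp.prod_fintype _ _ (fun i => pow_zero _), map_prod, map_prod]
    simp [hX, ← pow_mul]
  let L := Finsupp.linearCombination (MvPolynomial (Fin m) A)
    (fun r : Fin m → Fin p => g (monomial (low r) 1 : MvPolynomial (Fin m) A))
  have hL : ∀ r d a, L (Finsupp.single r (monomial d a)) = g (monomial (p • d + low r) a) := by
    intro r d a
    simp [L, Algebra.smul_def, hmon, monomial_mul, ← map_mul]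
  let e : (Σ _ : Fin m → Fin p, Fin m →₀ ℕ) ≃ (Fin m →₀ ℕ) :=
    { toFun := fun x => p • x.2 + low x.1
      invFun := fun n => ⟨fun i => ⟨n i % p, Nat.mod_lt _ hp⟩, Finsupp.equivFunOnFinite.symm fun i => n i / p⟩
      left_inv := by
        rintro ⟨r, d⟩
        refine Sigma.ext (funext fun i => Fin.ext ?_) (heq_of_eq (Finsupp.ext fun i => ?_))
        · simp [low, Nat.add_mod, Nat.mod_eq_of_lt (r i).2]
        · simp [low, Nat.mul_add_div hp, Nat.div_eq_of_lt (r i).2]
      right_inv := fun n => Finsupp.ext fun i => by simp [low, Nat.div_add_mod] }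
  let b₁ : Module.Basis (Σ _ : Fin m → Fin p, Fin m →₀ ℕ) A ((Fin m → Fin p) →₀ MvPolynomial (Fin m) A) :=
    Finsupp.basis fun _ => basisMonomials (Fin m) A
  let b₂ := (basisMonomials (Fin m) A).reindex e.symm
  let LA : ((Fin m → Fin p) →₀ MvPolynomial (Fin m) A) →ₗ[A] MvPolynomial (Fin m) A :=
    { toFun := fun v => g.symm (L v)
      map_add' := fun v w => by simp
      map_smul' := fun a v => by
        have h1 : a • v = (C a : MvPolynomial (Fin m) A) • v := by
          ext1 r
          simp [smul_eq_C_mul]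
        rw [h1, map_smul, Algebra.smul_def, hC, RingHom.id_apply, map_mul, RingEquiv.symm_apply_apply,
          smul_eq_C_mul] }
  have hLA : LA = (b₁.equiv b₂ (Equiv.refl _)).toLinearMap := by
    refine b₁.ext fun x => ?_
    obtain ⟨r, d⟩ := x
    show g.symm (L (b₁ ⟨r, d⟩)) = b₁.equiv b₂ (Equiv.refl _) (b₁ ⟨r, d⟩)
    rw [Module.Basis.equiv_apply]
    simp [b₁, b₂, hL, e]
  refine ⟨L, ?_⟩
  have hbij : Function.Bijective LA := by
    rw [hLA]
    exact (b₁.equiv b₂ (Equiv.refl _)).bijective
  have : (L : _ → S) = g ∘ LA := funext fun v => (g.apply_symm_apply _).symm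
  rw [this]
  exact g.bijective.comp hbij

open MvPolynomial in
theorem exists_presentation (p : ℕ) (A : Type u) [CommRing A] (m : ℕ)
    (S : Type u) [CommRing S] [Algebra (MvPolynomial (Fin m) A) S] (g : MvPolynomial (Fin m) A ≃+* S)
    (hC : ∀ a : A, algebraMap (MvPolynomial (Fin m) A) S (C a) = g (C a))
    (hX : ∀ i, algebraMap (MvPolynomial (Fin m) A) S (X i) = g (X i) ^ p) :
    Nonempty (Algebra.Presentation (MvPolynomial (Fin m) A) S (Fin m) (Fin m)) := by
  let P := MvPolynomial (Fin m) A
  let π : MvPolynomial (Fin m) P →ₐ[P] S := aeval (fun i => g (X i))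
  let sec0 : P →+* MvPolynomial (Fin m) P := eval₂Hom ((C : P →+* MvPolynomial (Fin m) P).comp C) X
  let sec : S →+* MvPolynomial (Fin m) P := sec0.comp (g.symm : S →+* P)
  have hsec : ∀ x, π (sec x) = x := by
    have : π.toRingHom.comp sec0 = (g : P →+* S) := by
      refine MvPolynomial.ringHom_ext (fun a => ?_) fun i => ?_
      · show π (sec0 (C a)) = g (C a)
        simp [sec0, π, hC, P]
      · show π (sec0 (X i)) = g (X i)
        rw [show sec0 (X i) = X i from eval₂Hom_X' _ _ _]
        exact aeval_X _ _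
    exact fun x => (RingHom.congr_fun this (g.symm x)).trans (g.apply_symm_apply x)
  let rel : Fin m → MvPolynomial (Fin m) P := fun i => X i ^ p - C (X i)
  let J := Ideal.span (Set.range rel)
  have hJ : ∀ f, f - sec (π f) ∈ J := by
    have : (Ideal.Quotient.mk J) = ((Ideal.Quotient.mk J).comp (sec.comp π.toRingHom)) := by
      refine MvPolynomial.ringHom_ext (fun x => ?_) fun i => ?_
      · have h2 : (Ideal.Quotient.mk J).comp C = ((Ideal.Quotient.mk J).comp (sec.comp π.toRingHom)).comp C := by
          refine MvPolynomial.ringHom_ext (fun a => ?_) fun i => ?_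
          · show Ideal.Quotient.mk J (C (C a)) = Ideal.Quotient.mk J (sec (π (C (C a))))
            simp [sec, sec0, π, hC, P]
          · show Ideal.Quotient.mk J (C (X i)) = Ideal.Quotient.mk J (sec (π (C (X i))))
            symm
            refine Ideal.Quotient.eq.2 (Ideal.subset_span ⟨i, ?_⟩)
            simp [sec, sec0, π, rel, hX, P]
        exact RingHom.congr_fun h2 x
      · show Ideal.Quotient.mk J (X i) = Ideal.Quotient.mk J (sec (π (X i)))
        simp [sec, sec0, π, P]
    exact fun f => Ideal.Quotient.eq.1 (RingHom.congr_fun this f)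
  let G := Algebra.Generators.ofSurjective (R := P) (fun i => g (X i)) ((fun x => ⟨sec x, hsec x⟩) : Function.Surjective (π : MvPolynomial (Fin m) P → S))
  refine ⟨{ toGenerators := G, relation := rel, span_range_relation_eq_ker := ?_ }⟩
  rw [G.ker_eq_ker_aeval_val]
  refine le_antisymm (Ideal.span_le.2 ?_) fun f hf => ?_
  · rintro _ ⟨i, rfl⟩
    show aeval (fun i => g (X i)) (rel i) = 0
    simp [rel, hX, P]
  · have h := hJ f
    rw [show π f = 0 from hf, map_zero, sub_zero] at h
    exact h

open MvPolynomial in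
theorem conclude (p : ℕ) (hp : 0 < p) (A : Type u) [CommRing A] (m : ℕ)
    (S : Type u) [CommRing S] [Algebra (MvPolynomial (Fin m) A) S] (g : MvPolynomial (Fin m) A ≃+* S)
    (hC : ∀ a : A, algebraMap (MvPolynomial (Fin m) A) S (C a) = g (C a))
    (hX : ∀ i, algebraMap (MvPolynomial (Fin m) A) S (X i) = g (X i) ^ p) :
    Synt.IsSyntomic (MvPolynomial (Fin m) A) S ∧ Module.FaithfullyFlat (MvPolynomial (Fin m) A) S := by
  obtain ⟨L, hL⟩ := aux p hp A m S g hC hX
  let e := LinearEquiv.ofBijective L hL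
  haveI : Module.Finite (MvPolynomial (Fin m) A) S := Module.Finite.equiv e
  haveI : Nonempty (Fin m → Fin p) := ⟨fun _ => ⟨0, hp⟩⟩
  haveI hff : Module.FaithfullyFlat (MvPolynomial (Fin m) A) S := Module.FaithfullyFlat.of_linearEquiv _ _ e.symm
  obtain ⟨P⟩ := exists_presentation p A m S g hC hX
  exact ⟨Groth.Agent.SyntLib.isSyntomic_of_presentation _ _ m P, hff⟩

/-- Let p be a prime, A a Noetherian commutative ring and m a natural number, and let φ be the A-algebra
endomorphism of the polynomial ring A[T_1, …, T_m] with φ(T_i) = T_i^p. Then φ is syntomic and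
faithfully flat (so Spec φ is a covering for the syntomic topology). -/
theorem result (p : ℕ) [Fact p.Prime]
    (A : Type u) [CommRing A] [IsNoetherianRing A] (m : ℕ)
    (φ : MvPolynomial (Fin m) A →ₐ[A] MvPolynomial (Fin m) A)
    (hφ : ∀ i : Fin m, φ (MvPolynomial.X i) = MvPolynomial.X i ^ p) :
    @Synt.IsSyntomic (MvPolynomial (Fin m) A) _ (MvPolynomial (Fin m) A) _ φ.toRingHom.toAlgebra ∧
      φ.toRingHom.FaithfullyFlat := by
  obtain ⟨h₁, h₂⟩ := @conclude p (Fact.out : p.Prime).pos A _ m _ _ φ.toRingHom.toAlgebra (RingEquiv.refl _)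
    (fun a => φ.commutes a) hφ
  exact ⟨h₁, h₂⟩

end Groth.Agent.S18933
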