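import Groth.Statements.S18936
import Mathlib
-- import your own Groth.Agent.* helpers here

set_option autoImplicit false
universe u
open CAlg

namespace Groth.Agent.S18936

/-- Let A be a Noetherian commutative ring, q a prime ideal of A and f an element of A whose image in
the localization A_q is a non-zero-divisor. Then there is an element b of A not in q such that the
image of f in A[1/b] is a non-zero-divisor. -/
theorem result {A : Type u} [CommRing A] [IsNoetherianRing A]
    (q : Ideal A) [q.IsPrime] (f : A)
    (hf : algebraMap A (Localization.AtPrime q) f ∈ nonZeroDivisors (Localization.AtPrime q)) :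
    ∃ b : A, b ∉ q ∧ algebraMap A (Localization.Away b) f ∈ nonZeroDivisors (Localization.Away b) := by
  classical
  -- the annihilator of `f` is killed away from `q`
  let J : Ideal A := (Submodule.span A ({f} : Set A)).annihilator
  obtain ⟨t, ht⟩ := (IsNoetherian.noetherian J : J.FG)
  have hz : ∀ a ∈ t, ∃ c : A, c ∉ q ∧ c * a = 0 := by
    intro a ha
    have haJ : a ∈ J := ht ▸ Ideal.subset_span ha
    have h0 : a * f = 0 := by simpa using (Submodule.mem_annihilator_span_singleton f a).1 haJ
    have : algebraMap A (Localization.AtPrime q) a = 0 := hf.2 _ (by rw [← map_mul, h0, map_zero])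
    obtain ⟨c, hc⟩ := (IsLocalization.map_eq_zero_iff q.primeCompl _ a).1 this
    exact ⟨c, c.2, hc⟩
  choose c hc1 hc2 using hz
  refine ⟨∏ a ∈ t.attach, c a.1 a.2, fun h => ?_, ?_⟩
  · obtain ⟨a, -, ha⟩ := (Ideal.IsPrime.prod_mem_iff (hp := ‹q.IsPrime›)).1 h
    exact hc1 _ _ ha
  · set b := ∏ a ∈ t.attach, c a.1 a.2
    refine mem_nonZeroDivisors_iff_right.2 fun z hz => ?_
    obtain ⟨a, s, rfl⟩ := IsLocalization.exists_mk'_eq (Submonoid.powers b) z
    have h0 : algebraMap A (Localization.Away b) (a * f) = 0 := by
      rw [map_mul, ← IsLocalization.mk'_spec' (Localization.Away b) a s, mul_assoc, hz, mul_zero]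
    obtain ⟨m, hm⟩ := (IsLocalization.map_eq_zero_iff (Submonoid.powers b) _ _).1 h0
    have hma : (m : A) * a ∈ J := by
      rw [Submodule.mem_annihilator_span_singleton, smul_eq_mul, mul_assoc, hm]
    have hker : J ≤ (Submodule.span A ({b} : Set A)).annihilator := by
      rw [← ht, Ideal.span_le]
      intro x hx
      rw [SetLike.mem_coe, Submodule.mem_annihilator_span_singleton, smul_eq_mul]
      obtain ⟨d, hd⟩ := Finset.dvd_prod_of_mem (fun a : {x // x ∈ t} => c a.1 a.2) (Finset.mem_attach t ⟨x, hx⟩)
      show x * b = 0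
      rw [show b = c x hx * d from hd, ← mul_assoc, mul_comm x, hc2 x hx, zero_mul]
    rw [IsLocalization.mk'_eq_zero_iff]
    have hb := (Submodule.mem_annihilator_span_singleton b _).1 (hker hma)
    exact ⟨⟨b, 1, pow_one b⟩ * m, by rw [Submonoid.coe_mul, mul_assoc, mul_comm, ← smul_eq_mul]; exact hb⟩

end Groth.Agent.S18936
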