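import Groth.Statements.S18943
import Mathlib
-- import your own Groth.Agent.* helpers here

set_option autoImplicit false
open scoped ContDiff
open CInfGerm MeasureTheory Topology

namespace Groth.Agent.S18943

/-- Let f be an infinitely differentiable real-valued function on the real line with f(0) = 0. Then f(x)
= x·g(x) for an infinitely differentiable function g. (The source phrases this for germs at 0: the
maximal ideal of the local ring of germs of smooth functions at the origin is generated by the
coordinate t; the global form stated here is what its argument, smooth extension of f(x)/x across 0,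
gives.) -/
theorem result (f : ℝ → ℝ) (hf : ContDiff ℝ ∞ f) (h0 : f 0 = 0) :
    ∃ g : ℝ → ℝ, ContDiff ℝ ∞ g ∧ ∀ x : ℝ, f x = x * g x := by
  have step : ∀ (n : ℕ) (h : ℝ → ℝ), ContDiff ℝ ∞ h → ∀ x : ℝ,
      HasDerivAt (fun y : ℝ => ∫ t in (0:ℝ)..1, t ^ n * h (t * y)) (∫ t in (0:ℝ)..1, t ^ (n + 1) * deriv h (t * x)) x := by
    intro n h hh x
    have hc : Continuous h := hh.continuous
    have hd : Continuous (deriv h) := hh.continuous_deriv (by simp)
    obtain ⟨C, hC⟩ := (isCompact_Icc (a := -(|x| + 1)) (b := |x| + 1)).exists_bound_of_continuousOn hd.continuousOn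
    refine (intervalIntegral.hasDerivAt_integral_of_dominated_loc_of_deriv_le
      (F := fun y t => t ^ n * h (t * y)) (F' := fun y t => t ^ (n + 1) * deriv h (t * y))
      (bound := fun _ => C) (Metric.ball_mem_nhds x one_pos) ?_ ?_ ?_ ?_ ?_ ?_).2
    · exact Filter.Eventually.of_forall fun y => (Continuous.aestronglyMeasurable (by fun_prop))
    · exact Continuous.intervalIntegrable (by fun_prop) _ _
    · exact Continuous.aestronglyMeasurable (by fun_prop)
    · refine Filter.Eventually.of_forall fun t ht y hy => ?_
      rw [Set.uIoc_of_le zero_le_one] at ht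
      rw [norm_mul, norm_pow, Real.norm_eq_abs t, abs_of_pos ht.1]
      have hy' : |y| ≤ |x| + 1 := by
        rw [Metric.mem_ball, Real.dist_eq] at hy
        have := abs_sub_abs_le_abs_sub y x
        linarith
      have hm : |t * y| ≤ |x| + 1 := by
        rw [abs_mul, abs_of_pos ht.1]
        nlinarith [abs_nonneg y, ht.2]
      refine le_trans ?_ (hC (t * y) (abs_le.mp hm))
      exact mul_le_of_le_one_left (norm_nonneg _) (pow_le_one₀ ht.1.le ht.2)
    · exact intervalIntegrable_const
    · refine Filter.Eventually.of_forall fun t _ y _ => ?_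
      have h1 : HasDerivAt (fun y : ℝ => t * y) t y := by simpa using (hasDerivAt_id y).const_mul t
      have h2 := (((hh.differentiable (by simp)).differentiableAt).hasDerivAt.comp y h1).const_mul (t ^ n)
      refine h2.congr_deriv ?_
      ring
  have smooth : ∀ (m n : ℕ) (h : ℝ → ℝ), ContDiff ℝ ∞ h →
      ContDiff ℝ m (fun y : ℝ => ∫ t in (0:ℝ)..1, t ^ n * h (t * y)) := by
    intro m
    induction m with
    | zero => exact fun n h hh => contDiff_zero.mpr (continuous_iff_continuousAt.mpr fun x => (step n h hh x).continuousAt)
    | succ m ih =>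
      intro n h hh
      rw [Nat.cast_add, Nat.cast_one, contDiff_succ_iff_deriv]
      refine ⟨fun x => (step n h hh x).differentiableAt, by simp, ?_⟩
      rw [funext fun x => (step n h hh x).deriv]
      exact ih (n + 1) (deriv h) (contDiff_infty_iff_deriv.mp hh).2
  have hd' : ContDiff ℝ ∞ (deriv f) := (contDiff_infty_iff_deriv.mp hf).2
  refine ⟨fun y => ∫ t in (0:ℝ)..1, t ^ 0 * deriv f (t * y), contDiff_infty.mpr fun m => smooth m 0 _ hd', fun x => ?_⟩
  have hft := intervalIntegral.integral_eq_sub_of_hasDerivAt (f := fun t : ℝ => f (t * x)) (f' := fun t => x * deriv f (t * x)) (a := 0) (b := 1)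
    (fun t _ => by
      have h1 : HasDerivAt (fun t : ℝ => t * x) x t := by simpa using (hasDerivAt_id t).mul_const x
      have h2 := ((hf.differentiable (by simp)).differentiableAt).hasDerivAt.comp t h1
      exact h2.congr_deriv (mul_comm _ _))
    (Continuous.intervalIntegrable (by have := hd'.continuous; fun_prop) _ _)
  simp only [pow_zero, one_mul]
  rw [← intervalIntegral.integral_const_mul, hft]
  simp [h0]

end Groth.Agent.S18943
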