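import Groth.Statements.S18945
import Groth.Agent.SyntLib.AdjoinRoot
import Mathlib.AlgebraicGeometry.Cover.MorphismProperty
import Mathlib.RingTheory.Flat.FaithfullyFlat.Algebra

set_option autoImplicit false
universe u
open CategoryTheory AlgebraicGeometry
open Synt

namespace Groth.Agent.S18945

variable (p : ℕ) [Fact p.Prime] (X : Scheme.{u}) (a : Γ(X, ⊤))

noncomputable abbrev rootPoly (V : X.affineOpens) : Polynomial Γ(X, V.1) :=
  Polynomial.X ^ p - Polynomial.C (X.presheaf.map (homOfLE (le_top : V.1 ≤ ⊤)).op a)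

noncomputable abbrev rootRing (V : X.affineOpens) : CommRingCat.{u} :=
  CommRingCat.of (AdjoinRoot (rootPoly p X a V))

noncomputable abbrev rootMap (V : X.affineOpens) : Γ(X, V.1) ⟶ rootRing p X a V :=
  CommRingCat.ofHom (AdjoinRoot.of (rootPoly p X a V))

noncomputable abbrev rootHom (V : X.affineOpens) : Spec (rootRing p X a V) ⟶ X :=
  Spec.map (rootMap p X a V) ≫ V.2.fromSpec

omit [Fact p.Prime] in
theorem top_le (V : X.affineOpens) : (⊤ : (Spec (rootRing p X a V)).Opens) ≤ rootHom p X a V ⁻¹ᵁ V.1 := by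
  intro y _
  show V.2.fromSpec _ ∈ (V.1 : Set X)
  rw [← V.2.range_fromSpec]
  exact Set.mem_range_self _

omit [Fact p.Prime] in
theorem appLE_eq (V : X.affineOpens) :
    (rootHom p X a V).appLE V.1 ⊤ (top_le p X a V) = rootMap p X a V ≫ (Scheme.ΓSpecIso _).inv := by
  have h1 : V.2.fromSpec.appLE V.1 ⊤ (by rw [V.2.fromSpec_preimage_self]) = (Scheme.ΓSpecIso Γ(X, V.1)).inv := by
    rw [Scheme.Hom.appLE, V.2.fromSpec_app_self, Category.assoc]
    erw [← Functor.map_comp]
    conv_rhs => rw [← Category.comp_id (Scheme.ΓSpecIso Γ(X, V.1)).inv]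
    congr 1
  have h2 := Scheme.Hom.appLE_comp_appLE (Spec.map (rootMap p X a V)) V.2.fromSpec V.1 ⊤ ⊤
    (by rw [V.2.fromSpec_preimage_self]) le_top
  rw [← h2, h1, Scheme.ΓSpecIso_inv_naturality]
  congr 1

theorem isSyntomicMor_rootHom (V : X.affineOpens) : Synt.IsSyntomicMor (rootHom p X a V) := by
  intro y
  refine ⟨⟨⊤, isAffineOpen_top _⟩, V, top_le p X a V, trivial, ?_⟩
  let α := ((rootHom p X a V).appLE V.1 ⊤ (top_le p X a V)).hom
  letI := α.toAlgebra
  let e : Γ(Spec (rootRing p X a V), ⊤) ≃ₐ[Γ(X, V.1)] AdjoinRoot (rootPoly p X a V) :=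
    AlgEquiv.ofRingEquiv (f := (Scheme.ΓSpecIso (rootRing p X a V)).commRingCatIsoToRingEquiv) fun r => by
      show (Scheme.ΓSpecIso (rootRing p X a V)).hom (((rootHom p X a V).appLE V.1 ⊤ (top_le p X a V)) r) = _
      rw [← CommRingCat.comp_apply, appLE_eq, Category.assoc, Iso.inv_hom_id, Category.comp_id]
      rfl
  exact Groth.Agent.SyntLib.isSyntomic_of_equiv_adjoinRoot _ _ _
    (Polynomial.monic_X_pow_sub_C _ (Fact.out : p.Prime).ne_zero) e

/-- Let p be a prime, X a scheme and a a global section of the structure sheaf of X. There is a covering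
of X for the syntomic topology, that is a jointly surjective family of syntomic morphisms X_i → X,
such that the restriction of a to each X_i is a p-th power. (The source states the surjectivity of
the p-th power map of the structure sheaf on the small syntomic site of a syntomic scheme over a
perfect field of characteristic p; the covering it uses elsewhere, adjoining a p-th root T^p = a
over affine pieces, gives the statement for every scheme, which is the form given here.) -/
theorem result (p : ℕ) [Fact p.Prime] (X : Scheme.{u}) (a : Γ(X, ⊤)) :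
    ∃ 𝒰 : Scheme.Cover.{u} (Scheme.precoverage @Synt.IsSyntomicMor) X,
      ∀ i : 𝒰.I₀, ∃ b : Γ(𝒰.X i, ⊤), b ^ p = (𝒰.f i).appTop a := by
  refine ⟨{ I₀ := X.affineOpens
            X := fun V => Spec (rootRing p X a V)
            f := fun V => rootHom p X a V
            mem₀ := (Scheme.presieve₀_mem_precoverage_iff _).2 ⟨fun x => ?_, isSyntomicMor_rootHom p X a⟩ }, fun V => ?_⟩
  · obtain ⟨V, hV, hxV, -⟩ := exists_isAffineOpen_mem_and_subset (x := x) (U := (⊤ : X.Opens)) trivial
    refine ⟨⟨V, hV⟩, ?_⟩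
    have hg := Polynomial.monic_X_pow_sub_C (X.presheaf.map (homOfLE (le_top : V ≤ ⊤)).op a) (Fact.out : p.Prime).ne_zero
    haveI := hg.free_adjoinRoot
    haveI := hg.finite_adjoinRoot
    haveI : Module.FaithfullyFlat Γ(X, V) (AdjoinRoot (rootPoly p X a ⟨V, hV⟩)) := by
      haveI : Nontrivial Γ(X, V) := (hV.primeIdealOf ⟨x, hxV⟩).nontrivial
      haveI : Nonempty (Fin (AdjoinRoot.powerBasis' hg).dim) := ⟨⟨0, by
        rw [AdjoinRoot.powerBasis'_dim, Polynomial.natDegree_X_pow_sub_C]
        exact (Fact.out : p.Prime).pos⟩⟩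
      haveI : Nontrivial (AdjoinRoot (rootPoly p X a ⟨V, hV⟩)) :=
        (AdjoinRoot.powerBasis' hg).basis.repr.toEquiv.nontrivial
      infer_instance
    obtain ⟨q, hq⟩ := PrimeSpectrum.comap_surjective_of_faithfullyFlat (A := Γ(X, V))
      (B := AdjoinRoot (rootPoly p X a ⟨V, hV⟩)) (hV.primeIdealOf ⟨x, hxV⟩)
    refine ⟨q, ?_⟩
    show hV.fromSpec (PrimeSpectrum.comap _ q) = x
    exact (congrArg hV.fromSpec hq).trans (hV.fromSpec_primeIdealOf ⟨x, hxV⟩)
  · refine ⟨(Scheme.ΓSpecIso (rootRing p X a V)).inv (AdjoinRoot.root (rootPoly p X a V)), ?_⟩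
    rw [← map_pow]
    have h : (rootHom p X a V).appTop = X.presheaf.map (homOfLE (le_top : V.1 ≤ ⊤)).op ≫
        rootMap p X a V ≫ (Scheme.ΓSpecIso _).inv := by
      rw [← appLE_eq p X a V, Scheme.Hom.map_appLE]
      simp [Scheme.Hom.appLE]
    show _ = (rootHom p X a V).appTop a
    rw [h]
    refine congrArg (Scheme.ΓSpecIso (rootRing p X a V)).inv ?_
    have := AdjoinRoot.eval₂_root (rootPoly p X a V)
    rw [Polynomial.eval₂_sub, Polynomial.eval₂_pow, Polynomial.eval₂_X, Polynomial.eval₂_C, sub_eq_zero] at this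
    exact this

end Groth.Agent.S18945
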