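import Groth.Statements.S18948
import Mathlib.GroupTheory.GroupAction.ConjAct
import Mathlib.Data.Set.Function
import Mathlib.Tactic.Group

set_option autoImplicit false
universe u v
open CExt

namespace Groth.Agent.S18948

/-- Let f : E → G be a surjective homomorphism of groups whose kernel is central in E, and let x ∈ E.
Then f maps the conjugacy class of x bijectively onto the conjugacy class of f(x) if and only if
every element of G commuting with f(x) is the image of some element of E commuting with x. (In the
source E → G is the central extension, with kernel the roots of unity, attached to a Brauer class of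
the classifying stack of a finite tame étale group scheme, and a conjugacy class of E mapping
bijectively onto a given class of G is a marking; the equivalence is stated here for an arbitrary
central extension of abstract groups.) -/
theorem result {E : Type u} {G : Type v} [Group E] [Group G]
    (f : E →* G) (hf : Function.Surjective f) (hker : f.ker ≤ Subgroup.center E) (x : E) :
    Set.BijOn f (MulAction.orbit (ConjAct E) x) (MulAction.orbit (ConjAct G) (f x)) ↔
      ∀ g : G, g * f x = f x * g → ∃ e : E, f e = g ∧ e * x = x * e := by
  constructor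
  · intro h g hg
    obtain ⟨e, rfl⟩ := hf g
    refine ⟨e, rfl, ?_⟩
    have h1 : e * x * e⁻¹ ∈ MulAction.orbit (ConjAct E) x := ⟨ConjAct.toConjAct e, by simp [ConjAct.smul_def]⟩
    have h2 : f (e * x * e⁻¹) = f x := by rw [map_mul, map_mul, map_inv, hg]; group
    have := h.injOn h1 (MulAction.mem_orbit_self x) h2
    calc e * x = e * x * e⁻¹ * e := by group
      _ = x * e := by rw [this]
  · intro h
    refine ⟨?_, ?_, ?_⟩
    · rintro _ ⟨a, rfl⟩
      exact ⟨ConjAct.toConjAct (f (ConjAct.ofConjAct a)), by simp [ConjAct.smul_def]⟩
    · rintro _ ⟨a, rfl⟩ _ ⟨b, rfl⟩ hab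
      simp only [ConjAct.smul_def, map_mul, map_inv] at hab ⊢
      set a' := ConjAct.ofConjAct a
      set b' := ConjAct.ofConjAct b
      obtain ⟨e, he, hex⟩ := h ((f b')⁻¹ * f a') (by
        calc (f b')⁻¹ * f a' * f x = (f b')⁻¹ * (f a' * f x * (f a')⁻¹) * f a' := by group
          _ = f x * ((f b')⁻¹ * f a') := by rw [hab]; group)
      have hz : (b' * e)⁻¹ * a' ∈ Subgroup.center E := hker (by rw [MonoidHom.mem_ker, map_mul, map_inv, map_mul, he]; group)
      have hzx := Subgroup.mem_center_iff.1 hz x
      calc a' * x * a'⁻¹ = b' * e * ((b' * e)⁻¹ * a' * x) * a'⁻¹ := by group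
        _ = b' * (e * x) * e⁻¹ * b'⁻¹ := by rw [← hzx]; group
        _ = b' * x * b'⁻¹ := by rw [hex]; group
    · rintro _ ⟨a, rfl⟩
      obtain ⟨e, he⟩ := hf (ConjAct.ofConjAct a)
      exact ⟨ConjAct.toConjAct e • x, ⟨_, rfl⟩, by simp [ConjAct.smul_def, he]⟩

end Groth.Agent.S18948
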