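import Groth.Statements.S18950
import Mathlib.Algebra.Group.Subgroup.Map
import Mathlib.GroupTheory.Subgroup.Center

set_option autoImplicit false
universe u v
open CExt

namespace Groth.Agent.S18950

/-- Let f : E → G be a homomorphism of groups whose kernel is central in E, let α be an endomorphism of
E with f ∘ α = f which is the identity on the kernel, and let S ⊆ E be a subset fixed pointwise by α
such that f(S) generates G. Then α is the identity. (In the source S is the marking of a marked
central extension of finite tame étale group schemes and the hypothesis is that the marked conjugacy
classes generate G; the conclusion there is that a morphism of marked extensions inducing the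
identity on the kernel and on G is unique.) -/
theorem result {E : Type u} {G : Type v} [Group E] [Group G]
    (f : E →* G) (hker : f.ker ≤ Subgroup.center E) (α : E →* E) (hα : f.comp α = f)
    (hαA : ∀ a ∈ f.ker, α a = a) (S : Set E) (hS : Subgroup.closure (f '' S) = ⊤)
    (hαS : ∀ s ∈ S, α s = s) : α = MonoidHom.id E := by
  ext x
  have hfx : f x ∈ (Subgroup.closure S).map f := by rw [MonoidHom.map_closure, hS]; trivial
  obtain ⟨e, he, hfe⟩ := hfx
  have hαe : α e = e := MonoidHom.eqOn_closure (f := α) (g := MonoidHom.id E) hαS he
  have hk : e⁻¹ * x ∈ f.ker := by simp [MonoidHom.mem_ker, hfe]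
  have h1 := hαA _ hk
  rw [map_mul, map_inv, hαe] at h1
  exact mul_left_cancel h1

end Groth.Agent.S18950
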