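import Groth.Statements.S18956
import Groth.Agent.Misc9.MagnetDom
import Mathlib.CategoryTheory.Limits.Shapes.Pullback.IsPullback.Basic
import Mathlib.CategoryTheory.Limits.Types.Pullbacks
-- import your own Groth.Agent.* helpers here

set_option autoImplicit false
universe u
open CategoryTheory MonoidalCategory CartesianMonoidalCategory MonObj AlgebraicGeometry Opposite
open Magnet

namespace Groth.Agent.S18956

/-- Let k be a field, M an affine monoid k-scheme, G an affine group k-scheme and i : G → M a
homomorphism of monoids which is a quasi-compact open immersion with scheme-theoretically dense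
image. Let X be a k-scheme with an action aX of G, and j : Z → X a closed immersion which is
G-equivariant for an action aZ of G on Z (a closed G-stable subscheme). For a G-scheme W write D_W
for the functor on k-schemes whose value at Y is the set of k-morphisms M ×_k Y → W that are
G-equivariant for G acting on M ×_k Y by left multiplication through i on the first factor. Then the
square of presheaves formed by D_Z → D_X (composition with j), the restrictions D_Z → Z and D_X → X
to the unit section of M, and j is cartesian. (The published statement takes G to be the group of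
units of M, open and schematically dense; here it is assumed only that i is a homomorphism of
monoids and a quasi-compact, scheme-theoretically dominant open immersion.) -/
theorem result (k : Type u) [Field k]
    (M G X Z : Over (Spec (CommRingCat.of k))) [MonObj M] [GrpObj G] [IsAffine M.left] [IsAffine G.left]
    (i : G ⟶ M) [IsMonHom i] [IsOpenImmersion i.left] [QuasiCompact i.left]
    [IsSchemeTheoreticallyDominant i.left]
    (aX : AlgGrp.Action G X) (aZ : AlgGrp.Action G Z) (j : Z ⟶ X) [IsClosedImmersion j.left]
    (hj : Magnet.MonAct.IsEquivariant (Magnet.MonAct.ofAction aZ) (Magnet.MonAct.ofAction aX) j) :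
    IsPullback
      (Magnet.MonAct.eqvHom.postcomp ((Magnet.MonAct.regular M).restrict i) j hj)
      (Magnet.MonAct.eqvHom.evalAt ((Magnet.MonAct.regular M).restrict i) (Magnet.MonAct.ofAction aZ) η[M])
      (Magnet.MonAct.eqvHom.evalAt ((Magnet.MonAct.regular M).restrict i) (Magnet.MonAct.ofAction aX) η[M])
      (yoneda.map j) := by
  haveI : Mono j := Groth.Agent.Misc9.MagnetDom.mono_of_closedImmersion j
  refine IsPullback.of_forall_isPullback_app fun T => ?_
  rw [CategoryTheory.Limits.Types.isPullback_iff]
  refine ⟨?_, ?_, ?_⟩
  · exact ConcreteCategory.hom_ext _ _ fun φ => (Category.assoc _ φ.1 j).symm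
  · rintro x y ⟨h1, -⟩
    exact Subtype.ext ((cancel_mono j).mp (congrArg Subtype.val h1))
  · intro φ z hz
    have hφ := Groth.Agent.Misc9.MagnetDom.whiskerRight_comp_eq i (MonAct.ofAction aX) φ.1 φ.2
    have hz' : lift (toUnit _ ≫ η[M]) (𝟙 _) ≫ φ.1 = z ≫ j := hz
    have key : ((G ◁ z) ≫ aZ.act) ≫ j = (i ▷ unop T) ≫ φ.1 := by
      have h := hj
      unfold MonAct.IsEquivariant at h
      rw [MonAct.ofAction_act, MonAct.ofAction_act] at h
      rw [hφ, hz', MonoidalCategory.whiskerLeft_comp, Category.assoc, Category.assoc, h, MonAct.ofAction_act]
    obtain ⟨l, hl⟩ := Groth.Agent.Misc9.MagnetDom.over_lift j (i ▷ unop T)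
      (Groth.Agent.Misc9.MagnetDom.schDom_whiskerRight_field i _) φ.1 _ key
    refine ⟨⟨l, ?_⟩, Subtype.ext hl, ?_⟩
    · have h := φ.2
      have h' := hj
      unfold MonAct.IsEquivariant at h h' ⊢
      rw [← cancel_mono j, Category.assoc, Category.assoc, hl, h, h', ← MonoidalCategory.whiskerLeft_comp_assoc, hl]
    · show lift (toUnit _ ≫ η[M]) (𝟙 _) ≫ l = z
      rw [← cancel_mono j, Category.assoc, hl, hz']

end Groth.Agent.S18956
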