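import Groth.Statements.S18958
import Mathlib.CategoryTheory.Limits.Shapes.Pullback.IsPullback.Basic
import Mathlib.CategoryTheory.Limits.Types.Pullbacks
import Mathlib.AlgebraicGeometry.PullbackCarrier
import Mathlib.AlgebraicGeometry.ResidueField
-- import your own Groth.Agent.* helpers here

set_option autoImplicit false
open CategoryTheory.Limits
universe u
open CategoryTheory MonoidalCategory CartesianMonoidalCategory MonObj AlgebraicGeometry Opposite
open Magnet

namespace Groth.Agent.S18958

/-- Let k be a field, G a group k-scheme and M a monoid k-scheme with a homomorphism of monoids i : G →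
M and a zero o : Spec k → M (m·o = o = o·m for every point m of M). Assume that for every k-scheme T
whose underlying scheme is the spectrum of a field K, every open subset of M ×_k T which is stable
under G acting by left multiplication through i on the first factor and which contains the zero
section T → M ×_k T is the whole of M ×_k T. Let X be a k-scheme with an action aX of G and j : U →
X an open immersion, G-equivariant for an action aU of G on U (an open G-stable subscheme). For a
G-scheme W write D_W for the functor on k-schemes whose value at Y is the set of k-morphisms M ×_k Y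
→ W that are G-equivariant for G acting on M ×_k Y by left multiplication through i on the first
factor. Then the square of presheaves formed by D_U → D_X (composition with j), the restrictions D_U
→ U and D_X → X to the zero section of M, and j is cartesian. (In the source M is a Kempf monoid
with G its group of units, and the restriction to the zero section is viewed as the retraction of
D_X onto the fixed points X^G; the displayed property of the open G-stable subsets of M over field
extensions is what the argument uses about M, and the square over X^G is cartesian exactly when the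
one over X is, U^G being X^G ×_X U.) -/
theorem result (k : Type u) [Field k]
    (M G X U : Over (Spec (CommRingCat.of k))) [MonObj M] [GrpObj G] (i : G ⟶ M) [IsMonHom i]
    (o : 𝟙_ (Over (Spec (CommRingCat.of k))) ⟶ M)
    (ho : ∀ (T : Over (Spec (CommRingCat.of k))) (m : T ⟶ M), m * (toUnit T ≫ o) = toUnit T ≫ o ∧ (toUnit T ≫ o) * m = toUnit T ≫ o)
    (hM : ∀ (T : Over (Spec (CommRingCat.of k))) (K : Type u) [Field K] (eT : T.left ≅ Spec (CommRingCat.of K))
      (W : (M ⊗ T).left.Opens),
      (CartesianMonoidalCategory.snd G (M ⊗ T)).left ⁻¹ᵁ W ≤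
          ((((Magnet.MonAct.regular M).restrict i).prod (Magnet.MonAct.trivial G T)).act).left ⁻¹ᵁ W →
      (CartesianMonoidalCategory.lift (toUnit T ≫ o) (𝟙 T)).left ⁻¹ᵁ W = ⊤ → W = ⊤)
    (aX : AlgGrp.Action G X) (aU : AlgGrp.Action G U) (j : U ⟶ X) [IsOpenImmersion j.left]
    (hj : Magnet.MonAct.IsEquivariant (Magnet.MonAct.ofAction aU) (Magnet.MonAct.ofAction aX) j) :
    IsPullback
      (Magnet.MonAct.eqvHom.postcomp ((Magnet.MonAct.regular M).restrict i) j hj)
      (Magnet.MonAct.eqvHom.evalAt ((Magnet.MonAct.regular M).restrict i) (Magnet.MonAct.ofAction aU) o)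
      (Magnet.MonAct.eqvHom.evalAt ((Magnet.MonAct.regular M).restrict i) (Magnet.MonAct.ofAction aX) o)
      (yoneda.map j) := by
  haveI : Mono j := (Over.forget _).mono_of_mono_map (show Mono j.left from inferInstance)
  have range_wl : ∀ (P Q Q' : Over (Spec (CommRingCat.of k))) (q : Q' ⟶ Q) (x : (P ⊗ Q).left),
      (snd P Q).left x ∈ Set.range q.left → x ∈ Set.range (P ◁ q).left := by
    intro P Q Q' q x hx
    obtain ⟨y, hy⟩ := hx
    have hpb : IsPullback (P ◁ q).left (snd P Q').left (snd P Q).left q.left := by
      have hQ : IsPullback (fst P Q).left (snd P Q).left P.hom Q.hom := IsPullback.of_hasPullback _ _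
      have hQ' : IsPullback (fst P Q').left (snd P Q').left P.hom Q'.hom := IsPullback.of_hasPullback _ _
      refine IsPullback.of_right ?_ ?_ hQ
      · rw [← Over.comp_left, whiskerLeft_fst, Over.w q]; exact hQ'
      · rw [← Over.comp_left, ← Over.comp_left, whiskerLeft_snd]
    obtain ⟨p, hp, -⟩ := Scheme.exists_preimage_of_isPullback hpb x y hy.symm
    exact ⟨p, hp⟩
  refine IsPullback.of_forall_isPullback_app fun T => ?_
  rw [CategoryTheory.Limits.Types.isPullback_iff]
  refine ⟨?_, ?_, ?_⟩
  · exact ConcreteCategory.hom_ext _ _ fun φ => (Category.assoc _ φ.1 j).symm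
  · rintro x y ⟨h1, -⟩
    exact Subtype.ext ((cancel_mono j).mp (congrArg Subtype.val h1))
  · intro φ z hz
    have hz' : lift (toUnit _ ≫ o) (𝟙 _) ≫ φ.1 = z ≫ j := hz
    have hrange : Set.range φ.1.left ⊆ Set.range j.left := by
      rintro _ ⟨w, rfl⟩
      let y : (unop T).left := (snd M (unop T)).left w
      let T₀ : Over (Spec (CommRingCat.of k)) :=
        Over.mk ((unop T).left.fromSpecResidueField y ≫ (unop T).hom)
      let t : T₀ ⟶ unop T := Over.homMk ((unop T).left.fromSpecResidueField y) rfl
      let φ₀ := ((Magnet.MonAct.eqvHom ((Magnet.MonAct.regular M).restrict i) (Magnet.MonAct.ofAction aX)).map t.op φ)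
      let W : (M ⊗ T₀).left.Opens := φ₀.1.left ⁻¹ᵁ j.left.opensRange
      have hW : W = ⊤ := by
        refine hM T₀ ((unop T).left.residueField y) (Iso.refl _) W ?_ ?_
        · intro x hx
          have h := φ₀.2
          unfold MonAct.IsEquivariant at h
          have hjU := hj
          unfold MonAct.IsEquivariant at hjU
          show (((((MonAct.regular M).restrict i).prod (MonAct.trivial G T₀)).act).left ≫ φ₀.1.left) x ∈ j.left.opensRange
          rw [← Over.comp_left]
          obtain ⟨x', hx'⟩ : (G ◁ φ₀.1).left x ∈ Set.range (G ◁ j).left := by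
            refine range_wl _ _ _ j _ ?_
            rw [← Scheme.Hom.comp_apply, ← Over.comp_left, whiskerLeft_snd, Over.comp_left, Scheme.Hom.comp_apply]
            exact hx
          rw [show ((((MonAct.regular M).restrict i).prod (MonAct.trivial G T₀)).act ≫ φ₀.1) = _ from h,
            Over.comp_left, Scheme.Hom.comp_apply, ← hx', ← Scheme.Hom.comp_apply, ← Over.comp_left,
            ← hjU, Over.comp_left, Scheme.Hom.comp_apply]
          exact ⟨_, rfl⟩
        · refine eq_top_iff.mpr fun s _ => ?_
          show ((lift (toUnit T₀ ≫ o) (𝟙 T₀)).left ≫ φ₀.1.left) s ∈ j.left.opensRange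
          rw [← Over.comp_left]
          have e : lift (toUnit T₀ ≫ o) (𝟙 T₀) ≫ φ₀.1 = t ≫ z ≫ j := by
            show lift (toUnit T₀ ≫ o) (𝟙 T₀) ≫ (M ◁ t) ≫ φ.1 = _
            rw [← hz', lift_whiskerLeft_assoc, comp_lift_assoc, Category.comp_id, ← Category.assoc t,
              comp_toUnit, Category.id_comp]
          rw [e, Over.comp_left, Over.comp_left, ← Category.assoc, Scheme.Hom.comp_apply]
          exact ⟨_, rfl⟩
      obtain ⟨w₀, hw₀⟩ : w ∈ Set.range (M ◁ t).left := by
        refine range_wl _ _ _ t _ ?_
        exact ⟨IsLocalRing.closedPoint _, (unop T).left.fromSpecResidueField_apply y _⟩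
      have h0 : w₀ ∈ W := by rw [hW]; trivial
      change (((M ◁ t) ≫ φ.1).left) w₀ ∈ j.left.opensRange at h0
      rw [Over.comp_left, Scheme.Hom.comp_apply, hw₀] at h0
      exact h0
    let l : M ⊗ unop T ⟶ U := Over.homMk (IsOpenImmersion.lift j.left φ.1.left hrange) (by
      rw [← Over.w j, ← Category.assoc, IsOpenImmersion.lift_fac, Over.w])
    have hl : l ≫ j = φ.1 := by
      ext1
      exact IsOpenImmersion.lift_fac _ _ _
    refine ⟨⟨l, ?_⟩, Subtype.ext hl, ?_⟩
    · have h := φ.2
      have h' := hj
      unfold MonAct.IsEquivariant at h h' ⊢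
      rw [← cancel_mono j, Category.assoc, Category.assoc, hl, h, h', ← MonoidalCategory.whiskerLeft_comp_assoc, hl]
    · show lift (toUnit _ ≫ o) (𝟙 _) ≫ l = z
      rw [← cancel_mono j, Category.assoc, hl, hz']

end Groth.Agent.S18958
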