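import Groth.Statements.S18960
import Mathlib.CategoryTheory.Endofunctor.Algebra

set_option autoImplicit false
universe w' w v u
open CategoryTheory Limits
open CatLim

namespace Groth.Agent.S18960

/-- Let C be a category and T an endofunctor of C; let C(T) be the category whose objects are pairs (X,
u) with u : T X → X an isomorphism and whose morphisms (X, u) → (Y, w) are the morphisms X → Y
compatible with u and w — the full subcategory of T-algebras with invertible structure map — and let
π : C(T) → C be the forgetful functor. If T preserves colimits of shape J then π creates colimits of
shape J. (The source assumes T preserves all small colimits and concludes for all small shapes; the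
argument is shape by shape.) -/
theorem result {C : Type u} [Category.{v} C] (T : C ⥤ C)
    (J : Type w) [Category.{w'} J] [PreservesColimitsOfShape J T] :
    Nonempty (CreatesColimitsOfShape J
      ((ObjectProperty.ι (fun A : Endofunctor.Algebra T => IsIso A.str)) ⋙ Endofunctor.Algebra.forget T)) := by
  let P : ObjectProperty (Endofunctor.Algebra T) := fun A => IsIso A.str
  refine ⟨⟨fun {K} => createsColimitOfReflectsIso fun c t => ?_⟩⟩
  haveI : ∀ j, IsIso (K.obj j).obj.str := fun j => (K.obj j).property
  let G : J ⥤ C := K ⋙ (ObjectProperty.ι P ⋙ Endofunctor.Algebra.forget T)
  let c' : Cocone G := c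
  let ht := isColimitOfPreserves T (show IsColimit c' from t)
  let w : G ⋙ T ≅ G := NatIso.ofComponents (fun j => @asIso _ _ _ _ (K.obj j).obj.str (K.obj j).property)
    (fun {i j} f => (K.map f).hom.h)
  let e := IsColimit.coconePointsIsoOfNatIso ht (show IsColimit c' from t) w
  have he : ∀ j, T.map (c'.ι.app j) ≫ e.hom = (K.obj j).obj.str ≫ c'.ι.app j := fun j =>
    IsColimit.comp_coconePointsIsoOfNatIso_hom ht _ w j
  refine { liftedCocone := { pt := ⟨⟨c'.pt, e.hom⟩, (inferInstance : IsIso e.hom)⟩,
                             ι := { app := fun j => ObjectProperty.homMk ⟨c'.ι.app j, he j⟩,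
                                    naturality := fun i j f => by
                                      apply ObjectProperty.hom_ext
                                      ext
                                      exact c'.ι.naturality f } },
           validLift := Cocone.ext (Iso.refl _) (fun j => Category.comp_id _),
           makesColimit := ?_ }
  exact
    { desc := fun s => ObjectProperty.homMk
        ⟨t.desc ((ObjectProperty.ι P ⋙ Endofunctor.Algebra.forget T).mapCocone s), ht.hom_ext fun j => by
          show T.map (c'.ι.app j) ≫ T.map _ ≫ _ = T.map (c'.ι.app j) ≫ e.hom ≫ _
          have h1 := t.fac ((ObjectProperty.ι P ⋙ Endofunctor.Algebra.forget T).mapCocone s) j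
          exact (Category.assoc _ _ _).symm.trans
            (((congrArg (· ≫ s.pt.obj.str) ((T.map_comp _ _).symm.trans (congrArg T.map h1))).trans
              (s.ι.app j).hom.h).trans
              (((congrArg ((K.obj j).obj.str ≫ ·) h1.symm).trans (Category.assoc _ _ _).symm).trans
                ((congrArg (· ≫ _) (he j).symm).trans (Category.assoc _ _ _))))⟩
      fac := fun s j => by
        apply ObjectProperty.hom_ext
        ext
        exact t.fac _ j
      uniq := fun s m hm => by
        apply ObjectProperty.hom_ext
        ext
        exact t.uniq ((ObjectProperty.ι P ⋙ Endofunctor.Algebra.forget T).mapCocone s) m.hom.f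
          fun j => congrArg (fun q => q.hom.f) (hm j) }

end Groth.Agent.S18960
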