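import Groth.Statements.S18961
import Mathlib.RingTheory.Smooth.Locus
import Mathlib.RingTheory.MvPolynomial.Ideal
import Mathlib.RingTheory.Nilpotent.Lemmas

set_option autoImplicit false
universe u
open BBDec

namespace Groth.Agent.S18961

/-- Let k be a field, A a finitely generated k-algebra and B a finitely generated A-algebra graded by
the natural numbers as an A-algebra, with degree-zero part equal to the image of A and A → B
injective; let B₊ be the irrelevant ideal. So Spec B → Spec A is the retraction of an affine scheme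
with an action of the multiplicative monoid of the affine line onto its fixed-point scheme, with
zero section cut out by B₊; this is the affine-local graded form, for that monoid, of the published
statement, which covers any Kempf monoid M with unit group G and a k-scheme X locally of finite
type, and concludes that the retraction X⁺ → X^G is an affine-space bundle near a fixed point at
whose section value it is smooth. Assume that A → B is smooth at every prime ideal containing B₊ and
that B₊/B₊² is a free A-module of finite rank. Then B is isomorphic, as an A-algebra, to the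
polynomial ring over A in (rank of B₊/B₊²) variables. (The published statement also makes the
isomorphism equivariant for a suitable linear action when G is linearly reductive; only the
existence of an A-algebra isomorphism is stated here. Freeness of the conormal module holds after
shrinking the base, which is how the published proof reaches this situation.) -/
theorem result (k : Type u) [Field k]
    (A B : Type u) [CommRing A] [CommRing B] [Algebra k A] [Algebra k B] [Algebra A B] [IsScalarTower k A B]
    [Algebra.FiniteType k A] [Algebra.FiniteType A B] (𝒜 : ℕ → Submodule A B) [GradedAlgebra 𝒜]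
    (h0 : ∀ b : B, b ∈ 𝒜 0 ↔ b ∈ Set.range (algebraMap A B)) (hinj : Function.Injective (algebraMap A B))
    (hsm : ∀ (P : Ideal B) [P.IsPrime], (HomogeneousIdeal.irrelevant 𝒜).toIdeal ≤ P → Algebra.IsSmoothAt A P)
    [Module.Free A (HomogeneousIdeal.irrelevant 𝒜).toIdeal.Cotangent]
    [Module.Finite A (HomogeneousIdeal.irrelevant 𝒜).toIdeal.Cotangent] :
    Nonempty (B ≃ₐ[A]
      MvPolynomial (Fin (Module.finrank A (HomogeneousIdeal.irrelevant 𝒜).toIdeal.Cotangent)) A) := by
  classical
  set I : Ideal B := (HomogeneousIdeal.irrelevant 𝒜).toIdeal with hI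
  rcases subsingleton_or_nontrivial A with hA | hA
  · have : Subsingleton B := by
      refine subsingleton_of_zero_eq_one ?_
      rw [← map_one (algebraMap A B), Subsingleton.elim (1 : A) 0, map_zero]
    exact ⟨(AlgEquiv.ofBijective (MvPolynomial.aeval (fun _ => (0 : B)) :
      MvPolynomial (Fin (Module.finrank A I.Cotangent)) A →ₐ[A] B)
      ⟨fun _ _ _ => Subsingleton.elim _ _, fun x => ⟨0, Subsingleton.elim _ _⟩⟩).symm⟩
  have : IsNoetherianRing A := Algebra.FiniteType.isNoetherianRing k A
  have : Algebra.FinitePresentation A B := Algebra.FinitePresentation.of_finiteType.mp inferInstance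
  set r := Module.finrank A I.Cotangent
  let b := Module.finBasis A I.Cotangent
  -- graded projections
  have hIhom : I.IsHomogeneous 𝒜 := (HomogeneousIdeal.irrelevant 𝒜).isHomogeneous
  let pI : ℕ → I →ₗ[A] I := fun n =>
    ((GradedAlgebra.proj 𝒜 n).comp (I.subtype.restrictScalars A)).codRestrict (I.restrictScalars A)
      fun x => by simpa [GradedAlgebra.proj_apply] using hIhom n x.2
  have pI_val : ∀ n (x : I), (pI n x : B) = GradedAlgebra.proj 𝒜 n x := fun n x => rfl
  let π : I →ₗ[A] I.Cotangent := I.toCotangent.restrictScalars A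
  have π_eq : ∀ x y : I, π x = π y ↔ (x : B) - y ∈ I ^ 2 := fun x y => Ideal.toCotangent_eq I
  have hI2 : (I ^ 2).IsHomogeneous 𝒜 := by rw [pow_two]; exact hIhom.mul hIhom
  have key : ∀ n (x y : I), π x = π y → π (pI n x) = π (pI n y) := by
    intro n x y h
    rw [π_eq] at h ⊢
    rw [pI_val, pI_val, ← map_sub, GradedAlgebra.proj_apply]
    exact hI2 n h
  choose y hy using fun i => I.toCotangent_surjective (b i)
  let σ₀ : I.Cotangent →ₗ[A] I := b.constr A y
  have hσ₀ : ∀ v, π (σ₀ v) = v := by
    intro v
    have h : π.comp σ₀ = LinearMap.id := b.ext fun i => by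
      rw [LinearMap.comp_apply, LinearMap.id_apply]
      change π (b.constr A y (b i)) = b i
      rw [b.constr_basis]
      exact hy i
    exact DFunLike.congr_fun h v
  let P : ℕ → I.Cotangent →ₗ[A] I.Cotangent := fun n => π.comp ((pI n).comp σ₀)
  have hP : ∀ n (x : I), P n (π x) = π (pI n x) := fun n x => key n _ _ (hσ₀ (π x))
  have hidem : ∀ n (x : I), pI n (pI n x) = pI n x := fun n x => Subtype.ext <| by
    rw [pI_val, pI_val, GradedAlgebra.proj_apply, GradedAlgebra.proj_apply, DirectSum.decompose_coe,
      DirectSum.of_eq_same]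
  obtain ⟨M, hM⟩ : ∃ M, ∀ i, (DirectSum.decompose 𝒜 (σ₀ (b i) : B)).support ⊆ Finset.range M :=
    ⟨(Finset.univ.biUnion fun i => (DirectSum.decompose 𝒜 (σ₀ (b i) : B)).support).sup id + 1, fun i n hn =>
      Finset.mem_range.2 (Nat.lt_succ_of_le (Finset.le_sup (f := id) (Finset.mem_biUnion.2 ⟨i, Finset.mem_univ _, hn⟩)))⟩
  let σ : I.Cotangent →ₗ[A] I := ∑ n ∈ Finset.range M, (pI n).comp (σ₀.comp (P n))
  have σ_apply : ∀ v, σ v = ∑ n ∈ Finset.range M, pI n (σ₀ (P n v)) := fun v => by simp [σ]
  have hπσ : ∀ v, π (σ v) = v := by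
    intro v
    have h : π.comp σ = LinearMap.id := by
      refine b.ext fun i => ?_
      rw [LinearMap.comp_apply, LinearMap.id_apply, σ_apply, map_sum]
      have e : ∀ n ∈ Finset.range M, π (pI n (σ₀ (P n (b i)))) = π (pI n (σ₀ (b i))) := by
        intro n _
        rw [← hP, hσ₀]
        change P n (π (pI n (σ₀ (b i)))) = _
        rw [hP, hidem]
      rw [Finset.sum_congr rfl e, ← map_sum]
      conv_rhs => rw [← hσ₀ (b i)]
      congr 1
      refine Subtype.ext ?_
      rw [AddSubmonoidClass.coe_finsetSum]
      simp only [pI_val, GradedAlgebra.proj_apply]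
      conv_rhs => rw [← DirectSum.sum_support_decompose 𝒜 (σ₀ (b i) : B)]
      refine (Finset.sum_subset (hM i) fun n _ hn => ?_).symm
      simpa using hn
    exact DFunLike.congr_fun h v
  let xs : Fin r → B := fun i => (σ (b i) : B)
  let φ : MvPolynomial (Fin r) A →ₐ[A] B := MvPolynomial.aeval xs
  set 𝔪 : Ideal (MvPolynomial (Fin r) A) := MvPolynomial.idealOfVars (Fin r) A with h𝔪
  have hφm : ∀ p ∈ 𝔪, φ p ∈ I := by
    intro p hp
    have : 𝔪 ≤ I.comap φ := Ideal.span_le.2 fun _ ⟨i, hi⟩ => by
      subst hi
      simp [φ, xs]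
    exact this hp
  have hI0 : ∀ a : A, algebraMap A B a ∈ I → a = 0 := by
    intro a ha
    refine hinj ?_
    rw [map_zero]
    have h0' : GradedAlgebra.proj 𝒜 0 (algebraMap A B a) = 0 := (HomogeneousIdeal.mem_irrelevant_iff 𝒜 _).1 ha
    rwa [GradedAlgebra.proj_apply, DirectSum.decompose_of_mem_same 𝒜 ((h0 _).2 ⟨a, rfl⟩)] at h0'
  have hconst : ∀ p, φ p ∈ I → p ∈ 𝔪 := by
    intro p hp
    have hsub : p - MvPolynomial.C (MvPolynomial.constantCoeff p) ∈ 𝔪 := by
      rw [← pow_one 𝔪, MvPolynomial.mem_pow_idealOfVars_iff']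
      intro d hd
      have : d = 0 := (Finsupp.degree_eq_zero_iff d).1 (by omega)
      simp [this, MvPolynomial.constantCoeff_eq]
    have := sub_mem hp (hφm _ hsub)
    rw [← map_sub, sub_sub_cancel, ← MvPolynomial.algebraMap_eq, AlgHom.commutes] at this
    simpa [hI0 _ this] using hsub
  have hsquare : ∀ p, p ∈ 𝔪 → φ p ∈ I ^ 2 → p ∈ 𝔪 ^ 2 := by
    intro p hp hp2
    obtain ⟨g, rfl⟩ := Ideal.mem_span_range_iff_exists_fun.1 hp
    set L : MvPolynomial (Fin r) A := ∑ i, MvPolynomial.C (MvPolynomial.constantCoeff (g i)) * MvPolynomial.X i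
    have hdiff : ∑ i, g i * MvPolynomial.X i - L ∈ 𝔪 ^ 2 := by
      rw [← Finset.sum_sub_distrib, pow_two]
      refine Submodule.sum_mem _ fun i _ => ?_
      rw [← sub_mul]
      refine Ideal.mul_mem_mul ?_ (Ideal.subset_span ⟨i, rfl⟩)
      rw [← pow_one 𝔪, MvPolynomial.mem_pow_idealOfVars_iff']
      intro d hd
      have : d = 0 := (Finsupp.degree_eq_zero_iff d).1 (by omega)
      simp [this, MvPolynomial.constantCoeff_eq]
    have hmap : ∀ q ∈ 𝔪 ^ 2, φ q ∈ I ^ 2 := fun q hq => by
      have h1 : (𝔪 ^ 2).map φ ≤ I ^ 2 := by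
        rw [Ideal.map_pow]
        exact Ideal.pow_right_mono (Ideal.map_le_iff_le_comap.2 hφm) 2
      exact h1 (Ideal.mem_map_of_mem φ hq)
    have hL : φ L ∈ I ^ 2 := by
      have := sub_mem hp2 (hmap _ hdiff)
      rwa [← map_sub, sub_sub_cancel] at this
    have hc : ∑ i, MvPolynomial.constantCoeff (g i) • b i = 0 := by
      have e : ∑ i, MvPolynomial.constantCoeff (g i) • b i
          = π (∑ i, MvPolynomial.constantCoeff (g i) • σ (b i)) := by
        simp [map_sum, map_smul, hπσ]
      rw [e, ← map_zero π, π_eq]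
      simpa [L, φ, xs, map_sum, Algebra.smul_def] using hL
    have hzero := Fintype.linearIndependent_iff.1 b.linearIndependent _ hc
    have : L = 0 := by simp [L, hzero]
    simpa [this] using hdiff
  -- surjectivity
  have hsurj : Function.Surjective φ := by
    have hhom : ∀ n, ∀ x ∈ 𝒜 n, x ∈ φ.range := by
      intro n
      induction n using Nat.strong_induction_on with
      | _ n ih =>
        intro x hx
        rcases Nat.eq_zero_or_pos n with rfl | hn
        · obtain ⟨a, rfl⟩ := (h0 x).1 hx
          exact Subalgebra.algebraMap_mem _ a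
        have hxI : x ∈ I := HomogeneousIdeal.mem_irrelevant_of_mem 𝒜 hn hx
        set v := π ⟨x, hxI⟩ with hv
        have hsv : ∀ m ≠ n, P m v = 0 := by
          intro m hm
          rw [hv, hP, ← map_zero π]
          congr 1
          refine Subtype.ext ?_
          rw [pI_val, GradedAlgebra.proj_apply, DirectSum.decompose_of_mem_ne 𝒜 hx (Ne.symm hm)]
          rfl
        have hσn : (σ v : B) ∈ 𝒜 n := by
          rw [σ_apply, AddSubmonoidClass.coe_finsetSum]
          refine Submodule.sum_mem _ fun m _ => ?_
          rcases eq_or_ne m n with rfl | hm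
          · rw [pI_val, GradedAlgebra.proj_apply]; exact SetLike.coe_mem _
          · rw [hsv m hm, map_zero, map_zero]; exact Submodule.zero_mem _
        have hσr : (σ v : B) ∈ φ.range := by
          rw [← b.sum_repr v, map_sum, AddSubmonoidClass.coe_finsetSum]
          refine sum_mem fun i _ => ?_
          rw [map_smul]
          change b.repr v i • (σ (b i) : B) ∈ _
          exact Subalgebra.smul_mem _ (AlgHom.mem_range_self φ (MvPolynomial.X i) |> fun h => by simpa [φ, xs] using h) _
        have hdiff : x - (σ v : B) ∈ I ^ 2 := (π_eq ⟨x, hxI⟩ (σ v)).1 (hπσ v).symm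
        have hproj : ∀ z ∈ I ^ 2, GradedAlgebra.proj 𝒜 n z ∈ φ.range := by
          intro z hz
          rw [pow_two] at hz
          induction hz using Submodule.mul_induction_on' with
          | mem_mul_mem c hc e he =>
            rw [← DirectSum.sum_support_decompose 𝒜 c, ← DirectSum.sum_support_decompose 𝒜 e, Finset.sum_mul_sum,
              map_sum]
            refine sum_mem fun a _ => ?_
            rw [map_sum]
            refine sum_mem fun a' _ => ?_
            have hmem := SetLike.mul_mem_graded (DirectSum.decompose 𝒜 c a).2 (DirectSum.decompose 𝒜 e a').2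
            rw [GradedAlgebra.proj_apply]
            by_cases hn' : a + a' = n
            · rw [DirectSum.decompose_of_mem_same 𝒜 (hn' ▸ hmem)]
              rcases Nat.eq_zero_or_pos a with rfl | ha
              · have : GradedRing.proj 𝒜 0 c = 0 := (HomogeneousIdeal.mem_irrelevant_iff 𝒜 c).1 hc
                rw [GradedRing.proj_apply] at this
                rw [this, zero_mul]; exact zero_mem _
              rcases Nat.eq_zero_or_pos a' with rfl | ha'
              · have : GradedRing.proj 𝒜 0 e = 0 := (HomogeneousIdeal.mem_irrelevant_iff 𝒜 e).1 he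
                rw [GradedRing.proj_apply] at this
                rw [this, mul_zero]; exact zero_mem _
              exact mul_mem (ih a (by omega) _ (SetLike.coe_mem _)) (ih a' (by omega) _ (SetLike.coe_mem _))
            · rw [DirectSum.decompose_of_mem_ne 𝒜 hmem hn']; exact zero_mem _
          | add c _ e _ hc he => rw [map_add]; exact add_mem hc he
        have h2 := hproj _ hdiff
        rw [GradedAlgebra.proj_apply, DirectSum.decompose_of_mem_same 𝒜 (sub_mem hx hσn)] at h2
        simpa using add_mem h2 hσr
    intro x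
    have : x ∈ φ.range := by
      rw [← DirectSum.sum_support_decompose 𝒜 x]
      exact sum_mem fun n _ => hhom n _ (SetLike.coe_mem _)
    exact this
  -- a smooth basic open around the zero section
  obtain ⟨f, hfI, hfsm⟩ : ∃ f : B, 1 - f ∈ I ∧ Algebra.FormallySmooth A (Localization.Away f) := by
    obtain ⟨J, hJ⟩ := (PrimeSpectrum.isClosed_iff_zeroLocus_ideal _).1
      (isClosed_compl_iff.2 (Algebra.isOpen_smoothLocus (R := A) (A := B)))
    have htop : I ⊔ J = ⊤ := by
      rw [← PrimeSpectrum.zeroLocus_empty_iff_eq_top, PrimeSpectrum.zeroLocus_sup, Set.eq_empty_iff_forall_notMem]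
      rintro p ⟨h1, h2⟩
      rw [← hJ] at h2
      exact h2 (hsm p.asIdeal h1)
    obtain ⟨i, hi, f, hf, hif⟩ := Submodule.mem_sup.1 ((Ideal.eq_top_iff_one _).1 htop)
    refine ⟨f, by rwa [← hif, add_sub_cancel_right], Algebra.basicOpen_subset_smoothLocus_iff.1 ?_⟩
    intro p hp
    by_contra hpn
    rw [← Set.mem_compl_iff, hJ] at hpn
    exact hp (hpn hf)
  -- injectivity
  have hstep : ∀ p, φ p = 0 → ∀ k, p ∈ 𝔪 ^ k → p ∈ 𝔪 ^ (k + 1) := by
    intro p hp k hk
    set n := k + 2
    let mkP : MvPolynomial (Fin r) A →ₐ[A] MvPolynomial (Fin r) A ⧸ 𝔪 ^ n := Ideal.Quotient.mkₐ A _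
    have hmapn : ∀ q ∈ 𝔪 ^ n, φ q ∈ I ^ n := fun q hq => by
      have h1 : (𝔪 ^ n).map φ ≤ I ^ n := by
        rw [Ideal.map_pow]
        exact Ideal.pow_right_mono (Ideal.map_le_iff_le_comap.2 hφm) n
      exact h1 (Ideal.mem_map_of_mem φ hq)
    let g : (MvPolynomial (Fin r) A ⧸ 𝔪 ^ n) →ₐ[A] B ⧸ I ^ n :=
      Ideal.Quotient.liftₐ (𝔪 ^ n) ((Ideal.Quotient.mkₐ A (I ^ n)).comp φ) fun q hq => by
        simpa [Ideal.Quotient.eq_zero_iff_mem] using hmapn q hq
    have hg : ∀ q, g (mkP q) = Ideal.Quotient.mk (I ^ n) (φ q) := fun q => rfl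
    have hgsurj : Function.Surjective g := by
      intro z
      obtain ⟨z, rfl⟩ := Ideal.Quotient.mk_surjective z
      obtain ⟨q, rfl⟩ := hsurj z
      exact ⟨mkP q, hg q⟩
    have hgker : IsNilpotent (RingHom.ker (g : (MvPolynomial (Fin r) A ⧸ 𝔪 ^ n) →+* B ⧸ I ^ n)) := by
      refine ⟨n, eq_bot_iff.2 (le_trans (Ideal.pow_right_mono (?_ : _ ≤ 𝔪.map (Ideal.Quotient.mk (𝔪 ^ n))) n) ?_)⟩
      · intro z hz
        obtain ⟨q, rfl⟩ := Ideal.Quotient.mk_surjective z
        refine Ideal.mem_map_of_mem _ (hconst q ?_)
        have : φ q ∈ I ^ n := Ideal.Quotient.eq_zero_iff_mem.1 hz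
        exact Ideal.pow_le_self (by omega) this
      · rw [← Ideal.map_pow, Ideal.map_quotient_self]
    have hunit : IsUnit (Ideal.Quotient.mk (I ^ n) f) := by
      have h1 : IsNilpotent (Ideal.Quotient.mk (I ^ n) (1 - f)) :=
        ⟨n, by rw [← map_pow, Ideal.Quotient.eq_zero_iff_mem]; exact Ideal.pow_mem_pow hfI n⟩
      simpa using h1.isUnit_one_sub
    let f₀ : Localization.Away f →ₐ[A] B ⧸ I ^ n :=
      IsLocalization.liftAlgHom (M := Submonoid.powers f) (f := Ideal.Quotient.mkₐ A (I ^ n)) fun ⟨z, j, hz⟩ => by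
        subst hz
        simpa using hunit.pow j
    let s : Localization.Away f →ₐ[A] MvPolynomial (Fin r) A ⧸ 𝔪 ^ n :=
      Algebra.FormallySmooth.liftOfSurjective f₀ g hgsurj hgker
    let e : MvPolynomial (Fin r) A →ₐ[A] MvPolynomial (Fin r) A ⧸ 𝔪 ^ n :=
      s.comp ((IsScalarTower.toAlgHom A B (Localization.Away f)).comp φ)
    have hge : ∀ q, g (e q) = Ideal.Quotient.mk (I ^ n) (φ q) := by
      intro q
      change g (s (algebraMap B _ (φ q))) = _
      rw [show g (s _) = f₀ _ from Algebra.FormallySmooth.liftOfSurjective_apply f₀ g hgsurj hgker _]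
      exact IsLocalization.lift_eq _ _
    set M1 := 𝔪.map (Ideal.Quotient.mk (𝔪 ^ n)) with hM1
    have hX : ∀ i, e (MvPolynomial.X i) - mkP (MvPolynomial.X i) ∈ M1 ^ 2 := by
      intro i
      obtain ⟨q, hq⟩ := Ideal.Quotient.mk_surjective (e (MvPolynomial.X i))
      have h1 : φ (q - MvPolynomial.X i) ∈ I ^ n := by
        rw [map_sub, ← Ideal.Quotient.eq, ← hg, ← hge]
        exact congrArg g hq
      have h2 := hsquare _ (hconst _ (Ideal.pow_le_self (by omega) h1)) (Ideal.pow_le_pow_right (by omega) h1)
      rw [hM1, ← Ideal.map_pow, ← hq]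
      change Ideal.Quotient.mk _ q - Ideal.Quotient.mk _ (MvPolynomial.X i) ∈ _
      rw [← map_sub]
      exact Ideal.mem_map_of_mem _ h2
    have hmk : ∀ q ∈ 𝔪, mkP q ∈ M1 := fun q hq => Ideal.mem_map_of_mem _ hq
    have heX : ∀ i, e (MvPolynomial.X i) ∈ M1 := fun i => by
      have := add_mem (Ideal.pow_le_self two_ne_zero (hX i)) (hmk _ (Ideal.subset_span ⟨i, rfl⟩))
      simpa using this
    have h0step : ∀ q, e q - mkP q ∈ M1 := by
      intro q
      induction q using MvPolynomial.induction_on with
      | C a => simp [← MvPolynomial.algebraMap_eq]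
      | add q q' hq hq' =>
        have := add_mem hq hq'
        convert this using 1
        rw [map_add, map_add]; ring
      | mul_X q i hq =>
        have := add_mem (Ideal.mul_mem_right (e (MvPolynomial.X i)) _ hq)
          (Ideal.mul_mem_left _ (mkP q) (Ideal.pow_le_self two_ne_zero (hX i)))
        convert this using 1
        rw [map_mul, map_mul]; ring
    have he_m : ∀ q ∈ 𝔪, e q ∈ M1 := fun q hq => by
      simpa using add_mem (h0step q) (hmk q hq)
    have h1step : ∀ q ∈ 𝔪, e q - mkP q ∈ M1 ^ 2 := by
      intro q hq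
      induction hq using Submodule.span_induction with
      | mem z hz => obtain ⟨i, rfl⟩ := hz; exact hX i
      | zero => simp
      | add a a' _ _ ha ha' =>
        have := add_mem ha ha'
        convert this using 1
        rw [map_add, map_add]; ring
      | smul c a ham ha =>
        rw [smul_eq_mul, map_mul, map_mul,
          show e c * e a - mkP c * mkP a = (e c - mkP c) * e a + mkP c * (e a - mkP a) by ring]
        refine add_mem ?_ (Ideal.mul_mem_left _ _ ha)
        rw [pow_two]; exact Ideal.mul_mem_mul (h0step c) (he_m a ham)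
    have hgen : ∀ j, ∀ q ∈ 𝔪 ^ j, e q - mkP q ∈ M1 ^ (j + 1) := by
      intro j
      induction j with
      | zero => intro q _; rw [zero_add, Submodule.pow_one]; exact h0step q
      | succ j ih =>
        intro q hq
        rw [pow_succ] at hq
        induction hq using Submodule.mul_induction_on' with
        | mem_mul_mem a ha a' ha' =>
          rw [map_mul, map_mul,
            show e a * e a' - mkP a * mkP a' = (e a - mkP a) * e a' + mkP a * (e a' - mkP a') by ring]
          refine add_mem ?_ ?_
          · rw [pow_succ M1]; exact Ideal.mul_mem_mul (ih a ha) (he_m a' ha')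
          · have e2 : mkP a * (e a' - mkP a') ∈ M1 ^ j * M1 ^ 2 :=
              Ideal.mul_mem_mul (Ideal.map_pow (Ideal.Quotient.mk (𝔪 ^ n)) 𝔪 j ▸ Ideal.mem_map_of_mem _ ha)
                (h1step a' ha')
            rw [pow_two, ← mul_assoc] at e2
            rw [pow_succ M1, pow_succ M1]
            exact e2
        | add a _ a' _ ha ha' =>
          have := add_mem ha ha'
          convert this using 1
          rw [map_add, map_add]; ring
    have hfin := hgen k p hk
    rw [show e p = 0 by simp [e, hp], zero_sub, neg_mem_iff, hM1, ← Ideal.map_pow] at hfin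
    have hfin' : p ∈ (Ideal.map (Ideal.Quotient.mk (𝔪 ^ n)) (𝔪 ^ (k + 1))).comap (Ideal.Quotient.mk (𝔪 ^ n)) := hfin
    rw [Ideal.comap_map_of_surjective _ Ideal.Quotient.mk_surjective, ← RingHom.ker_eq_comap_bot, Ideal.mk_ker,
      sup_eq_left.2 (Ideal.pow_le_pow_right (by omega))] at hfin'
    exact hfin'
  have hinjφ : Function.Injective φ := by
    rw [injective_iff_map_eq_zero]
    intro p hp
    have hall : ∀ k, p ∈ 𝔪 ^ k := by
      intro k
      induction k with
      | zero => simp
      | succ k ih => exact hstep p hp k ih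
    ext d
    rw [MvPolynomial.coeff_zero]
    exact (MvPolynomial.mem_pow_idealOfVars_iff' _ _).1 (hall (d.degree + 1)) d (Nat.lt_succ_self _)
  exact ⟨(AlgEquiv.ofBijective φ ⟨hinjφ, hsurj⟩).symm⟩

end Groth.Agent.S18961
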