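import Groth.Statements.S19004
import Mathlib

set_option autoImplicit false
open GIT

namespace Groth.Agent.S19004

/-- For the group PGL(n) acting on the space of n × n matrices the T-quotient is (P^{n−1})^n with Chow
ring ℚ[t_1,…,t_n]/(t_1^n,…,t_n^n), the class c_top(g/t) is the product of all roots t_i − t_j (i ≠
j), and the computation in the proof shows that this product equals n!·t_1^{n−1}⋯t_n^{n−1} in that
ring. Stated here as the equivalent coefficient identity in ℤ[t_1,…,t_n]: the coefficient of
t_1^{n−1}⋯t_n^{n−1} in the product over ordered pairs i ≠ j of (t_i − t_j) is n!. -/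
theorem result (n : ℕ) :
    MvPolynomial.coeff (Finsupp.equivFunOnFinite.symm (fun _ : Fin n => n - 1))
      (∏ i : Fin n, ∏ j ∈ Finset.univ.erase i, (MvPolynomial.X i - MvPolynomial.X j : MvPolynomial (Fin n) ℤ)) = (n.factorial : ℤ) := by
  classical
  let x : Fin n → MvPolynomial (Fin n) ℤ := fun i => MvPolynomial.X i
  let A : Matrix (Fin n) (Fin n) (MvPolynomial (Fin n) ℤ) := Matrix.projVandermonde x 1
  let B : Matrix (Fin n) (Fin n) (MvPolynomial (Fin n) ℤ) := Matrix.projVandermonde 1 x
  have hprod : (∏ i : Fin n, ∏ j ∈ Finset.univ.erase i, (MvPolynomial.X i - MvPolynomial.X j : MvPolynomial (Fin n) ℤ)) = A.det * B.det := by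
    simp only [A, B, Matrix.det_projVandermonde, Pi.one_apply, mul_one, one_mul, x]
    rw [← Finset.prod_mul_distrib]
    simp_rw [← Finset.prod_mul_distrib]
    rw [Finset.prod_prod_Ioi_mul_eq_prod_prod_off_diag (fun i j : Fin n => (MvPolynomial.X i - MvPolynomial.X j : MvPolynomial (Fin n) ℤ))]
    exact Finset.prod_comm' (fun a b => by simp [eq_comm])
  rw [hprod, ← Matrix.det_transpose A, ← Matrix.det_transpose B, Matrix.det_apply', Matrix.det_apply', Finset.sum_mul_sum]
  have hmon : ∀ σ τ : Equiv.Perm (Fin n),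
      (∏ i, A.transpose (σ i) i) * (∏ i, B.transpose (τ i) i) =
        MvPolynomial.monomial (Finsupp.equivFunOnFinite.symm (fun i : Fin n => (σ i).val + (τ i).rev.val)) (1 : ℤ) := by
    intro σ τ
    rw [MvPolynomial.monomial_eq, Finsupp.prod_fintype _ _ (fun i => pow_zero _), ← Finset.prod_mul_distrib]
    simp [A, B, x, Matrix.projVandermonde_apply, pow_add]
  simp only [MvPolynomial.coeff_sum]
  have key : ∀ σ τ : Equiv.Perm (Fin n),
      MvPolynomial.coeff (Finsupp.equivFunOnFinite.symm (fun _ : Fin n => n - 1))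
        (((Equiv.Perm.sign σ : ℤ) : MvPolynomial (Fin n) ℤ) * (∏ i, A.transpose (σ i) i) *
          (((Equiv.Perm.sign τ : ℤ) : MvPolynomial (Fin n) ℤ) * ∏ i, B.transpose (τ i) i)) = if τ = σ then 1 else 0 := by
    intro σ τ
    rw [mul_mul_mul_comm, hmon, ← Int.cast_mul, ← eq_intCast (MvPolynomial.C : ℤ →+* MvPolynomial (Fin n) ℤ), MvPolynomial.C_mul_monomial, MvPolynomial.coeff_monomial, mul_one]
    by_cases h : τ = σ
    · subst h
      rw [if_pos, if_pos rfl, ← Units.val_mul, Int.units_mul_self, Units.val_one]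
      ext i
      have := (τ i).isLt
      simp [Fin.val_rev]
      omega
    · rw [if_neg, if_neg h]
      intro e
      apply h
      ext i
      have h1 := congrArg (fun f => f i) e
      simp [Fin.val_rev] at h1
      have := (τ i).isLt
      have := (σ i).isLt
      omega
  rw [Finset.sum_congr rfl fun σ _ => Finset.sum_congr rfl fun τ _ => key σ τ]
  simp [Finset.sum_ite_eq', Fintype.card_perm]

end Groth.Agent.S19004
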