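import Groth.Statements.S19005
import Mathlib.LinearAlgebra.QuadraticForm.Basic
import Mathlib.LinearAlgebra.TensorProduct.Basic
import Mathlib.Algebra.Ring.Parity
import Mathlib.Tactic.Abel

set_option autoImplicit false
open scoped TensorProduct
open K2Cent

namespace Groth.Agent.S19005

/-- For abelian groups X and M and ε in M with 2ε = 0 (in the source X is the character group of a split
torus and ε is the class of −1 among the units), the map x ↦ (x ⊗ x, −(x ⊗ ε)) into (X ⊗ X) × (X ⊗
M) is quadratic over ℤ, i.e. it underlies an integer quadratic map with exactly these values. -/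
theorem result (X M : Type*) [AddCommGroup X]
    [AddCommGroup M] (ε : M) (hε : 2 • ε = 0) :
    ∃ R : QuadraticMap ℤ X (TensorProduct ℤ X X × TensorProduct ℤ X M),
      ∀ x : X, R x = (x ⊗ₜ[ℤ] x, -(x ⊗ₜ[ℤ] ε)) := by
  let B : LinearMap.BilinMap ℤ X (TensorProduct ℤ X X × TensorProduct ℤ X M) :=
    ((TensorProduct.mk ℤ X X) + (TensorProduct.mk ℤ X X).flip).compr₂ (LinearMap.inl ℤ _ _)
  refine ⟨{ toFun := fun x => (x ⊗ₜ[ℤ] x, -(x ⊗ₜ[ℤ] ε)), toFun_smul := fun a x => ?_, exists_companion' := ⟨B, fun x y => ?_⟩ }, fun x => rfl⟩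
  · have hd : (a * a) • ε = a • ε := by
      obtain ⟨k, hk⟩ : Even (a * a - a) := by rw [show a * a - a = a * (a - 1) by ring]; exact Int.even_mul_pred_self a
      rw [← sub_eq_zero, ← sub_smul, hk, ← two_mul, mul_comm, mul_smul,
        show ((2 : ℤ) • ε) = 0 by rw [← hε]; exact natCast_zsmul ε 2, smul_zero]
    rw [Prod.smul_mk, smul_neg, Prod.mk.injEq]
    refine ⟨?_, ?_⟩
    · rw [TensorProduct.smul_tmul', mul_smul, TensorProduct.smul_tmul, TensorProduct.tmul_smul, TensorProduct.tmul_smul, TensorProduct.smul_tmul', TensorProduct.smul_tmul']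
    · rw [neg_inj, ← TensorProduct.tmul_smul, hd, TensorProduct.tmul_smul, TensorProduct.smul_tmul']
  · simp only [B, LinearMap.compr₂_apply, LinearMap.add_apply, LinearMap.flip_apply, TensorProduct.mk_apply,
      LinearMap.inl_apply, Prod.mk_add_mk, TensorProduct.add_tmul, TensorProduct.tmul_add, add_zero]
    rw [Prod.mk.injEq]
    refine ⟨by abel, by abel⟩

end Groth.Agent.S19005
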