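import Groth.Statements.S19008
import Mathlib.LinearAlgebra.RootSystem.Base
import Mathlib.LinearAlgebra.RootSystem.Finite.Nondegenerate
import Mathlib.LinearAlgebra.RootSystem.Finite.Lemmas
import Mathlib.Tactic.LinearCombination
import Mathlib.Order.Lattice

set_option autoImplicit false
universe u v w x
open RootD

namespace Groth.Agent.S19008

/-- Let P be a finite reduced crystallographic root pairing over an integral domain of characteristic
zero and b a base (simple roots α_i, i in the support of b), with Cartan integers a_ij = ⟨α_i,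
α_j^∨⟩. An integer-valued bilinear form C on the lattice with basis the simple coroots is an integer
matrix C_ij = C(α_i^∨, α_j^∨), and the component of the last map of the complex at the pair (i, j),
i ≠ j, is C ↦ C(α_i^∨, α_j^∨) + C(α_j^∨, s_j(α_i^∨)) = C_ij + C_ji − a_ji C_jj; the pairs (i, j) and
(j, i) index the same component exactly when α_i and α_j are orthogonal. This map is surjective: for
every family of integers d_ij (i ≠ j in the support) with d_ij = d_ji whenever a_ij = 0 there is an
integer matrix C with C_ij + C_ji − a_ji C_jj = d_ij for all i ≠ j in the support. -/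
theorem result {ι : Type u} {R : Type v} {M : Type w} {N : Type x} [CommRing R] [IsDomain R] [CharZero R]
    [AddCommGroup M] [Module R M] [AddCommGroup N] [Module R N] (P : RootPairing ι R M N)
    [Finite ι] [P.IsCrystallographic] [P.IsReduced] (b : P.Base) (d : ι → ι → ℤ)
    (hd : ∀ i ∈ b.support, ∀ j ∈ b.support, i ≠ j → P.pairingIn ℤ i j = 0 → d i j = d j i) :
    ∃ C : ι → ι → ℤ, ∀ i ∈ b.support, ∀ j ∈ b.support, i ≠ j →
      C i j + C j i - P.pairingIn ℤ j i * C j j = d i j := by
  classical
  haveI : Fintype ι := Fintype.ofFinite ι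
  haveI : Module.IsReflexive R M := .of_isPerfPair P.toLinearMap
  let a : ι → ι → ℤ := fun i j => P.pairingIn ℤ i j
  have hcast : ∀ i j, ((a i j : ℤ) : R) = P.pairing i j := fun i j => by
    have := P.algebraMap_pairingIn ℤ i j
    simpa [a] using this
  have hsame : ∀ i, a i i = 2 := fun i => P.pairingIn_same ℤ i
  have hzero : ∀ i j, a i j = 0 → a j i = 0 := fun i j h => P.pairingIn_eq_zero_iff.mp h
  have hnp : ∀ i ∈ b.support, ∀ j ∈ b.support, i ≠ j → a i j ≤ 0 := fun i hi j hj h =>
    b.pairingIn_le_zero_of_ne h hi hj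
  -- no non-empty set of edges has all its leaves on the long side of a multiple edge
  have claim : ∀ S : Finset (ι × ι), S.Nonempty →
      (∀ q ∈ S, q.1 ∈ b.support ∧ q.2 ∈ b.support ∧ q.1 ≠ q.2 ∧ a q.1 q.2 ≠ 0 ∧ (q.2, q.1) ∈ S) →
      ∃ q ∈ S, (∀ q' ∈ S, q'.1 = q.1 → q' = q) ∧ a q.1 q.2 = -1 := by
    intro S hS hprop
    by_contra hcon
    push Not at hcon
    let N : ι → Finset ι := fun v => Finset.univ.filter fun u => (v, u) ∈ S
    let c : ι → ℤ := fun v => if (N v).card = 0 then 0 else if (N v).card = 1 then 1 else 2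
    have hN : ∀ v u, u ∈ N v ↔ (v, u) ∈ S := fun v u => by simp [N]
    have hc0 : ∀ v, 0 ≤ c v := fun v => by simp only [c]; split_ifs <;> norm_num
    have hterm : ∀ v u, (v, u) ∈ S → c v * a v u ≤ -2 := by
      intro v u h
      obtain ⟨hv, hu, hne, hna, -⟩ := hprop _ h
      have h1 : a v u ≤ -1 := by
        have := hnp v hv u hu hne
        have : a v u ≠ 0 := hna
        omega
      have hpos : (N v).card ≠ 0 := Finset.card_ne_zero.mpr ⟨u, (hN v u).mpr h⟩
      by_cases hd : (N v).card = 1
      · have h2 : a v u ≠ -1 := hcon (v, u) h fun q' hq' he => by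
          obtain ⟨v', u'⟩ := q'
          simp only at he
          subst he
          have : u' = u := Finset.card_le_one.mp hd.le u' ((hN _ _).mpr hq') u ((hN _ _).mpr h)
          rw [this]
        simp only [c, if_neg hpos, if_pos hd, one_mul]; omega
      · simp only [c, if_neg hpos, if_neg hd]; omega
    let w : ι → ℤ := fun k => ∑ v ∈ b.support, c v * a v k
    have hw : ∀ u ∈ b.support, c u * w u ≤ 0 := by
      intro u hu
      by_cases hd : (N u).card = 0
      · rw [show c u = 0 by simp only [c, if_pos hd], zero_mul]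
      refine mul_nonpos_of_nonneg_of_nonpos (hc0 u) ?_
      have hsub : N u ⊆ b.support.erase u := fun v hv => by
        obtain ⟨-, h2, hne, -, -⟩ := hprop _ ((hN u v).mp hv)
        exact Finset.mem_erase.mpr ⟨Ne.symm hne, h2⟩
      have h2 : ∑ v ∈ b.support.erase u, c v * a v u ≤ ∑ v ∈ N u, c v * a v u := by
        rw [← Finset.sum_sdiff hsub]
        have hnp' : ∑ v ∈ b.support.erase u \ N u, c v * a v u ≤ 0 := Finset.sum_nonpos fun v hv => by
          obtain ⟨hne, hvs⟩ := Finset.mem_erase.mp (Finset.mem_sdiff.mp hv).1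
          exact mul_nonpos_of_nonneg_of_nonpos (hc0 v) (hnp v hvs u hu hne)
        linarith
      have h3 : ∑ v ∈ N u, c v * a v u ≤ ∑ v ∈ N u, (-2 : ℤ) :=
        Finset.sum_le_sum fun v hv => hterm v u (hprop _ ((hN u v).mp hv)).2.2.2.2
      simp only [w, ← Finset.add_sum_erase _ _ hu]
      rw [hsame u]
      simp only [Finset.sum_const, nsmul_eq_mul] at h3
      have : c u ≤ (N u).card := by
        simp only [c]; split_ifs <;> omega
      nlinarith
    let Q : ι → ℤ := fun u => ∑ k, a u k * a u k
    let z : M := ∑ v ∈ b.support, ((c v : ℤ) : R) • P.root v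
    have hident : ∀ v u, a v u * Q u = 2 * ∑ k, a u k * a v k := by
      intro v u
      have h := P.rootForm_reflection_reflection_apply u (P.root v) (P.root u)
      rw [P.reflection_apply_self, P.reflection_apply, P.root_coroot'_eq_pairing] at h
      simp only [map_sub, map_neg, map_smul, LinearMap.sub_apply, LinearMap.smul_apply, smul_eq_mul] at h
      rw [P.rootForm_apply_apply, P.rootForm_apply_apply] at h
      simp only [RootPairing.root_coroot'_eq_pairing] at h
      have key : ((a v u * Q u : ℤ) : R) = ((2 * ∑ k, a u k * a v k : ℤ) : R) := by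
        simp only [Q, Int.cast_mul, Int.cast_sum, hcast, Int.cast_ofNat]
        rw [Finset.sum_congr rfl fun k _ => mul_comm (P.pairing u k) (P.pairing v k)]
        linear_combination h
      exact_mod_cast key
    have hQ : ∀ u, 0 ≤ Q u := fun u => Finset.sum_nonneg fun k _ => mul_self_nonneg _
    have htot : 2 * ∑ k, w k * w k = ∑ u ∈ b.support, (c u * w u) * Q u := by
      simp only [w, Finset.sum_mul, Finset.mul_sum]
      rw [Finset.sum_comm]
      refine Finset.sum_congr rfl fun u _ => ?_
      rw [Finset.sum_comm]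
      refine Finset.sum_congr rfl fun v _ => ?_
      rw [mul_assoc (c u), mul_assoc (c v), hident v u, Finset.mul_sum, Finset.mul_sum, Finset.mul_sum]
      exact Finset.sum_congr rfl fun k _ => by ring
    have hw0 : ∀ k, w k = 0 := by
      have hle : ∑ u ∈ b.support, (c u * w u) * Q u ≤ 0 :=
        Finset.sum_nonpos fun u hu => mul_nonpos_of_nonpos_of_nonneg (hw u hu) (hQ u)
      have h0 : ∑ k, w k * w k = 0 := le_antisymm (by linarith) (Finset.sum_nonneg fun k _ => mul_self_nonneg _)
      intro k
      exact mul_self_eq_zero.mp ((Finset.sum_eq_zero_iff_of_nonneg fun k _ => mul_self_nonneg _).mp h0 k (Finset.mem_univ k))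
    have hz : z = 0 := by
      refine Submodule.disjoint_def.mp P.disjoint_rootSpan_ker_rootForm z ?_ ?_
      · exact Submodule.sum_mem _ fun v _ => Submodule.smul_mem _ _ (Submodule.subset_span ⟨v, rfl⟩)
      · refine LinearMap.mem_ker.mpr (LinearMap.ext fun y => ?_)
        rw [P.rootForm_apply_apply, LinearMap.zero_apply]
        refine Finset.sum_eq_zero fun k _ => ?_
        have : P.coroot' k z = ((w k : ℤ) : R) := by
          simp only [z, w, map_sum, map_smul, Int.cast_sum, Int.cast_mul, hcast, smul_eq_mul, RootPairing.root_coroot'_eq_pairing]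
        rw [this, hw0 k, Int.cast_zero, zero_mul]
    obtain ⟨⟨v, u⟩, hvu⟩ := hS
    have hv : v ∈ b.support := (hprop _ hvu).1
    have hcv := (linearIndepOn_finset_iff.mp b.linearIndepOn_root) (fun v => ((c v : ℤ) : R)) hz v hv
    have hpos : (N v).card ≠ 0 := Finset.card_ne_zero.mpr ⟨u, (hN v u).mpr hvu⟩
    simp only [Int.cast_eq_zero, c, if_neg hpos] at hcv
    split_ifs at hcv <;> omega
  -- solve the diagonal equations edge by edge
  let δ : ι → ι → ℤ := fun i j => d i j - d j i
  have main : ∀ S : Finset (ι × ι),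
      (∀ q ∈ S, q.1 ∈ b.support ∧ q.2 ∈ b.support ∧ q.1 ≠ q.2 ∧ a q.1 q.2 ≠ 0 ∧ (q.2, q.1) ∈ S) →
      ∃ x : ι → ℤ, ∀ q ∈ S, a q.1 q.2 * x q.1 - a q.2 q.1 * x q.2 = δ q.1 q.2 := by
    intro S
    induction S using Finset.strongInduction with
    | H S ih =>
      intro hprop
      by_cases hS : S.Nonempty
      swap
      · exact ⟨0, fun q hq => absurd ⟨q, hq⟩ hS⟩
      obtain ⟨⟨j, i⟩, hji, huniq, hm⟩ := claim S hS hprop
      simp only at hm huniq
      let S' := (S.erase (j, i)).erase (i, j)
      have hsub : S' ⊂ S := lt_of_le_of_lt (Finset.erase_subset _ _) (Finset.erase_ssubset hji)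
      obtain ⟨x, hx⟩ := ih S' hsub (fun q hq => by
        obtain ⟨h1, hq'⟩ := Finset.mem_erase.mp hq
        obtain ⟨h2, hqS⟩ := Finset.mem_erase.mp hq'
        obtain ⟨a1, a2, a3, a4, a5⟩ := hprop q hqS
        refine ⟨a1, a2, a3, a4, Finset.mem_erase.mpr ⟨?_, Finset.mem_erase.mpr ⟨?_, a5⟩⟩⟩
        · intro h; exact h2 (Prod.ext (congrArg Prod.snd h) (congrArg Prod.fst h))
        · intro h; exact h1 (Prod.ext (congrArg Prod.snd h) (congrArg Prod.fst h)))
      refine ⟨Function.update x j (-δ j i - a i j * x i), fun q hq => ?_⟩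
      have hne : i ≠ j := Ne.symm (hprop _ hji).2.2.1
      by_cases h1 : q = (j, i)
      · subst h1
        simp only [Function.update_self, Function.update_of_ne hne, hm]
        ring
      by_cases h2 : q = (i, j)
      · subst h2
        simp only [Function.update_self, Function.update_of_ne hne, hm, δ]
        ring
      have hq1 : q.1 ≠ j := fun h => h1 (huniq q hq h)
      have hq2 : q.2 ≠ j := fun h => h2 (by
        have := huniq (q.2, q.1) (hprop q hq).2.2.2.2 h
        simp only [Prod.mk.injEq] at this
        exact Prod.ext this.2 this.1)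
      rw [Function.update_of_ne hq1, Function.update_of_ne hq2]
      exact hx q (Finset.mem_erase.mpr ⟨h2, Finset.mem_erase.mpr ⟨h1, hq⟩⟩)
  obtain ⟨x, hx⟩ := main (Finset.univ.filter fun q : ι × ι => q.1 ∈ b.support ∧ q.2 ∈ b.support ∧ q.1 ≠ q.2 ∧ a q.1 q.2 ≠ 0)
    (fun q hq => by
      simp only [Finset.mem_filter, Finset.mem_univ, true_and] at hq ⊢
      exact ⟨hq.1, hq.2.1, hq.2.2.1, hq.2.2.2, hq.2.1, hq.1, Ne.symm hq.2.2.1, fun h => hq.2.2.2 (hzero _ _ h)⟩)
  let e := Fintype.equivFin ι
  refine ⟨fun i j => if i = j then x i else if e i < e j then d i j + a j i * x j else 0, fun i hi j hj hij => ?_⟩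
  show _ = _
  simp only [if_neg hij, if_neg (Ne.symm hij), if_true]
  rcases lt_or_gt_of_ne (e.injective.ne hij) with h | h
  · rw [if_pos h, if_neg h.not_gt]; ring
  · rw [if_neg h.not_gt, if_pos h]
    by_cases h0 : a i j = 0
    · rw [hd i hi j hj hij h0, h0, show P.pairingIn ℤ j i = 0 from hzero _ _ h0]; ring
    · have := hx (i, j) (by simp [hi, hj, hij, h0])
      simp only [δ] at this
      show _ + (d j i + a i j * x i) - a j i * x j = _
      linear_combination this

end Groth.Agent.S19008
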