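import Groth.Statements.S19011
import Groth.Agent.RootDat.Shadow

set_option autoImplicit false
universe u v w x
open RootD

open RootPairing Groth.Agent.RootDat.Form Groth.Agent.RootDat.Pos Groth.Agent.RootDat.Weyl Groth.Agent.RootDat.Exist
namespace Groth.Agent.S19011

/-- For a finite reduced crystallographic root pairing over an integral domain of characteristic zero,
the additive group generated by the coroots admits the presentation with one generator [β] for each
root β and the relations [s_α(β)] = [β] − ⟨α, β^∨⟩ [α] for all roots α, β, where ⟨α, β^∨⟩ is the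
Cartan integer. Concretely: the kernel of the ℤ-linear map from the free abelian group on the index
type of the roots to the coweight module sending the generator of index β to the coroot β^∨ is the
subgroup generated by the elements [s_α(β)] − [β] + ⟨α, β^∨⟩ [α]. (The source states this for the
cocharacter lattice of a split semi-simple simply connected group, which is the group generated by
the coroots.) -/
theorem result {ι : Type u} {R : Type v} {M : Type w} {N : Type x} [CommRing R] [IsDomain R] [CharZero R]
    [AddCommGroup M] [Module R M] [AddCommGroup N] [Module R N] (P : RootPairing ι R M N)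
    [Finite ι] [P.IsCrystallographic] [P.IsReduced] :
    LinearMap.ker (Finsupp.linearCombination ℤ (fun i : ι => (P.coroot i : N))) =
      Submodule.span ℤ (Set.range fun p : ι × ι =>
        Finsupp.single (P.reflectionPerm p.1 p.2) (1 : ℤ) - Finsupp.single p.2 1 +
          P.pairingIn ℤ p.1 p.2 • Finsupp.single p.1 1) := by
  classical
  open Groth.Agent.RootDat in
  obtain ⟨Δ, hΔ⟩ := Exist.exists_simpleSys (Shadow.shadow P)
  set Rel := Submodule.span ℤ (Set.range fun p : ι × ι =>
     Finsupp.single (P.reflectionPerm p.1 p.2) (1 : ℤ) - Finsupp.single p.2 1 +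
     P.pairingIn ℤ p.1 p.2 • Finsupp.single p.1 1) with hRel
  have hrel : ∀ i j, Finsupp.single (P.reflectionPerm i j) (1 : ℤ) - Finsupp.single j 1 +
      P.pairingIn ℤ i j • Finsupp.single i 1 ∈ Rel := fun i j => Submodule.subset_span ⟨(i, j), rfl⟩
  have hker : Rel ≤ LinearMap.ker (Finsupp.linearCombination ℤ (fun i : ι => (P.coroot i : N))) := by
    rw [hRel, Submodule.span_le]
    rintro _ ⟨⟨i, j⟩, rfl⟩
    simp only [SetLike.mem_coe, LinearMap.mem_ker, map_add, map_sub, map_smul, Finsupp.linearCombination_single, one_smul]
    rw [P.coroot_reflectionPerm, P.coreflection_apply_coroot, ← Groth.Agent.RootDat.Shadow.pairingIn_cast P i j, Int.cast_smul_eq_zsmul]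
    abel
  refine le_antisymm (fun x hx => ?_) hker
  let V : Submodule ℤ (ι →₀ ℤ) := Rel ⊔ Finsupp.supported ℤ ℤ Δ
  have hΔV : ∀ i ∈ Δ, Finsupp.single i (1 : ℤ) ∈ V := fun i hi =>
    Submodule.mem_sup_right (Finsupp.single_mem_supported ℤ 1 hi)
  let Q : ι → Prop := fun i => Finsupp.single i (1 : ℤ) ∈ V
  open Groth.Agent.RootDat in
  have hconj : ∀ g' ∈ Subgroup.closure ((fun i => RootPairing.Equiv.reflection (Shadow.shadow P) i) '' Δ), ∀ i, Q i ↔ Q (g' • i) := by
    intro g' hg
    induction hg using Subgroup.closure_induction with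
    | mem y hy =>
      obtain ⟨k, hk, rfl⟩ := hy
      intro i
      show Q i ↔ Q (P.reflectionPerm k i)
      have hdiff : Finsupp.single (P.reflectionPerm k i) (1 : ℤ) - Finsupp.single i 1 ∈ V := by
        have := sub_mem (Submodule.mem_sup_left (T := Finsupp.supported ℤ ℤ Δ) (hrel k i)) (V.smul_mem (P.pairingIn ℤ k i) (hΔV k hk))
        simpa using this
      constructor
      · intro h; simpa using add_mem hdiff h
      · intro h; simpa using sub_mem h hdiff
    | one => intro i; rw [one_smul]
    | mul a c _ _ ha hc => intro i; rw [mul_smul]; exact (hc i).trans (ha _)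
    | inv a _ ha => intro i; exact ((ha (a⁻¹ • i)).trans (by rw [smul_inv_smul])).symm
  have hindiv : ∀ k, RootD.IsIndiv (Groth.Agent.RootDat.Shadow.shadow P) k := by
    intro k j hj
    have hne : j ≠ k := by
      rintro rfl
      rw [two_smul, add_eq_left] at hj
      exact (Groth.Agent.RootDat.Shadow.shadow P).ne_zero j hj
    have hne' : (Groth.Agent.RootDat.Shadow.shadow P).root j ≠ -(Groth.Agent.RootDat.Shadow.shadow P).root k := by
      intro e
      rw [e] at hj
      exact (Groth.Agent.RootDat.Shadow.shadow P).ne_zero k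
        (Groth.Agent.RootDat.Form.eq_zero_of_zsmul (Groth.Agent.RootDat.Shadow.shadow P) (n := 3) (by norm_num) (by
          rw [show (3 : ℤ) = 2 + 1 from rfl, add_smul, one_smul, ← neg_neg ((2 : ℤ) • _), ← smul_neg, hj, neg_add_cancel]))
    have hli := RootPairing.IsReduced.linearIndependent (Groth.Agent.RootDat.Shadow.shadow P) hne hne'
    exact absurd ((LinearIndependent.pair_iff.mp hli) 2 (-1) (by rw [hj]; module)).2 (by norm_num)
  have hall : ∀ k, Q k := fun k => by
    obtain ⟨g, hg, i, hi, hgi⟩ := Groth.Agent.RootDat.Weyl.indiv_conj _ hΔ (hindiv k)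
    rw [← hgi]
    exact (hconj g hg i).mp (hΔV i hi)
  have htop : x ∈ V := by
    rw [← Finsupp.sum_single x]
    refine Submodule.sum_mem _ fun i _ => ?_
    show Finsupp.single i (x i) ∈ V
    rw [← mul_one (x i), ← smul_eq_mul, ← Finsupp.smul_single]
    exact V.smul_mem _ (hall i)
  obtain ⟨r, hr, c, hc, rfl⟩ := Submodule.mem_sup.mp htop
  rw [LinearMap.mem_ker, map_add, LinearMap.mem_ker.mp (hker hr), zero_add] at hx
  haveI : Fintype ι := Fintype.ofFinite ι
  let S := Groth.Agent.RootDat.Shadow.shadow P
  let Bd : ι → ℤ := fun v => Groth.Agent.RootDat.Form.B S (S.root v) (S.root v)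
  let L : ι → ℤ := fun v => ∏ w ∈ Finset.univ.erase v, Bd w
  have hL : ∀ v, L v * Bd v = ∏ w, Bd w := fun v => Finset.prod_erase_mul _ _ (Finset.mem_univ v)
  have hLne : ∀ v, L v ≠ 0 := fun v => Finset.prod_ne_zero_iff.mpr fun w _ => (Groth.Agent.RootDat.Form.B_self_pos S w).ne'
  have hpair : ∀ u, ∑ v, c v * S.pairing u v = 0 := by
    intro u
    apply Int.cast_injective (α := R)
    have h1 := congrArg (P.root' u) hx
    rw [Finsupp.linearCombination_apply, Finsupp.sum_fintype] at h1
    swap
    · simp
    simp only [map_sum, map_zero, map_zsmul, zsmul_eq_mul] at h1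
    simp only [Int.cast_sum, Int.cast_mul, Int.cast_zero, S, Groth.Agent.RootDat.Shadow.shadow_pairing, Groth.Agent.RootDat.Shadow.pairingIn_cast]
    exact h1
  let d : ι →₀ ℤ := Finsupp.equivFunOnFinite.symm fun v => c v * L v
  have hd : ↑d.support ⊆ Δ := by
    intro v hv
    simp only [d, Finset.mem_coe, Finsupp.mem_support_iff, Finsupp.equivFunOnFinite_symm_apply_apply] at hv
    exact hc (Finsupp.mem_support_iff.mpr fun h => hv (by rw [h, zero_mul]))
  let z := Finsupp.linearCombination ℤ S.root d
  have hz : z = 0 := by
    refine Groth.Agent.RootDat.Form.eq_zero_of_forall_B S ?_ fun u => ?_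
    · rw [← Finsupp.range_linearCombination]; exact LinearMap.mem_range_self _ _
    · have e : z = ∑ v, (c v * L v) • S.root v := by
        simp only [z, Finsupp.linearCombination_apply]
        rw [Finsupp.sum_fintype]
        · simp [d]
        · simp
      have h2 : 2 * Groth.Agent.RootDat.Form.B S z (S.root u) = (∏ w, Bd w) * ∑ v, c v * S.pairing u v := by
        rw [e]
        simp only [Groth.Agent.RootDat.Form.B, map_sum, map_smul, LinearMap.sum_apply, LinearMap.smul_apply, smul_eq_mul, Finset.mul_sum]
        refine Finset.sum_congr rfl fun v _ => ?_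
        have h3 := Groth.Agent.RootDat.Form.two_B S (S.root u) v
        rw [Groth.Agent.RootDat.Form.B_comm S (S.root u) (S.root v), S.root_coroot'_eq_pairing] at h3
        simp only [Groth.Agent.RootDat.Form.B] at h3
        rw [← hL v]
        linear_combination (c v * L v) * h3
      rw [hpair u, mul_zero] at h2
      omega
  have hd0 : d = 0 := linearIndepOn_iff.mp hΔ.linInd d hd hz
  have hc0 : c = 0 := Finsupp.ext fun v => by
    have := DFunLike.congr_fun hd0 v
    simpa [d, hLne v] using this
  rw [hc0, add_zero]
  exact hr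

end Groth.Agent.S19011
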