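import Groth.Statements.S19013
import Groth.Agent.MilnorKLib.Kernel

set_option autoImplicit false
universe u v
open MilnorK

namespace Groth.Agent.S19013

/-- Let A ⊆ B be discrete valuation rings, the inclusion being a local homomorphism, with fraction
fields E ⊆ F compatibly, with the induced homomorphism of residue fields κ(A) → κ(B), and with
ramification index e, the natural number such that the maximal ideal of A generates the e-th power
of the maximal ideal of B. Let ∂_A : K_{n+1}(E) → K_n(κ(A)) and ∂_B : K_{n+1}(F) → K_n(κ(B)) be the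
residue maps (tame symbols) on Milnor K-groups. Then for every x in K_{n+1}(E) one has ∂_B(x_F) = e
· (∂_A x)_{κ(B)}, where the subscripts denote the change-of-fields maps along E → F and κ(A) → κ(B).
(The published statement concerns discrete valuations of geometric type on fields finitely generated
over a base field; it is stated here for an arbitrary pair of discrete valuation rings, which is all
the printed computation uses.) -/
theorem result
    (A B : Type u) [CommRing A] [IsDomain A] [IsDiscreteValuationRing A]
    [CommRing B] [IsDomain B] [IsDiscreteValuationRing B] [Algebra A B] [IsLocalHom (algebraMap A B)]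
    (E F : Type v) [Field E] [Field F] [Algebra A E] [IsFractionRing A E] [Algebra B F] [IsFractionRing B F]
    [Algebra E F] [Algebra A F] [IsScalarTower A E F] [IsScalarTower A B F]
    (e : ℕ) (he : Ideal.map (algebraMap A B) (IsLocalRing.maximalIdeal A) = IsLocalRing.maximalIdeal B ^ e)
    (n : ℕ) (dA : MilK.K E (n + 1) →+ MilK.K (IsLocalRing.ResidueField A) n) (hdA : MilK.IsTameSymbol A E n dA)
    (dB : MilK.K F (n + 1) →+ MilK.K (IsLocalRing.ResidueField B) n) (hdB : MilK.IsTameSymbol B F n dB)
    (x : MilK.K E (n + 1)) :
    dB (MilK.map (algebraMap E F) (n + 1) x) =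
      e • MilK.map (IsLocalRing.ResidueField.map (algebraMap A B)) n (dA x) := by
  open MilnorKLib MilK in
  obtain ⟨π, hπ⟩ := IsDiscreteValuationRing.exists_irreducible A
  obtain ⟨ϖ, hϖ⟩ := IsDiscreteValuationRing.exists_irreducible B
  obtain ⟨w, hw⟩ : ∃ w : Bˣ, algebraMap A B π = ϖ ^ e * (w : B) := by
    rw [hπ.maximalIdeal_eq, hϖ.maximalIdeal_eq, Ideal.map_span, Set.image_singleton,
      Ideal.span_singleton_pow, Ideal.span_singleton_eq_span_singleton] at he
    obtain ⟨w, hw⟩ := he.symm
    exact ⟨w, hw.symm⟩
  set g : Aˣ →* Bˣ := Units.map (algebraMap A B : A →* B) with hg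
  have hunit : ∀ u : Aˣ, Units.map (algebraMap E F : E →* F) (MilK.unitToFrac A E u) =
      MilK.unitToFrac B F (g u) := by
    intro u
    ext
    simp [hg, MilnorKLib.coe_unitToFrac, ← IsScalarTower.algebraMap_apply]
  have hmapU : ∀ {m : ℕ} (u : Fin m → Aˣ),
      MilK.map (algebraMap E F) m (MilnorKLib.unitsSymbol u) = MilnorKLib.unitsSymbol (fun i => g (u i)) := by
    intro m u
    simp only [MilnorKLib.unitsSymbol, MilK.map_symbol]
    congr 1
    funext i
    exact hunit _
  have hπF : Units.map (algebraMap E F : E →* F) (MilK.unitFrac A E π hπ.ne_zero) =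
      MilK.unitFrac B F ϖ hϖ.ne_zero ^ (e : ℤ) * MilK.unitToFrac B F w := by
    ext
    simp [MilnorKLib.coe_unitToFrac, ← IsScalarTower.algebraMap_apply]
    rw [IsScalarTower.algebraMap_apply A B F, hw, map_mul, map_pow]
  have : x ∈ AddMonoidHom.eqLocus (dB.comp (MilK.map (algebraMap E F) (n + 1)))
      (e • (MilK.map (IsLocalRing.ResidueField.map (algebraMap A B)) n).comp dA) := by
    refine MilnorKLib.induction_units π hπ (fun u => ?_) (fun u => ?_) x
    · change dB (MilK.map (algebraMap E F) (n + 1) (MilnorKLib.unitsSymbol u)) =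
        e • MilK.map (IsLocalRing.ResidueField.map (algebraMap A B)) n (dA (MilnorKLib.unitsSymbol u))
      rw [hmapU, MilnorKLib.tame_unitsSymbol hdA, MilnorKLib.tame_unitsSymbol hdB, map_zero, smul_zero]
    · change dB (MilK.map (algebraMap E F) (n + 1) _) = e • MilK.map _ n (dA _)
      rw [MilnorKLib.map_consK, hπF, MilnorKLib.consK_mul_apply, map_add, hmapU,
        MilnorKLib.consK_zpow, map_zsmul, MilnorKLib.tame_consK_uniformizer hdB ϖ hϖ,
        MilnorKLib.consK_unitsSymbol, MilnorKLib.tame_unitsSymbol hdB, add_zero,
        MilnorKLib.tame_consK_uniformizer hdA π hπ, MilK.map_symbol, natCast_zsmul]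
      congr 2
  exact this

end Groth.Agent.S19013
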