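import Groth.Statements.S19018
import Mathlib.RingTheory.Kaehler.Basic
import Mathlib.RingTheory.TensorProduct.Maps

set_option autoImplicit false
universe u
open TensorProduct
open SymTen

namespace Groth.Agent.S19018

/-- Suppose k is a field in which 2 ≠ 0 and R is a commutative k-algebra. Write I for the ideal of the
diagonal, i.e. the kernel of multiplication R ⊗_k R → R, and write S for the subalgebra of R ⊗_k R
consisting of elements invariant under interchanging the two tensor factors. Then, viewed as ideals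
of S, the swap-invariant elements of I^4 form precisely the square of the ideal of swap-invariant
elements of I^2. (The source is stated over the complex numbers; the proof needs only that 2 is
invertible.) -/
theorem result
    (k R : Type u) [Field k] [NeZero (2 : k)] [CommRing R] [Algebra k R] :
    Ideal.comap
        (AlgHom.equalizer ((Algebra.TensorProduct.comm k R R : R ⊗[k] R ≃ₐ[k] R ⊗[k] R) : R ⊗[k] R →ₐ[k] R ⊗[k] R)
          (AlgHom.id k (R ⊗[k] R))).val
        (KaehlerDifferential.ideal k R ^ 4) =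
      (Ideal.comap
        (AlgHom.equalizer ((Algebra.TensorProduct.comm k R R : R ⊗[k] R ≃ₐ[k] R ⊗[k] R) : R ⊗[k] R →ₐ[k] R ⊗[k] R)
          (AlgHom.id k (R ⊗[k] R))).val
        (KaehlerDifferential.ideal k R ^ 2)) ^ 2 := by
  classical
  let σ : R ⊗[k] R →ₐ[k] R ⊗[k] R := (Algebra.TensorProduct.comm k R R : R ⊗[k] R ≃ₐ[k] R ⊗[k] R)
  let S := AlgHom.equalizer σ (AlgHom.id k (R ⊗[k] R))
  let J := KaehlerDifferential.ideal k R
  show Ideal.comap S.val (J ^ 4) = (Ideal.comap S.val (J ^ 2)) ^ 2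
  let G : Set (R ⊗[k] R) := Set.range fun r : R => (1 : R) ⊗ₜ[k] r - r ⊗ₜ[k] 1
  have hJ : J = Ideal.span G := (KaehlerDifferential.span_range_eq_ideal k R).symm
  have hG : ∀ g ∈ G, σ g = -g := by
    rintro _ ⟨r, rfl⟩
    simp [σ]
  have hinv : ∀ z, σ (σ z) = z := fun z => (Algebra.TensorProduct.comm k R R).symm_apply_apply z
  refine le_antisymm (fun x hx => ?_) ?_
  · let T : Submodule k (R ⊗[k] R) := Submodule.map S.val.toLinearMap ((Ideal.comap S.val (J ^ 2) ^ 2).restrictScalars k)
    have hP : ∀ z ∈ J ^ 4, ∀ y, y * z + σ (y * z) ∈ T := by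
      intro z hz
      rw [hJ, show (4 : ℕ) = 2 + 2 from rfl, pow_add, pow_two, Ideal.span_mul_span', Ideal.span_mul_span'] at hz
      induction hz using Submodule.span_induction with
      | zero => intro y; simp
      | add a b _ _ ha hb => intro y; rw [mul_add, map_add, add_add_add_comm]; exact add_mem (ha y) (hb y)
      | smul c a _ ha => intro y; rw [smul_eq_mul, ← mul_assoc]; exact ha (y * c)
      | mem a ha =>
        intro y
        obtain ⟨_, ⟨g1, h1, g2, h2, rfl⟩, _, ⟨g3, h3, g4, h4, rfl⟩, rfl⟩ := ha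
        have hm : ∀ g ∈ G, g ∈ J := fun g hg => hJ ▸ Ideal.subset_span hg
        let u : S := ⟨g1 * g2, show σ (g1 * g2) = g1 * g2 by rw [map_mul, hG _ h1, hG _ h2, neg_mul_neg]⟩
        let v : S := ⟨(y + σ y) * (g3 * g4), show σ ((y + σ y) * (g3 * g4)) = (y + σ y) * (g3 * g4) by
          rw [map_mul, map_add, map_mul, hinv, hG _ h3, hG _ h4, neg_mul_neg, add_comm]⟩
        have hu : u ∈ Ideal.comap S.val (J ^ 2) := show g1 * g2 ∈ J ^ 2 by rw [pow_two]; exact Ideal.mul_mem_mul (hm _ h1) (hm _ h2)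
        have hv : v ∈ Ideal.comap S.val (J ^ 2) := show (y + σ y) * (g3 * g4) ∈ J ^ 2 by rw [pow_two]; exact Ideal.mul_mem_left _ _ (Ideal.mul_mem_mul (hm _ h3) (hm _ h4))
        refine ⟨u * v, show u * v ∈ Ideal.comap S.val (J ^ 2) ^ 2 from (pow_two (Ideal.comap S.val (J ^ 2))).symm ▸ Ideal.mul_mem_mul hu hv, ?_⟩
        show g1 * g2 * ((y + σ y) * (g3 * g4)) = y * (g1 * g2 * (g3 * g4)) + σ (y * (g1 * g2 * (g3 * g4)))
        rw [map_mul, map_mul, map_mul, map_mul, hG _ h1, hG _ h2, hG _ h3, hG _ h4]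
        ring
    obtain ⟨w, hw, hwx⟩ := hP _ hx 1
    have hxx : w = x + x := Subtype.ext (by
      have : σ (x : R ⊗[k] R) = x := x.2
      change (w : R ⊗[k] R) = (x : R ⊗[k] R) + (x : R ⊗[k] R)
      refine hwx.trans ?_
      rw [one_mul]
      exact congrArg _ this)
    have : x = (2 : k)⁻¹ • w := by
      rw [hxx, ← two_smul k x, smul_smul, inv_mul_cancel₀ (NeZero.ne (2 : k)), one_smul]
    rw [this]
    exact Submodule.smul_of_tower_mem _ _ hw
  · refine (Ideal.le_comap_pow S.val (K := J ^ 2) 2).trans ?_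
    rw [← pow_mul]

end Groth.Agent.S19018
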