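import Groth.Statements.S19019
import Mathlib.Analysis.SpecialFunctions.Integrals.Basic
import Mathlib.MeasureTheory.Integral.IntervalIntegral.Basic
import Mathlib.Topology.Algebra.Module.Cardinality
import Mathlib.Analysis.SpecialFunctions.Complex.Log
import Mathlib.Algebra.Polynomial.Roots

set_option autoImplicit false
open scoped ComplexOrder
open Toeplitz

namespace Groth.Agent.S19019

/-- Let A be an m × m complex Hermitian Toeplitz matrix, with entries A i j = t (j - i) constant along
diagonals, and let f(y) = Σ_{-m < k < m} t k · exp(i k y) be the trigonometric polynomial attached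
to it. If f has positive real part at every real y outside a countable set, then A is positive
definite (hence nondegenerate). (The source also states the mirror case: f negative off a countable
set gives A negative definite, which is this statement for -A.) -/
theorem result
    (m : ℕ) (t : ℤ → ℂ) (A : Matrix (Fin m) (Fin m) ℂ)
    (hA : ∀ i j : Fin m, A i j = t ((j : ℤ) - (i : ℤ))) (hH : A.IsHermitian)
    (hpos : Set.Countable {y : ℝ | ¬ 0 < (∑ k ∈ Finset.Ioo (-(m : ℤ)) (m : ℤ),
        t k * Complex.exp (Complex.I * (k : ℂ) * (y : ℂ))).re}) :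
    A.PosDef := by
  classical
  set f : ℝ → ℂ := fun y => ∑ k ∈ Finset.Ioo (-(m : ℤ)) (m : ℤ),
    t k * Complex.exp (Complex.I * (k : ℂ) * (y : ℂ)) with hf
  refine Matrix.PosDef.of_dotProduct_mulVec_pos hH fun x hx => ?_
  set P : ℝ → ℂ := fun y => ∑ j : Fin m, x j * Complex.exp (-(Complex.I * (j : ℕ) * (y : ℂ))) with hP
  have hfc : Continuous f := by rw [hf]; fun_prop
  have hPc : Continuous P := by rw [hP]; fun_prop
  set g : ℝ → ℂ := fun y => f y * (starRingEnd ℂ (P y) * P y) with hg
  have hgc : Continuous g := by rw [hg]; fun_prop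
  -- orthogonality
  have horth : ∀ k : ℤ, ∫ y in (0 : ℝ)..(2 * Real.pi), Complex.exp (Complex.I * (k : ℂ) * (y : ℂ))
      = if k = 0 then ((2 * Real.pi : ℝ) : ℂ) else 0 := by
    intro k
    split_ifs with hk
    · simp [hk]
    · have hc : Complex.I * (k : ℂ) ≠ 0 := mul_ne_zero Complex.I_ne_zero (by exact_mod_cast hk)
      rw [integral_exp_mul_complex hc]
      have : Complex.exp (Complex.I * (k : ℂ) * ((2 * Real.pi : ℝ) : ℂ)) = 1 :=
        Complex.exp_eq_one_iff.2 ⟨k, by push_cast; ring⟩
      rw [this, Complex.ofReal_zero, mul_zero, Complex.exp_zero, sub_self, zero_div]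
  have hexp : ∀ y : ℝ, g y = ∑ k ∈ Finset.Ioo (-(m : ℤ)) (m : ℤ), ∑ i : Fin m, ∑ j : Fin m,
      t k * (starRingEnd ℂ (x i) * x j) *
        Complex.exp (Complex.I * ((k + (i : ℕ) - (j : ℕ) : ℤ) : ℂ) * (y : ℂ)) := by
    intro y
    simp only [hg, hf, hP, map_sum, map_mul, ← Complex.exp_conj, map_neg, Complex.conj_I, Complex.conj_ofReal,
      map_natCast, Finset.sum_mul, Finset.mul_sum]
    rw [Finset.sum_comm]
    refine Eq.trans ?_ Finset.sum_comm
    refine Finset.sum_congr rfl fun i _ => ?_
    rw [Finset.sum_comm]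
    refine Finset.sum_congr rfl fun k _ => Finset.sum_congr rfl fun j _ => ?_
    rw [show Complex.I * ((k + (i : ℕ) - (j : ℕ) : ℤ) : ℂ) * (y : ℂ)
      = Complex.I * (k : ℂ) * (y : ℂ) + -(-Complex.I * ((i : ℕ) : ℂ) * (y : ℂ)) + -(Complex.I * ((j : ℕ) : ℂ) * (y : ℂ))
      by push_cast; ring, Complex.exp_add, Complex.exp_add]
    ring
  have hint : ∫ y in (0 : ℝ)..(2 * Real.pi), g y = ((2 * Real.pi : ℝ) : ℂ) * (star x ⬝ᵥ A.mulVec x) := by
    simp only [hexp]
    rw [intervalIntegral.integral_finsetSum (fun k _ => Continuous.intervalIntegrable (by fun_prop) _ _)]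
    simp_rw [fun k => intervalIntegral.integral_finsetSum (μ := MeasureTheory.volume) (a := (0 : ℝ)) (b := 2 * Real.pi)
      (s := (Finset.univ : Finset (Fin m)))
      (f := fun i (y : ℝ) => ∑ j : Fin m, t k * (starRingEnd ℂ (x i) * x j) *
        Complex.exp (Complex.I * ((k + (i : ℕ) - (j : ℕ) : ℤ) : ℂ) * (y : ℂ)))
      (fun i _ => Continuous.intervalIntegrable (by fun_prop) _ _)]
    simp_rw [fun (k : ℤ) (i : Fin m) => intervalIntegral.integral_finsetSum (μ := MeasureTheory.volume) (a := (0 : ℝ))
      (b := 2 * Real.pi) (s := (Finset.univ : Finset (Fin m)))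
      (f := fun j (y : ℝ) => t k * (starRingEnd ℂ (x i) * x j) *
        Complex.exp (Complex.I * ((k + (i : ℕ) - (j : ℕ) : ℤ) : ℂ) * (y : ℂ)))
      (fun j _ => Continuous.intervalIntegrable (by fun_prop) _ _)]
    simp only [intervalIntegral.integral_const_mul, horth]
    rw [Finset.sum_comm, dotProduct, Finset.mul_sum]
    refine Finset.sum_congr rfl fun i _ => ?_
    rw [Finset.sum_comm, Matrix.mulVec, dotProduct, Finset.mul_sum, Finset.mul_sum]
    refine Finset.sum_congr rfl fun j _ => ?_
    rw [Finset.sum_eq_single ((j : ℤ) - (i : ℤ))]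
    · rw [if_pos (by omega), hA]
      simp [Pi.star_apply]
      ring
    · intro k _ hk
      rw [if_neg (by omega), mul_zero]
    · intro h
      exact absurd (Finset.mem_Ioo.2 ⟨by omega, by omega⟩) h
  -- positivity
  have hdense : Dense ({y : ℝ | ¬ 0 < (f y).re}ᶜ) := Set.Countable.dense_compl ℝ hpos
  have hfnn : ∀ y, 0 ≤ (f y).re := by
    intro y
    have hclosed : IsClosed {y : ℝ | 0 ≤ (f y).re} := isClosed_le continuous_const (Complex.continuous_re.comp hfc)
    refine (hclosed.closure_subset_iff.2 (fun z hz => ?_)) (hdense y)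
    exact (not_not.1 hz).le
  have hgre : ∀ y, (g y).re = (f y).re * Complex.normSq (P y) := by
    intro y
    simp only [hg, ← Complex.normSq_eq_conj_mul_self, Complex.mul_re, Complex.ofReal_re, Complex.ofReal_im, mul_zero,
      sub_zero]
  have hPzero : Set.Countable {y : ℝ | P y = 0} := by
    set p : Polynomial ℂ := ∑ j : Fin m, Polynomial.monomial (j : ℕ) (x j) with hp
    have hp0 : p ≠ 0 := by
      obtain ⟨j, hj⟩ := Function.ne_iff.1 hx
      intro e
      have := congrArg (fun q => Polynomial.coeff q (j : ℕ)) e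
      simp [hp, Polynomial.coeff_monomial, Fin.val_inj] at this
      exact hj this
    have hsub : {y : ℝ | P y = 0} ⊆ ⋃ z ∈ (p.roots.toFinset : Set ℂ),
        {y : ℝ | Complex.exp (-(Complex.I * (y : ℂ))) = z} := by
      intro y hy
      simp only [Set.mem_iUnion, Set.mem_setOf_eq, exists_prop, exists_eq_right', Finset.mem_coe,
        Multiset.mem_toFinset, Polynomial.mem_roots hp0, Polynomial.IsRoot.def]
      rw [hp, Polynomial.eval_finset_sum]
      rw [Set.mem_setOf_eq, hP] at hy
      rw [← hy]
      refine Finset.sum_congr rfl fun j _ => ?_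
      rw [Polynomial.eval_monomial, ← Complex.exp_nat_mul]
      congr 2
      ring
    refine Set.Countable.mono hsub (Set.Countable.biUnion (Finset.countable_toSet _) fun z _ => ?_)
    by_cases hz : ∃ y0 : ℝ, Complex.exp (-(Complex.I * (y0 : ℂ))) = z
    · obtain ⟨y0, rfl⟩ := hz
      refine Set.Countable.mono ?_ (Set.countable_range fun n : ℤ => y0 + n * (2 * Real.pi))
      intro y hy
      obtain ⟨n, hn⟩ := Complex.exp_eq_exp_iff_exists_int.1 hy
      refine ⟨-n, ?_⟩
      have : (y : ℂ) = ((y0 + ((-n : ℤ) : ℝ) * (2 * Real.pi) : ℝ) : ℂ) := by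
        push_cast
        have h2 := congrArg (fun w => Complex.I * w) hn
        simp only [← mul_assoc, mul_neg, Complex.I_mul_I, neg_mul, one_mul, neg_neg, mul_add] at h2
        linear_combination h2 + (n : ℂ) * 2 * (Real.pi : ℂ) * Complex.I_mul_I
      exact (Complex.ofReal_injective this).symm
    · push Not at hz
      exact Set.countable_empty.mono fun y hy => (hz y hy).elim
  have hRe : 0 < (∫ y in (0 : ℝ)..(2 * Real.pi), g y).re := by
    rw [show (∫ y in (0 : ℝ)..(2 * Real.pi), g y).re = ∫ y in (0 : ℝ)..(2 * Real.pi), (g y).re from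
      (Complex.reCLM.intervalIntegral_comp_comm (hgc.intervalIntegrable _ _)).symm]
    refine intervalIntegral.integral_pos (by positivity) (Complex.continuous_re.comp hgc).continuousOn
      (fun y _ => by rw [hgre]; exact mul_nonneg (hfnn y) (Complex.normSq_nonneg _)) ?_
    obtain ⟨y, hy, hy1⟩ := (Set.Countable.dense_compl ℝ (hpos.union hPzero)).exists_mem_open isOpen_Ioo
      (Set.nonempty_Ioo.2 (show (0 : ℝ) < 2 * Real.pi by positivity))
    rw [Set.mem_compl_iff, Set.mem_union, not_or] at hy
    refine ⟨y, Set.Ioo_subset_Icc_self hy1, ?_⟩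
    rw [hgre]
    exact mul_pos (not_not.1 hy.1) (Complex.normSq_pos.2 hy.2)
  rw [hint, Complex.re_ofReal_mul] at hRe
  rw [Complex.lt_def]
  refine ⟨by simpa using (pos_iff_pos_of_mul_pos hRe).1 (by positivity), ?_⟩
  have h := congrArg Complex.im (show (starRingEnd ℂ) (star x ⬝ᵥ A.mulVec x) = star x ⬝ᵥ A.mulVec x by
    rw [starRingEnd_apply, ← Matrix.star_dotProduct_star, star_star, Matrix.star_mulVec, hH.eq, dotProduct_comm,
      Matrix.dotProduct_mulVec]
    exact dotProduct_comm _ _)
  simp [Complex.conj_im] at h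
  simp
  linarith

end Groth.Agent.S19019
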