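import Groth.Statements.S19021
import Groth.Agent.ToeplitzGram.Even
import Mathlib.LinearAlgebra.Matrix.ToLinearEquiv

set_option autoImplicit false
open Toeplitz

namespace Groth.Agent.S19021

open Finset
/-- For natural numbers n and m, the m × m integer Toeplitz matrix with (i, j) entry (-1)^(i+j) ·
C(2n+1, n+1+i-j) (the binomial coefficient being 0 outside the range 0 ≤ n+1+i-j ≤ 2n+1;
equivalently s_k = (-1)^k C(2n+1, n+k+1) on the diagonal i - j = k for -n-1 ≤ k ≤ n and zero beyond)
is nondegenerate: its determinant is nonzero (m = 0 is the empty matrix, of determinant 1). -/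
theorem result (n m : ℕ) :
    (Matrix.of fun i j : Fin m =>
        (-1 : ℤ) ^ ((i : ℕ) + (j : ℕ)) *
          (if (j : ℕ) ≤ (i : ℕ) then (Nat.choose (2 * n + 1) (n + 1 + ((i : ℕ) - (j : ℕ))) : ℤ)
            else (Nat.choose (2 * n + 1) (n + ((j : ℕ) - (i : ℕ))) : ℤ))).det ≠ 0 := by
  set M := (Matrix.of fun i j : Fin m =>
        (-1 : ℤ) ^ ((i : ℕ) + (j : ℕ)) *
          (if (j : ℕ) ≤ (i : ℕ) then (Nat.choose (2 * n + 1) (n + 1 + ((i : ℕ) - (j : ℕ))) : ℤ)
            else (Nat.choose (2 * n + 1) (n + ((j : ℕ) - (i : ℕ))) : ℤ))) with hM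
  intro hdet
  obtain ⟨v, hv, hMv⟩ := Matrix.exists_mulVec_eq_zero_iff.2 hdet
  set w : Fin m → ℝ := fun i => (v i : ℝ) with hw
  have hw0 : w ≠ 0 := fun e => hv (funext fun i => by simpa [hw] using congrFun e i)
  have hrow : ∀ i, ∑ j, (M i j : ℝ) * w j = 0 := fun i => by
    have := congrArg (fun z : ℤ => (z : ℝ)) (congrFun hMv i)
    simpa [Matrix.mulVec, dotProduct, hw] using this
  have hpos := (Groth.Agent.ToeplitzGram.posDef_signed (n + 1) m).dotProduct_mulVec_pos hw0
  have hentry : ∀ i j : Fin m, (-1 : ℝ) ^ ((i : ℕ) + (j : ℕ))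
      * (Nat.choose (2 * (n + 1)) (n + 1 + Nat.dist i j) : ℝ) = (M i j : ℝ) + (M j i : ℝ) := by
    intro i j
    have hsum : ∀ d, (2 * (n + 1)).choose (n + 1 + d)
        = (2 * n + 1).choose (n + 1 + d) + (2 * n + 1).choose (n + d) := fun d => by
      rw [show 2 * (n + 1) = (2 * n + 1) + 1 by omega, show n + 1 + d = (n + d) + 1 by omega,
        Nat.choose_succ_succ', add_comm]
    simp only [hM, Matrix.of_apply]
    push_cast
    rcases lt_trichotomy (i : ℕ) (j : ℕ) with h | h | h
    · rw [if_neg (by omega), if_pos h.le, Nat.dist_eq_sub_of_le h.le, hsum, add_comm (j : ℕ) (i : ℕ)]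
      push_cast; ring
    · rw [if_pos h.ge, if_pos h.le, Nat.dist_eq_sub_of_le h.le, hsum, h, Nat.sub_self, add_zero, add_zero,
        Nat.choose_symm_of_eq_add (by omega : 2 * n + 1 = n + (n + 1))]
      push_cast; ring
    · rw [if_pos h.le, if_neg (by omega), Nat.dist_comm, Nat.dist_eq_sub_of_le h.le, hsum, add_comm (j : ℕ) (i : ℕ)]
      push_cast; ring
  simp only [dotProduct, Matrix.mulVec, Matrix.of_apply, hentry, add_mul, sum_add_distrib, hrow, zero_add,
    Pi.star_apply, star_trivial, mul_sum] at hpos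
  rw [Finset.sum_comm] at hpos
  have : ∀ j, ∑ i, w i * ((M j i : ℝ) * w j) = w j * ∑ i, (M j i : ℝ) * w i := fun j => by
    rw [mul_sum]; exact sum_congr rfl fun i _ => by ring
  simp only [this, hrow, mul_zero, sum_const_zero] at hpos
  exact lt_irrefl _ hpos

end Groth.Agent.S19021
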