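import Groth.Statements.S19024
import Mathlib

set_option autoImplicit false
open SymIdx

namespace Groth.Agent.S19024

/-- Let a be a map from Fin k to finite subsets of Fin n, R a set of elements of Fin n, and H^R(a) the
set of permutations of Fin k preserving each fibre a⁻¹({r}) for r ∈ R and fixing all other points.
Let τ be a permutation of Fin n carrying R onto itself and τ' a permutation of Fin k that lifts τ on
the singleton fibres (a i = {j} implies a (τ' i) = {τ j}), is increasing on each such fibre, and
fixes every i for which a i is not a singleton. Then for every g in H^R(a) the conjugate τ' g τ'⁻¹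
lies in H^R(a). (In the source τ ranges over the permutations supported on R that preserve the fibre
cardinalities, which is exactly when such a lift exists, the pairs (τ, τ') form the group Δ^R(a),
and the printed consequences — H^R(a) is normalised by Δ^R(a), so the group they generate is a
semidirect product — follow formally from this conjugation statement.) -/
theorem result
    (n k : ℕ) (a : Fin k → Finset (Fin n)) (R : Set (Fin n))
    (τ : Equiv.Perm (Fin n)) (hτ : ∀ j : Fin n, τ j ∈ R ↔ j ∈ R)
    (τ' : Equiv.Perm (Fin k))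
    (h1 : ∀ (i : Fin k) (j : Fin n), a i = {j} → a (τ' i) = {τ j})
    (h2 : ∀ i : Fin k, (∀ j : Fin n, a i ≠ {j}) → τ' i = i)
    (h3 : ∀ (i i' : Fin k) (j : Fin n), a i = {j} → a i' = {j} → i < i' → τ' i < τ' i')
    (g : Equiv.Perm (Fin k))
    (hg1 : ∀ (i : Fin k) (r : Fin n), r ∈ R → a i = {r} → a (g i) = {r})
    (hg2 : ∀ i : Fin k, (∀ r : Fin n, r ∈ R → a i ≠ {r}) → g i = i) :
    (∀ (i : Fin k) (r : Fin n), r ∈ R → a i = {r} → a ((τ' * g * τ'⁻¹) i) = {r}) ∧
      (∀ i : Fin k, (∀ r : Fin n, r ∈ R → a i ≠ {r}) → (τ' * g * τ'⁻¹) i = i) := by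
  have happ : ∀ x, τ' (τ'⁻¹ x) = x := τ'.apply_symm_apply
  have hsing : ∀ (i : Fin k) (r : Fin n), a i = {r} → ∃ j, a (τ'⁻¹ i) = {j} ∧ τ j = r := by
    intro i r hi
    by_cases h : ∀ j, a (τ'⁻¹ i) ≠ {j}
    · have := h2 _ h
      rw [happ] at this
      rw [← this] at h
      exact absurd hi (h r)
    · push Not at h
      obtain ⟨j, hj⟩ := h
      have := h1 _ j hj
      rw [happ, hi] at this
      exact ⟨j, hj, (Finset.singleton_inj.mp this).symm⟩
  refine ⟨fun i r hr hi => ?_, fun i hi => ?_⟩
  · obtain ⟨j, hj, rfl⟩ := hsing i r hi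
    exact h1 _ j (hg1 _ j ((hτ j).mp hr) hj)
  · have hg : g (τ'⁻¹ i) = τ'⁻¹ i := by
      by_cases h : ∃ r, a i = {r}
      · obtain ⟨r, hr⟩ := h
        obtain ⟨j, hj, rfl⟩ := hsing i r hr
        refine hg2 _ fun r' hr' he => ?_
        obtain rfl := Finset.singleton_inj.mp (hj.symm.trans he)
        exact hi _ ((hτ j).mpr hr') hr
      · push Not at h
        have he : τ'⁻¹ i = i := by
          conv_lhs => rw [← h2 i h]
          exact τ'.symm_apply_apply i
        rw [he]; exact hg2 i hi
    rw [Equiv.Perm.mul_apply, Equiv.Perm.mul_apply, hg, happ]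

end Groth.Agent.S19024
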