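import Groth.Statements.S19037
import Mathlib

set_option autoImplicit false
universe u v
open scoped Polynomial LaurentPolynomial
open Instab

namespace Groth.Agent.S19037

/-- Affine form over a ring R. Let A be a commutative ℤ-graded R-algebra and t an element of degree −1
(so A is a graded algebra over R[t] with t in degree −1), and let ψ : A[1/t] → R[T, T⁻¹] be an
R-algebra map sending t to T which is graded, in the sense that each homogeneous element of degree n
of A goes to an element of R times T^(−n). Then ψ is obtained by inverting t from an R-algebra map χ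
: A → R[T] (compared through the inclusion of R[T] in R[T, T⁻¹]) if and only if ψ kills t·a for
every homogeneous a of degree 1; such a χ is unique. (The source states this for quasi-coherent
graded algebras over an arbitrary base scheme; the statement is local on the base and is given here
over an affine base.) -/
theorem result
    {R : Type u} {A : Type v} [CommRing R] [CommRing A] [Algebra R A]
    (𝒜 : ℤ → Submodule R A) [GradedAlgebra 𝒜] (t : A) (ht : t ∈ 𝒜 (-1))
    (ψ : Localization.Away t →ₐ[R] R[T;T⁻¹])
    (hψt : ψ (algebraMap A (Localization.Away t) t) = LaurentPolynomial.T 1)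
    (hψ : ∀ (n : ℤ) (a : A), a ∈ 𝒜 n →
      ∃ r : R, ψ (algebraMap A (Localization.Away t) a) = LaurentPolynomial.C r * LaurentPolynomial.T (-n)) :
    (∃! χ : A →ₐ[R] R[X], ∀ a : A,
        ψ (algebraMap A (Localization.Away t) a) = Polynomial.toLaurentAlg (χ a)) ↔
      ∀ a ∈ 𝒜 1, ψ (algebraMap A (Localization.Away t) (t * a)) = 0 := by
  classical
  let ψ₀ : A →ₐ[R] R[T;T⁻¹] := ψ.comp (IsScalarTower.toAlgHom R A (Localization.Away t))
  have hinj : Function.Injective (Polynomial.toLaurentAlg (R := R)) := Polynomial.toLaurent_injective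
  constructor
  · rintro ⟨χ, hχ, -⟩ a ha
    obtain ⟨r, hr⟩ := hψ 1 a ha
    have h := (hχ a).symm.trans hr
    have hr0 : r = 0 := by
      have h2 := congrArg (· * LaurentPolynomial.T 1) h
      simp only [mul_assoc, ← LaurentPolynomial.T_add, neg_add_cancel, LaurentPolynomial.T_zero, mul_one] at h2
      have h3 : Polynomial.toLaurent (χ a * Polynomial.X) = Polynomial.toLaurent (Polynomial.C r) := by
        rw [map_mul, Polynomial.toLaurent_X, Polynomial.toLaurent_C]; exact h2
      have := congrArg (Polynomial.coeff · 0) (Polynomial.toLaurent_injective h3)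
      simpa using this.symm
    rw [map_mul, map_mul, hr, hr0, map_zero, zero_mul, mul_zero]
  · intro hvan
    have hmem : ∀ x : A, ψ₀ x ∈ (Polynomial.toLaurentAlg (R := R)).range := by
      intro x
      induction x using DirectSum.Decomposition.inductionOn 𝒜 with
      | zero => rw [map_zero]; exact zero_mem _
      | @homogeneous i a =>
        obtain ⟨r, hr⟩ := hψ i a a.2
        show ψ (algebraMap A _ (a : A)) ∈ _
        rw [hr]
        rcases le_or_gt i 0 with hi | hi
        · obtain ⟨j, hj⟩ : ∃ j : ℕ, -i = (j : ℤ) := ⟨(-i).toNat, by omega⟩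
          refine ⟨Polynomial.C r * Polynomial.X ^ j, ?_⟩
          show Polynomial.toLaurentAlg (Polynomial.C r * Polynomial.X ^ j) = _
          rw [hj, Polynomial.toLaurentAlg_apply, map_mul, Polynomial.toLaurent_C, Polynomial.toLaurent_X_pow]
        · obtain ⟨j, rfl⟩ : ∃ j : ℕ, i = (j : ℤ) + 1 := ⟨(i - 1).toNat, by omega⟩
          have hd : t ^ j * (a : A) ∈ 𝒜 1 := by
            have h := SetLike.mul_mem_graded (SetLike.pow_mem_graded j ht) a.2
            rwa [show j • (-1 : ℤ) + ((j : ℤ) + 1) = 1 by simp] at h
          have h0 := hvan _ hd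
          rw [← mul_assoc, ← pow_succ', map_mul, map_mul, map_pow, map_pow, hψt, hr, LaurentPolynomial.T_pow,
            mul_left_comm, ← LaurentPolynomial.T_add] at h0
          rw [show ((j + 1 : ℕ) : ℤ) * 1 + -((j : ℤ) + 1) = 0 by push_cast; ring, LaurentPolynomial.T_zero, mul_one] at h0
          rw [h0, zero_mul]; exact zero_mem _
      | add a b ha hb => rw [map_add]; exact add_mem ha hb
    let χ : A →ₐ[R] R[X] := (AlgEquiv.ofInjective _ hinj).symm.toAlgHom.comp (ψ₀.codRestrict _ hmem)
    have hχ : ∀ a : A, ψ (algebraMap A (Localization.Away t) a) = Polynomial.toLaurentAlg (χ a) := fun a =>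
      (congrArg Subtype.val ((AlgEquiv.ofInjective _ hinj).apply_symm_apply (ψ₀.codRestrict _ hmem a))).symm
    exact ⟨χ, hχ, fun χ' hχ' => AlgHom.ext fun a => hinj ((hχ' a).symm.trans (hχ a))⟩

end Groth.Agent.S19037
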