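import Groth.Statements.S19092
import Mathlib.Tactic.Ring
import Mathlib.Algebra.CharP.Frobenius
-- import your own Groth.Agent.* helpers here

set_option autoImplicit false
universe u
open FrobAlg

namespace Groth.Agent.S19092

/-- Let p be a prime and A a commutative ring of characteristic p whose absolute Frobenius a ↦ a^p is a
finite ring homomorphism. Then the same holds for every quotient and every localization of A: for
every ideal I of A such that A ⧸ I has characteristic p (every proper ideal) the absolute Frobenius
of A ⧸ I is finite, and for every submonoid S of A and every localization B of A at S of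
characteristic p (every nonzero localization) the absolute Frobenius of B is finite. -/
theorem result (p : ℕ) [Fact p.Prime]
    (A : Type u) [CommRing A] [CharP A p] (hF : (frobenius A p).Finite) :
    (∀ (I : Ideal A) [CharP (A ⧸ I) p], (frobenius (A ⧸ I) p).Finite) ∧
      ∀ (S : Submonoid A) (B : Type u) [CommRing B] [Algebra A B] [IsLocalization S B] [CharP B p],
        (frobenius B p).Finite := by
  refine ⟨fun I _ => ?_, fun S B _ _ _ _ => ?_⟩
  · refine RingHom.Finite.of_comp_finite (f := Ideal.Quotient.mk I) ?_
    rw [show (frobenius (A ⧸ I) p).comp (Ideal.Quotient.mk I) = (Ideal.Quotient.mk I).comp (frobenius A p) from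
      RingHom.ext fun x => by simp only [RingHom.comp_apply, frobenius_def, map_pow]]
    exact (RingHom.Finite.of_surjective _ Ideal.Quotient.mk_surjective).comp hF
  · classical
    obtain ⟨s, hs⟩ : ∃ s : Finset A, ∀ a, ∃ c : A → A, a = ∑ g ∈ s, c g ^ p * g := by
      obtain ⟨s, hs⟩ := (@Module.Finite.fg_top A A _ _ (frobenius A p).toAlgebra.toModule hF)
      refine ⟨s, fun a => ?_⟩
      have ha : a ∈ @Submodule.span A A _ _ (frobenius A p).toAlgebra.toModule s := by rw [hs]; exact trivial
      obtain ⟨c, -, hc⟩ := (@Submodule.mem_span_finset A A _ _ (frobenius A p).toAlgebra.toModule _ _).1 ha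
      exact ⟨c, hc.symm⟩
    show @Module.Finite B B _ _ (frobenius B p).toAlgebra.toModule
    refine @Module.Finite.of_fg_top B B _ _ (frobenius B p).toAlgebra.toModule ⟨s.image (algebraMap A B), ?_⟩
    refine eq_top_iff.2 ?_
    rintro b -
    obtain ⟨a, u, rfl⟩ := IsLocalization.exists_mk'_eq S b
    obtain ⟨c, hc⟩ := hs (a * (u : A) ^ (p - 1))
    set bu := IsLocalization.mk' B (1 : A) u
    have hb : IsLocalization.mk' B a u = bu ^ p * algebraMap A B (a * (u : A) ^ (p - 1)) := by
      rw [IsLocalization.mk'_eq_iff_eq_mul, map_mul, map_pow]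
      have hu : bu * algebraMap A B u = 1 := by rw [IsLocalization.mk'_spec, map_one]
      obtain ⟨j, hj⟩ : ∃ j, p = j + 1 := ⟨p - 1, by have := (Fact.out : p.Prime).pos; omega⟩
      rw [hj, Nat.add_sub_cancel]
      calc algebraMap A B a = algebraMap A B a * (bu * algebraMap A B u) ^ (j + 1) := by rw [hu, one_pow, mul_one]
        _ = _ := by ring
    have e : IsLocalization.mk' B a u = ∑ g ∈ s, (bu * algebraMap A B (c g)) ^ p * algebraMap A B g := by
      rw [hb, hc, map_sum, Finset.mul_sum]
      exact Finset.sum_congr rfl fun g _ => by rw [map_mul, map_pow, mul_pow, mul_assoc]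
    rw [e]
    refine Submodule.sum_mem _ (fun g hg => ?_)
    exact @Submodule.smul_mem B B _ _ (frobenius B p).toAlgebra.toModule _ _ (bu * algebraMap A B (c g))
      (@Submodule.subset_span B B _ _ (frobenius B p).toAlgebra.toModule _ _ (Finset.mem_image_of_mem _ hg))

end Groth.Agent.S19092
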