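import Groth.Statements.S19148
import Mathlib.LinearAlgebra.PiTensorProduct.Basic
import Mathlib.LinearAlgebra.Multilinear.Basic
import Mathlib.LinearAlgebra.Dual.Lemmas
import Mathlib.LinearAlgebra.Projection
import Mathlib.RingTheory.Nakayama

set_option autoImplicit false
open scoped TensorProduct
universe u v
open FiltMod

namespace Groth.Agent.S19148


theorem le_of_range_eq {R : Type u} [CommRing R] {M : Type v} [AddCommGroup M] [Module R M]
    [Module.Finite R M] [Module.Projective R M] (F₁ F₂ : Submodule R M)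
    (h₁ : ∃ C : Submodule R M, IsCompl F₁ C) (h₂ : ∃ C : Submodule R M, IsCompl F₂ C) (k : ℕ) (hk : 1 ≤ k)
    (h : LinearMap.range (PiTensorProduct.map (R := R) (fun _ : Fin k => F₁.subtype)) =
      LinearMap.range (PiTensorProduct.map (R := R) (fun _ : Fin k => F₂.subtype))) : F₁ ≤ F₂ := by
  classical
  obtain ⟨C₁, hC₁⟩ := h₁
  obtain ⟨C₂, hC₂⟩ := h₂
  obtain ⟨m, rfl⟩ : ∃ m, k = m + 1 := ⟨k - 1, by omega⟩
  have prod0 : ∀ (F F' : Submodule R M), LinearMap.range (PiTensorProduct.map (R := R) (fun _ : Fin (m + 1) => F.subtype)) =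
      LinearMap.range (PiTensorProduct.map (R := R) (fun _ : Fin (m + 1) => F'.subtype)) →
      ∀ (π : M →ₗ[R] M), (∀ w ∈ F', π w = 0) → ∀ z : Fin (m + 1) → M, (∀ i, z i ∈ F) →
      ∀ ψ : Fin (m + 1) → (M →ₗ[R] R), ψ 0 (π (z 0)) * ∏ i : Fin m, ψ i.succ (z i.succ) = 0 := by
    intro F F' he π hπ z hz ψ
    let Φ := PiTensorProduct.lift ((MultilinearMap.mkPiAlgebra R (Fin (m + 1)) R).compLinearMap
      (Fin.cons (α := fun _ => M →ₗ[R] R) (ψ 0 ∘ₗ π) fun i => ψ i.succ))
    have hΦ : ∀ w : Fin (m + 1) → M, Φ (PiTensorProduct.tprod R w) = ψ 0 (π (w 0)) * ∏ i : Fin m, ψ i.succ (w i.succ) :=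
      fun w => by simp [Φ, Fin.prod_univ_succ]
    have hmem : PiTensorProduct.tprod R z ∈ LinearMap.range (PiTensorProduct.map (R := R) (fun _ : Fin (m + 1) => F.subtype)) :=
      ⟨PiTensorProduct.tprod R fun i => ⟨z i, hz i⟩, by simp⟩
    rw [he] at hmem
    have hle : LinearMap.range (PiTensorProduct.map (R := R) (fun _ : Fin (m + 1) => F'.subtype)) ≤ LinearMap.ker Φ := by
      rw [LinearMap.range_le_ker_iff]
      ext w
      simp only [LinearMap.compMultilinearMap_apply, LinearMap.comp_apply, LinearMap.zero_apply,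
        PiTensorProduct.map_tprod, Submodule.subtype_apply, hΦ]
      rw [hπ _ (w 0).2, map_zero, zero_mul]
    exact (hΦ z).symm.trans (hle hmem)
  let π₂ : M →ₗ[R] M := C₂.projection F₂ hC₂.symm
  let π₁ : M →ₗ[R] M := F₁.projection C₁ hC₁
  intro x hx
  rw [← Submodule.projection_apply_eq_zero_iff hC₂.symm]
  refine (Module.forall_dual_apply_eq_zero_iff R (π₂ x)).mp fun φ => ?_
  by_contra hne
  let 𝔞 : Ideal R := LinearMap.ker (LinearMap.toSpanSingleton R R (φ (π₂ x)))
  have h𝔞 : 𝔞 ≠ ⊤ := fun htop => hne (by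
    simpa [𝔞] using (show (1 : R) ∈ 𝔞 from htop ▸ Submodule.mem_top))
  obtain ⟨p, hp, hap⟩ := Ideal.exists_le_maximal 𝔞 h𝔞
  have hzero : ∀ w ∈ F₂, π₂ w = 0 := fun w hw => (Submodule.projection_apply_eq_zero_iff hC₂.symm).mpr hw
  have hψ : ∀ y ∈ F₁, ∀ ψ : M →ₗ[R] R, ψ y ∈ p := by
    intro y hy ψ
    have h0 := prod0 F₁ F₂ h π₂ hzero (Fin.cons x fun _ => y) (Fin.cases hx fun _ => by simpa using hy) (Fin.cons φ fun _ => ψ)
    simp only [Fin.cons_zero, Fin.cons_succ, Finset.prod_const] at h0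
    exact hp.isPrime.mem_of_pow_mem _ (hap (show (ψ y) ^ _ ∈ 𝔞 by simpa [𝔞, mul_comm] using h0))
  obtain ⟨n, f, g, _, _, hfg⟩ := Module.Finite.exists_comp_eq_id_of_projective R M
  have hfg1 : F₁.FG := by
    have : F₁ = LinearMap.range π₁ := (Submodule.range_projection hC₁).symm
    rw [this, LinearMap.range_eq_map]; exact Submodule.FG.map _ Module.Finite.fg_top
  have hle : F₁ ≤ p • F₁ := by
    intro y hy
    have h1 : y = π₁ (f (g y)) := by
      rw [show f (g y) = y from LinearMap.congr_fun hfg y]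
      exact (Submodule.projection_apply_left hC₁ ⟨y, hy⟩).symm
    rw [h1, pi_eq_sum_univ (g y), map_sum, map_sum]
    refine Submodule.sum_mem _ fun i _ => ?_
    rw [map_smul, map_smul]
    exact Submodule.smul_mem_smul (hψ y hy (LinearMap.proj i ∘ₗ g)) (Submodule.projection_apply_mem hC₁ _)
  obtain ⟨r, hr1, hr⟩ := Submodule.exists_sub_one_mem_and_smul_eq_zero_of_fg_of_le_smul p F₁ hfg1 hle
  have hra : r ∈ p := hap (show r ∈ 𝔞 by simp [𝔞, ← map_smul, ← smul_eq_mul, hr _ hx])
  exact hp.ne_top ((Ideal.eq_top_iff_one _).mpr (by simpa using sub_mem hra hr1))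

/-- In affine form, let R be a commutative ring, M a finitely generated projective R-module (a finite
locally free sheaf on Spec R), F₁ and F₂ direct summands of M and k ≥ 1. Then the images of F₁^{⊗k}
and F₂^{⊗k} in the k-th tensor power M^{⊗k} are equal if and only if F₁ = F₂. (The source states
this for local direct factors of a finite locally free sheaf on a scheme; equality of subsheaves
being local, this is the affine case with global direct summands, to which it reduces.) -/
theorem result {R : Type u} [CommRing R] {M : Type v} [AddCommGroup M] [Module R M]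
    [Module.Finite R M] [Module.Projective R M] (F₁ F₂ : Submodule R M)
    (h₁ : ∃ C : Submodule R M, IsCompl F₁ C) (h₂ : ∃ C : Submodule R M, IsCompl F₂ C) (k : ℕ) (hk : 1 ≤ k) :
    LinearMap.range (PiTensorProduct.map (R := R) (fun _ : Fin k => F₁.subtype)) =
      LinearMap.range (PiTensorProduct.map (R := R) (fun _ : Fin k => F₂.subtype)) ↔ F₁ = F₂ := by
  refine ⟨fun h => ?_, fun h => h ▸ rfl⟩
  exact le_antisymm (le_of_range_eq F₁ F₂ h₁ h₂ k hk h) (le_of_range_eq F₂ F₁ h₂ h₁ k hk h.symm)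

end Groth.Agent.S19148
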