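import Groth.Statements.S19155
import Groth.Agent.RootDat.Dom

set_option autoImplicit false
open RootPairing
open RootD

open RootPairing Groth.Agent.RootDat.Form Groth.Agent.RootDat.Pos Groth.Agent.RootDat.Weyl Groth.Agent.RootDat.Exist
namespace Groth.Agent.S19155

/-- Let P be a root datum (root pairing over ℤ with finitely many roots, roots in M), S a system of
positive roots, Γ a non-trivial totally ordered commutative group and f : M → Γ additive. Call f
dominant when f(α) ≥ 0 for every positive root α. Then the dominant maps form a fundamental domain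
for the Weyl group W acting on Hom(M, Γ) through M: there is w ∈ W with f ∘ w dominant, and if f and
f ∘ w are both dominant (w ∈ W) then f ∘ w = f. -/
theorem result {ι M N : Type*} [AddCommGroup M] [AddCommGroup N]
    (P : RootPairing ι ℤ M N) [Finite ι] (S : Set ι) (hS : RootD.IsPosSys P S)
    {Γ : Type*} [AddCommGroup Γ] [LinearOrder Γ] [IsOrderedAddMonoid Γ] [Nontrivial Γ] (f : M →+ Γ) :
    (∃ g : P.Aut, g ∈ P.weylGroup ∧ ∀ i ∈ S, 0 ≤ f (RootPairing.Equiv.weightHom P g (P.root i))) ∧
    (∀ g : P.Aut, g ∈ P.weylGroup → (∀ i ∈ S, 0 ≤ f (P.root i)) →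
      (∀ i ∈ S, 0 ≤ f (RootPairing.Equiv.weightHom P g (P.root i))) →
      ∀ m : M, f (RootPairing.Equiv.weightHom P g m) = f m) := by
  classical
  have := Fintype.ofFinite ι
  have := Groth.Agent.RootDat.Dom.finite_weylGroup P
  set ρ := Groth.Agent.RootDat.Dom.rho P S
  constructor
  · obtain ⟨⟨g, hg⟩, hmax⟩ := Finite.exists_max fun w : P.weylGroup => f ((w : P.Aut) • ρ)
    refine ⟨g, hg, fun i hi => ?_⟩
    show 0 ≤ f (g • P.root i)
    have h := hmax ⟨g * RootPairing.Equiv.reflection P i, mul_mem hg (P.reflection_mem_weylGroup i)⟩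
    simp only [mul_smul, refl_smul, P.reflection_apply, smul_sub, smul_zsmul', map_sub, map_zsmul,
      sub_le_self_iff] at h
    by_contra hc
    have hp := zsmul_pos (neg_pos.mpr (not_le.mp hc)) (Groth.Agent.RootDat.Dom.rho_pos P hS hi)
    rw [zsmul_neg] at hp
    exact absurd h (not_le.mpr (neg_pos.mp hp))
  · intro g hg h1 h2 m
    show f (g • m) = f m
    obtain ⟨c, hc0, hcS, hc⟩ := Groth.Agent.RootDat.Dom.telescope P hS f h1 hg
    let f' : M →+ Γ := f.comp (DistribMulAction.toAddMonoidHom M g)
    obtain ⟨d, hd0, hdS, hd⟩ := Groth.Agent.RootDat.Dom.telescope P hS f' h2 (inv_mem hg)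
    have hd' : ∀ x, f (g • x) - f x = ∑ i, (P.coroot' i x) • d i := fun x => by
      rw [← hd x]; show _ = f (g • x) - f (g • g⁻¹ • x); rw [smul_inv_smul]
    have hsum : ∑ i, (P.coroot' i ρ) • (c i + d i) = 0 := by
      simp only [smul_add, Finset.sum_add_distrib, ← hc, ← hd']; abel
    have hnn : ∀ i ∈ Finset.univ, 0 ≤ (P.coroot' i ρ) • (c i + d i) := by
      intro i _
      by_cases hi : i ∈ S
      · exact zsmul_nonneg (add_nonneg (hc0 i) (hd0 i)) (Groth.Agent.RootDat.Dom.rho_pos P hS hi).le
      · simp [hcS i hi, hdS i hi]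
    have hcz : ∀ i, c i = 0 := by
      intro i
      by_cases hi : i ∈ S
      · have h0 := (Finset.sum_eq_zero_iff_of_nonneg hnn).mp hsum i (Finset.mem_univ i)
        by_contra hne
        have : 0 < c i + d i := lt_of_lt_of_le (lt_of_le_of_ne (hc0 i) (Ne.symm hne)) (le_add_of_nonneg_right (hd0 i))
        exact absurd h0 (zsmul_pos this (Groth.Agent.RootDat.Dom.rho_pos P hS hi)).ne'
      · exact hcS i hi
    have := hc m
    simp only [hcz, smul_zero, Finset.sum_const_zero, sub_eq_zero] at this
    exact this.symm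

end Groth.Agent.S19155
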