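import Groth.Statements.S19156
import Groth.Agent.RootDat.Dom

set_option autoImplicit false
open RootPairing
open RootD

open RootPairing Groth.Agent.RootDat.Form Groth.Agent.RootDat.Pos Groth.Agent.RootDat.Weyl Groth.Agent.RootDat.Exist
namespace Groth.Agent.S19156

/-- Let P be a root datum (root pairing over ℤ with finitely many roots indexed by ι), S a system of
positive roots, Γ a non-trivial totally ordered commutative group and f : M → Γ additive. Then f is
dominant (non-negative on the positive roots) if and only if, for every w in the Weyl group, f − f ∘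
w is a combination m ↦ Σ_{α ∈ S} ⟨m, α∨⟩ c_α of the positive coroots with coefficients c_α ≥ 0 in Γ
(f ∘ w is strongly dominated by f); and f is dominant if and only if f(w m) ≤ f(m) for every w ∈ W
and every dominant weight m (weak dominance). -/
theorem result {ι M N : Type*} [AddCommGroup M] [AddCommGroup N]
    (P : RootPairing ι ℤ M N) [Fintype ι] (S : Set ι) (hS : RootD.IsPosSys P S)
    {Γ : Type*} [AddCommGroup Γ] [LinearOrder Γ] [IsOrderedAddMonoid Γ] [Nontrivial Γ] (f : M →+ Γ) :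
    ((∀ i ∈ S, 0 ≤ f (P.root i)) ↔
      ∀ g : P.Aut, g ∈ P.weylGroup → ∃ c : ι → Γ, (∀ i, 0 ≤ c i) ∧ (∀ i, i ∉ S → c i = 0) ∧
        ∀ m : M, f m - f (RootPairing.Equiv.weightHom P g m) = ∑ i, (P.coroot' i m) • c i) ∧
    ((∀ i ∈ S, 0 ≤ f (P.root i)) ↔
      ∀ g : P.Aut, g ∈ P.weylGroup → ∀ m : M, (∀ i ∈ S, 0 ≤ P.coroot' i m) →
        f (RootPairing.Equiv.weightHom P g m) ≤ f m) := by
  set ρ := Groth.Agent.RootDat.Dom.rho P S
  have hρ : ∀ i ∈ S, 0 ≤ P.coroot' i ρ := fun i hi => (Groth.Agent.RootDat.Dom.rho_pos P hS hi).le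
  have back : (∀ k ∈ S, f (Equiv.reflection P k • ρ) ≤ f ρ) → ∀ i ∈ S, 0 ≤ f (P.root i) := by
    intro h i hi
    have := h i hi
    simp only [refl_smul, P.reflection_apply, map_sub, map_zsmul, sub_le_self_iff] at this
    by_contra hc
    have hp := zsmul_pos (neg_pos.mpr (not_le.mp hc)) (Groth.Agent.RootDat.Dom.rho_pos P hS hi)
    rw [zsmul_neg] at hp
    exact absurd this (not_le.mpr (neg_pos.mp hp))
  have fwd : (∀ i ∈ S, 0 ≤ f (P.root i)) → ∀ g : P.Aut, g ∈ P.weylGroup → ∀ m : M,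
      (∀ i ∈ S, 0 ≤ P.coroot' i m) → f (g • m) ≤ f m := by
    intro h g hg m hm
    obtain ⟨c, hc0, hcS, hc⟩ := Groth.Agent.RootDat.Dom.telescope P hS f h hg
    rw [← sub_nonneg, hc m]
    refine Finset.sum_nonneg fun i _ => ?_
    by_cases hi : i ∈ S
    · exact zsmul_nonneg (hc0 i) (hm i hi)
    · simp [hcS i hi]
  refine ⟨⟨fun h g hg => Groth.Agent.RootDat.Dom.telescope P hS f h hg, fun h => back fun k hk => ?_⟩,
    ⟨fwd, fun h => back fun k hk => h _ (P.reflection_mem_weylGroup k) ρ hρ⟩⟩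
  obtain ⟨c, hc0, hcS, hc⟩ := h _ (P.reflection_mem_weylGroup k)
  have e := hc ρ
  change f ρ - f (Equiv.reflection P k • ρ) = _ at e
  rw [← sub_nonneg, e]
  refine Finset.sum_nonneg fun i _ => ?_
  by_cases hi : i ∈ S
  · exact zsmul_nonneg (hc0 i) (hρ i hi)
  · simp [hcS i hi]

end Groth.Agent.S19156
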