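import Groth.Statements.S19157
import Mathlib.LinearAlgebra.PiTensorProduct.Basic
import Mathlib.LinearAlgebra.Multilinear.Basic
import Mathlib.Algebra.DirectSum.Decomposition
import Mathlib.LinearAlgebra.Dual.Lemmas
import Mathlib.RingTheory.Nakayama

set_option autoImplicit false
open scoped TensorProduct
universe u v w
open FiltMod

namespace Groth.Agent.S19157


open DirectSum

variable {Γ : Type w} [AddCommGroup Γ] [LinearOrder Γ] [IsOrderedAddMonoid Γ]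
  {R : Type u} [CommRing R] {M : Type v} [AddCommGroup M] [Module R M]

theorem exists_proj {G : Γ → Submodule R M} (hG : IsInternal G) :
    ∃ π : Γ → (M →ₗ[R] M), (∀ δ x, π δ x ∈ G δ) ∧ (∀ η w, w ∈ G η → π η w = w) ∧
      (∀ η w, w ∈ G η → ∀ δ, δ ≠ η → π δ w = 0) ∧
      (∀ (N : Submodule R M) x, (∀ δ, π δ x ∈ N) → x ∈ N) := by
  classical
  let e := LinearEquiv.ofBijective (coeLinearMap G) hG
  have he : ∀ η (w : G η), e.symm w.1 = lof R Γ (fun i => G i) η w := fun η w => by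
    rw [LinearEquiv.symm_apply_eq]
    exact (DirectSum.coeLinearMap_of G η w).symm
  refine ⟨fun δ => (G δ).subtype ∘ₗ component R Γ (fun i => G i) δ ∘ₗ e.symm.toLinearMap,
    fun δ x => Submodule.coe_mem _, fun η w hw => ?_, fun η w hw δ hδ => ?_, fun N x hx => ?_⟩
  · simp [he η ⟨w, hw⟩]
  · simp [he η ⟨w, hw⟩, component.of, hδ.symm]
  · rw [← e.apply_symm_apply x, ← DirectSum.sum_support_of (e.symm x), map_sum]
    refine Submodule.sum_mem _ fun δ _ => ?_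
    show coeLinearMap G (DirectSum.of (fun i => G i) δ _) ∈ N
    rw [DirectSum.coeLinearMap_of]
    exact hx δ

theorem proj_eq_zero {G : Γ → Submodule R M} {π : Γ → (M →ₗ[R] M)}
    (hπ : ∀ η w, w ∈ G η → ∀ δ, δ ≠ η → π δ w = 0) {γ δ : Γ} (hδ : δ < γ) {w : M}
    (hw : w ∈ ⨆ η ∈ Set.Ici γ, G η) : π δ w = 0 := by
  have h : (⨆ η ∈ Set.Ici γ, G η) ≤ LinearMap.ker (π δ) :=
    iSup₂_le fun η hη w hw => hπ η w hw δ (hδ.trans_le hη).ne
  exact h hw

theorem prod_eq_zero {G₂ : Γ → Submodule R M} (F₁ F₂ : Γ → Submodule R M)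
    (hF₂ : ∀ γ, F₂ γ = ⨆ η ∈ Set.Ici γ, G₂ η) {π : Γ → (M →ₗ[R] M)}
    (hπ : ∀ η w, w ∈ G₂ η → ∀ δ, δ ≠ η → π δ w = 0) {k : ℕ}
    (h : ∀ γ : Γ,
      (⨆ c : {c : Fin k → Γ // ∑ i, c i = γ}, LinearMap.range (PiTensorProduct.map (R := R) (fun i => (F₁ (c.1 i)).subtype))) =
      (⨆ c : {c : Fin k → Γ // ∑ i, c i = γ}, LinearMap.range (PiTensorProduct.map (R := R) (fun i => (F₂ (c.1 i)).subtype))))
    (c δ : Fin k → Γ) (hlt : ∑ i, δ i < ∑ i, c i) (z : Fin k → M) (hz : ∀ i, z i ∈ F₁ (c i))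
    (ψ : Fin k → (M →ₗ[R] R)) : ∏ i, ψ i (π (δ i) (z i)) = 0 := by
  let Φ := PiTensorProduct.lift ((MultilinearMap.mkPiAlgebra R (Fin k) R).compLinearMap fun i => ψ i ∘ₗ π (δ i))
  have hΦ : ∀ w : Fin k → M, Φ (PiTensorProduct.tprod R w) = ∏ i, ψ i (π (δ i) (w i)) := fun w => by simp [Φ]
  have hmem : PiTensorProduct.tprod R z ∈ ⨆ d : {d : Fin k → Γ // ∑ i, d i = ∑ i, c i},
      LinearMap.range (PiTensorProduct.map (R := R) (fun i => (F₁ (d.1 i)).subtype)) :=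
    Submodule.mem_iSup_of_mem ⟨c, rfl⟩ ⟨PiTensorProduct.tprod R fun i => ⟨z i, hz i⟩, by simp⟩
  rw [h] at hmem
  have hle : (⨆ d : {d : Fin k → Γ // ∑ i, d i = ∑ i, c i},
      LinearMap.range (PiTensorProduct.map (R := R) (fun i => (F₂ (d.1 i)).subtype))) ≤ LinearMap.ker Φ := by
    refine iSup_le fun d => ?_
    rw [LinearMap.range_le_ker_iff]
    ext w
    obtain ⟨i, _, hi⟩ := Finset.exists_lt_of_sum_lt (f := δ) (g := d.1) (s := Finset.univ) (by rwa [d.2])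
    simp only [LinearMap.compMultilinearMap_apply, LinearMap.comp_apply, LinearMap.zero_apply,
      PiTensorProduct.map_tprod, Submodule.subtype_apply, hΦ]
    refine Finset.prod_eq_zero (Finset.mem_univ i) ?_
    rw [proj_eq_zero hπ hi (hF₂ _ ▸ (w i).2), map_zero]
  exact (hΦ z).symm.trans (hle hmem)

theorem le_of_tensor [Module.Finite R M] [Module.Projective R M] (F₁ F₂ : Γ → Submodule R M)
    (h₁ : ∃ G : Γ → Submodule R M, DirectSum.IsInternal G ∧ ∀ γ, F₁ γ = ⨆ η ∈ Set.Ici γ, G η)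
    (h₂ : ∃ G : Γ → Submodule R M, DirectSum.IsInternal G ∧ ∀ γ, F₂ γ = ⨆ η ∈ Set.Ici γ, G η)
    (k : ℕ) (hk : 1 ≤ k)
    (h : ∀ γ : Γ,
      (⨆ c : {c : Fin k → Γ // ∑ i, c i = γ}, LinearMap.range (PiTensorProduct.map (R := R) (fun i => (F₁ (c.1 i)).subtype))) =
      (⨆ c : {c : Fin k → Γ // ∑ i, c i = γ}, LinearMap.range (PiTensorProduct.map (R := R) (fun i => (F₂ (c.1 i)).subtype))))
    (γ : Γ) : F₁ γ ≤ F₂ γ := by
  classical
  obtain ⟨G₁, hG₁, hF₁⟩ := h₁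
  obtain ⟨G₂, hG₂, hF₂⟩ := h₂
  obtain ⟨π₁, _, hfix₁, hπ₁, _⟩ := exists_proj hG₁
  obtain ⟨π₂, hmem₂, _, hπ₂, hrec₂⟩ := exists_proj hG₂
  have hmono : ∀ (F G : Γ → Submodule R M), (∀ γ, F γ = ⨆ η ∈ Set.Ici γ, G η) → ∀ η, G η ≤ F η :=
    fun F G hF η => by rw [hF]; exact le_iSup₂_of_le η (Set.self_mem_Ici) le_rfl
  intro x hx
  refine hrec₂ _ x fun η => ?_
  rcases le_or_gt γ η with hη | hη
  · rw [hF₂]
    exact Submodule.mem_iSup_of_mem η (Submodule.mem_iSup_of_mem hη (hmem₂ η x))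
  suffices h0 : π₂ η x = 0 by rw [h0]; exact zero_mem _
  refine (Module.forall_dual_apply_eq_zero_iff R (π₂ η x)).mp fun φ => ?_
  by_contra hne
  let 𝔞 : Ideal R := LinearMap.ker (LinearMap.toSpanSingleton R R (φ (π₂ η x)))
  have h𝔞 : 𝔞 ≠ ⊤ := fun htop => hne (by
    simpa [𝔞] using (show (1 : R) ∈ 𝔞 from htop ▸ Submodule.mem_top))
  obtain ⟨p, hp, hap⟩ := Ideal.exists_le_maximal 𝔞 h𝔞
  let N : Submodule R M := ⨅ ψ : M →ₗ[R] R, Submodule.comap ψ p
  have hNmap : ∀ (f : M →ₗ[R] M) y, y ∈ N → f y ∈ N := fun f y hy => by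
    simp only [N, Submodule.mem_iInf, Submodule.mem_comap] at hy ⊢
    exact fun ψ => hy (ψ ∘ₗ f)
  have hA : ∀ γ' δ, δ ≤ γ' → ∀ y ∈ F₁ γ', π₂ δ y ∈ N := by
    intro γ' δ hδ y hy
    simp only [N, Submodule.mem_iInf, Submodule.mem_comap]
    intro ψ
    obtain ⟨m, rfl⟩ : ∃ m, k = m + 1 := ⟨k - 1, by omega⟩
    have h0 := prod_eq_zero F₁ F₂ hF₂ hπ₂ h (Fin.cons γ fun _ => γ') (Fin.cons η fun _ => δ)
      (by
        rw [Fin.sum_cons, Fin.sum_cons]
        exact add_lt_add_of_lt_of_le hη (Finset.sum_le_sum fun _ _ => hδ))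
      (Fin.cons x fun _ => y) (Fin.cases hx fun _ => by simpa using hy) (Fin.cons φ fun _ => ψ)
    rw [Fin.prod_univ_succ] at h0
    simp only [Fin.cons_zero, Fin.cons_succ, Finset.prod_const] at h0
    exact hp.isPrime.mem_of_pow_mem _ (hap (show ψ (π₂ δ y) ^ m ∈ 𝔞 by simpa [𝔞, mul_comm] using h0))
  have hB : ∀ δ ε, ε < δ → ∀ y ∈ F₂ δ, π₁ ε y ∈ N := by
    intro δ ε hε y hy
    simp only [N, Submodule.mem_iInf, Submodule.mem_comap]
    intro ψ
    have h0 := prod_eq_zero F₂ F₁ hF₁ hπ₁ (fun γ => (h γ).symm) (fun _ => δ) (fun _ => ε)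
      (Finset.sum_lt_sum (fun _ _ => hε.le) ⟨⟨0, hk⟩, Finset.mem_univ _, hε⟩) (fun _ => y) (fun _ => hy)
      fun _ => ψ
    simp only [Finset.prod_const] at h0
    exact hp.isPrime.mem_of_pow_mem _ (h0 ▸ p.zero_mem)
  have htop : N = ⊤ := by
    rw [eq_top_iff, ← hG₁.submodule_iSup_eq_top, iSup_le_iff]
    intro ε y hy
    rw [← hfix₁ ε y hy]
    refine Submodule.mem_comap.mp (hrec₂ (N.comap (π₁ ε)) y fun δ => ?_)
    rcases le_or_gt δ ε with hδ | hδ
    · exact hNmap _ _ (hA ε δ hδ y (hmono F₁ G₁ hF₁ ε hy))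
    · exact hB δ ε hδ _ (hmono F₂ G₂ hF₂ δ (hmem₂ δ y))
  obtain ⟨n, f, g, _, _, hfg⟩ := Module.Finite.exists_comp_eq_id_of_projective R M
  have hle : (⊤ : Submodule R M) ≤ p • ⊤ := by
    intro y _
    have hy : ∀ i, g y i ∈ p := fun i => by
      have := htop.ge (Submodule.mem_top (x := y))
      simp only [N, Submodule.mem_iInf, Submodule.mem_comap] at this
      exact this (LinearMap.proj i ∘ₗ g)
    rw [show y = f (g y) from (LinearMap.congr_fun hfg y).symm, pi_eq_sum_univ' (g y), map_sum]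
    refine Submodule.sum_mem _ fun i _ => ?_
    rw [map_smul]
    exact Submodule.smul_mem_smul (hy i) Submodule.mem_top
  obtain ⟨r, hr1, hr⟩ := Submodule.exists_sub_one_mem_and_smul_eq_zero_of_fg_of_le_smul p ⊤
    Module.Finite.fg_top hle
  have hra : r ∈ p := hap (show r ∈ 𝔞 by
    simp [𝔞, ← map_smul, ← smul_eq_mul, hr _ Submodule.mem_top])
  exact hp.ne_top ((Ideal.eq_top_iff_one _).mpr (by simpa using sub_mem hra hr1))

/-- In affine form, let Γ be a non-trivial totally ordered commutative group, R a commutative ring, M a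
finitely generated projective R-module, k ≥ 1, and F₁, F₂ two Γ-filtrations of M each admitting a
splitting (a grading M = ⊕_γ G_γ by submodules with F^γ = Σ_{η ≥ γ} G_η). If the filtrations they
induce on the k-th tensor power M^{⊗k} coincide, i.e. for every γ the sum over γ₁ + ⋯ + γ_k = γ of
the images of F₁^{γ₁} ⊗ ⋯ ⊗ F₁^{γ_k} in M^{⊗k} equals the corresponding sum for F₂, then F₁ = F₂.
(The source states this for Γ-filtrations of a finite locally free sheaf on a scheme, which split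
Zariski-locally; this is the affine split case to which it reduces.) -/
theorem result
    {Γ : Type w} [AddCommGroup Γ] [LinearOrder Γ] [IsOrderedAddMonoid Γ] [Nontrivial Γ]
    {R : Type u} [CommRing R] {M : Type v} [AddCommGroup M] [Module R M] [Module.Finite R M] [Module.Projective R M]
    (F₁ F₂ : Γ → Submodule R M)
    (h₁ : ∃ G : Γ → Submodule R M, DirectSum.IsInternal G ∧ ∀ γ, F₁ γ = ⨆ η ∈ Set.Ici γ, G η)
    (h₂ : ∃ G : Γ → Submodule R M, DirectSum.IsInternal G ∧ ∀ γ, F₂ γ = ⨆ η ∈ Set.Ici γ, G η)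
    (k : ℕ) (hk : 1 ≤ k)
    (h : ∀ γ : Γ,
      (⨆ c : {c : Fin k → Γ // ∑ i, c i = γ}, LinearMap.range (PiTensorProduct.map (R := R) (fun i => (F₁ (c.1 i)).subtype))) =
      (⨆ c : {c : Fin k → Γ // ∑ i, c i = γ}, LinearMap.range (PiTensorProduct.map (R := R) (fun i => (F₂ (c.1 i)).subtype)))) :
    F₁ = F₂ := by
  exact funext fun γ => le_antisymm (le_of_tensor F₁ F₂ h₁ h₂ k hk h γ)
    (le_of_tensor F₂ F₁ h₂ h₁ k hk (fun γ => (h γ).symm) γ)

end Groth.Agent.S19157
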