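import Groth.Statements.S19158
import Mathlib.Algebra.DirectSum.Decomposition
import Mathlib.Algebra.DirectSum.Module
import Mathlib.LinearAlgebra.DFinsupp
import Mathlib.LinearAlgebra.Pi
import Mathlib.RingTheory.Finiteness.Basic

set_option autoImplicit false
universe u v w
open FiltMod

namespace Groth.Agent.S19158

/-- In affine form, let Γ be a non-trivial totally ordered commutative group, R a commutative ring and
(M_a) a finite family of finitely generated projective R-modules, each carrying a non-increasing
Γ-indexed family of submodules F_a; give M = Π_a M_a the family F^γ = Π_a F_a^γ. Then F is split by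
a Γ-grading of M (an internal direct sum decomposition M = ⊕_γ G_γ with F^γ = Σ_{η ≥ γ} G_η for all
γ) if and only if each F_a is split by a Γ-grading of M_a. (The published statement is for finite
locally free sheaves on a scheme, where a filtration counts as split when it is split by a grading
locally on the scheme; this row is the affine case, in which that is the same as being split by one
global grading.) -/
theorem result
    {Γ : Type w} [AddCommGroup Γ] [LinearOrder Γ] [IsOrderedAddMonoid Γ] [Nontrivial Γ]
    {R : Type u} [CommRing R] {A : Type v} [Fintype A] (M : A → Type v) [∀ a, AddCommGroup (M a)] [∀ a, Module R (M a)]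
    [∀ a, Module.Finite R (M a)] [∀ a, Module.Projective R (M a)]
    (F : ∀ a, Γ → Submodule R (M a)) (hF : ∀ a, Antitone (F a)) :
    (∃ G : Γ → Submodule R (∀ a, M a), DirectSum.IsInternal G ∧
        ∀ γ, Submodule.pi Set.univ (fun a => F a γ) = ⨆ η ∈ Set.Ici γ, G η) ↔
    ∀ a, ∃ G : Γ → Submodule R (M a), DirectSum.IsInternal G ∧ ∀ γ, F a γ = ⨆ η ∈ Set.Ici γ, G η := by
  classical
  constructor
  · rintro ⟨G, hG, hFG⟩ a
    letI dG := hG.chooseDecomposition
    let π : Γ → (∀ b, M b) →ₗ[R] (∀ b, M b) := fun γ =>
      (G γ).subtype ∘ₗ (DirectSum.component R Γ (fun i => G i) γ) ∘ₗ (DirectSum.decomposeLinearEquiv G).toLinearMap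
    let φ : Γ → M a →ₗ[R] M a := fun γ => LinearMap.proj a ∘ₗ π γ ∘ₗ LinearMap.single R M a
    obtain ⟨s, hs⟩ : ∃ s : Finset Γ, ∀ (y : ∀ b, M b) (γ : Γ), γ ∉ s → π γ y = 0 := by
      obtain ⟨t, ht⟩ := Module.Finite.fg_top (R := R) (M := ∀ b, M b)
      refine ⟨t.biUnion fun y => (DirectSum.decompose G y).support, fun y γ hγ => ?_⟩
      have : (⊤ : Submodule R (∀ b, M b)) ≤ LinearMap.ker (π γ) := by
        rw [← ht, Submodule.span_le]
        intro z hz
        have : DirectSum.decompose G z γ = 0 := by
          by_contra h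
          exact hγ (Finset.mem_biUnion.2 ⟨z, hz, DFinsupp.mem_support_iff.2 h⟩)
        exact congrArg Subtype.val this
      exact this Submodule.mem_top
    have hsum : ∀ y, ∑ γ ∈ s, π γ y = y := by
      intro y
      conv_rhs => rw [← DirectSum.sum_support_decompose G y]
      symm
      refine Finset.sum_subset (fun γ hγ => ?_) (fun γ _ hγ => ?_)
      · by_contra h
        exact DFinsupp.mem_support_iff.1 hγ (Subtype.ext (hs y γ h))
      · have h0 : DirectSum.decompose G y γ = 0 := DFinsupp.notMem_support_iff.1 hγ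
        simp [π, h0]
    have hker : ∀ {γ η : Γ}, η ≠ γ → ∀ y ∈ G η, π γ y = 0 := fun hne y hy => DirectSum.decompose_of_mem_ne G hy hne
    have hker' : ∀ {γ η : Γ}, γ < η → ∀ y ∈ Submodule.pi Set.univ (fun b => F b η), π γ y = 0 := by
      intro γ η hlt y hy
      rw [hFG] at hy
      have : (⨆ η' ∈ Set.Ici η, G η') ≤ LinearMap.ker (π γ) :=
        iSup₂_le fun η' hη' z hz => hker (hlt.trans_le hη').ne' z hz
      exact this hy
    have hGle : ∀ η, G η ≤ Submodule.pi Set.univ (fun b => F b η) := fun η =>
      le_of_le_of_eq (le_iSup₂_of_le η (Set.self_mem_Ici) le_rfl) (hFG η).symm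
    have hπmem : ∀ γ y, π γ y ∈ G γ := fun γ y => (DirectSum.decompose G y γ).2
    have hφmem : ∀ γ (x : M a), φ γ x ∈ F a γ := fun γ x => hGle γ (hπmem γ _) a trivial
    have hsingle : ∀ {γ : Γ} {x : M a}, x ∈ F a γ → LinearMap.single R M a x ∈ Submodule.pi Set.univ (fun b => F b γ) := by
      intro γ x hx b _
      by_cases hb : b = a
      · subst hb; simpa using hx
      · simp [hb]
    have hφsum : ∀ x : M a, ∑ γ ∈ s, φ γ x = x := by
      intro x
      have h := congrFun (hsum (LinearMap.single R M a x)) a
      rw [Finset.sum_apply] at h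
      simpa [φ] using h
    have hφ0 : ∀ {γ η : Γ}, γ < η → ∀ x ∈ F a η, φ γ x = 0 := fun hlt x hx => by
      change π _ (LinearMap.single R M a x) a = 0
      rw [hker' hlt _ (hsingle hx)]
      rfl
    have hlow : ∀ {γ η : Γ}, η < γ → ∀ x ∈ F a γ, φ η x = 0 := fun hlt x hx => hφ0 hlt x hx
    let Gt : Γ → Submodule R (M a) := fun γ => (F a γ).map (φ γ)
    have hle : ∀ η, Gt η ≤ F a η := fun η => Submodule.map_le_iff_le_comap.2 fun x _ => hφmem η x
    have hbig : ∀ (n : ℕ) (γ : Γ), (s.filter (γ < ·)).card = n → F a γ ≤ ⨆ η ∈ Set.Ici γ, Gt η := by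
      intro n
      induction n using Nat.strong_induction_on with
      | _ n ih =>
      intro γ hn x hx
      rw [← hφsum x]
      refine Submodule.sum_mem _ fun η hη => ?_
      rcases lt_trichotomy η γ with hlt | rfl | hgt
      · rw [hlow hlt x hx]; exact Submodule.zero_mem _
      · exact le_iSup₂_of_le (f := fun η' (_ : η' ∈ Set.Ici η) => Gt η') η Set.self_mem_Ici le_rfl ⟨x, hx, rfl⟩
      · have hc : (s.filter (η < ·)).card < n := by
          rw [← hn]
          refine Finset.card_lt_card ((Finset.ssubset_iff_of_subset fun z hz => ?_).2 ⟨η, ?_, ?_⟩)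
          · rw [Finset.mem_filter] at hz ⊢; exact ⟨hz.1, hgt.trans hz.2⟩
          · exact Finset.mem_filter.2 ⟨hη, hgt⟩
          · simp
        exact (ih _ hc η rfl).trans (biSup_mono fun z hz => le_trans hgt.le hz) (hφmem η x)
    refine ⟨Gt, ?_, fun γ => le_antisymm (hbig _ γ rfl) (iSup₂_le fun η hη => (hle η).trans (hF a hη))⟩
    refine DirectSum.isInternal_submodule_of_iSupIndep_of_iSup_eq_top ?_ (eq_top_iff.2 fun x _ => ?_)
    · rw [iSupIndep_iff_finsetSum_eq_zero_imp_eq_zero]
      intro t v hv hsum0
      by_contra hne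
      push Not at hne
      obtain ⟨i, hi, hvi⟩ := hne
      obtain ⟨γ, hγ, hmin⟩ := (t.filter (fun i => v i ≠ 0)).exists_min_image id ⟨i, Finset.mem_filter.2 ⟨hi, hvi⟩⟩
      rw [Finset.mem_filter] at hγ
      obtain ⟨x, hx, hxv⟩ := hv γ hγ.1
      have hfix : φ γ (v γ) = v γ := by
        rw [← hxv]
        conv_rhs => rw [← hφsum x]
        rw [map_sum]
        refine (Finset.sum_eq_single (f := fun i => φ γ (φ i x)) γ (fun η hη hne => ?_) fun h => ?_).symm
        · rcases hne.lt_or_gt with hlt | hgt
          · rw [hlow hlt x hx, map_zero]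
          · exact hφ0 hgt _ (hφmem η x)
        · rw [show φ γ x = 0 by simp [φ, hs _ γ h], map_zero]
      have h0 := congrArg (φ γ) hsum0
      rw [map_sum, map_zero, Finset.sum_eq_single γ (fun η hη hne => ?_) (fun h => absurd hγ.1 h), hfix] at h0
      · exact hγ.2 h0
      · by_cases hz : v η = 0
        · rw [hz, map_zero]
        · exact hφ0 (lt_of_le_of_ne (hmin η (Finset.mem_filter.2 ⟨hη, hz⟩)) (Ne.symm hne)) _ (hle η (hv η hη))
    · rw [← hφsum x]
      refine Submodule.sum_mem _ fun η _ => ?_
      exact (iSup₂_le fun z _ => le_iSup Gt z) (hbig _ η rfl (hφmem η x))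
  · intro h
    choose G hG hFG using h
    have hpi : ∀ γ, Submodule.pi Set.univ (fun a => G a γ) = ⨆ a, (G a γ).map (LinearMap.single R M a) := by
      intro γ
      refine le_antisymm (fun y hy => ?_) (iSup_le fun a => ?_)
      · rw [← Finset.univ_sum_single y]
        exact Submodule.sum_mem _ fun a _ => Submodule.mem_iSup_of_mem a ⟨_, hy a trivial, rfl⟩
      · rintro _ ⟨x, hx, rfl⟩ b -
        by_cases hb : b = a
        · subst hb; simpa using hx
        · simp [hb]
    refine ⟨fun γ => Submodule.pi Set.univ (fun a => G a γ), ?_, fun γ => ?_⟩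
    · refine DirectSum.isInternal_submodule_of_iSupIndep_of_iSup_eq_top ?_ ?_
      · rw [iSupIndep_iff_finsetSum_eq_zero_imp_eq_zero]
        intro t v hv hsum0 i hi
        funext a
        have := congrFun hsum0 a
        rw [Finset.sum_apply] at this
        exact (iSupIndep_iff_finsetSum_eq_zero_imp_eq_zero _).1 (hG a).submodule_iSupIndep t (fun j => v j a)
          (fun j hj => hv j hj a trivial) this i hi
      · simp only [hpi]
        rw [iSup_comm]
        simp only [← Submodule.map_iSup, (hG _).submodule_iSup_eq_top, Submodule.map_top]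
        exact LinearMap.iSup_range_single R M
    · simp only [hpi, hFG]
      refine le_antisymm (fun y hy => ?_) (iSup₂_le fun η hη => iSup_le fun a => ?_)
      · rw [← Finset.univ_sum_single y]
        refine Submodule.sum_mem _ fun a _ => ?_
        have : (⨆ η ∈ Set.Ici γ, G a η).map (LinearMap.single R M a) ≤ ⨆ η ∈ Set.Ici γ, ⨆ b, (G b η).map (LinearMap.single R M b) := by
          simp only [Submodule.map_iSup]
          exact iSup₂_mono fun η _ => le_iSup (fun b => (G b η).map (LinearMap.single R M b)) a
        exact this ⟨_, hy a trivial, rfl⟩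
      · rintro _ ⟨x, hx, rfl⟩ b -
        by_cases hb : b = a
        · subst hb
          simpa using le_iSup₂_of_le (f := fun η' (_ : η' ∈ Set.Ici γ) => G b η') η hη le_rfl hx
        · simp [hb]

end Groth.Agent.S19158
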