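import Groth.Statements.S19177
import Mathlib

set_option autoImplicit false
set_option linter.style.haveILetI false
universe u
open CAlg

namespace Groth.Agent.S19177

/-- Let S → R be a homomorphism of commutative rings making R a finitely generated projective S-module
of rank 2 at every prime of S (the affine form of a finite locally free morphism of degree 2). Then
the cokernel of the (injective) structure map S → R, the S-module R/S, is a projective S-module of
rank 1 at every prime of S (locally free of rank 1). -/
theorem result
    (S R : Type u) [CommRing S] [CommRing R] [Algebra S R] [Module.Finite S R] [Module.Projective S R]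
    (h2 : ∀ p : PrimeSpectrum S, Module.rankAtStalk (R := S) R p = 2) :
    Module.Projective S (R ⧸ LinearMap.range (Algebra.linearMap S R)) ∧
      ∀ p : PrimeSpectrum S,
        Module.rankAtStalk (R := S) (R ⧸ LinearMap.range (Algebra.linearMap S R)) p = 1 := by
  classical
  set l := Algebra.linearMap S R with hl
  set J : Ideal S := LinearMap.range ((LinearMap.applyₗ (R := S) (M₂ := S) (1 : R))) with hJdef
  have hJ : J = ⊤ := by
    by_contra hne
    obtain ⟨m, hm, hJm⟩ := Ideal.exists_le_maximal _ hne
    obtain ⟨n, f, g, -, -, hfg⟩ := Module.Finite.exists_comp_eq_id_of_projective S R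
    have h1 : (1 : R) ∈ m • (⊤ : Submodule S R) := by
      have e : (1 : R) = f (g 1) := (LinearMap.congr_fun hfg 1).symm
      have e2 : g 1 = ∑ i, (g 1 i) • (Pi.single i (1 : S)) := pi_eq_sum_univ' _
      rw [e, e2, map_sum]
      refine Submodule.sum_mem _ fun i _ => ?_
      rw [map_smul]
      exact Submodule.smul_mem_smul (hJm ⟨(LinearMap.proj i).comp g, rfl⟩) trivial
    have htop : (⊤ : Submodule S R) ≤ m • ⊤ := by
      intro x _
      have := Submodule.mem_map_of_mem (f := LinearMap.mulLeft S x) h1
      rw [LinearMap.mulLeft_apply, mul_one] at this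
      rw [Submodule.map_smul''] at this
      exact Submodule.smul_mono le_rfl le_top this
    obtain ⟨r, hr1, hr⟩ := Submodule.exists_sub_one_mem_and_smul_eq_zero_of_fg_of_le_smul m (⊤ : Submodule S R) Module.Finite.fg_top htop
    let q : PrimeSpectrum S := ⟨m, hm.isPrime⟩
    have hrm : r ∉ m := fun h => hm.ne_top ((Ideal.eq_top_iff_one _).mpr (by simpa using m.sub_mem h hr1))
    have hsub : Subsingleton (LocalizedModule q.asIdeal.primeCompl R) := by
      rw [LocalizedModule.subsingleton_iff]
      exact fun x => ⟨r, hrm, hr x trivial⟩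
    have h0 : Module.rankAtStalk (R := S) R q = 0 := by
      unfold Module.rankAtStalk
      exact Module.finrank_zero_of_subsingleton
    rw [h2 q] at h0
    exact absurd h0 (by norm_num)
  obtain ⟨φ, hφ⟩ : ∃ φ : R →ₗ[S] S, φ 1 = 1 := by
    have : (1 : S) ∈ J := hJ ▸ trivial
    exact this
  have hφl : ∀ s, φ (l s) = s := by
    intro s
    rw [hl, Algebra.linearMap_apply, Algebra.algebraMap_eq_smul_one, map_smul, hφ, smul_eq_mul, mul_one]
  let π : R →ₗ[S] LinearMap.ker φ :=
    LinearMap.codRestrict _ (LinearMap.id - l.comp φ) (fun x => by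
      simp only [LinearMap.mem_ker, LinearMap.sub_apply, LinearMap.id_apply, LinearMap.comp_apply,
        map_sub, hφl, sub_self])
  have hπ : ∀ x : LinearMap.ker φ, π x = x := by
    intro x
    apply Subtype.ext
    simp [π, LinearMap.mem_ker.mp x.2]
  let E : R ≃ₗ[S] S × (LinearMap.ker φ) :=
    LinearEquiv.ofLinear (φ.prod π) (l.coprod (LinearMap.ker φ).subtype)
      (by
        refine LinearMap.ext fun x => Prod.ext ?_ (Subtype.ext ?_)
        · simp [LinearMap.mem_ker.mp x.2.2, hφl]
        · simp [π, LinearMap.mem_ker.mp x.2.2, hφl])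
      (by
        refine LinearMap.ext fun x => ?_
        simp [π])
  have hker : LinearMap.ker π = LinearMap.range l := by
    ext x
    constructor
    · intro hx
      refine ⟨φ x, ?_⟩
      have := congrArg Subtype.val (LinearMap.mem_ker.mp hx)
      simp [π, sub_eq_zero] at this
      exact this.symm
    · rintro ⟨s, rfl⟩
      apply LinearMap.mem_ker.mpr
      apply Subtype.ext
      simp [π, hφl]
  let Q : (R ⧸ LinearMap.range l) ≃ₗ[S] LinearMap.ker φ :=
    (Submodule.quotEquivOfEq _ _ hker.symm).trans (π.quotKerEquivOfSurjective (fun x => ⟨x, hπ x⟩))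
  haveI : Module.Projective S (LinearMap.ker φ) := Module.Projective.of_split (LinearMap.ker φ).subtype π (LinearMap.ext hπ)
  haveI : Module.Finite S (LinearMap.ker φ) := Module.Finite.of_surjective π (fun x => ⟨x, hπ x⟩)
  refine ⟨Module.Projective.of_equiv Q.symm, fun p => ?_⟩
  haveI : Nontrivial S := p.nontrivial
  have := h2 p
  rw [Module.rankAtStalk_eq_of_equiv E, Module.rankAtStalk_prod, Pi.add_apply, Module.rankAtStalk_self, Pi.one_apply] at this
  rw [Module.rankAtStalk_eq_of_equiv Q]
  omega

end Groth.Agent.S19177
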