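import Groth.Statements.S19183
import Mathlib

set_option autoImplicit false
universe u
open CAlg

namespace Groth.Agent.S19183

/-- Let A be a non-zero commutative ring and f ∈ A a non-zero-divisor. The fibre product A ×_{A/(f)} A
of two copies of A over A/(f) — the A-submodule of A × A of pairs (x, y) with x − y ∈ (f), which is
the coordinate ring of two copies of Spec A glued along the Cartier divisor f = 0 — is a free
A-module of rank 2. (This is what makes the gluing of two copies of a curve along an effective
Cartier divisor finite locally free of degree 2 over the curve.) -/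
theorem result (A : Type u) [CommRing A] [Nontrivial A]
    (f : A) (hf : f ∈ nonZeroDivisors A) :
    Module.Free A (Submodule.comap (LinearMap.fst A A A - LinearMap.snd A A A) (Ideal.span ({f} : Set A))) ∧
      Module.finrank A (Submodule.comap (LinearMap.fst A A A - LinearMap.snd A A A) (Ideal.span ({f} : Set A))) = 2 := by
  have hinj : ∀ {a b : A}, a * f = b * f → a = b := fun {a b} h => (mul_cancel_right_mem_nonZeroDivisors hf).mp h
  let W := Submodule.comap (LinearMap.fst A A A - LinearMap.snd A A A) (Ideal.span ({f} : Set A))
  let φ : (A × A) →ₗ[A] W := LinearMap.codRestrict W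
    ((LinearMap.fst A A A).prod (LinearMap.fst A A A - f • LinearMap.snd A A A)) fun z => by
      show z.1 - (z.1 - f * z.2) ∈ Ideal.span ({f} : Set A)
      rw [sub_sub_cancel]
      exact Ideal.mem_span_singleton.mpr (dvd_mul_right f z.2)
  have hφ : Function.Bijective φ := by
    constructor
    · intro z w h
      have h1 := congrArg (fun t : W => (t : A × A).1) h
      have h2 : z.1 - f * z.2 = w.1 - f * w.2 := congrArg (fun t : W => (t : A × A).2) h
      change z.1 = w.1 at h1
      rw [h1, sub_right_inj, mul_comm f, mul_comm f] at h2
      exact Prod.ext h1 (hinj h2)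
    · rintro ⟨⟨a, b⟩, hab⟩
      obtain ⟨c, hc⟩ := Ideal.mem_span_singleton.mp (show a - b ∈ Ideal.span ({f} : Set A) from hab)
      refine ⟨(a, c), Subtype.ext (Prod.ext rfl ?_)⟩
      show a - f * c = b
      rw [← hc, sub_sub_cancel]
  let e := LinearEquiv.ofBijective φ hφ
  refine ⟨Module.Free.of_equiv e, ?_⟩
  show Module.finrank A W = 2
  rw [← e.finrank_eq, Module.finrank_prod, Module.finrank_self]

end Groth.Agent.S19183
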