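import Groth.Statements.S19186
import Mathlib.Data.Int.GCD
import Mathlib.Tactic.Module
import Mathlib.RingTheory.Coprime.Lemmas
import Mathlib.Algebra.Module.Basic

set_option autoImplicit false
universe u
open OneMot

namespace Groth.Agent.S19186

theorem aux {A B : Type u} [AddCommGroup A] [AddCommGroup B] (f : A →+ B) (L P : ℤ)
    (h1 : ∃ u v : ℤ, u * L + v * P = 1) (h2 : ∃ u v : ℤ, u * L + v * (P * P) = 1)
    (hker : ∀ a : A, f a = 0 → P • a = 0) (hcoker : ∀ b : B, ∃ a : A, f a = P • b) :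
    (∀ b : B, L • b = 0 → ∃! a : A, L • a = 0 ∧ f a = b) ∧
      (∀ a : A, (∃ b' : B, f a = L • b') → ∃ a' : A, a = L • a') ∧
      (∀ b : B, ∃ (a : A) (b' : B), b = f a + L • b') := by
  obtain ⟨u, v, huv⟩ := h1
  refine ⟨fun b hb => ?_, fun a ⟨b', hb'⟩ => ?_, fun b => ?_⟩
  · obtain ⟨a0, ha0⟩ := hcoker b
    have hb1 : (v * P) • b = b := by
      calc (v * P) • b = u • (L • b) + (v * P) • b := by rw [hb, smul_zero, zero_add]
        _ = b := by rw [smul_smul, ← add_smul, huv, one_smul]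
    have h1 : f (L • a0) = 0 := by rw [map_zsmul, ha0, smul_comm, hb, smul_zero]
    have hL : L • ((v * v * P) • a0) = 0 := by rw [smul_comm, mul_smul, hker _ h1, smul_zero]
    have hf : f ((v * v * P) • a0) = b := by
      rw [map_zsmul, ha0, smul_smul, show v * v * P * P = v * P * (v * P) by ring, mul_smul, hb1, hb1]
    refine ⟨_, ⟨hL, hf⟩, fun a' ⟨ha', hfa'⟩ => sub_eq_zero.1 ?_⟩
    have hd1 : L • (a' - (v * v * P) • a0) = 0 := by rw [smul_sub, ha', hL, sub_zero]
    have hd2 : f (a' - (v * v * P) • a0) = 0 := by rw [map_sub, hfa', hf, sub_self]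
    generalize a' - (v * v * P) • a0 = d at hd1 hd2 ⊢
    rw [← one_smul ℤ d, ← huv, add_smul, mul_smul, mul_smul, hd1, hker _ hd2, smul_zero, smul_zero, add_zero]
  · obtain ⟨a1, ha1⟩ := hcoker b'
    obtain ⟨u', v', huv'⟩ := h2
    have h1 : f (P • a - L • a1) = 0 := by rw [map_sub, map_zsmul, map_zsmul, hb', ha1, smul_comm, sub_self]
    have h3 := hker _ h1
    rw [smul_sub, sub_eq_zero, smul_smul] at h3
    refine ⟨u' • a + (v' * P) • a1, ?_⟩
    conv_lhs => rw [← one_smul ℤ a, ← huv', add_smul, mul_smul, mul_smul, h3]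
    module
  · obtain ⟨a0, ha0⟩ := hcoker b
    refine ⟨v • a0, u • b, ?_⟩
    rw [map_zsmul, ha0]
    conv_lhs => rw [← one_smul ℤ b, ← huv]
    module


/-- Let p and ℓ be distinct prime numbers, r and n natural numbers, and f : A → B a homomorphism of
abelian groups whose kernel and cokernel are annihilated by p^r (f a = 0 implies p^r • a = 0, and
every p^r • b lies in the image of f). Then f induces a bijection between the ℓ^n-torsion subgroups
of A and B and a bijection A/ℓ^n A → B/ℓ^n B. Spelled out without quotients: every ℓ^n-torsion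
element of B has exactly one ℓ^n-torsion preimage; an element of A whose image is an ℓ^n-multiple is
itself an ℓ^n-multiple; and every element of B is the sum of an image and an ℓ^n-multiple. -/
theorem result {A B : Type u} [AddCommGroup A] [AddCommGroup B] (f : A →+ B) (p ℓ r n : ℕ) (hp : p.Prime) (hl : ℓ.Prime) (hne : ℓ ≠ p) (hker : ∀ a : A, f a = 0 → p ^ r • a = 0) (hcoker : ∀ b : B, ∃ a : A, f a = p ^ r • b) : (∀ b : B, ℓ ^ n • b = 0 → ∃! a : A, ℓ ^ n • a = 0 ∧ f a = b) ∧ (∀ a : A, (∃ b' : B, f a = ℓ ^ n • b') → ∃ a' : A, a = ℓ ^ n • a') ∧ (∀ b : B, ∃ (a : A) (b' : B), b = f a + ℓ ^ n • b') := by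
  have hco : ∀ k, ∃ u v : ℤ, u * ((ℓ ^ n : ℕ) : ℤ) + v * ((p ^ k : ℕ) : ℤ) = 1 := fun k =>
    Int.isCoprime_iff_gcd_eq_one.2 (by
      rw [Int.gcd_natCast_natCast]
      exact Nat.Coprime.pow n k ((Nat.coprime_primes hl hp).2 hne))
  have h2 := aux f ((ℓ ^ n : ℕ) : ℤ) ((p ^ r : ℕ) : ℤ) (hco r)
    (by simpa only [← Nat.cast_mul, ← pow_add] using hco (r + r))
    (fun a ha => by rw [natCast_zsmul]; exact hker a ha)
    (fun b => by simp only [natCast_zsmul]; exact hcoker b)
  simpa only [natCast_zsmul] using h2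

end Groth.Agent.S19186
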