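import Groth.Statements.S19187
import Mathlib

set_option autoImplicit false
set_option linter.style.haveILetI false
set_option backward.isDefEq.respectTransparency false
universe u
open Cpct

namespace Groth.Agent.S19187

open CategoryTheory AlgebraicGeometry in
/-- Let k be a field, X̄ and Ȳ schemes proper over Spec k, j : X → X̄ an open immersion with dense image
and v : Y → Ȳ an open immersion (compactifications of X and Y), f : X → Y a proper morphism and f̄ :
X̄ → Ȳ a morphism over Spec k with f̄ ∘ j = v ∘ f. Then the preimage under f̄ of the open v(Y) is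
the open j(X); equivalently, the complement of X in X̄ is the preimage of the complement of Y in Ȳ.
(The base field k is arbitrary: no perfectness assumption is needed.) -/
theorem result {k : Type u} [Field k] {X Y Xb Yb : Scheme.{u}} (a : Xb ⟶ Spec (CommRingCat.of k)) (b : Yb ⟶ Spec (CommRingCat.of k)) [IsProper a] [IsProper b] (j : X ⟶ Xb) [IsOpenImmersion j] (hj : Dense (Set.range j.base)) (v : Y ⟶ Yb) [IsOpenImmersion v] (f : X ⟶ Y) [IsProper f] (fb : Xb ⟶ Yb) (hfb : fb ≫ b = a) (hsq : j ≫ fb = f ≫ v) : fb ⁻¹ᵁ v.opensRange = j.opensRange := by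
  haveI : IsProper (fb ≫ b) := hfb ▸ ‹IsProper a›
  haveI : IsProper fb := IsProper.of_comp fb b
  set W := fb ⁻¹ᵁ v.opensRange with hW
  have hrange : Set.range j ⊆ Set.range W.ι := by
    rw [Scheme.Opens.range_ι]
    rintro _ ⟨x, rfl⟩
    show fb (j x) ∈ v.opensRange
    rw [← Scheme.Hom.comp_apply, hsq, Scheme.Hom.comp_apply]
    exact ⟨f x, rfl⟩
  let k := IsOpenImmersion.lift W.ι j hrange
  have hk : k ≫ W.ι = j := IsOpenImmersion.lift_fac _ _ _
  have hcomp : k ≫ (fb ∣_ v.opensRange) = f ≫ v.isoOpensRange.hom := by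
    rw [← cancel_mono v.opensRange.ι, Category.assoc, morphismRestrict_ι, ← Category.assoc, hk, hsq,
      Category.assoc, Scheme.Hom.isoOpensRange_hom_ι]
  haveI : UniversallyClosed (k ≫ (fb ∣_ v.opensRange)) := hcomp ▸ inferInstance
  haveI : IsSeparated (fb ∣_ v.opensRange) := IsZariskiLocalAtTarget.restrict (P := @IsSeparated) inferInstance _
  haveI : UniversallyClosed k := UniversallyClosed.of_comp_of_isSeparated k (fb ∣_ v.opensRange)
  have hclosed : IsClosed (Set.range k) := k.isClosedMap.isClosed_range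
  refine le_antisymm ?_ ?_
  · intro x hx
    by_contra hxj
    have hopen : IsOpen (W.ι '' (Set.range k)ᶜ) := W.ι.isOpenEmbedding.isOpenMap _ hclosed.isOpen_compl
    have hxmem : x ∈ W.ι '' (Set.range k)ᶜ := by
      refine ⟨⟨x, hx⟩, ?_, rfl⟩
      rintro ⟨y, hy⟩
      exact hxj ⟨y, by rw [← hk, Scheme.Hom.comp_apply, hy]; rfl⟩
    obtain ⟨_, ⟨w, hw, rfl⟩, ⟨y, hy⟩⟩ := hj.inter_open_nonempty _ hopen ⟨x, hxmem⟩
    refine hw ⟨y, W.ι.isOpenEmbedding.injective ?_⟩
    rw [← Scheme.Hom.comp_apply, hk]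
    exact hy
  · rintro _ ⟨x, rfl⟩
    show fb (j x) ∈ v.opensRange
    rw [← Scheme.Hom.comp_apply, hsq, Scheme.Hom.comp_apply]
    exact ⟨f x, rfl⟩

end Groth.Agent.S19187
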