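import Groth.Statements.S19190
import Mathlib

set_option autoImplicit false
universe w v u v' u'
open CategoryTheory CategoryTheory.Limits CategoryTheory.Pretriangulated CategoryTheory.Triangulated
open CohDer

namespace Groth.Agent.S19190

open CategoryTheory

/-- Let `A` be a commutative ring, `S` a multiplicative subset of `A` and `T` an `A`-linear triangulated
category (octahedron axiom included; the shift functors are `A`-linear). Call an object of `T`
`S`-torsion when it lies in the smallest thick subcategory `U` of `T` (a property of objects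
containing zero, stable under shifts, extensions, isomorphisms and direct factors) containing every
cone of an endomorphism `f • 𝟙 X` with `f ∈ S`. Let `Q : T ⥤ E` exhibit `E` as the localization of
`T` at the morphisms whose cone lies in `U` (the Verdier quotient `T/U`), where `E` is preadditive
and `A`-linear and `Q` is `A`-linear. Then for all objects `X`, `Y` of `T` the `A`-linear map
`Hom_T(X, Y) → Hom_E(Q X, Q Y)` given by `Q` exhibits its target as the localization of `Hom_T(X,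
Y)` at `S`. Since `Q` is essentially surjective, this says that the comparison functor from `T/U` to
the category having the objects of `T` and morphism modules `Hom_T(X, Y) ⊗_A S⁻¹A` is an
equivalence. -/
theorem result
    {A : Type w} [CommRing A] (S : Submonoid A)
    {T : Type u} [Category.{v} T] [Preadditive T] [Linear A T] [HasZeroObject T] [HasShift T ℤ]
    [∀ n : ℤ, (shiftFunctor T n).Additive] [∀ n : ℤ, (shiftFunctor T n).Linear A]
    [Pretriangulated T] [IsTriangulated T]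
    (U : ObjectProperty T) [U.IsTriangulated] [U.IsClosedUnderIsomorphisms] [U.IsStableUnderRetracts]
    (hU : ∀ (X : T) (f : A), f ∈ S → ∀ (Z : T) (g : X ⟶ Z) (h : Z ⟶ X⟦(1 : ℤ)⟧),
      Triangle.mk (f • 𝟙 X) g h ∈ distTriang T → U Z)
    (hmin : ∀ (U' : ObjectProperty T) [U'.IsTriangulated] [U'.IsClosedUnderIsomorphisms]
      [U'.IsStableUnderRetracts],
      (∀ (X : T) (f : A), f ∈ S → ∀ (Z : T) (g : X ⟶ Z) (h : Z ⟶ X⟦(1 : ℤ)⟧),
        Triangle.mk (f • 𝟙 X) g h ∈ distTriang T → U' Z) → U ≤ U')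
    {E : Type u'} [Category.{v'} E] [Preadditive E] [Linear A E]
    (Q : T ⥤ E) [Q.Additive] [Q.Linear A] [Q.IsLocalization U.trW] (X Y : T) :
    IsLocalizedModule S (Q.mapLinearMap A : (X ⟶ Y) →ₗ[A] (Q.obj X ⟶ Q.obj Y)) := by
  classical
  let U' : ObjectProperty T := fun Z => ∃ f ∈ S, f • 𝟙 Z = 0
  have : U'.IsClosedUnderIsomorphisms := ⟨by
    rintro Z Z' e ⟨f, hf, h⟩
    refine ⟨f, hf, ?_⟩
    calc f • 𝟙 Z' = e.inv ≫ (f • 𝟙 Z) ≫ e.hom := by simp
      _ = 0 := by simp [h]⟩
  have : U'.IsTriangulated :=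
    { exists_zero := (Limits.HasZeroObject.zero (C := T)).elim fun Z hZ => ⟨Z, hZ, 1, S.one_mem, hZ.eq_of_src _ _⟩
      isStableUnderShiftBy := fun n => ⟨fun Z ⟨f, hf, h⟩ => ⟨f, hf, by
        rw [← CategoryTheory.Functor.map_id, ← CategoryTheory.Functor.map_smul, h, CategoryTheory.Functor.map_zero]⟩⟩
      ext₂' := fun T' hT' ⟨f₁, hf₁, h₁⟩ ⟨f₃, hf₃, h₃⟩ => by
        refine ObjectProperty.le_isoClosure _ _ ⟨f₁ * f₃, S.mul_mem hf₁ hf₃, ?_⟩
        obtain ⟨t, ht⟩ := Pretriangulated.Triangle.coyoneda_exact₂ _ hT' (f₃ • 𝟙 T'.obj₂) (by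
          rw [Linear.smul_comp, Category.id_comp, ← Category.comp_id T'.mor₂, ← Linear.comp_smul,
            h₃, Limits.comp_zero])
        rw [mul_smul, ht, ← Linear.comp_smul, ← Category.id_comp T'.mor₁, ← Linear.smul_comp, h₁,
          Limits.zero_comp, Limits.comp_zero] }
  have : U'.IsStableUnderRetracts := ⟨by
    rintro Z Z' r ⟨f, hf, h⟩
    refine ⟨f, hf, ?_⟩
    calc f • 𝟙 Z = r.i ≫ (f • 𝟙 Z') ≫ r.r := by simp
      _ = 0 := by simp [h]⟩
  have hle : U ≤ U' := hmin U' (by
    intro X f hf Z g h hT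
    refine ⟨f * f, S.mul_mem hf hf, ?_⟩
    have hg : f • g = 0 := by
      have e : (f • 𝟙 X) ≫ g = f • g := by rw [Linear.smul_comp, Category.id_comp]
      exact e.symm.trans (Pretriangulated.comp_distTriang_mor_zero₁₂ _ hT)
    have hh : f • h = 0 := by
      have e : h ≫ (shiftFunctor T (1 : ℤ)).map (f • 𝟙 X) = f • h := by
        rw [CategoryTheory.Functor.map_smul, CategoryTheory.Functor.map_id, Linear.comp_smul,
          Category.comp_id]
      exact e.symm.trans (Pretriangulated.comp_distTriang_mor_zero₃₁ _ hT)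
    obtain ⟨t, ht⟩ := Pretriangulated.Triangle.yoneda_exact₃ _ hT (f • 𝟙 Z)
      (show g ≫ (f • 𝟙 Z) = 0 by rw [Linear.comp_smul, Category.comp_id, hg])
    rw [mul_smul, ht]
    show f • (h ≫ t) = 0
    rw [← Linear.smul_comp, hh, Limits.zero_comp])
  have key : ∀ {X' X : T} (s : X' ⟶ X), U.trW s → ∃ f ∈ S, ∃ t, f • 𝟙 X = t ≫ s := by
    rintro X' X s ⟨Z, g, h, hT, hZ⟩
    obtain ⟨f, hf, h0⟩ := hle Z hZ
    refine ⟨f, hf, ?_⟩
    exact Pretriangulated.Triangle.coyoneda_exact₂ _ hT (f • 𝟙 X)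
      (show (f • 𝟙 X) ≫ g = 0 by
        rw [Linear.smul_comp, Category.id_comp, ← Category.comp_id g, ← Linear.comp_smul,
          h0, Limits.comp_zero])
  have hiso : ∀ (W : T) (f : A), f ∈ S → IsIso (Q.map (f • 𝟙 W)) := by
    intro W f hf
    obtain ⟨Z, g, h, hT⟩ := Pretriangulated.distinguished_cocone_triangle (f • 𝟙 W)
    exact Localization.inverts Q U.trW _ ⟨Z, g, h, hT, hU W f hf Z g h hT⟩
  refine ⟨fun f => ?_, fun φ => ?_, fun {g₁ g₂} e => ?_⟩
  · rw [Module.End.isUnit_iff]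
    have := hiso X f.1 f.2
    have hs : ∀ φ : Q.obj X ⟶ Q.obj Y, f.1 • φ = Q.map (f.1 • 𝟙 X) ≫ φ := fun φ => by simp
    constructor
    · intro a b hab
      simp only [Module.algebraMap_end_apply, hs] at hab
      exact (cancel_epi _).mp hab
    · intro b
      refine ⟨inv (Q.map (f.1 • 𝟙 X)) ≫ b, ?_⟩
      simp only [Module.algebraMap_end_apply]
      rw [hs, IsIso.hom_inv_id_assoc]
  · obtain ⟨ψ, hψ⟩ := Localization.exists_rightFraction Q U.trW φ
    obtain ⟨f, hf, t, ht⟩ := key ψ.s ψ.hs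
    refine ⟨⟨t ≫ ψ.f, ⟨f, hf⟩⟩, ?_⟩
    show f • φ = Q.map (t ≫ ψ.f)
    have := Localization.inverts Q U.trW ψ.s ψ.hs
    calc f • φ = Q.map (f • 𝟙 X) ≫ φ := by simp
      _ = Q.map (t ≫ ψ.f) := by
        rw [ht, Q.map_comp, Category.assoc, Q.map_comp, hψ,
          MorphismProperty.RightFraction.map_s_comp_map]
  · obtain ⟨X', s, hs, hse⟩ := (MorphismProperty.map_eq_iff_precomp Q U.trW g₁ g₂).mp e
    obtain ⟨f, hf, t, ht⟩ := key s hs
    refine ⟨⟨f, hf⟩, ?_⟩
    show f • g₁ = f • g₂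
    rw [← Category.id_comp g₁, ← Category.id_comp g₂, ← Linear.smul_comp, ← Linear.smul_comp, ht,
      Category.assoc, Category.assoc, hse]

end Groth.Agent.S19190
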