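import Groth.Statements.S19191
import Mathlib

set_option autoImplicit false
universe w v u v' u'
open CategoryTheory CategoryTheory.Limits CategoryTheory.Pretriangulated CategoryTheory.Triangulated
open CohDer

namespace Groth.Agent.S19191

open CategoryTheory CategoryTheory.Limits CategoryTheory.Pretriangulated ZeroObject

/-- Let `A` be a commutative ring, `T` an `A`-linear triangulated category (octahedron axiom included;
shift functors `A`-linear), `U` a thick subcategory of `T` (a property of objects containing zero,
stable under shifts, extensions, isomorphisms and direct factors), and `Q : T ⥤ E` a localization of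
`T` at the morphisms whose cone lies in `U` (the Verdier quotient `T/U`), where `E` is preadditive
and `A`-linear and `Q` is `A`-linear. For an object `X` of `T` the following two conditions are
equivalent: (i) `X` lies in `U`; (ii) for every maximal ideal `m` of `A` the image of `X` in the
category obtained from `T/U` by tensoring the morphism modules with `A_m` is zero, i.e. some element
of `A` outside `m` annihilates the identity of `Q X`. (The published statement also lists a third
equivalent condition, phrased with idempotent completions of the localized categories; it is not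
asserted here.) -/
theorem result
    {A : Type w} [CommRing A]
    {T : Type u} [Category.{v} T] [Preadditive T] [Linear A T] [HasZeroObject T] [HasShift T ℤ]
    [∀ n : ℤ, (shiftFunctor T n).Additive] [∀ n : ℤ, (shiftFunctor T n).Linear A]
    [Pretriangulated T] [IsTriangulated T]
    (U : ObjectProperty T) [U.IsTriangulated] [U.IsClosedUnderIsomorphisms] [U.IsStableUnderRetracts]
    {E : Type u'} [Category.{v'} E] [Preadditive E] [Linear A E]
    (Q : T ⥤ E) [Q.Additive] [Q.Linear A] [Q.IsLocalization U.trW] (X : T) :
    U X ↔ ∀ m : Ideal A, m.IsMaximal → ∃ s : A, s ∉ m ∧ s • 𝟙 (Q.obj X) = 0 := by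
  have hzero : ∀ Y : T, U Y → IsZero (Q.obj Y) := fun Y hY => by
    have h : U.trW (0 : (0 : T) ⟶ Y) := (U.trW_iff _).mpr ⟨Y, 𝟙 Y, 0, contractible_distinguished₁ Y, hY⟩
    haveI := Localization.inverts Q U.trW _ h
    exact (Q.map_isZero (isZero_zero T)).of_iso (asIso (Q.map (0 : (0 : T) ⟶ Y))).symm
  constructor
  · intro hX m hm
    exact ⟨1, m.ne_top_iff_one.mp hm.ne_top, by rw [one_smul]; exact (hzero X hX).eq_of_src _ _⟩
  · intro h
    let ann : Ideal A := LinearMap.ker (LinearMap.toSpanSingleton A (Q.obj X ⟶ Q.obj X) (𝟙 _))
    have h1 : (1 : A) ∈ ann := by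
      by_contra hne
      obtain ⟨m, hm, hle⟩ := Ideal.exists_le_maximal ann (fun e => hne (e ▸ Submodule.mem_top))
      obtain ⟨s, hs, hs0⟩ := h m hm
      exact hs (hle hs0)
    have hid : Q.map (𝟙 X) = Q.map 0 := by
      have := LinearMap.mem_ker.mp h1
      rw [LinearMap.toSpanSingleton_apply, one_smul] at this
      rw [Q.map_id, Q.map_zero, this]
    obtain ⟨Z, s, hs, hs'⟩ := (MorphismProperty.map_eq_iff_postcomp Q U.trW _ _).mp hid
    rw [Category.id_comp, zero_comp] at hs'
    obtain ⟨W, g, c, hT, hW⟩ := (U.trW_iff _).mp hs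
    obtain ⟨t, ht⟩ := Triangle.coyoneda_exact₁ _ hT (𝟙 _) (by
      show 𝟙 (X⟦(1 : ℤ)⟧) ≫ s⟦(1 : ℤ)⟧' = 0
      rw [hs', Functor.map_zero, comp_zero])
    have hsh : U (X⟦(1 : ℤ)⟧) := U.prop_of_retract
      ({ i := t, r := c, retract := ht.symm } : Retract (X⟦(1 : ℤ)⟧) W) hW
    exact U.prop_of_iso ((shiftFunctorCompIsoId T (1 : ℤ) (-1) (by omega)).app X) (U.le_shift (-1 : ℤ) _ hsh)

end Groth.Agent.S19191
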