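import Groth.Statements.S19195
import Mathlib
import Groth.Agent.Flat.FibreRegular

set_option autoImplicit false
set_option backward.isDefEq.respectTransparency false
set_option linter.style.haveILetI false
universe u
open TensorProduct
open RelS1

namespace Groth.Agent.S19195

/-- Let A be a commutative ring, B a finitely presented A-algebra and M a finitely presented B-module
which is flat over A. Suppose that for every prime p of A, with residue field κ(p), the fibre module
(B ⊗_A κ(p)) ⊗_B M over the fibre ring B ⊗_A κ(p) satisfies Serre's condition (S_1) in the form: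
each of its associated primes is a minimal prime of its annihilator. Let a be an element of B whose
image a ⊗ 1 in every fibre ring B ⊗_A κ(p) lies in no minimal prime of the annihilator of the fibre
module. Then a is a non-zero-divisor on M. (Since all hypotheses are preserved by base change of A
and by passing to affine opens, this expresses that a flat finitely presented sheaf with (S_1)
fibres is pure relative to the base after every base change. The published statement is an
equivalence for sheaves on a locally finitely presented morphism, quantified over all base changes;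
this row states its direct implication in affine form.) -/
theorem result (A B M : Type u) [CommRing A] [CommRing B] [Algebra A B]
    [Algebra.FinitePresentation A B] [AddCommGroup M] [Module B M] [Module A M]
    [IsScalarTower A B M] [Module.FinitePresentation B M] [Module.Flat A M]
    (hS1 : ∀ (p : Ideal A) [p.IsPrime],
      associatedPrimes (B ⊗[A] p.ResidueField) ((B ⊗[A] p.ResidueField) ⊗[B] M) ⊆
        (Module.annihilator (B ⊗[A] p.ResidueField) ((B ⊗[A] p.ResidueField) ⊗[B] M)).minimalPrimes)
    (a : B)
    (ha : ∀ (p : Ideal A) [p.IsPrime],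
      ∀ P ∈ (Module.annihilator (B ⊗[A] p.ResidueField) ((B ⊗[A] p.ResidueField) ⊗[B] M)).minimalPrimes,
        a ⊗ₜ[A] (1 : p.ResidueField) ∉ P) :
    IsSMulRegular M a := by
  refine isSMulRegular_iff_right_eq_zero_of_smul.mpr fun m hm => ?_
  suffices h : ∀ (q : Ideal B), q.IsMaximal → ∃ s, s ∉ q ∧ s • m = 0 by
    by_contra hne
    have hann : LinearMap.ker (LinearMap.toSpanSingleton B M m) ≠ ⊤ := fun htop =>
      hne (by simpa using (LinearMap.mem_ker.mp (htop ▸ Submodule.mem_top : (1 : B) ∈ LinearMap.ker (LinearMap.toSpanSingleton B M m))))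
    obtain ⟨q, hq, hle⟩ := Ideal.exists_le_maximal _ hann
    obtain ⟨s, hs, hs0⟩ := h q hq
    exact hs (hle (LinearMap.mem_ker.mpr (by simpa using hs0)))
  intro q hq
  by_cases haq : a ∈ q
  · refine (Flat.FibreRegular.injective_and_flatAt_quotient (R := A) (M := M) q a haq
      (Flat.FlatAt.FlatAt.of_flat q Ideal.IsPrime.ne_top') ?_).1 m hm
    intro y hy
    refine ⟨1, fun h1 => hq.ne_top ((Ideal.eq_top_iff_one q).mpr h1), ?_⟩
    rw [one_smul]
    let p := q.comap (algebraMap A B)
    let κ := p.ResidueField
    let Bp := B ⊗[A] κ
    let e : Bp ⊗[B] M ≃ₗ[B] M ⊗[A] κ :=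
      TensorProduct.comm B Bp M ≪≫ₗ TensorProduct.AlgebraTensorModule.cancelBaseChange A B B M κ
    haveI : IsNoetherianRing (κ ⊗[A] B) := Algebra.FiniteType.isNoetherianRing κ _
    haveI : IsNoetherianRing Bp := isNoetherianRing_of_ringEquiv _ (Algebra.TensorProduct.comm A κ B).toRingEquiv
    have hreg : ∀ z : Bp ⊗[B] M, (a ⊗ₜ[A] (1 : κ)) • z = 0 → z = 0 := by
      intro z hz
      by_contra hz0
      have hmem : (a ⊗ₜ[A] (1 : κ)) ∈ ⋃ P ∈ associatedPrimes Bp (Bp ⊗[B] M), (P : Set Bp) := by
        rw [biUnion_associatedPrimes_eq_zero_divisors]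
        exact ⟨z, hz0, hz⟩
      simp only [Set.mem_iUnion] at hmem
      obtain ⟨P, hP, haP⟩ := hmem
      exact ha p P (hS1 p hP) haP
    apply e.symm.injective
    rw [map_zero]
    refine hreg _ ?_
    have h2 : (a ⊗ₜ[A] (1 : κ)) • e.symm y = a • e.symm y := algebraMap_smul Bp a (e.symm y)
    rw [h2, ← map_smul, hy, map_zero]
  · exact ⟨a, haq, hm⟩

end Groth.Agent.S19195
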