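import Groth.Statements.S19196
import Mathlib

set_option autoImplicit false
universe u
open RelS1

namespace Groth.Agent.S19196

/-- Let R be a Noetherian commutative ring and N a finitely generated R-module which fails Serre's
condition (S_1), in the sense that some associated prime of N is not a minimal prime of the
annihilator of N. Then there exist an element a of R lying in no minimal prime of the annihilator of
N and a nonzero element b of N with a • b = 0; thus the basic open set D(a) meets the support of N
densely while restriction to it is not injective on N. -/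
theorem result (R N : Type u) [CommRing R] [IsNoetherianRing R]
    [AddCommGroup N] [Module R N] [Module.Finite R N]
    (h : ¬ associatedPrimes R N ⊆ (Module.annihilator R N).minimalPrimes) :
    ∃ (a : R) (b : N), (∀ P ∈ (Module.annihilator R N).minimalPrimes, a ∉ P) ∧ b ≠ 0 ∧ a • b = 0 := by
  obtain ⟨P, hP, hPmin⟩ := Set.not_subset.mp h
  obtain ⟨hPp, b, hb⟩ := (isAssociatedPrime_iff_exists_injective_linearMap (I := P) (M := N)).mp hP
  obtain ⟨a, haP, ha⟩ : ∃ a ∈ P, ∀ Q ∈ (Module.annihilator R N).minimalPrimes, a ∉ Q := by
    have hfin := Ideal.finite_minimalPrimes_of_isNoetherianRing R (Module.annihilator R N)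
    by_contra hc
    push Not at hc
    have hsub : (P : Set R) ⊆ ⋃ Q ∈ (hfin.toFinset : Set (Ideal R)), (Q : Set R) := by
      intro a ha
      obtain ⟨Q, hQ, haQ⟩ := hc a ha
      exact Set.mem_biUnion (by simpa using hQ) haQ
    obtain ⟨Q, hQ, hle⟩ := (Ideal.subset_union_prime (⊤ : Ideal R) ⊤ (fun Q hQ _ _ => ((Set.Finite.mem_toFinset hfin).mp hQ).1.1)).mp hsub
    rw [Set.Finite.mem_toFinset] at hQ
    have : Module.annihilator R N ≤ P := by simpa [Submodule.annihilator_top] using hP.annihilator_le
    exact hPmin (le_antisymm hle (hQ.2 ⟨hPp, this⟩ hle) ▸ hQ)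
  refine ⟨a, b (Ideal.Quotient.mk P 1), ha, fun e => hPp.ne_top ?_, ?_⟩
  · rw [Ideal.eq_top_iff_one, ← Ideal.Quotient.eq_zero_iff_mem]
    exact hb (e.trans (map_zero b).symm)
  · rw [← map_smul, show a • Ideal.Quotient.mk P 1 = Ideal.Quotient.mk P (a • 1) from rfl, smul_eq_mul, mul_one,
      Ideal.Quotient.eq_zero_iff_mem.mpr haP, map_zero]

end Groth.Agent.S19196
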