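import Groth.Statements.S19210
import Mathlib.Algebra.Ring.GeomSum
import Mathlib.Data.Nat.Factorial.Basic
import Mathlib.Analysis.Normed.Order.Lattice
import Mathlib.Algebra.BigOperators.Field

set_option autoImplicit false
universe u
open LocAlg

namespace Groth.Agent.S19210

theorem step_bounds (m : ℕ) (x : ℝ) (hx : 0 ≤ x) :
    ((m : ℝ) + 1) * x ^ m ≤ (x + 1) ^ (m + 1) - x ^ (m + 1) ∧ (x + 1) ^ (m + 1) - x ^ (m + 1) ≤ ((m : ℝ) + 1) * (x + 1) ^ m := by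
  rw [← geom_sum₂_mul (x + 1) x (m + 1), add_sub_cancel_left, mul_one]
  have hc : ∀ c : ℝ, ((m : ℝ) + 1) * c = ∑ _k ∈ Finset.range (m + 1), c := fun c => by simp
  rw [hc, hc]
  constructor <;> refine Finset.sum_le_sum fun k hk => ?_
  · calc x ^ m = x ^ k * x ^ (m + 1 - 1 - k) := by
          rw [← pow_add]; congr 1; have := Finset.mem_range.1 hk; omega
      _ ≤ _ := by gcongr; linarith
  · calc (x + 1) ^ k * x ^ (m + 1 - 1 - k) ≤ (x + 1) ^ k * (x + 1) ^ (m + 1 - 1 - k) := by gcongr; linarith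
      _ = _ := by rw [← pow_add]; congr 1; have := Finset.mem_range.1 hk; omega

theorem base (m : ℕ) (n : ℕ) :
    ((m : ℝ) + 1) * ∑ i ∈ Finset.range n, (i : ℝ) ^ m ≤ (n : ℝ) ^ (m + 1) ∧
      (n : ℝ) ^ (m + 1) ≤ ((m : ℝ) + 1) * ((∑ i ∈ Finset.range n, (i : ℝ) ^ m) + (n : ℝ) ^ m) := by
  induction n with
  | zero => constructor <;> simp <;> positivity
  | succ n ih =>
    obtain ⟨h1, h2⟩ := step_bounds m n (Nat.cast_nonneg n)
    rw [Finset.sum_range_succ]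
    push_cast
    constructor <;> nlinarith [ih.1, ih.2]

theorem gen (a : ℕ) : ∀ j : ℕ, ∃ C : ℝ, ∀ n : ℕ, 1 ≤ n →
    |(∑ i ∈ Finset.range n, ((n : ℝ) - (i : ℝ)) ^ a * (i : ℝ) ^ j) -
        (a.factorial : ℝ) * (j.factorial : ℝ) / ((a + j + 1).factorial : ℝ) * (n : ℝ) ^ (a + j + 1)| ≤ C * (n : ℝ) ^ (a + j) := by
  induction a with
  | zero =>
    intro j
    refine ⟨1, fun n _ => ?_⟩
    have hf : ((0 : ℕ).factorial : ℝ) * (j.factorial : ℝ) / ((0 + j + 1).factorial : ℝ) = 1 / ((j : ℝ) + 1) := by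
      rw [Nat.zero_add, Nat.factorial_succ]; push_cast; field_simp; simp
    obtain ⟨h1, h2⟩ := base j n
    rw [hf, Nat.zero_add, one_mul]
    simp only [pow_zero, one_mul]
    have hj : (0 : ℝ) < (j : ℝ) + 1 := by positivity
    rw [abs_le]
    constructor <;> rw [one_div_mul_eq_div]
    · rw [le_sub_iff_add_le, ← le_sub_iff_add_le', div_le_iff₀ hj]; nlinarith
    · rw [sub_le_iff_le_add', ← sub_le_iff_le_add, le_div_iff₀ hj]; nlinarith [pow_nonneg (Nat.cast_nonneg (α := ℝ) n) j]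
  | succ a ih =>
    intro j
    obtain ⟨C1, h1⟩ := ih j
    obtain ⟨C2, h2⟩ := ih (j + 1)
    refine ⟨C1 + C2, fun n hn => ?_⟩
    have hs : (∑ i ∈ Finset.range n, ((n : ℝ) - (i : ℝ)) ^ (a + 1) * (i : ℝ) ^ j) =
        (n : ℝ) * (∑ i ∈ Finset.range n, ((n : ℝ) - (i : ℝ)) ^ a * (i : ℝ) ^ j) - ∑ i ∈ Finset.range n, ((n : ℝ) - (i : ℝ)) ^ a * (i : ℝ) ^ (j + 1) := by
      rw [Finset.mul_sum, ← Finset.sum_sub_distrib]
      exact Finset.sum_congr rfl fun i _ => by ring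
    have e1 : a + 1 + j + 1 = a + j + 1 + 1 := by ring
    have e2 : a + (j + 1) + 1 = a + j + 1 + 1 := by ring
    have e3 : a + (j + 1) = a + j + 1 := by ring
    have e4 : a + 1 + j = a + j + 1 := by ring
    have hb : ((a + 1).factorial : ℝ) * (j.factorial : ℝ) / ((a + j + 1 + 1).factorial : ℝ) =
        (a.factorial : ℝ) * (j.factorial : ℝ) / ((a + j + 1).factorial : ℝ) - (a.factorial : ℝ) * ((j + 1).factorial : ℝ) / ((a + j + 1 + 1).factorial : ℝ) := by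
      rw [Nat.factorial_succ a, Nat.factorial_succ j, Nat.factorial_succ (a + j + 1)]
      push_cast
      field_simp
      ring
    have h1' := abs_le.1 (h1 n hn)
    have h2' := abs_le.1 (h2 n hn)
    rw [e2, e3] at h2'
    rw [hs, e1, e4, hb, abs_le]
    have hn0 : (0 : ℝ) ≤ n := Nat.cast_nonneg n
    have m1 := mul_le_mul_of_nonneg_left h1'.1 hn0
    have m2 := mul_le_mul_of_nonneg_left h1'.2 hn0
    simp only [pow_succ] at *
    constructor <;> nlinarith [m1, m2, h2'.1, h2'.2]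


/-- For natural numbers j ≤ r, the sums Σ_{i=0}^{n−1} (n − i)^{r−j} i^j equal n^{r+1}·(r − j)!·j!/(r +
1)! up to O(n^r): there is a real constant C with |Σ_{i<n} (n − i)^{r−j} i^j − ((r − j)!·j!/(r +
1)!)·n^{r+1}| ≤ C·n^r for all n ≥ 1. -/
theorem result (r j : ℕ) (hj : j ≤ r) :
    ∃ C : ℝ, ∀ n : ℕ, 1 ≤ n →
      |(∑ i ∈ Finset.range n, ((n : ℝ) - (i : ℝ)) ^ (r - j) * (i : ℝ) ^ j) -
          ((r - j).factorial : ℝ) * (j.factorial : ℝ) / ((r + 1).factorial : ℝ) * (n : ℝ) ^ (r + 1)| ≤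
        C * (n : ℝ) ^ r := by
  obtain ⟨C, hC⟩ := gen (r - j) j
  refine ⟨C, fun n hn => ?_⟩
  have := hC n hn
  rwa [Nat.sub_add_cancel hj] at this

end Groth.Agent.S19210
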