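import Groth.Statements.S19224
import Groth.Agent.S7729
import Mathlib

set_option autoImplicit false
set_option maxHeartbeats 1000000
open GalCoh CategoryTheory

namespace Groth.Agent.S19224

open Groth.Agent.S7729 (dd dd_map subsingleton_iff)

variable {Q : Type} [Group Q] {M : Type} [AddCommGroup M]

theorem dd1 (b : (Fin 1 → Q) → M) (g h : Q) :
    dd (Rep.trivial ℤ Q M) 1 b ![g, h] = b ![h] - b ![g * h] + b ![g] := by
  have e0 : Fin.contractNth (0 : Fin 2) (· * ·) ![g, h] = ![g * h] := by funext i; fin_cases i <;> rfl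
  have e1 : Fin.contractNth (1 : Fin 2) (· * ·) ![g, h] = ![g] := by funext i; fin_cases i <;> rfl
  have e : (fun i : Fin 1 => ![g, h] i.succ) = ![h] := by funext i; fin_cases i <;> rfl
  show (Rep.trivial ℤ Q M).ρ g (b fun i : Fin 1 => ![g, h] i.succ) +
    ∑ j : Fin 2, (-1 : ℤ) ^ ((j : ℕ) + 1) • b (Fin.contractNth j (· * ·) ![g, h]) = _
  rw [Fin.sum_univ_two, e0, e1, e]
  simp [sub_eq_add_neg, add_assoc]

theorem dd2 (f : (Fin 2 → Q) → M) (g h j : Q) :
    dd (Rep.trivial ℤ Q M) 2 f ![g, h, j] = f ![h, j] - f ![g * h, j] + f ![g, h * j] - f ![g, h] := by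
  have e0 : Fin.contractNth (0 : Fin 3) (· * ·) ![g, h, j] = ![g * h, j] := by funext i; fin_cases i <;> rfl
  have e1 : Fin.contractNth (1 : Fin 3) (· * ·) ![g, h, j] = ![g, h * j] := by funext i; fin_cases i <;> rfl
  have e2 : Fin.contractNth (2 : Fin 3) (· * ·) ![g, h, j] = ![g, h] := by funext i; fin_cases i <;> rfl
  have e : (fun i : Fin 2 => ![g, h, j] i.succ) = ![h, j] := by funext i; fin_cases i <;> rfl
  show (Rep.trivial ℤ Q M).ρ g (f fun i : Fin 2 => ![g, h, j] i.succ) +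
    ∑ l : Fin 3, (-1 : ℤ) ^ ((l : ℕ) + 1) • f (Fin.contractNth l (· * ·) ![g, h, j]) = _
  rw [Fin.sum_univ_three, e0, e1, e2, e]
  simp [sub_eq_add_neg, add_assoc]

theorem card_nsmul [Finite Q] (f : (Fin 2 → Q) → M) (hf : dd (Rep.trivial ℤ Q M) 2 f = 0) :
    ∃ b : (Fin 1 → Q) → M, dd (Rep.trivial ℤ Q M) 1 b = fun x => Nat.card Q • f x := by
  haveI := Fintype.ofFinite Q
  refine ⟨fun x => ∑ j, f ![x 0, j], funext fun x => ?_⟩
  have hx : x = ![x 0, x 1] := by funext i; fin_cases i <;> rfl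
  rw [hx, dd1, Nat.card_eq_fintype_card, ← Finset.card_univ, ← Finset.sum_const]
  simp only [Matrix.cons_val_zero, Matrix.cons_val_one]
  rw [← Equiv.sum_comp (Equiv.mulLeft (x 1)) (fun j => f ![x 0, j]), ← Finset.sum_sub_distrib, ← Finset.sum_add_distrib]
  refine Finset.sum_congr rfl fun j _ => ?_
  have := congrFun hf ![x 0, x 1, j]
  rw [dd2] at this
  exact sub_eq_zero.1 (this.trans rfl)

def toM (η : M) : Rep.trivial ℤ Q ℤ ⟶ Rep.trivial ℤ Q M :=
  Rep.ofHom ⟨LinearMap.toSpanSingleton ℤ M η, fun g => by ext; simp⟩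

theorem toM_apply (η : M) (a : ℤ) : (toM (Q := Q) η).hom a = a • η := rfl

theorem result (Q : Type) [Group Q] [Finite Q]
    (hQ : Subsingleton (groupCohomology (Rep.trivial ℤ Q ℤ) 3)) (k : Type) [Field k] [IsSepClosed k]
    (p : ℕ) [CharP k p] (hp : ¬ p ∣ Nat.card Q) :
    Subsingleton (groupCohomology (Rep.trivial ℤ Q (Additive kˣ)) 2) := by
  let n := Nat.card Q
  have hn0 : 0 < n := Nat.card_pos
  haveI : NeZero (n : k) := ⟨fun h => hp ((CharP.cast_eq_zero_iff k p n).1 h)⟩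
  haveI : NeZero n := ⟨hn0.ne'⟩
  obtain ⟨ζ, hζ⟩ := HasEnoughRootsOfUnity.prim (M := k) (n := n)
  let ζu : kˣ := (hζ.isUnit hn0.ne').unit
  have hζu : IsPrimitiveRoot ζu n := IsPrimitiveRoot.coe_units_iff.1 (by rw [IsUnit.unit_spec]; exact hζ)
  have hdiv : ∀ a : Additive kˣ, ∃ c : Additive kˣ, n • c = a := fun a => by
    obtain ⟨z, hz⟩ := IsSepClosed.exists_pow_nat_eq ((Additive.toMul a : kˣ) : k) n
    have hz0 : z ≠ 0 := fun h => (Additive.toMul a : kˣ).ne_zero (by rw [← hz, h, zero_pow hn0.ne'])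
    exact ⟨Additive.ofMul (Units.mk0 z hz0), Additive.toMul.injective (Units.ext (by simpa using hz))⟩
  obtain ⟨η, hη⟩ := hdiv (Additive.ofMul ζu)
  refine (subsingleton_iff _ 1).2 fun f hf => ?_
  obtain ⟨b, hb⟩ := card_nsmul f hf
  choose c hc using fun x => hdiv (b x)
  have hsub : ∀ {N : Type} [AddCommGroup N] (m : ℕ) (u v : (Fin m → Q) → N),
      dd (Rep.trivial ℤ Q N) m (u - v) = dd (Rep.trivial ℤ Q N) m u - dd (Rep.trivial ℤ Q N) m v :=
    fun m u v => map_sub (inhomogeneousCochains.d (Rep.trivial ℤ Q _) m).hom u v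
  have hsmul : ∀ {N : Type} [AddCommGroup N] (m : ℕ) (a : ℕ) (u : (Fin m → Q) → N),
      dd (Rep.trivial ℤ Q N) m (fun x => a • u x) = fun x => a • dd (Rep.trivial ℤ Q N) m u x :=
    fun m a u => map_nsmul (inhomogeneousCochains.d (Rep.trivial ℤ Q _) m).hom a u
  have hdd : ∀ (m : ℕ) (A : Rep.{0} ℤ Q) (u : (Fin m → Q) → A), dd A (m + 1) (dd A m u) = 0 := fun m A u =>
    ConcreteCategory.congr_hom (groupCohomology.inhomogeneousCochains.d_comp_d (n := m) A) u
  let f' : (Fin 2 → Q) → Additive kˣ := f - dd (Rep.trivial ℤ Q (Additive kˣ)) 1 c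
  have hf'n : ∀ x, n • f' x = 0 := fun x => by
    show n • (f x - dd (Rep.trivial ℤ Q (Additive kˣ)) 1 c x) = 0
    rw [nsmul_sub, ← congrFun (hsmul 1 n c) x, funext hc, hb]
    exact sub_self _
  have hroot : ∀ x, ∃ i : ℤ, i • Additive.ofMul ζu = f' x := fun x => by
    have h1 : (Additive.toMul (f' x) : kˣ) ^ n = 1 := by rw [← toMul_nsmul, hf'n, toMul_zero]
    obtain ⟨i, -, hi⟩ := hζu.eq_pow_of_mem_rootsOfUnity ((mem_rootsOfUnity n _).2 h1)
    exact ⟨i, Additive.toMul.injective (by rw [toMul_zsmul, toMul_ofMul, zpow_natCast, hi])⟩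
  choose m hm using hroot
  have hmf : (fun x => (toM (Q := Q) (Additive.ofMul ζu)).hom (m x)) = f' := funext hm
  have hdm : ∀ y, (n : ℤ) ∣ dd (Rep.trivial ℤ Q ℤ) 2 m y := fun y => by
    refine (hζu.zpow_eq_one_iff_dvd _).1 (Additive.ofMul.injective ?_)
    rw [ofMul_zpow, ofMul_one]
    refine (congrFun (dd_map (toM (Additive.ofMul ζu)) 2 m) y).symm.trans ?_
    rw [hmf]
    show dd (Rep.trivial ℤ Q (Additive kˣ)) 2 (f - dd (Rep.trivial ℤ Q (Additive kˣ)) 1 c) y = 0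
    rw [hsub, hf, hdd 1 (Rep.trivial ℤ Q (Additive kˣ)) c, sub_self]
    rfl
  choose u hu using hdm
  have hu' : dd (Rep.trivial ℤ Q ℤ) 3 u = 0 := by
    funext z
    have h1 : (fun y => n • u y) = dd (Rep.trivial ℤ Q ℤ) 2 m := funext fun y => (nsmul_eq_mul n (u y)).trans (hu y).symm
    have := congrFun (hsmul 3 n u) z
    rw [h1, hdd 2 (Rep.trivial ℤ Q ℤ) m] at this
    rw [nsmul_eq_mul] at this
    exact (mul_eq_zero.1 this.symm).resolve_left (by exact_mod_cast hn0.ne')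
  obtain ⟨v, hv⟩ := (subsingleton_iff _ 2).1 hQ u hu'
  let m' : (Fin 2 → Q) → ℤ := m - fun x => n • v x
  have hm' : dd (Rep.trivial ℤ Q ℤ) 2 m' = 0 := by
    show dd (Rep.trivial ℤ Q ℤ) 2 (m - fun x => n • v x) = 0
    rw [hsub, hsmul, hv]
    funext y
    show dd (Rep.trivial ℤ Q ℤ) 2 m y - n • u y = 0
    rw [hu, nsmul_eq_mul, sub_self]
  obtain ⟨b', hb'⟩ := card_nsmul m' hm'
  have hnη : ∀ a : ℤ, (n * a) • η = a • Additive.ofMul ζu := fun a => by
    rw [mul_comm, mul_smul, natCast_zsmul, hη]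
  refine ⟨c + fun x => (toM (Q := Q) η).hom (b' x), ?_⟩
  show inhomogeneousCochains.d (Rep.trivial ℤ Q (Additive kˣ)) 1 (c + fun x => (toM (Q := Q) η).hom (b' x)) = f
  rw [map_add]
  show dd (Rep.trivial ℤ Q (Additive kˣ)) 1 c + dd (Rep.trivial ℤ Q (Additive kˣ)) 1 (fun x => (toM (Q := Q) η).hom (b' x)) = f
  rw [dd_map, hb']
  funext x
  show dd (Rep.trivial ℤ Q (Additive kˣ)) 1 c x + (n • (m x - n • v x)) • η = f x
  have hζ0 : (n : ℤ) • Additive.ofMul ζu = 0 :=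
    Additive.toMul.injective (by rw [toMul_zsmul, toMul_ofMul, zpow_natCast, hζu.pow_eq_one, toMul_zero])
  rw [nsmul_eq_mul, nsmul_eq_mul, hnη, sub_smul, mul_comm (n : ℤ), mul_smul, hζ0, smul_zero, sub_zero, hm]
  exact add_sub_cancel _ _

end Groth.Agent.S19224
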