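import Groth.Statements.S19230
import Groth.Agent.SemiLin.Basic
-- import your own Groth.Agent.* helpers here

set_option autoImplicit false
universe u v
open SigmaLin

namespace Groth.Agent.S19230

/-- Let k be a field, σ a surjective ring endomorphism of k, V a finite-dimensional k-vector space and T
: V → V additive with T (c • v) = σ c • T v. Then the set of vectors killed by some iterate of T is
a k-subspace on which a single iterate of T vanishes, it is a complement of the intersection over n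
of the k-spans of the images of the n-th iterates, and T restricts to a bijection of that
intersection onto itself. -/
theorem result
    (k : Type u) [Field k] (σ : k →+* k) (hσ : Function.Surjective σ)
    (V : Type v) [AddCommGroup V] [Module k V] [FiniteDimensional k V] (T : V →ₛₗ[σ] V) :
    (∃ W : Submodule k V, (W : Set V) = {v : V | ∃ n : ℕ, (⇑T)^[n] v = 0} ∧
      (∃ N : ℕ, ∀ v ∈ W, (⇑T)^[N] v = 0) ∧
      IsCompl W (⨅ n : ℕ, Submodule.span k (Set.range ((⇑T)^[n])))) ∧
    Set.BijOn (⇑T) (⋂ n : ℕ, (Submodule.span k (Set.range ((⇑T)^[n])) : Set V))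
      (⋂ n : ℕ, (Submodule.span k (Set.range ((⇑T)^[n])) : Set V)) := by
  classical
  haveI : RingHomSurjective σ := ⟨hσ⟩
  obtain ⟨N, hN⟩ := SemiLin.Basic.exists_W_eq T
  have hinj := SemiLin.Basic.injective_of_span_range _ (SemiLin.Basic.span_range_Tss T)
  have hsur : Function.Surjective (SemiLin.Basic.Tss T) := by
    rw [← LinearMap.range_eq_top, ← SemiLin.Basic.span_range_Tss T, ← LinearMap.coe_range,
      Submodule.span_eq]
  have hcoe : ∀ (n : ℕ) (y : SemiLin.Basic.Vss T),
      ((⇑(SemiLin.Basic.Tss T))^[n] y : V) = (⇑T)^[n] (y : V) := fun n y =>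
    Function.Semiconj.iterate_right (f := Subtype.val) (fun _ => rfl) n y
  let W : Submodule k V :=
    { carrier := {v : V | ∃ n : ℕ, (⇑T)^[n] v = 0}
      zero_mem' := ⟨0, rfl⟩
      add_mem' := by
        rintro a b ⟨m, hm⟩ ⟨n, hn⟩
        refine ⟨m + n, ?_⟩
        rw [SemiLin.Basic.iter_add, Nat.add_comm m n, Function.iterate_add_apply, hm,
          SemiLin.Basic.iter_zero_vec, zero_add, Nat.add_comm n m, Function.iterate_add_apply, hn,
          SemiLin.Basic.iter_zero_vec]
      smul_mem' := by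
        rintro c a ⟨n, hn⟩
        exact ⟨n, by rw [SemiLin.Basic.iter_smul, hn, smul_zero]⟩ }
  refine ⟨⟨W, rfl, ⟨N, ?_⟩, ?_, ?_⟩, ?_⟩
  · rintro v ⟨n, hn⟩
    refine SemiLin.Basic.eq_zero_of_mem_Vss T (hN N le_rfl ▸ SemiLin.Basic.mem_W T N v) ⟨n, ?_⟩
    rw [← Function.iterate_add_apply, Nat.add_comm, Function.iterate_add_apply, hn,
      SemiLin.Basic.iter_zero_vec]
  · rw [Submodule.disjoint_def]
    exact fun x hx hx' => SemiLin.Basic.eq_zero_of_mem_Vss T hx' hx
  · rw [codisjoint_iff, eq_top_iff]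
    intro x _
    obtain ⟨y, hy⟩ := hsur.iterate N ⟨_, hN N le_rfl ▸ SemiLin.Basic.mem_W T N x⟩
    have hy' : (⇑T)^[N] (y : V) = (⇑T)^[N] x := by rw [← hcoe, hy]
    refine Submodule.mem_sup.mpr ⟨x - y, ⟨N, ?_⟩, y, y.2, sub_add_cancel _ _⟩
    have h := SemiLin.Basic.iter_add T N (x - y) y
    rw [sub_add_cancel, hy'] at h
    exact right_eq_add.mp h
  · have e : (⋂ n : ℕ, (Submodule.span k (Set.range ((⇑T)^[n])) : Set V)) =
        (SemiLin.Basic.Vss T : Set V) := (Submodule.coe_iInf _).symm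
    rw [e]
    refine ⟨fun x hx => SemiLin.Basic.map_mem_Vss T hx, fun a ha b hb h =>
      congrArg Subtype.val (hinj (a₁ := ⟨a, ha⟩) (a₂ := ⟨b, hb⟩) (Subtype.ext h)), fun y hy => ?_⟩
    obtain ⟨z, hz⟩ := hsur ⟨y, hy⟩
    exact ⟨z, z.2, congrArg Subtype.val hz⟩

end Groth.Agent.S19230
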