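import Groth.Statements.S19269
import Mathlib.RingTheory.AdicCompletion.Exactness
import Mathlib.RingTheory.AdicCompletion.AsTensorProduct
import Mathlib.RingTheory.AdicCompletion.Noetherian

set_option autoImplicit false
universe u
open CAlg

namespace Groth.Agent.S19269

open IsLocalRing in
/-- Let R be a Noetherian local ring with maximal ideal 𝔪, M a finitely generated R-module and M^ its
𝔪-adic completion, a module over the 𝔪-adic completion R^ of R. Let N' be an R^-submodule of M^ and
N an R-submodule of M whose image in M^ is contained in N' and is dense in N' for the 𝔪-adic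
topology, in the sense that for every y in N' and every k there is x in N with y ≡ x modulo the
kernel of M^ → M/𝔪^k M. Then N' equals the image of the completion of N under the map induced by the
inclusion N → M (so N' is the completion of N), and N is the set of elements of M whose image in M^
lies in N'. -/
theorem result {R : Type u} [CommRing R]
    [IsNoetherianRing R] [IsLocalRing R] {M : Type u} [AddCommGroup M] [Module R M]
    [Module.Finite R M] (N : Submodule R M)
    (N' : Submodule (AdicCompletion (maximalIdeal R) R) (AdicCompletion (maximalIdeal R) M))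
    (hle : ∀ x ∈ N, AdicCompletion.of (maximalIdeal R) M x ∈ N')
    (hdense : ∀ y ∈ N', ∀ k : ℕ, ∃ x ∈ N,
      AdicCompletion.eval (maximalIdeal R) M k y = Submodule.Quotient.mk x) :
    (N'.restrictScalars R =
        (LinearMap.range (AdicCompletion.map (maximalIdeal R) N.subtype)).restrictScalars R) ∧
      (∀ x : M, x ∈ N ↔ AdicCompletion.of (maximalIdeal R) M x ∈ N') := by
  let I := maximalIdeal R
  have hsmul : ∀ k : ℕ, ∀ x : M, x ∈ (I ^ k • ⊤ : Submodule R M) → N.mkQ x ∈ (I ^ k • ⊤ : Submodule R (M ⧸ N)) :=
    fun k x hx => by
      have := Submodule.mem_map_of_mem (f := N.mkQ) hx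
      rwa [Submodule.map_smul'', Submodule.map_top, Submodule.range_mkQ] at this
  have hker : ∀ y ∈ N', AdicCompletion.map I N.mkQ y = 0 := fun y hy => by
    ext k
    obtain ⟨x, hx, hxy⟩ := hdense y hy k
    rw [AdicCompletion.map_val_apply, show y.val k = Submodule.Quotient.mk x from hxy, AdicCompletion.val_zero_apply]
    change Submodule.Quotient.mk (N.mkQ x) = 0
    rw [Submodule.mkQ_apply, (Submodule.Quotient.mk_eq_zero N).mpr hx, Submodule.Quotient.mk_zero]
  have hex : Function.Exact (AdicCompletion.map I N.subtype) (AdicCompletion.map I N.mkQ) :=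
    AdicCompletion.map_exact N.injective_subtype (LinearMap.exact_subtype_mkQ N) N.mkQ_surjective
  refine ⟨le_antisymm (fun y hy => (hex y).mp (hker y hy)) ?_, fun x => ⟨hle x, fun hx => ?_⟩⟩
  · rintro y ⟨z, rfl⟩
    obtain ⟨t, rfl⟩ := (AdicCompletion.ofTensorProduct_bijective_of_finite_of_isNoetherian I N).2 z
    change _ ∈ N'
    induction t using TensorProduct.induction_on with
    | zero => rw [map_zero, map_zero]; exact zero_mem _
    | tmul a n =>
      rw [AdicCompletion.ofTensorProduct_tmul, map_smul, AdicCompletion.map_of]
      exact N'.smul_mem a (hle _ n.2)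
    | add u v hu hv => rw [map_add, map_add]; exact add_mem hu hv
  · have h0 := hker _ hx
    rw [AdicCompletion.map_of] at h0
    haveI : IsHausdorff I (M ⧸ N) := IsHausdorff.of_isLocalRing I (M ⧸ N) (Ideal.IsPrime.ne_top inferInstance)
    rw [← Submodule.Quotient.mk_eq_zero, ← Submodule.mkQ_apply]
    exact AdicCompletion.of_injective I (M ⧸ N) (by rw [h0, map_zero])

end Groth.Agent.S19269
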