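import Groth.Statements.S19333
import Mathlib

set_option autoImplicit false
universe u
open ModPair

namespace Groth.Agent.S19333

/-- Let A → B be any homomorphism of commutative rings. An element x of B is integral over A if and only
if for every field K, every valuation subring R of K and every ring homomorphism φ : B → K which
sends the image of A into R, the element φ(x) lies in R. In other words the integral closure of A in
B is the intersection of the subrings R ×_K B taken over all commutative squares A → R ⊆ K ← B with
R a valuation ring of the field K. -/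
theorem result {A B : Type u} [CommRing A]
    [CommRing B] [Algebra A B] (x : B) :
    x ∈ integralClosure A B ↔
      ∀ (K : Type u) [Field K] (R : ValuationSubring K) (φ : B →+* K),
        (∀ a : A, φ (algebraMap A B a) ∈ R) → φ x ∈ R := by
  constructor
  · intro hx K _ R φ hφ
    obtain ⟨P, hP, hP0⟩ := hx
    let ψ : A →+* R := (φ.comp (algebraMap A B)).codRestrict R hφ
    have : IsIntegral R (φ x) := by
      refine ⟨P.map ψ, hP.map ψ, ?_⟩
      rw [Polynomial.eval₂_map]
      have : (algebraMap R K).comp ψ = φ.comp (algebraMap A B) := RingHom.ext fun a => rfl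
      rw [this, ← Polynomial.hom_eval₂, hP0, map_zero]
    obtain ⟨y, hy⟩ := IsIntegrallyClosed.isIntegral_iff.mp this
    exact hy ▸ y.2
  · intro h
    by_contra hx
    let S : Submonoid B :=
      { carrier := {b | ∃ P : Polynomial A, P.Monic ∧ Polynomial.aeval x P = b}
        one_mem' := ⟨1, Polynomial.monic_one, map_one _⟩
        mul_mem' := by
          rintro a b ⟨P, hP, rfl⟩ ⟨Q, hQ, rfl⟩
          exact ⟨P * Q, hP.mul hQ, map_mul _ _ _⟩ }
    obtain ⟨p, hp, -, hdisj⟩ := Ideal.exists_le_prime_disjoint (⊥ : Ideal B) S (by
      rw [Set.disjoint_left]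
      rintro b hb ⟨P, hP, rfl⟩
      exact hx ⟨P, hP, hb⟩)
    let K := FractionRing (B ⧸ p)
    let φ : B →+* K := (algebraMap (B ⧸ p) K).comp (Ideal.Quotient.mk p)
    let s : Set K := Set.range (φ.comp (algebraMap A B))
    have hmem : φ x ∈ (⨅ V : {V : ValuationSubring K // s ⊆ V.toSubring}, V.1.toSubring) := by
      rw [Subring.mem_iInf]
      exact fun V => h K V.1 φ fun a => V.2 ⟨a, rfl⟩
    rw [iInf_valuationSubring_superset] at hmem
    obtain ⟨P, hP, hP0⟩ := hmem
    have hs : Subring.closure s = (φ.comp (algebraMap A B)).range :=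
      (congrArg Subring.closure (RingHom.coe_range _).symm).trans (Subring.closure_eq _)
    let χ : A →+* Subring.closure s := (φ.comp (algebraMap A B)).codRestrict _ fun a => Subring.subset_closure ⟨a, rfl⟩
    have hχ : Function.Surjective χ := fun ⟨y, hy⟩ => by
      rw [hs] at hy
      obtain ⟨a, rfl⟩ := hy
      exact ⟨a, rfl⟩
    obtain ⟨Q, hQ, -, hQm⟩ := Polynomial.lifts_and_degree_eq_and_monic ((Polynomial.mem_lifts _).mpr (Polynomial.map_surjective χ hχ P)) hP
    have h0 : φ (Polynomial.aeval x Q) = 0 := by
      rw [Polynomial.aeval_def, Polynomial.hom_eval₂]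
      rw [← hQ, Polynomial.eval₂_map] at hP0
      exact hP0
    have : Polynomial.aeval x Q ∈ p := Ideal.Quotient.eq_zero_iff_mem.mp
      ((map_eq_zero_iff _ (IsFractionRing.injective (B ⧸ p) K)).mp h0)
    exact Set.disjoint_left.mp hdisj this ⟨Q, hQm, rfl⟩

end Groth.Agent.S19333
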