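import Groth.Statements.S19338
import Mathlib

set_option autoImplicit false
universe w v u
open CategoryTheory
open ModPair

namespace Groth.Agent.S19338

/-- Let C be a category and S a class of morphisms which contains the identities, is closed under
composition, admits a right calculus of fractions, and consists of monomorphisms. Then the sieves
containing a morphism of S are the covering sieves of a Grothendieck topology on C, and for every
such topology J a presheaf of types F on C is a J-sheaf if and only if it is S-local, i.e. F sends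
every morphism of S to a bijection. -/
theorem result {C : Type u} [Category.{v} C]
    (S : MorphismProperty C) [S.HasRightCalculusOfFractions]
    (hmono : ∀ ⦃X Y : C⦄ (s : X ⟶ Y), S s → Mono s) :
    (∃ J : GrothendieckTopology C, ∀ (X : C) (T : Sieve X),
        T ∈ J X ↔ ∃ (Y : C) (s : Y ⟶ X), S s ∧ T s) ∧
      ∀ J : GrothendieckTopology C, (∀ (X : C) (T : Sieve X),
          T ∈ J X ↔ ∃ (Y : C) (s : Y ⟶ X), S s ∧ T s) →
        ∀ F : Cᵒᵖ ⥤ Type w,
          Presheaf.IsSheaf J F ↔ ∀ ⦃X Y : C⦄ (s : X ⟶ Y), S s → IsIso (F.map s.op) := by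
  classical
  have hore : ∀ {X Y X' : C} (s : Y ⟶ X) (f : X' ⟶ X), S s → ∃ (W : C) (s' : W ⟶ X') (g : W ⟶ Y), S s' ∧ g ≫ s = s' ≫ f := by
    intro X Y X' s f hs
    obtain ⟨ψ, hψ⟩ := MorphismProperty.HasRightCalculusOfFractions.exists_rightFraction
      ({ Y' := X, f := f, s := s, hs := hs } : S.LeftFraction X' Y)
    exact ⟨ψ.X', ψ.s, ψ.f, ψ.hs, hψ.symm⟩
  refine ⟨⟨{ sieves := fun X T => ∃ (Y : C) (s : Y ⟶ X), S s ∧ T s
             top_mem' := fun X => ⟨X, 𝟙 X, MorphismProperty.id_mem _ _, trivial⟩
             pullback_stable' := ?_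
             transitive' := ?_ }, fun X T => Iff.rfl⟩, fun J hJ F => ?_⟩
  · intro X Y T f hT
    obtain ⟨Z, s, hs, hTs⟩ := hT
    obtain ⟨W, s', g, hs', hg⟩ := hore s f hs
    exact ⟨W, s', hs', by show T (s' ≫ f); rw [← hg]; exact T.downward_closed hTs g⟩
  · intro X T hT T' hT'
    obtain ⟨Z, s, hs, hTs⟩ := hT
    obtain ⟨W, t, ht, hT't⟩ := hT' hTs
    exact ⟨W, t ≫ s, S.comp_mem _ _ ht hs, hT't⟩
  rw [isSheaf_iff_isSheaf_of_type]
  constructor
  · intro hF Y X s hs
    haveI := hmono s hs
    rw [isIso_iff_bijective]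
    have hcov : Sieve.generate (Presieve.singleton s) ∈ J X :=
      (hJ _ _).2 ⟨Y, s, hs, Sieve.le_generate (Presieve.singleton s) _ _ (Presieve.singleton_self s)⟩
    have hsh := (Presieve.isSheafFor_iff_generate _).2 (hF _ hcov)
    constructor
    · intro a b hab
      refine hsh.isSeparatedFor.ext fun Z f hf => ?_
      cases hf
      exact hab
    · intro y
      let x : Presieve.FamilyOfElements F (Presieve.singleton s) := fun Z f hf =>
        F.map (eqToHom (by cases hf; rfl) : Z ⟶ Y).op y
      have hx : x.Compatible := by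
        intro Z₁ Z₂ W g₁ g₂ f₁ f₂ h₁ h₂ heq
        cases h₁
        cases h₂
        rw [cancel_mono] at heq
        subst heq
        rfl
      obtain ⟨a, ha, -⟩ := hsh x hx
      refine ⟨a, (ha s (Presieve.singleton_self s)).trans ?_⟩
      simp [x]
  · intro hF X T hT x hx
    obtain ⟨Y, s, hs, hTs⟩ := (hJ _ _).1 hT
    haveI := hF s hs
    have hbij := (isIso_iff_bijective (F.map s.op)).1 inferInstance
    obtain ⟨a, ha⟩ := hbij.2 (x s hTs)
    refine ⟨a, fun Z f hf => ?_, fun b hb => hbij.1 ((hb s hTs).trans ha.symm)⟩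
    obtain ⟨W, s', g, hs', hg⟩ := hore s f hs
    haveI := hF s' hs'
    refine ((isIso_iff_bijective (F.map s'.op)).1 inferInstance).1 ?_
    have h1 := hx g s' hTs hf hg
    rw [← ha] at h1
    refine Eq.trans ?_ h1
    have h2 := congrArg (fun q => q a) (F.map_comp f.op s'.op)
    have h3 := congrArg (fun q => q a) (F.map_comp s.op g.op)
    simp only [← op_comp, hg] at h2 h3
    exact h2.symm.trans h3

end Groth.Agent.S19338
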