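import Groth.Statements.S19340
import Mathlib.CategoryTheory.MorphismProperty.Composition

set_option autoImplicit false
universe v v' u u'
open CategoryTheory
open ModPair

namespace Groth.Agent.S19340

/-- Let C be a category, S a class of morphisms of C containing the identities, closed under composition
and admitting a right calculus of fractions, and L : C ⥤ D a localization functor for S. Then for
every object X of C the comma category of L under X, whose objects are pairs (Y, L(X) ⟶ L(Y)) and
whose morphisms are morphisms Y ⟶ Y' of C compatible with the structure maps, is cofiltered. The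
published statement calls this category filtered; its proof verifies, and this row states,
cofilteredness. -/
theorem result {C : Type u}
    [Category.{v} C] {D : Type u'} [Category.{v'} D] (S : MorphismProperty C)
    [S.HasRightCalculusOfFractions] (L : C ⥤ D) [L.IsLocalization S] (X : C) :
    IsCofiltered (StructuredArrow (L.obj X) L) := by
  haveI := fun {A B : C} (t : A ⟶ B) (ht : S t) => Localization.inverts L S t ht
  have hrf : ∀ (Y : StructuredArrow (L.obj X) L), ∃ (Z : C) (s : Z ⟶ X) (_ : S s) (f : Z ⟶ Y.right),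
      L.map s ≫ Y.hom = L.map f := fun Y => by
    obtain ⟨φ, hφ⟩ := Localization.exists_rightFraction L S Y.hom
    exact ⟨φ.X', φ.s, φ.hs, φ.f, by rw [hφ]; exact φ.map_s_comp_map L (Localization.inverts L S)⟩
  let mkT : ∀ {Z : C} (t : Z ⟶ X), S t → StructuredArrow (L.obj X) L := fun {Z} t ht =>
    StructuredArrow.mk (Y := Z) (haveI := Localization.inverts L S t ht; inv (L.map t))
  haveI : IsCofilteredOrEmpty (StructuredArrow (L.obj X) L) :=
    { cone_objs := fun A B => by
        obtain ⟨Z₁, s₁, hs₁, f₁, e₁⟩ := hrf A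
        obtain ⟨Z₂, s₂, hs₂, f₂, e₂⟩ := hrf B
        obtain ⟨ψ, hψ⟩ := MorphismProperty.HasRightCalculusOfFractions.exists_rightFraction
          ({ Y' := X, f := s₂, s := s₁, hs := hs₁ } : S.LeftFraction Z₂ Z₁)
        have ht : S (ψ.s ≫ s₂) := S.comp_mem _ _ ψ.hs hs₂
        haveI := Localization.inverts L S _ ht
        refine ⟨mkT (ψ.s ≫ s₂) ht, StructuredArrow.homMk (ψ.f ≫ f₁) ?_, StructuredArrow.homMk (ψ.s ≫ f₂) ?_, trivial⟩
        · show inv (L.map (ψ.s ≫ s₂)) ≫ L.map (ψ.f ≫ f₁) = A.hom
          rw [IsIso.inv_comp_eq, show ψ.s ≫ s₂ = ψ.f ≫ s₁ from hψ, L.map_comp, L.map_comp, Category.assoc, e₁]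
        · show inv (L.map (ψ.s ≫ s₂)) ≫ L.map (ψ.s ≫ f₂) = B.hom
          rw [IsIso.inv_comp_eq, L.map_comp, L.map_comp, Category.assoc, e₂]
      cone_maps := fun A B f g => by
        obtain ⟨Z₀, s, hs, h, e⟩ := hrf A
        have heq : L.map (h ≫ f.right) = L.map (h ≫ g.right) := by
          rw [L.map_comp, L.map_comp, ← e, Category.assoc, Category.assoc, StructuredArrow.w f, StructuredArrow.w g]
        obtain ⟨Z, t, ht, htt⟩ := (MorphismProperty.map_eq_iff_precomp L S _ _).1 heq
        have hts : S (t ≫ s) := S.comp_mem _ _ ht hs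
        haveI := Localization.inverts L S _ hts
        refine ⟨mkT (t ≫ s) hts, StructuredArrow.homMk (t ≫ h) ?_, ?_⟩
        · show inv (L.map (t ≫ s)) ≫ L.map (t ≫ h) = A.hom
          rw [IsIso.inv_comp_eq, L.map_comp, L.map_comp, Category.assoc, e]
        · ext
          show (t ≫ h) ≫ f.right = (t ≫ h) ≫ g.right
          rw [Category.assoc, Category.assoc, htt] }
  haveI : Nonempty (StructuredArrow (L.obj X) L) := ⟨StructuredArrow.mk (Y := X) (𝟙 _)⟩
  exact ⟨⟩

end Groth.Agent.S19340
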