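import Groth.Statements.S19348
-- import your own Groth.Agent.* helpers here

set_option autoImplicit false
universe u
open RigCh

namespace Groth.Agent.S19348

/-- Let p be a prime and m a natural number, P a commutative ring complete and separated for the p-adic
topology, and I an ideal of P with a divided power structure of level m, that is a sub-ideal J of I
endowed with divided powers such that x ^ (p ^ m) and p * x lie in J for all x in I. Then an element
of P whose class in P / I is invertible is invertible in P. (The source states this for a lift of a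
unit to the p-adically completed level-m divided power envelope of a closed immersion; the statement
here keeps exactly what its argument uses: completeness for p and the level-m divided powers on the
kernel.) -/
theorem result (p : ℕ) [Fact p.Prime] (m : ℕ)
    (P : Type u) [CommRing P] [IsAdicComplete (Ideal.span {(p : P)}) P]
    (I J : Ideal P) (hJ : DividedPowers J) (hJI : J ≤ I)
    (hpow : ∀ x ∈ I, x ^ (p ^ m) ∈ J) (hmul : ∀ x ∈ I, (p : P) * x ∈ J)
    (u : P) (hu : IsUnit (Ideal.Quotient.mk I u)) : IsUnit u := by
  obtain ⟨b, hb⟩ := hu.exists_right_inv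
  obtain ⟨v, rfl⟩ := Ideal.Quotient.mk_surjective b
  rw [← map_mul, ← map_one (Ideal.Quotient.mk I), Ideal.Quotient.eq] at hb
  have hp : Ideal.span {(p : P)} ≤ Ideal.jacobson ⊥ := IsAdicComplete.le_jacobson_bot _
  have hy := hpow _ hb
  have hdvd : (p : P) ∣ ((u * v - 1) ^ (p ^ m)) ^ p := by
    rw [← hJ.factorial_mul_dpow_eq_pow (n := p) hy]
    exact Dvd.dvd.mul_right (Nat.cast_dvd_cast (Nat.dvd_factorial (Fact.out : p.Prime).pos le_rfl)) _
  have hx : u * v - 1 ∈ Ideal.jacobson (⊥ : Ideal P) := by
    have h1 : ((u * v - 1) ^ (p ^ m)) ^ p ∈ Ideal.jacobson (⊥ : Ideal P) :=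
      hp (Ideal.mem_span_singleton.mpr hdvd)
    rw [← pow_mul] at h1
    have h2 : (Ideal.jacobson (⊥ : Ideal P)).IsRadical := by
      exact Ideal.isRadical_jacobson ⊥
    exact h2 ⟨_, h1⟩
  have := Ideal.mem_jacobson_bot.mp hx 1
  simp at this
  exact this.1

end Groth.Agent.S19348
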