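import Groth.Statements.S1937
import Groth.Agent.ModStalk.SectionConormal
import Groth.Agent.ModStalk.PullbackQCoh
import Mathlib.AlgebraicGeometry.Modules.Tilde

set_option autoImplicit false
universe u v
open CategoryTheory MonoidalCategory CartesianMonoidalCategory MonObj GrpObj AlgebraicGeometry
open GrpSch

namespace Groth.Agent.S1937

open CategoryTheory.Limits

open scoped MonObj in
theorem exists_isPullback_div (S : Scheme.{u}) (G : Over S) [GrpObj G] :
    ∃ d : pullback G.hom G.hom ⟶ G.left, IsPullback d (pullback.fst G.hom G.hom) G.hom G.hom ∧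
      pullback.diagonal G.hom ≫ d = G.hom ≫ η[G].left := by
  let P : Over S := Over.mk (pullback.fst G.hom G.hom ≫ G.hom)
  let a : P ⟶ G := Over.homMk (pullback.fst G.hom G.hom) rfl
  let b : P ⟶ G := Over.homMk (pullback.snd G.hom G.hom) pullback.condition.symm
  let d : P ⟶ G := a⁻¹ * b
  have hd : d.left ≫ G.hom = pullback.fst G.hom G.hom ≫ G.hom := Over.w d
  let Q : Over S := Over.mk (pullback.snd G.hom G.hom ≫ G.hom)
  let r : Q ⟶ G := Over.homMk (pullback.fst G.hom G.hom) pullback.condition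
  let x : Q ⟶ G := Over.homMk (pullback.snd G.hom G.hom) rfl
  let φ : P ⟶ Q := Over.homMk (pullback.lift d.left (pullback.fst G.hom G.hom) hd) (by
    show _ ≫ pullback.snd _ _ ≫ G.hom = _
    rw [← Category.assoc, pullback.lift_snd]
    rfl)
  have hxr : x.left ≫ G.hom = (x * r).left ≫ G.hom := (Over.w x).trans (Over.w (x * r)).symm
  let ψ : Q ⟶ P := Over.homMk (pullback.lift x.left (x * r).left hxr) (by
    show _ ≫ pullback.fst _ _ ≫ G.hom = _
    rw [← Category.assoc, pullback.lift_fst]
    rfl)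
  have h1 : φ ≫ x = a := Over.OverMorphism.ext (pullback.lift_snd _ _ _)
  have h2 : φ ≫ r = d := Over.OverMorphism.ext (pullback.lift_fst _ _ _)
  have h3 : ψ ≫ a = x := Over.OverMorphism.ext (pullback.lift_fst _ _ _)
  have h4 : ψ ≫ b = x * r := Over.OverMorphism.ext (pullback.lift_snd _ _ _)
  have h5 : φ ≫ (x * r) = b := by rw [MonObj.comp_mul, h1, h2, mul_inv_cancel_left]
  have h6 : ψ ≫ d = r := by
    rw [MonObj.comp_mul, GrpObj.comp_inv, h3, h4, inv_mul_cancel_left]
  have h7 : φ.left ≫ ψ.left = 𝟙 _ := by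
    apply pullback.hom_ext
    · rw [Category.assoc, Category.id_comp]
      exact (congrArg (φ.left ≫ ·) (pullback.lift_fst _ _ _)).trans (congrArg CommaMorphism.left h1)
    · rw [Category.assoc, Category.id_comp]
      exact (congrArg (φ.left ≫ ·) (pullback.lift_snd _ _ _)).trans (congrArg CommaMorphism.left h5)
  have h8 : ψ.left ≫ φ.left = 𝟙 _ := by
    apply pullback.hom_ext
    · rw [Category.assoc, Category.id_comp]
      exact (congrArg (ψ.left ≫ ·) (pullback.lift_fst _ _ _)).trans (congrArg CommaMorphism.left h6)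
    · rw [Category.assoc, Category.id_comp]
      exact (congrArg (ψ.left ≫ ·) (pullback.lift_snd _ _ _)).trans (congrArg CommaMorphism.left h3)
  refine ⟨d.left, IsPullback.of_iso_pullback ⟨hd⟩ ⟨φ.left, ψ.left, h7, h8⟩ (pullback.lift_fst _ _ _)
    (pullback.lift_snd _ _ _), ?_⟩
  let δ : G ⟶ P := Over.homMk (pullback.diagonal G.hom) (by
    show _ ≫ pullback.fst _ _ ≫ G.hom = _
    rw [← Category.assoc, pullback.diagonal_fst, Category.id_comp])
  have h9 : δ ≫ a = 𝟙 G := Over.OverMorphism.ext (pullback.diagonal_fst _)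
  have h10 : δ ≫ b = 𝟙 G := Over.OverMorphism.ext (pullback.diagonal_snd _)
  have h11 : δ ≫ d = SemiCartesianMonoidalCategory.toUnit G ≫ η[G] := by
    rw [MonObj.comp_mul, GrpObj.comp_inv, h9, h10, inv_mul_cancel]
    rfl
  refine (congrArg CommaMorphism.left h11).trans (congrArg (· ≫ η[G].left) ?_)
  exact (Category.comp_id _).symm.trans (Over.w (SemiCartesianMonoidalCategory.toUnit G))

theorem nonempty_iso_free (K : Type u) [Field K] (N : (Spec (CommRingCat.of K)).Modules)
    [N.IsQuasicoherent] : ∃ I : Type u, Nonempty (N ≅ SheafOfModules.free.{u} I) := by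
  let Γ : ModuleCat (CommRingCat.of K) := (modulesSpecToSheaf.obj N).presheaf.obj (Opposite.op ⊤)
  let _ : Module K Γ := Γ.isModule
  let B := Module.Free.chooseBasis K Γ
  let e : Γ ≅ ModuleCat.of (CommRingCat.of K) (Module.Free.ChooseBasisIndex K Γ →₀ K) :=
    B.repr.toModuleIso
  let e' : tilde Γ ≅ tilde (ModuleCat.of (CommRingCat.of K) (Module.Free.ChooseBasisIndex K Γ →₀ K)) :=
    (tilde.functor (CommRingCat.of K)).mapIso e
  have hiso : IsIso (Scheme.Modules.fromTildeΓ (R := CommRingCat.of K) N) := (isQuasicoherent_iff_isIso_fromTildeΓ N).mp ‹_›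
  let ε := @asIso _ _ _ _ (Scheme.Modules.fromTildeΓ (R := CommRingCat.of K) N) hiso
  exact ⟨Module.Free.ChooseBasisIndex K Γ, ⟨ε.symm ≪≫ e' ≪≫
    tildeFinsupp (R := CommRingCat.of K) _⟩⟩

/-- Let G be a group scheme over S with structure morphism f and unit section e : S → G. Then Ω_{G/S} ≅
f^* C_{S/G}, the pullback of the conormal sheaf of the immersion e; and when S is the spectrum of a
field, Ω_{G/S} is a free O_G-module (a coproduct of copies of O_G). Stated for G → S
quasi-separated, where the shared prelude's Ω (conormal sheaf of the diagonal through Mathlib's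
kernel ideal sheaf) and conormal sheaf of e are the usual ones. -/
theorem result (S : Scheme.{u}) (G : Over S) [GrpObj G] [QuasiSeparated G.hom] : Nonempty (Omega.sheaf G.hom ≅ (Scheme.Modules.pullback G.hom).obj (Omega.conormal η[G].left)) ∧ ∀ (K : Type u) [Field K], Nonempty (S ≅ Spec (CommRingCat.of K)) → ∃ I : Type u, Nonempty (Omega.sheaf G.hom ≅ ∐ fun _ : I => Coh.structureModule G.left) := by
  have hη : η[G].left ≫ G.hom = 𝟙 S := Over.w η[G]
  have hqc : QuasiCompact η[G].left := by
    have : QuasiCompact (η[G].left ≫ G.hom) := by rw [hη]; exact inferInstanceAs (QuasiCompact (𝟙 S))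
    exact QuasiCompact.of_comp η[G].left G.hom
  obtain ⟨d, hsq, heq⟩ := exists_isPullback_div S G
  obtain ⟨ψ⟩ := Groth.Agent.ModStalk.nonempty_conormal_iso_of_isPullback η[G].left (pullback.diagonal G.hom) G.hom d
    G.hom (pullback.fst G.hom G.hom) hη hsq (pullback.diagonal_fst _) heq
  refine ⟨⟨ψ.symm⟩, fun K _ ⟨φ⟩ => ?_⟩
  let C := Omega.conormal η[G].left
  have : (ClSub.idealMod η[G].left.ker).IsQuasicoherent := Groth.Agent.ModStalk.isQuasicoherent_idealMod _
  have : C.IsQuasicoherent := Groth.Agent.ModStalk.isQuasicoherent_pullback η[G].left _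
  let N := (Scheme.Modules.pullback φ.inv).obj C
  have : N.IsQuasicoherent := Groth.Agent.ModStalk.isQuasicoherent_pullback φ.inv C
  obtain ⟨I, ⟨w⟩⟩ := nonempty_iso_free K N
  let F := Scheme.Modules.pullback (G.hom ≫ φ.hom)
  haveI : PreservesColimitsOfSize.{u, u} F :=
    (Scheme.Modules.pullbackPushforwardAdjunction (G.hom ≫ φ.hom)).leftAdjoint_preservesColimits
  refine ⟨I, ⟨ψ.symm ≪≫ (Scheme.Modules.pullbackCongr (show G.hom = (G.hom ≫ φ.hom) ≫ φ.inv by
      rw [Category.assoc, φ.hom_inv_id, Category.comp_id])).app C ≪≫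
    ((Scheme.Modules.pullbackComp (G.hom ≫ φ.hom) φ.inv).app C).symm ≪≫ F.mapIso w ≪≫
    PreservesCoproduct.iso F _ ≪≫ Sigma.mapIso (fun _ => Groth.Agent.ModStalk.pullbackUnitIso (G.hom ≫ φ.hom))⟩⟩

end Groth.Agent.S1937
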