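import Groth.Statements.S1938
import Groth.Agent.ModStalk.SectionConormal

set_option autoImplicit false
universe u
open CategoryTheory CategoryTheory.Limits AlgebraicGeometry
open Grpd

namespace Groth.Agent.S1938

theorem isPullback_div {S : Scheme.{u}} (G : Grpd.GroupoidScheme S) :
    IsPullback
      (pullback.lift (f := G.s) (g := G.t) (pullback.fst G.t G.t ≫ G.i) (pullback.snd G.t G.t)
        (by rw [Category.assoc, G.i_s, pullback.condition]) ≫ G.c)
      (pullback.fst G.t G.t) G.t G.s := by
  let a := pullback.fst G.t G.t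
  let b := pullback.snd G.t G.t
  let d : pullback G.t G.t ⟶ G.R := pullback.lift (f := G.s) (g := G.t) (a ≫ G.i) b
    (by rw [Category.assoc, G.i_s]; exact pullback.condition) ≫ G.c
  show IsPullback d a G.t G.s
  have hd : d ≫ G.t = a ≫ G.s := by
    rw [G.comp_t, Category.assoc, G.i_t]
  let r := pullback.fst G.t G.s
  let x := pullback.snd G.t G.s
  have hxr : x ≫ G.s = r ≫ G.t := pullback.condition.symm
  let inv : pullback G.t G.s ⟶ pullback G.t G.t := pullback.lift x (pullback.lift x r hxr ≫ G.c)
    (G.comp_t x r hxr).symm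
  let φ : pullback G.t G.t ⟶ pullback G.t G.s := pullback.lift d a hd
  have key : ∀ {T : Scheme.{u}} (α β γ : T ⟶ G.R) (h₁ : α ≫ G.s = β ≫ G.t) (h₂ : β ≫ G.s = γ ≫ G.t)
      (αβ βγ : T ⟶ G.R) (e₁ : pullback.lift α β h₁ ≫ G.c = αβ) (e₂ : pullback.lift β γ h₂ ≫ G.c = βγ)
      (h₃ : αβ ≫ G.s = γ ≫ G.t) (h₄ : α ≫ G.s = βγ ≫ G.t),
      pullback.lift αβ γ h₃ ≫ G.c = pullback.lift α βγ h₄ ≫ G.c := by
    intro T α β γ h₁ h₂ αβ βγ e₁ e₂ h₃ h₄
    subst e₁ e₂
    exact G.assoc α β γ h₁ h₂
  have lcongr : ∀ {T : Scheme.{u}} (α α' β β' : T ⟶ G.R) (h : α ≫ G.s = β ≫ G.t) (h' : α' ≫ G.s = β' ≫ G.t),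
      α = α' → β = β' → pullback.lift α β h ≫ G.c = pullback.lift α' β' h' ≫ G.c := by
    intro T α α' β β' h h' e₁ e₂
    subst e₁ e₂
    rfl
  have hab : a ≫ G.t = b ≫ G.t := pullback.condition
  have inv_φ : inv ≫ φ = 𝟙 _ := by
    apply pullback.hom_ext
    · rw [Category.assoc, pullback.lift_fst, Category.id_comp, ← Category.assoc inv]
      have h0 : inv ≫ a = x := pullback.lift_fst _ _ _
      have h1 : inv ≫ b = pullback.lift x r hxr ≫ G.c := pullback.lift_snd _ _ _
      have h2 : inv ≫ pullback.lift (f := G.s) (g := G.t) (a ≫ G.i) b (by rw [Category.assoc, G.i_s]; exact hab) ≫ G.c =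
          pullback.lift (x ≫ G.i) (pullback.lift x r hxr ≫ G.c)
            (by rw [Category.assoc, G.i_s, G.comp_t]) ≫ G.c := by
        rw [← Category.assoc]
        congr 1
        apply pullback.hom_ext
        · simp only [Category.assoc, pullback.lift_fst]
          rw [← Category.assoc, h0]
        · simp only [Category.assoc, pullback.lift_snd]
          exact h1
      rw [Category.assoc]
      refine h2.trans ?_
      rw [← key (x ≫ G.i) x r (by rw [Category.assoc, G.i_s]) hxr (x ≫ G.s ≫ G.e) _ (G.i_comp x) rfl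
        (by rw [Category.assoc, Category.assoc, G.e_s, Category.comp_id, hxr])]
      refine (lcongr _ (r ≫ G.t ≫ G.e) _ r _ (by rw [Category.assoc, Category.assoc, G.e_s, Category.comp_id])
        (by rw [← Category.assoc, hxr, Category.assoc]) rfl).trans (G.e_comp r)
    · rw [Category.assoc, pullback.lift_snd, Category.id_comp]
      exact pullback.lift_fst _ _ _
  have φ_inv : φ ≫ inv = 𝟙 _ := by
    apply pullback.hom_ext
    · rw [Category.assoc, pullback.lift_fst, Category.id_comp]
      exact pullback.lift_snd _ _ _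
    · rw [Category.assoc, pullback.lift_snd, Category.id_comp, ← Category.assoc]
      have h0 : φ ≫ x = a := pullback.lift_snd _ _ _
      have h1 : φ ≫ r = d := pullback.lift_fst _ _ _
      have h2 : φ ≫ pullback.lift x r hxr = pullback.lift a d hd.symm := by
        apply pullback.hom_ext
        · rw [Category.assoc, pullback.lift_fst, pullback.lift_fst, h0]
        · rw [Category.assoc, pullback.lift_snd, pullback.lift_snd, h1]
      rw [h2, ← key a (a ≫ G.i) b (by rw [Category.assoc, G.i_t]) (by rw [Category.assoc, G.i_s, hab]) (a ≫ G.t ≫ G.e) d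
        (G.comp_i a) rfl (by rw [Category.assoc, Category.assoc, G.e_s, Category.comp_id, hab])]
      exact (lcongr _ (b ≫ G.t ≫ G.e) _ b _ (by rw [Category.assoc, Category.assoc, G.e_s, Category.comp_id])
        (by rw [← Category.assoc, hab, Category.assoc]) rfl).trans (G.e_comp b)
  exact IsPullback.of_iso_pullback ⟨hd⟩ ⟨φ, inv, φ_inv, inv_φ⟩ (pullback.lift_fst _ _ _) (pullback.lift_snd _ _ _)

/-- Let (U, R, s, t, c) be a groupoid scheme over S, e : U → R its identity and C_{U/R} the conormal
sheaf of the immersion e. View R as a scheme over U via t. Then there is an epimorphism of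
O_R-modules s^*C_{U/R} → Ω_{R/U}, and if s is flat there is an isomorphism s^*C_{U/R} ≅ Ω_{R/U}.
(The published statement has t^*C_{U/R} here; with R over U via t that version is false — for the
pair groupoid of the disjoint union of a point and the affine line over ℚ the two sheaves have
different supports — and the statement given here has s^*C_{U/R} instead.) Stated for t
quasi-separated, where the shared prelude's Ω_{R/U} (conormal sheaf of the diagonal of t through
Mathlib's kernel ideal sheaf) and conormal sheaf of the section e are the usual ones. (A groupoid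
scheme carries U, R, s, t, c, e, i over S with the groupoid axioms on T-points.) -/
theorem result (S : Scheme.{u}) (G : Grpd.GroupoidScheme S) [QuasiSeparated G.t] : (∃ φ : (Scheme.Modules.pullback G.s).obj (Omega.conormal G.e) ⟶ Omega.sheaf G.t, Epi φ) ∧ (Flat G.s → Nonempty ((Scheme.Modules.pullback G.s).obj (Omega.conormal G.e) ≅ Omega.sheaf G.t)) := by
  have hqc : QuasiCompact G.e := by
    have : QuasiCompact (G.e ≫ G.t) := by rw [G.e_t]; infer_instance
    exact QuasiCompact.of_comp G.e G.t
  have hΔ : pullback.diagonal G.t ≫ pullback.fst G.t G.t = 𝟙 G.R := pullback.diagonal_fst _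
  have heq : pullback.diagonal G.t ≫
      (pullback.lift (f := G.s) (g := G.t) (pullback.fst G.t G.t ≫ G.i) (pullback.snd G.t G.t)
        (by rw [Category.assoc, G.i_s, pullback.condition]) ≫ G.c) = G.s ≫ G.e := by
    rw [← Category.assoc]
    refine Eq.trans ?_ ((G.i_comp (𝟙 _)).trans (Category.id_comp _))
    congr 1
    apply pullback.hom_ext
    · rw [Category.assoc]
      erw [pullback.lift_fst, pullback.lift_fst]
      rw [← Category.assoc, hΔ]
    · rw [Category.assoc]
      erw [pullback.lift_snd, pullback.diagonal_snd G.t]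
      exact (pullback.lift_snd _ _ _).symm
  obtain ⟨φ⟩ := Groth.Agent.ModStalk.nonempty_conormal_iso_of_isPullback G.e (pullback.diagonal G.t) G.s _ G.t
    (pullback.fst G.t G.t) G.e_t (isPullback_div G) hΔ heq
  exact ⟨⟨φ.hom, inferInstance⟩, fun _ => ⟨φ⟩⟩

end Groth.Agent.S1938
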