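import Groth.Statements.S19380
import Mathlib.LinearAlgebra.Matrix.Charpoly.Coeff
import Mathlib.LinearAlgebra.Matrix.SchurComplement

set_option autoImplicit false
universe u
open CAlg

namespace Groth.Agent.S19380

open Polynomial in
theorem charpolyRev_mul_comm {L : Type u} [CommRing L] {r : ℕ} (A B : Matrix (Fin r) (Fin r) L) :
    Matrix.charpolyRev (A * B) = Matrix.charpolyRev (B * A) := by
  rw [Matrix.charpolyRev, Matrix.charpolyRev, Matrix.map_mul, Matrix.map_mul, ← smul_mul_assoc,
    Matrix.det_one_sub_mul_comm, mul_smul_comm]


/-- Let L be a commutative ring, σ a ring automorphism of L of finite order dividing d (σ^d = 1), and C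
an r × r matrix over L. The reverse characteristic polynomial det(1 − T·N) of the twisted product N
= C·σ(C)·σ²(C)⋯σ^(d−1)(C), with σ applied to the entries, is fixed by σ acting on coefficients. (In
the source this is phrased for the fibre at a closed point x of degree d of a convergent F-module
with Frobenius matrix C: the d-th iterate of the semilinear Frobenius of the fibre is the linear map
with matrix N, so its characteristic polynomial has coefficients in the subfield fixed by the
Frobenius of K(x), namely K, and likewise with the valuation ring in place of K for an integral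
F-module; only this linear-algebra statement, over any commutative ring, is given here.) -/
theorem result
    (L : Type u) [CommRing L] (σ : L ≃+* L) (d : ℕ) (hσ : σ ^ d = 1)
    (r : ℕ) (C : Matrix (Fin r) (Fin r) L) :
    (Matrix.charpolyRev (((List.range d).map fun i => C.map ⇑(σ ^ i)).prod)).map (σ : L →+* L) =
      Matrix.charpolyRev (((List.range d).map fun i => C.map ⇑(σ ^ i)).prod) := by
  have hm : ∀ M : Matrix (Fin r) (Fin r) L, (Matrix.charpolyRev M).map (σ : L →+* L) = Matrix.charpolyRev (M.map σ) := by
    intro M
    rw [Matrix.charpolyRev, Matrix.charpolyRev, ← Polynomial.coe_mapRingHom, RingHom.map_det, map_sub, map_one]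
    congr 2
    ext i j
    simp
  rw [hm]
  rcases d with _ | e
  · simp
  have hp : (((List.range (e + 1)).map fun i => C.map ⇑(σ ^ i)).prod).map σ =
      ((List.range (e + 1)).map fun i => C.map ⇑(σ ^ (i + 1))).prod := by
    change (σ : L →+* L).mapMatrix _ = _
    rw [map_list_prod, List.map_map]
    congr 1
    refine List.map_congr_left fun i _ => ?_
    ext a b
    simp [pow_succ']
  rw [hp]
  conv_lhs => rw [List.range_succ, List.map_append, List.prod_append, List.map_singleton, List.prod_singleton, hσ]
  conv_rhs => rw [List.range_succ_eq_map, List.map_cons, List.prod_cons, List.map_map, pow_zero]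
  exact charpolyRev_mul_comm _ _

end Groth.Agent.S19380
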