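import Groth.Statements.S19392
import Groth.Agent.Quartic.Basic

set_option autoImplicit false
universe u
open InvQ

namespace Groth.Agent.S19392

/-- Over a field of characteristic different from 2 and 3, a nonzero binary quartic f has P(f) = Q(f) =
0 for the two basic invariants P, Q if and only if f has a triple zero. Stated for f = ∏_i (μ_i X₀ −
λ_i X₁) given by four root points (λ_i, μ_i) ≠ (0, 0) (over an algebraically closed field every
nonzero quartic form is of this shape), with the integral invariants I = 6P and J = 72Q of the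
coefficients of f; a triple zero means that three of the four root points are pairwise proportional. -/
theorem result (k : Type u) [Field k]
    (h2 : (2 : k) ≠ 0) (h3 : (3 : k) ≠ 0) (la mu : Fin 4 → k) (hne : ∀ i, la i ≠ 0 ∨ mu i ≠ 0) :
    (W4c6intromoduli.invI (W4c6intromoduli.coef la mu) = 0 ∧
        W4c6intromoduli.invJ (W4c6intromoduli.coef la mu) = 0) ↔
      ∃ i j l : Fin 4, i ≠ j ∧ j ≠ l ∧ i ≠ l ∧
        la i * mu j = la j * mu i ∧ la j * mu l = la l * mu j := by
  rw [Groth.Agent.Quartic.Basic.invI_eq, Groth.Agent.Quartic.Basic.invJ_eq]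
  have hp := Groth.Agent.Quartic.Basic.plucker la mu
  let d := Groth.Agent.Quartic.Basic.br la mu
  have hd : ∀ i j, d i j = 0 ↔ la i * mu j = la j * mu i := fun i j => sub_eq_zero
  have hsym : ∀ i j, d i j = 0 → d j i = 0 := fun i j h => by rw [hd] at h ⊢; exact h.symm
  have htr : ∀ i j l, d i j = 0 → d j l = 0 → d i l = 0 := fun i j l a b => by
    rw [hd] at a b ⊢
    rcases hne j with hj | hj
    · exact mul_left_cancel₀ hj (by linear_combination la i * b + la l * a)
    · exact mul_left_cancel₀ hj (by linear_combination mu l * a + mu i * b)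
  constructor
  · rintro ⟨hI, hJ⟩
    have hzero : Groth.Agent.Quartic.Basic.pu la mu = 0 ∧ Groth.Agent.Quartic.Basic.pv la mu = 0 ∧
        Groth.Agent.Quartic.Basic.pw la mu = 0 := by
      set u := Groth.Agent.Quartic.Basic.pu la mu
      set v := Groth.Agent.Quartic.Basic.pv la mu
      set w := Groth.Agent.Quartic.Basic.pw la mu
      have fin : ∀ a b : k, a + a + b = 0 → -(a * a + a * b + b * a) = 0 → a = 0 ∧ b = 0 := fun a b e1 e2 => by
        have hb : b = -(2 * a) := by linear_combination e1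
        subst hb
        have : (3 : k) * (a * a) = 0 := by linear_combination e2
        have ha : a = 0 := mul_self_eq_zero.mp ((mul_eq_zero.mp this).resolve_left h3)
        exact ⟨ha, by rw [ha, mul_zero, neg_zero]⟩
      rcases mul_eq_zero.mp hJ with h | h
      · rcases mul_eq_zero.mp h with h | h
        · have e := sub_eq_zero.mp h
          obtain ⟨a, b⟩ := fin v w (by rw [e] at hp; exact hp) (by rw [e] at hI; linear_combination hI)
          exact ⟨e.trans a, a, b⟩
        · have e := sub_eq_zero.mp h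
          obtain ⟨a, b⟩ := fin w u (by rw [e] at hp; linear_combination hp) (by rw [e] at hI; linear_combination hI)
          exact ⟨b, e.trans a, a⟩
      · have e := sub_eq_zero.mp h
        obtain ⟨a, b⟩ := fin u v (by rw [e] at hp; linear_combination hp) (by rw [e] at hI; linear_combination hI)
        exact ⟨a, b, e.trans a⟩
    obtain ⟨hu, hv, hw⟩ := hzero
    have h1 : d 0 1 = 0 ∨ d 2 3 = 0 := mul_eq_zero.mp hu
    have h2' : d 0 2 = 0 ∨ d 1 3 = 0 := mul_eq_zero.mp (neg_eq_zero.mp hv)
    have h3' : d 0 3 = 0 ∨ d 1 2 = 0 := mul_eq_zero.mp hw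
    have mk : ∀ i j l : Fin 4, i ≠ j → j ≠ l → i ≠ l → d i j = 0 → d j l = 0 →
        ∃ i j l : Fin 4, i ≠ j ∧ j ≠ l ∧ i ≠ l ∧ la i * mu j = la j * mu i ∧ la j * mu l = la l * mu j :=
      fun i j l a b c e f => ⟨i, j, l, a, b, c, (hd i j).mp e, (hd j l).mp f⟩
    rcases h1 with a | a <;> rcases h2' with b | b <;> rcases h3' with c | c
    · exact mk 1 0 2 (by decide) (by decide) (by decide) (hsym _ _ a) b
    · exact mk 0 1 2 (by decide) (by decide) (by decide) a c
    · exact mk 0 1 3 (by decide) (by decide) (by decide) a b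
    · exact mk 0 1 2 (by decide) (by decide) (by decide) a c
    · exact mk 2 0 3 (by decide) (by decide) (by decide) (hsym _ _ b) c
    · exact mk 0 2 1 (by decide) (by decide) (by decide) b (hsym _ _ c)
    · exact mk 0 3 1 (by decide) (by decide) (by decide) c (hsym _ _ b)
    · exact mk 1 2 3 (by decide) (by decide) (by decide) c a
  · rintro ⟨i, j, l, hij, hjl, hil, e1, e2⟩
    have a := (hd i j).mpr e1
    have b := (hd j l).mpr e2
    have c := htr i j l a b
    have a' := hsym _ _ a
    have b' := hsym _ _ b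
    have c' := hsym _ _ c
    have key : d 0 1 * d 2 3 = 0 ∧ d 0 2 * d 1 3 = 0 ∧ d 0 3 * d 1 2 = 0 := by
      let T : Fin 4 → Prop := fun p => p = i ∨ p = j ∨ p = l
      have hall : ∀ p q, T p → T q → d p q = 0 := by
        rintro p q (rfl | rfl | rfl) (rfl | rfl | rfl) <;> first | exact (hd _ _).mpr rfl | assumption
      have c1 : (((0 = i ∨ 0 = j ∨ 0 = l) ∧ (1 = i ∨ 1 = j ∨ 1 = l)) ∨ ((2 = i ∨ 2 = j ∨ 2 = l) ∧ (3 = i ∨ 3 = j ∨ 3 = l))) := by
        omega
      have c2 : (((0 = i ∨ 0 = j ∨ 0 = l) ∧ (2 = i ∨ 2 = j ∨ 2 = l)) ∨ ((1 = i ∨ 1 = j ∨ 1 = l) ∧ (3 = i ∨ 3 = j ∨ 3 = l))) := by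
        omega
      have c3 : (((0 = i ∨ 0 = j ∨ 0 = l) ∧ (3 = i ∨ 3 = j ∨ 3 = l)) ∨ ((1 = i ∨ 1 = j ∨ 1 = l) ∧ (2 = i ∨ 2 = j ∨ 2 = l))) := by
        omega
      exact ⟨mul_eq_zero.mpr (c1.imp (fun h => hall _ _ h.1 h.2) (fun h => hall _ _ h.1 h.2)),
        mul_eq_zero.mpr (c2.imp (fun h => hall _ _ h.1 h.2) (fun h => hall _ _ h.1 h.2)),
        mul_eq_zero.mpr (c3.imp (fun h => hall _ _ h.1 h.2) (fun h => hall _ _ h.1 h.2))⟩
    have e0 : Groth.Agent.Quartic.Basic.pu la mu = 0 := key.1
    have e1' : Groth.Agent.Quartic.Basic.pv la mu = 0 := neg_eq_zero.mpr key.2.1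
    have e2' : Groth.Agent.Quartic.Basic.pw la mu = 0 := key.2.2
    rw [e0, e1', e2']
    constructor <;> ring

end Groth.Agent.S19392
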