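import Groth.Statements.S19394
import Mathlib.LinearAlgebra.Semisimple
import Mathlib.LinearAlgebra.Matrix.ToLin
import Mathlib.LinearAlgebra.Matrix.NonsingularInverse
import Mathlib.Algebra.Polynomial.Roots
import Mathlib.Algebra.MvPolynomial.Eval

set_option autoImplicit false
universe u
open InvQ

namespace Groth.Agent.S19394

/-- Over an algebraically closed field, the semisimple part of a square matrix B lies in the Zariski
closure of the orbit of B under conjugation by the general linear group. The semisimple part is
given as S with B = S + N, S semisimple, N nilpotent and SN = NS; membership in the Zariski closure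
is spelled out as: every polynomial in the n² matrix entries vanishing at all conjugates A B A⁻¹ (A
invertible) vanishes at S. -/
theorem result (k : Type u) [Field k] [IsAlgClosed k] (n : ℕ)
    (B S N : Matrix (Fin n) (Fin n) k) (hS : Module.End.IsSemisimple (Matrix.toLin' S))
    (hN : IsNilpotent N) (hSN : Commute S N) (hB : B = S + N)
    (F : MvPolynomial (Fin n × Fin n) k)
    (hF : ∀ A : Matrix (Fin n) (Fin n) k, IsUnit A.det →
      MvPolynomial.eval (fun p => (A * B * A⁻¹) p.1 p.2) F = 0) :
    MvPolynomial.eval (fun p => S p.1 p.2) F = 0 := by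
  subst hB
  obtain ⟨m, hm⟩ := hN
  replace hm : N ^ (m + 1) = 0 := by rw [pow_succ, hm, zero_mul]
  induction m generalizing N F with
  | zero =>
    have h := hF 1 (by simp)
    have : (S + N : Matrix (Fin n) (Fin n) k) = S := by
      have hN0 : N = 0 := by simpa using hm
      rw [hN0, add_zero]
    simpa [this] using h
  | succ m ih =>
    obtain ⟨q, hq, hc⟩ := (Module.End.isSemisimple_iff.mp hS) (LinearMap.ker (Matrix.toLin' N)) (by
      intro x hx
      simp only [Submodule.mem_comap, LinearMap.mem_ker, Matrix.toLin'_apply] at hx ⊢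
      rw [Matrix.mulVec_mulVec, ← hSN.eq, ← Matrix.mulVec_mulVec, hx, Matrix.mulVec_zero])
    let p := LinearMap.ker (Matrix.toLin' N)
    let e : (Fin n → k) →ₗ[k] (Fin n → k) := p.subtype.comp (p.projectionOnto q hc)
    have hep : ∀ x ∈ p, e x = x := fun x hx => by
      show ((p.projectionOnto q hc x : p) : Fin n → k) = x
      rw [Submodule.projectionOnto_apply_left hc ⟨x, hx⟩]
    have heq0 : ∀ x ∈ q, e x = 0 := fun x hx => by
      show ((p.projectionOnto q hc x : p) : Fin n → k) = 0
      rw [Submodule.projectionOnto_apply_right hc ⟨x, hx⟩]; rfl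
    let P := LinearMap.toMatrix' e
    have hP : Matrix.toLin' P = e := Matrix.toLin'_toMatrix' e
    have hPv : ∀ x, P.mulVec x = e x := fun x => by rw [← Matrix.toLin'_apply, hP]
    have hmem : ∀ x, e x ∈ p := fun x => (p.projectionOnto q hc x).2
    have hNP : N * P = 0 := by
      refine Matrix.toLin'.injective (LinearMap.ext fun x => ?_)
      rw [Matrix.toLin'_mul, LinearMap.comp_apply, hP, map_zero, LinearMap.zero_apply]
      exact hmem x
    have hSP : S * P = P * S := by
      refine Matrix.toLin'.injective (LinearMap.ext fun x => ?_)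
      rw [Matrix.toLin'_mul, Matrix.toLin'_mul, LinearMap.comp_apply, LinearMap.comp_apply, hP]
      obtain ⟨a, ha, b, hb, rfl⟩ := Submodule.mem_sup.mp (hc.sup_eq_top ▸ (Submodule.mem_top : x ∈ ⊤))
      have hSa : Matrix.toLin' S a ∈ p := by
        show Matrix.toLin' N (Matrix.toLin' S a) = 0
        have ha' : Matrix.toLin' N a = 0 := ha
        simp only [Matrix.toLin'_apply] at ha' ⊢
        rw [Matrix.mulVec_mulVec, ← hSN.eq, ← Matrix.mulVec_mulVec, ha', Matrix.mulVec_zero]
      have hSb : Matrix.toLin' S b ∈ q := hq hb
      simp only [map_add, hep a ha, heq0 b hb, hep _ hSa, heq0 _ hSb, map_zero]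
    have hPP : P * P = P := by
      refine Matrix.toLin'.injective (LinearMap.ext fun x => ?_)
      rw [Matrix.toLin'_mul, LinearMap.comp_apply, hP]
      exact hep _ (hmem x)
    set Qm := 1 - P with hQm
    have hQQ : Qm * Qm = Qm := by rw [hQm]; simp [sub_mul, mul_sub, hPP]
    have hPQ : P * Qm = 0 := by rw [hQm, mul_sub, mul_one, hPP, sub_self]
    have hQP : Qm * P = 0 := by rw [hQm, sub_mul, one_mul, hPP, sub_self]
    have hSQ : S * Qm = Qm * S := by rw [hQm, mul_sub, sub_mul, one_mul, mul_one, hSP]
    have hsum : P + Qm = 1 := by rw [hQm]; abel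
    have hN' : ∀ j : ℕ, (Qm * N) ^ (j + 1) = Qm * N ^ (j + 1) := by
      intro j
      induction j with
      | zero => simp
      | succ j ihj =>
        have hNQ : N * Qm = N := by rw [hQm, mul_sub, mul_one, hNP, sub_zero]
        rw [pow_succ, ihj, mul_assoc, ← mul_assoc (N ^ (j + 1)), pow_succ N j, mul_assoc (N ^ j) N Qm, hNQ, ← pow_succ, ← pow_succ]
    refine ih (N := Qm * N) (F := F) ?_ ?_ ?_
    · show S * (Qm * N) = (Qm * N) * S
      rw [← mul_assoc, hSQ, mul_assoc, hSN.eq, mul_assoc]
    · intro A hA
      have hcurve : ∀ t : k, t ≠ 0 → MvPolynomial.eval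
          (fun i => (A * (S + (t • (P * N) + Qm * N)) * A⁻¹) i.1 i.2) F = 0 := by
        intro t ht
        let C := t • P + Qm
        let C' := t⁻¹ • P + Qm
        have hCC : C * C' = 1 := by
          simp only [C, C', mul_add, add_mul, smul_mul_assoc, mul_smul_comm, hPP, hPQ, hQP, hQQ, smul_zero,
            add_zero, zero_add, smul_smul, inv_mul_cancel₀ ht, one_smul]
          exact hsum
        have hCinv : C⁻¹ = C' := Matrix.inv_eq_right_inv hCC
        have h := hF (A * C) (by
          rw [Matrix.det_mul]
          exact hA.mul (Matrix.isUnit_det_of_right_inverse hCC))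
        rw [Matrix.mul_inv_rev, hCinv] at h
        have e1 : C * (S + N) * C' = S + (t • (P * N) + Qm * N) := by
          have hCS : C * S = S * C := by
            show (t • P + Qm) * S = S * (t • P + Qm)
            rw [add_mul, mul_add, smul_mul_assoc, mul_smul_comm, hSP, hSQ]
          have hNQ : N * Qm = N := by rw [hQm, mul_sub, mul_one, hNP, sub_zero]
          have hNC : N * C' = N := by
            show N * (t⁻¹ • P + Qm) = N
            rw [mul_add, mul_smul_comm, hNP, smul_zero, zero_add, hNQ]
          rw [mul_add C S N, add_mul (C * S) (C * N) C', hCS, mul_assoc S C C', hCC, mul_one, mul_assoc C N C', hNC]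
          show S + (t • P + Qm) * N = _
          rw [add_mul, smul_mul_assoc]
        rw [show A * C * (S + N) * (C' * A⁻¹) = A * (C * (S + N) * C') * A⁻¹ by simp only [mul_assoc], e1] at h
        exact h
      let g : Fin n × Fin n → Polynomial k := fun i =>
        Polynomial.C ((A * (P * N) * A⁻¹) i.1 i.2) * Polynomial.X + Polynomial.C ((A * (S + Qm * N) * A⁻¹) i.1 i.2)
      have hev : ∀ t : k, Polynomial.eval t (MvPolynomial.eval₂ Polynomial.C g F) =
          MvPolynomial.eval (fun i => (A * (S + (t • (P * N) + Qm * N)) * A⁻¹) i.1 i.2) F := by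
        intro t
        rw [← Polynomial.coe_evalRingHom, MvPolynomial.eval₂_comp_left, MvPolynomial.eval, MvPolynomial.coe_eval₂Hom]
        congr 1
        · ext r; simp
        · funext i
          simp only [Function.comp_apply, g, Polynomial.coe_evalRingHom, Polynomial.eval_add, Polynomial.eval_mul,
            Polynomial.eval_C, Polynomial.eval_X]
          rw [← add_left_comm, mul_add A (t • (P * N)), add_mul]
          simp [mul_comm]
      have hz : MvPolynomial.eval₂ Polynomial.C g F = 0 := by
        refine Polynomial.eq_zero_of_infinite_isRoot _ (Set.Infinite.mono ?_ ((Set.finite_singleton (0 : k)).infinite_compl))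
        intro t ht
        exact (hev t).trans (hcurve t ht)
      have := hev 0
      rw [hz, Polynomial.eval_zero, zero_smul, zero_add] at this
      exact this.symm
    · rw [hN' m]
      refine Matrix.toLin'.injective (LinearMap.ext fun x => ?_)
      rw [hQm, sub_mul, one_mul, map_sub, Matrix.toLin'_mul, LinearMap.sub_apply, LinearMap.comp_apply, hP, map_zero, LinearMap.zero_apply,
        hep _ (show Matrix.toLin' N (Matrix.toLin' (N ^ (m+1)) x) = 0 by
          rw [← LinearMap.comp_apply, ← Matrix.toLin'_mul, ← pow_succ', hm, map_zero, LinearMap.zero_apply]), sub_self]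

end Groth.Agent.S19394
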