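import Groth.Statements.S19396
import Groth.Agent.FunFldLib.Order

set_option autoImplicit false
universe u v
open FunFld

namespace Groth.Agent.S19396
open Groth.Agent.FunFldLib


/-- On an elliptic curve with base point 0, if f has a double pole at 0 and no other pole and g a triple
pole at 0 and no other pole, then for n ≥ 2 the functions 1, f, …, f^[n/2], g, fg, …, f^[(n−3)/2] g
form a basis of the space of functions with at most an n-fold pole at 0. Stated for a function field
K/k of one variable of genus 1 with a place P of degree 1 in the role of the curve and its base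
point: the family indexed by Fin (n/2 + 1) ⊕ Fin ((n − 1)/2), sending i on the left to f^i and i on
the right to f^i g, is linearly independent over k and spans L(nP). -/
theorem result (k : Type u) (K : Type v) [Field k] [Field K]
    [Algebra k K] (hK : FunFld.IsFunctionField k K) (hgen : FunFld.genus k K = 1)
    (P : FunFld.Place k K) (hP : P.deg = 1) (f g : K)
    (hf : f ∈ FunFld.L (Finsupp.single P 2)) (hf2 : P.ord f = -2)
    (hg : g ∈ FunFld.L (Finsupp.single P 3)) (hg3 : P.ord g = -3) (n : ℕ) (hn : 2 ≤ n) :
    LinearIndependent k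
        (Sum.elim (fun i : Fin (n / 2 + 1) => f ^ (i : ℕ)) (fun i : Fin ((n - 1) / 2) => f ^ (i : ℕ) * g)) ∧
      Submodule.span k (Set.range
        (Sum.elim (fun i : Fin (n / 2 + 1) => f ^ (i : ℕ)) (fun i : Fin ((n - 1) / 2) => f ^ (i : ℕ) * g))) =
        FunFld.L (Finsupp.single P (n : ℤ)) := by
  classical
  have hf0 : f ≠ 0 := fun e => by rw [e] at hf2; simp [FunFld.Place.ord] at hf2
  have hg0 : g ≠ 0 := fun e => by rw [e] at hg3; simp [FunFld.Place.ord] at hg3
  set b := Sum.elim (fun i : Fin (n / 2 + 1) => f ^ (i : ℕ)) (fun i : Fin ((n - 1) / 2) => f ^ (i : ℕ) * g) with hb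
  have hord : ∀ s, P.ord (b s) = Sum.elim (fun i : Fin (n / 2 + 1) => -(2 * (i : ℤ))) (fun i : Fin ((n - 1) / 2) => -(2 * (i : ℤ) + 3)) s := by
    rintro (i | i) <;> simp only [hb, Sum.elim_inl, Sum.elim_inr]
    · rw [ord_pow P hf0, hf2]; ring
    · rw [ord_mul P (pow_ne_zero _ hf0) hg0, ord_pow P hf0, hf2, hg3]; ring
  have hne : ∀ s, b s ≠ 0 := by
    rintro (i | i) <;> simp only [hb, Sum.elim_inl, Sum.elim_inr]
    exacts [pow_ne_zero _ hf0, mul_ne_zero (pow_ne_zero _ hf0) hg0]
  have hli : LinearIndependent k b := linearIndependent_of_ord P b hne fun s t e => by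
    simp only [hord] at e
    rcases s with i | i <;> rcases t with j | j <;> simp only [Sum.elim_inl, Sum.elim_inr] at e
    · exact congrArg _ (Fin.ext (by omega))
    · omega
    · omega
    · exact congrArg _ (Fin.ext (by omega))
  have hmem : ∀ s, b s ∈ FunFld.L (Finsupp.single P (n : ℤ)) := fun s R => by
    rcases eq_or_ne R P with rfl | hR
    · rw [v_le_exp_iff R (hne s), hord, Finsupp.single_eq_same]
      rcases s with i | i <;> simp only [Sum.elim_inl, Sum.elim_inr] <;> omega
    · have hf' : R.1 f ≤ 1 := by simpa [Finsupp.single_eq_of_ne hR] using hf R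
      have hg' : R.1 g ≤ 1 := by simpa [Finsupp.single_eq_of_ne hR] using hg R
      rw [Finsupp.single_eq_of_ne hR]
      simp only [WithZero.exp_zero]
      rcases s with i | i <;> simp only [hb, Sum.elim_inl, Sum.elim_inr, map_mul, map_pow]
      · exact pow_le_one₀ zero_le hf'
      · exact mul_le_one' (pow_le_one₀ zero_le hf') hg'
  refine ⟨hli, ?_⟩
  have := finite_L hK (Finsupp.single P (n : ℤ))
  refine Submodule.eq_of_le_of_finrank_le (Submodule.span_le.2 (by rintro _ ⟨s, rfl⟩; exact hmem s)) ?_
  rw [finrank_span_eq_card hli]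
  have h3 := ell_eq_of_large hK (D := Finsupp.single P (n : ℤ)) (by rw [deg_single, hgen, hP]; push_cast; omega)
  rw [deg_single, hgen, hP] at h3
  push_cast at h3
  show FunFld.ell _ ≤ _
  simp only [Fintype.card_sum, Fintype.card_fin]
  omega

end Groth.Agent.S19396
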