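import Groth.Statements.S19427
import Groth.Agent.MilnorKLib.Basic

set_option autoImplicit false
universe u
open MilnorK

namespace Groth.Agent.S19427

/-- For a field F and nonzero b, c with b + c ≠ 0, in the Milnor K-group K_2(F) one has {b, c} + {b + c,
-b/c} = 0, that is {b, c} = -{b + c, -b/c} = {b + c, -c/b}. (The identity as displayed in the source
is {b, c} = {b + c, -b/c}, which differs from this by a sign and fails in general: for b = 3, c = 5
over the rationals the tame symbol at 5 takes the values 3 and 1/3 on the two sides; the
accompanying derivation from the Steinberg relation b/(b+c) + c/(b+c) = 1 gives exactly the identity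
stated here.) -/
theorem result (F : Type u) [Field F] (b c : Fˣ)
    (h : (b : F) + (c : F) ≠ 0) :
    (MilK.symbol ![b, c] : MilK.K F 2) + MilK.symbol ![Units.mk0 ((b : F) + (c : F)) h, -(b / c)] = 0 := by
  set s : Fˣ := Units.mk0 ((b : F) + (c : F)) h with hs
  rw [MilnorKLib.symbol_two, MilnorKLib.symbol_two]
  generalize (MilK.symbol (![] : Fin 0 → Fˣ) : MilK.K F 0) = e
  have key := MilnorKLib.consK_steinberg (b / s) (c / s) (by
    rw [Units.val_div_eq_div_val, Units.val_div_eq_div_val, ← add_div]
    exact div_self h) e
  have e1 : -(b / c) = (-1) * (b / c) := Units.ext (by simp)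
  rw [e1, MilnorKLib.consK_mul_apply, map_add, ← MilnorKLib.consK_self' s e, MilnorKLib.consK_div b c,
    map_sub]
  rw [MilnorKLib.consK_div c s, map_sub, MilnorKLib.consK_div b s, MilnorKLib.consK_div b s,
    MilnorKLib.consK_comm b s e] at key
  linear_combination (norm := module) key

end Groth.Agent.S19427
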