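import Groth.Statements.S19436
import Mathlib.RingTheory.Nakayama
import Mathlib.LinearAlgebra.FiniteDimensional.Lemmas
import Mathlib.RingTheory.LocalRing.Quotient
import Mathlib.RingTheory.Ideal.Quotient.Operations

set_option autoImplicit false
universe u
open CAlg

namespace Groth.Agent.S19436

/-- For a Noetherian local commutative algebra R over a field k, with maximal ideal M, and an ideal I of
R whose quotient R/I is finite-dimensional over k of dimension n, the power M^n lies in I. -/
theorem result (k : Type u) [Field k] (R : Type u) [CommRing R]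
    [Algebra k R] [IsNoetherianRing R] [IsLocalRing R] (I : Ideal R) [Module.Finite k (R ⧸ I)] (n : ℕ)
    (hn : Module.finrank k (R ⧸ I) = n) : IsLocalRing.maximalIdeal R ^ n ≤ I := by
  by_cases htop : I = ⊤
  · simp [htop]
  let q : R →ₐ[k] R ⧸ I := Ideal.Quotient.mkₐ k I
  let W : ℕ → Submodule k (R ⧸ I) := fun i => ((IsLocalRing.maximalIdeal R ^ i).restrictScalars k).map q.toLinearMap
  have hstep : ∀ i, W i = ⊥ ∨ Module.finrank k (W i) + i ≤ n := by
    intro i
    induction i with
    | zero => right; rw [← hn]; simpa using Submodule.finrank_le (W 0)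
    | succ i ih =>
      have hle : W (i + 1) ≤ W i := Submodule.map_mono (fun x hx => Ideal.pow_le_pow_right (Nat.le_succ i) hx)
      rcases ih with h | h
      · exact Or.inl (le_bot_iff.1 (hle.trans h.le))
      by_cases heq : W (i + 1) = W i
      · left
        let N : Submodule R (R ⧸ I) := Submodule.map I.mkQ (IsLocalRing.maximalIdeal R ^ i)
        have hN : N ≤ IsLocalRing.maximalIdeal R • N := by
          intro z hz
          have hz' : z ∈ W i := hz
          rw [← heq] at hz'
          have hz'' : z ∈ Submodule.map I.mkQ (IsLocalRing.maximalIdeal R ^ (i + 1)) := hz'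
          rwa [pow_succ', ← smul_eq_mul, Submodule.map_smul''] at hz''
        have hb := Submodule.eq_bot_of_le_smul_of_le_jacobson_bot _ N (IsNoetherian.noetherian _) hN
          (IsLocalRing.maximalIdeal_le_jacobson ⊥)
        rw [heq, eq_bot_iff]
        intro z hz
        have hz' : z ∈ N := hz
        rw [hb] at hz'
        simpa using hz'
      · right
        have := Submodule.finrank_lt_finrank_of_lt (lt_of_le_of_ne hle heq)
        omega
  intro x hx
  rcases hstep n with h | h
  · have : q x ∈ W n := ⟨x, hx, rfl⟩
    rw [h, Submodule.mem_bot] at this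
    exact Ideal.Quotient.eq_zero_iff_mem.1 this
  · have h0 : W n = ⊥ := Submodule.finrank_eq_zero.1 (by omega)
    have : q x ∈ W n := ⟨x, hx, rfl⟩
    rw [h0, Submodule.mem_bot] at this
    exact Ideal.Quotient.eq_zero_iff_mem.1 this

end Groth.Agent.S19436
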