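import Groth.Statements.S19439
import Mathlib

set_option autoImplicit false
set_option linter.style.haveILetI false
universe u
open CAlg

namespace Groth.Agent.S19439

/-- Affine form: for all n and N there is an integer d, that depends only on n and N, such that for
every algebraically closed field k and every ideal I of the polynomial ring in N variables over k
whose quotient has finite dimension n over k, the polynomials of total degree at most d map onto the
quotient. -/
theorem result (n N : ℕ) :
    ∃ d : ℕ, ∀ (k : Type u) [Field k] [IsAlgClosed k] (I : Ideal (MvPolynomial (Fin N) k))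
      [Module.Finite k (MvPolynomial (Fin N) k ⧸ I)],
      Module.finrank k (MvPolynomial (Fin N) k ⧸ I) = n →
      Submodule.map (Ideal.Quotient.mkₐ k I).toLinearMap (MvPolynomial.restrictTotalDegree (Fin N) k d) = ⊤ := by
  classical
  refine ⟨n, ?_⟩
  intro k _ _ I _ hfr
  let π := (Ideal.Quotient.mkₐ k I).toLinearMap
  let W : ℕ → Submodule k (MvPolynomial (Fin N) k ⧸ I) := fun d => Submodule.map π (MvPolynomial.restrictTotalDegree (Fin N) k d)
  have hmono : ∀ d, W d ≤ W (d + 1) := fun d => Submodule.map_mono (fun p hp => by
    rw [MvPolynomial.mem_restrictTotalDegree] at hp ⊢; omega)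
  have hstab : ∀ d, W (d + 1) ≤ W d → W d = ⊤ := by
    intro d hd
    rw [eq_top_iff]
    intro z hz; clear hz
    obtain ⟨p, rfl⟩ := Ideal.Quotient.mkₐ_surjective k I z
    have h1 : (1 : MvPolynomial (Fin N) k ⧸ I) ∈ W d := ⟨1, by simp [MvPolynomial.mem_restrictTotalDegree], map_one (Ideal.Quotient.mkₐ k I)⟩
    induction p using MvPolynomial.induction_on with
    | C c => rw [MvPolynomial.C_eq_smul_one, map_smul, map_one]; exact Submodule.smul_mem _ _ h1
    | add p q hp hq => rw [map_add]; exact add_mem hp hq
    | mul_X p i hp =>
      obtain ⟨p', hp', e⟩ := hp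
      refine hd ⟨p' * MvPolynomial.X i, ?_, ?_⟩
      · rw [SetLike.mem_coe, MvPolynomial.mem_restrictTotalDegree] at hp' ⊢
        exact (MvPolynomial.totalDegree_mul _ _).trans (by rw [MvPolynomial.totalDegree_X]; omega)
      · show Ideal.Quotient.mkₐ k I (p' * MvPolynomial.X i) = _
        rw [map_mul, map_mul]
        congr 1
  have hgrow : ∀ d, W d = ⊤ ∨ d ≤ Module.finrank k (W d) := by
    intro d
    induction d with
    | zero => exact Or.inr (Nat.zero_le _)
    | succ d ih =>
      rcases ih with h | h
      · left; exact top_le_iff.mp (h ▸ hmono d)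
      · by_cases hle : W (d + 1) ≤ W d
        · left; exact top_le_iff.mp ((hstab d hle) ▸ hmono d)
        · right
          have := Submodule.finrank_lt_finrank_of_lt (lt_of_le_not_ge (hmono d) hle)
          omega
  rcases hgrow n with h | h
  · exact h
  · exact Submodule.eq_top_of_finrank_eq (le_antisymm (Submodule.finrank_le _) (hfr ▸ h))

end Groth.Agent.S19439
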