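import Groth.Statements.S19443
-- import your own Groth.Agent.* helpers here

set_option autoImplicit false
universe u
open LinAlg

namespace Groth.Agent.S19443

/-- Algebraic form: let G be a finite group with order invertible in the field k, ρ a linear
representation of G on a k-vector space V, and ω a nondegenerate bilinear form on V invariant under
G. Then ω restricted to the fixed subspace V^G is nondegenerate (for a finite group of symplectic
automorphisms, the fixed subspace is a symplectic subspace). -/
theorem result (k : Type u) [Field k]
    (G : Type u) [Group G] [Finite G] (hG : (Nat.card G : k) ≠ 0)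
    (V : Type u) [AddCommGroup V] [Module k V] (ρ : Representation k G V)
    (ω : LinearMap.BilinForm k V) (hω : ω.Nondegenerate)
    (hinv : ∀ (g : G) (v w : V), ω (ρ g v) (ρ g w) = ω v w) :
    (ω.restrict ρ.invariants).Nondegenerate := by
  have : Fintype G := Fintype.ofFinite G
  have hG' : (Fintype.card G : k) ≠ 0 := by rwa [← Nat.card_eq_fintype_card]
  let avg : V → V := fun w => ∑ g : G, ρ g w
  have havg : ∀ w, avg w ∈ ρ.invariants := by
    intro w g
    simp only [avg, map_sum]
    exact Fintype.sum_equiv (Equiv.mulLeft g) _ _ (fun h => by simp [map_mul])
  constructor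
  · intro v hv
    apply Subtype.ext
    apply hω.1
    intro w
    have e : ω v (avg w) = (Fintype.card G : k) * ω v w := by
      simp only [avg, map_sum]
      rw [Finset.sum_congr rfl (g := fun _ => ω v w) fun g _ => by
        conv_lhs => rw [← v.2 g, hinv]]
      simp
    have := hv ⟨avg w, havg w⟩
    rw [show (ω.restrict ρ.invariants) v ⟨avg w, havg w⟩ = ω v (avg w) from rfl, e] at this
    exact (mul_eq_zero.1 this).resolve_left hG'
  · intro v hv
    apply Subtype.ext
    apply hω.2
    intro w
    have e : ω (avg w) v = (Fintype.card G : k) * ω w v := by
      simp only [avg, map_sum, LinearMap.sum_apply]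
      rw [Finset.sum_congr rfl (g := fun _ => ω w v) fun g _ => by
        conv_lhs => rw [← v.2 g, hinv]]
      simp
    have := hv ⟨avg w, havg w⟩
    rw [show (ω.restrict ρ.invariants) ⟨avg w, havg w⟩ v = ω (avg w) v from rfl, e] at this
    exact (mul_eq_zero.1 this).resolve_left hG'

end Groth.Agent.S19443
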