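import Groth.Statements.S19444
import Groth.Agent.SymNorm.Det
import Groth.Agent.SymNorm.Polar
import Mathlib.RingTheory.Norm.Basic

set_option autoImplicit false
universe u
open SymTen

namespace Groth.Agent.S19444

open scoped TensorProduct
open Groth.Agent.SymNorm
/-- Linearised norm: let A be a commutative ring in which n! is invertible and R a commutative
A-algebra, free of rank n as an A-module. There is a unique A-algebra homomorphism from the
symmetric tensors TS^n_A(R) to A taking r ⊗ ⋯ ⊗ r to the norm of r for every r in R. (The published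
corollary is stated for any free algebra of rank n; the construction printed for it divides by n!,
and n! invertible is assumed here.) -/
theorem result (A : Type u) [CommRing A] (R : Type u) [CommRing R]
    [Algebra A R] [Module.Free A R] [Module.Finite A R] (n : ℕ) (hn : Module.finrank A R = n)
    (hfact : IsUnit ((Nat.factorial n : ℕ) : A)) :
    ∃! φ : SymTen.TS A R n →ₐ[A] A, ∀ r : R, φ (SymTen.tpow A R n r) = Algebra.norm A r := by
  obtain ⟨b⟩ : Nonempty (Module.Basis (Fin n) A R) := by
    rcases subsingleton_or_nontrivial A with hA | hA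
    · haveI : Subsingleton R := Module.subsingleton A R
      exact ⟨⟨default⟩⟩
    · exact ⟨Module.finBasisOfFinrankEq A R hn⟩
  have hsym : ∀ (t : SymTen.TS A R n) σ, SymTen.perm A R n σ t.1 = t.1 := fun t σ => by
    rw [SymTen.perm_apply]; exact t.2 σ
  let φ : SymTen.TS A R n →ₐ[A] A := AlgHom.ofLinearMap
    ((dfun b).comp ((LinearMap.mulRight A (PiTensorProduct.tprod A b)).comp (SymTen.TS A R n).val.toLinearMap))
    (by change dfun b ((1 : ⨂[A] _ : Fin n, R) * PiTensorProduct.tprod A b) = 1; rw [one_mul, dfun_omega])
    (fun t t' => by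
      change dfun b (t.1 * t'.1 * PiTensorProduct.tprod A b)
        = dfun b (t.1 * PiTensorProduct.tprod A b) * dfun b (t'.1 * PiTensorProduct.tprod A b)
      rw [mul_assoc, dfun_mul_eq b (hsym t), mul_comm])
  refine ⟨φ, fun r => ?_, fun ψ hψ => ?_⟩
  · change dfun b (PiTensorProduct.tprod A (fun _ : Fin n => r) * PiTensorProduct.tprod A b) = _
    rw [PiTensorProduct.tprod_mul_tprod, dfun_tprod, Algebra.norm_apply]
    have := b.det_comp (Algebra.lmul A R r) b
    rw [b.det_self, mul_one] at this
    exact this
  · refine AlgHom.ext fun t => ?_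
    have ht := TS_span_tpow hfact t
    refine LinearMap.eqOn_span (f := ψ.toLinearMap) (g := φ.toLinearMap) ?_ ht
    rintro _ ⟨r, rfl⟩
    change ψ (SymTen.tpow A R n r) = φ (SymTen.tpow A R n r)
    rw [hψ r]
    symm
    change dfun b (PiTensorProduct.tprod A (fun _ : Fin n => r) * PiTensorProduct.tprod A b) = _
    rw [PiTensorProduct.tprod_mul_tprod, dfun_tprod, Algebra.norm_apply]
    have := b.det_comp (Algebra.lmul A R r) b
    rw [b.det_self, mul_one] at this
    exact this

end Groth.Agent.S19444
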