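import Groth.Statements.S19448
import Mathlib
-- import your own Groth.Agent.* helpers here

set_option autoImplicit false
universe u
open CAlg

namespace Groth.Agent.S19448

/-- Let k be a field, A a Noetherian local k-algebra with maximal ideal M and residue field k, and G a
finite group with |G| ≠ 0 in k acting on A by k-algebra automorphisms. An element of G which acts
trivially on M/M^2 acts trivially on A; in other words the stabilizer acts faithfully on the
cotangent space whenever it acts faithfully on the local ring. -/
theorem result (k : Type u) [Field k] (A : Type u) [CommRing A]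
    [Algebra k A] [IsLocalRing A] [IsNoetherianRing A]
    (hres : Function.Surjective (algebraMap k (IsLocalRing.ResidueField A)))
    (G : Type u) [Group G] [Finite G] [MulSemiringAction G A] [SMulCommClass G k A]
    (hG : (Nat.card G : k) ≠ 0) (g : G)
    (hg : ∀ a ∈ IsLocalRing.maximalIdeal A, g • a - a ∈ IsLocalRing.maximalIdeal A ^ 2) (a : A) :
    g • a = a := by
  classical
  set M := IsLocalRing.maximalIdeal A with hM
  have hc : ∀ c : k, g • algebraMap k A c = algebraMap k A c := fun c => by
    rw [Algebra.algebraMap_eq_smul_one, smul_comm, smul_one]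
  have h2 : ∀ b : A, g • b - b ∈ M ^ 2 := by
    intro b
    obtain ⟨c, hc'⟩ := hres (IsLocalRing.residue A b)
    have hb : b - algebraMap k A c ∈ M := by
      rw [hM, ← IsLocalRing.residue_eq_zero_iff, map_sub, ← hc', sub_eq_zero]; rfl
    have := hg _ hb
    rwa [smul_sub, hc, sub_sub_sub_cancel_right] at this
  have hgm : ∀ x ∈ M, g • x ∈ M := fun x hx => by
    have := M.add_mem (Ideal.pow_le_self two_ne_zero (h2 x)) hx
    rwa [sub_add_cancel] at this
  have triv : ∀ j, ∀ x ∈ M ^ j, g • x - x ∈ M ^ (j + 1) := by
    intro j
    induction j with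
    | zero => intro x _; rw [zero_add, pow_one]; exact Ideal.pow_le_self two_ne_zero (h2 x)
    | succ j ih =>
      intro x hx
      rw [pow_succ] at hx
      induction hx using Submodule.mul_induction_on' with
      | mem_mul_mem y hy z hz =>
        have e : g • (y * z) - y * z = (g • y - y) * (g • z) + y * (g • z - z) := by rw [smul_mul']; ring
        rw [e]
        refine Ideal.add_mem _ ?_ ?_
        · rw [pow_succ]; exact Ideal.mul_mem_mul (ih y hy) (hgm z hz)
        · rw [show j + 1 + 1 = j + 2 by omega, pow_add]; exact Ideal.mul_mem_mul hy (h2 z)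
      | add y _ z _ hy hz => rw [smul_add, add_sub_add_comm]; exact Ideal.add_mem _ hy hz
  have hunit : IsUnit ((orderOf g : ℕ) : A) := by
    rw [← map_natCast (algebraMap k A)]
    refine (isUnit_iff_ne_zero.mpr fun h0 => hG ?_).map _
    obtain ⟨q, hq⟩ := orderOf_dvd_natCard g
    rw [hq, Nat.cast_mul, h0, zero_mul]
  have key : ∀ j, ∀ b : A, g • b - b ∈ M ^ j := by
    intro j
    induction j with
    | zero => intro b; simp
    | succ j ih =>
      intro b
      set d := g • b - b with hd
      have hi : ∀ i : ℕ, g ^ i • b - b - (i : A) * d ∈ M ^ (j + 1) := by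
        intro i
        induction i with
        | zero => simp
        | succ i ihi =>
          have hgi : g • (g ^ i • b - b - (i : A) * d) ∈ M ^ (j + 1) := by
            have := Ideal.add_mem _ (Ideal.pow_le_pow_right (Nat.le_succ _) (triv (j + 1) _ ihi)) ihi
            rwa [sub_add_cancel] at this
          have hn : g • (i : A) = (i : A) := map_natCast (MulSemiringAction.toRingHom G A g) i
          have e : g ^ (i + 1) • b - b - ((i + 1 : ℕ) : A) * d = g • (g ^ i • b - b - (i : A) * d) + (i : A) * (g • d - d) := by
            rw [pow_succ', mul_smul, smul_sub, smul_sub, smul_mul', hn, hd, smul_sub]; push_cast; ring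
          rw [e]
          exact Ideal.add_mem _ hgi (Ideal.mul_mem_left _ _ (triv j d (ih b)))
      have := hi (orderOf g)
      rw [pow_orderOf_eq_one, one_smul, sub_self, zero_sub, Ideal.neg_mem_iff] at this
      obtain ⟨w, hw⟩ := hunit.exists_left_inv
      have h3 := (M ^ (j + 1)).mul_mem_left w this
      rwa [← mul_assoc, hw, one_mul] at h3
  have hbot : ⨅ i : ℕ, M ^ i = ⊥ := Ideal.iInf_pow_eq_bot_of_isLocalRing M (IsLocalRing.maximalIdeal.isMaximal A).ne_top
  have : g • a - a ∈ (⊥ : Ideal A) := hbot ▸ Submodule.mem_iInf _ |>.mpr fun i => key i a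
  exact sub_eq_zero.mp (Ideal.mem_bot.mp this)

end Groth.Agent.S19448
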