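import Groth.Statements.S19452
import Groth.Agent.HilbD.DualFlat

set_option autoImplicit false
universe u
attribute [local instance] W4c6puncthilbintro.dualAlgebra
open HilbD

namespace Groth.Agent.S19452

/-- Let A be a commutative ring, R a commutative A-algebra free as an A-module, I an ideal of R with R/I
flat over A, and view the dual numbers R[ε] as an algebra over A[ε] (ε ↦ ε). For φ : I → R/I linear
over R, let J_φ be the ideal of elements a + bε of R[ε] with a ∈ I and b ≡ φ(a) modulo I. Then each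
R[ε]/J_φ is flat over A[ε] and J_φ reduces to I modulo ε; the assignment φ ↦ J_φ is injective; and
every ideal J of R[ε] with R[ε]/J flat over A[ε] which reduces to I modulo ε equals some J_φ. Thus
the first-order liftings of I correspond one-to-one to Hom_R(I, R/I) (the tangent space of the
Hilbert scheme at I). -/
theorem result (A : Type u) [CommRing A] (R : Type u) [CommRing R]
    [Algebra A R] [Module.Free A R] (I : Ideal R) [Module.Flat A (R ⧸ I)] :
    (∀ φ : I →ₗ[R] R ⧸ I,
        Module.Flat (DualNumber A) (DualNumber R ⧸ W4c6puncthilbintro.liftIdeal I φ) ∧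
          Ideal.map (TrivSqZeroExt.fstHom A R R) (W4c6puncthilbintro.liftIdeal I φ) = I) ∧
      Function.Injective (W4c6puncthilbintro.liftIdeal I) ∧
      ∀ J : Ideal (DualNumber R), Module.Flat (DualNumber A) (DualNumber R ⧸ J) →
        Ideal.map (TrivSqZeroExt.fstHom A R R) J = I →
          ∃ φ : I →ₗ[R] R ⧸ I, J = W4c6puncthilbintro.liftIdeal I φ := by
  classical
  have hfst : ∀ f : DualNumber A,
      TrivSqZeroExt.fst (algebraMap (DualNumber A) (DualNumber R) f) = algebraMap A R f.fst := by
    intro f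
    show TrivSqZeroExt.fst (W4c6puncthilbintro.dualMap A R f) = _
    conv_lhs => rw [HilbD.DualFlat.eq_inl_add_eps_mul f]
    rw [map_add, map_mul, W4c6puncthilbintro.dualMap_eps, W4c6puncthilbintro.dualMap_inl,
      W4c6puncthilbintro.dualMap_inl]
    simp [TrivSqZeroExt.algebraMap_eq_inl']
  have heps : ∀ x : DualNumber R, (DualNumber.eps : DualNumber A) • x = DualNumber.eps * x := by
    intro x
    rw [Algebra.smul_def]
    show W4c6puncthilbintro.dualMap A R DualNumber.eps * x = _
    rw [W4c6puncthilbintro.dualMap_eps]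
  have hepsQ : ∀ (J : Ideal (DualNumber R)) (x : DualNumber R),
      (DualNumber.eps : DualNumber A) • Ideal.Quotient.mk J x = Ideal.Quotient.mk J (DualNumber.eps * x) := by
    intro J x
    rw [← heps x]
    rfl
  refine ⟨fun φ => ?_, fun φ φ' h => ?_, fun J hflat hJI => ?_⟩
  · let J := W4c6puncthilbintro.liftIdeal I φ
    constructor
    · let π : (DualNumber R ⧸ J) →+* R ⧸ I :=
        Ideal.Quotient.lift J ((Ideal.Quotient.mk I).comp (TrivSqZeroExt.fstHom A R R).toRingHom)
          (fun x hx => Ideal.Quotient.eq_zero_iff_mem.mpr hx.1)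
      refine HilbD.DualFlat.flat_of_reduction (N := R ⧸ I) π.toAddMonoidHom ?_ ?_ ?_ ?_
      · intro z
        obtain ⟨r, rfl⟩ := Ideal.Quotient.mk_surjective z
        exact ⟨Ideal.Quotient.mk J (TrivSqZeroExt.inl r), by simp [π]⟩
      · intro f z
        obtain ⟨x, rfl⟩ := Ideal.Quotient.mk_surjective z
        show Ideal.Quotient.mk I (TrivSqZeroExt.fst (algebraMap (DualNumber A) (DualNumber R) f * x)) =
          f.fst • Ideal.Quotient.mk I (TrivSqZeroExt.fst x)
        rw [TrivSqZeroExt.fst_mul, hfst, ← Algebra.smul_def]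
        rfl
      · intro z hz
        obtain ⟨x, rfl⟩ := Ideal.Quotient.mk_surjective z
        have hx : TrivSqZeroExt.fst x ∈ I := Ideal.Quotient.eq_zero_iff_mem.mp hz
        obtain ⟨b, hb⟩ := Ideal.Quotient.mk_surjective (φ ⟨_, hx⟩)
        refine ⟨Ideal.Quotient.mk J (TrivSqZeroExt.inl (x.snd - b)), ?_⟩
        rw [hepsQ, Ideal.Quotient.eq]
        refine ⟨by simpa using hx, ?_⟩
        have : x.snd - (DualNumber.eps * TrivSqZeroExt.inl (x.snd - b) : DualNumber R).snd = b := by
          simp
        rw [TrivSqZeroExt.snd_sub, this, hb]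
        congr 1
        exact Subtype.ext (by simp)
      · intro z hz
        obtain ⟨x, rfl⟩ := Ideal.Quotient.mk_surjective z
        rw [hepsQ, Ideal.Quotient.eq_zero_iff_mem] at hz
        obtain ⟨hmem, hval⟩ := hz
        have hx : TrivSqZeroExt.fst x ∈ I := by
          rw [show (⟨_, hmem⟩ : I) = 0 from Subtype.ext (by simp), map_zero,
            Ideal.Quotient.eq_zero_iff_mem] at hval
          simpa using hval
        obtain ⟨b, hb⟩ := Ideal.Quotient.mk_surjective (φ ⟨_, hx⟩)
        refine ⟨Ideal.Quotient.mk J (TrivSqZeroExt.inl (x.snd - b)), ?_⟩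
        rw [hepsQ, Ideal.Quotient.eq]
        refine ⟨by simpa using hx, ?_⟩
        have : x.snd - (DualNumber.eps * TrivSqZeroExt.inl (x.snd - b) : DualNumber R).snd = b := by
          simp
        rw [TrivSqZeroExt.snd_sub, this, hb]
        congr 1
        exact Subtype.ext (by simp)
    · ext a
      rw [Ideal.mem_map_iff_of_surjective _ (fun r => ⟨TrivSqZeroExt.inl r, rfl⟩)]
      constructor
      · rintro ⟨x, hx, rfl⟩
        exact hx.1
      · intro ha
        obtain ⟨b, hb⟩ := Ideal.Quotient.mk_surjective (φ ⟨a, ha⟩)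
        refine ⟨TrivSqZeroExt.inl a + TrivSqZeroExt.inr b, ⟨by simpa using ha, ?_⟩, by simp⟩
        simp [hb]
  · ext ⟨a, ha⟩
    obtain ⟨b, hb⟩ := Ideal.Quotient.mk_surjective (φ ⟨a, ha⟩)
    have hmem : TrivSqZeroExt.inl a + TrivSqZeroExt.inr b ∈ W4c6puncthilbintro.liftIdeal I φ :=
      ⟨by simpa using ha, by simp [hb]⟩
    rw [h] at hmem
    obtain ⟨_, h2⟩ := hmem
    simp [hb] at h2
    exact h2
  · have hmemI : ∀ {a : R}, a ∈ I ↔ ∃ x ∈ J, TrivSqZeroExt.fst x = a := by
      intro a
      rw [← hJI, Ideal.mem_map_iff_of_surjective _ (fun r => ⟨TrivSqZeroExt.inl r, rfl⟩)]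
      rfl
    have hlow : ∀ b ∈ I, (TrivSqZeroExt.inr b : DualNumber R) ∈ J := by
      intro b hb
      obtain ⟨x, hx, rfl⟩ := hmemI.mp hb
      have := J.mul_mem_left DualNumber.eps hx
      convert this using 1
      ext <;> simp
    have hupp : ∀ d : DualNumber R, d ∈ J → TrivSqZeroExt.fst d = 0 → d.snd ∈ I := by
      intro d hd hd0
      have hz : (DualNumber.eps : DualNumber A) • Ideal.Quotient.mk J (TrivSqZeroExt.inl d.snd) = 0 := by
        rw [hepsQ, Ideal.Quotient.eq_zero_iff_mem]
        convert hd using 1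
        ext <;> simp [hd0]
      obtain ⟨m', hm'⟩ := HilbD.DualFlat.eps_torsion_of_flat (A := A) (M := DualNumber R ⧸ J) _ hz
      obtain ⟨z, rfl⟩ := Ideal.Quotient.mk_surjective m'
      rw [hepsQ, Ideal.Quotient.eq] at hm'
      exact hmemI.mpr ⟨_, hm', by simp⟩
    choose x hxJ hx1 using fun a : I => hmemI.mp a.2
    have huniq : ∀ (a : I) (y : DualNumber R), y ∈ J → TrivSqZeroExt.fst y = a →
        Ideal.Quotient.mk I y.snd = Ideal.Quotient.mk I (x a).snd := by
      intro a y hy hy1
      rw [Ideal.Quotient.eq, ← TrivSqZeroExt.snd_sub]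
      exact hupp _ (J.sub_mem hy (hxJ a)) (by simp [hy1, hx1])
    let φ : I →ₗ[R] R ⧸ I :=
      { toFun := fun a => Ideal.Quotient.mk I (x a).snd
        map_add' := fun a b => by
          rw [← map_add, ← TrivSqZeroExt.snd_add]
          exact (huniq (a + b) _ (J.add_mem (hxJ a) (hxJ b)) (by simp [hx1])).symm
        map_smul' := fun r a => by
          have h2 := huniq (r • a) _ (J.mul_mem_left (TrivSqZeroExt.inl r) (hxJ a)) (by simp [hx1])
          rw [RingHom.id_apply, ← h2]
          simp [Algebra.smul_def] }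
    refine ⟨φ, le_antisymm (fun y hy => ?_) (fun y hy => ?_)⟩
    · have hy1 : TrivSqZeroExt.fst y ∈ I := hmemI.mpr ⟨y, hy, rfl⟩
      exact ⟨hy1, huniq ⟨_, hy1⟩ y hy rfl⟩
    · obtain ⟨hy1, hy2⟩ := hy
      have hd : y.snd - (x ⟨_, hy1⟩).snd ∈ I := Ideal.Quotient.eq.mp hy2
      have := J.add_mem (hxJ ⟨_, hy1⟩) (hlow _ hd)
      convert this using 1
      ext <;> simp [hx1]

end Groth.Agent.S19452
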