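import Groth.Statements.S3042
import Groth.Agent.Flat.FibreScheme
import Mathlib.AlgebraicGeometry.Morphisms.FormallyUnramified
import Mathlib.AlgebraicGeometry.Morphisms.UniversallyInjective
import Mathlib.AlgebraicGeometry.Fiber

set_option autoImplicit false
universe u
open CategoryTheory MonoidalCategory CartesianMonoidalCategory MonObj GrpObj AlgebraicGeometry TensorProduct
open SGA3

namespace Groth.Agent.S3042
open CategoryTheory CategoryTheory.Limits

/-- Let f : X → Y be a morphism of schemes locally of finite type. Then f is a monomorphism if and only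
if, for every point y of Y, the fibre X_y → Spec κ(y) is a monomorphism. -/
theorem result (X Y : Scheme.{u}) (f : X ⟶ Y) [LocallyOfFiniteType f] :
    Mono f ↔ ∀ y : Y, Mono (f.fiberToSpecResidueField y) := by
  constructor
  · intro h y
    exact inferInstanceAs (Mono (pullback.snd f (Y.fromSpecResidueField y)))
  intro h
  haveI hui : UniversallyInjective f := ((tfae_universallyInjective f).out 0 1).mpr (by
    intro K instK a b hab
    obtain ⟨⟨y, φ⟩, hc⟩ := (Y.SpecToEquivOfField K).symm.surjective (a ≫ f)
    haveI := h y
    have ha : a ≫ f = Spec.map φ ≫ Y.fromSpecResidueField y := hc.symm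
    have hb : b ≫ f = Spec.map φ ≫ Y.fromSpecResidueField y := hab.symm.trans ha
    have e : (pullback.lift a (Spec.map φ) ha : _ ⟶ f.fiber y) = pullback.lift b (Spec.map φ) hb := by
      haveI : Mono (pullback.snd f (Y.fromSpecResidueField y)) := h y
      exact (cancel_mono (pullback.snd f (Y.fromSpecResidueField y))).mp
        ((pullback.lift_snd _ _ _).trans (pullback.lift_snd _ _ _).symm)
    simpa [pullback.lift_fst] using congrArg (· ≫ pullback.fst f (Y.fromSpecResidueField y)) e)
  haveI hfu : FormallyUnramified f := by
    refine Groth.Agent.Flat.FibreScheme.formallyUnramified_of_fibres (𝟙 Y) f f (Category.comp_id f) fun y => ?_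
    haveI := h y
    have hq : IsPullback (pullback.fst (𝟙 Y) (Y.fromSpecResidueField y))
        (pullback.snd (𝟙 Y) (Y.fromSpecResidueField y)) (𝟙 Y) (Y.fromSpecResidueField y) := IsPullback.of_hasPullback _ _
    haveI : IsIso (pullback.snd (𝟙 Y) (Y.fromSpecResidueField y)) := hq.isIso_snd_of_isIso
    let q := (IsPullback.of_hasPullback f (pullback.fst (𝟙 Y) (Y.fromSpecResidueField y))).paste_vert hq
    have hf : IsPullback (pullback.fst f (Y.fromSpecResidueField y))
        (pullback.snd f (Y.fromSpecResidueField y)) (f ≫ 𝟙 Y) (Y.fromSpecResidueField y) := by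
      rw [Category.comp_id]; exact IsPullback.of_hasPullback _ _
    haveI : Mono (pullback.snd f (pullback.fst (𝟙 Y) (Y.fromSpecResidueField y)) ≫
        pullback.snd (𝟙 Y) (Y.fromSpecResidueField y)) := by
      rw [← IsPullback.isoIsPullback_hom_snd _ _ q hf]
      haveI : Mono (pullback.snd f (Y.fromSpecResidueField y)) := h y
      infer_instance
    haveI := mono_of_mono (pullback.snd f (pullback.fst (𝟙 Y) (Y.fromSpecResidueField y)))
      (pullback.snd (𝟙 Y) (Y.fromSpecResidueField y))
    exact inferInstanceAs (FormallyUnramified (pullback.snd f (pullback.fst (𝟙 Y) (Y.fromSpecResidueField y))))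
  haveI := (UniversallyInjective.iff_diagonal f).mp hui
  rw [← pullback.isIso_diagonal_iff f]
  exact (isIso_iff_isOpenImmersion_and_surjective _).mpr ⟨inferInstance, inferInstance⟩

end Groth.Agent.S3042
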