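import Groth.Statements.S19479
import Groth.Agent.HopfRep.Bridge

set_option autoImplicit false
universe u v w
open HopfRep

namespace Groth.Agent.S19479

open TensorProduct in
/-- Let K be a field, C a K-coalgebra and V a right C-comodule. The following are equivalent: (i) V is
the internal direct sum of a family of simple subcomodules, i.e. there is an independent family of
subcomodules W_i with sum V, each W_i nonzero and having no subcomodules inside it other than 0 and
W_i; (ii) every subcomodule of V has a complementary subcomodule. A subcomodule is a subspace W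
whose coaction lands in the image of W ⊗ C. (The source states this for left comodules; a left
comodule over C is a right comodule over the co-opposite coalgebra, so the statement is the same.) -/
theorem result {K : Type u} {C : Type v} [Field K]
    [AddCommGroup C] [Module K C] [Coalgebra K C] (V : Type w) [AddCommGroup V] [Module K V] [HopfRep.Comod K C V] :
    (∃ (ι : Type w) (W : ι → Submodule K V), iSupIndep W ∧ iSup W = ⊤ ∧ ∀ i,
        HopfRep.IsSubcomod (k := K) (A := C) (W i) ∧ W i ≠ ⊥ ∧
          ∀ W' : Submodule K V, HopfRep.IsSubcomod (k := K) (A := C) W' → W' ≤ W i → W' = ⊥ ∨ W' = W i) ↔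
      HopfRep.IsSemisimpleComod K C V := by
  letI := Groth.Agent.HopfRep.Bridge.module K C V
  haveI := Groth.Agent.HopfRep.Bridge.scalarTower K C V
  rw [Groth.Agent.HopfRep.Bridge.isSemisimple_iff]
  constructor
  · rintro ⟨ι, W, -, htop, hW⟩
    refine isSemisimpleModule_of_isSemisimpleModule_submodule'
      (p := fun i => Groth.Agent.HopfRep.Bridge.toSub (W i) (hW i).1) (fun i => ?_) ?_
    · haveI : IsSimpleModule (Groth.Agent.HopfRep.Bridge.Opr K C)
          (Groth.Agent.HopfRep.Bridge.toSub (W i) (hW i).1) :=
        isSimpleModule_iff_isAtom.2 ((Groth.Agent.HopfRep.Bridge.isAtom_toSub_iff _ _).2 (hW i).2)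
      infer_instance
    · rw [← Submodule.restrictScalars_inj K, Submodule.restrictScalars_iSup, Submodule.restrictScalars_top]
      exact htop
  · intro h
    obtain ⟨s, hind, htop, hs⟩ := IsSemisimpleModule.exists_sSupIndep_sSup_simples_eq_top
      (Groth.Agent.HopfRep.Bridge.Opr K C) V
    refine ⟨s, fun m => (m.1).restrictScalars K, fun i => ?_, ?_, fun i => ?_⟩
    · have hi := hind i.2
      rw [Submodule.disjoint_def] at hi ⊢
      intro x hx hx'
      refine hi x hx ?_
      rw [← Submodule.restrictScalars_mem K, sSup_eq_iSup', Submodule.restrictScalars_iSup]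
      refine (iSup₂_le fun j hj => ?_ : (⨆ (j : s) (_ : j ≠ i), (j.1).restrictScalars K) ≤ _) hx'
      exact le_iSup (fun m : (s \ {i.1} : Set _) => (m.1).restrictScalars K)
        ⟨j.1, j.2, fun h => hj (Subtype.ext h)⟩
    · rw [← Submodule.restrictScalars_iSup, ← sSup_eq_iSup', htop, Submodule.restrictScalars_top]
    · exact ⟨Groth.Agent.HopfRep.Bridge.isSubcomod_restrictScalars _,
        (Groth.Agent.HopfRep.Bridge.isAtom_toSub_iff _ (Groth.Agent.HopfRep.Bridge.isSubcomod_restrictScalars i.1)).1
          (isSimpleModule_iff_isAtom.1 (hs _ i.2))⟩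

end Groth.Agent.S19479
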