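import Groth.Statements.S19502
import Mathlib

set_option autoImplicit false
universe u
open W4c3ghconstell

namespace Groth.Agent.S19502

/-- Let ι index the irreducible representations, θ : ι → ℚ a weight which is negative exactly on the
finite set D₋, h h' : ι → ℕ with h' ≤ h pointwise (the isotypic dimensions of an object and of a
sub-object) and Σ_i θ_i h_i summable. For a finite set D of indices put S_D = Σ_{i ∉ D} θ_i h_i, d =
#(D ∖ D₋) and θ̃_D = Σ_{i ∈ D} θ_i h'_i + (S_D / d) · Σ_{i ∈ D ∖ D₋} h'_i / h_i, the modified weight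
attached to the parameters chosen for D (a quotient by zero is read as zero). Then for finite sets
D₋ ⊆ D ⊆ D̃ contained in the locus θ ≠ 0: (first error term) θ̃_{D̃} − θ̃_D = Σ_{τ ∈ D̃ ∖ D} (θ_τ
h_τ + S_{D̃}/d̃) · (h'_τ/h_τ − (1/d) Σ_{σ ∈ D ∖ D₋} h'_σ/h_σ); (second error term) Σ_i θ_i h'_i −
θ̃_D = Σ_{τ ∉ D} θ_τ h_τ · (h'_τ/h_τ − (1/d) Σ_{σ ∈ D ∖ D₋} h'_σ/h_σ). -/
theorem result {ι : Type u} [DecidableEq ι]
    (θ : ι → ℚ) (h h' : ι → ℕ) (hle : ∀ i, h' i ≤ h i) (hfin : {i | θ i < 0}.Finite)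
    (hsum : Summable (fun i => (θ i : ℝ) * (h i : ℝ))) (D D' : Finset ι)
    (hDm : hfin.toFinset ⊆ D) (hDD' : D ⊆ D') (hsupp : ∀ i ∈ D', θ i ≠ 0) :
    (((∑ i ∈ D', (θ i : ℝ) * (h' i : ℝ)) + ((∑' i, if i ∈ D' then (0 : ℝ) else (θ i : ℝ) * (h i : ℝ)) / ((D' \ hfin.toFinset).card : ℝ)) * (∑ σ ∈ D' \ hfin.toFinset, ((h' σ : ℝ) / (h σ : ℝ)))) - ((∑ i ∈ D, (θ i : ℝ) * (h' i : ℝ)) + ((∑' i, if i ∈ D then (0 : ℝ) else (θ i : ℝ) * (h i : ℝ)) / ((D \ hfin.toFinset).card : ℝ)) * (∑ σ ∈ D \ hfin.toFinset, ((h' σ : ℝ) / (h σ : ℝ)))) =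
      ∑ τ ∈ D' \ D, ((θ τ : ℝ) * (h τ : ℝ) + (∑' i, if i ∈ D' then (0 : ℝ) else (θ i : ℝ) * (h i : ℝ)) / ((D' \ hfin.toFinset).card : ℝ)) *
        (((h' τ : ℝ) / (h τ : ℝ)) - (1 / ((D \ hfin.toFinset).card : ℝ)) * (∑ σ ∈ D \ hfin.toFinset, ((h' σ : ℝ) / (h σ : ℝ))))) ∧
    ((∑' i, (θ i : ℝ) * (h' i : ℝ)) - ((∑ i ∈ D, (θ i : ℝ) * (h' i : ℝ)) + ((∑' i, if i ∈ D then (0 : ℝ) else (θ i : ℝ) * (h i : ℝ)) / ((D \ hfin.toFinset).card : ℝ)) * (∑ σ ∈ D \ hfin.toFinset, ((h' σ : ℝ) / (h σ : ℝ)))) =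
      ∑' τ, if τ ∈ D then (0 : ℝ) else (θ τ : ℝ) * (h τ : ℝ) *
        (((h' τ : ℝ) / (h τ : ℝ)) - (1 / ((D \ hfin.toFinset).card : ℝ)) * (∑ σ ∈ D \ hfin.toFinset, ((h' σ : ℝ) / (h σ : ℝ))))) := by
  classical
  set E := hfin.toFinset with hE
  set d : ℝ := ((D \ E).card : ℝ) with hd
  set d' : ℝ := ((D' \ E).card : ℝ) with hd'
  set r : ι → ℝ := fun i => (h' i : ℝ) / (h i : ℝ) with hr
  set H : ℝ := ∑ σ ∈ D \ E, r σ with hH
  set S' : ℝ := ∑' i, if i ∈ D' then (0 : ℝ) else (θ i : ℝ) * (h i : ℝ) with hS'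
  set S : ℝ := ∑' i, if i ∈ D then (0 : ℝ) else (θ i : ℝ) * (h i : ℝ) with hS
  have hm : ∀ i, (θ i : ℝ) * (h i : ℝ) * r i = (θ i : ℝ) * (h' i : ℝ) := fun i => by
    rcases Nat.eq_zero_or_pos (h i) with h0 | h0
    · have : h' i = 0 := by have := hle i; omega
      simp [hr, h0, this]
    · have : (h i : ℝ) ≠ 0 := by exact_mod_cast h0.ne'
      simp only [hr]; field_simp
  have h2 : Summable fun i => (θ i : ℝ) * (h' i : ℝ) := by
    refine Summable.of_norm_bounded hsum.abs fun i => ?_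
    rw [Real.norm_eq_abs, abs_mul, abs_mul]
    gcongr
    exact_mod_cast hle i
  have hcut : ∀ (f : ι → ℝ), Summable f → ∀ T : Finset ι,
      (Summable fun i => if i ∈ T then (0 : ℝ) else f i) ∧ (∑' i, if i ∈ T then (0 : ℝ) else f i) = (∑' i, f i) - ∑ i ∈ T, f i := by
    intro f hf T
    have hg : Summable fun i => if i ∈ T then f i else 0 := summable_of_ne_finset_zero (s := T) fun i hi => if_neg hi
    have e : (fun i => if i ∈ T then (0 : ℝ) else f i) = fun i => f i - if i ∈ T then f i else 0 := by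
      funext i; split_ifs <;> simp
    rw [e]
    refine ⟨hf.sub hg, ?_⟩
    rw [hf.tsum_sub hg, tsum_eq_sum (s := T) (fun i hi => if_neg hi)]
    congr 1
    exact Finset.sum_congr rfl fun i hi => if_pos hi
  constructor
  · have hsd : (D' \ E) = (D \ E) ∪ (D' \ D) := by
      ext i; simp only [Finset.mem_sdiff, Finset.mem_union]
      constructor
      · rintro ⟨a, b⟩; by_cases c : i ∈ D
        · exact Or.inl ⟨c, b⟩
        · exact Or.inr ⟨a, c⟩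
      · rintro (⟨a, b⟩ | ⟨a, b⟩)
        · exact ⟨hDD' a, b⟩
        · exact ⟨a, fun c => b (hDm c)⟩
    have hdisj : Disjoint (D \ E) (D' \ D) := Finset.disjoint_left.2 fun i hi hi' => (Finset.mem_sdiff.1 hi').2 (Finset.mem_sdiff.1 hi).1
    have hcard : d' = d + ((D' \ D).card : ℝ) := by
      rw [hd', hsd, Finset.card_union_of_disjoint hdisj]; push_cast; rfl
    have hH' : ∑ σ ∈ D' \ E, r σ = H + ∑ σ ∈ D' \ D, r σ := by rw [hsd, Finset.sum_union hdisj]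
    have hS2 : S = S' + ∑ i ∈ D' \ D, (θ i : ℝ) * (h i : ℝ) := by
      rw [hS, hS', (hcut _ hsum D).2, (hcut _ hsum D').2, ← Finset.sum_sdiff hDD']; ring
    have hA : ∑ i ∈ D', (θ i : ℝ) * (h' i : ℝ) = ∑ i ∈ D, (θ i : ℝ) * (h' i : ℝ) + ∑ i ∈ D' \ D, (θ i : ℝ) * (h' i : ℝ) := by
      rw [← Finset.sum_sdiff hDD', add_comm]
    show (∑ i ∈ D', (θ i : ℝ) * (h' i : ℝ)) + S' / d' * (∑ σ ∈ D' \ E, r σ) - ((∑ i ∈ D, (θ i : ℝ) * (h' i : ℝ)) + S / d * H) =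
      ∑ τ ∈ D' \ D, ((θ τ : ℝ) * (h τ : ℝ) + S' / d') * (r τ - 1 / d * H)
    rw [hH', hS2, hA]
    simp only [add_mul, mul_sub, Finset.sum_add_distrib, Finset.sum_sub_distrib, ← Finset.sum_mul, ← Finset.mul_sum, hm, Finset.sum_const, nsmul_eq_mul]
    rcases eq_or_ne d 0 with h0 | h0
    · have : H = 0 := by
        rw [hH, show D \ E = ∅ from Finset.card_eq_zero.1 (by rw [hd] at h0; exact_mod_cast h0), Finset.sum_empty]
      rw [this]; ring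
    · rcases eq_or_ne d' 0 with h1 | h1
      · exfalso
        have : (0:ℝ) ≤ ((D' \ D).card : ℝ) := Nat.cast_nonneg _
        have : (0:ℝ) < d := lt_of_le_of_ne (Nat.cast_nonneg _) (Ne.symm h0)
        linarith
      · rw [hcard] at h1 ⊢
        field_simp
        ring
  · show (∑' i, (θ i : ℝ) * (h' i : ℝ)) - ((∑ i ∈ D, (θ i : ℝ) * (h' i : ℝ)) + S / d * H) =
      ∑' τ, if τ ∈ D then (0 : ℝ) else (θ τ : ℝ) * (h τ : ℝ) * (r τ - 1 / d * H)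
    have e : (fun τ => if τ ∈ D then (0 : ℝ) else (θ τ : ℝ) * (h τ : ℝ) * (r τ - 1 / d * H)) =
        fun τ => (if τ ∈ D then (0 : ℝ) else (θ τ : ℝ) * (h' τ : ℝ)) - (if τ ∈ D then (0 : ℝ) else (θ τ : ℝ) * (h τ : ℝ)) * (1 / d * H) := by
      funext τ
      split_ifs
      · simp
      · rw [mul_sub, hm]
    rw [e, (hcut _ h2 D).1.tsum_sub ((hcut _ hsum D).1.mul_right _), tsum_mul_right, (hcut _ h2 D).2, ← hS]
    ring

end Groth.Agent.S19502
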