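import Groth.Statements.S19507
import Groth.Agent.FibreDepth.RegSmooth
import Groth.Agent.HopfRep.GrpSmooth

set_option autoImplicit false
set_option backward.isDefEq.respectTransparency false
set_option linter.style.haveILetI false
universe u
open CategoryTheory MonoidalCategory CartesianMonoidalCategory MonObj GrpObj AlgebraicGeometry
open AlgGrp

namespace Groth.Agent.S19507

/-- (iv) ⇒ (i): let k be a field, G a k-group scheme of finite type and e ∈ G the identity point (the
image of the unit section Spec k → G). If the local ring of G at e is regular, then G is smooth over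
k. (The corollary lists six equivalent conditions; (i) ⇒ (iv) is the standard fact that smooth
schemes over a field have regular local rings, and the remaining conditions concern the base change
to an algebraic closure and the completed local ring.) -/
theorem result (k : Type u) [Field k]
    (G : Over (Spec (CommRingCat.of k))) [GrpObj G] [LocallyOfFiniteType G.hom] [QuasiCompact G.hom]
    (e : G.left) (he : e ∈ Set.range (η[G]).left.base)
    (hreg : IsRegularLocalRing (G.left.presheaf.stalk e)) : Smooth G.hom := by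
  let f := G.hom
  let σ : Spec (CommRingCat.of k) ⟶ G.left := (η[G]).left
  have hσ : σ ≫ f = 𝟙 _ := Over.w η[G]
  obtain ⟨z₀, hz₀⟩ := he
  let z : Spec (CommRingCat.of k) := z₀
  have hz : σ z = e := hz₀
  obtain ⟨_, ⟨V, hV, rfl⟩, heV, -⟩ :=
    G.left.isBasis_affineOpens.exists_subset_of_mem_open (Set.mem_univ e) isOpen_univ
  have hVU : V ≤ f ⁻¹ᵁ ⊤ := le_top
  have hσV : ⊤ ≤ σ ⁻¹ᵁ V := fun w _ => by
    rw [Subsingleton.elim w z]; show σ z ∈ V; rw [show σ z = e from hz]; exact heV
  let B := Γ(G.left, V)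
  let ρ : k →+* B := ((Scheme.ΓSpecIso (CommRingCat.of k)).inv ≫ f.appLE ⊤ V hVU).hom
  let ψ : B →+* k := (σ.appLE V ⊤ hσV ≫ (Scheme.ΓSpecIso (CommRingCat.of k)).hom).hom
  have hψρ : ∀ a, ψ (ρ a) = a := by
    intro a
    have h₁ : f.appLE ⊤ V hVU ≫ σ.appLE V ⊤ hσV = 𝟙 _ := by
      rw [Scheme.Hom.appLE_comp_appLE]
      have aux : ∀ (g : Spec (CommRingCat.of k) ⟶ Spec (CommRingCat.of k)) (h : ⊤ ≤ g ⁻¹ᵁ ⊤),
          g = 𝟙 _ → g.appLE ⊤ ⊤ h = 𝟙 _ := by
        rintro g h rfl
        simp [Scheme.Hom.appLE]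
      exact aux _ _ hσ
    have h₂ : ((Scheme.ΓSpecIso (CommRingCat.of k)).inv ≫ f.appLE ⊤ V hVU) ≫
        (σ.appLE V ⊤ hσV ≫ (Scheme.ΓSpecIso (CommRingCat.of k)).hom) = 𝟙 _ := by
      rw [Category.assoc, reassoc_of% h₁, Iso.inv_hom_id]
    exact congr($(h₂).hom a)
  letI := ρ.toAlgebra
  haveI : Algebra.FiniteType k B := by
    have h := f.finiteType_appLE (isAffineOpen_top _) hV hVU
    exact RingHom.finiteType_algebraMap.mp
      ((RingHom.finiteType_respectsIso.cancel_left_isIso _ _).mpr h)
  let q := (hV.primeIdealOf ⟨e, heV⟩).asIdeal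
  have hq : RingHom.ker ψ = q := by
    have h3 : hV.fromSpec ((Spec.map (CommRingCat.ofHom ψ)) z) = e := by
      refine (Scheme.Hom.comp_apply _ _ z).symm.trans ?_
      rw [← hz]
      have hcomp : Spec.map (CommRingCat.ofHom ψ) ≫ hV.fromSpec = σ := by
        have := IsAffineOpen.SpecMap_appLE_fromSpec σ hV (isAffineOpen_top _) hσV
        rw [IsAffineOpen.fromSpec_top, Scheme.isoSpec_Spec_inv] at this
        show Spec.map (σ.appLE V ⊤ hσV ≫ (Scheme.ΓSpecIso (CommRingCat.of k)).hom) ≫ _ = σ
        rw [Spec.map_comp, Category.assoc, this, ← Category.assoc, ← Spec.map_comp,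
          Iso.inv_hom_id, Spec.map_id, Category.id_comp]
      rw [hcomp]
    have h4 : (Spec.map (CommRingCat.ofHom ψ)) z = hV.primeIdealOf ⟨e, heV⟩ :=
      hV.fromSpec.isOpenEmbedding.injective (h3.trans (hV.fromSpec_primeIdealOf ⟨e, heV⟩).symm)
    have h5 : z.asIdeal = (⊥ : Ideal k) := (Ideal.eq_bot_or_top _).resolve_right z.2.ne_top
    show RingHom.ker ψ = (hV.primeIdealOf ⟨e, heV⟩).asIdeal
    rw [← h4]
    show RingHom.ker ψ = z.asIdeal.comap ψ
    rw [h5]; rfl
  haveI : q.IsMaximal := hq ▸ RingHom.ker_isMaximal_of_surjective ψ fun a => ⟨ρ a, hψρ a⟩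
  have hbij : Function.Bijective (algebraMap k q.ResidueField) := by
    refine ⟨(algebraMap k q.ResidueField).injective, fun w => ?_⟩
    obtain ⟨b, rfl⟩ := Ideal.algebraMap_residueField_surjective q w
    refine ⟨ψ b, ?_⟩
    rw [IsScalarTower.algebraMap_apply k B q.ResidueField, ← sub_eq_zero, ← map_sub,
      Ideal.algebraMap_residueField_eq_zero, ← hq, RingHom.mem_ker, map_sub]
    exact sub_eq_zero.mpr (hψρ (ψ b))
  haveI : Algebra.FormallySmooth k q.ResidueField :=
    Algebra.FormallySmooth.of_equiv (AlgEquiv.ofBijective (Algebra.ofId k q.ResidueField) hbij)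
  haveI : IsRegularLocalRing (Localization.AtPrime q) := by
    letI := TopCat.Presheaf.algebra_section_stalk G.left.presheaf (⟨e, heV⟩ : V)
    haveI := hV.isLocalization_stalk ⟨e, heV⟩
    exact IsRegularLocalRing.of_ringEquiv
      (IsLocalization.algEquiv q.primeCompl (Localization.AtPrime q) (G.left.presheaf.stalk e)).symm.toRingEquiv
  have hsm : Algebra.IsSmoothAt k q := Groth.Agent.FibreDepth.RegSmooth.isSmoothAt_of_regular q
  haveI : LocallyOfFinitePresentation G.hom := inferInstance
  have hmem : e ∈ f.smoothLocus := by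
    refine (AlgebraicGeometry.formallySmooth_stalkMap_iff (f := f) ⊤ (isAffineOpen_top _) V hV hVU heV).mpr ?_
    letI := (f.appLE ⊤ V hVU).hom.toAlgebra
    show Algebra.FormallySmooth Γ(Spec (CommRingCat.of k), ⊤) (Localization.AtPrime q)
    have hsm' : Algebra.FormallySmooth k (Localization.AtPrime q) := hsm
    rw [← RingHom.formallySmooth_algebraMap] at hsm' ⊢
    rw [IsScalarTower.algebraMap_eq k B (Localization.AtPrime q)] at hsm'
    rw [IsScalarTower.algebraMap_eq Γ(Spec (CommRingCat.of k), ⊤) B (Localization.AtPrime q)]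
    exact (RingHom.FormallySmooth.respectsIso.cancel_left_isIso (Scheme.ΓSpecIso (CommRingCat.of k)).inv
      (f.appLE ⊤ V hVU ≫ CommRingCat.ofHom (algebraMap B (Localization.AtPrime q)))).mp hsm'
  refine Groth.Agent.HopfRep.GrpSmooth.smooth_of_smooth_open G G.hom.smoothLocus ⟨e, hmem⟩ ?_
  rw [← Scheme.Hom.smoothLocus_eq_top_iff, ← Scheme.Hom.preimage_smoothLocus_eq]
  exact Scheme.Opens.ι_preimage_self _

end Groth.Agent.S19507
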