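import Groth.Statements.S19551
import Mathlib.LinearAlgebra.Matrix.ToLinearEquiv
import Mathlib.LinearAlgebra.Matrix.NonsingularInverse
import Mathlib.LinearAlgebra.Matrix.Polynomial
import Mathlib.LinearAlgebra.Determinant
import Mathlib.FieldTheory.IsAlgClosed.Basic
import Mathlib.LinearAlgebra.FiniteDimensional.Lemmas

set_option autoImplicit false
universe u v w
open KronMod

namespace Groth.Agent.S19551

/-- Case of two arrows. Over an algebraically closed field K, if a Kronecker module f = (f_0, f_1) with
two arrows between spaces V and W of the same finite dimension k is semistable, then some linear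
combination z_0 f_0 + z_1 f_1 of its arrows is a linear isomorphism V → W: for two arrows the
semistable locus of dimension vector (k, k) lies in the open set of modules whose generic
combination is invertible, for every k. (The published statement, over an algebraically closed field
of characteristic zero, also covers the dimension vectors (1, 1) and (2, 2) for any number of
arrows; this row states the two-arrow case for all k, without the characteristic assumption.) -/
theorem result (K : Type u) [Field K] [IsAlgClosed K]
    (V : Type v) (W : Type w)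
    [AddCommGroup V] [Module K V] [FiniteDimensional K V]
    [AddCommGroup W] [Module K W] [FiniteDimensional K W]
    (f : Fin 2 → (V →ₗ[K] W)) (k : ℕ)
    (hV : Module.finrank K V = k) (hW : Module.finrank K W = k)
    (hf : KronMod.IsSemistable f) :
    ∃ z : Fin 2 → K, Function.Bijective ((∑ j, z j • f j : V →ₗ[K] W) : V → W) := by
  classical
  by_contra hcon
  simp only [not_exists] at hcon
  let bV : Module.Basis (Fin k) K V := Module.finBasisOfFinrankEq K V hV
  let bW : Module.Basis (Fin k) K W := Module.finBasisOfFinrankEq K W hW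
  let A := LinearMap.toMatrix bV bW (f 0)
  let B := LinearMap.toMatrix bV bW (f 1)
  let M : Matrix (Fin k) (Fin k) (Polynomial K) :=
    A.map Polynomial.C + (Polynomial.X : Polynomial K) • B.map Polynomial.C
  have hdet : M.det = 0 := by
    refine Polynomial.funext fun t => ?_
    rw [Polynomial.eval_zero, ← Polynomial.coe_evalRingHom, RingHom.map_det]
    have hMt : (Polynomial.evalRingHom t).mapMatrix M = LinearMap.toMatrix bV bW (f 0 + t • f 1) := by
      ext i j
      simp [M, A, B]
      ring
    rw [hMt]
    by_contra hne
    refine hcon ![1, t] ?_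
    have heq : (∑ j, (![1, t] : Fin 2 → K) j • f j : V →ₗ[K] W) = f 0 + t • f 1 := by
      simp [Fin.sum_univ_two]
    rw [heq]
    exact (LinearEquiv.ofIsUnitDet (f := f 0 + t • f 1) (v := bV) (v' := bW) (isUnit_iff_ne_zero.2 hne)).bijective
  obtain ⟨v, hv0, hv⟩ := Matrix.exists_mulVec_eq_zero_iff.2 hdet
  let c : ℕ → V := fun m => bV.equivFun.symm fun i => (v i).coeff m
  have hc0 : f 0 (c 0) = 0 := by
    apply bW.equivFun.injective
    ext i
    have h := congrArg (Polynomial.coeff · 0) (congrFun hv i)
    simp [M, Matrix.mulVec, dotProduct, add_mul, Finset.sum_add_distrib, mul_assoc] at h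
    rw [map_zero, Pi.zero_apply]
    have : bW.equivFun (f 0 (c 0)) i = ∑ j, A i j * (v j).coeff 0 := by
      simp [c, Module.Basis.equivFun_symm_apply, A, LinearMap.toMatrix_apply, mul_comm]
    rw [this]
    exact h
  have hcs : ∀ m, f 0 (c (m + 1)) + f 1 (c m) = 0 := by
    intro m
    apply bW.equivFun.injective
    ext i
    have h := congrArg (Polynomial.coeff · (m + 1)) (congrFun hv i)
    simp [M, Matrix.mulVec, dotProduct, add_mul, Finset.sum_add_distrib, mul_assoc] at h
    rw [map_zero, Pi.zero_apply, map_add, Pi.add_apply]
    have e0 : bW.equivFun (f 0 (c (m + 1))) i = ∑ j, A i j * (v j).coeff (m + 1) := by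
      simp [c, Module.Basis.equivFun_symm_apply, A, LinearMap.toMatrix_apply, mul_comm]
    have e1 : bW.equivFun (f 1 (c m)) i = ∑ j, B i j * (v j).coeff m := by
      simp [c, Module.Basis.equivFun_symm_apply, B, LinearMap.toMatrix_apply, mul_comm]
    rw [e0, e1]
    exact h
  have hne : ∃ m, c m ≠ 0 := by
    by_contra hall
    simp only [not_exists, not_not] at hall
    refine hv0 (funext fun i => Polynomial.ext fun m => ?_)
    have := congrFun (congrArg bV.equivFun (hall m)) i
    simp only [c, LinearEquiv.apply_symm_apply, map_zero, Pi.zero_apply] at this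
    simpa using this
  let V' := Submodule.span K (Set.range c)
  let W' := V'.map (f 0)
  have hsub : KronMod.IsSubrep f V' W' := by
    refine Fin.forall_fin_two.2 ⟨le_rfl, ?_⟩
    rw [Submodule.map_span_le]
    rintro _ ⟨m, rfl⟩
    rw [show f 1 (c m) = -f 0 (c (m + 1)) from eq_neg_of_add_eq_zero_right (hcs m)]
    exact neg_mem (Submodule.mem_map_of_mem (Submodule.subset_span ⟨m + 1, rfl⟩))
  let m₀ := Nat.find hne
  have hker : f 0 (c m₀) = 0 := by
    rcases Nat.eq_zero_or_pos m₀ with h | h
    · rw [h]; exact hc0
    · obtain ⟨j, hj⟩ : ∃ j, m₀ = j + 1 := ⟨m₀ - 1, by omega⟩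
      have hz : c j = 0 := not_not.1 (Nat.find_min hne (show j < m₀ by omega))
      have := hcs j
      rwa [hz, map_zero, add_zero, ← hj] at this
  have hlt : Module.finrank K W' < Module.finrank K V' := by
    have h1 := LinearMap.finrank_range_add_finrank_ker ((f 0).domRestrict V')
    rw [LinearMap.range_domRestrict] at h1
    have h2 : 0 < Module.finrank K (LinearMap.ker ((f 0).domRestrict V')) := by
      haveI : Nontrivial (LinearMap.ker ((f 0).domRestrict V')) := by
        refine ⟨⟨⟨⟨c m₀, Submodule.subset_span ⟨m₀, rfl⟩⟩, hker⟩, 0, ?_⟩⟩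
        intro h
        exact Nat.find_spec hne (congrArg (fun z : LinearMap.ker ((f 0).domRestrict V') => ((z : V') : V)) h)
      exact Module.finrank_pos
    show Module.finrank K (Submodule.map (f 0) V') < _
    omega
  have hV' : Module.finrank K V' ≤ k := hV ▸ Submodule.finrank_le V'
  have hbot : ¬ (V' = ⊥ ∧ W' = ⊥) := by
    rintro ⟨h, -⟩
    exact Nat.find_spec hne ((Submodule.mem_bot K).1 (h ▸ Submodule.subset_span ⟨m₀, rfl⟩))
  have htop : ¬ (V' = ⊤ ∧ W' = ⊤) := by
    rintro ⟨-, h⟩
    rw [h, finrank_top, hW] at hlt
    omega
  have := hf.2 V' W' hsub hbot htop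
  rw [hV, hW] at this
  have := Nat.le_of_mul_le_mul_left this (by omega)
  omega

end Groth.Agent.S19551
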