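import Groth.Statements.S19556
import Mathlib
-- import your own Groth.Agent.* helpers here

set_option autoImplicit false
universe u
open CategoryTheory AlgebraicGeometry
open Mor
open CategoryTheory CategoryTheory.Limits

namespace Groth.Agent.S19556

/-- Let S be a scheme, p : X → S and q : Y → S schemes over S, and π : X → Y a finite surjective
morphism over S (π ≫ q = p). If X is separated over S then Y is separated over S. (The published
statement is about the quotient map X → X/G of a scheme by an action of a finite group scheme,
assumed to exist and then finite and surjective; this row keeps of it only a finite surjective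
S-morphism π, which is all the argument uses.) -/
theorem result {S X Y : Scheme.{u}} (p : X ⟶ S) (q : Y ⟶ S)
    (π : X ⟶ Y) (hπ : π ≫ q = p) [IsFinite π] [Surjective π] [IsSeparated p] :
    IsSeparated q := by
  haveI : IsProper π := inferInstance
  have e1 : p ≫ 𝟙 S = π ≫ q := by rw [hπ, Category.comp_id]
  refine ⟨?_⟩
  refine IsClosedImmersion.of_isPreimmersion _ ?_
  have e : Set.range (pullback.diagonal q) = (pullback.map p p q q π π (𝟙 S) e1 e1) '' Set.range (pullback.diagonal p) := by
    rw [← Set.range_comp]
    have h : pullback.diagonal p ≫ pullback.map p p q q π π (𝟙 S) e1 e1 = π ≫ pullback.diagonal q := by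
      apply pullback.hom_ext
      · unfold pullback.map
        erw [Category.assoc, pullback.lift_fst, pullback.diagonal_fst_assoc, Category.assoc, pullback.diagonal_fst, Category.comp_id]
      · unfold pullback.map
        erw [Category.assoc, pullback.lift_snd, pullback.diagonal_snd_assoc, Category.assoc, pullback.diagonal_snd, Category.comp_id]
    have h' : ⇑(pullback.map p p q q π π (𝟙 S) e1 e1) ∘ ⇑(pullback.diagonal p) = ⇑(pullback.diagonal q) ∘ ⇑π := by
      funext x
      simp only [Function.comp_apply, ← Scheme.Hom.comp_apply, h]
    rw [h', Set.range_comp, π.surjective.range_eq, Set.image_univ]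
  rw [e]
  haveI hcl : IsClosedImmersion (pullback.diagonal p) := IsSeparated.isClosedImmersion_diagonal
  haveI : UniversallyClosed (pullback.map p p q q π π (𝟙 S) e1 e1) :=
    MorphismProperty.pullback_map (P := @UniversallyClosed) inferInstance inferInstance hπ.symm hπ.symm
  exact (pullback.map p p q q π π (𝟙 S) e1 e1).isClosedMap _ (pullback.diagonal p).isClosedEmbedding.isClosed_range

end Groth.Agent.S19556
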