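import Groth.Statements.S19567
import Groth.Agent.HensPair.Henselization

set_option autoImplicit false
universe u
open Hensel

namespace Groth.Agent.S19567

/-- Let A be a ring and I an ideal of A, and consider étale A-algebras A' for which the induced map A/I
→ A'/IA' is bijective. (1) For any two such algebras A₁ and A₂ there is a third such algebra A₃
admitting A-algebra maps from both. (2) For any two A-algebra maps f, g : A₁ → A₂ between such
algebras there are such an algebra A₃ and an A-algebra map h : A₂ → A₃ with h ∘ f = h ∘ g. (All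
algebras are taken in the universe of A. Since A itself is such an algebra, (1) and (2) say that the
category of these algebras and A-algebra maps is filtered.) -/
theorem result (A : Type u) [CommRing A] (I : Ideal A) :
    (∀ (A₁ A₂ : Type u) [CommRing A₁] [Algebra A A₁] [Algebra.Etale A A₁] [CommRing A₂] [Algebra A A₂]
        [Algebra.Etale A A₂],
        Function.Bijective (Ideal.quotientMap (I.map (algebraMap A A₁)) (algebraMap A A₁) Ideal.le_comap_map) →
        Function.Bijective (Ideal.quotientMap (I.map (algebraMap A A₂)) (algebraMap A A₂) Ideal.le_comap_map) →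
          ∃ (A₃ : Type u) (_ : CommRing A₃) (_ : Algebra A A₃) (_ : Algebra.Etale A A₃),
            Function.Bijective (Ideal.quotientMap (I.map (algebraMap A A₃)) (algebraMap A A₃) Ideal.le_comap_map) ∧
              Nonempty (A₁ →ₐ[A] A₃) ∧ Nonempty (A₂ →ₐ[A] A₃)) ∧
    (∀ (A₁ A₂ : Type u) [CommRing A₁] [Algebra A A₁] [Algebra.Etale A A₁] [CommRing A₂] [Algebra A A₂]
        [Algebra.Etale A A₂],
        Function.Bijective (Ideal.quotientMap (I.map (algebraMap A A₁)) (algebraMap A A₁) Ideal.le_comap_map) →
        Function.Bijective (Ideal.quotientMap (I.map (algebraMap A A₂)) (algebraMap A A₂) Ideal.le_comap_map) →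
          ∀ (f g : A₁ →ₐ[A] A₂),
            ∃ (A₃ : Type u) (_ : CommRing A₃) (_ : Algebra A A₃) (_ : Algebra.Etale A A₃),
              Function.Bijective (Ideal.quotientMap (I.map (algebraMap A A₃)) (algebraMap A A₃) Ideal.le_comap_map) ∧
                ∃ h : A₂ →ₐ[A] A₃, h.comp f = h.comp g) := by
  refine ⟨fun A₁ A₂ _ _ _ _ _ _ h₁ h₂ => ?_, fun A₁ A₂ _ _ _ _ _ _ h₁ h₂ f g => ?_⟩
  · obtain ⟨i, ⟨e₁⟩⟩ := HensPair.Construction.exists_idx A₁ (HensPair.Nbhd.of_bijective h₁)
    obtain ⟨j, ⟨e₂⟩⟩ := HensPair.Construction.exists_idx A₂ (HensPair.Nbhd.of_bijective h₂)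
    let T : Set (HensPair.Construction.Idx I) := {i, j}
    have h₃ := HensPair.Construction.tens_isNbhd T (Set.toFinite _)
    exact ⟨HensPair.Construction.Tens I T, inferInstance, inferInstance, h₃.etale, h₃.bijective,
      ⟨(HensPair.Construction.tensInj T ⟨i, Or.inl rfl⟩).comp e₁.symm.toAlgHom⟩,
      ⟨(HensPair.Construction.tensInj T ⟨j, Or.inr rfl⟩).comp e₂.symm.toAlgHom⟩⟩
  · have hB := HensPair.Henselization.isPairHenselization_hull I
    have n₁ := HensPair.Nbhd.of_bijective h₁
    have n₂ := HensPair.Nbhd.of_bijective h₂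
    obtain ⟨φ⟩ := HensPair.Henselization.exists_nbhd_hom hB A₂ n₂
    obtain ⟨s, hs⟩ := (inferInstance : Algebra.FiniteType A A₁).out
    have heq : φ.comp f = φ.comp g := HensPair.Henselization.nbhd_hom_eq hB n₁ _ _
    obtain ⟨A₃, _, _, n₃, h, hh⟩ := HensPair.Henselization.exists_nbhd_kill hB n₂ φ
      (fun x : s => f (x : A₁) - g (x : A₁)) fun x => by
        rw [map_sub, sub_eq_zero]; exact DFunLike.congr_fun heq (x : A₁)
    refine ⟨A₃, inferInstance, inferInstance, n₃.etale, n₃.bijective, h,
      AlgHom.ext_of_adjoin_eq_top hs fun x hx => ?_⟩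
    have := hh ⟨x, hx⟩
    rwa [map_sub, sub_eq_zero] at this

end Groth.Agent.S19567
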