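import Groth.Statements.S1957
import Groth.Agent.HensPair.Descend

set_option autoImplicit false
universe u
open Polynomial
open EtAlg

namespace Groth.Agent.S1957

/-- Let A be a ring, I an ideal and f a monic polynomial over A. Suppose the image of f in (A/I)[x]
factors as g h where the leading coefficient of g is a unit and g, h generate the unit ideal. Then
there is an etale A-algebra A' such that A/I -> A'/IA' is bijective, together with a factorization f
= g' h' in A'[x] whose reduction modulo IA' is the image of the given one. -/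
theorem result (A : Type u) [CommRing A] (I : Ideal A) (f : A[X]) (hf : f.Monic)
    (g h : (A ⧸ I)[X]) (hgh : f.map (Ideal.Quotient.mk I) = g * h) (hlead : IsUnit g.leadingCoeff)
    (hcop : IsCoprime g h) :
    ∃ (A' : Type u) (_ : CommRing A') (_ : Algebra A A') (_ : Algebra.Etale A A'),
      Function.Bijective (Ideal.quotientMap (I.map (algebraMap A A')) (algebraMap A A') Ideal.le_comap_map) ∧
      ∃ g' h' : A'[X], f.map (algebraMap A A') = g' * h' ∧
        g'.map (Ideal.Quotient.mk (I.map (algebraMap A A'))) =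
          g.map (Ideal.quotientMap (I.map (algebraMap A A')) (algebraMap A A') Ideal.le_comap_map) ∧
        h'.map (Ideal.Quotient.mk (I.map (algebraMap A A'))) =
          h.map (Ideal.quotientMap (I.map (algebraMap A A')) (algebraMap A A') Ideal.le_comap_map) := by
  obtain ⟨w, hw⟩ := hlead
  have hg₁ : (C (↑w⁻¹ : A ⧸ I) * g).Monic := monic_C_mul_of_mul_leadingCoeff_eq_one (by rw [← hw, Units.inv_mul])
  have hh₁ : (C (↑w : A ⧸ I) * h).Monic := by
    refine hg₁.of_mul_monic_left ?_
    rw [show C (↑w⁻¹ : A ⧸ I) * g * (C (↑w : A ⧸ I) * h) = (C (↑w⁻¹ : A ⧸ I) * C (↑w : A ⧸ I)) * (g * h) by ring,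
      ← map_mul, Units.inv_mul, map_one, one_mul, ← hgh]
    exact hf.map _
  have hcop₁ : IsCoprime (C (↑w⁻¹ : A ⧸ I) * g) (C (↑w : A ⧸ I) * h) := by
    refine (isCoprime_mul_unit_left_left (w⁻¹.isUnit.map (C : (A ⧸ I) →+* _)) g _).mpr ?_
    exact (isCoprime_mul_unit_left_right (w.isUnit.map (C : (A ⧸ I) →+* _)) g h).mpr hcop
  obtain ⟨A', _, _, hA', g₁, h₁, hg₁', hh₁', hprod, hgr, hhr⟩ := HensPair.Descend.exists_factor (I := I) f hf
    (C (↑w⁻¹ : A ⧸ I) * g) (C (↑w : A ⧸ I) * h) hg₁ hh₁ hcop₁ (by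
      rw [show C (↑w⁻¹ : A ⧸ I) * g * (C (↑w : A ⧸ I) * h) = (C (↑w⁻¹ : A ⧸ I) * C (↑w : A ⧸ I)) * (g * h) by ring,
        ← map_mul, Units.inv_mul, map_one, one_mul, hgh])
  obtain ⟨a, ha⟩ := Ideal.Quotient.mk_surjective (w : A ⧸ I)
  obtain ⟨b, hb⟩ := Ideal.Quotient.mk_surjective (↑w⁻¹ : A ⧸ I)
  have hab : algebraMap A A' (a * b) - 1 ∈ I.map (algebraMap A A') := by
    rw [← map_one (algebraMap A A'), ← map_sub]
    refine Ideal.mem_map_of_mem _ ?_
    rw [← Ideal.Quotient.eq, map_mul, ha, hb, map_one, Units.mul_inv]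
  have hA'' := hA'.away hab
  let L := Localization.Away (algebraMap A A' (a * b))
  have hu : IsUnit (algebraMap A L a) := by
    refine isUnit_of_dvd_unit (map_dvd _ (dvd_mul_right a b)) ?_
    rw [IsScalarTower.algebraMap_apply A A' L]
    exact IsLocalization.Away.algebraMap_isUnit _
  obtain ⟨v, hv⟩ := hu
  let ι := algebraMap A' L
  let qL := Ideal.quotientMap (I.map (algebraMap A L)) (algebraMap A L) Ideal.le_comap_map
  let M : A' ⧸ I.map (algebraMap A A') →+* L ⧸ I.map (algebraMap A L) :=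
    Ideal.quotientMap _ ι (Ideal.map_le_iff_le_comap.mp (le_of_eq (by
      rw [Ideal.map_map, ← IsScalarTower.algebraMap_eq])))
  have hM : M.comp (algebraMap (A ⧸ I) (A' ⧸ I.map (algebraMap A A'))) = qL :=
    Ideal.Quotient.ringHom_ext (RingHom.ext fun c =>
      congrArg (Ideal.Quotient.mk _) (IsScalarTower.algebraMap_apply A A' L c).symm)
  have hmap : ∀ (p : A'[X]) (r : (A ⧸ I)[X]), p.map (Ideal.Quotient.mk _) = r.map (algebraMap (A ⧸ I) _) →
      (p.map ι).map (Ideal.Quotient.mk (I.map (algebraMap A L))) = r.map qL := fun p r e => by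
    rw [← hM, ← Polynomial.map_map, ← e, Polynomial.map_map, Polynomial.map_map]
    congr 1
  have hqv : Ideal.Quotient.mk (I.map (algebraMap A L)) (v : L) = qL w := by
    rw [hv, ← ha]; rfl
  have hqv' : Ideal.Quotient.mk (I.map (algebraMap A L)) (↑v⁻¹ : L) = qL ↑w⁻¹ := by
    have h1 : Ideal.Quotient.mk (I.map (algebraMap A L)) (↑v⁻¹ : L) * qL w = 1 := by
      rw [← hqv, ← map_mul, Units.inv_mul, map_one]
    have h2 : qL (w : A ⧸ I) * qL ↑w⁻¹ = 1 := by rw [← map_mul, Units.mul_inv, map_one]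
    exact left_inv_eq_right_inv h1 h2
  refine ⟨L, inferInstance, inferInstance, hA''.etale, hA''.bijective, C (v : L) * g₁.map ι, C (↑v⁻¹ : L) * h₁.map ι, ?_, ?_, ?_⟩
  · rw [show C (v : L) * g₁.map ι * (C (↑v⁻¹ : L) * h₁.map ι) = (C (v : L) * C (↑v⁻¹ : L)) * (g₁.map ι * h₁.map ι) by ring,
      ← map_mul, Units.mul_inv, map_one, one_mul, ← Polynomial.map_mul, ← hprod, Polynomial.map_map,
      ← IsScalarTower.algebraMap_eq]
  · rw [Polynomial.map_mul, map_C, hqv, hmap _ _ hgr, Polynomial.map_mul, map_C, ← mul_assoc, ← map_mul,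
      ← map_mul, Units.mul_inv, map_one, map_one, one_mul]
  · rw [Polynomial.map_mul, map_C, hqv', hmap _ _ hhr, Polynomial.map_mul, map_C, ← mul_assoc, ← map_mul,
      ← map_mul, Units.inv_mul, map_one, map_one, one_mul]

end Groth.Agent.S1957
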