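import Groth.Statements.S1959
import Mathlib

set_option autoImplicit false
universe u
open Polynomial
open EtAlg

namespace Groth.Agent.S1959

/-- Let I be an ideal of a ring A, A -> B an integral ring map and b an element of B whose image in B/IB
is idempotent. Then there are d ≥ 1 and a monic polynomial f over A with f(b) = 0 whose reduction
modulo I is x^d (x - 1)^d. -/
theorem result (A B : Type u) [CommRing A] [CommRing B] [Algebra A B]
    [Algebra.IsIntegral A B] (I : Ideal A) (b : B)
    (hb : IsIdempotentElem (Ideal.Quotient.mk (I.map (algebraMap A B)) b)) :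
    ∃ (f : A[X]) (d : ℕ), f.Monic ∧ 1 ≤ d ∧ aeval b f = 0 ∧
      f.map (Ideal.Quotient.mk I) = X ^ d * (X - 1) ^ d := by
  have hmem : b ^ 2 - b ∈ I.map (algebraMap A B) := by
    rw [← Ideal.Quotient.eq_zero_iff_mem, map_sub, map_pow, sq, hb.eq, sub_self]
  obtain ⟨p, hp, hp0, hpI⟩ := Polynomial.exists_monic_aeval_eq_zero_forall_mem_of_mem_map hmem
  rcases subsingleton_or_nontrivial A with hA | hA
  · exact ⟨1, 1, Polynomial.monic_one, le_rfl, by
      haveI : Subsingleton B := (algebraMap A B).codomain_trivial
      exact Subsingleton.elim _ _, by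
      haveI : Subsingleton (A ⧸ I) := (Ideal.Quotient.mk I).codomain_trivial
      exact Subsingleton.elim _ _⟩
  have hmap : p.map (Ideal.Quotient.mk I) = X ^ p.natDegree := by
    ext i
    rw [Polynomial.coeff_map, Polynomial.coeff_X_pow]
    split_ifs with h
    · rw [h, hp.coeff_natDegree, map_one]
    · exact Ideal.Quotient.eq_zero_iff_mem.mpr (hpI i h)
  refine ⟨(p * X).comp (X ^ 2 - X), p.natDegree + 1, ?_, by omega, ?_, ?_⟩
  · have hd : ((X : A[X]) ^ 2 - X).natDegree = 2 := by
      rw [Polynomial.natDegree_sub_eq_left_of_natDegree_lt (by simp), Polynomial.natDegree_X_pow]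
    refine Polynomial.Monic.comp (hp.mul Polynomial.monic_X) ?_ (by rw [hd]; norm_num)
    exact (Polynomial.monic_X_pow 2).sub_of_left (by rw [Polynomial.degree_X, Polynomial.degree_X_pow]; norm_num)
  · rw [Polynomial.aeval_comp, map_mul, Polynomial.aeval_X, map_sub, map_pow, Polynomial.aeval_X, hp0, zero_mul]
  · rw [Polynomial.map_comp, Polynomial.map_mul, hmap, Polynomial.map_X, Polynomial.map_sub, Polynomial.map_pow,
      Polynomial.map_X, ← pow_succ, Polynomial.pow_comp, Polynomial.X_comp, ← mul_pow]
    ring

end Groth.Agent.S1959
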