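import Groth.Statements.S19590
import Mathlib.LinearAlgebra.Matrix.GeneralLinearGroup.Defs
import Mathlib.GroupTheory.OrderOfElement
import Mathlib.Data.ZMod.Basic
import Mathlib.Tactic.NoncommRing

set_option autoImplicit false
open BddFin

namespace Groth.Agent.S19590

variable {n : ℕ}

theorem exists_pow_expand {R : Type*} [Ring R] (x : R) (p : ℕ) : ∃ r : R, (1 + x) ^ p = 1 + p • x + x ^ 2 * r := by
  induction p with
  | zero => exact ⟨0, by simp⟩
  | succ p ih =>
    obtain ⟨r, hr⟩ := ih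
    refine ⟨(p : R) + r + r * x, ?_⟩
    rw [pow_succ, hr, succ_nsmul, nsmul_eq_mul]
    have hc : (p : R) * x = x * (p : R) := Nat.cast_comm p x
    rw [mul_add, mul_one, pow_two]
    rw [show (1 + (p : R) * x + x * x * r) * x = x + (p : R) * x * x + x * x * r * x from by noncomm_ring]
    rw [show x * x * ((p : R) + r + r * x) = (p : R) * x * x + x * x * r + x * x * (r * x) from by
      rw [mul_add, mul_add, show x * x * (p : R) = (p : R) * x * x from by rw [mul_assoc, ← hc, ← mul_assoc, ← hc]]] 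
    noncomm_ring

theorem smul_cancel {c : ℤ} (hc : c ≠ 0) {A B : Matrix (Fin n) (Fin n) ℤ} (h : c • A = c • B) : A = B := by
  ext i j
  have := congrArg (fun M : Matrix (Fin n) (Fin n) ℤ => M i j) h
  simp only [Matrix.smul_apply, smul_eq_mul] at this
  exact mul_left_cancel₀ hc this

theorem step {p : ℕ} (hp : p.Prime) {i : ℕ} {A : Matrix (Fin n) (Fin n) ℤ}
    (h : (1 + (3 : ℤ) ^ (i + 1) • A) ^ p = 1) : ∃ A', A = (3 : ℤ) • A' := by
  have h3 : ((3 : ℤ) ^ (i + 1)) ≠ 0 := pow_ne_zero _ (by norm_num)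
  by_cases hp3 : p = 3
  · subst hp3
    have e : (1 + (3 : ℤ) ^ (i + 1) • A) ^ 3 = 1 + (3 : ℤ) ^ (i + 1) • ((3 : ℤ) • (A + (3 : ℤ) ^ (i + 1) • (A * A)) +
        ((3 : ℤ) ^ (i + 1) * (3 : ℤ) ^ (i + 1)) • (A * A * A)) := by
      generalize (3 : ℤ) ^ (i + 1) = c
      simp only [pow_succ, pow_zero, one_mul, add_mul, mul_add, one_mul, mul_one, smul_mul_assoc, mul_smul_comm,
        smul_add, smul_smul]
      module
    rw [e] at h
    have h1 := smul_cancel h3 ((add_eq_left.mp h).trans (smul_zero _).symm)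
    refine ⟨-((3 : ℤ) ^ i • (A * A)) - ((3 : ℤ) ^ i * (3 : ℤ) ^ i) • (A * A * A), ?_⟩
    apply smul_cancel (c := (3 : ℤ)) (by norm_num)
    rw [← sub_eq_zero]
    conv_rhs => rw [← h1]
    simp only [pow_succ]
    module
  · obtain ⟨r, hr⟩ := exists_pow_expand ((3 : ℤ) ^ (i + 1) • A) p
    rw [hr, add_assoc] at h
    have h2 : (3 : ℤ) ^ (i + 1) • ((p : ℤ) • A + (3 : ℤ) ^ (i + 1) • (A * A * r)) = (3 : ℤ) ^ (i + 1) • 0 := by
      rw [smul_zero, ← add_eq_left.mp h, pow_two, ← natCast_zsmul]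
      simp only [smul_mul_assoc, mul_smul_comm, smul_add, smul_smul]
      module
    have h1 := smul_cancel h3 h2
    have hcop : IsCoprime (p : ℤ) 3 := by
      rw [show (3 : ℤ) = ((3 : ℕ) : ℤ) from rfl, Nat.isCoprime_iff_coprime]
      exact (Nat.coprime_primes hp Nat.prime_three).mpr hp3
    obtain ⟨a, b, hab⟩ := hcop
    refine ⟨b • A - a • ((3 : ℤ) ^ i • (A * A * r)), ?_⟩
    calc A = (a * (p : ℤ) + b * 3) • A := by rw [hab, one_smul]
      _ = a • ((p : ℤ) • A) + (b * 3) • A := by rw [add_smul, mul_smul a]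
      _ = a • (-((3 : ℤ) ^ (i + 1) • (A * A * r))) + (b * 3) • A := by rw [eq_neg_of_add_eq_zero_left h1]
      _ = _ := by simp only [pow_succ]; module

theorem eq_one_of_prime {p : ℕ} (hp : p.Prime) {g : Matrix (Fin n) (Fin n) ℤ} (hg : g ^ p = 1)
    (h1 : ∃ A, g = 1 + (3 : ℤ) • A) : g = 1 := by
  have key : ∀ i : ℕ, ∃ A, g = 1 + (3 : ℤ) ^ (i + 1) • A := by
    intro i
    induction i with
    | zero => simpa using h1
    | succ i ih =>
      obtain ⟨A, rfl⟩ := ih
      obtain ⟨A', rfl⟩ := step hp hg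
      exact ⟨A', by rw [smul_smul, ← pow_succ]⟩
  ext a b
  by_contra hne
  obtain ⟨A, hA⟩ := key ((g a b - (1 : Matrix (Fin n) (Fin n) ℤ) a b).natAbs)
  have hdvd : (3 : ℤ) ^ ((g a b - (1 : Matrix (Fin n) (Fin n) ℤ) a b).natAbs + 1) ∣
      g a b - (1 : Matrix (Fin n) (Fin n) ℤ) a b := ⟨A a b, by
    conv_lhs => arg 1; rw [hA]
    simp only [Matrix.add_apply, Matrix.smul_apply, smul_eq_mul, add_sub_cancel_left]⟩
  have hle := Int.natAbs_le_of_dvd_ne_zero hdvd (sub_ne_zero.mpr hne)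
  rw [Int.natAbs_pow, show Int.natAbs 3 = 3 from rfl] at hle
  have := Nat.lt_pow_self (n := (g a b - (1 : Matrix (Fin n) (Fin n) ℤ) a b).natAbs + 1) (show 1 < 3 by norm_num)
  omega

/-- For every n, the orders of the finite subgroups of GL_n(ℤ) are bounded: there is B such that every
finite subgroup of GL_n(ℤ) has at most B elements. -/
theorem result (n : ℕ) :
    ∃ B : ℕ, ∀ H : Subgroup (Matrix.GeneralLinearGroup (Fin n) ℤ), Finite H → Nat.card H ≤ B := by
  refine ⟨Nat.card (Matrix.GeneralLinearGroup (Fin n) (ZMod 3)), fun H hH => ?_⟩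
  let φ : H →* Matrix.GeneralLinearGroup (Fin n) (ZMod 3) :=
    (Matrix.GeneralLinearGroup.map (Int.castRingHom (ZMod 3))).comp H.subtype
  refine Nat.card_le_card_of_injective φ ((injective_iff_map_eq_one φ).mpr fun h hh => ?_)
  by_contra hne
  have hfo : IsOfFinOrder h := isOfFinOrder_of_finite h
  obtain ⟨p, hp, m, hm⟩ := Nat.exists_prime_and_dvd (fun e => hne (orderOf_eq_one_iff.mp e))
  have hm0 : m ≠ 0 := fun e => hfo.orderOf_pos.ne' (by rw [hm, e, mul_zero])
  have hg1 : h ^ m ≠ 1 := by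
    refine pow_ne_one_of_lt_orderOf hm0 ?_
    rw [hm]
    exact lt_mul_of_one_lt_left (Nat.pos_of_ne_zero hm0) hp.one_lt
  let g : Matrix (Fin n) (Fin n) ℤ := ((h ^ m : H) : Matrix.GeneralLinearGroup (Fin n) ℤ).val
  have hgp : g ^ p = 1 := by
    have e : (h ^ m) ^ p = 1 := by rw [← pow_mul, mul_comm, ← hm, pow_orderOf_eq_one]
    show ((h ^ m : H) : Matrix.GeneralLinearGroup (Fin n) ℤ).val ^ p = 1
    rw [← Units.val_pow_eq_pow_val, ← SubgroupClass.coe_pow, e]
    rfl
  refine hg1 (Subtype.ext (Units.ext (eq_one_of_prime hp hgp ?_)))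
  have hmod : φ (h ^ m) = 1 := by rw [map_pow, hh, one_pow]
  have hent : ∀ a b, (3 : ℤ) ∣ g a b - (1 : Matrix (Fin n) (Fin n) ℤ) a b := by
    intro a b
    rw [show (3 : ℤ) = ((3 : ℕ) : ℤ) from rfl, ← ZMod.intCast_eq_intCast_iff_dvd_sub]
    have e : ((g a b : ℤ) : ZMod 3) = (1 : Matrix (Fin n) (Fin n) (ZMod 3)) a b :=
      congrArg (fun M : Matrix.GeneralLinearGroup (Fin n) (ZMod 3) => M.val a b) hmod
    rw [e]
    by_cases hab : a = b
    · subst hab; simp
    · simp [Matrix.one_apply_ne hab]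
  choose A hA using hent
  exact ⟨Matrix.of fun a b => A a b, by
    ext a b
    show g a b = _
    simp only [Matrix.add_apply, Matrix.smul_apply, Matrix.of_apply, smul_eq_mul, ← hA a b, add_sub_cancel]⟩

end Groth.Agent.S19590
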