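import Groth.Statements.S19591
import Mathlib

set_option autoImplicit false
set_option linter.style.haveILetI false
universe u v
open BddFin

namespace Groth.Agent.S19591

/-- Let K be a perfect field of characteristic 2, V a finite-dimensional K-vector space with dim V > 2
and q a quadratic form on V whose polar bilinear form is non-degenerate. Then q represents zero
non-trivially. (Non-degeneracy of the polar form, which is alternating in characteristic 2, forces
dim V to be even, as the published lemma notes.) -/
theorem result
    (K : Type u) [Field K] [CharP K 2] [PerfectField K]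
    (V : Type v) [AddCommGroup V] [Module K V] [FiniteDimensional K V]
    (hV : 2 < Module.finrank K V) (q : QuadraticForm K V)
    (hq : (QuadraticMap.polarBilin q).Nondegenerate) :
    ∃ v : V, v ≠ 0 ∧ q v = 0 := by
  classical
  haveI : Nontrivial V := Module.nontrivial_of_finrank_pos (R := K) (by omega)
  obtain ⟨u, hu⟩ := exists_ne (0 : V)
  by_cases hqu : q u = 0
  · exact ⟨u, hu, hqu⟩
  let l : V →ₗ[K] K := QuadraticMap.polarBilin q u
  have hker : 2 ≤ Module.finrank K (LinearMap.ker l) := by
    have h1 := LinearMap.finrank_range_add_finrank_ker l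
    have h2 : Module.finrank K (LinearMap.range l) ≤ 1 := (Submodule.finrank_le _).trans (le_of_eq (Module.finrank_self K))
    omega
  obtain ⟨w, hw, hwu⟩ : ∃ w ∈ LinearMap.ker l, w ∉ Submodule.span K {u} := by
    by_contra hc
    push Not at hc
    have : Module.finrank K (LinearMap.ker l) ≤ Module.finrank K (Submodule.span K {u}) := Submodule.finrank_mono hc
    rw [finrank_span_singleton hu] at this
    omega
  obtain ⟨a, ha⟩ := (PerfectRing.bijective_frobenius (R := K) (p := 2)).2 (q w / q u)
  simp only [] at ha
  refine ⟨a • u + w, ?_, ?_⟩
  · intro h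
    apply hwu
    rw [Submodule.mem_span_singleton]
    exact ⟨-a, by rw [neg_smul, neg_eq_iff_eq_neg]; exact eq_neg_of_add_eq_zero_left h⟩
  · have hl : QuadraticMap.polar q u w = 0 := by
      have := LinearMap.mem_ker.mp hw
      rwa [QuadraticMap.polarBilin_apply_apply] at this
    rw [QuadraticMap.map_add (f := ⇑q), QuadraticMap.polar_smul_left, hl, smul_zero, add_zero, QuadraticMap.map_smul, smul_eq_mul, ← sq, ha,
      div_mul_cancel₀ _ hqu, ← two_mul, CharTwo.two_eq_zero, zero_mul]

end Groth.Agent.S19591
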