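import Groth.Statements.S19595
import Groth.Agent.H7.Node.Auto
import Groth.Agent.H7.Node.Smooth

set_option autoImplicit false
set_option backward.isDefEq.respectTransparency false
universe u
open ArLef

namespace Groth.Agent.S19595

/-- In the case of a smooth point lying on the divisorial part of the fixed locus with multiplicity i
strictly between 0 and j, let B be a discrete valuation ring with uniformizer π and residue field k,
B[[t]] the complete local ring of a semi-stable arithmetic surface over B at a point x where the
closed fibre is smooth, and σ a ring automorphism of B[[t]] with σ(π) = π + γ π^j (γ a unit of B, j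
≥ 1) and σ(b) - b ∈ π^j B[[t]] for all b ∈ B (σ lies over an automorphism τ of B with v(τ(π) - π) =
j). Suppose σ(t) - t = π^i f with 0 < i < j and π not dividing f, so that the fixed-point ideal I of
σ is (π^j, π^i f) and its divisorial part near x is the closed fibre with multiplicity i. Then the
residual fixed-point scheme, with ideal (I : π^i), has length (j - i) m at x, where m is the length
of k[[t]]/(f mod π) (the order at x of the derivation induced by σ on the closed fibre). -/
theorem result (B : Type u) [CommRing B] [IsDomain B] [IsDiscreteValuationRing B] (π : B) (hπ : Irreducible π)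
    (j i : ℕ) (hi : 0 < i) (hij : i < j) (γ : B) (hγ : IsUnit γ)
    (σ : PowerSeries B ≃+* PowerSeries B)
    (hσB : ∀ b : B, σ (algebraMap B (PowerSeries B) b) - algebraMap B (PowerSeries B) b ∈
      Ideal.span ({algebraMap B (PowerSeries B) (π ^ j)} : Set (PowerSeries B)))
    (hσπ : σ (algebraMap B (PowerSeries B) π) = algebraMap B (PowerSeries B) (π + γ * π ^ j))
    (f : PowerSeries B) (hf : σ PowerSeries.X - PowerSeries.X = algebraMap B (PowerSeries B) (π ^ i) * f)
    (hfπ : ¬ (algebraMap B (PowerSeries B) π ∣ f)) :
    Module.length (PowerSeries B) (PowerSeries B ⧸ (ArLef.fixIdeal σ).colon ({algebraMap B (PowerSeries B) (π ^ i)} : Set (PowerSeries B))) =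
      ((j - i : ℕ) : ℕ∞) * Module.length (PowerSeries (IsLocalRing.ResidueField B)) (PowerSeries (IsLocalRing.ResidueField B) ⧸
        Ideal.span ({PowerSeries.map (IsLocalRing.residue B) f} : Set (PowerSeries (IsLocalRing.ResidueField B)))) := by
  open Groth.Agent.H7.Node in
  rw [Smooth.fixIdeal_eq hπ σ j γ hγ hσB hσπ, hf, map_pow]
  set p := algebraMap B (PowerSeries B) π
  have hI : Ideal.span {p ^ i * f, p ^ j} = Ideal.span {p ^ i} * Ideal.span {f, p ^ (j - i)} := by
    rw [Ideal.span_mul_span', Set.singleton_mul, Set.image_pair, ← pow_add, Nat.add_sub_cancel' hij.le]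
  rw [hI]
  have hc : (Ideal.span {p ^ i} * Ideal.span {f, p ^ (j - i)}).colon ({p ^ i} : Set (PowerSeries B)) = Ideal.span {f, p ^ (j - i)} := by
    ext r
    rw [Submodule.mem_colon_singleton, smul_eq_mul, mul_comm r (p ^ i), Ideal.mem_span_singleton_mul]
    exact ⟨fun ⟨z, hz, he⟩ => (Smooth.regPi hπ).pow i he ▸ hz, fun h => ⟨r, h, rfl⟩⟩
  rw [hc]
  exact Smooth.len_pow hπ hfπ (j - i)

end Groth.Agent.S19595
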