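import Groth.Statements.S19596
import Groth.Agent.H7.Node.Auto

set_option autoImplicit false
set_option backward.isDefEq.respectTransparency false
universe u
open ArLef ArLef.NodeAlg

namespace Groth.Agent.S19596

/-- In the cases where σ fixes the two branches through the point, these lie on different components,
and the second branch lies in the divisorial part of the fixed locus with multiplicity i₂ strictly
between 0 and j while the first has multiplicity i₁ ≤ i₂, let B be a discrete valuation ring with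
uniformizer π, N = B[[t, e]]/(te - π) the complete local ring of a semi-stable arithmetic surface
over B at a singular point x of the closed fibre, and σ a ring automorphism of N with σ(π) = π + γ
π^j (γ a unit of B, j ≥ 1) and σ(c) - c ∈ π^j N for all c ∈ B. Suppose σ(t) = α t and σ(e) = β e
with units α, β, and α - 1 = t^{i₁} e^{i₂} a, β - 1 = t^{i₁} e^{i₂} b with i₁ ≤ i₂, 0 < i₂ < j, e
not dividing a and t not dividing b. Then, I being the fixed-point ideal of σ, whose divisorial part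
near x is t^{i₁} e^{i₂}, the residual fixed-point scheme with ideal (I : t^{i₁} e^{i₂}) has length 1
+ (j - i₁)·Leng N/(t, b) + (j - i₂)·Leng N/(e, a) at x; here Leng N/(t, b) + i₂ + 1 and Leng N/(e,
a) + i₁ + 1 are the orders at x of the derivations σ induces on the two components (the fixed-point
multiplicities when the component is outside the divisorial part). -/
theorem result (B : Type u) [CommRing B] [IsDomain B] [IsDiscreteValuationRing B] (π : B) (hπ : Irreducible π)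
    (j i₁ i₂ : ℕ) (h12 : i₁ ≤ i₂) (h2 : 0 < i₂) (h2j : i₂ < j) (γ : B) (hγ : IsUnit γ)
    (σ : ArLef.NodeAlg B π ≃+* ArLef.NodeAlg B π)
    (hσB : ∀ c : B, σ (algebraMap B (ArLef.NodeAlg B π) c) - algebraMap B (ArLef.NodeAlg B π) c ∈
      Ideal.span ({algebraMap B (ArLef.NodeAlg B π) (π ^ j)} : Set (ArLef.NodeAlg B π)))
    (hσπ : σ (algebraMap B (ArLef.NodeAlg B π) π) = algebraMap B (ArLef.NodeAlg B π) (π + γ * π ^ j))
    (α β : (ArLef.NodeAlg B π)ˣ) (ht : σ (ArLef.NodeAlg.t π) = (α : ArLef.NodeAlg B π) * ArLef.NodeAlg.t π) (he : σ (ArLef.NodeAlg.e π) = (β : ArLef.NodeAlg B π) * ArLef.NodeAlg.e π)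
    (a b : ArLef.NodeAlg B π) (ha : (α : ArLef.NodeAlg B π) - 1 = ArLef.NodeAlg.t π ^ i₁ * ArLef.NodeAlg.e π ^ i₂ * a) (hb : (β : ArLef.NodeAlg B π) - 1 = ArLef.NodeAlg.t π ^ i₁ * ArLef.NodeAlg.e π ^ i₂ * b)
    (hea : ¬ (ArLef.NodeAlg.e π ∣ a)) (htb : ¬ (ArLef.NodeAlg.t π ∣ b)) :
    Module.length (ArLef.NodeAlg B π) (ArLef.NodeAlg B π ⧸ (ArLef.fixIdeal σ).colon ({ArLef.NodeAlg.t π ^ i₁ * ArLef.NodeAlg.e π ^ i₂} : Set (ArLef.NodeAlg B π))) =
      1 + ((j - i₁ : ℕ) : ℕ∞) * Module.length (ArLef.NodeAlg B π) (ArLef.NodeAlg B π ⧸ Ideal.span ({ArLef.NodeAlg.t π, b} : Set (ArLef.NodeAlg B π))) +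
        ((j - i₂ : ℕ) : ℕ∞) * Module.length (ArLef.NodeAlg B π) (ArLef.NodeAlg B π ⧸ Ideal.span ({ArLef.NodeAlg.e π, a} : Set (ArLef.NodeAlg B π))) := by
  open Groth.Agent.H7.Node in
  obtain ⟨k, rfl⟩ : ∃ k, j = k + 1 := ⟨j - 1, by omega⟩
  have H := br hπ
  have hr := rel hπ σ _ _ k γ hσπ ht he
  rw [fix_eq hπ σ (k + 1) γ hγ hσB hσπ, ht, he]
  set T := ArLef.NodeAlg.t π
  set E := ArLef.NodeAlg.e π
  obtain ⟨m, rfl⟩ : ∃ m, k = i₁ + m := ⟨k - i₁, by omega⟩
  obtain ⟨n, hn⟩ : ∃ n, i₁ + m = i₂ + n := ⟨i₁ + m - i₂, by omega⟩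
  have hk : T ^ (i₁ + m) * E ^ (i₁ + m) = (T ^ i₁ * E ^ i₂) * (T ^ m * E ^ n) := by
    rw [pow_add T, show E ^ (i₁ + m) = E ^ i₂ * E ^ n by rw [← pow_add, hn]]; ring
  set D := T ^ i₁ * E ^ i₂ with hD
  have rD : IsLeftRegular D := (H.regT.pow _).mul (H.regE.pow _)
  have hrel : a + (α : ArLef.NodeAlg B π) * b = algebraMap B _ γ * (T ^ m * E ^ n) := by
    refine rD ?_
    show D * _ = D * _
    rw [hk] at hr
    linear_combination hr - ha - (α : ArLef.NodeAlg B π) * hb
  have eI : Ideal.span {T ^ (i₁ + m + 1) * E ^ (i₁ + m + 1), (α : ArLef.NodeAlg B π) * T - T, (β : ArLef.NodeAlg B π) * E - E}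
      = Ideal.span {D} * Ideal.span {T ^ (m + 1) * E ^ (n + 1), a * T, b * E} := by
    rw [Ideal.span_mul_span', Set.singleton_mul, Set.image_insert_eq, Set.image_pair,
      show (α : ArLef.NodeAlg B π) * T - T = D * (a * T) by linear_combination T * ha,
      show (β : ArLef.NodeAlg B π) * E - E = D * (b * E) by linear_combination E * hb,
      show T ^ (i₁ + m + 1) * E ^ (i₁ + m + 1) = D * (T ^ (m + 1) * E ^ (n + 1)) by
        rw [pow_succ, pow_succ, show T ^ (i₁ + m) * T * (E ^ (i₁ + m) * E) = T ^ (i₁ + m) * E ^ (i₁ + m) * (T * E) by ring, hk, pow_succ, pow_succ]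
        ring]
  rw [eI, ideal_colon_eq (colon_mul rD _)]
  refine (H.master m n a b _ _ α.isUnit hrel hea htb).trans ?_
  rw [show i₁ + m + 1 - i₁ = m + 1 by omega, show i₁ + m + 1 - i₂ = n + 1 by omega]
  ring

end Groth.Agent.S19596
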