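import Groth.Statements.S19597
import Groth.Agent.H7.Node.Auto

set_option autoImplicit false
set_option backward.isDefEq.respectTransparency false
universe u
open ArLef ArLef.NodeAlg

namespace Groth.Agent.S19597

/-- In the cases where σ fixes the two branches through the point, these lie on different components,
the second lies in the divisorial part of the fixed locus with the maximal multiplicity j and the
first with multiplicity i₁ < j, let B be a discrete valuation ring with uniformizer π, N = B[[t,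
e]]/(te - π) the complete local ring of a semi-stable arithmetic surface over B at a singular point
x of the closed fibre, and σ a ring automorphism of N with σ(π) = π + γ π^j (γ a unit of B, j ≥ 1)
and σ(c) - c ∈ π^j N for all c ∈ B. Suppose σ(t) = α t and σ(e) = β e with units α, β, that α - 1 =
t^{i₁} e^j a and β - 1 = t^{i₁} e^{j-1} b with i₁ < j and t not dividing b. Then, I being the
fixed-point ideal of σ, whose divisorial part near x is t^{i₁} e^j, the length l of the residual
fixed-point scheme with ideal (I : t^{i₁} e^j) satisfies l + (j - 1 - i₁) = (j - i₁)·Leng N/(t, b);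
for i₁ = 0, Leng N/(t, b) + j is the fixed-point multiplicity s₁ of σ at x on the first component
and l = j (s₁ - j - 1) + 1. -/
theorem result (B : Type u) [CommRing B] [IsDomain B] [IsDiscreteValuationRing B] (π : B) (hπ : Irreducible π)
    (j i₁ : ℕ) (h1 : i₁ < j) (γ : B) (hγ : IsUnit γ)
    (σ : ArLef.NodeAlg B π ≃+* ArLef.NodeAlg B π)
    (hσB : ∀ c : B, σ (algebraMap B (ArLef.NodeAlg B π) c) - algebraMap B (ArLef.NodeAlg B π) c ∈
      Ideal.span ({algebraMap B (ArLef.NodeAlg B π) (π ^ j)} : Set (ArLef.NodeAlg B π)))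
    (hσπ : σ (algebraMap B (ArLef.NodeAlg B π) π) = algebraMap B (ArLef.NodeAlg B π) (π + γ * π ^ j))
    (α β : (ArLef.NodeAlg B π)ˣ) (ht : σ (ArLef.NodeAlg.t π) = (α : ArLef.NodeAlg B π) * ArLef.NodeAlg.t π) (he : σ (ArLef.NodeAlg.e π) = (β : ArLef.NodeAlg B π) * ArLef.NodeAlg.e π)
    (a b : ArLef.NodeAlg B π) (ha : (α : ArLef.NodeAlg B π) - 1 = ArLef.NodeAlg.t π ^ i₁ * ArLef.NodeAlg.e π ^ j * a) (hb : (β : ArLef.NodeAlg B π) - 1 = ArLef.NodeAlg.t π ^ i₁ * ArLef.NodeAlg.e π ^ (j - 1) * b)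
    (htb : ¬ (ArLef.NodeAlg.t π ∣ b)) :
    Module.length (ArLef.NodeAlg B π) (ArLef.NodeAlg B π ⧸ (ArLef.fixIdeal σ).colon ({ArLef.NodeAlg.t π ^ i₁ * ArLef.NodeAlg.e π ^ j} : Set (ArLef.NodeAlg B π))) + ((j - 1 - i₁ : ℕ) : ℕ∞) =
      ((j - i₁ : ℕ) : ℕ∞) * Module.length (ArLef.NodeAlg B π) (ArLef.NodeAlg B π ⧸ Ideal.span ({ArLef.NodeAlg.t π, b} : Set (ArLef.NodeAlg B π))) := by
  open Groth.Agent.H7.Node in
  obtain ⟨k, rfl⟩ : ∃ k, j = k + 1 := ⟨j - 1, by omega⟩
  have H := br hπ
  have hr := rel hπ σ _ _ k γ hσπ ht he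
  rw [fix_eq hπ σ (k + 1) γ hγ hσB hσπ, ht, he]
  set T := ArLef.NodeAlg.t π
  set E := ArLef.NodeAlg.e π
  obtain ⟨m, rfl⟩ : ∃ m, k = i₁ + m := ⟨k - i₁, by omega⟩
  rw [Nat.add_sub_cancel] at hb
  set D := T ^ i₁ * E ^ (i₁ + m + 1) with hD
  have rD : IsLeftRegular D := (H.regT.pow _).mul (H.regE.pow _)
  have hDE : D = T ^ i₁ * E ^ (i₁ + m) * E := by rw [hD, pow_succ, mul_assoc]
  have hrel : E * a + (α : ArLef.NodeAlg B π) * b = algebraMap B _ γ * T ^ m := by
    refine (H.regT.pow i₁).mul (H.regE.pow (i₁ + m)) ?_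
    show T ^ i₁ * E ^ (i₁ + m) * _ = T ^ i₁ * E ^ (i₁ + m) * _
    rw [show T ^ (i₁ + m) = T ^ i₁ * T ^ m from pow_add _ _ _] at hr
    rw [hDE] at ha
    linear_combination hr - ha - (α : ArLef.NodeAlg B π) * hb
  have eI : Ideal.span {T ^ (i₁ + m + 1) * E ^ (i₁ + m + 1), (α : ArLef.NodeAlg B π) * T - T, (β : ArLef.NodeAlg B π) * E - E}
      = Ideal.span {D} * Ideal.span {T ^ (m + 1), a * T, b} := by
    rw [Ideal.span_mul_span', Set.singleton_mul, Set.image_insert_eq, Set.image_pair,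
      show (α : ArLef.NodeAlg B π) * T - T = D * (a * T) by linear_combination T * ha,
      show (β : ArLef.NodeAlg B π) * E - E = D * b by rw [hDE]; linear_combination E * hb,
      show T ^ (i₁ + m + 1) * E ^ (i₁ + m + 1) = D * T ^ (m + 1) by rw [hD, add_assoc i₁ m 1, pow_add T]; ring]
  rw [eI, ideal_colon_eq (colon_mul rD _), show i₁ + m + 1 - 1 - i₁ = m by omega, show i₁ + m + 1 - i₁ = m + 1 by omega]
  set J := Ideal.span {T ^ (m + 1), a * T, b} with hJ
  set uinv : ArLef.NodeAlg B π := ↑α⁻¹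
  have hbm : b ∈ Ideal.span {T ^ m, a} := Ideal.mem_span_pair.2
    ⟨uinv * algebraMap B _ γ, -(uinv * E), by linear_combination -uinv * hrel + b * α.inv_mul⟩
  have hcol : ∀ r, r ∈ Ideal.span {T ^ m, a} ↔ T * r ∈ J := by
    intro r
    constructor
    · intro h
      obtain ⟨x, y, rfl⟩ := Ideal.mem_span_pair.1 h
      rw [show T * (x * T ^ m + y * a) = x * T ^ (m + 1) + y * (a * T) by ring]
      exact add_mem (J.mul_mem_left _ (Ideal.subset_span (by simp))) (J.mul_mem_left _ (Ideal.subset_span (by simp)))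
    · intro h
      obtain ⟨x, z, hz, h⟩ := Ideal.mem_span_insert.1 h
      obtain ⟨y, y', rfl⟩ := Ideal.mem_span_pair.1 hz
      obtain ⟨q, rfl⟩ := (H.primeT.dvd_or_dvd (⟨r - x * T ^ m - y * a, by linear_combination -h⟩ : T ∣ y' * b)).resolve_right htb
      rw [show r = x * T ^ m + y * a + q * b from H.regT (by show T * r = T * _; linear_combination h)]
      exact add_mem (Ideal.mem_span_pair.2 ⟨x, y, rfl⟩) (Ideal.mul_mem_left _ _ hbm)
  have e1 : J ⊔ Ideal.span {T} = Ideal.span {T, b} := by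
    refine le_antisymm (sup_le ?_ (Ideal.span_mono (by simp))) ?_
    · rw [hJ, Ideal.span_le]
      rintro z (rfl | rfl | rfl)
      · exact Ideal.mem_span_pair.2 ⟨T ^ m, 0, by ring⟩
      · exact Ideal.mem_span_pair.2 ⟨a, 0, by ring⟩
      · exact Ideal.subset_span (by simp)
    · rw [Ideal.span_le]
      rintro z (rfl | rfl)
      · exact Submodule.mem_sup_right (Ideal.mem_span_singleton_self _)
      · exact Submodule.mem_sup_left (Ideal.subset_span (by simp))
  have hlen := len_colon J _ T hcol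
  rw [e1] at hlen
  have e2 : Ideal.span {T ^ m, E * a} = Ideal.span {T ^ m, b} := by
    refine le_antisymm ?_ ?_ <;> rw [Ideal.span_le]
    · rintro z (rfl | rfl)
      · exact Ideal.subset_span (by simp)
      · exact Ideal.mem_span_pair.2 ⟨algebraMap B _ γ, -(α : ArLef.NodeAlg B π), by linear_combination -hrel⟩
    · rintro z (rfl | rfl)
      · exact Ideal.subset_span (by simp)
      · exact Ideal.mem_span_pair.2 ⟨uinv * algebraMap B _ γ, -uinv, by linear_combination -uinv * hrel + z * α.inv_mul⟩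
  have hTm : len (Ideal.span {T ^ m, E}) = (m : ℕ∞) := by
    rw [Ideal.span_pair_comm, len_pair_pow E T (nzdMod_of_prime H.primeT H.notTE H.regT), H.len_swap, mul_one]
  have hneT : ¬ E ∣ T ^ m := fun h => H.notET (H.primeE.dvd_of_dvd_pow h)
  have key : (m : ℕ∞) + len (Ideal.span {T ^ m, a}) = (m : ℕ∞) * len (Ideal.span {T, b}) := by
    rw [← hTm, ← len_pair_mul (T ^ m) E a (nzdMod_of_prime H.primeE hneT H.regE), e2, hTm, Ideal.span_pair_comm,
      len_pair_pow b T (nzdMod_of_prime H.primeT htb H.regT), Ideal.span_pair_comm]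
  show len J + _ = _
  rw [hlen, add_right_comm, add_comm (len (Ideal.span {T ^ m, a})), key, Nat.cast_succ, add_mul, one_mul]

end Groth.Agent.S19597
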