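import Groth.Statements.S19603
import Groth.Agent.HopfRep.Points
import Mathlib.RingTheory.MvPolynomial.Homogeneous

set_option autoImplicit false
universe u
open GIT

namespace Groth.Agent.S19603

open TensorProduct

theorem sum_C_mul_X {T : Type*} [CommRing T] {ι : Type*} (s : Finset ι) (z : ι → T) :
    ∑ j ∈ s, Polynomial.C (z j) * Polynomial.X = Polynomial.C (∑ j ∈ s, z j) * Polynomial.X := by
  rw [map_sum, Finset.sum_mul]

theorem C_mul_X_mul_C {T : Type*} [CommRing T] (a b : T) :
    Polynomial.C a * Polynomial.X * Polynomial.C b = Polynomial.C (a * b) * Polynomial.X := by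
  rw [Polynomial.C_mul]
  ring


/-- For the whole projective space U = P(V), let k be an algebraically closed field of arbitrary
characteristic and G = Spec A a linearly reductive affine algebraic group acting linearly on affine
ι-space, and let v be a vector. Then some invariant homogeneous polynomial of positive degree is
non-zero at v (the point of v is semistable) if and only if the origin is not in the closure of the
orbit of v. -/
theorem result (k : Type u) [Field k] [IsAlgClosed k]
    (A : Type u) [CommRing A] [HopfAlgebra k A] [Algebra.FiniteType k A] (hG : HopfRep.IsLinearlyReductive k A)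
    (ι : Type u) [Fintype ι] [HopfRep.Comod k A (MvPolynomial ι k)] [GLin.IsCoactAlg k A (MvPolynomial ι k)]
    (hlin : GLin.IsLinear k A ι) (v : ι → k) :
    GLin.IsSemistableVec k A v ↔
      ¬ GLin.InOrbitClosure k A (GLin.vecPt k ι v) (GLin.vecPt k ι (fun _ => (0 : k))) := by
  obtain ⟨β, hβ⟩ := Groth.Agent.HopfRep.Integral.exists_integral hG
  refine ⟨fun hss hin => hss fun F hF d hd hhom => ?_, fun hnot hnull => hnot ?_⟩
  · have hmem : F - algebraMap k _ (MvPolynomial.eval v F) ∈ RingHom.ker (GLin.orbitHom k A (GLin.vecPt k ι v)) := by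
      rw [RingHom.mem_ker, map_sub, Groth.Agent.HopfRep.Points.orbitHom_of_invariant _ hF, AlgHom.commutes,
        sub_eq_zero]
      congr 1
    have h0 := RingHom.mem_ker.1 (hin hmem)
    rw [map_sub, AlgHom.commutes, sub_eq_zero] at h0
    have hF0 : GLin.vecPt k ι (fun _ => (0 : k)) F = 0 := by
      show MvPolynomial.aeval (fun _ : ι => (0 : k)) F = 0
      rw [show (fun _ : ι => (0 : k)) = 0 from rfl, MvPolynomial.aeval_zero, Algebra.algebraMap_self, RingHom.id_apply,
        MvPolynomial.constantCoeff_eq]
      exact hhom.coeff_eq_zero (by simpa using hd.ne)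
    rw [hF0] at h0
    exact h0.symm
  · -- homogeneous components of invariants are invariant
    choose m hm using hlin
    let τ : (MvPolynomial ι k) →ₐ[k] Polynomial (MvPolynomial ι k) := MvPolynomial.aeval fun i => Polynomial.C (MvPolynomial.X i) * Polynomial.X
    have hτX : ∀ i, τ (MvPolynomial.X i) = Polynomial.C (MvPolynomial.X i) * Polynomial.X := fun i =>
      MvPolynomial.aeval_X _ i
    have hτC : ∀ a : k, τ (MvPolynomial.C a) = Polynomial.C (MvPolynomial.C a) := fun a => by
      rw [← MvPolynomial.algebraMap_eq, AlgHom.commutes, IsScalarTower.algebraMap_apply k (MvPolynomial ι k) (Polynomial (MvPolynomial ι k)),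
        Polynomial.algebraMap_eq]
    have hτ : ∀ (p : (MvPolynomial ι k)) (d : ℕ), (τ p).coeff d = MvPolynomial.homogeneousComponent d p := by
      intro p d
      induction p using MvPolynomial.induction_on' with
      | add p q hp hq => simp [map_add, hp, hq]
      | monomial u a =>
        have hm : τ (MvPolynomial.monomial u a) = Polynomial.C (MvPolynomial.monomial u a) * Polynomial.X ^ u.degree := by
          rw [MvPolynomial.monomial_eq, map_mul, Polynomial.C_mul, map_finsuppProd, map_finsuppProd]
          simp only [hτC, map_pow, hτX,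
            mul_pow, Finsupp.prod, Finset.prod_mul_distrib, Finset.prod_pow_eq_pow_sum]
          rw [mul_assoc]
          simp only [map_prod, map_pow, Finsupp.degree_apply]
        rw [hm, Polynomial.coeff_C_mul_X_pow]
        by_cases h : d = u.degree
        · subst h
          rw [if_pos rfl, MvPolynomial.homogeneousComponent_eq_self (MvPolynomial.isHomogeneous_monomial a rfl)]
        · rw [if_neg h]
          exact (MvPolynomial.homogeneousComponent_of_mem
            ((MvPolynomial.mem_homogeneousSubmodule _ _).2 (MvPolynomial.isHomogeneous_monomial a rfl))).trans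
              (if_neg h) |>.symm
    let Θ : Polynomial (MvPolynomial ι k) ⊗[k] A →ₐ[k] Polynomial ((MvPolynomial ι k) ⊗[k] A) :=
      Algebra.TensorProduct.lift (Polynomial.mapAlgHom Algebra.TensorProduct.includeLeft)
        ((Polynomial.CAlgHom).comp Algebra.TensorProduct.includeRight)
          (fun x y => @mul_comm (Polynomial ((MvPolynomial ι k) ⊗[k] A)) _ _ _)
    have hΘt : ∀ p q, Θ (p ⊗ₜ[k] q) =
        p.map (Algebra.TensorProduct.includeLeft (R := k) (S := k) (A := (MvPolynomial ι k)) (B := A)).toRingHom *
          Polynomial.C ((1 : (MvPolynomial ι k)) ⊗ₜ[k] q) := fun p q => Algebra.TensorProduct.lift_tmul _ _ _ _ _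
    have key : Θ.comp ((Algebra.TensorProduct.map τ (AlgHom.id k A)).comp (GLin.coactAlgHom k A (MvPolynomial ι k))) =
        (Polynomial.mapAlgHom (GLin.coactAlgHom k A (MvPolynomial ι k))).comp τ := by
      refine AlgHom.coe_ringHom_injective (MvPolynomial.ringHom_ext (fun r => ?_) fun i => ?_)
      · simp only [RingHom.coe_coe]
        rw [← MvPolynomial.algebraMap_eq, AlgHom.commutes, AlgHom.commutes]
      · simp only [RingHom.coe_coe, AlgHom.comp_apply]
        have e : Polynomial.mapAlgHom (GLin.coactAlgHom k A (MvPolynomial ι k)) (τ (MvPolynomial.X i)) =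
            Polynomial.C (GLin.coactAlgHom k A (MvPolynomial ι k) (MvPolynomial.X i)) * Polynomial.X := by
          rw [hτX]
          simp [Polynomial.mapAlgHom]
        rw [e, GLin.coactAlgHom_apply, hm i, map_sum, map_sum, ← sum_C_mul_X]
        refine Finset.sum_congr rfl fun j _ => ?_
        rw [Algebra.TensorProduct.map_tmul, hΘt, hτX, AlgHom.id_apply, Polynomial.map_mul, Polynomial.map_C,
          Polynomial.map_X, C_mul_X_mul_C]
        simp
    have hcomp : ∀ (d : ℕ), ∀ F ∈ GLin.invariants k A (MvPolynomial ι k),
        MvPolynomial.homogeneousComponent d F ∈ GLin.invariants k A (MvPolynomial ι k) := by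
      intro d F hF
      have e := congrArg (fun q => q.coeff d) (AlgHom.congr_fun key F)
      simp only [AlgHom.comp_apply, GLin.coactAlgHom_apply, (GLin.mem_invariants_iff k A (MvPolynomial ι k) F).1 hF,
        Algebra.TensorProduct.map_tmul, hΘt, Polynomial.coeff_mul_C, Polynomial.coeff_map] at e
      have e2 : ((Polynomial.mapAlgHom (GLin.coactAlgHom k A (MvPolynomial ι k))) (τ F)).coeff d =
          GLin.coactAlgHom k A (MvPolynomial ι k) ((τ F).coeff d) := Polynomial.coeff_map _ _
      rw [e2, GLin.coactAlgHom_apply] at e
      rw [GLin.mem_invariants_iff, ← hτ, ← e]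
      simp
    obtain ⟨z, hz1, hz2⟩ := (Groth.Agent.HopfRep.Points.eq_on_invariants_iff hβ (GLin.vecPt k ι v)
      (GLin.vecPt k ι fun _ => (0 : k))).1 (fun F hF => by
      rw [← MvPolynomial.sum_homogeneousComponent F, map_sum, map_sum]
      refine Finset.sum_congr rfl fun d _ => ?_
      rcases Nat.eq_zero_or_pos d with rfl | hd
      · simp [MvPolynomial.homogeneousComponent_zero]
      · have h0 : GLin.vecPt k ι (fun _ => (0 : k)) (MvPolynomial.homogeneousComponent d F) = 0 := by
          show MvPolynomial.aeval (fun _ : ι => (0 : k)) _ = 0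
          rw [show (fun _ : ι => (0 : k)) = 0 from rfl, MvPolynomial.aeval_zero, Algebra.algebraMap_self,
            RingHom.id_apply, MvPolynomial.constantCoeff_eq]
          exact (MvPolynomial.homogeneousComponent_isHomogeneous d F).coeff_eq_zero (by simpa using hd.ne)
        rw [h0]
        exact hnull _ (hcomp d F hF) d hd (MvPolynomial.homogeneousComponent_isHomogeneous d F))
    have hzfix : z = GLin.vecPt k ι fun _ => (0 : k) := by
      refine MvPolynomial.algHom_ext fun i => ?_
      have h0 : GLin.orbitHom k A (GLin.vecPt k ι fun _ => (0 : k)) (MvPolynomial.X i) = 0 := by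
        rw [Groth.Agent.HopfRep.Points.orbitHom_apply, hm i]
        simp
      have := RingHom.mem_ker.1 (hz2 (RingHom.mem_ker.2 h0))
      simpa using this
    exact hzfix ▸ hz1

end Groth.Agent.S19603
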