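import Groth.Statements.S1961
import Groth.Agent.HensPair.Local
import Groth.Agent.HensPair.FormallyEtale

set_option autoImplicit false
universe u
open EtAlg

namespace Groth.Agent.S1961

/-- A henselization S of a local ring R (characterized by its universal property) is formally étale over
R. -/
theorem result (R S : Type u) [CommRing R] [IsLocalRing R] [CommRing S] [IsLocalRing S]
    [Algebra R S] [IsLocalHom (algebraMap R S)] [Hensel.IsHenselization R S] : Algebra.FormallyEtale R S := by
  exact HensPair.FormallyEtale.of_isPairHenselization HensPair.Local.isPairHenselization

end Groth.Agent.S1961
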