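import Groth.Statements.S19631
import Mathlib

set_option autoImplicit false
universe u
open Hyper

namespace Groth.Agent.S19631

open CategoryTheory CategoryTheory.Limits AlgebraicGeometry in
/-- Let f : X → Y be a morphism of schemes and X_• = cosk_0^Y(X) its Čech nerve, the simplicial scheme
over Y with X_p = X ×_Y ⋯ ×_Y X (p + 1 factors), face maps the projections forgetting one factor and
degeneracies induced by diagonals. Then X_•, as a simplicial object of the category of schemes over
Y, is n-coskeletal for every n, i.e. the adjunction morphisms X_• → cosk_n sk_n X_• (coskeleta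
relative to Y) are isomorphisms. In the source this is phrased as: for a class S of covering maps of
varieties containing the identities, X_• → Y is an S-hypercover whenever X → Y lies in S, the
adjunction maps X_p → (cosk_{p-1} sk_{p-1} X_•)_p being isomorphisms for p ≥ 1 and X_0 → Y being f.
(Stated for arbitrary schemes; the source has varieties over a field.) -/
theorem result (X Y : Scheme.{u}) (f : X ⟶ Y) (n : ℕ) :
    SimplicialObject.IsCoskeletal (cechNerveTerminalFrom (Over.mk f)) n := by
  let U := cechNerveTerminalFrom (Over.mk f)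
  let z : SimplexCategory.Truncated n := ⟨SimplexCategory.mk 0, Nat.zero_le n⟩
  let c : ∀ (m : SimplexCategoryᵒᵖ), Fin (m.unop.len + 1) → (m ⟶ Opposite.op (SimplexCategory.mk 0)) :=
    fun m i => (SimplexCategory.const (SimplexCategory.mk 0) m.unop i).op
  have hU : ∀ (m : SimplexCategoryᵒᵖ) (i : Fin (m.unop.len + 1)), U.map (c m i) ≫ Limits.Pi.π (fun _ : Fin 1 => Over.mk f) 0 = Limits.Pi.π (fun _ : Fin (m.unop.len + 1) => Over.mk f) i := by
    intro m i
    exact Limits.Pi.lift_π _ _
  let T := (SimplexCategory.Truncated.inclusion n).op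
  refine ⟨⟨⟨Limits.IsTerminal.ofUniqueHom (fun s => CostructuredArrow.homMk
    { app := fun m => Limits.Pi.lift fun i => s.left.map (c m i) ≫ s.hom.app (Opposite.op z) ≫ Limits.Pi.π (fun _ : Fin 1 => Over.mk f) 0
      naturality := ?_ } ?_) ?_⟩⟩⟩
  · intro m m' g
    apply Limits.Pi.hom_ext
    intro i
    simp only [Category.assoc, cechNerveTerminalFrom, Functor.RightExtension.mk, CostructuredArrow.mk_left, Limits.Pi.lift_π]
    rw [← Category.assoc, ← Functor.map_comp]
    have e : g ≫ c m' i = c m (g.unop.toOrderHom i) := by
      apply Quiver.Hom.unop_inj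
      exact SimplexCategory.const_comp _ _ _
    exact congrArg (fun t => s.left.map t ≫ s.hom.app (Opposite.op z) ≫ Limits.Pi.π (fun _ : Fin 1 => Over.mk f) 0) e
  · ext m : 2
    refine (Category.comp_id _).trans ?_
    apply Limits.Pi.hom_ext
    intro i
    refine (Limits.Pi.lift_π _ _).trans ?_
    let g : m ⟶ Opposite.op z := (InducedCategory.homMk (SimplexCategory.const (SimplexCategory.mk 0) m.unop.obj i) : z ⟶ m.unop).op
    have hn : s.left.map (c (T.obj m) i) ≫ s.hom.app (Opposite.op z) = s.hom.app m ≫ U.map (c (T.obj m) i) := s.hom.naturality g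
    refine (reassoc_of% hn) _ |>.trans ?_
    exact congrArg (fun t => s.hom.app m ≫ t) (hU (T.obj m) i)
  · intro s φ
    apply CostructuredArrow.hom_ext
    apply NatTrans.ext
    funext m
    apply Limits.Pi.hom_ext
    intro i
    refine Eq.trans ?_ (Limits.Pi.lift_π (fun i => s.left.map (c m i) ≫ s.hom.app (Opposite.op z) ≫ Limits.Pi.π (fun _ : Fin 1 => Over.mk f) 0) i).symm
    have h0 : φ.left.app (Opposite.op (SimplexCategory.mk 0)) = s.hom.app (Opposite.op z) :=
      (Category.comp_id _).symm.trans ((congrArg (fun t => t.app (Opposite.op z)) φ.w).trans (Category.comp_id _))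
    refine Eq.trans ?_ (congrArg (fun t => s.left.map (c m i) ≫ t ≫ Limits.Pi.π (fun _ : Fin 1 => Over.mk f) 0) h0)
    refine Eq.trans ?_ ((reassoc_of% (φ.left.naturality (c m i))) _).symm
    exact (congrArg (fun t => φ.left.app m ≫ t) (hU m i)).symm

end Groth.Agent.S19631
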