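import Groth.Statements.S19632
import Mathlib
-- import your own Groth.Agent.* helpers here

set_option autoImplicit false
universe u
open DeRham

namespace Groth.Agent.S19632

open LaurentPolynomial

/-- Let k be a field of characteristic zero and G_m = Spec k[t, t⁻¹] the multiplicative group. The
kernel of the differential d : k[t, t⁻¹] → Ω¹ of the de Rham complex of G_m consists of the
constants: for a Laurent polynomial f, df = 0 if and only if f lies in the image of k. Equivalently
H^0_dR(G_m/k) = k. (Characteristic zero is used: in characteristic p the element t^p is closed.) -/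
theorem result (k : Type u) [Field k] [CharZero k]
    (f : LaurentPolynomial k) :
    KaehlerDifferential.D k (LaurentPolynomial k) f = 0 ↔ f ∈ Set.range (algebraMap k (LaurentPolynomial k)) := by
  constructor
  · intro hf
    let θ : LaurentPolynomial k →ₗ[k] LaurentPolynomial k :=
      { toFun := fun g => AddMonoidAlgebra.ofCoeff (Finsupp.onFinset g.coeff.support (fun n => (n : k) * g.coeff n)
          (fun n hn => Finsupp.mem_support_iff.mpr (fun h => hn (by simp [h]))))
        map_add' := fun a b => by ext n; simp [mul_add]
        map_smul' := fun c a => by ext n; simp; ring }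
    have h2 : ∀ (g : LaurentPolynomial k) (n : ℤ), (θ g).coeff n = (n : k) * g.coeff n := by
      intro g n; simp [θ]
    have hθ : ∀ (n : ℤ) (a : k), θ (AddMonoidAlgebra.single n a) = AddMonoidAlgebra.single n ((n : k) * a) := by
      intro n a
      ext m
      rw [h2]
      by_cases hm : m = n
      · subst hm; simp [-single_eq_C_mul_T]
      · simp [-single_eq_C_mul_T, Finsupp.single_eq_of_ne, hm]
    have hL : ∀ a b, θ (a * b) = a • θ b + b • θ a := by
      intro a b
      induction a using LaurentPolynomial.induction_on' with
      | add p q hp hq => simp only [add_mul, map_add, hp, hq, smul_eq_mul]; ring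
      | C_mul_T m r =>
        induction b using LaurentPolynomial.induction_on' with
        | add p q hp hq => simp only [mul_add, map_add, hp, hq, smul_eq_mul]; ring
        | C_mul_T n s =>
          rw [← single_eq_C_mul_T, ← single_eq_C_mul_T, smul_eq_mul, smul_eq_mul,
            AddMonoidAlgebra.single_mul_single, hθ, hθ, hθ, AddMonoidAlgebra.single_mul_single,
            AddMonoidAlgebra.single_mul_single, add_comm n m, ← AddMonoidAlgebra.single_add]
          congr 1
          push_cast; ring
    let Δ : Derivation k (LaurentPolynomial k) (LaurentPolynomial k) := Derivation.mk' θ hL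
    have h0 : θ f = 0 := by
      have := congrArg Δ.liftKaehlerDifferential hf
      rwa [Derivation.liftKaehlerDifferential_comp_D, map_zero] at this
    refine ⟨f.coeff 0, ?_⟩
    ext n
    have hn : (n : k) * f.coeff n = 0 := by
      rw [← h2, h0]; simp
    rw [LaurentPolynomial.algebraMap_apply, LaurentPolynomial.C_apply]
    by_cases h : n = 0
    · simp [h]
    · simp only [h, if_false]
      exact ((mul_eq_zero.mp hn).resolve_left (Int.cast_ne_zero.mpr h)).symm
  · rintro ⟨a, rfl⟩
    exact Derivation.map_algebraMap _ a

end Groth.Agent.S19632
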