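import Groth.Statements.S19634
import Mathlib.RingTheory.Kaehler.Basic
import Mathlib.Algebra.Polynomial.Derivation
import Mathlib.RingTheory.MvPolynomial.Basic
import Mathlib.RingTheory.Ideal.Quotient.Operations

set_option autoImplicit false
universe u
open DeRham

namespace Groth.Agent.S19634

theorem kills {k : Type*} [Field k] {A : Type*} [CommRing A] [Algebra k A] (φ : A →ₐ[k] Polynomial k) (P : A)
    (h : KaehlerDifferential.D k A P = 0) : Polynomial.derivative (φ P) = 0 := by
  letI := φ.toRingHom.toAlgebra
  haveI : IsScalarTower k A (Polynomial k) := IsScalarTower.of_algebraMap_eq fun x => (φ.commutes x).symm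
  have h1 : KaehlerDifferential.D k (Polynomial k) (φ P) = 0 := by
    have := congrArg (KaehlerDifferential.map k k A (Polynomial k)) h
    rwa [KaehlerDifferential.map_D, map_zero] at this
  have h2 := congrArg (Polynomial.derivative' (R := k)).liftKaehlerDifferential h1
  rwa [Derivation.liftKaehlerDifferential_comp_D, map_zero] at h2


/-- Let k be a field of characteristic zero and A = k[X, Y]/(XY), the coordinate ring of two affine
lines crossing in a point. In the naive de Rham complex A → Ω¹_{A/k} the kernel of d consists of the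
constants: dP = 0 if and only if P is in the image of k. -/
theorem result (k : Type u) [Field k] [CharZero k]
    (P : MvPolynomial (Fin 2) k ⧸ Ideal.span {(MvPolynomial.X 0 * MvPolynomial.X 1 : MvPolynomial (Fin 2) k)}) :
    KaehlerDifferential.D k (MvPolynomial (Fin 2) k ⧸ Ideal.span {(MvPolynomial.X 0 * MvPolynomial.X 1 : MvPolynomial (Fin 2) k)}) P = 0 ↔
      P ∈ Set.range (algebraMap k (MvPolynomial (Fin 2) k ⧸ Ideal.span {(MvPolynomial.X 0 * MvPolynomial.X 1 : MvPolynomial (Fin 2) k)})) := by
  classical
  constructor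
  · intro hP
    obtain ⟨p, rfl⟩ := Ideal.Quotient.mk_surjective P
    have hder : ∀ v : Fin 2 → Polynomial k, v 0 * v 1 = 0 → Polynomial.derivative (MvPolynomial.aeval v p) = 0 := fun v hv => by
      let φ := Ideal.Quotient.liftₐ (Ideal.span {(MvPolynomial.X 0 * MvPolynomial.X 1 : MvPolynomial (Fin 2) k)}) (MvPolynomial.aeval v)
        (fun a ha => by
          obtain ⟨b, rfl⟩ := Ideal.mem_span_singleton'.1 ha
          simp [hv])
      have := kills φ _ hP
      exact this
    let v : Fin 2 → Polynomial k := ![Polynomial.X, 0]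
    let w : Fin 2 → Polynomial k := ![0, Polynomial.X]
    obtain ⟨c, hc⟩ : ∃ c, MvPolynomial.aeval v p = Polynomial.C c := ⟨_, Polynomial.eq_C_of_derivative_eq_zero (hder v (by simp [v]))⟩
    obtain ⟨c', hc'⟩ : ∃ c, MvPolynomial.aeval w p = Polynomial.C c := ⟨_, Polynomial.eq_C_of_derivative_eq_zero (hder w (by simp [w]))⟩
    have hz : ∀ u : Fin 2 → Polynomial k, (∀ i, (u i).eval 0 = 0) → (MvPolynomial.aeval u p).eval 0 = MvPolynomial.constantCoeff p := fun u hu => by
      rw [← Polynomial.coe_aeval_eq_eval, MvPolynomial.comp_aeval_apply]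
      simp [hu]
    have e1 := hz v (fun i => by fin_cases i <;> simp [v])
    have e2 := hz w (fun i => by fin_cases i <;> simp [w])
    rw [hc, Polynomial.eval_C] at e1
    rw [hc', Polynomial.eval_C] at e2
    refine ⟨c, Ideal.Quotient.eq.2 ?_⟩
    have hdvd : ∀ (i j : Fin 2) (u : Fin 2 → Polynomial k) (q : MvPolynomial (Fin 2) k), i ≠ j → u i = Polynomial.X → u j = 0 →
        MvPolynomial.aeval u q = 0 → MvPolynomial.X j ∣ q := fun i j u q hij hui huj hq => by
      rw [← Ideal.mem_span_singleton, ← Ideal.Quotient.eq_zero_iff_mem]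
      let m := Ideal.Quotient.mkₐ k (Ideal.span {(MvPolynomial.X j : MvPolynomial (Fin 2) k)})
      have hm : m = (Polynomial.aeval (m (MvPolynomial.X i))).comp (MvPolynomial.aeval u) := MvPolynomial.algHom_ext fun l => by
        obtain rfl | rfl : l = i ∨ l = j := by omega
        · simp [hui]
        · simp [huj, m, Ideal.Quotient.eq_zero_iff_mem, Ideal.mem_span_singleton]
      show m q = 0
      rw [hm]
      simp [hq]
    rw [Ideal.mem_span_singleton]
    have hv0 : MvPolynomial.aeval v (algebraMap k (MvPolynomial (Fin 2) k) c - p) = 0 := by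
      simp [hc]
    obtain ⟨q, hq⟩ := hdvd 0 1 v _ (by decide) rfl rfl hv0
    have hw0 : MvPolynomial.aeval w (algebraMap k (MvPolynomial (Fin 2) k) c - p) = 0 := by
      simp [hc', show c' = c from e2.trans e1.symm]
    rw [hq, map_mul, MvPolynomial.aeval_X, show w 1 = Polynomial.X from rfl, mul_eq_zero] at hw0
    obtain ⟨r, hr⟩ := hdvd 1 0 w q (by decide) rfl rfl (hw0.resolve_left Polynomial.X_ne_zero)
    change _ ∣ algebraMap k (MvPolynomial (Fin 2) k) c - p
    exact ⟨r, by rw [hq, hr]; ring⟩
  · rintro ⟨c, rfl⟩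
    exact Derivation.map_algebraMap _ c

end Groth.Agent.S19634
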