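import Groth.Statements.S19635
import Mathlib.RingTheory.Kaehler.Basic
import Mathlib.Algebra.Polynomial.Derivation
import Mathlib.RingTheory.MvPolynomial.Basic
import Mathlib.RingTheory.Ideal.Quotient.Operations
import Mathlib.Algebra.DualNumber

set_option autoImplicit false
universe u
open DeRham

namespace Groth.Agent.S19635

theorem kills {k : Type*} [Field k] {A : Type*} [CommRing A] [Algebra k A] (φ : A →ₐ[k] Polynomial k) (a b : A) (P : A)
    (h : KaehlerDifferential.D k A P = a • KaehlerDifferential.D k A b) (hab : φ a = 0 ∨ φ b = 0) : Polynomial.derivative (φ P) = 0 := by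
  letI := φ.toRingHom.toAlgebra
  haveI : IsScalarTower k A (Polynomial k) := IsScalarTower.of_algebraMap_eq fun x => (φ.commutes x).symm
  have h1 : KaehlerDifferential.D k (Polynomial k) (φ P) = 0 := by
    have := congrArg (KaehlerDifferential.map k k A (Polynomial k)) h
    rw [KaehlerDifferential.map_D, map_smul, KaehlerDifferential.map_D] at this
    refine this.trans ?_
    rcases hab with h | h
    · rw [← algebraMap_smul (Polynomial k) a]
      show φ a • _ = _
      rw [h, zero_smul]
    · show a • KaehlerDifferential.D k (Polynomial k) (φ b) = 0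
      rw [h, map_zero, smul_zero]
  have h2 := congrArg (Polynomial.derivative' (R := k)).liftKaehlerDifferential h1
  rwa [Derivation.liftKaehlerDifferential_comp_D, map_zero] at h2

theorem nz (k : Type*) [Field k]
    (h : (Ideal.Quotient.mk _ (MvPolynomial.X 1) : MvPolynomial (Fin 2) k ⧸ Ideal.span {(MvPolynomial.X 0 * MvPolynomial.X 1 : MvPolynomial (Fin 2) k)}) • KaehlerDifferential.D k _ (Ideal.Quotient.mk (Ideal.span {(MvPolynomial.X 0 * MvPolynomial.X 1 : MvPolynomial (Fin 2) k)}) (MvPolynomial.X 0)) = 0) : False := by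
  let A := MvPolynomial (Fin 2) k ⧸ Ideal.span {(MvPolynomial.X 0 * MvPolynomial.X 1 : MvPolynomial (Fin 2) k)}
  let B := DualNumber k
  let t : B := DualNumber.eps
  let u : Fin 2 → DualNumber B := ![TrivSqZeroExt.inl t + TrivSqZeroExt.inr 1, TrivSqZeroExt.inl t + TrivSqZeroExt.inr (-1)]
  have hu : u 0 * u 1 = 0 := by
    refine TrivSqZeroExt.ext ?_ ?_
    · simp only [u, t, Matrix.cons_val_zero, Matrix.cons_val_one, TrivSqZeroExt.fst_mul, TrivSqZeroExt.fst_add, TrivSqZeroExt.fst_inl, TrivSqZeroExt.fst_inr, TrivSqZeroExt.fst_zero, add_zero]; exact DualNumber.eps_mul_eps (R := k)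
    · simp only [u, t, Matrix.cons_val_zero, Matrix.cons_val_one, DualNumber.snd_mul, TrivSqZeroExt.fst_add, TrivSqZeroExt.fst_inl, TrivSqZeroExt.fst_inr, TrivSqZeroExt.snd_add, TrivSqZeroExt.snd_inl, TrivSqZeroExt.snd_inr, TrivSqZeroExt.snd_zero]; ring
  let ψ : A →ₐ[k] DualNumber B := Ideal.Quotient.liftₐ _ (MvPolynomial.aeval u) (fun a ha => by
    obtain ⟨b, rfl⟩ := Ideal.mem_span_singleton'.1 ha
    simp [hu])
  let f : A →ₐ[k] B := ((TrivSqZeroExt.fstHom B B B).restrictScalars k).comp ψ
  letI := f.toRingHom.toAlgebra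
  haveI : IsScalarTower k A B := IsScalarTower.of_algebraMap_eq fun x => (f.commutes x).symm
  let D : Derivation k A B := Derivation.mk' (((TrivSqZeroExt.sndHom B B).restrictScalars k).comp ψ.toLinearMap) (fun a b => by
    show (ψ (a * b)).snd = (ψ a).fst * (ψ b).snd + (ψ b).fst * (ψ a).snd
    rw [map_mul, DualNumber.snd_mul]
    ring)
  have := congrArg D.liftKaehlerDifferential h
  rw [map_smul, Derivation.liftKaehlerDifferential_comp_D, map_zero] at this
  have h2 : (ψ (Ideal.Quotient.mk _ (MvPolynomial.X 1))).fst * (ψ (Ideal.Quotient.mk _ (MvPolynomial.X 0))).snd = 0 := this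
  rw [show ψ (Ideal.Quotient.mk _ (MvPolynomial.X 1)) = u 1 from MvPolynomial.aeval_X u 1, show ψ (Ideal.Quotient.mk _ (MvPolynomial.X 0)) = u 0 from MvPolynomial.aeval_X u 0] at h2
  have h3 := congrArg TrivSqZeroExt.snd h2
  simp [u, t] at h3


/-- Let k be a field of characteristic zero and A = k[X, Y]/(XY), the coordinate ring of two affine
lines crossing in a point. The differential d : A → Ω¹_{A/k} of the naive de Rham complex is not
surjective, so the naive H^1 of this singular curve does not vanish although one expects trivial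
cohomology; this is the example motivating the h-topology definition. -/
theorem result (k : Type u) [Field k] [CharZero k] :
    ¬ Function.Surjective (KaehlerDifferential.D k (MvPolynomial (Fin 2) k ⧸ Ideal.span {(MvPolynomial.X 0 * MvPolynomial.X 1 : MvPolynomial (Fin 2) k)})) := by
  classical
  intro hsurj
  obtain ⟨P, hP⟩ := hsurj ((Ideal.Quotient.mk _ (MvPolynomial.X 1) : MvPolynomial (Fin 2) k ⧸ Ideal.span {(MvPolynomial.X 0 * MvPolynomial.X 1 : MvPolynomial (Fin 2) k)}) • KaehlerDifferential.D k _ (Ideal.Quotient.mk (Ideal.span {(MvPolynomial.X 0 * MvPolynomial.X 1 : MvPolynomial (Fin 2) k)}) (MvPolynomial.X 0)))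
  have main : False := by
    obtain ⟨p, rfl⟩ := Ideal.Quotient.mk_surjective P
    have hder : ∀ v : Fin 2 → Polynomial k, v 0 * v 1 = 0 → Polynomial.derivative (MvPolynomial.aeval v p) = 0 := fun v hv => by
      let φ := Ideal.Quotient.liftₐ (Ideal.span {(MvPolynomial.X 0 * MvPolynomial.X 1 : MvPolynomial (Fin 2) k)}) (MvPolynomial.aeval v)
        (fun a ha => by
          obtain ⟨b, rfl⟩ := Ideal.mem_span_singleton'.1 ha
          simp [hv])
      have := kills φ (Ideal.Quotient.mk _ (MvPolynomial.X 1)) (Ideal.Quotient.mk _ (MvPolynomial.X 0)) _ hP (by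
        show MvPolynomial.aeval v (MvPolynomial.X 1) = 0 ∨ MvPolynomial.aeval v (MvPolynomial.X 0) = 0
        simpa using (mul_eq_zero.1 hv).symm)
      exact this
    let v : Fin 2 → Polynomial k := ![Polynomial.X, 0]
    let w : Fin 2 → Polynomial k := ![0, Polynomial.X]
    obtain ⟨c, hc⟩ : ∃ c, MvPolynomial.aeval v p = Polynomial.C c := ⟨_, Polynomial.eq_C_of_derivative_eq_zero (hder v (by simp [v]))⟩
    obtain ⟨c', hc'⟩ : ∃ c, MvPolynomial.aeval w p = Polynomial.C c := ⟨_, Polynomial.eq_C_of_derivative_eq_zero (hder w (by simp [w]))⟩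
    have hz : ∀ u : Fin 2 → Polynomial k, (∀ i, (u i).eval 0 = 0) → (MvPolynomial.aeval u p).eval 0 = MvPolynomial.constantCoeff p := fun u hu => by
      rw [← Polynomial.coe_aeval_eq_eval, MvPolynomial.comp_aeval_apply]
      simp [hu]
    have e1 := hz v (fun i => by fin_cases i <;> simp [v])
    have e2 := hz w (fun i => by fin_cases i <;> simp [w])
    rw [hc, Polynomial.eval_C] at e1
    rw [hc', Polynomial.eval_C] at e2
    refine nz k (hP ▸ ?_)
    rw [show Ideal.Quotient.mk _ p = algebraMap k _ c from (Ideal.Quotient.eq.2 ?_).symm]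
    · exact Derivation.map_algebraMap _ c
    have hdvd : ∀ (i j : Fin 2) (u : Fin 2 → Polynomial k) (q : MvPolynomial (Fin 2) k), i ≠ j → u i = Polynomial.X → u j = 0 →
        MvPolynomial.aeval u q = 0 → MvPolynomial.X j ∣ q := fun i j u q hij hui huj hq => by
      rw [← Ideal.mem_span_singleton, ← Ideal.Quotient.eq_zero_iff_mem]
      let m := Ideal.Quotient.mkₐ k (Ideal.span {(MvPolynomial.X j : MvPolynomial (Fin 2) k)})
      have hm : m = (Polynomial.aeval (m (MvPolynomial.X i))).comp (MvPolynomial.aeval u) := MvPolynomial.algHom_ext fun l => by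
        obtain rfl | rfl : l = i ∨ l = j := by omega
        · simp [hui]
        · simp [huj, m, Ideal.Quotient.eq_zero_iff_mem, Ideal.mem_span_singleton]
      show m q = 0
      rw [hm]
      simp [hq]
    rw [Ideal.mem_span_singleton]
    have hv0 : MvPolynomial.aeval v (algebraMap k (MvPolynomial (Fin 2) k) c - p) = 0 := by
      simp [hc]
    obtain ⟨q, hq⟩ := hdvd 0 1 v _ (by decide) rfl rfl hv0
    have hw0 : MvPolynomial.aeval w (algebraMap k (MvPolynomial (Fin 2) k) c - p) = 0 := by
      simp [hc', show c' = c from e2.trans e1.symm]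
    rw [hq, map_mul, MvPolynomial.aeval_X, show w 1 = Polynomial.X from rfl, mul_eq_zero] at hw0
    obtain ⟨r, hr⟩ := hdvd 1 0 w q (by decide) rfl rfl (hw0.resolve_left Polynomial.X_ne_zero)
    change _ ∣ algebraMap k (MvPolynomial (Fin 2) k) c - p
    exact ⟨r, by rw [hq, hr]; ring⟩
  exact main

end Groth.Agent.S19635
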