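import Groth.Statements.S19651
import Mathlib

set_option autoImplicit false
universe u v
open AbVar

namespace Groth.Agent.S19651

open Polynomial in
/-- Stated for an arbitrary invariant bilinear form, as the argument there allows. Let k be a field, V a
k-vector space with a bilinear form B and M a linear automorphism of V with B(Mx, My) = B(x, y) for
all x, y. If Q₁ and Q₂ are polynomials such that the reciprocal polynomial of Q₁ (its coefficient
list reversed) is coprime to Q₂, then every vector killed by a power of Q₁(M) is B-orthogonal to
every vector killed by a power of Q₂(M). With Q₁ = Q₂ = Q this says that the generalized kernel of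
Q(M) is totally isotropic whenever Q is coprime to its reciprocal polynomial, which for an
irreducible Q means that Q is not self-reciprocal. (The published statement takes M symplectic and
Q₁, Q₂ irreducible factors of the characteristic polynomial, with Q not self-reciprocal in the first
clause; its second clause asks Q₁ and Q₂ to be distinct and not reciprocal, which holds as proved
when this is read as saying that Q₂ is not the reciprocal of Q₁, but fails if it only means that
neither is self-reciprocal, as the diagonal matrix with entries 2 and 1/2 preserving the standard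
alternating form on k² shows; the coprimality of the reciprocal of Q₁ with Q₂, which is what the
published proof uses, is imposed here and covers both clauses.) -/
theorem result
    {k : Type u} [Field k] {V : Type v} [AddCommGroup V] [Module k V]
    (B : LinearMap.BilinForm k V) (M : V ≃ₗ[k] V)
    (hM : ∀ x y : V, B (M x) (M y) = B x y)
    (Q₁ Q₂ : k[X]) (h : IsCoprime Q₁.reverse Q₂)
    (x y : V)
    (hx : ∃ n : ℕ, (Polynomial.aeval (M : V →ₗ[k] V) Q₁ ^ n) x = 0)
    (hy : ∃ n : ℕ, (Polynomial.aeval (M : V →ₗ[k] V) Q₂ ^ n) y = 0) :
    B x y = 0 := by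
  obtain ⟨n, hx⟩ := hx
  obtain ⟨m, hy⟩ := hy
  rw [← map_pow] at hx hy
  have hrev : ∀ (Q : k[X]) (j : ℕ), (Q ^ j).reverse = Q.reverse ^ j := fun Q j => by
    induction j with
    | zero => simpa using Polynomial.reverse_C (1 : k)
    | succ j ih => rw [pow_succ, Polynomial.reverse_mul_of_domain, ih, pow_succ]
  have hpow : ∀ (j : ℕ) (a b : V), B (((M : V →ₗ[k] V) ^ j) a) (((M : V →ₗ[k] V) ^ j) b) = B a b := fun j a b => by
    induction j with
    | zero => rfl
    | succ j ih =>
      rw [pow_succ', Module.End.mul_apply, Module.End.mul_apply]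
      exact (hM _ _).trans ih
  have key : ∀ (Q : k[X]) (a z : V), Polynomial.aeval (M : V →ₗ[k] V) Q a = 0 →
      B a (Polynomial.aeval (M : V →ₗ[k] V) Q.reverse z) = 0 := by
    intro Q a z ha
    have hinj : ∀ j : ℕ, Function.Surjective ⇑((M : V →ₗ[k] V) ^ j) := fun j => by
      induction j with
      | zero => exact fun v => ⟨v, rfl⟩
      | succ j ih => rw [pow_succ']; exact (show Function.Surjective ((M : V →ₗ[k] V) ∘ ⇑((M : V →ₗ[k] V) ^ j)) from M.surjective.comp ih)
    obtain ⟨a', rfl⟩ := hinj Q.natDegree a
    have ha' : Polynomial.aeval (M : V →ₗ[k] V) Q a' = 0 := by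
      have hinj' : Function.Injective ⇑((M : V →ₗ[k] V) ^ Q.natDegree) := by
        intro u v huv
        have : ∀ (j : ℕ) (u v : V), ((M : V →ₗ[k] V) ^ j) u = ((M : V →ₗ[k] V) ^ j) v → u = v := fun j => by
          induction j with
          | zero => exact fun u v h => h
          | succ j ih => exact fun u v h => ih u v (M.injective (by rwa [pow_succ'] at h))
        exact this _ u v huv
      apply hinj'
      rw [map_zero, ← ha]
      have hc : Commute ((M : V →ₗ[k] V) ^ Q.natDegree) (Polynomial.aeval (M : V →ₗ[k] V) Q) := by
        rw [← Polynomial.aeval_X (R := k) (M : V →ₗ[k] V), ← map_pow]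
        exact (Commute.all (Polynomial.X ^ Q.natDegree) Q).map (Polynomial.aeval (M : V →ₗ[k] V))
          |> (by simpa using ·)
      exact LinearMap.congr_fun hc.eq a'
    rw [Polynomial.aeval_eq_sum_range' (show Q.reverse.natDegree < Q.natDegree + 1 from Nat.lt_succ_of_le (Polynomial.reverse_natDegree_le Q))]
    rw [← Finset.sum_range_reflect, LinearMap.sum_apply, map_sum]
    refine Eq.trans (Finset.sum_congr rfl fun i hi => ?_)
      (show ∑ i ∈ Finset.range (Q.natDegree + 1), B ((Q.coeff i • (M : V →ₗ[k] V) ^ i) a') z = 0 by
        rw [← LinearMap.sum_apply, ← map_sum, ← LinearMap.sum_apply, ← Polynomial.aeval_eq_sum_range, ha', map_zero,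
          LinearMap.zero_apply])
    have hi' : i ≤ Q.natDegree := Nat.lt_succ_iff.1 (Finset.mem_range.1 hi)
    rw [show Q.natDegree + 1 - 1 - i = Q.natDegree - i by omega, Polynomial.coeff_reverse,
      Polynomial.revAt_le (by omega), Nat.sub_sub_self hi', LinearMap.smul_apply, LinearMap.smul_apply, map_smul,
      map_smul, LinearMap.smul_apply]
    congr 1
    nth_rw 1 [show Q.natDegree = (Q.natDegree - i) + i by omega]
    rw [pow_add, Module.End.mul_apply, hpow]
  obtain ⟨u, v, huv⟩ := (h.pow : IsCoprime (Q₁.reverse ^ n) (Q₂ ^ m))
  have h1 : y = Polynomial.aeval (M : V →ₗ[k] V) (Q₁ ^ n).reverse (Polynomial.aeval (M : V →ₗ[k] V) u y) := by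
    have := LinearMap.congr_fun (congrArg (Polynomial.aeval (M : V →ₗ[k] V)) huv) y
    rw [map_one, map_add, LinearMap.add_apply, map_mul _ v, Module.End.mul_apply, hy, map_zero, add_zero,
      mul_comm u, map_mul, Module.End.mul_apply] at this
    rw [hrev, this]; rfl
  rw [h1]
  exact key _ _ _ hx

end Groth.Agent.S19651
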