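import Groth.Statements.S1966
import Groth.Agent.HensPair.Limits

set_option autoImplicit false
universe u
open EtAlg

namespace Groth.Agent.S1966

/-- Towers indexed by the natural numbers: let (A_k) be rings with surjective transition maps A_{k+1} ->
A_k whose kernels consist of nilpotent elements, and let A be a ring with compatible projections p_k
: A -> A_k identifying A with the set of compatible sequences (p is jointly injective and every
compatible sequence comes from an element of A). Then for every k the pair (A, ker p_k) is
henselian. -/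
theorem result (A : Type u) [CommRing A] (As : ℕ → Type u) [∀ k, CommRing (As k)]
    (t : ∀ k, As (k + 1) →+* As k) (ht : ∀ k, Function.Surjective (t k))
    (hnil : ∀ k (x : As (k + 1)), t k x = 0 → IsNilpotent x)
    (p : ∀ k, A →+* As k) (hp : ∀ k, (t k).comp (p (k + 1)) = p k)
    (hinj : ∀ a b : A, (∀ k, p k a = p k b) → a = b)
    (hsurj : ∀ x : ∀ k, As k, (∀ k, t k (x (k + 1)) = x k) → ∃ a : A, ∀ k, p k a = x k) (k : ℕ) :
    HenselianRing A (RingHom.ker (p k)) := by
  have hnilp : ∀ m (x : A), p k x = 0 → IsNilpotent (p m x) := by
    intro m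
    induction m with
    | zero =>
      intro x hx
      have : ∀ n, p n x = 0 → p 0 x = 0 := by
        intro n
        induction n with
        | zero => exact id
        | succ n ih => intro h; exact ih (by rw [← hp, RingHom.comp_apply, h, map_zero])
      rw [this k hx]; exact IsNilpotent.zero
    | succ m ih =>
      intro x hx
      obtain ⟨n, hn⟩ := ih x hx
      obtain ⟨l, hl⟩ := hnil m (p (m + 1) x ^ n) (by rw [map_pow, ← RingHom.comp_apply, hp, hn])
      exact ⟨n * l, by rw [pow_mul, hl]⟩
  have hle : ∀ m (y : As m), y ∈ (RingHom.ker (p k)).map (p m) → IsNilpotent y := fun m y hy => by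
    refine mem_nilradical.mp ((Ideal.map_le_iff_le_comap.mpr ?_ :
      (RingHom.ker (p k)).map (p m) ≤ nilradical (As m)) hy)
    exact fun x hx => mem_nilradical.mpr (hnilp m x hx)
  have h := HensPair.Limits.henselian_of_glue As p (E := ℕ) (fun m => m + 1) (fun m => m) t hp
    (fun m => (RingHom.ker (p k)).map (p m)) (fun m => by rw [Ideal.map_map, hp])
    (fun m => HensPair.Radical.henselian_of_le_nilradical (hle m)) hinj hsurj
  have hI : (⨅ m, ((RingHom.ker (p k)).map (p m)).comap (p m)) = RingHom.ker (p k) := by
    refine le_antisymm ((iInf_le _ k).trans ?_) (le_iInf fun m => Ideal.le_comap_map)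
    intro x hx
    rw [RingHom.mem_ker]
    refine (Ideal.mem_bot).mp ((Ideal.map_le_iff_le_comap.mpr ?_ :
      (RingHom.ker (p k)).map (p k) ≤ ⊥) hx)
    exact fun y hy => Ideal.mem_bot.mpr hy
  rwa [hI] at h

end Groth.Agent.S1966
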