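import Groth.Statements.S1971
import Groth.Agent.HensPair.Radical
import Groth.Prelude.Def_Hens2

set_option autoImplicit false
universe u
open EtAlg

namespace Groth.Agent.S1971

/-- Let A be a ring with ideals I and J having the same zero locus in Spec A. Then an A-algebra is a
henselization of the pair (A, I) if and only if it is a henselization of the pair (A, J). -/
theorem result (A : Type u) [CommRing A] (I J : Ideal A)
    (h : PrimeSpectrum.zeroLocus (I : Set A) = PrimeSpectrum.zeroLocus (J : Set A)) (B : Type u) [CommRing B] [Algebra A B] :
    Hens2.IsPairHenselization A I B ↔ Hens2.IsPairHenselization A J B := by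
  have hrad : I.radical = J.radical := by
    rw [← PrimeSpectrum.vanishingIdeal_zeroLocus_eq_radical, h,
      PrimeSpectrum.vanishingIdeal_zeroLocus_eq_radical]
  suffices key : ∀ I J : Ideal A, I.radical = J.radical →
      Hens2.IsPairHenselization A I B → Hens2.IsPairHenselization A J B from
    ⟨key I J hrad, key J I hrad.symm⟩
  intro I J hrad hB
  refine ⟨HensPair.Radical.henselian_of_radical_eq hB.1 (HensPair.Radical.radical_map _ hrad),
    fun C _ K f hC hf => hB.2 C K.radical f
      (HensPair.Radical.henselian_of_radical_eq hC K.radical_idem.symm) ?_⟩
  calc I.map f ≤ I.radical.map f := Ideal.map_mono Ideal.le_radical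
    _ = J.radical.map f := by rw [hrad]
    _ ≤ (J.map f).radical := Ideal.map_radical_le f
    _ ≤ K.radical := Ideal.radical_mono hf

end Groth.Agent.S1971
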