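import Groth.Statements.S19711
import Mathlib.Algebra.Module.FinitePresentation
import Mathlib.RingTheory.Localization.FractionRing
import Mathlib.LinearAlgebra.Basis.VectorSpace
-- import your own Groth.Agent.* helpers here

set_option autoImplicit false
universe u
open CategoryTheory
open Coh

namespace Groth.Agent.S19711

/-- Let A be a Noetherian integral domain and F an A-linear additive functor from A-modules to A-modules
with F(A) a finitely generated A-module. Call such a functor generically injective when there is a
dense open subset U of Spec A such that for every point u of U whose residue field κ(u) is a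
finitely generated A-algebra the comparison map F(A) ⊗_A κ(u) → F(κ(u)) is injective; since F is
A-linear this injectivity says: every m in F(A) whose image under F(A → κ(u)) vanishes satisfies s·m
∈ u·F(A) for some s outside u. If F is generically injective then so is every A-linear additive
subfunctor K ⊆ F (a natural transformation K → F with injective components). (The published
statement is over a reduced Noetherian affine scheme, for additive functors on quasi-coherent
sheaves with values in abelian groups and the induced A-action, assumes F weakly bounded (F(A/p)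
finitely generated for every prime ideal p) and also records that K is again weakly bounded; only
the finite generation of F(A), which its argument uses, is assumed here, and the integral case with
A-linear functors stated here is the one its argument by generic flatness treats.) -/
theorem result {A : Type u} [CommRing A] [IsNoetherianRing A] [IsDomain A]
    (F K : ModuleCat.{u} A ⥤ ModuleCat.{u} A) [F.Additive] [F.Linear A] [K.Additive] [K.Linear A]
    (ι : K ⟶ F) (hι : ∀ X : ModuleCat.{u} A, Function.Injective (ι.app X).hom)
    (hfin : Module.Finite A (F.obj (ModuleCat.of A A)))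
    (hGI : ∃ U : Set (PrimeSpectrum A), IsOpen U ∧ Dense U ∧ ∀ u ∈ U, Algebra.FiniteType A u.asIdeal.ResidueField →
        ∀ m : F.obj (ModuleCat.of A A),
          (F.map (ModuleCat.ofHom (Algebra.linearMap A u.asIdeal.ResidueField))).hom m = 0 →
            ∃ s ∉ u.asIdeal, s • m ∈ u.asIdeal • (⊤ : Submodule A (F.obj (ModuleCat.of A A)))) :
    ∃ U : Set (PrimeSpectrum A), IsOpen U ∧ Dense U ∧ ∀ u ∈ U, Algebra.FiniteType A u.asIdeal.ResidueField →
        ∀ m : K.obj (ModuleCat.of A A),
          (K.map (ModuleCat.ofHom (Algebra.linearMap A u.asIdeal.ResidueField))).hom m = 0 →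
            ∃ s ∉ u.asIdeal, s • m ∈ u.asIdeal • (⊤ : Submodule A (K.obj (ModuleCat.of A A))) := by
  obtain ⟨U, hUo, hUd, hU⟩ := hGI
  set FA := F.obj (ModuleCat.of A A) with hFA
  set KA := K.obj (ModuleCat.of A A) with hKA
  haveI : Module.Finite A FA := hfin
  set j : KA →ₗ[A] FA := (ι.app (ModuleCat.of A A)).hom with hj
  have hjinj : Function.Injective j := hι _
  haveI : IsNoetherian A FA := isNoetherian_of_isNoetherianRing_of_finite A FA
  haveI : Module.Finite A KA := Module.Finite.of_injective j hjinj
  haveI : Module.FinitePresentation A FA := Module.finitePresentation_of_finite A FA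
  let S := nonZeroDivisors A
  let fK := LocalizedModule.mkLinearMap S KA
  let fF := LocalizedModule.mkLinearMap S FA
  let jS : LocalizedModule S KA →ₗ[Localization S] LocalizedModule S FA := LocalizedModule.map S j
  have hjS : Function.Injective jS := LocalizedModule.map_injective S j hjinj
  letI : Field (Localization S) := IsFractionRing.toField A (K := Localization S)
  obtain ⟨ρ, hρ⟩ := jS.exists_leftInverse_of_injective (LinearMap.ker_eq_bot.mpr hjS)
  obtain ⟨h, s, hs⟩ := Module.FinitePresentation.exists_lift_of_isLocalizedModule S fK
    ((ρ.restrictScalars A) ∘ₗ fF)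
  -- `h ∘ j = s` up to torsion
  have hks : ∀ k, fK (h (j k) - (s : A) • k) = 0 := by
    intro k
    have h1 := LinearMap.congr_fun hs (j k)
    simp only [LinearMap.comp_apply, LinearMap.smul_apply, LinearMap.coe_restrictScalars] at h1
    have h2 : jS (fK k) = fF (j k) := LocalizedModule.map_mk S j k 1
    rw [← h2, show ρ (jS (fK k)) = fK k from LinearMap.congr_fun hρ _] at h1
    rw [map_sub, map_smul, h1, sub_eq_zero]
    rfl
  have hann : ∀ k : KA, fK k = 0 → ∃ c : S, (c : A) • k = 0 := by
    intro k hk
    obtain ⟨c, hc⟩ := IsLocalizedModule.exists_of_eq (S := S) (f := fK) (hk.trans (map_zero fK).symm)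
    exact ⟨c, hc.trans (smul_zero c)⟩
  -- a common annihilator
  obtain ⟨T, hT⟩ : (LinearMap.range (h ∘ₗ j - (s : A) • LinearMap.id)).FG :=
    IsNoetherian.noetherian _
  classical
  have hTc : ∀ t ∈ T, ∃ c : S, (c : A) • t = 0 := by
    intro t ht
    obtain ⟨k, hk⟩ := (hT ▸ Submodule.subset_span ht :
      t ∈ LinearMap.range (h ∘ₗ j - (s : A) • LinearMap.id))
    exact hann t (hk ▸ hks k)
  choose! c hc using hTc
  let c0 : S := T.prod c
  let r : FA →ₗ[A] KA := (c0 : A) • h
  let q : A := (c0 : A) * s
  have hq : q ≠ 0 := nonZeroDivisors.ne_zero (c0 * s).2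
  have hr : ∀ k, r (j k) = q • k := by
    intro k
    have hmem : h (j k) - (s : A) • k ∈ Submodule.span A (T : Set KA) := hT ▸ ⟨k, rfl⟩
    have h0 : (c0 : A) • (h (j k) - (s : A) • k) = 0 := by
      refine (Submodule.span_le (p := LinearMap.ker (LinearMap.lsmul A KA (c0 : A)))).mpr ?_ hmem
      intro t ht
      rw [SetLike.mem_coe, LinearMap.mem_ker, LinearMap.lsmul_apply]
      obtain ⟨d, hd⟩ := Finset.dvd_prod_of_mem c ht
      rw [show c0 = c t * d from hd, Submonoid.coe_mul, mul_comm, mul_smul, hc t ht, smul_zero]
    rw [smul_sub, sub_eq_zero, smul_smul] at h0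
    exact h0
  refine ⟨U ∩ (PrimeSpectrum.basicOpen q : Set (PrimeSpectrum A)),
    hUo.inter (PrimeSpectrum.basicOpen q).isOpen,
    hUd.inter_of_isOpen_left ?_ hUo, ?_⟩
  · refine IsOpen.dense (PrimeSpectrum.basicOpen q).isOpen ⟨⟨⊥, Ideal.isPrime_bot⟩, ?_⟩
    exact fun h => hq (by simpa using h)
  · intro u hu hft m hm
    have hnat : (F.map (ModuleCat.ofHom (Algebra.linearMap A u.asIdeal.ResidueField))).hom (j m) = 0 := by
      have h1 := congrArg (fun f => f.hom m)
        (ι.naturality (ModuleCat.ofHom (Algebra.linearMap A u.asIdeal.ResidueField)))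
      simp only [ModuleCat.hom_comp, LinearMap.comp_apply] at h1
      rw [hj, ← h1, hm, map_zero]
    obtain ⟨t, htu, ht⟩ := hU u hu.1 hft (j m) hnat
    refine ⟨t * q, fun hmem => ?_, ?_⟩
    · rcases u.2.mem_or_mem hmem with h | h
      · exact htu h
      · exact hu.2 h
    · rw [mul_smul, ← hr, ← map_smul]
      refine Submodule.smul_induction_on ht ?_ ?_
      · intro a ha x _
        rw [map_smul]
        exact Submodule.smul_mem_smul ha Submodule.mem_top
      · intro x y hx hy
        rw [map_add]
        exact add_mem hx hy

end Groth.Agent.S19711
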