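import Groth.Statements.S1974
import Groth.Agent.HensPoint.OverField

set_option autoImplicit false
universe u
open EtAlg
open scoped TensorProduct

namespace Groth.Agent.S1974

/-- Let A -> B be weakly etale and q a prime of B lying over the prime p of A. Then the residue field of
q is a separable algebraic extension of the residue field of p. -/
theorem result (A B : Type u) [CommRing A] [CommRing B] [Algebra A B]
    [Algebra.WeaklyEtale A B] (p : Ideal A) [p.IsPrime] (q : Ideal B) [q.IsPrime] [q.LiesOver p]
    [Algebra (Localization.AtPrime p) (Localization.AtPrime q)] [Localization.AtPrime.IsLiesOverAlgebra p q] :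
    Algebra.IsSeparable p.ResidueField q.ResidueField := by
  let f : p.ResidueField ⊗[A] B →ₐ[p.ResidueField] q.ResidueField :=
    Algebra.TensorProduct.lift (Algebra.ofId _ _) (IsScalarTower.toAlgHom A B q.ResidueField)
      fun _ _ => Commute.all _ _
  have hf1 : ∀ b : B, f (1 ⊗ₜ b) = algebraMap B q.ResidueField b := fun b => by simp [f]
  have hD : FlatMor.AbsFlat.IsAbsFlat (p.ResidueField ⊗[A] B) :=
    FlatMor.AbsFlat.isAbsFlat_of_weaklyEtale (R := p.ResidueField)
      (FlatMor.AbsFlat.isAbsFlat_of_field _)
  have hsurj : Function.Surjective f := by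
    intro z
    obtain ⟨b, s, hs, rfl⟩ := IsFractionRing.div_surjective (A := B ⧸ q) z
    obtain ⟨b, rfl⟩ := Ideal.Quotient.mk_surjective b
    obtain ⟨s, rfl⟩ := Ideal.Quotient.mk_surjective s
    have hs0 : algebraMap B q.ResidueField s ≠ 0 := fun h =>
      nonZeroDivisors.ne_zero hs (Ideal.Quotient.eq_zero_iff_mem.mpr
        (Ideal.algebraMap_residueField_eq_zero.mp h))
    obtain ⟨a, ha⟩ := hD ((1 : p.ResidueField) ⊗ₜ[A] s)
    have h := congrArg f ha
    rw [map_mul, map_mul, hf1] at h
    refine ⟨((1 : p.ResidueField) ⊗ₜ[A] b) * a, ?_⟩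
    rw [← Ideal.Quotient.algebraMap_eq, ← IsScalarTower.algebraMap_apply,
      ← IsScalarTower.algebraMap_apply, map_mul, hf1, eq_div_iff hs0, mul_assoc]
    refine (congrArg (algebraMap B q.ResidueField b * ·) ?_).trans (mul_one _)
    exact mul_right_cancel₀ hs0 (by rw [← h, one_mul])
  have hM : (RingHom.ker f).IsMaximal := RingHom.ker_isMaximal_of_surjective f hsurj
  let := Ideal.Quotient.field (RingHom.ker f)
  have := HensPoint.OverField.isSeparable_quotient (K := p.ResidueField) (RingHom.ker f)
  exact AlgEquiv.Algebra.isSeparable (Ideal.quotientKerAlgEquivOfSurjective hsurj)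

end Groth.Agent.S1974
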