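import Groth.Statements.S19799
import Mathlib
-- import your own Groth.Agent.* helpers here

set_option autoImplicit false
universe u v w
open scoped TensorProduct
open CAlg

namespace Groth.Agent.S19799

/-- Let k be an algebraically closed field and A, B commutative k-algebras, each finite-dimensional as a
k-vector space. Then reduction commutes with tensor products: the kernel of the canonical surjection
A ⊗_k B ⟶ (A/nilradical A) ⊗_k (B/nilradical B) equals the nilradical of A ⊗_k B, so that this
surjection induces an isomorphism (A ⊗_k B)_red ≅ A_red ⊗_k B_red and in particular A_red ⊗_k B_red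
is reduced. -/
theorem result (k : Type u) [Field k]
    [IsAlgClosed k] (A : Type v) [CommRing A] [Algebra k A] [Module.Finite k A]
    (B : Type w) [CommRing B] [Algebra k B] [Module.Finite k B] :
    RingHom.ker (Algebra.TensorProduct.map (Ideal.Quotient.mkₐ k (nilradical A))
      (Ideal.Quotient.mkₐ k (nilradical B))).toRingHom = nilradical (A ⊗[k] B) := by
  have etale : ∀ (C : Type (max v w)) [CommRing C] [Algebra k C] [Module.Finite k C] [IsReduced C], Algebra.FormallyUnramified k C := by
    intro C _ _ _ _
    haveI : IsArtinianRing C := IsArtinianRing.of_finite k C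
    haveI : ∀ I : MaximalSpectrum C, Algebra.FormallyEtale k (C ⧸ I.asIdeal) := fun I => by
      letI := Ideal.Quotient.field I.asIdeal
      haveI : Algebra.IsAlgebraic k (C ⧸ I.asIdeal) := Algebra.IsAlgebraic.of_finite k _
      exact Algebra.FormallyEtale.of_isSeparable k _
    haveI : Algebra.FormallyEtale k (∀ I : MaximalSpectrum C, C ⧸ I.asIdeal) :=
      (Algebra.FormallyEtale.pi_iff _).mpr inferInstance
    haveI := Algebra.FormallyEtale.of_equiv ((IsArtinianRing.equivPi C).restrictScalars k).symm
    infer_instance
  haveI : IsReduced (A ⧸ nilradical A) := (Ideal.isRadical_iff_quotient_reduced _).mp (Ideal.radical_isRadical _)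
  haveI : IsReduced (B ⧸ nilradical B) := (Ideal.isRadical_iff_quotient_reduced _).mp (Ideal.radical_isRadical _)
  haveI : Algebra.FormallyUnramified k (A ⧸ nilradical A) := by
    haveI : IsReduced (ULift.{w} (A ⧸ nilradical A)) := isReduced_of_injective (ULift.ringEquiv (R := A ⧸ nilradical A)).toRingHom ULift.ringEquiv.injective
    haveI := etale (ULift.{w} (A ⧸ nilradical A))
    exact Algebra.FormallyUnramified.of_equiv ULift.algEquiv
  haveI : Algebra.FormallyUnramified k (B ⧸ nilradical B) := by
    haveI : IsReduced (ULift.{v} (B ⧸ nilradical B)) := isReduced_of_injective (ULift.ringEquiv (R := B ⧸ nilradical B)).toRingHom ULift.ringEquiv.injective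
    haveI := etale (ULift.{v} (B ⧸ nilradical B))
    exact Algebra.FormallyUnramified.of_equiv ULift.algEquiv
  haveI : Algebra.FormallyUnramified k ((A ⧸ nilradical A) ⊗[k] (B ⧸ nilradical B)) :=
    Algebra.FormallyUnramified.comp k (A ⧸ nilradical A) _
  haveI : IsReduced ((A ⧸ nilradical A) ⊗[k] (B ⧸ nilradical B)) := Algebra.FormallyUnramified.isReduced_of_field k _
  refine le_antisymm ?_ ?_
  · change RingHom.ker (Algebra.TensorProduct.map (Ideal.Quotient.mkₐ k (nilradical A)) (Ideal.Quotient.mkₐ k (nilradical B))) ≤ _
    rw [Algebra.TensorProduct.map_ker _ _ Ideal.Quotient.mk_surjective Ideal.Quotient.mk_surjective]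
    refine sup_le ?_ ?_ <;>
    · rw [Ideal.map_le_iff_le_comap]
      intro x hx
      have hx' : IsNilpotent x := mem_nilradical.mp (Ideal.Quotient.eq_zero_iff_mem.mp hx)
      exact mem_nilradical.mpr (hx'.map _)
  · intro x hx
    exact RingHom.mem_ker.mpr ((mem_nilradical.mp hx).map _).eq_zero

end Groth.Agent.S19799
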