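import Groth.Statements.S19804
import Mathlib

set_option autoImplicit false
open scoped TensorProduct
universe u v w
open Brauer

namespace Groth.Agent.S19804

/-- Let R be a commutative ring with Spec R connected, A an Azumaya R-algebra and e an idempotent
element of A. If for some nonzero commutative R-algebra R' the element 1 ⊗ e of R' ⊗_R A is 0, then
e = 0; and if 1 ⊗ e = 1 in R' ⊗_R A, then e = 1. (The published statement is for an Azumaya algebra
over a connected scheme S and base change to an arbitrary nonempty S-scheme T; this row takes S and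
T affine.) -/
theorem result {R : Type u} [CommRing R]
    [ConnectedSpace (PrimeSpectrum R)] {A : Type v} [Ring A] [Algebra R A] [IsAzumaya R A]
    (e : A) (he : IsIdempotentElem e) (R' : Type w) [CommRing R'] [Nontrivial R'] [Algebra R R'] :
    ((1 : R') ⊗ₜ[R] e = (0 : R' ⊗[R] A) → e = 0) ∧ ((1 : R') ⊗ₜ[R] e = (1 : R' ⊗[R] A) → e = 1) := by
  suffices h : ∀ e : A, IsIdempotentElem e → (1 : R') ⊗ₜ[R] e = (0 : R' ⊗[R] A) → e = 0 by
    refine ⟨h e he, fun h1 => ?_⟩
    have := h (1 - e) he.one_sub (by rw [TensorProduct.tmul_sub, h1]; simp [Algebra.TensorProduct.one_def])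
    exact (sub_eq_zero.1 this).symm
  intro e he h0
  let ρ : A →ₗ[R] A := LinearMap.mulRight R e
  let P := LinearMap.range ρ
  have hρ : ∀ x : P, ρ x = x := by
    rintro ⟨_, a, rfl⟩
    simp [ρ, mul_assoc, he.eq]
  have : Module.Projective R P := Module.Projective.of_split P.subtype ρ.rangeRestrict
    (LinearMap.ext fun x => Subtype.ext (hρ x))
  have : Module.Finite R P := Module.Finite.of_surjective ρ.rangeRestrict ρ.surjective_rangeRestrict
  have : Subsingleton (R' ⊗[R] P) := by
    refine subsingleton_of_forall_eq 0 fun z => ?_
    have hz : P.subtype.lTensor R' z = 0 := by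
      induction z with
      | zero => simp
      | add a b ha hb => rw [map_add, ha, hb, add_zero]
      | tmul r p =>
        rw [LinearMap.lTensor_tmul, Submodule.subtype_apply, ← hρ p]
        have := congrArg (fun t => (r ⊗ₜ[R] (p : A)) * t) h0
        simpa [ρ] using this
    have := congrArg (ρ.rangeRestrict.lTensor R') hz
    rwa [← LinearMap.comp_apply, ← LinearMap.lTensor_comp, show ρ.rangeRestrict ∘ₗ P.subtype = LinearMap.id from
      LinearMap.ext fun x => Subtype.ext (hρ x), LinearMap.lTensor_id, map_zero] at this
  obtain ⟨q⟩ := (inferInstance : Nonempty (PrimeSpectrum R'))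
  have hq : Module.rankAtStalk (R := R) P (PrimeSpectrum.comap (algebraMap R R') q) = 0 := by
    rw [← Module.rankAtStalk_baseChange (R := R) (M := P) (S := R') q]
    exact congr_fun (Module.rankAtStalk_eq_zero_of_subsingleton) q
  have : Module.FinitePresentation R P := Module.finitePresentation_of_projective R P
  have hP : Subsingleton P := by
    refine (Module.rankAtStalk_eq_zero_iff_subsingleton (R := R) (M := P)).1 (funext fun p => ?_)
    rw [Module.isLocallyConstant_rankAtStalk.apply_eq_of_preconnectedSpace p (PrimeSpectrum.comap (algebraMap R R') q), hq]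
    rfl
  have := congrArg Subtype.val (Subsingleton.elim (⟨ρ 1, 1, rfl⟩ : P) 0)
  simpa [ρ] using this

end Groth.Agent.S19804
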