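import Groth.Statements.S19809
import Groth.Agent.LocalAlg.Homogeneous
import Mathlib.LinearAlgebra.Dual.Lemmas
import Mathlib.LinearAlgebra.FiniteDimensional.Lemmas
import Mathlib.LinearAlgebra.Dimension.Constructions
import Mathlib.FieldTheory.IsAlgClosed.Basic
import Mathlib.Algebra.Polynomial.Roots

set_option autoImplicit false
universe u
open RatCurv

namespace Groth.Agent.S19809

/-- A smooth rational quintic curve C ⊂ P^3 has a one-parameter family of 3-secant lines. Stated, as for
the nondegenerate case, through binary forms: C is the image of P^1 under a 4-dimensional linear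
series V of binary quintic forms which separates every length-2 subscheme of P^1 (for every nonzero
quadratic form e, the forms of V together with the multiples of e span all quintic forms), so that
P^1 → P(V^*) = P^3 is a closed embedding; the linear forms on P^3 are the elements of V, a line L ⊂
P^3 is the 2-dimensional space of linear forms vanishing on it, and L ∩ C has length at least 3
exactly when that space is contained in g · K[s,t]_2 for a cubic form g. The conclusion: there are
infinitely many pairwise non-proportional nonzero cubic forms g with dim (V ∩ g · K[s,t]_2) ≥ 2,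
i.e. for every finite set of cubics there is such a g proportional to none of them. (The ground
field is algebraically closed of characteristic zero in place of the complex numbers; the third
printed assertion, on curves all of whose 3-secants are 4-secant, is not stated.) -/
theorem result (K : Type u) [Field K] [IsAlgClosed K]
    [CharZero K] (V : Submodule K (MvPolynomial (Fin 2) K))
    (hV : V ≤ MvPolynomial.homogeneousSubmodule (Fin 2) K 5) (hdim : Module.finrank K ↥V = 4)
    (hsep : ∀ e ∈ MvPolynomial.homogeneousSubmodule (Fin 2) K 2, e ≠ 0 →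
      ∀ F ∈ MvPolynomial.homogeneousSubmodule (Fin 2) K 5, ∃ v ∈ V,
        ∃ h ∈ MvPolynomial.homogeneousSubmodule (Fin 2) K 3, F = v + e * h)
    (F : Finset (MvPolynomial (Fin 2) K)) :
    ∃ g ∈ MvPolynomial.homogeneousSubmodule (Fin 2) K 3, g ≠ 0 ∧
      2 ≤ Module.finrank K ↥(V ⊓ (MvPolynomial.homogeneousSubmodule (Fin 2) K 2).map (LinearMap.mulLeft K g)) ∧
      ∀ g' ∈ F, ∀ c : K, g ≠ c • g' := by
  classical
  open MvPolynomial in
  set H2 := MvPolynomial.homogeneousSubmodule (Fin 2) K 2
  set H3 := MvPolynomial.homogeneousSubmodule (Fin 2) K 3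
  set H5 := MvPolynomial.homogeneousSubmodule (Fin 2) K 5
  have hmul : ∀ (g : H3) (q : H2), (g : MvPolynomial (Fin 2) K) * q ∈ H5 := fun g q =>
    MvPolynomial.IsHomogeneous.mul g.2 q.2
  let M : H3 → (H2 →ₗ[K] H5) := fun g =>
    (LinearMap.mulLeft K (g : MvPolynomial (Fin 2) K) ∘ₗ H2.subtype).codRestrict H5 (hmul g)
  let V5 := V.comap H5.subtype
  have h6 : Module.finrank K H5 = 6 := Groth.Agent.LocalAlg.Homogeneous.finrank_homogeneousSubmodule K 2 5
  have h3 : Module.finrank K H3 = 4 := Groth.Agent.LocalAlg.Homogeneous.finrank_homogeneousSubmodule K 2 3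
  have h2 : Module.finrank K H2 = 3 := Groth.Agent.LocalAlg.Homogeneous.finrank_homogeneousSubmodule K 2 2
  have hV5 : Module.finrank K V5 = 4 := (Submodule.comapSubtypeEquivOfLe hV).finrank_eq.trans hdim
  have hQ : Module.finrank K (H5 ⧸ V5) = 2 := by
    have := Submodule.finrank_quotient_add_finrank V5
    omega
  let bQ : Module.Basis (Fin 2) K (H5 ⧸ V5) := Module.finBasisOfFinrankEq K _ hQ
  let α : Module.Dual K H5 := bQ.coord 0 ∘ₗ V5.mkQ
  let β : Module.Dual K H5 := bQ.coord 1 ∘ₗ V5.mkQ
  have hαβ : ∀ x : H5, α x = 0 → β x = 0 → x ∈ V5 := by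
    intro x h1 h2
    rw [← Submodule.Quotient.mk_eq_zero, ← bQ.forall_coord_eq_zero_iff]
    exact Fin.forall_fin_two.2 ⟨h1, h2⟩
  have hex : ∀ c : K, ∃ g : H3, g ≠ 0 ∧ ∀ q : H2, α (M g q) + c * β (M g q) = 0 := by
    intro c
    let L : Module.Dual K H5 := α + c • β
    let Φ : H3 →ₗ[K] Module.Dual K H2 :=
      { toFun := fun g => L ∘ₗ M g
        map_add' := fun g g' => LinearMap.ext fun q => by
          show L (M (g + g') q) = L (M g q) + L (M g' q)
          rw [← map_add]
          exact congrArg L (Subtype.ext (add_mul _ _ _))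
        map_smul' := fun a g => LinearMap.ext fun q => by
          show L (M (a • g) q) = a • L (M g q)
          rw [← map_smul]
          exact congrArg L (Subtype.ext (smul_mul_assoc _ _ _)) }
    have hΦ : LinearMap.ker Φ ≠ ⊥ := by
      intro h
      have := LinearMap.finrank_le_finrank_of_injective (LinearMap.ker_eq_bot.1 h)
      rw [Subspace.dual_finrank_eq] at this
      omega
    obtain ⟨g, hg, hg0⟩ := Submodule.exists_mem_ne_zero_of_ne_bot hΦ
    exact ⟨g, hg0, fun q => LinearMap.congr_fun (LinearMap.mem_ker.1 hg) q⟩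
  choose g hg0 hg using hex
  have hgood : ∀ c, 2 ≤ Module.finrank K ↥(V ⊓ H2.map (LinearMap.mulLeft K (g c : MvPolynomial (Fin 2) K))) := by
    intro c
    have hinj : Function.Injective (M (g c)) := fun a b h => Subtype.ext (mul_left_cancel₀
      (fun h0 => hg0 c (Subtype.ext h0)) (congrArg Subtype.val h))
    let ψ : H2 →ₗ[K] K := β ∘ₗ M (g c)
    have hψ : ∀ q ∈ LinearMap.ker ψ, M (g c) q ∈ V5 := by
      intro q hq
      refine hαβ _ ?_ hq
      have := hg c q
      rwa [show β (M (g c) q) = 0 from hq, mul_zero, add_zero] at this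
    let T : LinearMap.ker ψ →ₗ[K] ↥(V ⊓ H2.map (LinearMap.mulLeft K (g c : MvPolynomial (Fin 2) K))) :=
      (LinearMap.mulLeft K (g c : MvPolynomial (Fin 2) K) ∘ₗ H2.subtype ∘ₗ (LinearMap.ker ψ).subtype).codRestrict _
        (fun q => ⟨hψ q.1 q.2, Submodule.mem_map_of_mem q.1.2⟩)
    haveI : Module.Finite K ↥(V ⊓ H2.map (LinearMap.mulLeft K (g c : MvPolynomial (Fin 2) K))) := by
      haveI : FiniteDimensional K V := Submodule.finiteDimensional_of_le hV
      exact Submodule.finiteDimensional_inf_left _ _
    have hT : Function.Injective T := fun a b h =>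
      Subtype.ext (hinj (Subtype.ext (show (g c : MvPolynomial (Fin 2) K) * (a.1 : MvPolynomial (Fin 2) K) = _ from congrArg Subtype.val h)))
    have h1 := LinearMap.finrank_le_finrank_of_injective hT
    have h4 := LinearMap.finrank_range_add_finrank_ker ψ
    have h5 : Module.finrank K (LinearMap.range ψ) ≤ 1 := by
      simpa using Submodule.finrank_le (LinearMap.range ψ)
    omega
  have hprop : ∀ c c' : K, ∀ a : K, (g c : MvPolynomial (Fin 2) K) = a • g c' → c = c' := by
    intro c c' a ha
    by_contra hne
    have ha' : g c = a • g c' := Subtype.ext ha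
    have hall : ∀ q : H2, M (g c) q ∈ V5 := by
      intro q
      have e1 := hg c q
      have e2 := hg c' q
      have e3 : M (g c) q = a • M (g c') q := by
        refine Subtype.ext ?_
        show (g c : MvPolynomial (Fin 2) K) * q = a • ((g c' : MvPolynomial (Fin 2) K) * q)
        rw [ha, smul_mul_assoc]
      have hb : β (M (g c) q) = 0 := by
        have h4 : (c - c') * β (M (g c) q) = 0 := by
          rw [e3, map_smul, map_smul, smul_eq_mul, smul_eq_mul] at e1
          rw [e3, map_smul, smul_eq_mul]
          linear_combination e1 - a * e2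
        exact (mul_eq_zero.1 h4).resolve_left (sub_ne_zero.2 hne)
      refine hαβ _ ?_ hb
      rwa [hb, mul_zero, add_zero] at e1
    -- a linear factor of `g c`
    let G : MvPolynomial (Fin 2) K := g c
    obtain ⟨e, heH, he0, l, hel⟩ : ∃ e ∈ H2, e ≠ 0 ∧ ∃ l, G = e * l ∧ l.IsHomogeneous 1 := by
      obtain ⟨a₀, a₁, a₂, a₃, hG⟩ : ∃ a₀ a₁ a₂ a₃ : K, G = MvPolynomial.C a₃ * MvPolynomial.X 1 ^ 3 +
          MvPolynomial.C a₂ * (MvPolynomial.X 0 * MvPolynomial.X 1 ^ 2) +
          MvPolynomial.C a₁ * (MvPolynomial.X 0 ^ 2 * MvPolynomial.X 1) +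
          MvPolynomial.C a₀ * MvPolynomial.X 0 ^ 3 := by
        let v : Fin 4 → H3 := ![⟨MvPolynomial.X 1 ^ 3, MvPolynomial.isHomogeneous_X_pow _ _⟩,
          ⟨MvPolynomial.X 0 * MvPolynomial.X 1 ^ 2, (MvPolynomial.isHomogeneous_X K 0).mul (MvPolynomial.isHomogeneous_X_pow _ _)⟩,
          ⟨MvPolynomial.X 0 ^ 2 * MvPolynomial.X 1, (MvPolynomial.isHomogeneous_X_pow _ _).mul (MvPolynomial.isHomogeneous_X K 1)⟩,
          ⟨MvPolynomial.X 0 ^ 3, MvPolynomial.isHomogeneous_X_pow _ _⟩]
        have hli : LinearIndependent K v := by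
          rw [Fintype.linearIndependent_iff]
          intro w hw
          have hw' := congrArg Subtype.val hw
          simp only [Fin.sum_univ_four, v, Submodule.coe_add, Submodule.coe_smul, Submodule.coe_zero,
            Matrix.cons_val_zero, Matrix.cons_val_one, Matrix.cons_val] at hw'
          have hP : ∀ t : K, w 0 + w 1 * t + w 2 * t ^ 2 + w 3 * t ^ 3 = 0 := fun t => by
            simpa using congrArg (MvPolynomial.eval ![t, 1]) hw'
          let P : Polynomial K := Polynomial.C (w 0) + Polynomial.C (w 1) * Polynomial.X +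
            Polynomial.C (w 2) * Polynomial.X ^ 2 + Polynomial.C (w 3) * Polynomial.X ^ 3
          have hP0 : P = 0 := Polynomial.funext fun t => by simp [P, hP t]
          intro i
          fin_cases i
          · simpa [P, Polynomial.coeff_C] using congrArg (Polynomial.coeff · 0) hP0
          · simpa [P, Polynomial.coeff_C, Polynomial.coeff_X] using congrArg (Polynomial.coeff · 1) hP0
          · simpa [P, Polynomial.coeff_C, Polynomial.coeff_X] using congrArg (Polynomial.coeff · 2) hP0
          · simpa [P, Polynomial.coeff_C, Polynomial.coeff_X] using congrArg (Polynomial.coeff · 3) hP0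
        have hsp := hli.span_eq_top_of_card_eq_finrank (by simp [h3])
        have hmem : g c ∈ Submodule.span K (Set.range v) := by rw [hsp]; trivial
        obtain ⟨w, hw⟩ := (Submodule.mem_span_range_iff_exists_fun K).1 hmem
        refine ⟨w 3, w 2, w 1, w 0, ?_⟩
        rw [show G = ((g c : H3) : MvPolynomial (Fin 2) K) from rfl, ← hw]
        simp [Fin.sum_univ_four, v, MvPolynomial.smul_eq_C_mul]
      have hG0 : G ≠ 0 := fun h => hg0 c (Subtype.ext h)
      by_cases h33 : a₃ = 0
      · refine ⟨MvPolynomial.C a₂ * MvPolynomial.X 1 ^ 2 +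
            MvPolynomial.C a₁ * (MvPolynomial.X 0 * MvPolynomial.X 1) + MvPolynomial.C a₀ * MvPolynomial.X 0 ^ 2,
          ?_, ?_, MvPolynomial.X 0, ?_, MvPolynomial.isHomogeneous_X K 0⟩
        · exact ((MvPolynomial.isHomogeneous_X_pow _ _).C_mul _).add
            (((MvPolynomial.isHomogeneous_X K 0).mul (MvPolynomial.isHomogeneous_X K 1)).C_mul _) |>.add
            ((MvPolynomial.isHomogeneous_X_pow _ _).C_mul _)
        · intro h
          apply hG0
          rw [hG, h33, map_zero]
          linear_combination MvPolynomial.X 0 * h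
        · rw [hG, h33, map_zero]; ring
      · obtain ⟨t, ht⟩ := IsAlgClosed.exists_root (Polynomial.C a₃ * Polynomial.X ^ 3 +
            Polynomial.C a₂ * Polynomial.X ^ 2 + Polynomial.C a₁ * Polynomial.X + Polynomial.C a₀) (by
          rw [Polynomial.degree_cubic h33]; decide)
        simp only [Polynomial.IsRoot.def, Polynomial.eval_add, Polynomial.eval_mul, Polynomial.eval_C,
          Polynomial.eval_pow, Polynomial.eval_X] at ht
        refine ⟨MvPolynomial.C a₃ * MvPolynomial.X 1 ^ 2 +
            MvPolynomial.C (a₂ + a₃ * t) * (MvPolynomial.X 0 * MvPolynomial.X 1) +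
            MvPolynomial.C (a₁ + a₂ * t + a₃ * t ^ 2) * MvPolynomial.X 0 ^ 2,
          ?_, ?_, MvPolynomial.X 1 - MvPolynomial.C t * MvPolynomial.X 0, ?_,
          (MvPolynomial.isHomogeneous_X K 1).sub ((MvPolynomial.isHomogeneous_X K 0).C_mul _)⟩
        · exact ((MvPolynomial.isHomogeneous_X_pow _ _).C_mul _).add
            (((MvPolynomial.isHomogeneous_X K 0).mul (MvPolynomial.isHomogeneous_X K 1)).C_mul _) |>.add
            ((MvPolynomial.isHomogeneous_X_pow _ _).C_mul _)
        · intro h
          apply h33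
          simpa using congrArg (MvPolynomial.eval ![0, 1]) h
        · have ht' := congrArg (MvPolynomial.C (σ := Fin 2)) ht
          simp only [map_add, map_mul, map_pow, map_zero] at ht' ⊢
          rw [hG]
          linear_combination (MvPolynomial.X 0) ^ 3 * ht'
    -- everything in `V` is congruent to a multiple of one vector modulo `e`
    let E : H3 →ₗ[K] H5 :=
      (LinearMap.mulLeft K e ∘ₗ H3.subtype).codRestrict H5 fun h => MvPolynomial.IsHomogeneous.mul heH h.2
    have hcov : ⊤ ≤ V5 ⊔ LinearMap.range E := by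
      rintro ⟨F5, hF⟩ -
      obtain ⟨v, hv, h, hh, heq⟩ := hsep e heH he0 F5 hF
      exact Submodule.mem_sup.2 ⟨⟨v, hV hv⟩, hv, E ⟨h, hh⟩, ⟨_, rfl⟩, Subtype.ext heq.symm⟩
    have hle : LinearMap.range (M (g c)) ≤ V5 ⊓ LinearMap.range E := by
      rintro _ ⟨q, rfl⟩
      refine ⟨hall q, ⟨⟨l * q, hel.2.mul q.2⟩, Subtype.ext ?_⟩⟩
      show e * (l * q) = (g c : MvPolynomial (Fin 2) K) * q
      rw [show (g c : MvPolynomial (Fin 2) K) = e * l from hel.1, mul_assoc]
    have hinj : Function.Injective (M (g c)) := fun a b h => Subtype.ext (mul_left_cancel₀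
      (fun h0 => hg0 c (Subtype.ext h0)) (congrArg Subtype.val h))
    have d1 := Submodule.finrank_sup_add_finrank_inf_eq V5 (LinearMap.range E)
    rw [top_le_iff.1 hcov, finrank_top, h6, hV5] at d1
    have d2 := Submodule.finrank_mono hle
    rw [LinearMap.finrank_range_of_inj hinj, h2] at d2
    have d3 : Module.finrank K (LinearMap.range E) ≤ 4 := h3 ▸ LinearMap.finrank_range_le E
    omega
  by_contra hcon
  simp only [not_exists, not_and, not_forall, not_not] at hcon
  have hF' : ∀ c, ∃ f ∈ F, ∃ a : K, (g c : MvPolynomial (Fin 2) K) = a • f := by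
    intro c
    obtain ⟨g', hg', a, ha⟩ := hcon _ (g c).2 (fun h => hg0 c (Subtype.ext h)) (hgood c)
    exact ⟨g', hg', a, ha⟩
  choose f hfF a ha using hF'
  haveI : Infinite K := IsAlgClosed.instInfinite
  obtain ⟨c, c', hne, hcc⟩ := Finite.exists_ne_map_eq_of_infinite (fun c => (⟨f c, hfF c⟩ : {x // x ∈ F}))
  have hfc : f c = f c' := congrArg Subtype.val hcc
  have hac : a c' ≠ 0 := fun h => hg0 c' (Subtype.ext (by rw [ha, h, zero_smul]; rfl))
  refine hne (hprop c c' (a c * (a c')⁻¹) ?_)
  rw [ha c, ha c', hfc, smul_smul, mul_assoc, inv_mul_cancel₀ hac, mul_one]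

end Groth.Agent.S19809
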