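import Groth.Statements.S19868
import Groth.Agent.PLie.Dim3
import Mathlib.Tactic.LinearCombination

set_option autoImplicit false
universe u v
open PLie

namespace Groth.Agent.S19868

open DualNumber in
/-- Let K be a field of prime characteristic p, K[ε] the ring of dual numbers (taken with its
characteristic-p structure) and a, …, i ∈ K. Let L be a Lie algebra over K[ε], free as a module with
basis x = bs 0, y = bs 1, z = bs 2 and brackets [x,y] = aε x + bε y + cε z, [x,z] = dε x + eε y + fε
z, [y,z] = (1 + gε) x + hε y + iε z, a first-order deformation of the Heisenberg algebra (the Jacobi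
identity forces b + f = 0). Then L carries a p-mapping over K[ε] if and only if b = c = e = 0 when p
= 2; for odd p there is no condition. (The published statement is about the singularity of the point
h_3 in the restrictable locus of the rank-one-centre stratum of the moduli scheme of based
three-dimensional Lie algebras over the prime field; this row states the restrictability criterion
for the first-order deformations of h_3 asserted in its proof, over any field of characteristic p in
place of the prime field.) -/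
theorem result (K : Type u) [Field K] (p : ℕ) [Fact p.Prime] [CharP K p]
    [CharP (DualNumber K) p] (a b c d e f g h i : K)
    (L : Type v) [LieRing L] [LieAlgebra (DualNumber K) L] (bs : Module.Basis (Fin 3) (DualNumber K) L)
    (hxy : ⁅bs 0, bs 1⁆ = (a • ε : DualNumber K) • bs 0 + (b • ε : DualNumber K) • bs 1 + (c • ε : DualNumber K) • bs 2)
    (hxz : ⁅bs 0, bs 2⁆ = (d • ε : DualNumber K) • bs 0 + (e • ε : DualNumber K) • bs 1 + (f • ε : DualNumber K) • bs 2)
    (hyz : ⁅bs 1, bs 2⁆ = (1 + g • ε : DualNumber K) • bs 0 + (h • ε : DualNumber K) • bs 1 + (i • ε : DualNumber K) • bs 2) :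
    Nonempty (PLie.PMap (DualNumber K) p L) ↔ (p = 2 → b = 0 ∧ c = 0 ∧ e = 0) := by
  classical
  open Groth.Agent.PLie.Dim3 in
  have br := lie_vec bs hxy hxz hyz
  open Groth.Agent.PLie.Dim3 in
  have hadd : ∀ x y z x' y' z' : DualNumber K, vec bs x y z + vec bs x' y' z' = vec bs (x+x') (y+y') (z+z') := by
    intros; simp only [vec, add_smul]; abel
  have hp := (Fact.out : p.Prime)
  open Groth.Agent.PLie.Dim3 in
  have hbf : b + f = 0 := by
    have hJ := lie_jacobi (bs 0) (bs 1) (bs 2)
    simp only [basis_zero bs, basis_one bs, basis_two bs, br, hadd] at hJ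
    rw [zero_eq bs, vec_inj bs] at hJ
    have k0 := congrArg TrivSqZeroExt.snd hJ.1
    simp at k0
    linear_combination -k0
  rw [Groth.Agent.PLie.Exist.nonempty_pmap_iff bs]
  open Groth.Agent.PLie.Dim3 in
  constructor
  · intro H h2
    subst h2
    obtain ⟨w, hw⟩ := H 1
    rw [← vec_repr bs w, basis_one bs, pow_two] at hw
    generalize bs.repr w 0 = α, bs.repr w 1 = β, bs.repr w 2 = γ at hw
    have f0 := LinearMap.congr_fun hw (vec bs 1 0 0)
    have f1 := LinearMap.congr_fun hw (vec bs 0 1 0)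
    have f2 := LinearMap.congr_fun hw (vec bs 0 0 1)
    rw [Module.End.mul_apply, LieAlgebra.ad_apply, LieAlgebra.ad_apply, LieAlgebra.ad_apply, br, br, br, vec_inj bs] at f0 f1 f2
    simp [TrivSqZeroExt.ext_iff] at f0 f1 f2
    obtain ⟨w', hw'⟩ := H 2
    rw [← vec_repr bs w', basis_two bs, pow_two] at hw'
    generalize bs.repr w' 0 = α', bs.repr w' 1 = β', bs.repr w' 2 = γ' at hw'
    have g0 := LinearMap.congr_fun hw' (vec bs 1 0 0)
    have g1 := LinearMap.congr_fun hw' (vec bs 0 1 0)
    have g2 := LinearMap.congr_fun hw' (vec bs 0 0 1)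
    rw [Module.End.mul_apply, LieAlgebra.ad_apply, LieAlgebra.ad_apply, LieAlgebra.ad_apply, br, br, br, vec_inj bs] at g0 g1 g2
    simp [TrivSqZeroExt.ext_iff] at g0 g1 g2
    obtain ⟨f00, -, -⟩ := f0
    obtain ⟨⟨hγ, -⟩, -, -⟩ := f1
    obtain ⟨⟨hβ, -⟩, f21, -⟩ := f2
    obtain ⟨g00, -, -⟩ := g0
    obtain ⟨⟨hγ', -⟩, -, -⟩ := g1
    obtain ⟨⟨hβ', -⟩, -, -⟩ := g2
    rw [hγ, ← hβ] at f00
    rw [← hβ] at f21
    rw [hγ', ← hβ'] at g00
    have he : e = 0 := by simpa using g00
    exact ⟨by simpa [he] using f21, by simpa using f00, he⟩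
  · intro hc j
    have hn : ∀ w : L, (p = 2 → ∃ y : L, LieAlgebra.ad (DualNumber K) L w ^ 2 = LieAlgebra.ad (DualNumber K) L y) →
        (∃ y : L, LieAlgebra.ad (DualNumber K) L w ^ 3 = LieAlgebra.ad (DualNumber K) L y) →
        LieAlgebra.ad (DualNumber K) L w ^ 4 = 0 → ∃ y : L, LieAlgebra.ad (DualNumber K) L w ^ p = LieAlgebra.ad (DualNumber K) L y := by
      intro w h2 h3 h4
      by_cases hp2 : p = 2
      · rw [hp2]; exact h2 hp2
      by_cases hp3 : p = 3
      · rw [hp3]; exact h3
      · exact ⟨0, by rw [map_zero]; exact pow_eq_zero_of_le (by have := hp.two_le; omega) h4⟩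
    have hf : p = 2 → f = 0 := fun h2 => by linear_combination hbf - (hc h2).1
    fin_cases j
    · refine ⟨0, ?_⟩
      rw [map_zero]
      simp only [Fin.zero_eta, Fin.isValue, basis_zero bs]
      refine pow_eq_zero_of_le hp.two_le (end_ext bs ?_ ?_ ?_) <;>
        rw [pow_two, Module.End.mul_apply, LieAlgebra.ad_apply, LieAlgebra.ad_apply, br, br, LinearMap.zero_apply, zero_eq bs, vec_inj bs] <;>
        refine ⟨?_, ?_, ?_⟩ <;> ext <;> simp
    · simp only [Fin.mk_one, Fin.isValue, basis_one bs]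
      refine hn _ (fun hp2 => ⟨vec bs 0 ((i - a) • ε) 0, ?_⟩) ⟨vec bs 0 (-(c • ε)) 0, ?_⟩ ?_
      · refine end_ext bs ?_ ?_ ?_ <;>
          rw [pow_two, Module.End.mul_apply, LieAlgebra.ad_apply, LieAlgebra.ad_apply, LieAlgebra.ad_apply, br, br, br, vec_inj bs] <;>
          refine ⟨?_, ?_, ?_⟩ <;> ext <;> simp [(hc hp2).1, (hc hp2).2.1] <;> ring
      · refine end_ext bs ?_ ?_ ?_ <;>
          rw [pow_succ, pow_two, Module.End.mul_apply, Module.End.mul_apply, LieAlgebra.ad_apply, LieAlgebra.ad_apply, LieAlgebra.ad_apply, LieAlgebra.ad_apply, br, br, br, br, vec_inj bs] <;>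
          refine ⟨?_, ?_, ?_⟩ <;> ext <;> simp
      · refine end_ext bs ?_ ?_ ?_ <;>
          rw [pow_succ, pow_succ, pow_two, Module.End.mul_apply, Module.End.mul_apply, Module.End.mul_apply, LieAlgebra.ad_apply, LieAlgebra.ad_apply, LieAlgebra.ad_apply, LieAlgebra.ad_apply, br, br, br, br, LinearMap.zero_apply, zero_eq bs, vec_inj bs] <;>
          refine ⟨?_, ?_, ?_⟩ <;> ext <;> simp
    · simp only [Fin.reduceFinMk, Fin.isValue, basis_two bs]
      refine hn _ (fun hp2 => ⟨vec bs 0 0 (-((d + h) • ε)), ?_⟩) ⟨vec bs 0 0 (e • ε), ?_⟩ ?_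
      · refine end_ext bs ?_ ?_ ?_ <;>
          rw [pow_two, Module.End.mul_apply, LieAlgebra.ad_apply, LieAlgebra.ad_apply, LieAlgebra.ad_apply, br, br, br, vec_inj bs] <;>
          refine ⟨?_, ?_, ?_⟩ <;> ext <;> simp [(hc hp2).2.2, hf hp2] <;> ring
      · refine end_ext bs ?_ ?_ ?_ <;>
          rw [pow_succ, pow_two, Module.End.mul_apply, Module.End.mul_apply, LieAlgebra.ad_apply, LieAlgebra.ad_apply, LieAlgebra.ad_apply, LieAlgebra.ad_apply, br, br, br, br, vec_inj bs] <;>
          refine ⟨?_, ?_, ?_⟩ <;> ext <;> simp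
      · refine end_ext bs ?_ ?_ ?_ <;>
          rw [pow_succ, pow_succ, pow_two, Module.End.mul_apply, Module.End.mul_apply, Module.End.mul_apply, LieAlgebra.ad_apply, LieAlgebra.ad_apply, LieAlgebra.ad_apply, LieAlgebra.ad_apply, br, br, br, br, LinearMap.zero_apply, zero_eq bs, vec_inj bs] <;>
          refine ⟨?_, ?_, ?_⟩ <;> ext <;> simp

end Groth.Agent.S19868
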