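import Groth.Statements.S1987
import Mathlib.RingTheory.Polynomial.Eisenstein.Basic
import Mathlib.RingTheory.AdjoinRoot
import Mathlib.RingTheory.DiscreteValuationRing.TFAE
import Mathlib.RingTheory.IntegralClosure.IsIntegralClosure.Basic
import Mathlib.RingTheory.Polynomial.UniqueFactorization
import Mathlib.RingTheory.Valuation.ValuationSubring
import Mathlib.RingTheory.Valuation.LocalSubring
import Mathlib.RingTheory.Ideal.GoingUp

set_option autoImplicit false
universe u
open Polynomial
open EtAlg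

namespace Groth.Agent.S1987

/-- Let A be a discrete valuation ring with uniformizer π and n ≥ 2, and let A' = A[x]/(x^n - π). Then
x^n - π is irreducible over A, A' is an integrally closed discrete valuation ring (so it is the
integral closure of A in its fraction field K₁ = K(π^{1/n}), of degree n over K), the maximal ideal
of A generates the n-th power of the maximal ideal of A' (ramification index n), and K₁ is totally
ramified with respect to A. -/
theorem result (A : Type u) [CommRing A] [IsDomain A] [IsDiscreteValuationRing A] (π : A)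
    (hπ : Irreducible π) (n : ℕ) (hn : 2 ≤ n) :
    Irreducible (X ^ n - C π : A[X]) ∧
    ∃ (_ : IsDomain (AdjoinRoot (X ^ n - C π : A[X]))) (_ : IsDiscreteValuationRing (AdjoinRoot (X ^ n - C π : A[X]))),
      IsIntegrallyClosed (AdjoinRoot (X ^ n - C π : A[X])) ∧
      (IsLocalRing.maximalIdeal A).map (algebraMap A (AdjoinRoot (X ^ n - C π : A[X]))) = IsLocalRing.maximalIdeal (AdjoinRoot (X ^ n - C π : A[X])) ^ n ∧
      ∀ (K₁ : Type u) [Field K₁] [Algebra (AdjoinRoot (X ^ n - C π : A[X])) K₁] [IsFractionRing (AdjoinRoot (X ^ n - C π : A[X])) K₁],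
        EtRam.IsTotallyRamified A ((algebraMap (AdjoinRoot (X ^ n - C π : A[X])) K₁).comp (algebraMap A (AdjoinRoot (X ^ n - C π : A[X])))) := by
  classical
  set f : A[X] := X ^ n - C π with hfdef
  have hmon : f.Monic := monic_X_pow_sub_C π (by omega)
  have hdeg : f.natDegree = n := natDegree_X_pow_sub_C
  have hmax : IsLocalRing.maximalIdeal A = Ideal.span {π} := hπ.maximalIdeal_eq
  have hπ2 : π ∉ Ideal.span {π} ^ 2 := by
    rw [Ideal.span_singleton_pow, Ideal.mem_span_singleton]
    rintro ⟨c, hc⟩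
    refine hπ.not_isUnit (IsUnit.of_mul_eq_one (a := π) c ?_)
    have h0 : π * (π * c) = π * 1 := by rw [mul_one, ← mul_assoc, ← pow_two, ← hc]
    exact mul_left_cancel₀ hπ.ne_zero h0
  have hirr : Irreducible f := by
    refine IsEisensteinAt.irreducible (𝓟 := Ideal.span {π}) ⟨?_, ?_, ?_⟩ ?_ hmon.isPrimitive
      (by omega)
    · rw [hmon.leadingCoeff, ← hmax]
      exact fun h => (IsLocalRing.maximalIdeal.isMaximal A).ne_top ((Ideal.eq_top_iff_one _).mpr h)
    · intro i hi
      rw [hdeg] at hi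
      rw [hfdef, coeff_sub, coeff_X_pow, coeff_C, if_neg (by omega)]
      rcases Nat.eq_zero_or_pos i with rfl | h
      · simpa using Ideal.mem_span_singleton_self π
      · rw [if_neg (by omega), sub_zero]; exact zero_mem _
    · have h0 : f.coeff 0 = -π := by
        rw [hfdef, coeff_sub, coeff_X_pow, coeff_C, if_neg (by omega), if_pos rfl, zero_sub]
      rw [h0, neg_mem_iff]
      exact hπ2
    · rw [← hmax]; exact (IsLocalRing.maximalIdeal.isMaximal A).isPrime
  refine ⟨hirr, ?_⟩
  have : IsDomain (AdjoinRoot f) :=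
    AdjoinRoot.isDomain_of_prime (UniqueFactorizationMonoid.irreducible_iff_prime.mp hirr)
  let x : AdjoinRoot f := AdjoinRoot.root f
  have hfin : Module.Finite A (AdjoinRoot f) := hmon.finite_adjoinRoot
  have : Algebra.IsIntegral A (AdjoinRoot f) := Algebra.IsIntegral.of_finite A _
  have : IsNoetherianRing (AdjoinRoot f) := isNoetherianRing_of_surjective _ _ (AdjoinRoot.mk f)
    AdjoinRoot.mk_surjective
  have hxn : x ^ n = algebraMap A (AdjoinRoot f) π := by
    have h := AdjoinRoot.eval₂_root f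
    rw [hfdef, eval₂_sub, eval₂_pow, eval₂_X, eval₂_C, sub_eq_zero] at h
    exact h
  have hinj : Function.Injective (algebraMap A (AdjoinRoot f)) := by
    refine AdjoinRoot.of.injective_of_degree_ne_zero (f := f) ?_
    rw [degree_eq_natDegree hmon.ne_zero, hdeg]
    exact_mod_cast (show n ≠ 0 by omega)
  have hdec : ∀ a : AdjoinRoot f, ∃ (a0 : A) (c : AdjoinRoot f),
      a = algebraMap A _ a0 + x * c := by
    intro a
    obtain ⟨g, rfl⟩ := AdjoinRoot.mk_surjective (g := f) a
    refine ⟨g.coeff 0, AdjoinRoot.mk f g.divX, ?_⟩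
    conv_lhs => rw [← X_mul_divX_add g]
    rw [map_add, map_mul, AdjoinRoot.mk_X, AdjoinRoot.mk_C, add_comm]
    rfl
  have hcomap : ∀ M : Ideal (AdjoinRoot f), M.IsMaximal →
      M.comap (algebraMap A (AdjoinRoot f)) = Ideal.span {π} := fun M hM => by
    haveI := hM
    rw [← hmax]
    exact IsLocalRing.eq_maximalIdeal (Ideal.isMaximal_comap_of_isIntegral_of_isMaximal M)
  have hM : ∀ M : Ideal (AdjoinRoot f), M.IsMaximal → M = Ideal.span {x} := by
    intro M hM
    have hxM : x ∈ M := by
      refine hM.isPrime.mem_of_pow_mem n ?_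
      rw [hxn, ← Ideal.mem_comap, hcomap M hM]
      exact Ideal.mem_span_singleton_self π
    refine le_antisymm (fun a ha => ?_) (by rwa [Ideal.span_le, Set.singleton_subset_iff])
    obtain ⟨a0, c, rfl⟩ := hdec a
    have h0 : a0 ∈ M.comap (algebraMap A (AdjoinRoot f)) := by
      rw [Ideal.mem_comap]
      simpa using M.sub_mem ha (M.mul_mem_right c hxM)
    rw [hcomap M hM, Ideal.mem_span_singleton] at h0
    obtain ⟨e, rfl⟩ := h0
    rw [Ideal.mem_span_singleton, map_mul, ← hxn]
    exact dvd_add (dvd_mul_of_dvd_left (dvd_pow_self x (by omega)) _) (Dvd.intro c rfl)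
  obtain ⟨M0, hM0⟩ := Ideal.exists_maximal (AdjoinRoot f)
  have : IsLocalRing (AdjoinRoot f) :=
    IsLocalRing.of_unique_max_ideal ⟨M0, hM0, fun J hJ => (hM J hJ).trans (hM M0 hM0).symm⟩
  have hmax' : IsLocalRing.maximalIdeal (AdjoinRoot f) = Ideal.span {x} :=
    hM _ (IsLocalRing.maximalIdeal.isMaximal _)
  have hx0 : x ≠ 0 := fun h => hπ.ne_zero (hinj (by rw [← hxn, h, map_zero, zero_pow (by omega)]))
  have hnf : ¬ IsField (AdjoinRoot f) := by
    rw [IsLocalRing.isField_iff_maximalIdeal_eq, hmax', Ideal.span_singleton_eq_bot]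
    exact hx0
  have hdvr : IsDiscreteValuationRing (AdjoinRoot f) :=
    ((IsDiscreteValuationRing.TFAE (AdjoinRoot f) hnf).out 0 4 rfl rfl).mpr ⟨x, hmax'⟩
  refine ⟨inferInstance, hdvr, inferInstance, ?_, ?_⟩
  · rw [hmax, Ideal.map_span, Set.image_singleton, hmax', Ideal.span_singleton_pow, hxn]
  intro K₁ _ _ _
  set j := algebraMap (AdjoinRoot f) K₁ with hj
  have hjinj : Function.Injective j := IsFractionRing.injective (AdjoinRoot f) K₁
  let V0 : ValuationSubring K₁ := ValuationSubring.ofSubring j.range fun z => by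
    rcases ValuationRing.isInteger_or_isInteger (AdjoinRoot f) z with ⟨a, ha⟩ | ⟨a, ha⟩
    · exact Or.inl ⟨a, ha⟩
    · exact Or.inr ⟨a, ha⟩
  let g := j.comp (algebraMap A (AdjoinRoot f))
  have hxlt : ∀ V : ValuationSubring K₁, EtRam.Dominates A g V → V.valuation (j x) < 1 := by
    intro V hV
    have hlt := hV.2 π (by rw [hmax]; exact Ideal.mem_span_singleton_self π)
    rw [show g π = j x ^ n by rw [← map_pow, hxn]; rfl, map_pow] at hlt
    exact (pow_lt_one_iff (by omega : n ≠ 0)).mp hlt
  have hle : ∀ V : ValuationSubring K₁, EtRam.Dominates A g V → ∀ a, j a ∈ V := by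
    intro V hV a
    obtain ⟨p, hp, hpa⟩ := Algebra.IsIntegral.isIntegral (R := A) a
    have hint : IsIntegral V (j a) := by
      refine ⟨p.map (RingHom.codRestrict g V hV.1), hp.map _, ?_⟩
      rw [eval₂_map]
      have := congrArg j hpa
      rw [hom_eval₂, map_zero] at this
      exact this
    obtain ⟨v, hv⟩ := IsIntegrallyClosed.isIntegral_iff.mp hint
    exact hv ▸ v.2
  have huniq : ∀ V : ValuationSubring K₁, EtRam.Dominates A g V → ∀ z, z ∈ V → ∃ a, j a = z := by
    intro V hV z hz
    rcases ValuationRing.isInteger_or_isInteger (AdjoinRoot f) z with ⟨a, ha⟩ | ⟨b, hb⟩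
    · exact ⟨a, ha⟩
    by_cases hu : IsUnit b
    · obtain ⟨u, rfl⟩ := hu
      refine ⟨((u⁻¹ : (AdjoinRoot f)ˣ) : AdjoinRoot f), ?_⟩
      rw [← inv_inv z, ← hb]
      refine eq_inv_of_mul_eq_one_left ?_
      rw [← map_mul, Units.inv_mul, map_one]
    · have hbm : b ∈ IsLocalRing.maximalIdeal (AdjoinRoot f) := hu
      rw [hmax', Ideal.mem_span_singleton] at hbm
      obtain ⟨c, rfl⟩ := hbm
      have h1 : V.valuation (j (x * c)) < 1 := by
        rw [map_mul, map_mul]
        exact (mul_le_of_le_one_right' ((V.valuation_le_one_iff _).mpr (hle V hV c))).trans_lt (hxlt V hV)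
      by_cases hz0 : z = 0
      · exact ⟨0, by rw [map_zero, hz0]⟩
      exfalso
      have h2 : V.valuation z * V.valuation (j (x * c)) = 1 := by
        rw [← map_mul]
        show V.valuation (z * algebraMap (AdjoinRoot f) K₁ (x * c)) = 1
        rw [hb, mul_inv_cancel₀ hz0, map_one]
      exact ((mul_le_of_le_one_left' ((V.valuation_le_one_iff _).mpr hz)).trans_lt h1).ne h2
  refine ⟨⟨V0, fun a => ⟨algebraMap A _ a, rfl⟩, fun a ha => ?_⟩,
    fun V V' hV hV' => SetLike.ext fun z => ⟨fun hz => ?_, fun hz => ?_⟩, ?_⟩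
  · have hmem : j (algebraMap A (AdjoinRoot f) a) ∈ V0 := ⟨_, rfl⟩
    refine lt_of_le_of_ne ((V0.valuation_le_one_iff _).mpr hmem) fun h => ?_
    have hu : IsUnit (⟨j (algebraMap A (AdjoinRoot f) a), hmem⟩ : V0) :=
      (V0.valuation_eq_one_iff _).mpr h
    obtain ⟨w, hw⟩ := hu.exists_right_inv
    obtain ⟨b, hb⟩ := w.2
    have h1 : algebraMap A (AdjoinRoot f) a * b = 1 := hjinj (by
      rw [map_mul, map_one, hb]; exact congrArg Subtype.val hw)
    have h2 : algebraMap A (AdjoinRoot f) a ∈ IsLocalRing.maximalIdeal (AdjoinRoot f) := by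
      rw [← Ideal.mem_comap, hcomap _ (IsLocalRing.maximalIdeal.isMaximal _), ← hmax]
      exact ha
    exact h2 (IsUnit.of_mul_eq_one _ h1)
  · obtain ⟨a, rfl⟩ := huniq V hV z hz; exact hle V' hV' a
  · obtain ⟨a, rfl⟩ := huniq V' hV' z hz; exact hle V hV a
  intro V hV r
  obtain ⟨v, rfl⟩ := IsLocalRing.residue_surjective r
  obtain ⟨a, ha⟩ := huniq V hV v v.2
  obtain ⟨a0, c, rfl⟩ := hdec a
  refine ⟨a0, ?_⟩
  rw [← sub_eq_zero, ← map_sub, IsLocalRing.residue_eq_zero_iff, V.valuation_lt_one_iff]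
  have h3 : ((RingHom.codRestrict g V hV.1 a0 - v : V) : K₁) = - (j x * j c) := by
    show j (algebraMap A _ a0) - (v : K₁) = _
    rw [← ha, map_add, map_mul]; ring
  rw [h3, Valuation.map_neg, map_mul]
  exact (mul_le_of_le_one_right' ((V.valuation_le_one_iff _).mpr (hle V hV c))).trans_lt (hxlt V hV)

end Groth.Agent.S1987
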