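import Groth.Statements.S19890
import Groth.Agent.S17722
import Mathlib.RingTheory.Flat.EquationalCriterion
import Mathlib.RingTheory.UniqueFactorizationDomain.GCDMonoid
import Mathlib.RingTheory.UniqueFactorizationDomain.Basic

set_option autoImplicit false
universe u
open CAlg

namespace Groth.Agent.S19890

/-- Let R → R' be a faithfully flat ring map between Noetherian integrally closed local domains. Then
unique factorization descends along this map: when R' is a UFD, so is R. (The first assertion of the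
lemma, descent of principality for an ideal whose extension to R' is principal, is a separate
statement.) -/
theorem result
    (R R' : Type u) [CommRing R] [CommRing R'] [IsDomain R] [IsDomain R']
    [IsNoetherianRing R] [IsNoetherianRing R'] [IsLocalRing R] [IsLocalRing R']
    [IsIntegrallyClosed R] [IsIntegrallyClosed R']
    [Algebra R R'] [Module.FaithfullyFlat R R'] [UniqueFactorizationMonoid R'] :
    UniqueFactorizationMonoid R := by
  classical
  let _ := UniqueFactorizationMonoid.toGCDMonoid R'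
  have inter : ∀ a b : R, (Ideal.span {a} ⊓ Ideal.span {b} : Ideal R).IsPrincipal := by
    intro a b
    refine Groth.Agent.S17722.result R R' _ ⟨lcm (algebraMap R R' a) (algebraMap R R' b), ?_⟩
    rw [Ideal.submodule_span_eq]
    refine le_antisymm ?_ ?_
    · refine Ideal.map_le_iff_le_comap.2 fun r hr => ?_
      obtain ⟨ha, hb⟩ := hr
      rw [SetLike.mem_coe, Ideal.mem_span_singleton] at ha hb
      rw [Ideal.mem_comap, Ideal.mem_span_singleton]
      exact lcm_dvd (map_dvd _ ha) (map_dvd _ hb)
    · rw [Ideal.span_le, Set.singleton_subset_iff]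
      obtain ⟨x, hx⟩ := dvd_lcm_left (algebraMap R R' a) (algebraMap R R' b)
      obtain ⟨y, hy⟩ := dvd_lcm_right (algebraMap R R' a) (algebraMap R R' b)
      have hrel : ∑ i, ![a, -b] i • ![x, y] i = 0 := by
        simp [Fin.sum_univ_two, Algebra.smul_def, ← hx, ← hy]
      obtain ⟨k, c, z, hc, hz⟩ := Module.Flat.isTrivialRelation_of_sum_smul_eq_zero hrel
      have hx' : x = ∑ j, c 0 j • z j := by simpa using hc 0
      rw [SetLike.mem_coe, hx, hx', Finset.mul_sum]
      refine sum_mem fun j _ => ?_
      rw [Algebra.smul_def, ← mul_assoc, ← map_mul]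
      refine Ideal.mul_mem_right _ _ (Ideal.mem_map_of_mem _ ⟨?_, ?_⟩)
      · exact Ideal.mem_span_singleton.2 (dvd_mul_right _ _)
      · have h2 : a * c 0 j + -b * c 1 j = 0 := by simpa [Fin.sum_univ_two] using hz j
        exact Ideal.mem_span_singleton.2 ⟨c 1 j, by linear_combination h2⟩
  refine { irreducible_iff_prime := fun {p} => ⟨fun hp => ⟨hp.ne_zero, hp.not_isUnit, ?_⟩, Prime.irreducible⟩ }
  intro a b hab
  by_cases hpa : p ∣ a
  · exact Or.inl hpa
  right
  obtain ⟨l, hl⟩ := inter p a
  rw [Ideal.submodule_span_eq] at hl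
  have ha0 : a ≠ 0 := fun h => hpa (h ▸ dvd_zero p)
  have hll : l ∈ Ideal.span {p} ⊓ Ideal.span {a} := hl ▸ Ideal.mem_span_singleton_self l
  obtain ⟨hlp, hla⟩ := hll
  rw [SetLike.mem_coe, Ideal.mem_span_singleton] at hlp hla
  obtain ⟨v, hv⟩ := hlp
  obtain ⟨u, hu⟩ := hla
  have hpam : p * a ∈ Ideal.span {p} ⊓ Ideal.span {a} :=
    ⟨Ideal.mem_span_singleton.2 (dvd_mul_right _ _), Ideal.mem_span_singleton.2 (dvd_mul_left _ _)⟩
  rw [hl, Ideal.mem_span_singleton] at hpam
  obtain ⟨d, hd⟩ := hpam
  have habm : a * b ∈ Ideal.span {p} ⊓ Ideal.span {a} :=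
    ⟨Ideal.mem_span_singleton.2 hab, Ideal.mem_span_singleton.2 (dvd_mul_right _ _)⟩
  rw [hl, Ideal.mem_span_singleton] at habm
  have hpud : p = u * d := mul_left_cancel₀ ha0 (by
    calc a * p = l * d := by rw [mul_comm a p, hd]
      _ = a * (u * d) := by rw [hu, mul_assoc])
  rcases hp.isUnit_or_isUnit hpud with h | h
  · exfalso
    obtain ⟨u', rfl⟩ := h
    refine hpa ⟨v * ↑u'⁻¹, ?_⟩
    calc a = a * (↑u' * ↑u'⁻¹) := by simp
      _ = l * ↑u'⁻¹ := by rw [hu, mul_assoc]
      _ = p * (v * ↑u'⁻¹) := by rw [hv, mul_assoc]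
  · have : p * a ∣ a * b := by rw [hd]; exact (associated_mul_unit_left l d h).dvd_iff_dvd_left.2 habm
    rw [mul_comm a b] at this
    exact (mul_dvd_mul_iff_right ha0).1 this

end Groth.Agent.S19890
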