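import Groth.Statements.S19892
import Groth.Agent.Misc9.ValRefine2
-- import your own Groth.Agent.* helpers here

set_option autoImplicit false
universe u
open CategoryTheory AlgebraicGeometry
open ValCrit

namespace Groth.Agent.S19892

/-- Let h : Z → Y and f : Y → X be morphisms of quasi-compact quasi-separated schemes, with h dominant
and f locally of finite type. Then f is proper if and only if the following refined valuative
criterion holds: for every point z of Z, every valuation ring R of the residue field κ(z) and every
morphism φ : Spec R → X whose restriction to Spec κ(z) is the canonical morphism Spec κ(z) → Z → Y →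
X, there is exactly one morphism Spec R → Y lying over φ and restricting to Spec κ(z) → Z → Y on the
generic point. (The published statement does not require h to be dominant; its proof uses that every
point of Y generalises to a point of h(Z), and for Z empty the criterion holds whatever f is, so
dominance of h is assumed here.) -/
theorem result {X Y Z : Scheme.{u}} (h : Z ⟶ Y) (f : Y ⟶ X)
    [CompactSpace ↥Z] [QuasiSeparatedSpace ↥Z] [CompactSpace ↥Y] [QuasiSeparatedSpace ↥Y]
    [CompactSpace ↥X] [QuasiSeparatedSpace ↥X] (hd : DenseRange h.base)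
    [LocallyOfFiniteType f] :
    IsProper f ↔
      ∀ (z : ↥Z) (R : ValuationSubring ↑(Z.residueField z)) (φ : Spec (CommRingCat.of ↥R) ⟶ X),
        Spec.map (CommRingCat.ofHom R.subtype) ≫ φ = Z.fromSpecResidueField z ≫ h ≫ f →
        ∃! φ' : Spec (CommRingCat.of ↥R) ⟶ Y,
          Spec.map (CommRingCat.ofHom R.subtype) ≫ φ' = Z.fromSpecResidueField z ≫ h ∧ φ' ≫ f = φ := by
  haveI : QuasiCompact h := inferInstance
  refine (Groth.Agent.Misc9.ValRefine2.proper_iff h f hd).trans ⟨fun ⟨he, hu⟩ z R φ hφ => ?_, fun H => ⟨fun z R φ hφ => (H z R φ hφ).exists, fun z R φ₁ φ₂ a c e => ?_⟩⟩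
  · obtain ⟨l, l1, l2⟩ := he z R φ hφ
    exact ⟨l, ⟨l1, l2⟩, fun m ⟨m1, m2⟩ => hu z R m l m1 l1 (m2.trans l2.symm)⟩
  · exact (H z R (φ₁ ≫ f) (by rw [← Category.assoc, a, Category.assoc])).unique ⟨a, rfl⟩ ⟨c, e.symm⟩

end Groth.Agent.S19892
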