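import Groth.Statements.S19895
import Groth.Agent.Lead.Verlinde

set_option autoImplicit false
open Complex
open VerlindeComb

namespace Groth.Agent.S19895

/-- Fix integers r ≥ 2 and k ≥ 1, and two partitions λ, λ' with k ≥ λ_1 ≥ ⋯ ≥ λ_{r-1} ≥ λ_r = 0 and k ≥
λ'_1 ≥ ⋯ ≥ λ'_{r-1} ≥ λ'_r = 0 such that λ is not equivalent to the dual partition λ'* = (k − λ'_r,
…, k − λ'_1), two integer vectors being equivalent when their difference is a constant vector (a, …,
a). For an integer vector v with r + k > v_1 > ⋯ > v_{r-1} > v_r = 0 put z(v)_j = exp(2πi v_j / (r +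
k)), let S_μ(v) = det(z(v)_j^{μ_i + r − i}) / det(z(v)_j^{r − i}) be the Schur value and P(v) =
∏_{i<j} (2 sin(π (v_i − v_j)/(r + k)))². Then the sum over all such v of exp(−2πi (|λ| + |λ'|) (v_1
+ ⋯ + v_r) / (r (r + k))) · S_λ(v) · S_{λ'}(v) · P(v) vanishes; that is, the genus-zero Verlinde
number of rank r, degree 0 and level k with two parabolic points of types λ, λ' is zero. (Only the
vanishing case is stated; the complementary case, where the number equals 1, is not part of this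
statement. The source allows r = 1, where the non-equivalence hypothesis cannot hold.) Indices are
0-based below: lam i stands for λ_{i+1}. -/
theorem result (r k : ℕ) (hr : 2 ≤ r)
    (hk : 1 ≤ k) (lam lam' : Fin r → ℕ) (hlam : Antitone lam) (hlamk : ∀ i, lam i ≤ k)
    (hlam0 : ∀ i : Fin r, (i : ℕ) = r - 1 → lam i = 0)
    (hlam' : Antitone lam') (hlam'k : ∀ i, lam' i ≤ k) (hlam'0 : ∀ i : Fin r, (i : ℕ) = r - 1 → lam' i = 0)
    (hne : ¬ ∃ a : ℤ, ∀ i, (lam i : ℤ) - ((k - lam' (Fin.rev i) : ℕ) : ℤ) = a)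
    (z : (Fin r → ℕ) → Fin r → ℂ)
    (hz : ∀ v j, z v j = Complex.exp (2 * Real.pi * Complex.I * (v j : ℂ) / ((r : ℂ) + k)))
    (S : (Fin r → ℕ) → (Fin r → ℕ) → ℂ)
    (hS : ∀ μ v, S μ v = (Matrix.of fun i j : Fin r => z v j ^ (μ i + (r - 1 - (i : ℕ)))).det /
        (Matrix.of fun i j : Fin r => z v j ^ (r - 1 - (i : ℕ))).det)
    (P : (Fin r → ℕ) → ℝ)
    (hP : ∀ v, P v = ∏ p ∈ (Finset.univ : Finset (Fin r × Fin r)).filter (fun p => p.1 < p.2),
        ((2 : ℝ) * Real.sin (Real.pi * ((v p.1 : ℝ) - (v p.2 : ℝ)) / ((r : ℝ) + k))) ^ 2) :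
    (∑ v ∈ (Finset.univ : Finset (Fin r → Fin (r + k))).filter
        (fun v : Fin r → Fin (r + k) => StrictAnti v ∧ ∀ i : Fin r, (i : ℕ) = r - 1 → (v i : ℕ) = 0),
      Complex.exp (-(2 * Real.pi * Complex.I * (((∑ i, lam i) + (∑ i, lam' i) : ℕ) : ℂ) *
          ((∑ j, (v j : ℕ) : ℕ) : ℂ) / ((r : ℂ) * ((r : ℂ) + k)))) *
        S lam (fun j => (v j : ℕ)) * S lam' (fun j => (v j : ℕ)) * (P (fun j => (v j : ℕ)) : ℂ)) = 0 := by
  classical
  set a : Fin r → ℕ := fun i => lam i + (r - 1 - (i : ℕ)) with hadef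
  set b : Fin r → ℕ := fun i => lam' i + (r - 1 - (i : ℕ)) with hbdef
  have hanti : ∀ l : Fin r → ℕ, Antitone l → StrictAnti (fun i : Fin r => l i + (r - 1 - (i : ℕ))) := by
    intro l hl i j hij
    have := hl hij.le
    have h' : (i : ℕ) < j := hij
    have := j.isLt
    show l j + (r - 1 - (j : ℕ)) < l i + (r - 1 - (i : ℕ))
    omega
  have hlt : ∀ l : Fin r → ℕ, (∀ i, l i ≤ k) → ∀ i : Fin r, l i + (r - 1 - (i : ℕ)) < r + k := by
    intro l hl i; have := hl i; omega
  have hne' : ¬ ∃ q, ∀ i : Fin r, a i + b i.rev = q := by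
    rintro ⟨q, hq⟩
    refine hne ⟨(q : ℤ) - (r - 1 : ℕ) - k, fun i => ?_⟩
    have h := hq i
    have := hlam'k i.rev
    simp only [hadef, hbdef, Fin.val_rev] at h
    have := i.isLt
    omega
  have hzero := Groth.Agent.Lead.Verlinde.sum_eq_zero (r + k) a b hr (by omega) (hlt lam hlamk) (hlt lam' hlam'k)
    (hanti lam hlam) (hanti lam' hlam') hne'
  have key : ∀ v ∈ Groth.Agent.Lead.Verlinde.J r (r + k),
      Complex.exp (-(2 * Real.pi * Complex.I * (((∑ i, lam i) + (∑ i, lam' i) : ℕ) : ℂ) *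
          ((∑ j, (v j : ℕ) : ℕ) : ℂ) / ((r : ℂ) * ((r : ℂ) + k)))) *
        S lam (fun j => (v j : ℕ)) * S lam' (fun j => (v j : ℕ)) * (P (fun j => (v j : ℕ)) : ℂ) =
      (-1) ^ Groth.Agent.Lead.Verlinde.C2 r *
        Groth.Agent.Lead.Verlinde.G (r + k) a b (Groth.Agent.Lead.Verlinde.toR v) := by
    intro v hv
    obtain ⟨-, hv, -⟩ := Finset.mem_filter.1 hv
    set N : ℝ := ((r + k : ℕ) : ℝ) with hNdef
    have hN : (r : ℂ) + k = (N : ℂ) := by rw [hNdef]; push_cast; ring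
    have hN0 : N ≠ 0 := by rw [hNdef]; exact Nat.cast_ne_zero.2 (by omega)
    set x : Fin r → ℝ := fun j => ((v j : ℕ) : ℝ) / N with hx
    set w : Fin r → ℂ := fun j => Groth.Agent.Lead.Verlinde.E (x j) with hw
    have hzw : z (fun j => (v j : ℕ)) = w := by
      funext j
      rw [hz, hN, hw, hx]
      simp only [Groth.Agent.Lead.Verlinde.E]
      push_cast
      ring_nf
    have hnum : ∀ c : Fin r → ℕ, (Matrix.of fun i j : Fin r => w j ^ c i) =
        Groth.Agent.Lead.Verlinde.alt (r + k) c (Groth.Agent.Lead.Verlinde.toR v) := by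
      intro c; ext i j
      simp only [Matrix.of_apply, Groth.Agent.Lead.Verlinde.alt, hw, hx,
        Groth.Agent.Lead.Verlinde.toR]
      rw [← Groth.Agent.Lead.Verlinde.E_nat_mul, mul_div_assoc]
    set Δ := (Matrix.of fun i j : Fin r => w j ^ (r - 1 - (i : ℕ))).det with hΔ
    have hinj : ∀ i j, i < j → w i - w j ≠ 0 := by
      intro i j hij h
      rw [sub_eq_zero] at h
      simp only [hw] at h
      have h1 : Groth.Agent.Lead.Verlinde.E (x i - x j) = 1 := by
        have e := Groth.Agent.Lead.Verlinde.E_add (x i - x j) (x j)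
        rw [sub_add_cancel, h] at e
        exact (mul_left_eq_self₀.1 e.symm).resolve_right (Groth.Agent.Lead.Verlinde.E_ne_zero _)
      obtain ⟨m, hm⟩ := Groth.Agent.Lead.Verlinde.E_eq_one.1 h1
      have hlt' : (v j : ℕ) < v i := hv hij
      have hilt := (v i).isLt
      have : (((v i : ℕ) : ℤ) - (v j : ℕ) : ℤ) = m * (r + k : ℕ) := by
        have h2 : (((v i : ℕ) : ℝ) - ((v j : ℕ) : ℝ)) = (m : ℝ) * N := by
          rw [← hm, hx]; field_simp
        rw [hNdef] at h2
        exact_mod_cast h2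
      rcases lt_trichotomy m 0 with h0 | h0 | h0
      · have : m * ((r + k : ℕ) : ℤ) ≤ 0 := mul_nonpos_of_nonpos_of_nonneg h0.le (Int.natCast_nonneg _)
        omega
      · subst h0; simp at this; omega
      · have : ((r + k : ℕ) : ℤ) ≤ m * (r + k : ℕ) := le_mul_of_one_le_left (Int.natCast_nonneg _) h0
        omega
    have hsq := Groth.Agent.Lead.Verlinde.det_delta_sq w
    rw [← hΔ] at hsq
    have hΔ0 : Δ ≠ 0 := by
      intro h
      rw [h, zero_pow two_ne_zero] at hsq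
      obtain ⟨p, hp, hp0⟩ := Finset.prod_eq_zero_iff.1 hsq.symm
      exact hinj p.1 p.2 (Finset.mem_filter.1 hp).2 (pow_eq_zero_iff two_ne_zero |>.1 hp0)
    have hw0 : ∏ i, w i ^ (r - 1) ≠ 0 :=
      Finset.prod_ne_zero_iff.2 fun i _ => pow_ne_zero _ (Groth.Agent.Lead.Verlinde.E_ne_zero _)
    have hPv : (P (fun j => (v j : ℕ)) : ℂ) =
        (-1) ^ Groth.Agent.Lead.Verlinde.C2 r * Δ ^ 2 / ∏ i, w i ^ (r - 1) := by
      rw [hP, hsq, ← Groth.Agent.Lead.Verlinde.prod_pairs w, Complex.ofReal_prod,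
        Groth.Agent.Lead.Verlinde.C2, ← Finset.prod_const, ← Finset.prod_mul_distrib, ← Finset.prod_div_distrib]
      refine Finset.prod_congr rfl fun p _ => ?_
      rw [neg_one_mul, show w p.1 = Groth.Agent.Lead.Verlinde.E (x p.1) from rfl,
        show w p.2 = Groth.Agent.Lead.Verlinde.E (x p.2) from rfl,
        ← Groth.Agent.Lead.Verlinde.two_sin_sq]
      simp only [hx, hNdef]
      push_cast
      ring_nf
    have hph : Complex.exp (-(2 * Real.pi * Complex.I * (((∑ i, lam i) + (∑ i, lam' i) : ℕ) : ℂ) *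
          ((∑ j, (v j : ℕ) : ℕ) : ℂ) / ((r : ℂ) * ((r : ℂ) + k)))) / (∏ i, w i ^ (r - 1)) =
        Groth.Agent.Lead.Verlinde.E (-((Groth.Agent.Lead.Verlinde.M a b : ℝ) *
          ∑ j, Groth.Agent.Lead.Verlinde.toR v j) / ((r : ℝ) * N)) := by
      rw [div_eq_iff hw0]
      simp only [hw, ← Groth.Agent.Lead.Verlinde.E_nat_mul, ← Groth.Agent.Lead.Verlinde.E_sum,
        ← Groth.Agent.Lead.Verlinde.E_add]
      have hM : Groth.Agent.Lead.Verlinde.M a b =
          ((∑ i, lam i) + ∑ i, lam' i) + r * (r - 1) := by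
        have hs : (∑ i : Fin r, (r - 1 - (i : ℕ))) * 2 = r * (r - 1) := by
          rw [Fin.sum_univ_eq_sum_range (fun i => r - 1 - i), Finset.sum_range_reflect (fun i => i) r,
            Finset.sum_range_id_mul_two]
        simp only [Groth.Agent.Lead.Verlinde.M, hadef, hbdef, Finset.sum_add_distrib]
        omega
      rw [Groth.Agent.Lead.Verlinde.E, hN]
      congr 1
      have hr0 : (r : ℂ) ≠ 0 := Nat.cast_ne_zero.2 (by omega)
      have hNc : (N : ℂ) ≠ 0 := by exact_mod_cast hN0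
      simp only [hM, hx, Groth.Agent.Lead.Verlinde.toR, ← Finset.mul_sum, ← Finset.sum_div]
      push_cast
      generalize ((r - 1 : ℕ) : ℂ) = r1
      field_simp
      ring
    rw [hS, hS, hzw, hPv, Groth.Agent.Lead.Verlinde.G, ← hnum a, ← hnum b, ← hΔ]
    rw [← hNdef, ← hph]
    simp only [hadef, hbdef]
    field_simp
  rw [show (Finset.univ : Finset (Fin r → Fin (r + k))).filter
      (fun v : Fin r → Fin (r + k) => StrictAnti v ∧ ∀ i : Fin r, (i : ℕ) = r - 1 → (v i : ℕ) = 0) =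
      Groth.Agent.Lead.Verlinde.J r (r + k) by simp [Groth.Agent.Lead.Verlinde.J]]
  rw [Finset.sum_congr rfl key, ← Finset.mul_sum, hzero, mul_zero]

end Groth.Agent.S19895
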