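import Groth.Statements.S19898
import Groth.Agent.SymNorm.Det

set_option autoImplicit false
universe u
open scoped TensorProduct
open SymTen

namespace Groth.Agent.S19898

open Groth.Agent.SymNorm
/-- Let R be a commutative ring and R' a commutative R-algebra that is free of rank d as an R-module.
Let (C, γ) be the degree-d divided power algebra of R' over R, given as an R-algebra C with a
multiplicative homogeneous degree-d polynomial law γ : R' → C that is universal among such laws; let
φ : C → T^d_R(R') be the R-algebra homomorphism into the d-fold tensor power whose composite with γ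
is the law x ↦ x ⊗ ⋯ ⊗ x, and π : C → R the R-algebra homomorphism whose composite with γ is the
norm law of R' over R. Let T^d_R(R') act on itself factor by factor and let I_d ⊂ T^d_R(R') be the
R-span of the pure tensors with two equal factors, so that T^d_R(R')/I_d is the top exterior power
Λ^d_R(R'), free of rank one. Then for every c ∈ C and every x ∈ T^d_R(R') the element φ(c)·x − π(c)
x lies in I_d: the symmetric tensor φ(c) acts on Λ^d_R(R') as multiplication by the scalar π(c),
i.e. the homomorphism TS^d_R(R') → R given by the action on the top exterior power, composed with φ,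
equals π. (The source states this for R' finite locally free of constant rank d; the free case is
the affine-local form.) -/
theorem result (R : Type u) [CommRing R] (R' : Type u) [CommRing R']
    [Algebra R R'] [Module.Free R R'] [Module.Finite R R'] (d : ℕ) (hd : Module.finrank R R' = d)
    {C : Type u} [CommRing C] [Algebra R C] (γ : PolLaw.MulLaw R R' C d) (hγ : PolLaw.IsGammaD γ)
    (φ : C →ₐ[R] (⨂[R] _ : Fin d, R')) (hφ : PolLaw.MulLaw.postcomp φ γ = SymTen.tpowLaw R R' d)
    (π : C →ₐ[R] R) (hπ : PolLaw.MulLaw.postcomp π γ = PolLaw.normLaw R R' d hd)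
    (c : C) (x : ⨂[R] _ : Fin d, R') :
    SymTen.tpowAct R R' R' d (φ c) x - π c • x ∈ SymTen.altSpan R R' d := by
  rcases subsingleton_or_nontrivial R with hR | hR
  · have : Subsingleton (⨂[R] _ : Fin d, R') := Module.subsingleton R _
    rw [Subsingleton.elim (SymTen.tpowAct R R' R' d (φ c) x - π c • x) 0]
    exact Submodule.zero_mem _
  obtain ⟨b⟩ : Nonempty (Module.Basis (Fin d) R R') := ⟨Module.finBasisOfFinrankEq R R' hd⟩
  have hlaw : ∀ (S : Type u) [CommRing S] [Algebra R S] (z : S ⊗[R] R'),
      φ.toLinearMap.lTensor S (γ.law.toFun' S z) = (SymTen.tpowLaw R R' d).law.toFun' S z := by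
    intro S _ _ z
    rw [← hφ]
    rfl
  have hsym : ∀ c σ, SymTen.perm R R' d σ (φ c) = φ c := by
    intro c σ
    obtain ⟨f, -, huniq⟩ := hγ (⨂[R] _ : Fin d, R') (SymTen.tpowLaw R R' d)
    have h1 := huniq φ (congrArg PolLaw.MulLaw.law hφ)
    have h2 := huniq ((SymTen.perm R R' d σ).comp φ) (law_ext fun S _ _ z => by
      change ((SymTen.perm R R' d σ).toLinearMap ∘ₗ φ.toLinearMap).lTensor S (γ.law.toFun' S z) = _
      rw [LinearMap.lTensor_comp_apply, hlaw, SymTen.tpowLaw, PolLaw.MulLaw.prodMap_toFun',
        PolLaw.lTensor_algHom_apply, map_prod]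
      refine Fintype.prod_equiv σ _ _ fun j => ?_
      induction z using TensorProduct.induction_on with
      | zero => simp
      | tmul s a =>
        simp only [Algebra.TensorProduct.map_tmul, AlgHom.id_apply, PiTensorProduct.singleAlgHom_apply,
          MonoidHom.mulSingle_apply]
        rw [SymTen.perm_tprod]
        congr 2
        funext k
        by_cases hk : k = σ j
        · subst hk; simp
        · rw [Pi.mulSingle_eq_of_ne hk, Pi.mulSingle_eq_of_ne (fun e => hk (by rw [← e, Equiv.apply_symm_apply]))]
      | add a a' ha ha' => simp only [map_add, ha, ha'])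
    exact DFunLike.congr_fun (h2.trans h1.symm) c
  let L : (⨂[R] _ : Fin d, R') →ₗ[R] R := (dfun b).comp (LinearMap.mulRight R (PiTensorProduct.tprod R b))
  have hL : ∀ t, L t = dfun b (t * PiTensorProduct.tprod R b) := fun t => rfl
  let ψ : C →ₐ[R] R := AlgHom.ofLinearMap (L.comp φ.toLinearMap)
    (by change L (φ 1) = 1; rw [map_one, hL, one_mul, dfun_omega])
    (fun a a' => by
      change L (φ (a * a')) = L (φ a) * L (φ a')
      rw [map_mul, hL, hL, hL, mul_assoc, dfun_mul_eq b (hsym a), mul_comm])
  have hψ : ψ = π := by
    obtain ⟨f, -, huniq⟩ := hγ R (PolLaw.normLaw R R' d hd)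
    refine (huniq ψ (law_ext fun S _ _ z => ?_)).trans (huniq π (congrArg PolLaw.MulLaw.law hπ)).symm
    change (L ∘ₗ φ.toLinearMap).lTensor S (γ.law.toFun' S z) = _
    rw [LinearMap.lTensor_comp_apply, hlaw, PolLaw.normLaw_apply, dfun_tpow_eq_norm b S z]
  have hD : dfun b (SymTen.tpowAct R R' R' d (φ c) x - π c • x) = 0 := by
    rw [map_sub, map_smul, ← hψ]
    change dfun b (act R R' d (φ c) x) - L (φ c) • dfun b x = 0
    rw [act_eq_mul, dfun_mul_eq b (hsym c), ← hL, smul_eq_mul, mul_comm, sub_self]
  have := sub_dfun_mem b (SymTen.tpowAct R R' R' d (φ c) x - π c • x)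
  rwa [hD, zero_smul, sub_zero] at this

end Groth.Agent.S19898
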