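import Groth.Statements.S1992
import Groth.Agent.HensPair.Radical
import Mathlib.FieldTheory.IsSepClosed

set_option autoImplicit false
universe u
open Polynomial
open EtAlg

namespace Groth.Agent.S1992

/-- Let A be an absolutely integrally closed ring, i.e. every monic polynomial over A is a product of
linear factors X - a. Then for every prime p of A the localization A_p is a strictly henselian local
ring (henselian with separably closed residue field). -/
theorem result (A : Type u) [CommRing A]
    (hA : ∀ f : A[X], f.Monic → ∃ s : Multiset A, f = (s.map fun a => X - C a).prod)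
    (p : Ideal A) [p.IsPrime] :
    EtCoh.IsStrictlyHenselianLocalRing (Localization.AtPrime p) := by
  let L := Localization.AtPrime p
  have split : ∀ g : L[X], g.Monic → ∃ (s : Multiset A) (b : Lˣ),
      s.card = g.natDegree ∧ ∀ x, (b : L) ^ g.natDegree * g.eval x =
        (s.map fun a => (b : L) * x - algebraMap A L a).prod := by
    intro g hg
    obtain ⟨b, hb⟩ := IsLocalization.exist_integer_multiples_of_finset p.primeCompl g.coeffs
    have hu : IsUnit (algebraMap A L b) := IsLocalization.map_units L b
    have hlift : g.scaleRoots (algebraMap A L b) ∈ lifts (algebraMap A L) := by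
      rw [lifts_iff_coeff_lifts]
      intro i
      rw [coeff_scaleRoots]
      rcases lt_or_ge i g.natDegree with hi | hi
      · by_cases hc : g.coeff i = 0
        · exact ⟨0, by rw [hc, zero_mul, map_zero]⟩
        obtain ⟨r, hr⟩ := hb (g.coeff i) (coeff_mem_coeffs hc)
        refine ⟨r * (b : A) ^ (g.natDegree - i - 1), ?_⟩
        rw [map_mul, hr, Algebra.smul_def, map_pow, mul_comm (algebraMap A L b), mul_assoc,
          ← pow_succ', Nat.sub_add_cancel (by omega)]
      · rw [Nat.sub_eq_zero_of_le hi, pow_zero, mul_one]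
        rcases hi.eq_or_lt with rfl | hlt
        · exact ⟨1, by rw [hg.coeff_natDegree, map_one]⟩
        · exact ⟨0, by rw [coeff_eq_zero_of_natDegree_lt hlt, map_zero]⟩
    obtain ⟨G, hG, hdeg, hGm⟩ := lifts_and_degree_eq_and_monic hlift (monic_scaleRoots_iff _ |>.mpr hg)
    obtain ⟨s, rfl⟩ := hA G hGm
    refine ⟨s, hu.unit, ?_, fun x => ?_⟩
    · have := natDegree_eq_of_degree_eq hdeg
      rw [natDegree_scaleRoots] at this
      have hA' : Nontrivial A := (algebraMap A L).domain_nontrivial
      rw [← this, natDegree_multiset_prod_X_sub_C_eq_card]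
    · have h1 := scaleRoots_eval₂_mul (p := g) (RingHom.id L) x (algebraMap A L b)
      simp only [RingHom.id_apply, eval₂_id] at h1
      rw [IsUnit.unit_spec, ← h1, ← hG, Polynomial.map_multiset_prod, eval_multiset_prod,
        Multiset.map_map, Multiset.map_map]
      congr 1
      exact Multiset.map_congr rfl fun a _ => by simp
  have hroot : ∀ g : L[X], g.Monic → ∀ (s : Multiset A) (b : Lˣ),
      (∀ x, (b : L) ^ g.natDegree * g.eval x = (s.map fun a => (b : L) * x - algebraMap A L a).prod) →
      ∀ a ∈ s, g.IsRoot (↑b⁻¹ * algebraMap A L a) := fun g _ s b h a ha => by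
    refine (IsUnit.mul_right_eq_zero (b.isUnit.pow g.natDegree)).mp ?_
    rw [h]
    refine Multiset.prod_eq_zero (Multiset.mem_map.mpr ⟨a, ha, ?_⟩)
    rw [← mul_assoc, Units.mul_inv, one_mul, sub_self]
  have hh : HenselianLocalRing L := by
    refine { is_henselian := fun g hg a₀ h₀ _ => ?_ }
    obtain ⟨s, b, -, hev⟩ := split g hg
    have hmem : (s.map fun a => (b : L) * a₀ - algebraMap A L a).prod ∈ IsLocalRing.maximalIdeal L :=
      hev a₀ ▸ Ideal.mul_mem_left _ _ h₀
    obtain ⟨c, hc, hcm⟩ :=
      ((inferInstance : (IsLocalRing.maximalIdeal L).IsPrime).multiset_prod_mem_iff_exists_mem _).mp hmem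
    obtain ⟨a, ha, rfl⟩ := Multiset.mem_map.mp hc
    refine ⟨_, hroot g hg s b hev a ha, ?_⟩
    have : (↑b⁻¹ : L) * algebraMap A L a - a₀ = -(↑b⁻¹ * ((b : L) * a₀ - algebraMap A L a)) := by
      rw [mul_sub, ← mul_assoc, Units.inv_mul, one_mul, neg_sub]
    rw [this]
    exact neg_mem (Ideal.mul_mem_left _ _ hcm)
  refine ⟨hh, IsSepClosed.of_exists_root _ fun g hg hirr _ => ?_⟩
  obtain ⟨G, hG, hdeg, hGm⟩ := lifts_and_degree_eq_and_monic
    (f := IsLocalRing.residue L) ((mem_lifts g).mpr (map_surjective _ IsLocalRing.residue_surjective g)) hg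
  obtain ⟨s, b, hcard, hev⟩ := split G hGm
  obtain ⟨a, ha⟩ := Multiset.card_pos_iff_exists_mem.mp (by
    rw [hcard, natDegree_eq_of_degree_eq hdeg]; exact hirr.natDegree_pos : 0 < s.card)
  refine ⟨IsLocalRing.residue L (↑b⁻¹ * algebraMap A L a), ?_⟩
  rw [← hG, eval_map_apply, (hroot G hGm s b hev a ha).eq_zero, map_zero]

end Groth.Agent.S1992
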