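import Groth.Statements.S1995
import Groth.Agent.HensPair.Henselization
import Groth.Agent.HensPair.Radical
import Groth.Agent.Hensel.Idem
import Mathlib.RingTheory.Idempotents
import Mathlib.RingTheory.Ideal.Quotient.Operations

set_option autoImplicit false
universe u
open EtAlg

namespace Groth.Agent.S1995

/-- Let I_1, …, I_n be pairwise comaximal ideals of a ring A, B a henselization of the pair (A, I_1 ∩ …
∩ I_n) and B_i a henselization of (A, I_i) for each i. Then B is isomorphic as an A-algebra to the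
product of the B_i (any such isomorphism is the natural comparison map, by the universal property). -/
theorem result (A : Type u) [CommRing A] {n : ℕ} (I : Fin n → Ideal A)
    (hI : Pairwise fun i j => I i ⊔ I j = ⊤) (B : Type u) [CommRing B] [Algebra A B]
    (hB : Hens2.IsPairHenselization A (⨅ i, I i) B) (Bi : Fin n → Type u) [∀ i, CommRing (Bi i)] [∀ i, Algebra A (Bi i)]
    (hBi : ∀ i, Hens2.IsPairHenselization A (I i) (Bi i)) :
    Nonempty (B ≃ₐ[A] ∀ i, Bi i) := by
  classical
  let K : Ideal A := ⨅ i, I i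
  have := hB.1
  have hjacB : K.map (algebraMap A B) ≤ Ideal.jacobson ⊥ := HenselianRing.jac
  have hKle : ∀ i, K ≤ I i := fun i => iInf_le _ i
  -- approximate idempotents in `A`
  have hb : ∀ i, ∃ b : A, ∀ j, b - (if j = i then 1 else 0) ∈ I j := fun i => by
    obtain ⟨z, hz⟩ := (Ideal.quotientInfRingEquivPiQuotient I
      (fun i j hij => Ideal.isCoprime_iff_sup_eq.mpr (hI hij))).surjective
      (fun j => Ideal.Quotient.mk (I j) (if j = i then 1 else 0))
    obtain ⟨b, rfl⟩ := Ideal.Quotient.mk_surjective z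
    exact ⟨b, fun j => Ideal.Quotient.eq.mp (congr_fun hz j)⟩
  choose b hb using hb
  have hmemK : ∀ (x : A), (∀ j, x ∈ I j) → algebraMap A B x ∈ K.map (algebraMap A B) := fun x hx =>
    Ideal.mem_map_of_mem _ (Ideal.mem_iInf.mpr hx)
  have hlift : ∀ i, ∃ e : B, IsIdempotentElem e ∧ e - algebraMap A B (b i) ∈ K.map (algebraMap A B) := by
    intro i
    have : (algebraMap A B (b i)) ^ 2 - algebraMap A B (b i) ∈
        (K.map (algebraMap A B)).map (algebraMap B B) := by
      rw [Algebra.algebraMap_self, Ideal.map_id, ← map_pow, ← map_sub]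
      refine hmemK _ fun j => ?_
      rw [← Ideal.Quotient.eq_zero_iff_mem, map_sub, map_pow, Ideal.Quotient.eq.mpr (hb i j)]
      split_ifs <;> simp
    obtain ⟨e, he, heb⟩ := HensPair.Basic.exists_idempotent (I := K.map (algebraMap A B)) B _ this
    rw [Algebra.algebraMap_self, Ideal.map_id] at heb
    exact ⟨e, he, heb⟩
  choose e he heb using hlift
  have hq : ∀ i, Ideal.Quotient.mk (K.map (algebraMap A B)) (e i) =
      Ideal.Quotient.mk _ (algebraMap A B (b i)) := fun i => Ideal.Quotient.eq.mpr (heb i)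
  have hzero : ∀ x : B, IsIdempotentElem x → x ∈ K.map (algebraMap A B) → x = 0 := fun x hx hxm =>
    Hensel.Idem.eq_of_sub_mem hx .zero (by rw [sub_zero]; exact hjacB hxm)
  have hortho : Pairwise fun i j => e i * e j = 0 := fun i j hij => by
    refine hzero _ ((he i).mul (he j)) ?_
    rw [← Ideal.Quotient.eq_zero_iff_mem, map_mul, hq, hq, ← map_mul, ← map_mul,
      Ideal.Quotient.eq_zero_iff_mem]
    refine hmemK _ fun k => ?_
    rw [← Ideal.Quotient.eq_zero_iff_mem, map_mul, Ideal.Quotient.eq.mpr (hb i k),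
      Ideal.Quotient.eq.mpr (hb j k)]
    by_cases hk : k = i
    · subst hk; simp [hij]
    · simp [hk]
  have hcomp : CompleteOrthogonalIdempotents e := by
    refine ⟨⟨he, hortho⟩, (sub_eq_zero.mp ?_).symm⟩
    refine hzero _ (OrthogonalIdempotents.isIdempotentElem_sum ⟨he, hortho⟩).one_sub ?_
    rw [← Ideal.Quotient.eq_zero_iff_mem, map_sub, map_one, map_sum,
      Finset.sum_congr rfl fun i _ => hq i, ← map_sum, ← map_sum, ← map_one (Ideal.Quotient.mk _),
      ← map_one (algebraMap A B), ← map_sub, ← map_sub, Ideal.Quotient.eq_zero_iff_mem]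
    refine hmemK _ fun k => ?_
    rw [← Ideal.Quotient.eq_zero_iff_mem, map_sub, map_sum,
      Finset.sum_congr rfl fun i _ => Ideal.Quotient.eq.mpr (hb i k)]
    simp [apply_ite (Ideal.Quotient.mk (I k))]
  -- the factors
  let D := fun i => Ideal.span ({1 - e i} : Set B)
  have hD : ∀ i, (I i).map (algebraMap A (B ⧸ D i)) = K.map (algebraMap A (B ⧸ D i)) := fun i => by
    refine le_antisymm (Ideal.map_le_iff_le_comap.mpr fun x hx => ?_) (Ideal.map_mono (hKle i))
    rw [Ideal.mem_comap]
    have h1 : Ideal.Quotient.mk (D i) (e i) = 1 := by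
      rw [← map_one (Ideal.Quotient.mk (D i)), Ideal.Quotient.eq, ← neg_sub]
      exact neg_mem (Ideal.mem_span_singleton_self (1 - e i))
    have h2 : algebraMap A B (x * b i) ∈ K.map (algebraMap A B) := hmemK _ fun j => by
      by_cases hj : j = i
      · subst hj; exact Ideal.mul_mem_right _ _ hx
      · refine Ideal.mul_mem_left _ _ ?_
        simpa [hj] using hb i j
    have h3 : algebraMap A B x * e i ∈ K.map (algebraMap A B) := by
      have := add_mem h2 (Ideal.mul_mem_left _ (algebraMap A B x) (heb i))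
      rw [map_mul, mul_sub, add_sub_cancel] at this
      exact this
    have h4 := Ideal.mem_map_of_mem (Ideal.Quotient.mk (D i)) h3
    rw [Ideal.map_map, map_mul, h1, mul_one] at h4
    exact h4
  have hDh : ∀ i, HenselianRing (B ⧸ D i) ((I i).map (algebraMap A (B ⧸ D i))) := fun i => by
    rw [hD i, IsScalarTower.algebraMap_eq A B (B ⧸ D i), ← Ideal.map_map]
    exact HensPair.Radical.henselian_quotient (J := K.map (algebraMap A B)) (D i)
  have hγ : ∀ i, Nonempty (Bi i →ₐ[A] B ⧸ D i) := fun i => by
    have := hDh i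
    exact HensPair.Henselization.exists_algHom (hBi i) _ le_rfl
  have hβ : ∀ i, Nonempty (B →ₐ[A] Bi i) := fun i => by
    have := (hBi i).1
    exact HensPair.Henselization.exists_algHom hB _ (Ideal.map_mono (hKle i))
  let β := fun i => (hβ i).some
  let γ := fun i => (hγ i).some
  have β_kill : ∀ i, ∀ x ∈ D i, β i x = 0 := fun i x hx => by
    obtain ⟨c, rfl⟩ := Ideal.mem_span_singleton'.mp hx
    have h0 : β i (1 - e i) = 0 := by
      refine Hensel.Idem.eq_of_sub_mem ((he i).one_sub.map (β i)) .zero ?_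
      rw [sub_zero]
      refine (hBi i).1.jac ?_
      have h1 := Ideal.mem_map_of_mem (β i).toRingHom (heb i)
      rw [Ideal.map_map, AlgHom.toRingHom_eq_coe, AlgHom.comp_algebraMap] at h1
      have h2 : algebraMap A (Bi i) (1 - b i) ∈ (I i).map (algebraMap A (Bi i)) :=
        Ideal.mem_map_of_mem _ (by have := neg_mem (hb i i); rw [if_pos rfl, neg_sub] at this; exact this)
      have h3 := sub_mem h2 (Ideal.map_mono (hKle i) h1)
      convert h3 using 1
      simp
    rw [map_mul, h0, mul_zero]
  let β' : ∀ i, (B ⧸ D i) →ₐ[A] Bi i := fun i => Ideal.Quotient.liftₐ (D i) (β i) (β_kill i)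
  have hleft : ∀ i, (β' i).comp (γ i) = AlgHom.id A (Bi i) := fun i => by
    have := (hBi i).1
    exact HensPair.Henselization.algHom_ext (hBi i) _ le_rfl _ _
  have hright : ∀ i z, γ i (β' i z) = z := fun i z => by
    obtain ⟨z, rfl⟩ := Ideal.Quotient.mk_surjective z
    have := hDh i
    exact DFunLike.congr_fun (HensPair.Henselization.algHom_ext hB ((I i).map (algebraMap A (B ⧸ D i)))
      (Ideal.map_mono (hKle i)) (((γ i).comp (β' i)).comp (Ideal.Quotient.mkₐ A (D i)))
      (Ideal.Quotient.mkₐ A (D i))) z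
  have hbij := CompleteOrthogonalIdempotents.bijective_pi' (e := fun i => 1 - e i) (by simpa using hcomp)
  let π : B →ₐ[A] ∀ i, B ⧸ D i := Pi.algHom A _ fun i => Ideal.Quotient.mkₐ A (D i)
  exact ⟨(AlgEquiv.ofBijective π hbij).trans
    (AlgEquiv.piCongrRight fun i => AlgEquiv.ofAlgHom (β' i) (γ i) (hleft i) (AlgHom.ext (hright i)))⟩

end Groth.Agent.S1995
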