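import Groth.Statements.S1996
import Groth.Agent.FlatMor.AbsFlat

set_option autoImplicit false
universe u
open EtAlg
open scoped TensorProduct

namespace Groth.Agent.S1996

/-- Let A -> B -> C be ring maps with B -> C faithfully flat. Weak etaleness of A -> C then implies weak
etaleness of A -> B. -/
theorem result (A B C : Type u) [CommRing A] [CommRing B] [CommRing C] [Algebra A B]
    [Algebra B C] [Algebra A C] [IsScalarTower A B C] [Module.FaithfullyFlat B C] [Algebra.WeaklyEtale A C] :
    Algebra.WeaklyEtale A B := by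
  have hflat : Module.Flat A B := FlatMor.AbsFlat.flat_of_faithfullyFlat_comp A B C
  refine ⟨hflat, ?_⟩
  let g : B →ₐ[A] C := IsScalarTower.toAlgHom A B C
  have hg : g.Flat := RingHom.flat_algebraMap_iff.mpr inferInstance
  let m := Algebra.TensorProduct.lmul' A (S := B)
  let mC := Algebra.TensorProduct.lmul' A (S := C)
  have hmg : (mC.comp (Algebra.TensorProduct.map g g)).Flat :=
    RingHom.Flat.comp (RingHom.Flat.tensorProductMap hg hg) (Algebra.WeaklyEtale.flat_lmul' A C)
  have heq : mC.comp (Algebra.TensorProduct.map g g) = g.comp m := by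
    apply Algebra.TensorProduct.ext' fun a b => ?_
    simp [m, mC, g]
  rw [heq] at hmg
  letI : Algebra (B ⊗[A] B) B := m.toRingHom.toAlgebra
  letI : Algebra (B ⊗[A] B) C := (g.comp m).toRingHom.toAlgebra
  haveI : IsScalarTower (B ⊗[A] B) B C := IsScalarTower.of_algebraMap_eq fun _ => rfl
  haveI : Module.Flat (B ⊗[A] B) C := hmg
  exact FlatMor.AbsFlat.flat_of_faithfullyFlat_comp (B ⊗[A] B) B C

end Groth.Agent.S1996
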