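import Groth.Statements.S19969
import Groth.Agent.HopfRep.WeilClosedOver

set_option autoImplicit false
universe u
open CategoryTheory MonoidalCategory CartesianMonoidalCategory AlgebraicGeometry
open AlgGrp

namespace Groth.Agent.S19969

/-- Let k be a field, X and Y arbitrary k-schemes and a : Y ×_k X → X a k-morphism such that every open
subscheme U of X is stable under a, in the sense that the preimage of U under the projection Y ×_k X
→ X is contained in the preimage of U under a. Consider the subfunctor X^a of X whose T-valued
points, for a k-scheme T, are the k-morphisms x : T → X with a ∘ (id_Y × x) = x ∘ pr_T as morphisms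
Y ×_k T → X. Then X^a is represented by a closed subscheme of X: there is a closed immersion j : Z →
X over k lying in X^a(Z) through which every element of X^a(T) factors. Neither separatedness of X
nor any finiteness condition on X or Y is assumed. -/
theorem result (k : Type u) [Field k]
    (X Y : Over (Spec (CommRingCat.of k))) (a : Y ⊗ X ⟶ X)
    (hstab : ∀ U : X.left.Opens, (CartesianMonoidalCategory.snd Y X).left ⁻¹ᵁ U ≤ a.left ⁻¹ᵁ U) :
    ∃ (Z : Over (Spec (CommRingCat.of k))) (j : Z ⟶ X), IsClosedImmersion j.left ∧
      (Y ◁ j) ≫ a = CartesianMonoidalCategory.snd Y Z ≫ j ∧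
      ∀ (T : Over (Spec (CommRingCat.of k))) (x : T ⟶ X),
        (Y ◁ x) ≫ a = CartesianMonoidalCategory.snd Y T ≫ x → ∃ z : T ⟶ Z, z ≫ j = x := by
  let σ := CartesianMonoidalCategory.lift (CartesianMonoidalCategory.snd X Y) (CartesianMonoidalCategory.fst X Y)
  obtain ⟨Z, z, hz, h⟩ := HopfRep.WeilClosed.exists_closed_eq (HopfRep.WeilClosed.locFree_of_field Y)
    (σ ≫ a) (CartesianMonoidalCategory.fst X Y)
    (HopfRep.WeilClosed.nearDiag_of_stable _ _ fun w U hU => hstab U (show (σ ≫ CartesianMonoidalCategory.snd Y X).left w ∈ U by
      rw [CartesianMonoidalCategory.lift_snd]; exact hU))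
  refine ⟨Z, z, hz, ?_, fun T x hx => (h T x).2 fun T' t b => ?_⟩
  · have := (h Z z).1 ⟨𝟙 Z, Category.id_comp z⟩ (Y ⊗ Z) (CartesianMonoidalCategory.snd Y Z)
      (CartesianMonoidalCategory.fst Y Z)
    simp only [σ, CartesianMonoidalCategory.comp_lift_assoc, CartesianMonoidalCategory.lift_fst,
      CartesianMonoidalCategory.lift_snd] at this
    rw [← this]
    congr 1
  · have := congrArg (CartesianMonoidalCategory.lift b t ≫ ·) hx
    simpa [σ, CartesianMonoidalCategory.lift_whiskerLeft_assoc, CartesianMonoidalCategory.comp_lift_assoc] using this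

end Groth.Agent.S19969
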