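import Groth.Statements.S1997
import Mathlib.Algebra.Category.Ring.Epi
import Mathlib.RingTheory.Flat.Tensor
import Mathlib.RingTheory.Flat.FaithfullyFlat.Algebra
import Mathlib.RingTheory.Spectrum.Prime.Topology
import Mathlib.RingTheory.IntegralClosure.IntegrallyClosed
import Mathlib.RingTheory.Adjoin.Basic
import Mathlib.RingTheory.Flat.Stability

set_option autoImplicit false
universe u
open CategoryTheory
open EtAlg

namespace Groth.Agent.S1997

/-- Let A be a ring all of whose ideals are flat (weak dimension at most one) and A -> B a flat,
injective ring map which is an epimorphism in the category of commutative rings. Then A is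
integrally closed in B. -/
theorem result (A B : Type u) [CommRing A] [CommRing B] [Algebra A B]
    (hA : ∀ I : Ideal A, Module.Flat A I) [Module.Flat A B] (hinj : Function.Injective (algebraMap A B))
    (hepi : Epi (CommRingCat.ofHom (algebraMap A B))) : IsIntegrallyClosedIn A B := by
  have hE : Algebra.IsEpi A B := CommRingCat.epi_iff_epi.mp hepi
  rw [isIntegrallyClosedIn_iff]
  refine ⟨hinj, fun {x} hx => ?_⟩
  let A' : Subalgebra A B := Algebra.adjoin A {x}
  have hA'i : Algebra.IsIntegral A A' :=
    Algebra.IsIntegral.adjoin fun y hy => by rw [Set.mem_singleton_iff.mp hy]; exact hx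
  -- submodules of flat modules are flat
  have hflat : Module.Flat A A' := by
    rw [Module.Flat.iff_lTensor_injective']
    intro J
    have := hA J
    have h1 : Function.Injective
        ((LinearMap.rTensor J A'.val.toLinearMap)) :=
      Module.Flat.rTensor_preserves_injective_linearMap _ Subtype.val_injective
    have h2 : Function.Injective (LinearMap.lTensor B J.subtype) :=
      Module.Flat.lTensor_preserves_injective_linearMap _ Subtype.val_injective
    intro a b hab
    apply h1
    apply h2
    rw [← LinearMap.comp_apply, ← LinearMap.comp_apply, LinearMap.lTensor_comp_rTensor,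
      ← LinearMap.rTensor_comp_lTensor, LinearMap.comp_apply, LinearMap.comp_apply, hab]
  have : FaithfulSMul A A' := (faithfulSMul_iff_algebraMap_injective A A').mpr fun a b h =>
    hinj (congrArg Subtype.val h)
  have hff : Module.FaithfullyFlat A A' :=
    Module.FaithfullyFlat.of_comap_surjective (Algebra.IsIntegral.comap_surjective A A')
  -- `A'` is an epimorphic extension
  have hepi' : ∀ z : A', TensorProduct.tmul A (1 : A') z = TensorProduct.tmul A z (1 : A') := by
    intro z
    have h1 : Function.Injective (LinearMap.lTensor A' A'.val.toLinearMap) :=
      Module.Flat.lTensor_preserves_injective_linearMap _ Subtype.val_injective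
    have h2 : Function.Injective (LinearMap.rTensor B A'.val.toLinearMap) :=
      Module.Flat.rTensor_preserves_injective_linearMap _ Subtype.val_injective
    apply h1
    apply h2
    simp only [LinearMap.lTensor_tmul, LinearMap.rTensor_tmul, AlgHom.toLinearMap_apply, map_one]
    exact (Algebra.isEpi_iff_forall_one_tmul_eq A B).mp hE _
  let N : Submodule A A' := LinearMap.range (Algebra.linearMap A A')
  have hsub : Subsingleton (TensorProduct A (A' ⧸ N) A') := by
    refine ⟨fun p q => ?_⟩
    suffices h : ∀ t : TensorProduct A (A' ⧸ N) A', t = 0 by rw [h p, h q]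
    intro t
    induction t using TensorProduct.induction_on with
    | zero => rfl
    | add a b ha hb => rw [ha, hb, add_zero]
    | tmul a w =>
      obtain ⟨z, rfl⟩ := Submodule.Quotient.mk_surjective N a
      have hzw : TensorProduct.tmul A z w = TensorProduct.tmul A (1 : A') (z * w) := by
        have := congrArg (fun s => s * TensorProduct.tmul A (1 : A') w) (hepi' z)
        simpa [Algebra.TensorProduct.tmul_mul_tmul] using this.symm
      have := congrArg (LinearMap.rTensor A' N.mkQ) hzw
      simp only [LinearMap.rTensor_tmul, Submodule.mkQ_apply] at this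
      rw [this, (Submodule.Quotient.mk_eq_zero N).mpr ⟨1, map_one (algebraMap A A')⟩,
        TensorProduct.zero_tmul]
  have : Subsingleton (A' ⧸ N) := Module.FaithfullyFlat.rTensor_reflects_triviality A A' _
  have hmem : (⟨x, Algebra.self_mem_adjoin_singleton A x⟩ : A') ∈ N := by
    rw [← Submodule.Quotient.mk_eq_zero N]
    exact Subsingleton.elim _ _
  obtain ⟨y, hy⟩ := hmem
  exact ⟨y, congrArg Subtype.val hy⟩

end Groth.Agent.S1997
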