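import Groth.Statements.S19974
import Mathlib

set_option autoImplicit false
universe u v w x
open scoped BigOperators
open DefMod

namespace Groth.Agent.S19974

/-- Let K be a field of characteristic 0, O a commutative K-algebra with a K-linear derivation δ, and D
the ring of differential operators O[∂], presented abstractly as a K-algebra D with an algebra map ι
: O → D and an element ∂ of D such that ∂ ι(f) = ι(f) ∂ + ι(δ f) for every f in O and such that
every element of D is in a unique way a finite sum of terms ι(f_i) ∂^i. Let E be a left D-module,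
given as a K-vector space with a K-algebra map ρ : D → End_K(E), which is finite free as an
O-module. A K-derivation of D with values in the D-bimodule End_K(E) is a K-linear map s with s(PQ)
= s(P) ρ(Q) + ρ(P) s(Q); a K-derivation of O with values in End_K(E) is a K-linear map r with r(fg)
= r(f) ρ(ι g) + ρ(ι f) r(g). Then: (a) for every K-derivation s of D into End_K(E), the pair (r, v)
= (s ∘ ι, s(∂)) satisfies the identity [r(f), ρ(∂)] + [ρ(ι f), v] + r(δ f) = 0 for all f in O; (b)
conversely, for every K-derivation r of O into End_K(E) and every v in End_K(E) satisfying that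
identity for all f, there is exactly one K-derivation s of D into End_K(E) with s ∘ ι = r and s(∂) =
v. In other words s ↦ (s ∘ ι, s(∂)) maps the K-derivations of D injectively onto the pairs
satisfying the identity. -/
theorem result
    (K : Type u) [Field K] [CharZero K]
    (O : Type v) [CommRing O] [Algebra K O] (δ : Derivation K O O)
    (D : Type w) [Ring D] [Algebra K D] (ι : O →ₐ[K] D) (d : D)
    (hd : ∀ f : O, d * ι f = ι f * d + ι (δ f))
    (hbasis : Function.Bijective (fun c : ℕ →₀ O => c.sum (fun i f => ι f * d ^ i)))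
    (E : Type x) [AddCommGroup E] [Module K E] (ρ : D →ₐ[K] Module.End K E)
    (hE : ∃ (n : ℕ) (b : Fin n → E), Function.Bijective (fun c : Fin n → O => ∑ i, ρ (ι (c i)) (b i))) :
    (∀ s : D →ₗ[K] Module.End K E, (∀ P Q : D, s (P * Q) = s P * ρ Q + ρ P * s Q) →
      ∀ f : O, (s (ι f) * ρ d - ρ d * s (ι f)) + (ρ (ι f) * s d - s d * ρ (ι f)) + s (ι (δ f)) = 0) ∧
    ∀ (r : O →ₗ[K] Module.End K E) (v : Module.End K E),
      (∀ f g : O, r (f * g) = r f * ρ (ι g) + ρ (ι f) * r g) →
      (∀ f : O, (r f * ρ d - ρ d * r f) + (ρ (ι f) * v - v * ρ (ι f)) + r (δ f) = 0) →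
      ∃! s : D →ₗ[K] Module.End K E,
        (∀ P Q : D, s (P * Q) = s P * ρ Q + ρ P * s Q) ∧ s ∘ₗ ι.toLinearMap = r ∧ s d = v := by
  refine ⟨fun s hs f => ?_, fun r v hr hrv => ?_⟩
  · have h := congrArg s (hd f)
    rw [map_add, hs, hs] at h
    have h2 : s (ι (δ f)) = s d * ρ (ι f) + ρ d * s (ι f) - (s (ι f) * ρ d + ρ (ι f) * s d) := by
      rw [h]; abel
    rw [h2]; abel
  classical
  let R' := Module.End K E
  let L : (ℕ →₀ O) →ₗ[K] D :=
    Finsupp.lsum K fun i => (LinearMap.mulRight K (d ^ i)).comp ι.toLinearMap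
  have hL : ∀ c, L c = c.sum (fun i f => ι f * d ^ i) := fun c => rfl
  let e : (ℕ →₀ O) ≃ₗ[K] D := LinearEquiv.ofBijective L (by
    have : (L : (ℕ →₀ O) → D) = fun c => c.sum (fun i f => ι f * d ^ i) := funext hL
    rw [this]; exact hbasis)
  let w : ℕ → R' := fun i => Nat.rec 0 (fun i wi => v * ρ (d ^ i) + ρ d * wi) i
  let T : (ℕ →₀ O) →ₗ[K] R' :=
    Finsupp.lsum K fun i => (LinearMap.mulRight K (ρ (d ^ i))).comp r +
      (LinearMap.mulRight K (w i)).comp (ρ.comp ι).toLinearMap
  let s : D →ₗ[K] R' := T.comp e.symm.toLinearMap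
  have hsb : ∀ f i, s (ι f * d ^ i) = r f * ρ (d ^ i) + ρ (ι f) * w i := by
    intro f i
    have : e (Finsupp.single i f) = ι f * d ^ i := by simp [e, L]
    rw [← this]
    simp [s, T]
  have hw : ∀ i, w (i + 1) = v * ρ (d ^ i) + ρ d * w i := fun i => rfl
  have hr1 : r 1 = 0 := by
    have := hr 1 1
    simpa using this
  have hsι : ∀ f, s (ι f) = r f := fun f => by
    have := hsb f 0
    simpa [w] using this
  have hsd : s d = v := by
    have := hsb 1 1
    simpa [hr1, hw, w] using this
  have hspan : ∀ x : D, ∀ p : D → Prop, (∀ f i, p (ι f * d ^ i)) →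
      (∀ a b, p a → p b → p (a + b)) → p x := by
    intro x p hp hadd
    obtain ⟨c, rfl⟩ := e.surjective x
    induction c using Finsupp.induction_linear with
    | zero => simpa using hp 0 0
    | add a b ha hb => rw [map_add]; exact hadd _ _ ha hb
    | single i f => simpa [e, L] using hp f i
  let P : D → Prop := fun a => ∀ b, s (a * b) = s a * ρ b + ρ a * s b
  have hPι : ∀ f, P (ι f) := by
    intro f b
    refine hspan b (fun b => s (ι f * b) = s (ι f) * ρ b + ρ (ι f) * s b) (fun g i => ?_) ?_
    · rw [← mul_assoc, ← map_mul ι, hsb, hsι, hsb, hr, map_mul, map_mul, map_mul]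
      noncomm_ring
    · intro a b ha hb
      rw [mul_add, map_add, ha, hb, map_add, map_add]
      noncomm_ring
  have hPd : P d := by
    intro b
    refine hspan b (fun b => s (d * b) = s d * ρ b + ρ d * s b) (fun g i => ?_) ?_
    · rw [← mul_assoc, hd, add_mul, mul_assoc, ← pow_succ', map_add, hsb, hsb, hsb, hsd, hw]
      have h1 : r (δ g) = ρ d * r g - r g * ρ d - (ρ (ι g) * v - v * ρ (ι g)) := by
        rw [← sub_eq_zero, ← hrv g]; abel
      have h2 : ρ (ι (δ g)) = ρ d * ρ (ι g) - ρ (ι g) * ρ d := by
        rw [← map_mul, ← map_mul, ← map_sub, hd, add_sub_cancel_left]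
      rw [h1, h2, map_mul, pow_succ', map_mul]
      noncomm_ring
    · intro a b ha hb
      rw [mul_add, map_add, ha, hb, map_add, map_add]
      noncomm_ring
  have hPmul : ∀ a b, P a → P b → P (a * b) := by
    intro a b ha hb c
    rw [mul_assoc, ha, hb, ha b, map_mul, map_mul]
    noncomm_ring
  have hPpow : ∀ i, P (d ^ i) := by
    intro i
    induction i with
    | zero => simpa using hPι 1
    | succ i ih => rw [pow_succ]; exact hPmul _ _ ih hPd
  have hP : ∀ a, P a := fun a => hspan a P (fun f i => hPmul _ _ (hPι f) (hPpow i))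
    (fun a b ha hb c => by rw [add_mul, map_add, ha, hb, map_add, map_add]; noncomm_ring)
  refine ⟨s, ⟨hP, LinearMap.ext hsι, hsd⟩, ?_⟩
  rintro s' ⟨h1, h2, h3⟩
  have hι' : ∀ f, s' (ι f) = s (ι f) := fun f => by
    rw [hsι, ← h2]; rfl
  refine LinearMap.ext fun x => hspan x (fun x => s' x = s x) (fun f i => ?_)
    (fun a b ha hb => by rw [map_add, map_add, ha, hb])
  induction i with
  | zero => simpa using hι' f
  | succ i ih => rw [pow_succ, ← mul_assoc, h1, hP _ d, ih, h3, hsd]

end Groth.Agent.S19974
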