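import Groth.Statements.S1999
import Groth.Agent.Misc9.InertiaWild
-- import your own Groth.Agent.* helpers here

set_option autoImplicit false
universe u
open scoped Pointwise
open EtAlg

namespace Groth.Agent.S1999

/-- Parts (2)–(5) in the case of part (6): let A be a discrete valuation ring with fraction field K, L/K
a finite Galois extension with group G, B the integral closure of A in L, m a maximal ideal of B
whose residue field is separable over that of A, and e the ramification index of m over A. Let D be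
the decomposition group (stabilizer of m), I the inertia group (elements acting trivially on B/m)
and P the wild inertia group, here the elements of D acting trivially on B/m² (the description valid
in the separable residue field case). Then P ≤ I, P is normal in D, P is a p-group if the residue
characteristic is p > 0 and trivial if it is 0, and I/P is cyclic of order the prime-to-p part of e
and isomorphic to a subgroup of the e-th roots of unity of B/m — more precisely to the full group of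
e-th roots of unity of B/m. -/
theorem result (A K L B : Type u) [CommRing A] [IsDomain A] [IsDiscreteValuationRing A]
    [CommRing B] [IsDomain B] [Field K] [Field L] [Algebra A K] [Algebra B L] [IsFractionRing A K] [IsFractionRing B L]
    [Algebra A B] [Algebra K L] [Algebra A L] [IsScalarTower A K L] [IsScalarTower A B L] [IsIntegralClosure B A L]
    [FiniteDimensional K L] [IsGalois K L] (m : Ideal B) [m.IsMaximal]
    [Algebra.IsSeparable (A ⧸ m.comap (algebraMap A B)) (B ⧸ m)] :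
    letI := IsIntegralClosure.MulSemiringAction A K L B
    let D : Subgroup (L ≃ₐ[K] L) := MulAction.stabilizer (L ≃ₐ[K] L) m
    let I : Subgroup (L ≃ₐ[K] L) := m.inertia (L ≃ₐ[K] L)
    let P : Subgroup (L ≃ₐ[K] L) := D ⊓ (m ^ 2).inertia (L ≃ₐ[K] L)
    let e : ℕ := Ideal.ramificationIdx' (IsLocalRing.maximalIdeal A) m
    P ≤ I ∧ I ≤ D ∧ (P.subgroupOf D).Normal ∧
    (∀ p : ℕ, p.Prime → CharP (A ⧸ m.comap (algebraMap A B)) p → IsPGroup p P) ∧
    (CharZero (A ⧸ m.comap (algebraMap A B)) → P = ⊥) ∧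
    (∀ [(P.subgroupOf I).Normal],
      IsCyclic (I ⧸ P.subgroupOf I) ∧
      (∀ p : ℕ, p.Prime → CharP (A ⧸ m.comap (algebraMap A B)) p → Nat.card (I ⧸ P.subgroupOf I) = e / p ^ e.factorization p) ∧
      (CharZero (A ⧸ m.comap (algebraMap A B)) → Nat.card (I ⧸ P.subgroupOf I) = e) ∧
      Nonempty (I ⧸ P.subgroupOf I ≃* ↥(rootsOfUnity e (B ⧸ m)))) := by
  letI := IsIntegralClosure.MulSemiringAction A K L B
  intro D I P e
  have hAB : Function.Injective (algebraMap A B) := fun a b hab ↦ by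
    apply IsFractionRing.injective A K
    apply (algebraMap K L).injective
    rw [← IsScalarTower.algebraMap_apply, ← IsScalarTower.algebraMap_apply,
      IsScalarTower.algebraMap_apply A B L, IsScalarTower.algebraMap_apply A B L, hab]
  have : IsDedekindDomain B := IsIntegralClosure.isDedekindDomain A K L B
  have : Module.Finite A B := IsIntegralClosure.finite A K L B
  have : Algebra.IsIntegral A B := IsIntegralClosure.isIntegral_algebra A L
  have : FaithfulSMul A B := (faithfulSMul_iff_algebraMap_injective A B).mpr hAB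
  have : Module.IsTorsionFree A B := inferInstance
  have : Module.Flat A B := inferInstance
  have : IsGaloisGroup (L ≃ₐ[K] L) A B := IsGaloisGroup.of_isFractionRing _ _ _ K L
  set p : Ideal A := m.comap (algebraMap A B) with hp
  have hpmax : p.IsMaximal := Ideal.isMaximal_comap_of_isIntegral_of_isMaximal m
  have hpeq : p = IsLocalRing.maximalIdeal A := IsLocalRing.eq_maximalIdeal hpmax
  have hover : m.LiesOver p := ⟨rfl⟩
  have hp0 : p ≠ ⊥ := hpeq ▸ IsDiscreteValuationRing.not_a_field A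
  have hm0 : m ≠ ⊥ := fun h ↦ hp0 (by
    rw [hp, h, ← RingHom.ker_eq_comap_bot, RingHom.ker_eq_bot_iff_eq_zero]
    exact fun x hx ↦ hAB (by rw [hx, map_zero]))
  obtain ⟨π, hπ, hπ2, hgen⟩ := Groth.Agent.Misc9.InertiaWild.exists_uniformizer hm0
  let θ : I →* B ⧸ m := Groth.Agent.Misc9.InertiaWild.theta hπ hπ2 hgen
  have hθ : ∀ σ : I, θ σ = 1 ↔ (σ : L ≃ₐ[K] L) ∈ (m ^ 2).inertia (L ≃ₐ[K] L) := fun σ ↦
    Groth.Agent.Misc9.InertiaWild.theta_eq_one_iff (A := A) hπ hπ2 hgen σ
  have hI2 : ∀ σ : L ≃ₐ[K] L, σ ∈ (m ^ 2).inertia (L ≃ₐ[K] L) → σ ∈ I := fun σ hσ x ↦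
    Ideal.pow_le_self two_ne_zero (hσ x)
  have hID : I ≤ D := Ideal.inertia_le_stabilizer (M := L ≃ₐ[K] L) m
  have hP : ∀ σ, σ ∈ P ↔ σ ∈ (m ^ 2).inertia (L ≃ₐ[K] L) := fun σ ↦
    ⟨fun h ↦ h.2, fun h ↦ ⟨hID (hI2 σ h), h⟩⟩
  have hPI : P ≤ I := fun σ h ↦ hI2 σ h.2
  refine ⟨hPI, hID, ⟨?_⟩, ?_⟩
  · rintro ⟨n, hn⟩ hnP ⟨g, hg⟩
    rw [Subgroup.mem_subgroupOf] at hnP ⊢
    rw [hP] at hnP ⊢
    intro x
    have h1 := hnP (g⁻¹ • x)
    have hsm : g • (m ^ 2) = m ^ 2 := by
      have hgm : g • m = m := hg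
      rw [pow_two, smul_mul', hgm]
    have h2 := Ideal.smul_mem_pointwise_smul g _ _ h1
    rw [hsm, smul_sub] at h2
    show (g * n * g⁻¹) • x - x ∈ m ^ 2
    rw [mul_smul, mul_smul]
    simpa using h2
  have hfaith : FaithfulSMul (L ≃ₐ[K] L) B := IsGaloisGroup.faithful A
  -- prime order elements of P
  have hord : ∀ q : ℕ, q.Prime → (q : B) ∉ m → ∀ σ ∈ P, orderOf σ ≠ q := by
    intro q hq hqm σ hσ hoq
    have h1 : σ = 1 := Groth.Agent.Misc9.InertiaWild.eq_one_of_prime_order ((hP σ).mp hσ)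
      (hoq ▸ pow_orderOf_eq_one σ) hqm
    rw [h1, orderOf_one] at hoq
    exact hq.one_lt.ne hoq
  have hprimes : ∀ q : ℕ, q.Prime → q ∣ Nat.card P → (q : B) ∈ m := by
    intro q hq hdvd
    by_contra hqm
    have : Fact q.Prime := ⟨hq⟩
    obtain ⟨σ, hσ⟩ := exists_prime_orderOf_dvd_card' q hdvd
    exact hord q hq hqm σ σ.2 (by rw [Subgroup.orderOf_coe]; exact hσ)
  have hchar : ∀ q : ℕ, (q : B) ∈ m ↔ (q : A ⧸ p) = 0 := fun q ↦ by
    rw [← map_natCast (Ideal.Quotient.mk p), Ideal.Quotient.eq_zero_iff_mem, hp, Ideal.mem_comap,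
      map_natCast]
  have hpg : ∀ q : ℕ, q.Prime → CharP (A ⧸ p) q → ∀ l : ℕ, l.Prime → l ∣ Nat.card P → l = q := by
    intro q hq _ l hl hdvd
    have h1 := (hchar l).mp (hprimes l hl hdvd)
    rw [CharP.cast_eq_zero_iff (A ⧸ p) q] at h1
    exact ((Nat.prime_dvd_prime_iff_eq hq hl).mp h1).symm
  have hcardP : ∀ q : ℕ, q.Prime → CharP (A ⧸ p) q → Nat.card P = q ^ (Nat.card P).factorization q := by
    intro q hq hc
    obtain ⟨k, hk⟩ : ∃ k, Nat.card P = q ^ k := ⟨_, Nat.eq_prime_pow_of_unique_prime_dvd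
      Nat.card_pos.ne' (fun {l} hl hd ↦ hpg q hq hc l hl hd)⟩
    rw [hk, Nat.Prime.factorization_pow hq, Finsupp.single_eq_same]
  have hcard0 : CharZero (A ⧸ p) → P = ⊥ := by
    intro _
    rw [← Subgroup.card_eq_one]
    by_contra hne
    obtain ⟨l, hl, hdvd⟩ := Nat.exists_prime_and_dvd hne
    exact hl.ne_zero (Nat.cast_eq_zero.mp ((hchar l).mp (hprimes l hl hdvd)))
  refine ⟨fun q hq hc ↦ IsPGroup.of_card (hcardP q hq hc), hcard0, fun {hN} ↦ ?_⟩
  -- the tame quotient
  have hker : θ.ker = P.subgroupOf I := by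
    ext σ
    rw [MonoidHom.mem_ker, Subgroup.mem_subgroupOf, hθ, hP]
  have hcardI : Nat.card I = e := by
    letI : Field (A ⧸ p) := Ideal.Quotient.field p
    letI : Field (B ⧸ m) := Ideal.Quotient.field m
    have : Normal (A ⧸ p) (B ⧸ m) := Ideal.Quotient.normal (L ≃ₐ[K] L) p m
    have : IsGalois (A ⧸ p) (B ⧸ m) := { }
    have : Module.Finite (A ⧸ p) (B ⧸ m) := Module.Finite.of_restrictScalars_finite A (A ⧸ p) (B ⧸ m)
    have h1 : Nat.card D = Nat.card I * m.inertiaDeg A := by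
      have hidx : Subgroup.index _ = _ := Nat.card_congr
        (Ideal.Quotient.stabilizerQuotientInertiaEquiv (L ≃ₐ[K] L) p m).toEquiv
      rw [Ideal.inertiaDeg_eq_of_isMaximal p m, ← IsGalois.card_aut_eq_finrank (A ⧸ p) (B ⧸ m),
        ← hidx, ← ((m.inertia (L ≃ₐ[K] L)).subgroupOf D).card_mul_index,
        Nat.card_congr (Subgroup.subgroupOfEquivOfLe hID).toEquiv, AddSubgroup.subgroupOf_inertia]
    have h2 : (p.primesOver B).ncard * Nat.card D = Nat.card (L ≃ₐ[K] L) := by
      rw [← Algebra.IsInvariant.orbit_eq_primesOver A B (L ≃ₐ[K] L) p m]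
      rw [← Nat.card_coe_set_eq, ← Nat.card_prod]
      exact Nat.card_congr (MulAction.orbitProdStabilizerEquivGroup (L ≃ₐ[K] L) m)
    have h3 := Ideal.ncard_primesOver_mul_ramificationIdxIn_mul_inertiaDegIn p B (L ≃ₐ[K] L)
    rw [Ideal.ramificationIdxIn_eq_ramificationIdx p m (L ≃ₐ[K] L),
      Ideal.inertiaDegIn_eq_inertiaDeg p m (L ≃ₐ[K] L)] at h3
    have hpos : (p.primesOver B).ncard ≠ 0 := by
      intro h0; rw [h0, zero_mul] at h2; exact Nat.card_pos.ne' h2.symm
    have hd : 0 < m.inertiaDeg A := Ideal.inertiaDeg_pos m A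
    rw [← h3, h1, mul_right_inj' hpos, mul_left_inj' hd.ne',
      ← Ideal.ramificationIdx'_eq_ramificationIdx p m hp0, hpeq] at h2
    exact h2
  letI : Field (B ⧸ m) := Ideal.Quotient.field m
  letI : Field (A ⧸ p) := Ideal.Quotient.field p
  let f : I →* (B ⧸ m)ˣ := θ.toHomUnits
  have hfker : f.ker = P.subgroupOf I := by
    rw [← hker]; ext σ
    simp [f, MonoidHom.mem_ker, Units.ext_iff]
  let ψ : I ⧸ P.subgroupOf I →* (B ⧸ m)ˣ := QuotientGroup.lift _ f hfker.ge
  have hψ : Function.Injective ψ := by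
    rw [← MonoidHom.ker_eq_bot_iff, QuotientGroup.ker_lift, hfker, QuotientGroup.map_mk'_self]
  have hcyc : IsCyclic (I ⧸ P.subgroupOf I) :=
    isCyclic_of_injective_ringHom
      (f := (Units.coeHom (B ⧸ m)).comp ψ) (Units.val_injective.comp hψ)
  have hq : Nat.card I = Nat.card (I ⧸ P.subgroupOf I) * Nat.card P := by
    rw [Subgroup.card_eq_card_quotient_mul_card_subgroup (P.subgroupOf I),
      Nat.card_congr (Subgroup.subgroupOfEquivOfLe hPI).toEquiv]
  have he0 : e ≠ 0 := hcardI ▸ Nat.card_pos.ne'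
  set Q := Nat.card (I ⧸ P.subgroupOf I) with hQ
  have hQpos : 0 < Q := Nat.card_pos
  -- the two cases
  have hp_case : ∀ q : ℕ, q.Prime → CharP (A ⧸ p) q → Q = e / q ^ e.factorization q ∧
      e = Q * q ^ e.factorization q ∧ ∀ x : (B ⧸ m)ˣ, x ^ e = 1 → x ^ Q = 1 := by
    intro q hq' hc
    have : Fact q.Prime := ⟨hq'⟩
    have hcB : CharP (B ⧸ m) q := (RingHom.charP_iff (algebraMap (A ⧸ p) (B ⧸ m))
      (algebraMap (A ⧸ p) (B ⧸ m)).injective q).mp hc
    have hnd : ¬ q ∣ Q := by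
      intro hd
      obtain ⟨σ, hσ⟩ := exists_prime_orderOf_dvd_card' q hd
      have h2 := orderOf_injective ((Units.coeHom (B ⧸ m)).comp ψ) (Units.val_injective.comp hψ) σ
      have h3 : (((Units.coeHom (B ⧸ m)).comp ψ) σ) ^ q = 1 := by
        rw [← hσ, ← map_pow, pow_orderOf_eq_one, map_one]
      have h4 : (((Units.coeHom (B ⧸ m)).comp ψ) σ - 1) ^ q = 0 := by
        rw [sub_pow_char, h3, one_pow, sub_self]
      rw [sub_eq_zero.mp (pow_eq_zero_iff hq'.ne_zero |>.mp h4), orderOf_one, hσ] at h2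
      exact hq'.one_lt.ne h2
    have he : e = Q * q ^ (Nat.card P).factorization q := by
      rw [← hcardI, hq, ← hcardP q hq' hc]
    have hf : e.factorization q = (Nat.card P).factorization q := by
      rw [he, Nat.factorization_mul hQpos.ne' (pow_ne_zero _ hq'.ne_zero), Finsupp.add_apply,
        Nat.factorization_eq_zero_of_not_dvd hnd, zero_add, Nat.Prime.factorization_pow hq',
        Finsupp.single_eq_same]
    refine ⟨?_, by rw [hf]; exact he, fun x hx ↦ ?_⟩
    · rw [hf]; exact (Nat.div_eq_of_eq_mul_left (pow_pos hq'.pos _) he).symm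
    · rw [he, pow_mul] at hx
      apply Units.ext
      rw [Units.val_pow_eq_pow_val, Units.val_one]
      have h5 := congrArg Units.val hx
      rw [Units.val_pow_eq_pow_val, Units.val_one, Units.val_pow_eq_pow_val] at h5
      have h6 : (((x : B ⧸ m) ^ Q) - 1) ^ (q ^ (Nat.card P).factorization q) = 0 := by
        rw [sub_pow_char_pow, h5, one_pow, sub_self]
      exact sub_eq_zero.mp (pow_eq_zero_iff (pow_ne_zero _ hq'.ne_zero) |>.mp h6)
  have h0_case : CharZero (A ⧸ p) → Q = e := by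
    intro h
    rw [← hcardI, hq, hcard0 h, Subgroup.card_bot, mul_one]
  have hroots : ∀ x : (B ⧸ m)ˣ, x ^ e = 1 → x ^ Q = 1 := by
    intro x hx
    obtain ⟨q, hc⟩ := CharP.exists (A ⧸ p)
    rcases CharP.char_is_prime_or_zero (A ⧸ p) q with hq' | rfl
    · exact (hp_case q hq' hc).2.2 x hx
    · rwa [h0_case (CharP.charP_to_charZero _)]
  refine ⟨hcyc, fun q hq' hc ↦ (hp_case q hq' hc).1, h0_case, ?_⟩
  have hrange : ψ.range = rootsOfUnity e (B ⧸ m) := by
    have hle : ψ.range ≤ rootsOfUnity e (B ⧸ m) := by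
      rintro _ ⟨σ, rfl⟩
      rw [mem_rootsOfUnity, ← hcardI, hq, pow_mul, ← map_pow, pow_card_eq_one', map_one, one_pow]
    have : NeZero e := ⟨he0⟩
    have : NeZero Q := ⟨hQpos.ne'⟩
    have hle2 : rootsOfUnity e (B ⧸ m) ≤ rootsOfUnity Q (B ⧸ m) := fun x hx ↦
      (mem_rootsOfUnity _ _).mpr (hroots x ((mem_rootsOfUnity _ _).mp hx))
    refine le_antisymm hle (fun x hx ↦ ?_)
    have hcl : ψ.range = rootsOfUnity Q (B ⧸ m) := by
      refine Subgroup.eq_of_le_of_card_ge (hle.trans hle2) ?_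
      rw [Nat.card_congr (MonoidHom.ofInjective hψ).toEquiv.symm]
      exact card_rootsOfUnity (B ⧸ m) Q
    rw [hcl]; exact hle2 hx
  exact ⟨(MonoidHom.ofInjective hψ).trans (MulEquiv.subgroupCongr hrange)⟩

end Groth.Agent.S1999
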