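import Groth.Statements.S2000
import Groth.Agent.EtAlg.Glue.Basic
import Mathlib.RingTheory.TensorProduct.Maps
import Mathlib.Algebra.Module.LocalizedModule.Basic
import Mathlib.LinearAlgebra.TensorProduct.Prod

set_option autoImplicit false
universe u
open TensorProduct
open EtAlg

namespace Groth.Agent.S2000

/-- Beauville–Laszlo, essential surjectivity with glueability: take a glueing pair (R -> R', f). Fix an
R'-module M', an R-module M₁ on which multiplication by f is bijective (i.e. an R_f-module), and α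
an R'-linear isomorphism from the localization of M' at f to R' ⊗_R M₁ (an isomorphism of
R'_f-modules). Then there is an R-module M, glueable for (R -> R', f), with an R'-isomorphism R' ⊗_R
M ≅ M' and an R-isomorphism M_f ≅ M₁ under which α becomes the canonical identification (R' ⊗_R M)_f
= R' ⊗_R M_f. -/
theorem result (R R' : Type u) [CommRing R] [CommRing R'] [Algebra R R'] (f : R)
    (hRR : EtGlue.IsGlueingPair R R' f) (M' : Type u) [AddCommGroup M'] [Module R' M'] (M₁ : Type u) [AddCommGroup M₁]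
    [Module R M₁] (hf : Function.Bijective fun x : M₁ => f • x)
    (α : LocalizedModule (Submonoid.powers (algebraMap R R' f)) M' ≃ₗ[R'] R' ⊗[R] M₁) :
    ∃ (M : Type u) (_ : AddCommGroup M) (_ : Module R M) (_ : EtGlue.IsGlueable R R' f M)
      (e' : R' ⊗[R] M ≃ₗ[R'] M') (e₁ : LocalizedModule (Submonoid.powers f) M ≃ₗ[R] M₁),
      ∀ m : M, α (LocalizedModule.mkLinearMap (Submonoid.powers (algebraMap R R' f)) M' (e' ((1 : R') ⊗ₜ[R] m))) =
        (1 : R') ⊗ₜ[R] e₁ (LocalizedModule.mkLinearMap (Submonoid.powers f) M m) := by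
  classical
  let _ : Module R M' := Module.compHom M' (algebraMap R R')
  have : IsScalarTower R R' M' := IsScalarTower.of_algebraMap_smul fun r m => rfl
  let f' := algebraMap R R' f
  let c : M' →ₗ[R'] LocalizedModule (Submonoid.powers f') M' := LocalizedModule.mkLinearMap (Submonoid.powers f') M'
  let a : M' →ₗ[R'] R' ⊗[R] M₁ := α.toLinearMap ∘ₗ c
  let b : M₁ →ₗ[R] R' ⊗[R] M₁ := TensorProduct.mk R R' M₁ 1
  have ha0 : ∀ x, a x = 0 → ∃ n : ℕ, f ^ n • x = 0 := fun x hx => by
    obtain ⟨⟨_, n, rfl⟩, hn⟩ := (IsLocalizedModule.eq_zero_iff (Submonoid.powers f') c).mp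
      (α.injective (hx.trans (map_zero α).symm))
    refine ⟨n, ?_⟩
    have hn' : f' ^ n • x = 0 := hn
    rwa [← map_pow, algebraMap_smul] at hn'
  let fe : M₁ ≃ₗ[R] M₁ := LinearEquiv.ofBijective (LinearMap.lsmul R M₁ f) hf
  have hfinj : ∀ n : ℕ, Function.Injective fun x : M₁ => f ^ n • x := fun n => by
    induction n with
    | zero => intro x y h; simpa using h
    | succ n ih => intro x y h; exact hf.1 (ih (by simpa [pow_succ, mul_smul] using h))
  have hfsurj : ∀ n : ℕ, ∀ x : M₁, ∃ y, f ^ n • y = x := fun n => by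
    induction n with
    | zero => intro x; exact ⟨x, by simp⟩
    | succ n ih =>
      intro x
      obtain ⟨y, hy⟩ := ih x
      obtain ⟨z, hz⟩ := hf.2 y
      exact ⟨z, by rw [pow_succ, mul_smul]; simp only at hz; rw [hz, hy]⟩
  let M : Submodule R (M' × M₁) :=
    LinearMap.ker ((a.restrictScalars R) ∘ₗ LinearMap.fst R M' M₁ - b ∘ₗ LinearMap.snd R M' M₁)
  have hmemM : ∀ x : M' × M₁, x ∈ M ↔ a x.1 = b x.2 := fun x => LinearMap.mem_ker.trans sub_eq_zero
  let p' : M →ₗ[R] M' := LinearMap.fst R M' M₁ ∘ₗ M.subtype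
  let p₁ : M →ₗ[R] M₁ := LinearMap.snd R M' M₁ ∘ₗ M.subtype
  have hp : ∀ m : M, a (p' m) = (1 : R') ⊗ₜ[R] p₁ m := fun m => (hmemM m.1).mp m.2
  have hinj : EtAlg.Glue.Basic.TorsionInj R R' f M → EtGlue.IsGlueable R R' f M :=
    (EtAlg.Glue.Basic.isGlueable_iff_of_pair hRR).mpr
  let e'₀ : R' ⊗[R] M →ₗ[R'] M' := TensorProduct.AlgebraTensorModule.lift
    { toFun := fun r => r • p'
      map_add' := fun r s => add_smul r s p'
      map_smul' := fun r s => by rw [RingHom.id_apply, smul_assoc] }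
  have he'₀ : ∀ r m, e'₀ (r ⊗ₜ[R] m) = r • p' m := fun r m => rfl
  have htorsion0 : ∀ m : M, (∃ n : ℕ, f ^ n • m = 0) → p₁ m = 0 := fun m ⟨n, hn⟩ => hfinj n (by
    show f ^ n • p₁ m = f ^ n • (0 : M₁)
    rw [← map_smul, hn, map_zero, smul_zero])
  have hglue : EtGlue.IsGlueable R R' f M := hinj fun m hm hm' => by
    refine Subtype.ext (Prod.ext ?_ (htorsion0 m hm))
    have h := congrArg e'₀ hm'
    rw [he'₀, one_smul, map_zero] at h
    exact h
  -- surjectivity over R'
  have hdec : ∀ z : R' ⊗[R] M₁, ∃ (l : List (R' × M₁)), z = (l.map fun p => p.1 ⊗ₜ[R] p.2).sum := fun z => by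
    induction z using TensorProduct.induction_on with
    | zero => exact ⟨[], by simp⟩
    | tmul r m => exact ⟨[(r, m)], by simp⟩
    | add x y hx hy =>
      obtain ⟨⟨l₁, h₁⟩, l₂, h₂⟩ := hx, hy
      exact ⟨l₁ ++ l₂, by rw [List.map_append, List.sum_append, h₁, h₂]⟩
  have hlift : ∀ m₁ : M₁, ∃ k : ℕ, ∀ j ≥ k, ∃ m : M, p₁ m = f ^ j • m₁ := fun m₁ => by
    obtain ⟨⟨x, ⟨_, k, rfl⟩⟩, hx⟩ := IsLocalizedModule.surj (Submonoid.powers f') c (α.symm ((1 : R') ⊗ₜ[R] m₁))
    have hx' : f' ^ k • α.symm ((1 : R') ⊗ₜ[R] m₁) = c x := hx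
    have hax : a x = (1 : R') ⊗ₜ[R] (f ^ k • m₁) := by
      show α (c x) = _
      rw [← hx', map_smul, α.apply_symm_apply, ← map_pow, algebraMap_smul, tmul_smul]
    refine ⟨k, fun j hj => ?_⟩
    obtain ⟨i, rfl⟩ := Nat.exists_eq_add_of_le hj
    refine ⟨⟨(f ^ i • x, f ^ (k + i) • m₁), (hmemM _).mpr ?_⟩, rfl⟩
    show a (f ^ i • x) = (1 : R') ⊗ₜ[R] (f ^ (k + i) • m₁)
    rw [LinearMap.map_smul_of_tower, hax, ← tmul_smul, smul_smul, ← pow_add, add_comm]
  have he'surj : Function.Surjective e'₀ := fun x => by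
    obtain ⟨l, hl⟩ := hdec (a x)
    have key : ∀ l : List (R' × M₁), ∃ (w : R' ⊗[R] M) (m₁ : M₁),
        (l.map fun p => p.1 ⊗ₜ[R] p.2).sum = a (e'₀ w) + (1 : R') ⊗ₜ[R] m₁ := by
      intro l
      induction l with
      | nil => exact ⟨0, 0, by simp⟩
      | cons p l ih =>
        obtain ⟨w, m₁, hw⟩ := ih
        obtain ⟨k, hk⟩ := hlift p.2
        obtain ⟨m, hm⟩ := hk k le_rfl
        obtain ⟨s, y, hy⟩ := EtAlg.Glue.Basic.exists_decomp hRR.1 k p.1
        refine ⟨w + y ⊗ₜ m, m₁ + s • p.2, ?_⟩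
        rw [List.map_cons, List.sum_cons, hw, map_add, map_add, he'₀, map_smul, hp, hm, tmul_add, hy, add_tmul,
          tmul_smul, tmul_smul, TensorProduct.smul_tmul', TensorProduct.smul_tmul', TensorProduct.smul_tmul', smul_eq_mul]
        simp only [Algebra.smul_def, mul_one, map_pow, mul_comm y]
        abel
    obtain ⟨w, m₁, hw⟩ := key l
    let m : M := ⟨(x - e'₀ w, m₁), (hmemM _).mpr (by
      show a (x - e'₀ w) = (1 : R') ⊗ₜ[R] m₁
      rw [map_sub, hl, hw, add_sub_cancel_left])⟩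
    exact ⟨(1 : R') ⊗ₜ m + w, by rw [map_add, he'₀, one_smul]; exact sub_add_cancel x _⟩
  -- the localization at f
  have hP : IsLocalizedModule (Submonoid.powers f) p₁ := by
    refine ⟨fun ⟨_, n, rfl⟩ => (Module.End.isUnit_iff _).mpr ⟨hfinj n, hfsurj n⟩, fun m₁ => ?_, fun {x y} hxy => ?_⟩
    · obtain ⟨k, hk⟩ := hlift m₁
      obtain ⟨m, hm⟩ := hk k le_rfl
      exact ⟨⟨m, ⟨f ^ k, k, rfl⟩⟩, hm.symm⟩
    · obtain ⟨n, hn⟩ := ha0 (p' (x - y)) (by rw [hp, map_sub, hxy, sub_self, tmul_zero])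
      refine ⟨⟨f ^ n, n, rfl⟩, ?_⟩
      show f ^ n • x = f ^ n • y
      refine sub_eq_zero.mp ((smul_sub (f ^ n) x y).symm.trans ?_)
      refine Subtype.ext (Prod.ext hn ?_)
      show f ^ n • p₁ (x - y) = 0
      rw [map_sub, hxy, sub_self, smul_zero]
  have he'inj : Function.Injective e'₀ := by
    rw [injective_iff_map_eq_zero]
    intro z hz
    have hb1 : (p₁.lTensor R') z = 0 := by
      have key : ∀ z : R' ⊗[R] M, p₁.lTensor R' z = a (e'₀ z) := fun z => by
        induction z using TensorProduct.induction_on with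
        | zero => simp
        | add x y hx hy => simp only [map_add, hx, hy]
        | tmul r m =>
          rw [he'₀, map_smul, hp, LinearMap.lTensor_tmul, TensorProduct.smul_tmul', smul_eq_mul, mul_one]
      rw [key, hz, map_zero]
    have : IsLocalizedModule (Submonoid.powers f) (TensorProduct.AlgebraTensorModule.rTensor R R' p₁) := inferInstance
    have hz' : TensorProduct.AlgebraTensorModule.rTensor R R' p₁ (TensorProduct.comm R R' M z) = 0 := by
      have key : ∀ z : R' ⊗[R] M, TensorProduct.AlgebraTensorModule.rTensor R R' p₁ (TensorProduct.comm R R' M z) =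
          TensorProduct.comm R R' M₁ (p₁.lTensor R' z) := fun z => by
        induction z using TensorProduct.induction_on with
        | zero => simp
        | add x y hx hy => simp only [map_add, hx, hy]
        | tmul r m => rfl
      rw [key, hb1, map_zero]
    obtain ⟨⟨_, n, rfl⟩, hn⟩ := (IsLocalizedModule.eq_zero_iff (Submonoid.powers f) _).mp hz'
    have hnz : f ^ n • z = 0 := (TensorProduct.comm R R' M).injective (by rw [map_smul, map_zero]; exact hn)
    obtain ⟨m, hm, rfl⟩ := EtAlg.Glue.Basic.torsionSurj_of_pair hRR z ⟨n, hnz⟩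
    have hp0 : p' m = 0 := (one_smul R' (p' m)).symm.trans ((he'₀ 1 m).symm.trans hz)
    rw [show m = 0 from Subtype.ext (Prod.ext hp0 (htorsion0 m hm)), tmul_zero]
  let e' : R' ⊗[R] M ≃ₗ[R'] M' := LinearEquiv.ofBijective e'₀ ⟨he'inj, he'surj⟩
  let e₁ : LocalizedModule (Submonoid.powers f) M ≃ₗ[R] M₁ := IsLocalizedModule.iso (Submonoid.powers f) p₁
  refine ⟨M, inferInstance, inferInstance, hglue, e', e₁, fun m => ?_⟩
  show α (c (e'₀ ((1 : R') ⊗ₜ[R] m))) = _
  rw [he'₀, one_smul]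
  exact (hp m).trans (congrArg ((1 : R') ⊗ₜ[R] ·) (IsLocalizedModule.iso_apply_mk (Submonoid.powers f) p₁ m 1 |>.trans (IsLocalizedModule.mk'_one _ _ _)).symm)

end Groth.Agent.S2000
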