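import Groth.Statements.S20004
import Groth.Agent.WQ8.Extend

set_option autoImplicit false
universe u v w
open WildQuot

namespace Groth.Agent.S20004

/-- Let `A` be a complete regular local ring of Krull dimension at least `2` and prime characteristic
`p`; let `k` be a field with `k → A` mapping onto the residue field, such that `k` has no Galois
extension of degree `p`; let `G` be a group of order `p` acting on `A` by `k`-algebra automorphisms,
ramified precisely at the origin (for every non-maximal prime `P`, the inertia subgroup of `P` is
trivial). Let `R` be a `k`-algebra with an injective structure map `R → A` whose image is fixed by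
`G` (so `R ⊆ A^G`), with `A` finite over `R`. Galois extensions of fraction fields are expressed
through automorphism counts: since `A` and `A^G` are normal domains finite over `R`,
`Frac(A^G)/Frac(R)` is Galois exactly when `p` times the number of `k`-algebra automorphisms of
`A^G` fixing the image of `R` equals the rank `[Frac A : Frac R]` of `A` over `R`, and
`Frac(A)/Frac(R)` is Galois exactly when the number of `R`-algebra automorphisms of `A` equals that
rank. The row: the first equality implies the second. (The published statement assumes `R ⊆ A^G`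
finite with `Frac(A^G)/Frac(R)` Galois and concludes that `Frac(A)/Frac(R)` is Galois; here `R` is
taken to contain `k`, as the norm subrings of the source do.) -/
theorem result
    (p : ℕ) [Fact p.Prime] (A : Type u) [CommRing A] [IsRegularLocalRing A] [CharP A p]
    [IsAdicComplete (IsLocalRing.maximalIdeal A) A] (hdim : 2 ≤ ringKrullDim A)
    (k : Type v) [Field k] [Algebra k A]
    (hk : Function.Surjective (IsLocalRing.residue A ∘ algebraMap k A))
    (hkp : ∀ (L : Type v) [Field L] [Algebra k L], IsGalois k L → Module.finrank k L ≠ p)
    (G : Type w) [Group G] [Finite G] [MulSemiringAction G A] (hcard : Nat.card G = p)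
    [SMulCommClass G k A]
    (hram : ∀ P : Ideal A, P.IsPrime → P ≠ IsLocalRing.maximalIdeal A → P.inertia G = ⊥)
    (R : Type v) [CommRing R] [Algebra k R] [Algebra R A] [IsScalarTower k R A] [Module.Finite R A]
    (hRinj : Function.Injective (algebraMap R A))
    (hRG : ∀ (σ : G) (r : R), σ • algebraMap R A r = algebraMap R A r)
    (hgal : p * Nat.card {φ : FixedPoints.subalgebra k A G ≃ₐ[k] FixedPoints.subalgebra k A G //
        ∀ b : FixedPoints.subalgebra k A G, (b : A) ∈ Set.range (algebraMap R A) → (φ b : A) = b} =
      Module.finrank R A) :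
    Nat.card (A ≃ₐ[R] A) = Module.finrank R A := by
  classical
  haveI : IsDomain A := Groth.Agent.RegularLocal.Basic.isDomain
  haveI : IsDomain R := hRinj.isDomain _
  haveI : FaithfulSMul R A := (faithfulSMul_iff_algebraMap_injective R A).mpr hRinj
  let L := FractionRing A
  let F := FractionRing R
  letI : Algebra F L := FractionRing.liftAlgebra R L
  haveI : IsScalarTower R F L := FractionRing.isScalarTower_liftAlgebra R L
  have hrank : Module.finrank F L = Module.finrank R A := IsFractionRing.finrank_eq R F A L
  obtain ⟨hf, -⟩ := Groth.Agent.WQ8.exists_extend p A hdim k hk hkp G hcard hram AlgEquiv.refl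
  haveI := hf
  let S := {φ : FixedPoints.subalgebra k A G ≃ₐ[k] FixedPoints.subalgebra k A G //
        ∀ b : FixedPoints.subalgebra k A G, (b : A) ∈ Set.range (algebraMap R A) → (φ b : A) = b}
  choose ψ hψ using fun φ : S => (Groth.Agent.WQ8.exists_extend p A hdim k hk hkp G hcard hram φ.1).2
  have hψR : ∀ (φ : S) (g : G) (r : R), ψ φ (g • algebraMap R A r) = algebraMap R A r := fun φ g r => by
    rw [hRG]
    exact (hψ φ ⟨algebraMap R A r, fun σ => hRG σ r⟩).trans (φ.2 _ ⟨r, rfl⟩)
  let Φ : G × S → (A ≃ₐ[R] A) := fun x => AlgEquiv.ofRingEquiv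
    (f := (MulSemiringAction.toRingEquiv G A x.1).trans (ψ x.2).toRingEquiv) (fun r => hψR x.2 x.1 r)
  have hΦ : Function.Injective Φ := by
    rintro ⟨g, φ⟩ ⟨g', φ'⟩ h
    have h' : ∀ x : A, ψ φ (g • x) = ψ φ' (g' • x) := fun x => AlgEquiv.congr_fun h x
    have hφ : φ = φ' := Subtype.ext (AlgEquiv.ext fun b => Subtype.ext (by
      rw [← hψ φ b, ← hψ φ' b]
      have := h' (b : A)
      rwa [b.2 g, b.2 g'] at this))
    subst hφ
    exact Prod.ext (eq_of_smul_eq_smul fun x => (ψ φ).injective (h' x)) rfl
  let E : (A ≃ₐ[R] A) → (L ≃ₐ[F] L) := fun f => IsFractionRing.fieldEquivOfAlgEquiv F L L f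
  have hE : Function.Injective E := fun f g h => AlgEquiv.ext fun x => IsFractionRing.injective A L (by
    rw [← IsFractionRing.fieldEquivOfAlgEquiv_algebraMap F L L f, ← IsFractionRing.fieldEquivOfAlgEquiv_algebraMap F L L g]
    exact AlgEquiv.congr_fun h _)
  have hpos : 0 < Module.finrank R A := Module.finrank_pos
  haveI : FiniteDimensional F L := FiniteDimensional.of_finrank_pos (by rw [hrank]; exact hpos)
  haveI : Finite (A ≃ₐ[R] A) := Finite.of_injective E hE
  refine le_antisymm ((Nat.card_le_card_of_injective E hE).trans ?_) ?_
  · rw [← hrank, Nat.card_eq_fintype_card]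
    exact AlgEquiv.card_le
  · rw [← hgal, ← hcard, ← Nat.card_prod]
    exact Nat.card_le_card_of_injective Φ hΦ

end Groth.Agent.S20004
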