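import Groth.Statements.S2001
import Groth.Agent.EtAlg.Glue.Basic
import Mathlib.RingTheory.TensorProduct.Maps

set_option autoImplicit false
universe u
open TensorProduct
open EtAlg

namespace Groth.Agent.S2001

/-- Let (R -> R', f) be a glueing pair and M, N R-modules glueable for it. Given an R'-linear map φ' :
R' ⊗_R M -> R' ⊗_R N and an R-linear map φ₁ : M_f -> N_f which induce the same map into (R' ⊗_R N)_f
on elements of M, there is a unique R-linear map ψ : M -> N whose base change to R' is φ' and whose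
localization is φ₁. -/
theorem result (R R' : Type u) [CommRing R] [CommRing R'] [Algebra R R'] (f : R)
    (hRR : EtGlue.IsGlueingPair R R' f) (M N : Type u) [AddCommGroup M] [Module R M] [AddCommGroup N] [Module R N]
    (hM : EtGlue.IsGlueable R R' f M) (hN : EtGlue.IsGlueable R R' f N)
    (φ' : R' ⊗[R] M →ₗ[R'] R' ⊗[R] N)
    (φ₁ : LocalizedModule (Submonoid.powers f) M →ₗ[R] LocalizedModule (Submonoid.powers f) N)
    (hc : ∀ m : M, EtGlue.locOfTensor R R' f N (φ' ((1 : R') ⊗ₜ[R] m)) =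
      EtGlue.tensorOfLoc R R' f N (φ₁ (LocalizedModule.mkLinearMap (Submonoid.powers f) M m))) :
    ∃! ψ : M →ₗ[R] N, ψ.baseChange R' = φ' ∧
      IsLocalizedModule.map (Submonoid.powers f) (LocalizedModule.mkLinearMap (Submonoid.powers f) M)
        (LocalizedModule.mkLinearMap (Submonoid.powers f) N) ψ = φ₁ := by
  let ℓM := LocalizedModule.mkLinearMap (Submonoid.powers f) M
  let ℓN := LocalizedModule.mkLinearMap (Submonoid.powers f) N
  let Φ : N →ₗ[R] (R' ⊗[R] N) × LocalizedModule (Submonoid.powers f) N := (TensorProduct.mk R R' N 1).prod ℓN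
  have hΦ : Function.Injective Φ := hN.1
  choose ψ h1 h2 using fun m : M => hN.2 (φ' ((1 : R') ⊗ₜ[R] m)) (φ₁ (ℓM m)) (hc m)
  have h : ∀ m, Φ (ψ m) = (φ' ((1 : R') ⊗ₜ[R] m), φ₁ (ℓM m)) := fun m => Prod.ext (h1 m) (h2 m)
  let ψₗ : M →ₗ[R] N :=
    { toFun := ψ
      map_add' := fun a b => hΦ (by rw [map_add Φ, h, h, h, tmul_add, map_add, map_add, map_add, Prod.mk_add_mk])
      map_smul' := fun r a => hΦ (by
        rw [RingHom.id_apply, map_smul Φ, h, h, tmul_smul, LinearMap.map_smul_of_tower, map_smul, map_smul, Prod.smul_mk]) }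
  refine ⟨ψₗ, ⟨?_, ?_⟩, fun χ hχ => LinearMap.ext fun m => hΦ ((h m).symm ▸ Prod.ext ?_ ?_)⟩
  · refine TensorProduct.AlgebraTensorModule.ext fun r m => ?_
    rw [LinearMap.baseChange_tmul, show r ⊗ₜ[R] m = r • ((1 : R') ⊗ₜ[R] m) by rw [TensorProduct.smul_tmul', smul_eq_mul, mul_one],
      map_smul, show φ' ((1 : R') ⊗ₜ[R] m) = (1 : R') ⊗ₜ[R] ψ m from (h1 m).symm, TensorProduct.smul_tmul', smul_eq_mul, mul_one]
    rfl
  · refine IsLocalizedModule.linearMap_ext (Submonoid.powers f) ℓM ℓN (LinearMap.ext fun m => ?_)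
    show IsLocalizedModule.map (Submonoid.powers f) ℓM ℓN ψₗ (ℓM m) = φ₁ (ℓM m)
    rw [IsLocalizedModule.map_apply]
    exact h2 m
  · show (1 : R') ⊗ₜ[R] χ m = φ' ((1 : R') ⊗ₜ[R] m)
    rw [← hχ.1, LinearMap.baseChange_tmul]
  · show ℓN (χ m) = φ₁ (ℓM m)
    rw [← hχ.2]
    exact (IsLocalizedModule.map_apply _ _ _ _ m).symm

end Groth.Agent.S2001
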