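import Groth.Statements.S20014
import Groth.Agent.Misc9.DomainStalk
import Groth.Agent.Misc9.NormalSections
-- import your own Groth.Agent.* helpers here

set_option autoImplicit false
set_option backward.isDefEq.respectTransparency false
universe u
open CategoryTheory CategoryTheory.Limits AlgebraicGeometry
open RatSing

namespace Groth.Agent.S20014

/-- Let k be a field, X an integral k-scheme which is separated and of finite type over k, and f : X̃ →
X a proper morphism of k-schemes which is birational — an isomorphism over some nonempty open subset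
of X — and for which O_X → f_*O_X̃ is an isomorphism (Γ(V, O_X) → Γ(f⁻¹V, O_X̃) bijective for every
open V of X). If X̃ is normal (every local ring an integrally closed domain), then X is normal. (In
the text this is the last clause of a lemma whose other hypotheses — X̃ Cohen–Macaulay, vanishing of
the higher direct images of O_X̃ and of the dualizing sheaf — and whose standing assumption that k
is perfect of positive characteristic play no role in this clause; they are omitted here.) -/
theorem result (k : Type u) [Field k]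
    (X Xt : Scheme.{u}) [X.Over (Spec (CommRingCat.of k))] [Xt.Over (Spec (CommRingCat.of k))]
    [IsIntegral X] [IsSeparated (X ↘ Spec (CommRingCat.of k))]
    [LocallyOfFiniteType (X ↘ Spec (CommRingCat.of k))] [QuasiCompact (X ↘ Spec (CommRingCat.of k))]
    (f : Xt ⟶ X) (hf : f ≫ (X ↘ Spec (CommRingCat.of k)) = Xt ↘ Spec (CommRingCat.of k)) [IsProper f]
    (U : X.Opens) (hU : (U : Set X).Nonempty) (hbir : IsIso (f ∣_ U))
    (hfib : ∀ V : X.Opens, IsIso (f.app V))
    (hXt : Pi1.IsNormalScheme Xt) : Pi1.IsNormalScheme X := by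
  haveI : Nonempty Xt := by
    obtain ⟨u, hu⟩ := hU
    haveI := hbir
    obtain ⟨⟨z, -⟩, -⟩ := (asIso (f ∣_ U)).hom.homeomorph.surjective ⟨u, hu⟩
    exact ⟨z⟩
  haveI : IsLocallyNoetherian Xt := by
    haveI : LocallyOfFiniteType (Xt ↘ Spec (CommRingCat.of k)) := hf ▸ inferInstance
    exact LocallyOfFiniteType.isLocallyNoetherian (Xt ↘ Spec (CommRingCat.of k))
  haveI : IsDomain Γ(Xt, f ⁻¹ᵁ ⊤) := by
    haveI := hfib ⊤
    exact (asIso (f.app ⊤)).commRingCatIsoToRingEquiv.toMulEquiv.symm.isDomain _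
  haveI : IsDomain Γ(Xt, ⊤) := ‹IsDomain Γ(Xt, f ⁻¹ᵁ ⊤)›
  haveI := Misc9.DomainStalk.connectedSpace_of_isDomain_top (X := Xt)
  haveI := Misc9.DomainStalk.isIntegral (X := Xt) fun y => (hXt y).1
  rw [Misc9.NormalSections.isNormalScheme_iff]
  intro V hV hVne
  haveI := hfib V
  haveI hd : IsDomain Γ(Xt, f ⁻¹ᵁ V) := (asIso (f.app V)).commRingCatIsoToRingEquiv.toMulEquiv.symm.isDomain _
  haveI : Nonempty (f ⁻¹ᵁ V).toScheme := by
    by_contra hne
    have hb : f ⁻¹ᵁ V = ⊥ := le_antisymm (fun x hx => (hne ⟨⟨x, hx⟩⟩).elim) bot_le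
    haveI : Subsingleton Γ(Xt, f ⁻¹ᵁ V) := by rw [hb]; infer_instance
    exact not_subsingleton Γ(Xt, f ⁻¹ᵁ V) inferInstance
  haveI : IsIntegral (f ⁻¹ᵁ V).toScheme := isIntegral_of_isOpenImmersion (f ⁻¹ᵁ V).ι
  haveI := Misc9.NormalSections.isIntegrallyClosed_top (X := (f ⁻¹ᵁ V).toScheme) (fun y => by
    have e := (asIso ((f ⁻¹ᵁ V).ι.stalkMap y)).commRingCatIsoToRingEquiv
    haveI := (hXt ((f ⁻¹ᵁ V).ι y)).2
    exact ⟨inferInstance, IsIntegrallyClosed.of_equiv e⟩)
  haveI : IsIntegrallyClosed Γ(Xt, f ⁻¹ᵁ V) := IsIntegrallyClosed.of_equiv (f ⁻¹ᵁ V).topIso.commRingCatIsoToRingEquiv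
  exact IsIntegrallyClosed.of_equiv (asIso (f.app V)).commRingCatIsoToRingEquiv.symm

end Groth.Agent.S20014
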