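import Groth.Statements.S2003
import Groth.Agent.EtAlg.Glue.Alg
import Mathlib.RingTheory.Flat.EquationalCriterion
import Mathlib.Algebra.Module.FinitePresentation

set_option autoImplicit false
universe u
open TensorProduct
open EtAlg

namespace Groth.Agent.S2003

/-- Let (R -> R', f) be a glueing pair and M any R-module. Then M is finite projective over R exactly
when both of its base changes are: R' ⊗_R M over R', and M_f over R_f. -/
theorem result (R R' : Type u) [CommRing R] [CommRing R'] [Algebra R R'] (f : R)
    (hRR : EtGlue.IsGlueingPair R R' f) (M : Type u) [AddCommGroup M] [Module R M] :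
    (Module.Finite R M ∧ Module.Projective R M) ↔
      (Module.Finite R' (R' ⊗[R] M) ∧ Module.Projective R' (R' ⊗[R] M)) ∧
      (Module.Finite (Localization.Away f) (LocalizedModule (Submonoid.powers f) M) ∧
        Module.Projective (Localization.Away f) (LocalizedModule (Submonoid.powers f) M)) := by
  classical
  have hb : IsBaseChange (Localization.Away f) (LocalizedModule.mkLinearMap (Submonoid.powers f) M) :=
    IsLocalizedModule.isBaseChange (Submonoid.powers f) _ _
  constructor
  · rintro ⟨h1, h2⟩
    exact ⟨⟨inferInstance, inferInstance⟩, Module.Finite.equiv hb.equiv, Module.Projective.of_equiv hb.equiv⟩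
  rintro ⟨⟨hf', hp'⟩, hf1, hp1⟩
  have : Module.Finite (Localization.Away f) (Localization.Away f ⊗[R] M) := Module.Finite.equiv hb.equiv.symm
  have : Module.Projective (Localization.Away f) (Localization.Away f ⊗[R] M) := Module.Projective.of_equiv hb.equiv.symm
  have hfin : Module.Finite R M := EtAlg.Glue.Alg.finite_of_pair hRR
  have hflat : Module.Flat R M := EtAlg.Glue.Alg.flat_of_pair' hRR inferInstance inferInstance
  obtain ⟨k, π, hπ⟩ := Module.Finite.exists_fin' R M
  let L := LinearMap.ker π
  have hiπ := LinearMap.exact_subtype_ker_map π
  have key : ∀ (S : Type u) [CommRing S] [Algebra R S] [Module.Projective S (S ⊗[R] M)] [Module.Finite S (S ⊗[R] M)],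
      Module.Finite S (S ⊗[R] L) := fun S _ _ _ _ => by
    have : Module.FinitePresentation S (S ⊗[R] M) := Module.finitePresentation_of_projective S _
    let g := L.subtype.baseChange S
    have hg : Function.Injective g := by
      have : Module.Flat R (R ⊗[R] M) := Module.Flat.of_linearEquiv (TensorProduct.lid R M)
      exact (LinearMap.lTensor_inj_iff_rTensor_inj S _).mpr
        (EtAlg.Glue.Flat.rTensor_injective_of_algebra (K := ↥L) (F := Fin k → R) (Q := S) R hiπ hπ
          (Module.Flat.rTensor_preserves_injective_linearMap _ Subtype.val_injective))
    have hex : Function.Exact g (π.baseChange S) := lTensor_exact S hiπ hπ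
    have hsurj : Function.Surjective (π.baseChange S) := LinearMap.lTensor_surjective S hπ
    have hfg := Module.FinitePresentation.fg_ker (π.baseChange S) hsurj
    rw [hex.linearMap_ker_eq] at hfg
    have : Module.Finite S (LinearMap.range g) := Module.Finite.iff_fg.mpr hfg
    exact Module.Finite.equiv (LinearEquiv.ofInjective g hg).symm
  have := key R'
  have := key (Localization.Away f)
  have hL : L.FG := Module.Finite.iff_fg.mp (EtAlg.Glue.Alg.finite_of_pair hRR)
  have : Module.FinitePresentation R M := Module.finitePresentation_of_surjective π hπ hL
  exact ⟨hfin, Module.Flat.projective_of_finitePresentation⟩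

end Groth.Agent.S2003
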