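import Groth.Statements.S2012
import Mathlib

set_option autoImplicit false
set_option linter.style.haveILetI false
universe u
open EtAlg

namespace Groth.Agent.S2012

/-- Let A be a ring and I an ideal contained in its Jacobson radical. Let B be an A-algebra which is
flat, integral and of finite presentation over A and such that A/I -> B/IB is bijective. Then A -> B
is bijective. -/
theorem result (A B : Type u) [CommRing A] [CommRing B] [Algebra A B]
    (I : Ideal A) (hI : I ≤ (⊥ : Ideal A).jacobson) [Module.Flat A B] [Algebra.IsIntegral A B] [Algebra.FinitePresentation A B]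
    (hq : Function.Bijective (Ideal.quotientMap (I.map (algebraMap A B)) (algebraMap A B) Ideal.le_comap_map)) :
    Function.Bijective (algebraMap A B) := by
  classical
  haveI : Module.Finite A B := Algebra.IsIntegral.finite
  have hsurj : Function.Surjective (algebraMap A B) := by
    have h : (⊤ : Submodule A B) ≤ LinearMap.range (Algebra.linearMap A B) ⊔ I • (⊤ : Submodule A B) := by
      intro b _
      obtain ⟨a, ha⟩ := hq.2 (Ideal.Quotient.mk _ b)
      obtain ⟨a, rfl⟩ := Ideal.Quotient.mk_surjective a
      rw [Ideal.quotientMap_mk, Ideal.Quotient.mk_eq_mk_iff_sub_mem] at ha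
      refine Submodule.mem_sup.mpr ⟨algebraMap A B a, ⟨a, rfl⟩, b - algebraMap A B a, ?_, by abel⟩
      rw [Ideal.smul_top_eq_map, Submodule.restrictScalars_mem]
      rw [← neg_sub]
      exact neg_mem ha
    have hN := Submodule.le_of_le_smul_of_le_jacobson_bot Module.Finite.fg_top hI h
    exact fun b => LinearMap.mem_range.mp (hN trivial)
  refine ⟨?_, hsurj⟩
  let J := RingHom.ker (algebraMap A B)
  have hJfg : J.FG := Algebra.FinitePresentation.ker_fG_of_surjective (Algebra.ofId A B) hsurj
  haveI : Module.Flat A (A ⧸ J) :=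
    Module.Flat.of_linearEquiv (Ideal.quotientKerAlgEquivOfSurjective (f := Algebra.ofId A B) hsurj).toLinearEquiv
  have hJ2 : IsIdempotentElem J := by
    refine le_antisymm Ideal.mul_le_right fun a ha => ?_
    have hinj := Module.Flat.rTensor_preserves_injective_linearMap (M := A ⧸ J) J.subtype (Submodule.injective_subtype J)
    have h0 : (⟨a, ha⟩ : J) ⊗ₜ[A] (1 : A ⧸ J) = 0 := by
      apply hinj
      rw [map_zero, LinearMap.rTensor_tmul]
      show (a : A) ⊗ₜ[A] (1 : A ⧸ J) = 0
      rw [show (a : A) = a • (1 : A) by simp, TensorProduct.smul_tmul,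
        show a • (1 : A ⧸ J) = 0 from by
          rw [Algebra.smul_def, mul_one]; exact Ideal.Quotient.eq_zero_iff_mem.mpr ha, TensorProduct.tmul_zero]
    have h1 := congrArg (TensorProduct.tensorQuotEquivQuotSMul J J) h0
    rw [map_zero, ← map_one (Ideal.Quotient.mk J), TensorProduct.tensorQuotEquivQuotSMul_tmul_mk, one_smul,
      Submodule.Quotient.mk_eq_zero] at h1
    have h2 := Submodule.mem_map_of_mem (f := J.subtype) h1
    rw [Submodule.map_smul'', Submodule.map_top, Submodule.range_subtype] at h2
    exact h2
  obtain ⟨e, he, hJe⟩ := (Ideal.isIdempotentElem_iff_of_fg J hJfg).mp hJ2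
  have heJ : e ∈ J := hJe ▸ Ideal.mem_span_singleton_self e
  have heI : e ∈ I := by
    rw [← Ideal.Quotient.eq_zero_iff_mem]
    apply hq.1
    rw [Ideal.quotientMap_mk, RingHom.mem_ker.mp heJ, map_zero, map_zero]
  have he0 : e = 0 := by
    have hu := Ideal.mem_jacobson_bot.mp (hI heI) (-1)
    have h0 : e * (e * -1 + 1) = 0 := by
      rw [mul_add, mul_one, ← mul_assoc, he.eq]; ring
    exact hu.mul_left_eq_zero.mp h0
  rw [RingHom.injective_iff_ker_eq_bot]
  show J = ⊥
  rw [hJe, he0, Submodule.span_singleton_eq_bot]

end Groth.Agent.S2012
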