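import Groth.Statements.S2016
import Groth.Agent.Alg.ChainRing

set_option autoImplicit false
universe u
open EtAlg

namespace Groth.Agent.S2016

/-- Let R be a ring such that for every maximal ideal m and all a, b in R_m, either a divides b or b
divides a in R_m. Then each finitely presented R-module is a direct summand of a direct sum of
finitely many cyclic modules R/fR. -/
theorem result (R : Type u) [CommRing R]
    (h : ∀ (m : Ideal R) [m.IsMaximal], ∀ a b : Localization.AtPrime m, a ∣ b ∨ b ∣ a)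
    (M : Type u) [AddCommGroup M] [Module R M] [Module.FinitePresentation R M] :
    ∃ (n : ℕ) (f : Fin n → R) (N : Type u) (_ : AddCommGroup N) (_ : Module R N),
      Nonempty ((M × N) ≃ₗ[R] ((i : Fin n) → R ⧸ Ideal.span {f i})) := by
  classical
  choose n f φ g s hs hφg using fun m : {m : Ideal R // m.IsMaximal} =>
    @Groth.Agent.Alg.ChainRing.exists_local_section R _ M _ _ _ m.1 m.2 (@h m.1 m.2)
  have htop : Ideal.span (Set.range s) = ⊤ := by
    by_contra hne
    obtain ⟨m, hm, hle⟩ := Ideal.exists_le_maximal _ hne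
    exact hs ⟨m, hm⟩ (hle (Ideal.subset_span ⟨⟨m, hm⟩, rfl⟩))
  obtain ⟨a, ha⟩ := Finsupp.mem_ideal_span_range_iff_exists_finsupp.mp
    (htop ▸ Submodule.mem_top : (1 : R) ∈ Ideal.span (Set.range s))
  let T := Σ m : a.support, Fin (n m.1)
  let e := Fintype.equivFin T
  let F : Fin (Fintype.card T) → R := fun j => f (e.symm j).1.1 (e.symm j).2
  let proj : ∀ m : a.support, (∀ j, R ⧸ Ideal.span {F j}) →ₗ[R] ∀ i, R ⧸ Ideal.span {f m.1 i} :=
    fun m => LinearMap.pi fun i => (Submodule.quotEquivOfEq (Ideal.span {F (e ⟨m, i⟩)})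
      (Ideal.span {f m.1 i}) (by simp only [F]; rw [Equiv.symm_apply_apply])).toLinearMap.comp
        (LinearMap.proj (e ⟨m, i⟩))
  let inc : M →ₗ[R] ∀ j, R ⧸ Ideal.span {F j} := LinearMap.pi fun j =>
    a (e.symm j).1.1 • (LinearMap.proj (e.symm j).2).comp (g (e.symm j).1.1)
  let out : (∀ j, R ⧸ Ideal.span {F j}) →ₗ[R] M := ∑ m : a.support, (φ m.1).comp (proj m)
  have hcomp : ∀ x, out (inc x) = x := by
    intro x
    have hp : ∀ m : a.support, proj m (inc x) = a m.1 • g m.1 x := by
      intro m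
      funext i
      obtain ⟨q, hq⟩ : ∃ q, (e.symm (e ⟨m, i⟩)) = q ∧ q = ⟨m, i⟩ := ⟨_, rfl, Equiv.symm_apply_apply _ _⟩
      simp only [proj, inc, LinearMap.pi_apply, LinearMap.comp_apply, LinearMap.proj_apply,
        LinearMap.smul_apply, LinearEquiv.coe_coe, Pi.smul_apply, map_smul]
      have key : ∀ (q : T) (hq : q = ⟨m, i⟩) (heq : Ideal.span {f q.1.1 q.2} = Ideal.span {f m.1 i}),
          a q.1.1 • Submodule.quotEquivOfEq _ _ heq (g q.1.1 x q.2) = a m.1 • g m.1 x i := by
        rintro _ rfl heq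
        congr 1
        obtain ⟨z, hz⟩ := Submodule.Quotient.mk_surjective _ (g m.1 x i)
        rw [← hz, Submodule.quotEquivOfEq_mk]
      exact key _ (Equiv.symm_apply_apply _ _) _
    simp only [out, LinearMap.sum_apply, LinearMap.comp_apply, hp, map_smul, hφg, smul_smul]
    rw [← Finset.sum_smul]
    rw [show (∑ m : a.support, a m.1 * s m.1) = (1 : R) by
      rw [← ha, Finsupp.sum]
      exact Finset.sum_coe_sort a.support fun m => a m * s m, one_smul]
  let N := LinearMap.ker out
  refine ⟨_, F, N, inferInstance, inferInstance, ⟨?_⟩⟩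
  exact LinearEquiv.ofLinearMap (inc.coprod N.subtype)
    (out.prod (LinearMap.codRestrict N (LinearMap.id - inc.comp out) fun p => by
      simp [N, LinearMap.mem_ker, hcomp]))
    (LinearMap.ext fun p => by simp)
    (LinearMap.ext fun ⟨x, ⟨p, hp⟩⟩ => by
      have hp' : out p = 0 := hp
      refine Prod.ext ?_ (Subtype.ext ?_) <;> simp [hcomp, hp'])

end Groth.Agent.S2016
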