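import Groth.Statements.S2018
import Mathlib

set_option autoImplicit false
universe u
open EtAlg

namespace Groth.Agent.S2018

/-- Let g : A' -> A be a surjective ring map and f : B -> A an integral ring map. Then the projection
from the fibre product B ×_A A' (the equalizer of f ∘ pr₁ and g ∘ pr₂ in B × A') to A' is integral. -/
theorem result (A A' B : Type u) [CommRing A] [CommRing A'] [CommRing B] (g : A' →+* A)
    (hg : Function.Surjective g) (f : B →+* A) (hf : f.IsIntegral) :
    ((RingHom.snd B A').comp ((f.comp (RingHom.fst B A')).eqLocus (g.comp (RingHom.snd B A'))).subtype).IsIntegral := by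
  classical
  intro a
  let S := (f.comp (RingHom.fst B A')).eqLocus (g.comp (RingHom.snd B A'))
  let π : S →+* A' := (RingHom.snd B A').comp S.subtype
  obtain ⟨p, hp, hp0⟩ := hf (g a)
  have hlift : ∀ b : B, ∃ s : S, (s : B × A').1 = b := fun b => by
    obtain ⟨x, hx⟩ := hg (f b)
    exact ⟨⟨(b, x), hx.symm⟩, rfl⟩
  choose l hl using hlift
  let l' : B → S := fun b => if b = 1 then 1 else if b = 0 then 0 else l b
  have hl' : ∀ b, (l' b : B × A').1 = b := fun b => by
    by_cases h1 : b = 1
    · simp [l', h1]
    · by_cases h0 : b = 0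
      · simp only [l', h1, h0, if_false, if_true]
        rw [h0] at h1
        simp [h1]
      · simp [l', h1, h0, hl]
  let q : Polynomial S := Polynomial.X ^ p.natDegree +
    ∑ i ∈ Finset.range p.natDegree, Polynomial.C (l' (p.coeff i)) * Polynomial.X ^ i
  have hq : q.Monic := Polynomial.monic_X_pow_add (by
    refine (Polynomial.degree_sum_le _ _).trans_lt ((Finset.sup_lt_iff (WithBot.bot_lt_coe _)).mpr fun i hi => ?_)
    exact lt_of_le_of_lt (Polynomial.degree_C_mul_X_pow_le _ _) (WithBot.coe_lt_coe.mpr (Finset.mem_range.mp hi)))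
  have hπ : ∀ s : S, g (π s) = f (s : B × A').1 := fun s => s.2.symm
  have hk : g (q.eval₂ π a) = 0 := by
    have e : g (q.eval₂ π a) = p.eval₂ f (g a) := by
      rw [Polynomial.hom_eval₂, Polynomial.eval₂_eq_sum_range (p := p)]
      simp only [q, Polynomial.eval₂_add, Polynomial.eval₂_X_pow, Polynomial.eval₂_finsetSum,
        Polynomial.eval₂_mul, Polynomial.eval₂_C, RingHom.comp_apply, hπ, hl']
      rw [Finset.sum_range_succ, hp.coeff_natDegree, map_one, one_mul]
      ring
    rw [e, hp0]
  let k : S := ⟨(0, q.eval₂ π a * a), by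
    show f 0 = g (q.eval₂ π a * a)
    rw [map_zero, map_mul, hk, zero_mul]⟩
  refine ⟨q * Polynomial.X - Polynomial.C k, ?_, ?_⟩
  · rcases subsingleton_or_nontrivial S with hS | hS
    · exact Subsingleton.elim _ _
    · exact (hq.mul Polynomial.monic_X).sub_of_left (Polynomial.degree_C_le.trans_lt (by
        rw [Polynomial.degree_mul_X, Polynomial.degree_eq_natDegree hq.ne_zero]
        exact_mod_cast Nat.succ_pos _))
  · rw [Polynomial.eval₂_sub, Polynomial.eval₂_mul, Polynomial.eval₂_X, Polynomial.eval₂_C]
    exact sub_self _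

end Groth.Agent.S2018
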