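import Groth.Statements.S2021
import Groth.Agent.EtAlg.Milnor.Glue
import Mathlib.RingTheory.Flat.EquationalCriterion

set_option autoImplicit false
universe u
open TensorProduct
open EtAlg

namespace Groth.Agent.S2021

/-- Let B' = B ×_A A' be a fibre product of rings with A' -> A surjective, N a B-module, M' an A'-module
and φ : A ⊗_B N ≅ A ⊗_{A'} M'. If N and M' are finitely generated then so is the glued B'-module N
×_φ M'; if N and M' are finite projective then N ×_φ M' is finite projective over B'. -/
theorem result (B' B A' A : Type u) [CommRing B'] [CommRing B] [CommRing A'] [CommRing A]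
    [Algebra B' B] [Algebra B' A'] [Algebra B A] [Algebra A' A] [Algebra B' A] [IsScalarTower B' B A] [IsScalarTower B' A' A]
    (hsq : EtMil.IsFibreSquare B' B A' A)
    (N M' : Type u) [AddCommGroup N] [Module B N] [Module B' N] [IsScalarTower B' B N]
    [AddCommGroup M'] [Module A' M'] [Module B' M'] [IsScalarTower B' A' M'] (φ : A ⊗[B] N ≃ₗ[A] A ⊗[A'] M') :
    (Module.Finite B N → Module.Finite A' M' → Module.Finite B' ↥(EtMil.glue B' φ)) ∧
    (Module.Finite B N → Module.Projective B N → Module.Finite A' M' → Module.Projective A' M' →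
      Module.Finite B' ↥(EtMil.glue B' φ) ∧ Module.Projective B' ↥(EtMil.glue B' φ)) := by
  refine ⟨fun h1 h2 => EtAlg.Milnor.Glue.finite_glue φ hsq, fun h1 h2 h3 h4 => ?_⟩
  have hflat : Module.Flat B' (EtMil.glue B' φ) := EtAlg.Milnor.Glue.flat_glue φ hsq
  let e₁ := LinearEquiv.ofBijective _ ⟨EtAlg.Milnor.Glue.injective_fst φ hsq, EtAlg.Milnor.Glue.surjective_fst φ hsq⟩
  let e₂ := LinearEquiv.ofBijective _ ⟨EtAlg.Milnor.Glue.injective_snd φ hsq, EtAlg.Milnor.Glue.surjective_snd φ hsq⟩
  have : Module.Flat B (B ⊗[B'] EtMil.glue B' φ) := Module.Flat.of_linearEquiv e₁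
  have : Module.Flat A' (A' ⊗[B'] EtMil.glue B' φ) := Module.Flat.of_linearEquiv e₂
  have hN := Module.finitePresentation_of_projective B N
  have hM := Module.finitePresentation_of_projective A' M'
  have : Module.FinitePresentation B (B ⊗[B'] EtMil.glue B' φ) := Module.finitePresentation_of_surjective
    e₁.symm.toLinearMap e₁.symm.surjective (by rw [LinearEquiv.ker]; exact Submodule.fg_bot)
  have : Module.FinitePresentation A' (A' ⊗[B'] EtMil.glue B' φ) := Module.finitePresentation_of_surjective
    e₂.symm.toLinearMap e₂.symm.surjective (by rw [LinearEquiv.ker]; exact Submodule.fg_bot)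
  have := EtAlg.Milnor.Basic.finitePresentation_of_pair (L := EtMil.glue B' φ) hsq
  exact ⟨inferInstance, Module.Flat.projective_of_finitePresentation⟩

end Groth.Agent.S2021
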