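import Groth.Statements.S2026
import Groth.Prelude.Def_Smoothing
import Groth.Agent.Alg.StandardElements

set_option autoImplicit false
universe u
open Smoothing

namespace Groth.Agent.S2026
open Groth.Agent.Alg.StandardElements

/-- For a finitely presented `R`-algebra `A`, the singular ideal (functions vanishing on the non-smooth
locus) coincides with the radical of the ideal spanned by all strictly standard elements, and
equally with the radical of the ideal spanned by all elementary standard elements. -/
theorem result {R A : Type u} [CommRing R] [CommRing A]
    [Algebra R A] [Algebra.FinitePresentation R A] :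
    Smoothing.singularIdeal R A = (Ideal.span {a : A | Smoothing.IsStrictlyStandard R A a}).radical ∧
      Smoothing.singularIdeal R A =
        (Ideal.span {a : A | Smoothing.IsElementaryStandard R A a}).radical := by
  have h1 : (Ideal.span {a : A | Smoothing.IsStrictlyStandard R A a}).radical ≤
      Smoothing.singularIdeal R A := by
    refine (Ideal.radical_mono (Ideal.span_le.mpr fun a ha => ?_)).trans_eq
      (Ideal.IsRadical.radical (PrimeSpectrum.isRadical_vanishingIdeal _))
    rw [SetLike.mem_coe, Smoothing.singularIdeal, PrimeSpectrum.mem_vanishingIdeal]
    intro x hx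
    by_contra hne
    exact hx (isSmoothAt_of_isStrictlyStandard ha x.asIdeal hne)
  have h2 : (Ideal.span {a : A | Smoothing.IsElementaryStandard R A a}).radical ≤
      (Ideal.span {a : A | Smoothing.IsStrictlyStandard R A a}).radical :=
    Ideal.radical_mono (Ideal.span_mono fun a ha => isStrictlyStandard_of_isElementaryStandard ha)
  have h3 : Smoothing.singularIdeal R A ≤
      (Ideal.span {a : A | Smoothing.IsElementaryStandard R A a}).radical := by
    rw [Ideal.radical_eq_sInf]
    refine le_sInf fun q ⟨hq, hqp⟩ a ha => ?_
    by_contra hne
    have : Algebra.IsSmoothAt R q := by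
      by_contra hsm
      exact hne ((PrimeSpectrum.mem_vanishingIdeal _ _).mp ha ⟨q, hqp⟩ hsm)
    obtain ⟨b, hb, hbe⟩ := exists_isElementaryStandard_notMem (R := R) q
    exact hb (hq (Ideal.subset_span hbe))
  exact ⟨le_antisymm (h3.trans h2) h1, le_antisymm h3 (h2.trans h1)⟩

end Groth.Agent.S2026
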