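import Groth.Statements.S2032
import Groth.Prelude.Def_Smoothing
import Mathlib.RingTheory.Smooth.StandardSmooth
import Mathlib.RingTheory.Extension.Presentation.Submersive
import Mathlib.LinearAlgebra.Matrix.Adjugate
import Mathlib.RingTheory.Finiteness.Basic

set_option autoImplicit false
universe u
open Smoothing

namespace Groth.Agent.S2032
open MvPolynomial
set_option backward.isDefEq.respectTransparency false

/-- For a finitely presented `R`-algebra `A` and `a ∈ A`, if `a` is elementary standard then `A_a` is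
standard smooth over `R`. (Part (f), the converse for large powers of `a`, is not stated: as
published it fails, for example for the nodal cubic `A = {g ∈ ℚ[u] : g(0) = g(1)}` and `a =
u(u-1)`.) -/
theorem result {R A : Type u} [CommRing R] [CommRing A]
    [Algebra R A] [Algebra.FinitePresentation R A] (a : A)
    (ha : Smoothing.IsElementaryStandard R A a) : Algebra.IsStandardSmooth R (Localization.Away a) := by
  classical
  obtain ⟨P, ⟨a₁, ha₁⟩, hkill⟩ := ha
  obtain ⟨a', ha'⟩ := P.surj a
  let I : Ideal (MvPolynomial (Fin P.n) R) := Ideal.span (Set.range P.rel)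
  let v : Fin P.c → MvPolynomial (Fin P.n) R := fun j => P.rel (Fin.castLE P.hcm j)
  let L : Ideal (MvPolynomial (Fin P.n) R) := Ideal.span (Set.range v)
  have hI : ∀ x ∈ I, P.hom x = 0 := fun x hx => by
    have : x ∈ RingHom.ker P.hom.toRingHom := P.ker_eq ▸ hx
    exact this
  have hrel : ∀ j, ∃ q : Fin P.m → MvPolynomial (Fin P.n) R, (∀ i, q i ∈ I) ∧
      a' * P.rel j - ∑ i, q i * P.rel i ∈ L := fun j => by
    by_cases hj : (j : ℕ) < P.c
    · exact ⟨0, fun i => I.zero_mem, by
        simpa using L.mul_mem_left a' (show P.rel j ∈ L from Ideal.subset_span ⟨⟨j, hj⟩, rfl⟩)⟩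
    · obtain ⟨l, hl, r, hr, hlr⟩ := Submodule.mem_sup.mp (hkill a' ha' j (not_lt.mp hj))
      rw [pow_two] at hr
      obtain ⟨q, hq, hqr⟩ := (Submodule.mem_ideal_smul_span_iff_exists_sum I P.rel r).mp hr
      refine ⟨fun i => q i, hq, ?_⟩
      have : (∑ i, q i * P.rel i) = r := by
        rw [← hqr]
        exact (Finsupp.sum_fintype q (fun i c => c • P.rel i) (fun i => zero_smul _ _)).symm
      rw [this, ← hlr, add_sub_cancel_right]
      refine Ideal.span_mono ?_ hl
      rintro _ ⟨i, hi, rfl⟩
      exact ⟨⟨i, hi⟩, rfl⟩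
  choose q hqI hqL using hrel
  let M : Matrix (Fin P.m) (Fin P.m) (MvPolynomial (Fin P.n) R) :=
    Matrix.scalar (Fin P.m) a' - Matrix.of q
  let h : MvPolynomial (Fin P.n) R := a' * M.det
  have hMrel : ∀ j, (M.mulVec P.rel) j ∈ L := fun j => by
    simpa [M, Matrix.mulVec, dotProduct, Matrix.sub_apply, sub_mul, Matrix.diagonal_apply,
      Finset.sum_sub_distrib] using hqL j
  have hdetL : ∀ j, M.det * P.rel j ∈ L := fun j => by
    have : M.det * P.rel j = (M.adjugate.mulVec (M.mulVec P.rel)) j := by
      rw [Matrix.mulVec_mulVec, Matrix.adjugate_mul, Matrix.smul_mulVec, Matrix.one_mulVec]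
      rfl
    rw [this]
    change ∑ i, M.adjugate j i * (M.mulVec P.rel) i ∈ L
    exact sum_mem fun i _ => L.mul_mem_left _ (hMrel i)
  have hhI : ∀ x ∈ I, h * x ∈ L := fun x hx => by
    obtain ⟨c, rfl⟩ := Submodule.mem_span_range_iff_exists_fun _ |>.mp hx
    rw [Finset.mul_sum]
    refine sum_mem fun i _ => ?_
    rw [smul_eq_mul, show h * (c i * P.rel i) = (a' * c i) * (M.det * P.rel i) by ring]
    exact L.mul_mem_left _ (hdetL i)
  have hLI : L ≤ I := Ideal.span_le.mpr (by rintro _ ⟨i, rfl⟩; exact Ideal.subset_span ⟨_, rfl⟩)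
  have hh : P.hom h = a ^ (P.m + 1) := by
    rw [map_mul, ha', AlgHom.map_det, pow_succ']
    congr 1
    have : P.hom.mapMatrix M = Matrix.scalar (Fin P.m) a := by
      ext i j
      rcases eq_or_ne i j with rfl | hij
      · simp [M, ha', hI _ (hqI i i)]
      · simp [M, hij, hI _ (hqI i j)]
    rw [this]
    simp
  let B := MvPolynomial (Fin P.n) R ⧸ L
  let π : B →ₐ[R] A := Ideal.Quotient.liftₐ L P.hom fun x hx => hI x (hLI hx)
  have hπ : ∀ x, π (Ideal.Quotient.mk L x) = P.hom x := fun x => rfl
  have hker : ∀ z : B, π z = 0 → Ideal.Quotient.mk L h * z = 0 := fun z hz => by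
    obtain ⟨z, rfl⟩ := Ideal.Quotient.mk_surjective z
    rw [← map_mul, Ideal.Quotient.eq_zero_iff_mem]
    refine hhI z ?_
    change z ∈ Ideal.span (Set.range P.rel)
    rw [← P.ker_eq]; exact hz
  let T := Localization.Away a
  let : Algebra B T := ((algebraMap A T).comp π.toRingHom).toAlgebra
  have : IsScalarTower R B T := IsScalarTower.of_algebraMap_eq (R := R) (S := B) (A := T) fun r => by
    change _ = algebraMap A T (π (algebraMap R B r))
    rw [π.commutes]; rfl
  have haT : ∀ k, IsUnit (algebraMap A T (a ^ k)) := fun k =>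
    IsLocalization.map_units T (⟨a ^ k, k, rfl⟩ : Submonoid.powers a)
  have : IsLocalization.Away (Ideal.Quotient.mk L h) T := by
    refine IsLocalization.Away.mk _ ?_ ?_ ?_
    · change IsUnit (algebraMap A T (π (Ideal.Quotient.mk L h)))
      rw [hπ, hh]; exact haT _
    · intro x
      obtain ⟨k, z, hz⟩ := IsLocalization.Away.surj a x
      obtain ⟨z, rfl⟩ := P.surj z
      refine ⟨k, Ideal.Quotient.mk L (z * a' ^ (P.m * k)), ?_⟩
      change x * algebraMap A T (π (Ideal.Quotient.mk L h)) ^ k = algebraMap A T (π _)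
      rw [hπ, hπ, hh, map_mul, map_mul, map_pow, map_pow, ← hz, map_pow, ha', ← pow_mul]
      ring
    · intro x y hxy
      obtain ⟨⟨_, k, rfl⟩, hk⟩ := (IsLocalization.eq_iff_exists (Submonoid.powers a) T).mp hxy
      refine ⟨k + 1, ?_⟩
      have h1 : π (Ideal.Quotient.mk L h ^ k * (x - y)) = 0 := by
        change a ^ k * π x = a ^ k * π y at hk
        rw [map_mul, map_pow, hπ, hh, map_sub, ← pow_mul,
          show (P.m + 1) * k = P.m * k + k by ring, pow_add, mul_assoc, mul_sub (a ^ k), hk,
          sub_self, mul_zero]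
      have := hker _ h1
      rw [← mul_assoc, ← pow_succ', mul_sub, sub_eq_zero] at this
      exact this
  let Q := Algebra.PreSubmersivePresentation.localizationAway T (Ideal.Quotient.mk L h)
  let N : Algebra.PreSubmersivePresentation R B (Fin P.n) (Fin P.c) :=
    Algebra.PreSubmersivePresentation.naive (v := v) (Fin.castLE P.hcn) (Fin.castLE_injective P.hcn)
  refine Algebra.SubmersivePresentation.isStandardSmooth
    ⟨Q.comp N, ?_⟩
  rw [Algebra.PreSubmersivePresentation.comp_jacobian_eq_jacobian_smul_jacobian,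
    Algebra.PreSubmersivePresentation.localizationAway_jacobian, Algebra.smul_def]
  refine IsUnit.mul ?_ (IsLocalization.Away.algebraMap_isUnit _)
  have hN : N.jacobian = Ideal.Quotient.mk L
      (Smoothing.jacobianMinor P.rel (Fin.castLE P.hcm) (Fin.castLE P.hcn)) := by
    rw [Algebra.PreSubmersivePresentation.jacobian_eq_jacobiMatrix_det, Smoothing.jacobianMinor,
      ← Matrix.det_transpose (Matrix.of _)]
    have : N.jacobiMatrix = (Matrix.of fun j k : Fin P.c =>
        pderiv (Fin.castLE P.hcn k) (P.rel (Fin.castLE P.hcm j))).transpose := by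
      ext i j : 1
      exact Algebra.PreSubmersivePresentation.jacobiMatrix_naive ..
    rw [this]
    rfl
  rw [hN]
  change IsUnit (algebraMap A T (π _))
  rw [hπ]
  have := haT 1
  have h2 : algebraMap A T (a ^ 1) = algebraMap A T a₁ *
      algebraMap A T (P.hom (Smoothing.jacobianMinor P.rel (Fin.castLE P.hcm) (Fin.castLE P.hcn))) := by
    rw [← map_mul, ← ha₁, pow_one]
  rw [h2] at this
  exact isUnit_of_mul_isUnit_right this

end Groth.Agent.S2032
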