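import Groth.Statements.S2041
import Groth.Agent.HensPair.Descend
import Mathlib.LinearAlgebra.TensorProduct.Vanishing
import Mathlib.LinearAlgebra.TensorProduct.Finiteness
import Mathlib.RingTheory.TensorProduct.Finite
import Mathlib.RingTheory.IntegralClosure.IsIntegralClosure.Basic

set_option autoImplicit false
universe u
open CAlg

namespace Groth.Agent.S2041


open TensorProduct Groth.Agent.HensPair

theorem exists_finite_subalgebra {A B : Type u} [CommRing A] [CommRing B] [Algebra A B] [Algebra.IsIntegral A B]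
    (I : Ideal A) (b : B) (hb : b * b - b ∈ (I • ⊤ : Submodule A B)) :
    ∃ (T : Subalgebra A B) (_ : T.toSubmodule.FG) (h : b ∈ T),
      (⟨b, h⟩ : T) * ⟨b, h⟩ - ⟨b, h⟩ ∈ I.map (algebraMap A T) := by
  classical
  suffices h : ∀ z ∈ (I • ⊤ : Submodule A B), ∃ s : Finset B, ∀ T : Subalgebra A B, (↑s : Set B) ⊆ T →
      ∃ h : z ∈ T, (⟨z, h⟩ : T) ∈ I.map (algebraMap A T) by
    obtain ⟨s, hs⟩ := h _ hb
    let T := Algebra.adjoin A ((insert b s : Finset B) : Set B)
    have hbT : b ∈ T := Algebra.subset_adjoin (by simp)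
    obtain ⟨h1, h2⟩ := hs T fun y hy => Algebra.subset_adjoin (by simp [hy])
    exact ⟨T, fg_adjoin_of_finite (Finset.finite_toSet _) fun y _ => Algebra.IsIntegral.isIntegral y, hbT, h2⟩
  intro z hz
  induction hz using Submodule.smul_induction_on' with
  | smul r hr y _ =>
    refine ⟨{y}, fun T hT => ?_⟩
    have hy : y ∈ T := hT (by simp)
    refine ⟨T.smul_mem hy r, ?_⟩
    rw [show (⟨r • y, T.smul_mem hy r⟩ : T) = algebraMap A T r * ⟨y, hy⟩ from Subtype.ext (Algebra.smul_def r y)]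
    exact Ideal.mul_mem_right _ _ (Ideal.mem_map_of_mem _ hr)
  | add x _ y _ hx hy =>
    obtain ⟨s, hs⟩ := hx; obtain ⟨t, ht⟩ := hy
    refine ⟨s ∪ t, fun T hT => ?_⟩
    obtain ⟨h1, h1'⟩ := hs T fun a ha => hT (by simp [Finset.mem_coe.mp ha])
    obtain ⟨h2, h2'⟩ := ht T fun a ha => hT (by simp [Finset.mem_coe.mp ha])
    exact ⟨T.add_mem h1 h2, add_mem h1' h2'⟩

open HensPair.Construction in
theorem exists_idem_finite {A T : Type u} [CommRing A] (I : Ideal A) [CommRing T] [Algebra A T] (b : T)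
    [Module.Finite A T]
    (hb : b * b - b ∈ I.map (algebraMap A T)) :
    ∃ (A' : Type u) (_ : CommRing A') (_ : Algebra A A') (_ : Nbhd.IsNbhd I A') (x : A' ⊗[A] T),
      IsIdempotentElem x ∧ x - 1 ⊗ₜ b ∈ I.map (algebraMap A (A' ⊗[A] T)) := by
  classical
  obtain ⟨π⟩ := Henselization.exists_proj (I := I)
  let J := I.map (algebraMap A (Hull I))
  have hJ : J.map (algebraMap (Hull I) (Hull I ⊗[A] T)) = I.map (algebraMap A (Hull I ⊗[A] T)) := by
    rw [Ideal.map_map, ← IsScalarTower.algebraMap_eq]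
  obtain ⟨E, hE, hEJ⟩ := Basic.idemFinite (A := Hull I) (I := J) (Hull I ⊗[A] T) inferInstance ((1 : Hull I) ⊗ₜ[A] b) (by
    rw [hJ, pow_two, Algebra.TensorProduct.tmul_mul_tmul, one_mul, ← TensorProduct.tmul_sub]
    exact Henselization.map_mem (Algebra.TensorProduct.includeRight : T →ₐ[A] Hull I ⊗[A] T) hb)
  rw [hJ] at hEJ
  obtain ⟨N, m, hm⟩ := Module.Finite.exists_fin (R := A) (M := T)
  have hspan : ∀ y : T, ∃ c : Fin N → A, ∑ k, c k • m k = y := fun y =>
    (Submodule.mem_span_range_iff_exists_fun A).mp (hm ▸ Submodule.mem_top)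
  have hrep : ∀ E : Hull I ⊗[A] T, ∃ h : Fin N → Hull I, ∑ k, h k ⊗ₜ[A] m k = E := fun E => by
    induction E using TensorProduct.induction_on with
    | zero => exact ⟨0, by simp⟩
    | tmul a y =>
      obtain ⟨c, rfl⟩ := hspan y
      exact ⟨fun k => c k • a, by simp [TensorProduct.tmul_sum, smul_tmul]⟩
    | add u v hu hv =>
      obtain ⟨a, rfl⟩ := hu; obtain ⟨a', rfl⟩ := hv
      exact ⟨a + a', by simp [TensorProduct.add_tmul, Finset.sum_add_distrib]⟩
  obtain ⟨h, hh⟩ := hrep E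
  choose c hc using fun kl : Fin N × Fin N => hspan (m kl.1 * m kl.2)
  let Q : Fin N → MvPolynomial (Fin N) A := fun p =>
    (∑ k, ∑ l, MvPolynomial.C (c (k, l) p) * (MvPolynomial.X k * MvPolynomial.X l)) - MvPolynomial.X p
  have hQ : ∀ (S : Type u) [CommRing S] [Algebra A S] (r : Fin N → S),
      (∑ k, r k ⊗ₜ[A] m k) * (∑ k, r k ⊗ₜ[A] m k) - ∑ k, r k ⊗ₜ[A] m k =
        ∑ p, MvPolynomial.aeval r (Q p) ⊗ₜ[A] m p := by
    intro S _ _ r
    simp only [Q, map_sub, map_sum, map_mul, MvPolynomial.aeval_C, MvPolynomial.aeval_X, TensorProduct.sub_tmul,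
      Finset.sum_sub_distrib, TensorProduct.sum_tmul, ← Algebra.smul_def, smul_tmul]
    congr 1
    rw [Finset.sum_mul_sum, Finset.sum_comm (γ := Fin N) (α := Fin N)]
    conv_rhs => rw [Finset.sum_comm]
    refine Finset.sum_congr rfl fun k _ => ?_
    conv_rhs => rw [Finset.sum_comm]
    refine Finset.sum_congr rfl fun l _ => ?_
    rw [Algebra.TensorProduct.tmul_mul_tmul, ← TensorProduct.tmul_sum, hc (k, l), mul_comm (r l), mul_comm (m l)]
  have hzero : ∑ p, m p ⊗ₜ[A] MvPolynomial.aeval h (Q p) = (0 : T ⊗[A] Hull I) := by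
    have h1 := hQ (Hull I) h
    rw [hh, hE.eq, sub_self] at h1
    have := congrArg (TensorProduct.comm A (Hull I) T) h1
    simpa [map_sum] using this.symm
  obtain ⟨κ, a, y, hy, ha⟩ := TensorProduct.vanishesTrivially_of_sum_tmul_eq_zero (R := A) hm hzero
  let x : Fin N ⊕ Fin κ → Hull I := Sum.elim h y
  let P : Fin N → MvPolynomial (Fin N ⊕ Fin κ) A := fun p =>
    MvPolynomial.rename Sum.inl (Q p) - ∑ j, MvPolynomial.C (a p j) * MvPolynomial.X (.inr j)
  have hP : ∀ p, MvPolynomial.aeval x (P p) = 0 := fun p => by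
    simp only [P, map_sub, MvPolynomial.aeval_rename, map_sum, map_mul, MvPolynomial.aeval_C, MvPolynomial.aeval_X,
      x, Sum.elim_comp_inl, Sum.elim_inr, ← Algebra.smul_def, ← hy p, sub_self]
  obtain ⟨A', _, _, hA', r, σ, hr, hσ⟩ := Descend.exists_descend x P hP π
  let e := ∑ k, r (.inl k) ⊗ₜ[A] m k
  refine ⟨A', inferInstance, inferInstance, hA', e, ?_, ?_⟩
  · have h1 : ∀ p, MvPolynomial.aeval (fun k => r (.inl k)) (Q p) = ∑ j, a p j • r (.inr j) := fun p => by
      have := hr p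
      simp only [P, map_sub, MvPolynomial.aeval_rename, map_sum, map_mul, MvPolynomial.aeval_C,
        MvPolynomial.aeval_X, ← Algebra.smul_def, sub_eq_zero] at this
      exact this
    show e * e = e
    rw [← sub_eq_zero, hQ A' fun k => r (.inl k)]
    simp only [h1, TensorProduct.sum_tmul, smul_tmul]
    rw [Finset.sum_comm]
    refine Finset.sum_eq_zero fun j _ => ?_
    rw [← TensorProduct.tmul_sum, ha, TensorProduct.tmul_zero]
  · choose a₀ ha₀ using fun k => Ideal.Quotient.mk_surjective (σ (r (.inl k)))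
    let pr : Hull I ⊗[A] T →ₐ[A] (A ⧸ I) ⊗[A] T := Algebra.TensorProduct.map π (AlgHom.id A T)
    have hbot : I.map (algebraMap A ((A ⧸ I) ⊗[A] T)) = ⊥ := by
      rw [IsScalarTower.algebraMap_eq A (A ⧸ I), ← Ideal.map_map, Ideal.Quotient.algebraMap_eq,
        Ideal.map_quotient_self, Ideal.map_bot]
    have h1 := Henselization.map_mem pr hEJ
    rw [hbot, Ideal.mem_bot, map_sub, ← hh, map_sum, sub_eq_zero] at h1
    have h2 : (1 : A ⧸ I) ⊗ₜ[A] ((∑ k, a₀ k • m k) - b) = 0 := by
      rw [TensorProduct.tmul_sub, TensorProduct.tmul_sum, sub_eq_zero]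
      refine Eq.trans ?_ (h1.trans (by simp [pr]))
      refine Finset.sum_congr rfl fun k _ => ?_
      show _ = π (h k) ⊗ₜ[A] m k
      rw [← smul_tmul, ← Algebra.algebraMap_eq_smul_one, Ideal.Quotient.algebraMap_eq, ha₀, hσ]
      rfl
    have h3 : (∑ k, a₀ k • m k) - b ∈ (I • ⊤ : Submodule A T) := by
      have := congrArg (TensorProduct.quotTensorEquivQuotSMul T I) h2
      rwa [map_zero, ← map_one (Ideal.Quotient.mk I), TensorProduct.quotTensorEquivQuotSMul_mk_tmul, one_smul,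
        Submodule.Quotient.mk_eq_zero] at this
    rw [Ideal.smul_top_eq_map, Submodule.restrictScalars_mem] at h3
    have h4 : e - 1 ⊗ₜ b = (∑ k, (r (.inl k) - algebraMap A A' (a₀ k)) ⊗ₜ[A] m k) +
        (1 : A') ⊗ₜ[A] ((∑ k, a₀ k • m k) - b) := by
      simp only [TensorProduct.sub_tmul, Finset.sum_sub_distrib, TensorProduct.tmul_sub, TensorProduct.tmul_sum,
        Algebra.algebraMap_eq_smul_one, smul_tmul, e]
      abel
    rw [h4]
    refine add_mem (Submodule.sum_mem _ fun k _ => ?_)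
      (Henselization.map_mem (Algebra.TensorProduct.includeRight : T →ₐ[A] A' ⊗[A] T) h3)
    have h5 := Henselization.map_mem (Algebra.TensorProduct.includeLeft : A' →ₐ[A] A' ⊗[A] T)
      (Descend.mk_eq_of_value hA' σ (ha₀ k).symm)
    have := Ideal.mul_mem_right ((1 : A') ⊗ₜ[A] m k) _ h5
    rwa [Algebra.TensorProduct.includeLeft_apply, Algebra.TensorProduct.tmul_mul_tmul, mul_one, one_mul] at this

open TensorProduct in
/-- Let `I ⊆ A` be an ideal, `A → B` integral and `ē` an idempotent of `B/IB`. Then there is an étale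
`A`-algebra `A'` with `A/I → A'/IA'` bijective and an idempotent of `A' ⊗ B` whose class modulo `I`
agrees with that of any lift of `ē`. -/
theorem result {A B : Type u} [CommRing A] [CommRing B] [Algebra A B]
    [Algebra.IsIntegral A B] (I : Ideal A) (e : B ⧸ I.map (algebraMap A B)) (he : IsIdempotentElem e) :
    ∃ (A' : Type u) (_ : CommRing A') (_ : Algebra A A'), Algebra.Etale A A' ∧
      Function.Bijective (algebraMap (A ⧸ I) (A' ⧸ I.map (algebraMap A A'))) ∧
      ∃ e' : A' ⊗[A] B, IsIdempotentElem e' ∧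
        ∀ b : B, Ideal.Quotient.mk (I.map (algebraMap A B)) b = e →
          e' - 1 ⊗ₜ b ∈ I.map (algebraMap A (A' ⊗[A] B)) := by
  classical
  obtain ⟨b, hb⟩ := Ideal.Quotient.mk_surjective e
  have hbI : b * b - b ∈ (I • ⊤ : Submodule A B) := by
    rw [Ideal.smul_top_eq_map, Submodule.restrictScalars_mem, ← Ideal.Quotient.eq, map_mul, hb]
    exact he
  obtain ⟨T, hTfg, hbT, hidem⟩ := exists_finite_subalgebra I b hbI
  haveI : Module.Finite A T := Module.Finite.iff_fg.mpr hTfg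
  obtain ⟨A', _, _, hA', x, hx, hxI⟩ := exists_idem_finite I (⟨b, hbT⟩ : T) hidem
  let j : A' ⊗[A] T →ₐ[A] A' ⊗[A] B := Algebra.TensorProduct.map (AlgHom.id A A') T.val
  have hj : ∀ z ∈ I.map (algebraMap A (A' ⊗[A] T)), j z ∈ I.map (algebraMap A (A' ⊗[A] B)) := fun z hz =>
    HensPair.Henselization.map_mem j hz
  refine ⟨A', inferInstance, inferInstance, hA'.etale, HensPair.Descend.bijective_algebraMap hA', j x, hx.map j,
    fun b' hb' => ?_⟩
  have h1 := hj _ hxI
  rw [map_sub, show j ((1 : A') ⊗ₜ (⟨b, hbT⟩ : T)) = 1 ⊗ₜ b from rfl] at h1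
  have h2 : (1 : A') ⊗ₜ[A] (b - b') ∈ I.map (algebraMap A (A' ⊗[A] B)) :=
    HensPair.Henselization.map_mem (Algebra.TensorProduct.includeRight : B →ₐ[A] A' ⊗[A] B)
      (Ideal.Quotient.eq.mp (hb.trans hb'.symm))
  have := add_mem h1 h2
  rwa [TensorProduct.tmul_sub, sub_add_sub_cancel] at this

end Groth.Agent.S2041
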