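import Groth.Statements.S2043
import Groth.Agent.HensPair.Descend
import Groth.Agent.HensPair.SmoothLift

set_option autoImplicit false
universe u
open CAlg

namespace Groth.Agent.S2043

/-- Let `I ⊆ A` be an ideal, `B` a smooth `A`-algebra and `B → A/I` an `A`-algebra map. Then there is an
étale `A`-algebra `A'` with `A/I → A'/IA'` bijective and an `A`-algebra map `B → A'` lifting the
given map. -/
theorem result {A B : Type u} [CommRing A] [CommRing B] [Algebra A B]
    [Algebra.Smooth A B] (I : Ideal A) (σ : B →ₐ[A] A ⧸ I) :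
    ∃ (A' : Type u) (_ : CommRing A') (_ : Algebra A A'), Algebra.Etale A A' ∧
      Function.Bijective (algebraMap (A ⧸ I) (A' ⧸ I.map (algebraMap A A'))) ∧
      ∃ τ : B →ₐ[A] A', ∀ b : B,
        Ideal.Quotient.mk (I.map (algebraMap A A')) (τ b) =
          algebraMap (A ⧸ I) (A' ⧸ I.map (algebraMap A A')) (σ b) := by
  classical
  obtain ⟨π⟩ := HensPair.Henselization.exists_proj (I := I)
  let J := I.map (algebraMap A (HensPair.Construction.Hull I))
  let q : A ⧸ I →ₐ[A] HensPair.Construction.Hull I ⧸ J := Ideal.Quotient.liftₐ I (Algebra.ofId A _) fun i hi =>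
    Ideal.Quotient.eq_zero_iff_mem.mpr (Ideal.mem_map_of_mem _ hi)
  obtain ⟨τ, hτ⟩ := HensPair.SmoothLift.exists_lift (I := J) (q.comp σ)
  let πb : HensPair.Construction.Hull I ⧸ J →ₐ[A] A ⧸ I :=
    Ideal.Quotient.liftₐ J π fun x hx => HensPair.Henselization.section_eq_zero π hx
  have hπτ : ∀ b, π (τ b) = σ b := fun b => by
    have h := congrArg πb (DFunLike.congr_fun hτ b)
    refine h.trans ?_
    obtain ⟨a, ha⟩ := Ideal.Quotient.mk_surjective (σ b)
    show πb (q (σ b)) = σ b
    rw [← ha]
    exact π.commutes a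
  obtain ⟨n, p, hp, hker⟩ := (inferInstance : Algebra.FinitePresentation A B).out
  obtain ⟨s, hs⟩ := hker
  obtain ⟨A', _, _, hA', r, σ', hr, hσ'⟩ := HensPair.Descend.exists_descend (fun i => τ (p (MvPolynomial.X i)))
    (fun k : (s : Set (MvPolynomial (Fin n) A)) => (k : MvPolynomial (Fin n) A)) (fun k => by
      have hcomp : MvPolynomial.aeval (fun i => τ (p (MvPolynomial.X i))) = τ.comp p :=
        MvPolynomial.algHom_ext fun i => by simp only [MvPolynomial.aeval_X, AlgHom.comp_apply]
      rw [hcomp]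
      have hk : (k : MvPolynomial (Fin n) A) ∈ RingHom.ker p.toRingHom := hs ▸ Submodule.subset_span k.2
      show τ (p k) = 0
      rw [show p (k : MvPolynomial (Fin n) A) = 0 from hk, map_zero]) π
  have hle : RingHom.ker p.toRingHom ≤ RingHom.ker (MvPolynomial.aeval (R := A) r).toRingHom := by
    rw [← hs]
    exact Submodule.span_le.mpr fun k hk => hr ⟨k, hk⟩
  let pe := Ideal.quotientKerAlgEquivOfSurjective (f := p) hp
  let L := Ideal.Quotient.liftₐ (R₁ := A) (RingHom.ker p.toRingHom) (MvPolynomial.aeval (R := A) r) fun z hz => hle hz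
  let τ' : B →ₐ[A] A' := L.comp pe.symm.toAlgHom
  have hτ' : ∀ z, τ' (p z) = MvPolynomial.aeval r z := fun z => by
    show L (pe.symm (p z)) = _
    rw [show pe.symm (p z) = Ideal.Quotient.mk _ z from pe.symm_apply_eq.mpr rfl]
    rfl
  refine ⟨A', inferInstance, inferInstance, hA'.etale, HensPair.Descend.bijective_algebraMap hA', τ', fun b => ?_⟩
  rw [HensPair.Descend.mk_eq_algebraMap hA' σ']
  congr 1
  obtain ⟨z, rfl⟩ := hp b
  have key : σ'.comp (MvPolynomial.aeval r) = σ.comp p := MvPolynomial.algHom_ext fun i => by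
    rw [AlgHom.comp_apply, MvPolynomial.aeval_X, AlgHom.comp_apply, hσ', hπτ]
  rw [hτ']
  exact DFunLike.congr_fun key z

end Groth.Agent.S2043
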