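import Groth.Statements.S2044
import Groth.Agent.HensPair.Descend
import Groth.Agent.HensPair.Projective
import Mathlib.LinearAlgebra.Matrix.ToLin
import Mathlib.LinearAlgebra.TensorProduct.Tower

set_option autoImplicit false
universe u
open CAlg

namespace Groth.Agent.S2044


open TensorProduct Groth.Agent.HensPair

open HensPair.Construction in
theorem exists_idem_matrix {A : Type u} [CommRing A] (I : Ideal A) {n : ℕ} (eb : Matrix (Fin n) (Fin n) (A ⧸ I))
    (heb : eb * eb = eb) :
    ∃ (A' : Type u) (_ : CommRing A') (_ : Algebra A A') (_ : Nbhd.IsNbhd I A') (E : Matrix (Fin n) (Fin n) A'),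
      E * E = E ∧ ∀ j k, Ideal.Quotient.mk (I.map (algebraMap A A')) (E j k) =
        algebraMap (A ⧸ I) (A' ⧸ I.map (algebraMap A A')) (eb j k) := by
  classical
  obtain ⟨π⟩ := Henselization.exists_proj (I := I)
  let J := I.map (algebraMap A (Hull I))
  choose a ha using fun j k => Ideal.Quotient.mk_surjective (eb j k)
  let C : Matrix (Fin n) (Fin n) (Hull I) := Matrix.of fun j k => algebraMap A (Hull I) (a j k)
  have hC : ∀ j k, (C * C - C) j k ∈ J := fun j k => by
    have h : (∑ l, a j l * a l k) - a j k ∈ I := by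
      rw [← Ideal.Quotient.eq, map_sum]
      simp only [map_mul, ha]
      rw [← Matrix.mul_apply, heb]
    have := Ideal.mem_map_of_mem (algebraMap A (Hull I)) h
    simpa [C, Matrix.mul_apply, J] using this
  have hcoord : ∀ x : Fin n → Hull I, x ∈ J • (⊤ : Submodule (Hull I) (Fin n → Hull I)) → ∀ k, x k ∈ J :=
    fun x hx k => by
      refine Submodule.smul_induction_on hx (fun r hr y _ => Ideal.mul_mem_right _ _ hr) fun a b ha hb => ?_
      exact add_mem ha hb
  obtain ⟨e, he, heM⟩ := Projective.exists_idempotent_end (I := J) (Matrix.toLin' C) fun x => by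
    rw [← LinearMap.comp_apply, ← Matrix.toLin'_mul, ← LinearMap.sub_apply, ← map_sub, pi_eq_sum_univ' (Matrix.toLin' (C * C - C) x)]
    refine Submodule.sum_mem _ fun j _ => Submodule.smul_mem_smul ?_ Submodule.mem_top
    rw [Matrix.toLin'_apply, Matrix.mulVec, dotProduct]
    exact Ideal.sum_mem _ fun l _ => Ideal.mul_mem_right _ _ (hC j l)
  let E := LinearMap.toMatrix' e
  have hE : E * E = E := by
    rw [← LinearMap.toMatrix'_comp]; exact congrArg _ (LinearMap.ext he)
  have hπE : ∀ j k, π (E j k) = eb j k := fun j k => by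
    refine (Descend.proj_eq (a := a j k) ?_).trans (ha j k)
    have := hcoord _ (heM (Pi.single k 1)) j
    simpa [E, LinearMap.toMatrix'_apply, Matrix.toLin'_apply, C, Pi.single_apply] using this
  let P : Fin n × Fin n → MvPolynomial (Fin n × Fin n) A := fun p =>
    (∑ l, MvPolynomial.X (p.1, l) * MvPolynomial.X (l, p.2)) - MvPolynomial.X p
  obtain ⟨A', _, _, hA', r, σ, hr, hσ⟩ := Descend.exists_descend (fun p : Fin n × Fin n => E p.1 p.2) P (fun p => by
    simp only [P, map_sub, map_sum, map_mul, MvPolynomial.aeval_X, ← Matrix.mul_apply, hE, sub_self]) π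
  refine ⟨A', inferInstance, inferInstance, hA', Matrix.of fun j k => r (j, k), ?_, fun j k => ?_⟩
  · ext j k
    have := hr (j, k)
    simp only [P, map_sub, map_sum, map_mul, MvPolynomial.aeval_X, sub_eq_zero] at this
    simpa [Matrix.mul_apply] using this
  · rw [Matrix.of_apply, Descend.mk_eq_algebraMap hA' σ, hσ, hπE]

open TensorProduct in
/-- Let `I ⊆ A` be an ideal and `P` a finite projective `A/I`-module. Then there is an étale `A`-algebra
`A'` with `A/I → A'/IA'` bijective and a finite projective `A'`-module whose reduction modulo `IA'`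
is the base change of `P`. -/
theorem result {A : Type u} [CommRing A] (I : Ideal A) (P : Type u)
    [AddCommGroup P] [Module (A ⧸ I) P] [Module.Finite (A ⧸ I) P] [Module.Projective (A ⧸ I) P] :
    ∃ (A' : Type u) (_ : CommRing A') (_ : Algebra A A'), Algebra.Etale A A' ∧
      Function.Bijective (algebraMap (A ⧸ I) (A' ⧸ I.map (algebraMap A A'))) ∧
      ∃ (P' : Type u) (_ : AddCommGroup P') (_ : Module A' P'), Module.Finite A' P' ∧
        Module.Projective A' P' ∧
        Nonempty (((A' ⧸ I.map (algebraMap A A')) ⊗[A'] P') ≃ₗ[A' ⧸ I.map (algebraMap A A')]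
          ((A' ⧸ I.map (algebraMap A A')) ⊗[A ⧸ I] P)) := by
  classical
  obtain ⟨n, p, i, _, _, hpi⟩ := Module.Finite.exists_comp_eq_id_of_projective (A ⧸ I) P
  let eb : Matrix (Fin n) (Fin n) (A ⧸ I) := LinearMap.toMatrix' (i ∘ₗ p)
  obtain ⟨A', _, _, hA', E, hE, hEI⟩ := exists_idem_matrix I eb (by
    rw [← LinearMap.toMatrix'_comp, LinearMap.comp_assoc, ← LinearMap.comp_assoc p i p, hpi, LinearMap.id_comp])
  let T := A' ⧸ I.map (algebraMap A A')
  let e : (Fin n → A') →ₗ[A'] (Fin n → A') := Matrix.toLin' E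
  have he : ∀ v, e (e v) = e v := fun v => by
    rw [← LinearMap.comp_apply]
    show (Matrix.toLin' E ∘ₗ Matrix.toLin' E) v = _
    rw [← Matrix.toLin'_mul, hE]
  let P' := LinearMap.range e
  refine ⟨A', inferInstance, inferInstance, hA'.etale, HensPair.Descend.bijective_algebraMap hA', P', inferInstance,
    inferInstance, Module.Finite.of_surjective e.rangeRestrict e.surjective_rangeRestrict,
    Module.Projective.of_split P'.subtype e.rangeRestrict (LinearMap.ext fun ⟨x, y, hy⟩ =>
      Subtype.ext (by show e x = x; rw [← hy, he])), ?_⟩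
  let uP : Fin n → T ⊗[A ⧸ I] P := fun k => 1 ⊗ₜ p (Pi.single k 1)
  let uP' : Fin n → T ⊗[A'] P' := fun k => 1 ⊗ₜ e.rangeRestrict (Pi.single k 1)
  let ψ : P' →ₗ[A'] T ⊗[A ⧸ I] P := ((Fintype.linearCombination T uP).restrictScalars A') ∘ₗ
    (LinearMap.pi fun k => (Algebra.linearMap A' T) ∘ₗ LinearMap.proj k) ∘ₗ P'.subtype
  let θ : P →ₗ[A ⧸ I] T ⊗[A'] P' := ((Fintype.linearCombination T uP').restrictScalars (A ⧸ I)) ∘ₗ
    (LinearMap.pi fun k => (Algebra.linearMap (A ⧸ I) T) ∘ₗ LinearMap.proj k) ∘ₗ i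
  let F := ψ.liftBaseChange T
  let G := θ.liftBaseChange T
  have hψ : ∀ v : P', ψ v = ∑ k, algebraMap A' T ((v : Fin n → A') k) • uP k := fun v => by
    simp [ψ, Fintype.linearCombination_apply]
  have hθ : ∀ x, θ x = ∑ k, algebraMap (A ⧸ I) T (i x k) • uP' k := fun x => by
    simp [θ, Fintype.linearCombination_apply]
  have hcol : ∀ k j, ((e.rangeRestrict (Pi.single k 1) : P') : Fin n → A') j = E j k := fun k j => by
    simp [e, Matrix.toLin'_apply]
  have hcolp : ∀ k j, i (p (Pi.single k 1)) j = eb j k := fun k j => by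
    simp [eb, LinearMap.toMatrix'_apply, Pi.single_apply]
  have hEI' : ∀ j k, algebraMap A' T (E j k) = algebraMap (A ⧸ I) T (eb j k) := hEI
  have hFG : ∀ x, F (θ x) = 1 ⊗ₜ x := fun x => by
    have h1 : ∀ k, F (uP' k) = ∑ j, algebraMap (A ⧸ I) T (eb j k) • uP j := fun k => by
      show ψ.liftBaseChange T (1 ⊗ₜ e.rangeRestrict (Pi.single k 1)) = _
      rw [LinearMap.liftBaseChange_tmul, one_smul, hψ]
      simp only [hcol, hEI']
    have h2 : ∀ j, i x j = ∑ k, i x k * eb j k := fun j => by
      have h3 : i x = i (p (i x)) := by rw [← LinearMap.comp_apply p i, hpi, LinearMap.id_apply]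
      conv_lhs => rw [h3, pi_eq_sum_univ' (i x), map_sum, map_sum, Finset.sum_apply]
      simp only [map_smul, Pi.smul_apply, hcolp, smul_eq_mul]
    rw [hθ, map_sum]
    simp only [map_smul, h1, Finset.smul_sum, ← mul_smul, ← map_mul]
    rw [Finset.sum_comm]
    simp only [← Finset.sum_smul, ← map_sum, ← h2]
    rw [show x = p (i x) from (LinearMap.congr_fun hpi x).symm]
    conv_rhs => rw [pi_eq_sum_univ' (i x), map_sum, TensorProduct.tmul_sum]
    refine Finset.sum_congr rfl fun k _ => ?_
    rw [map_smul, TensorProduct.tmul_smul, ← IsScalarTower.algebraMap_smul T (i x k)]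
    congr 2
    rw [← LinearMap.comp_apply p i, hpi, LinearMap.id_apply]
  have hGF : ∀ v : P', G (ψ v) = 1 ⊗ₜ v := fun v => by
    have h1 : ∀ k, G (uP k) = ∑ j, algebraMap A' T (E j k) • uP' j := fun k => by
      show θ.liftBaseChange T (1 ⊗ₜ p (Pi.single k 1)) = _
      rw [LinearMap.liftBaseChange_tmul, one_smul, hθ]
      simp only [hcolp, hEI']
    have hv : e (v : Fin n → A') = v := by obtain ⟨_, y, rfl⟩ := v; exact he y
    have h2 : ∀ j, (v : Fin n → A') j = ∑ k, (v : Fin n → A') k * E j k := fun j => by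
      conv_lhs => rw [← hv]
      simp [e, Matrix.toLin'_apply, Matrix.mulVec, dotProduct, mul_comm]
    rw [hψ, map_sum]
    simp only [map_smul, h1, Finset.smul_sum, ← mul_smul, ← map_mul]
    rw [Finset.sum_comm]
    simp only [← Finset.sum_smul, ← map_sum, ← h2]
    conv_rhs => rw [show v = e.rangeRestrict (v : Fin n → A') from Subtype.ext hv.symm,
      pi_eq_sum_univ' (v : Fin n → A'), map_sum, TensorProduct.tmul_sum]
    refine Finset.sum_congr rfl fun k _ => ?_
    rw [map_smul, TensorProduct.tmul_smul, IsScalarTower.algebraMap_smul]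
  refine ⟨LinearEquiv.ofLinearMap F G ?_ ?_⟩
  · refine AlgebraTensorModule.ext fun c x => ?_
    have h1 : G (c ⊗ₜ x) = c • θ x := LinearMap.liftBaseChange_tmul T θ c x
    rw [LinearMap.comp_apply, h1, map_smul, hFG, LinearMap.id_apply, TensorProduct.smul_tmul', smul_eq_mul, mul_one]
  · refine AlgebraTensorModule.ext fun c x => ?_
    have h1 : F (c ⊗ₜ x) = c • ψ x := LinearMap.liftBaseChange_tmul T ψ c x
    rw [LinearMap.comp_apply, h1, map_smul, hGF, LinearMap.id_apply, TensorProduct.smul_tmul', smul_eq_mul, mul_one]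

end Groth.Agent.S2044
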