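import Groth.Statements.S2090
import Groth.Agent.IdealDepth.Localization

set_option autoImplicit false
universe u
open CAlg

namespace Groth.Agent.S2090

open scoped Pointwise

/-- Let `R` be Noetherian and `φ : M → N` a map of `R`-modules with `M` finite. Suppose that for every
prime `𝔭` either `φ_𝔭` is bijective, or `M_𝔭` has depth at least two and `𝔭` is not an associated
prime of `N`. Then `φ` is bijective. -/
theorem result {R M N : Type u} [CommRing R] [IsNoetherianRing R] [AddCommGroup M]
    [Module R M] [Module.Finite R M] [AddCommGroup N] [Module R N] (φ : M →ₗ[R] N)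
    (h : ∀ (p : Ideal R) [p.IsPrime],
      Function.Bijective (LocalizedModule.map p.primeCompl φ) ∨
        (2 ≤ LocCoh.depth (Localization.AtPrime p) (LocalizedModule p.primeCompl M) ∧
          p ∉ associatedPrimes R N)) :
    Function.Bijective φ := by
  have hinj : Function.Injective φ := by
    rw [← LinearMap.ker_eq_bot]
    by_contra hne
    haveI : Nontrivial (LinearMap.ker φ) := Submodule.nontrivial_iff_ne_bot.2 hne
    obtain ⟨p, hp⟩ := associatedPrimes.nonempty R (LinearMap.ker φ)
    haveI := hp.isPrime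
    have hpM : p ∈ associatedPrimes R M := hp.map_of_injective (LinearMap.ker φ).subtype Subtype.val_injective
    rcases h p with hb | ⟨h2, -⟩
    · obtain ⟨-, z, hz⟩ := isAssociatedPrime_iff.1 hp
      have h0 : LocalizedModule.map p.primeCompl φ (LocalizedModule.mk z.1 1) = LocalizedModule.map p.primeCompl φ 0 := by
        rw [LocalizedModule.map_mk, LinearMap.mem_ker.1 z.2, map_zero, LocalizedModule.zero_mk]
      obtain ⟨s, hs⟩ := LocalizedModule.mk_eq.1 ((hb.1 h0).trans (LocalizedModule.zero_mk 1).symm)
      refine s.2 ((SetLike.ext_iff.1 hz _).2 ?_)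
      rw [Submodule.mem_colon_singleton, Submodule.mem_bot]
      exact Subtype.ext (by simpa [Submonoid.smul_def] using hs)
    · have h0 : LocCoh.depth (Localization.AtPrime p) (LocalizedModule p.primeCompl M) = 0 :=
        IdealDepth.eq_zero_iff.2
          ⟨_, Module.associatedPrimes.mem_associatedPrimes_atPrime_of_mem_associatedPrimes hpM, le_rfl⟩
      rw [h0] at h2
      exact absurd h2 (by norm_num)
  refine ⟨hinj, LinearMap.range_eq_top.1 (by_contra fun hne => ?_)⟩
  haveI : Nontrivial (N ⧸ LinearMap.range φ) := Submodule.Quotient.nontrivial_iff.2 hne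
  obtain ⟨p, hp⟩ := associatedPrimes.nonempty R (N ⧸ LinearMap.range φ)
  haveI := hp.isPrime
  obtain ⟨-, q, hq⟩ := isAssociatedPrime_iff.1 hp
  obtain ⟨n, rfl⟩ := Submodule.Quotient.mk_surjective _ q
  have hmem : ∀ a, a ∈ p ↔ a • n ∈ LinearMap.range φ := fun a => by
    rw [hq, Submodule.mem_colon_singleton, Submodule.mem_bot, ← Submodule.Quotient.mk_smul,
      Submodule.Quotient.mk_eq_zero]
  let Rp := Localization.AtPrime p
  let φ' : LocalizedModule p.primeCompl M →ₗ[Rp] LocalizedModule p.primeCompl N := LocalizedModule.map p.primeCompl φ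
  have hφ' : Function.Injective φ' := LocalizedModule.map_injective p.primeCompl φ hinj
  let n' : LocalizedModule p.primeCompl N := LocalizedModule.mk n 1
  have hno : n' ∉ LinearMap.range φ' := by
    rintro ⟨b, hb⟩
    induction b using LocalizedModule.induction_on with
    | _ m s =>
      change LocalizedModule.map p.primeCompl φ (LocalizedModule.mk m s) = LocalizedModule.mk n 1 at hb
      rw [LocalizedModule.map_mk] at hb
      obtain ⟨t, ht⟩ := LocalizedModule.mk_eq.1 hb
      refine (t * s).2 ((hmem _).2 ⟨(t : R) • m, ?_⟩)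
      rw [map_smul, Submonoid.coe_mul, mul_smul]
      simpa [Submonoid.smul_def] using ht
  rcases h p with hb | ⟨h2, hN⟩
  · exact hno (hb.2 n')
  have hmax : ∀ z ∈ IsLocalRing.maximalIdeal Rp, z • n' ∈ LinearMap.range φ' := by
    intro z hz
    obtain ⟨a, s, rfl⟩ := IsLocalization.exists_mk'_eq p.primeCompl z
    obtain ⟨b, hb⟩ := (hmem a).1 ((IsLocalization.AtPrime.mk'_mem_maximal_iff Rp p a s).1 hz)
    refine ⟨LocalizedModule.mk b s, ?_⟩
    change LocalizedModule.map p.primeCompl φ (LocalizedModule.mk b s) = _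
    rw [LocalizedModule.map_mk, hb]
    exact (by rw [← Localization.mk_eq_mk', LocalizedModule.mk_smul_mk, mul_one] : IsLocalization.mk' Rp a s • n' = LocalizedModule.mk (a • n) s).symm
  obtain ⟨rs, ⟨hw, hrs⟩, hlen⟩ := (IdealDepth.natCast_le_iff_exists (n := 2)).1 (by exact_mod_cast h2)
  obtain ⟨x, y, rfl⟩ := List.length_eq_two.1 hlen
  rw [RingTheory.Sequence.isWeaklyRegular_cons_iff, RingTheory.Sequence.isWeaklyRegular_singleton_iff] at hw
  obtain ⟨hx, hy⟩ := hw
  obtain ⟨a, ha⟩ := hmax x (hrs x (by simp))
  obtain ⟨b, hb⟩ := hmax y (hrs y (by simp))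
  have hab : y • a = x • b := hφ' (by rw [map_smul, map_smul, ha, hb, smul_comm])
  obtain ⟨c, -, hc⟩ : a ∈ x • (⊤ : Submodule Rp (LocalizedModule p.primeCompl M)) := by
    rw [← Submodule.Quotient.mk_eq_zero]
    refine hy (show y • Submodule.Quotient.mk a = y • (0 : QuotSMulTop x (LocalizedModule p.primeCompl M)) from ?_)
    rw [smul_zero, ← Submodule.Quotient.mk_smul, hab, Submodule.Quotient.mk_eq_zero]
    exact Submodule.smul_mem_pointwise_smul _ _ _ trivial
  change x • c = a at hc
  have hx0 : x • (n' - φ' c) = 0 := by rw [smul_sub, ← map_smul, hc, ha, sub_self]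
  have hkill : ∀ z ∈ IsLocalRing.maximalIdeal Rp, z • (n' - φ' c) = 0 := by
    intro z hz
    obtain ⟨d, hd⟩ := hmax z hz
    have h1 : z • (n' - φ' c) = φ' (d - z • c) := by rw [smul_sub, map_sub, map_smul, hd]
    have h2 : x • (d - z • c) = x • (0 : LocalizedModule p.primeCompl M) := hφ' (by
      rw [map_smul, ← h1, smul_comm, hx0, smul_zero, smul_zero, map_zero])
    rw [h1, hx h2, map_zero]
  have h0 : n' - φ' c = 0 := by
    by_contra h0
    refine hN ?_
    have hass : IsLocalRing.maximalIdeal Rp ∈ associatedPrimes Rp (LocalizedModule p.primeCompl N) := by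
      refine isAssociatedPrime_iff.2 ⟨inferInstance, n' - φ' c, le_antisymm (fun z hz => ?_) ?_⟩
      · rw [Submodule.mem_colon_singleton, Submodule.mem_bot]
        exact hkill z hz
      · refine IsLocalRing.le_maximalIdeal fun htop => h0 ?_
        have := (Ideal.eq_top_iff_one _).1 htop
        rwa [Submodule.mem_colon_singleton, Submodule.mem_bot, one_smul] at this
    have := Module.associatedPrimes.comap_mem_associatedPrimes_of_mem_associatedPrimes_of_isLocalizedModule_of_fg
      p.primeCompl (LocalizedModule.mkLinearMap p.primeCompl N) _ hass (IsNoetherian.noetherian _)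
    rwa [show (IsLocalRing.maximalIdeal Rp).comap (algebraMap R Rp) = p from Localization.AtPrime.under_maximalIdeal] at this
  exact hno ⟨c, (sub_eq_zero.1 h0).symm⟩

end Groth.Agent.S2090
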