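import Groth.Statements.S2054
import Groth.Agent.S0601
import Groth.Agent.S18702
import Groth.Agent.S2090
import Groth.Agent.S0605
import Mathlib.RingTheory.Localization.Integer
import Mathlib.RingTheory.LocalProperties.IntegrallyClosed

set_option autoImplicit false
universe u
open CAlg

namespace Groth.Agent.S2054

theorem supportDim_eq {R M : Type u} [CommRing R] [IsNoetherianRing R] [IsDomain R] [AddCommGroup M] [Module R M]
    [Module.Finite R M] (htf : NoZeroSMulDivisors R M) (p : Ideal R) [p.IsPrime]
    [Nontrivial (LocalizedModule p.primeCompl M)] :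
    Module.supportDim (Localization.AtPrime p) (LocalizedModule p.primeCompl M) = ((p.height : ℕ∞) : WithBot ℕ∞) := by
  have hann : Module.annihilator (Localization.AtPrime p) (LocalizedModule p.primeCompl M) = ⊥ := by
    rw [eq_bot_iff]
    intro z hz
    obtain ⟨a, s, rfl⟩ := IsLocalization.exists_mk'_eq p.primeCompl z
    obtain ⟨x, hx⟩ := exists_ne (0 : LocalizedModule p.primeCompl M)
    induction x using LocalizedModule.induction_on with
    | _ m t =>
      have h1 := Module.mem_annihilator.1 hz (LocalizedModule.mk m t)
      rw [← Localization.mk_eq_mk', LocalizedModule.mk_smul_mk] at h1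
      obtain ⟨u, hu⟩ := LocalizedModule.mk_eq.1 (h1.trans (LocalizedModule.zero_mk 1).symm)
      simp only [one_smul, smul_zero, Submonoid.smul_def] at hu
      rw [smul_eq_zero, smul_eq_zero] at hu
      rcases hu with hu | ha | hm
      · exact absurd (hu ▸ zero_mem p) u.2
      · rw [ha, IsLocalization.mk'_zero]; exact Submodule.zero_mem _
      · exact absurd (by rw [hm, LocalizedModule.zero_mk]) hx
  rw [Module.supportDim_eq_ringKrullDim_quotient_annihilator, hann,
    ringKrullDim_eq_of_ringEquiv (RingEquiv.quotientBot _), IsLocalization.AtPrime.ringKrullDim_eq_height p]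

theorem local_basis {R M : Type u} [CommRing R] [IsNoetherianRing R] [IsDomain R] [AddCommGroup M] [Module R M]
    [Module.Finite R M] (htf : NoZeroSMulDivisors R M) (hR1 : LocCoh.HasRk 1 R) (hS2 : LocCoh.HasSk 2 R M)
    (p : Ideal R) [p.IsPrime] (hp : p.height ≤ 1) : ∃ (n : ℕ) (s : p.primeCompl) (g : Fin n → M)
      (f : Fin n → Module.Dual R M), ∀ m, (s : R) • m = ∑ i, f i m • g i := by
  classical
  haveI := hR1 p hp
  have hfree : Module.Free (Localization.AtPrime p) (LocalizedModule p.primeCompl M) := by
    cases subsingleton_or_nontrivial (LocalizedModule p.primeCompl M) with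
    | inl h => exact Module.Free.of_subsingleton _ _
    | inr h =>
      refine S0605.result _ _ (le_antisymm ?_ ?_)
      · exact IdealDepth.depth_le_supportDim.trans (Module.supportDim_le_ringKrullDim _ _)
      · have h3 := hS2 p
        rw [supportDim_eq htf p, show ((2 : ℕ) : WithBot ℕ∞) = ((2 : ℕ∞) : WithBot ℕ∞) from rfl,
          ← WithBot.coe_min, min_eq_right (hp.trans one_le_two)] at h3
        rwa [IsLocalization.AtPrime.ringKrullDim_eq_height p]
  haveI : Module.Finite (Localization.AtPrime p) (LocalizedModule p.primeCompl M) := inferInstance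
  let b0 := Module.Free.chooseBasis (Localization.AtPrime p) (LocalizedModule p.primeCompl M)
  let b := b0.reindex (Fintype.equivFin _)
  let j : M →ₗ[R] LocalizedModule p.primeCompl M := LocalizedModule.mkLinearMap p.primeCompl M
  choose g hg using fun i => IsLocalizedModule.surj p.primeCompl j (b i)
  let c : Fin _ → M →ₗ[R] Localization.AtPrime p := fun i => ((b.coord i).restrictScalars R) ∘ₗ j
  obtain ⟨S, hS⟩ := (inferInstance : Module.Finite R M).fg_top
  obtain ⟨u, hu⟩ := IsLocalization.exist_integer_multiples p.primeCompl (Finset.univ ×ˢ S) fun x => c x.1 x.2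
  have hint : ∀ i m, ∃ r : R, algebraMap R (Localization.AtPrime p) r = (u : R) • c i m := by
    intro i m
    have hm : m ∈ Submodule.span R (S : Set M) := hS ▸ trivial
    induction hm using Submodule.span_induction with
    | mem x hx =>
      obtain ⟨r, hr⟩ := hu (i, x) (Finset.mem_product.2 ⟨Finset.mem_univ _, hx⟩)
      exact ⟨r, hr⟩
    | zero => exact ⟨0, by simp⟩
    | add x y _ _ hx hy =>
      obtain ⟨r, hr⟩ := hx; obtain ⟨r', hr'⟩ := hy
      exact ⟨r + r', by rw [map_add, hr, hr', map_add, smul_add]⟩
    | smul a x _ hx =>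
      obtain ⟨r, hr⟩ := hx
      exact ⟨a * r, by rw [map_smul, smul_comm, ← hr, map_mul, Algebra.smul_def]⟩
  choose f hf using hint
  have hA : Function.Injective (algebraMap R (Localization.AtPrime p)) :=
    IsLocalization.injective _ p.primeCompl_le_nonZeroDivisors
  let F : Fin _ → Module.Dual R M := fun i =>
    { toFun := f i
      map_add' := fun x y => hA (by rw [map_add, hf, hf, hf, map_add, smul_add])
      map_smul' := fun a x => hA (by rw [RingHom.id_apply, smul_eq_mul, map_mul, hf, hf, map_smul, smul_comm, Algebra.smul_def]) }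
  refine ⟨_, u * ∏ i, (g i).2, fun i => (∏ k ∈ Finset.univ.erase i, ((g k).2 : R)) • (g i).1, F, fun m => ?_⟩
  have hj : Function.Injective j := fun x y hxy => by
    obtain ⟨t, ht⟩ := LocalizedModule.mk_eq.1 hxy
    simp only [one_smul, Submonoid.smul_def] at ht
    exact smul_right_injective M (fun h => t.2 (by rw [h]; exact zero_mem _)) ht
  refine hj ?_
  rw [map_smul, map_sum]
  conv_lhs => rw [← b.sum_repr (j m), Finset.smul_sum]
  refine Finset.sum_congr rfl fun i _ => ?_
  change _ = j (f i m • _)
  rw [map_smul, map_smul, ← hg i, Submonoid.smul_def, ← mul_smul _ _ (b i),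
    Finset.prod_erase_mul _ _ (Finset.mem_univ i), ← algebraMap_smul (Localization.AtPrime p) (f i m), hf,
    smul_assoc (u : R) (c i m), smul_comm (c i m), ← mul_smul, Submonoid.coe_mul, SubmonoidClass.coe_finsetProd]
  rfl

/-- Let `R` be a Noetherian normal domain and `M` a finite `R`-module. Then `M` is reflexive (the map to
its double dual is bijective) if and only if `M` is torsion free and satisfies Serre's condition
`(S_2)`. -/
theorem result {R M : Type u} [CommRing R] [IsDomain R] [IsNoetherianRing R]
    [IsIntegrallyClosed R] [AddCommGroup M] [Module R M] [Module.Finite R M] :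
    Module.IsReflexive R M ↔ NoZeroSMulDivisors R M ∧ LocCoh.HasSk 2 R M := by
  have hloc : ∀ (p : Ideal R) [p.IsPrime], IsDomain (Localization.AtPrime p) ∧
      IsIntegrallyClosed (Localization.AtPrime p) := fun p _ =>
    ⟨inferInstance, isIntegrallyClosed_of_isLocalization _ p.primeCompl p.primeCompl_le_nonZeroDivisors⟩
  obtain ⟨hR1, hR2⟩ := (S0601.result R).1 hloc
  constructor
  · intro h
    exact ⟨⟨fun {c x} hcx => or_iff_not_imp_left.2 fun hc => (Module.evalEquiv R M).injective (by
        rw [map_zero]
        refine LinearMap.ext fun φ => ?_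
        have h1 : c * φ x = 0 := by rw [← smul_eq_mul, ← map_smul, hcx, map_zero]
        simpa using (mul_eq_zero.1 h1).resolve_left hc)⟩,
      (S18702.result R ⊥ M).2.2.2 hR2⟩
  · rintro ⟨htf, hS2⟩
    have key : ∀ (p : Ideal R) [p.IsPrime], p.height ≤ 1 → ∃ (n : ℕ) (s : p.primeCompl) (g : Fin n → M)
        (f : Fin n → Module.Dual R M), ∀ m, (s : R) • m = ∑ i, f i m • g i := fun p _ hp => local_basis htf hR1 hS2 p hp
    have hinj : Function.Injective (Module.Dual.eval R M) := by
      refine (injective_iff_map_eq_zero _).2 fun m hm => ?_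
      obtain ⟨n, s, g, f, hs⟩ := key (⊥ : Ideal R) (by rw [Ideal.height_bot]; exact zero_le)
      have h0 : (s : R) • m = 0 := by
        rw [hs]
        exact Finset.sum_eq_zero fun i _ => by
          rw [show f i m = 0 from LinearMap.congr_fun hm (f i), zero_smul]
      exact (smul_eq_zero.1 h0).resolve_left fun h => s.2 (by rw [h]; exact zero_mem _)
    refine ⟨S2090.result (Module.Dual.eval R M) fun p _ => ?_⟩
    by_cases hp : p.height ≤ 1
    · left
      refine ⟨LocalizedModule.map_injective p.primeCompl _ hinj, fun x => ?_⟩
      induction x using LocalizedModule.induction_on with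
      | _ ξ t =>
        obtain ⟨n, s, g, f, hs⟩ := key p hp
        have hξ : Module.Dual.eval R M (∑ i, ξ (f i) • g i) = (s : R) • ξ := LinearMap.ext fun φ => by
          have h1 : (s : R) • φ = ∑ i, φ (g i) • f i := LinearMap.ext fun m => by
            rw [LinearMap.smul_apply, ← map_smul, hs, map_sum, LinearMap.sum_apply]
            exact Finset.sum_congr rfl fun i _ => by
              rw [map_smul, LinearMap.smul_apply, smul_eq_mul, smul_eq_mul, mul_comm]
          rw [Module.Dual.eval_apply, map_sum, LinearMap.smul_apply, ← map_smul ξ, h1, map_sum]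
          exact Finset.sum_congr rfl fun i _ => by rw [map_smul, map_smul, smul_eq_mul, smul_eq_mul, mul_comm]
        refine ⟨LocalizedModule.mk (∑ i, ξ (f i) • g i) (s * t), ?_⟩
        rw [LocalizedModule.map_mk, hξ, LocalizedModule.mk_eq]
        refine ⟨1, ?_⟩
        simp [Submonoid.smul_def, Submonoid.coe_mul, mul_smul, smul_comm (t : R) (s : R)]
    · right
      have hne : p ≠ ⊥ := fun h => hp (by rw [h, Ideal.height_bot]; exact zero_le)
      refine ⟨?_, fun hass => ?_⟩
      · cases subsingleton_or_nontrivial (LocalizedModule p.primeCompl M) with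
        | inl h =>
          have : LocCoh.depth (Localization.AtPrime p) (LocalizedModule p.primeCompl M) = ⊤ :=
            IdealDepth.eq_top_iff'.2 (Subsingleton.elim _ _)
          rw [this]; exact le_top
        | inr h =>
          have h2 : (2 : ℕ∞) ≤ p.height := by
            have := Order.add_one_le_of_lt (not_le.1 hp)
            rwa [show (1 : ℕ∞) + 1 = 2 from rfl] at this
          have hsupp := supportDim_eq htf p
          have h3 := hS2 p
          rw [hsupp, show ((2 : ℕ) : WithBot ℕ∞) = ((2 : ℕ∞) : WithBot ℕ∞) from rfl, ← WithBot.coe_min,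
            WithBot.coe_le_coe, min_eq_left h2] at h3
          exact h3
      · obtain ⟨-, ξ, hξ⟩ := isAssociatedPrime_iff.1 hass
        obtain ⟨a, ha, ha0⟩ := Submodule.exists_mem_ne_zero_of_ne_bot hne
        have h1 : a • ξ = 0 := by rwa [hξ, Submodule.mem_colon_singleton, Submodule.mem_bot] at ha
        have hξ0 : ξ = 0 := LinearMap.ext fun φ => by
          have := LinearMap.congr_fun h1 φ
          rw [LinearMap.smul_apply, LinearMap.zero_apply, smul_eq_mul] at this
          exact (mul_eq_zero.1 this).resolve_left ha0
        exact hass.isPrime.ne_top ((Ideal.eq_top_iff_one _).2 (by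
          rw [hξ, Submodule.mem_colon_singleton, Submodule.mem_bot, hξ0, smul_zero]))

end Groth.Agent.S2054
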