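import Groth.Statements.S6360
import Groth.Agent.ML.Module

set_option autoImplicit false
universe u
open CAlg

namespace Groth.Agent.S6360


open Groth.Agent.ML.Module TensorProduct

/-- For maps of R-modules f : M → N and g : M → M', g dominates f (the kernel of f ⊗ id_Q is contained
in that of g ⊗ id_Q for every module Q) if and only if this containment holds for every finitely
presented module Q. -/
theorem result (R : Type u) [CommRing R] {M N M' : Type u}
    [AddCommGroup M] [Module R M] [AddCommGroup N] [Module R N] [AddCommGroup M'] [Module R M']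
    (f : M →ₗ[R] N) (g : M →ₗ[R] M') :
    (∀ (Q : Type u) [AddCommGroup Q] [Module R Q], LinearMap.ker (f.rTensor Q) ≤ LinearMap.ker (g.rTensor Q)) ↔
      ∀ (Q : Type u) [AddCommGroup Q] [Module R Q], Module.FinitePresentation R Q →
        LinearMap.ker (f.rTensor Q) ≤ LinearMap.ker (g.rTensor Q) := by
  refine ⟨fun h Q _ _ _ => h Q, fun h Q _ _ z hz => ?_⟩
  obtain ⟨k, m, q, rfl⟩ := TensorProduct.exists_sum_tmul_eq z
  rw [LinearMap.mem_ker] at hz ⊢
  let π : (Fin k → R) →ₗ[R] Q := Fintype.linearCombination R q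
  let z₀ : M ⊗[R] (Fin k → R) := ∑ j, m j ⊗ₜ Pi.single j 1
  have hz₀ : π.lTensor M z₀ = ∑ j, m j ⊗ₜ q j := by simp [z₀, π, map_sum]
  have h1 : π.rTensor N (TensorProduct.comm R N (Fin k → R) (f.rTensor _ z₀)) = 0 := by
    have : TensorProduct.comm R N Q (f.rTensor Q (∑ j, m j ⊗ₜ q j)) =
        π.rTensor N (TensorProduct.comm R N (Fin k → R) (f.rTensor _ z₀)) := by
      simp [z₀, π, map_sum]
    rw [← this, hz, map_zero]
  obtain ⟨p, l, a, r, hr, hg⟩ := exists_fp_factor π _ h1
  have hle : Submodule.span R (Set.range r) ≤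
      LinearMap.ker (π.coprod (Fintype.linearCombination R a)) := by
    rw [Submodule.span_le]; rintro _ ⟨i, rfl⟩; exact hr i
  let Q₀ := ((Fin k → R) × (Fin p → R)) ⧸ Submodule.span R (Set.range r)
  let g₀ : (Fin k → R) →ₗ[R] Q₀ :=
    (Submodule.span R (Set.range r)).mkQ ∘ₗ LinearMap.inl R (Fin k → R) (Fin p → R)
  let t : Q₀ →ₗ[R] Q := (Submodule.span R (Set.range r)).liftQ _ hle
  have ht : t ∘ₗ g₀ = π := LinearMap.ext fun x => by
    show π.coprod (Fintype.linearCombination R a) (x, 0) = π x
    simp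
  have : Module.FinitePresentation R Q₀ := Module.finitePresentation_of_surjective _
    (Submodule.span R (Set.range r)).mkQ_surjective
    (by rw [Submodule.ker_mkQ]; exact Submodule.fg_span (Set.finite_range _))
  have h2 : g₀.lTensor M z₀ ∈ LinearMap.ker (f.rTensor Q₀) := by
    rw [LinearMap.mem_ker]
    apply (TensorProduct.comm R N Q₀).injective
    rw [map_zero, ← hg]
    simp [z₀, g₀, map_sum, Submodule.mkQ_apply]
    rfl
  have h3 : g.rTensor Q₀ (g₀.lTensor M z₀) = 0 := h Q₀ this h2
  rw [← hz₀, ← ht, LinearMap.lTensor_comp_apply, ← LinearMap.comp_apply,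
    LinearMap.rTensor_comp_lTensor, ← LinearMap.lTensor_comp_rTensor, LinearMap.comp_apply, h3, map_zero]

end Groth.Agent.S6360
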