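import Groth.Statements.S2056
import Groth.Agent.S6360

set_option autoImplicit false
universe u
open CAlg

namespace Groth.Agent.S2056

/-- A linear map of `R`-modules is universally injective (injective after tensoring with any module) if
and only if it is injective after tensoring with every finitely presented module. -/
theorem result {R M N : Type u} [CommRing R] [AddCommGroup M]
    [Module R M] [AddCommGroup N] [Module R N] (f : M →ₗ[R] N) :
    CAlgX.UniversallyInjective R f ↔
      ∀ (Q : Type u) [AddCommGroup Q] [Module R Q], Module.FinitePresentation R Q →
        Function.Injective (f.rTensor Q) := by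
  refine ⟨fun h Q _ _ _ => h Q, fun h Q _ _ => ?_⟩
  have h2 := (Groth.Agent.S6360.result R f (LinearMap.id : M →ₗ[R] M)).mpr (fun Q _ _ hQ z hz => by
    rw [LinearMap.mem_ker] at hz ⊢
    rw [h Q hQ (hz.trans (map_zero _).symm), map_zero]) Q
  rw [injective_iff_map_eq_zero]
  intro z hz
  simpa using h2 (LinearMap.mem_ker.mpr hz)

end Groth.Agent.S2056
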