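import Groth.Statements.S2057
import Groth.Agent.S2056
import Groth.Agent.ML.Module

set_option autoImplicit false
universe u
open CAlg

namespace Groth.Agent.S2057


open TensorProduct

/-- An injective linear map `f : M₁ → M₂` is universally injective if and only if: whenever elements
`x_i` of `M₁` satisfy `f(x_i) = Σ_j a_{ij} y_j` for some `y_j ∈ M₂` and scalars `a_{ij}`, there are
`z_j ∈ M₁` with `x_i = Σ_j a_{ij} z_j`. -/
theorem result {R M₁ M₂ : Type u} [CommRing R] [AddCommGroup M₁]
    [Module R M₁] [AddCommGroup M₂] [Module R M₂] (f : M₁ →ₗ[R] M₂) (hf : Function.Injective f) :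
    CAlgX.UniversallyInjective R f ↔
      ∀ (n m : ℕ) (x : Fin n → M₁) (y : Fin m → M₂) (a : Fin n → Fin m → R),
        (∀ i, f (x i) = ∑ j, a i j • y j) → ∃ z : Fin m → M₁, ∀ i, x i = ∑ j, a i j • z j := by
  classical
  constructor
  · intro h n m x y a hxy
    let A : (Fin m → R) →ₗ[R] (Fin n → R) := Fintype.linearCombination R fun j i => a i j
    let q := (LinearMap.range A).mkQ
    let z₀ : M₁ ⊗[R] (Fin n → R) := ∑ i, x i ⊗ₜ Pi.single i 1
    have hA : ∀ {X : Type u} [AddCommGroup X] [Module R X] (v : Fin m → X),
        A.lTensor X (∑ j, v j ⊗ₜ Pi.single j 1) = ∑ i, (∑ j, a i j • v j) ⊗ₜ Pi.single i 1 := by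
      intro X _ _ v
      have hsingle : ∀ j, (fun i => a i j) = ∑ i, a i j • (Pi.single i 1 : Fin n → R) := fun j =>
        pi_eq_sum_univ' _
      simp only [map_sum, LinearMap.lTensor_tmul, A, Fintype.linearCombination_apply_single, one_smul,
        TensorProduct.sum_tmul]
      simp only [TensorProduct.smul_tmul]
      rw [Finset.sum_comm]
      refine Finset.sum_congr rfl fun j _ => ?_
      rw [← TensorProduct.tmul_sum, ← hsingle]
    have h0 : q.lTensor M₁ z₀ = 0 := by
      apply h
      rw [map_zero, ← LinearMap.comp_apply, LinearMap.rTensor_comp_lTensor,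
        ← LinearMap.lTensor_comp_rTensor, LinearMap.comp_apply]
      have : f.rTensor (Fin n → R) z₀ = A.lTensor M₂ (∑ j, y j ⊗ₜ Pi.single j 1) := by
        rw [hA]; simp [z₀, map_sum, hxy]
      rw [this]
      exact (lTensor_exact M₂ (LinearMap.exact_map_mkQ_range A) (LinearMap.range A).mkQ_surjective).apply_apply_eq_zero _
    obtain ⟨v, hv⟩ := (lTensor_exact M₁ (LinearMap.exact_map_mkQ_range A) (LinearMap.range A).mkQ_surjective z₀).mp h0
    let z : Fin m → M₁ := TensorProduct.piScalarRight R R M₁ (Fin m) v
    have hvz : v = ∑ j, z j ⊗ₜ Pi.single j 1 := by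
      apply (TensorProduct.piScalarRight R R M₁ (Fin m)).injective
      funext i
      simp [z, map_sum, Finset.sum_apply, Pi.single_apply]
    refine ⟨z, fun i => ?_⟩
    rw [hvz, hA] at hv
    have := congrArg (fun t => TensorProduct.piScalarRight R R M₁ (Fin n) t i) hv
    simpa [z₀, map_sum, Finset.sum_apply, Pi.single_apply] using this.symm
  · intro h
    rw [Groth.Agent.S2056.result]
    intro Q _ _ _
    rw [injective_iff_map_eq_zero]
    intro w hw
    obtain ⟨n, π, hπ⟩ := Module.Finite.exists_fin' R Q
    have : Module.Finite R (LinearMap.ker π) := Module.Finite.iff_fg.mpr (Module.FinitePresentation.fg_ker π hπ)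
    obtain ⟨m, r, hr⟩ := Module.Finite.exists_fin' R (LinearMap.ker π)
    let A := (LinearMap.ker π).subtype ∘ₗ r
    have hexA : Function.Exact A π := by
      rw [LinearMap.exact_iff]; simp [A, LinearMap.range_comp, LinearMap.range_eq_top.mpr hr]
    obtain ⟨w, rfl⟩ := LinearMap.lTensor_surjective M₁ hπ w
    rw [← LinearMap.comp_apply, LinearMap.rTensor_comp_lTensor, ← LinearMap.lTensor_comp_rTensor,
      LinearMap.comp_apply] at hw
    obtain ⟨v, hv⟩ := (lTensor_exact M₂ hexA hπ _).mp hw
    let y : Fin m → M₂ := TensorProduct.piScalarRight R R M₂ (Fin m) v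
    let x : Fin n → M₁ := TensorProduct.piScalarRight R R M₁ (Fin n) w
    have hexp : ∀ {X : Type u} [AddCommGroup X] [Module R X] (u : X ⊗[R] (Fin m → R)) (i : Fin n),
        TensorProduct.piScalarRight R R X (Fin n) (A.lTensor X u) i =
          ∑ j, A (Pi.single j 1) i • TensorProduct.piScalarRight R R X (Fin m) u j := by
      intro X _ _ u i
      induction u using TensorProduct.induction_on with
      | zero => simp
      | add p q hp hq => simp only [map_add, Pi.add_apply, hp, hq, smul_add, Finset.sum_add_distrib]
      | tmul p c =>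
        conv_lhs => rw [pi_eq_sum_univ' c]
        simp [map_sum, Finset.sum_apply, TensorProduct.tmul_sum, smul_smul, mul_comm]
    have hnat : ∀ (u : M₁ ⊗[R] (Fin n → R)) (i : Fin n),
        TensorProduct.piScalarRight R R M₂ (Fin n) (f.rTensor _ u) i =
          f (TensorProduct.piScalarRight R R M₁ (Fin n) u i) := fun u i => by
      induction u using TensorProduct.induction_on with
      | zero => simp
      | add p q hp hq => simp only [map_add, Pi.add_apply, hp, hq]
      | tmul p c => simp
    obtain ⟨z, hz⟩ := h n m x y (fun i j => A (Pi.single j 1) i) fun i => by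
      rw [← hnat, ← hv, hexp]
    have : w = A.lTensor M₁ ((TensorProduct.piScalarRight R R M₁ (Fin m)).symm z) := by
      apply (TensorProduct.piScalarRight R R M₁ (Fin n)).injective
      funext i
      rw [hexp, LinearEquiv.apply_symm_apply]
      exact hz i
    rw [this]
    exact (lTensor_exact M₁ hexA hπ).apply_apply_eq_zero _

end Groth.Agent.S2057
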