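import Groth.Statements.S2069
import Mathlib.RingTheory.Ideal.AssociatedPrime.Finiteness
import Mathlib.RingTheory.Ideal.AssociatedPrime.Localization
import Mathlib.RingTheory.Flat.Basic
import Mathlib.LinearAlgebra.TensorProduct.Tower
import Mathlib.LinearAlgebra.TensorProduct.RightExactness
import Mathlib.LinearAlgebra.TensorProduct.Pi
import Mathlib.RingTheory.TensorProduct.Finite
import Mathlib.RingTheory.Ideal.Quotient.Operations

set_option autoImplicit false
universe u
open CAlg

namespace Groth.Agent.S2069

open scoped TensorProduct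

/-- `N ⧸ pN ≃ N ⊗ R ⧸ p` -/
noncomputable def quotEquiv (R S : Type u) [CommRing R] [CommRing S] [Algebra R S] (N : Type u) [AddCommGroup N]
    [Module S N] [Module R N] [IsScalarTower R S N] (p : Ideal R) :
    (N ⧸ p.map (algebraMap R S) • (⊤ : Submodule S N)) ≃ₗ[S] N ⊗[R] (R ⧸ p) :=
  let ψ : N →ₗ[S] N ⊗[R] (R ⧸ p) := (TensorProduct.AlgebraTensorModule.mk R S N (R ⧸ p)).flip (1 : R ⧸ p)
  have hs : Function.Surjective ψ := fun z => by
    induction z using TensorProduct.induction_on with
    | zero => exact ⟨0, map_zero _⟩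
    | tmul n r =>
      obtain ⟨r, rfl⟩ := Ideal.Quotient.mk_surjective r
      refine ⟨r • n, ?_⟩
      show (r • n) ⊗ₜ[R] (1 : R ⧸ p) = _
      rw [TensorProduct.smul_tmul, Algebra.smul_def, Ideal.Quotient.algebraMap_eq, mul_one]
    | add x y hx hy =>
      obtain ⟨a, rfl⟩ := hx
      obtain ⟨b, rfl⟩ := hy
      exact ⟨a + b, map_add _ _ _⟩
  have hk : LinearMap.ker ψ = p.map (algebraMap R S) • (⊤ : Submodule S N) := by
    refine le_antisymm (fun n hn => ?_) (Submodule.smul_le.2 fun s hs n _ => ?_)
    · have hn' : (Submodule.mkQ p).lTensor N (n ⊗ₜ[R] (1 : R)) = 0 := hn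
      obtain ⟨w, hw⟩ := (lTensor_exact N (f := Submodule.subtype p) (g := Submodule.mkQ p)
        (LinearMap.exact_subtype_mkQ p) (Submodule.mkQ_surjective p) _).1 hn'
      have h2 := congrArg (TensorProduct.rid R N) hw
      rw [TensorProduct.rid_tmul, one_smul] at h2
      rw [← h2]
      clear h2 hw hn' hn
      induction w using TensorProduct.induction_on with
      | zero => simp
      | tmul a r =>
        rw [LinearMap.lTensor_tmul, TensorProduct.rid_tmul, Submodule.subtype_apply, ← IsScalarTower.algebraMap_smul S r.1 a]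
        exact Submodule.smul_mem_smul (Ideal.mem_map_of_mem _ r.2) Submodule.mem_top
      | add x y hx hy => rw [map_add, map_add]; exact add_mem hx hy
    · rw [LinearMap.mem_ker, map_smul]
      refine Submodule.span_induction (p := fun s _ => s • ψ n = 0) ?_ (zero_smul _ _) ?_ ?_ hs
      · rintro _ ⟨r, hr, rfl⟩
        rw [IsScalarTower.algebraMap_smul]
        show r • (n ⊗ₜ[R] (1 : R ⧸ p)) = 0
        rw [← TensorProduct.tmul_smul, Algebra.smul_def, Ideal.Quotient.algebraMap_eq, Ideal.Quotient.eq_zero_iff_mem.2 hr,
          zero_mul, TensorProduct.tmul_zero]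
      · intro a b _ _ ha hb; rw [add_smul, ha, hb, add_zero]
      · intro a b _ hb; rw [smul_eq_mul, mul_smul, hb, smul_zero]
  (Submodule.quotEquivOfEq _ _ hk.symm).trans (ψ.quotKerEquivOfSurjective hs)

theorem exists_fg (R : Type u) [CommRing R] (M N : Type u) [AddCommGroup M] [Module R M] [AddCommGroup N] [Module R N]
    (z : N ⊗[R] M) : ∃ M0 : Submodule R M, M0.FG ∧ ∃ z0 : N ⊗[R] M0, M0.subtype.lTensor N z0 = z := by
  induction z using TensorProduct.induction_on with
  | zero => exact ⟨⊥, Submodule.fg_bot, 0, map_zero _⟩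
  | tmul n m => exact ⟨Submodule.span R {m}, Submodule.fg_span_singleton m, n ⊗ₜ ⟨m, Submodule.mem_span_singleton_self m⟩, rfl⟩
  | add x y hx hy =>
    obtain ⟨A, hA, a, rfl⟩ := hx
    obtain ⟨B, hB, b, rfl⟩ := hy
    refine ⟨A ⊔ B, hA.sup hB, (Submodule.inclusion le_sup_left).lTensor N a + (Submodule.inclusion le_sup_right).lTensor N b, ?_⟩
    rw [map_add, ← LinearMap.comp_apply, ← LinearMap.comp_apply, ← LinearMap.lTensor_comp, ← LinearMap.lTensor_comp,
      Submodule.subtype_comp_inclusion, Submodule.subtype_comp_inclusion]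

variable (R S : Type u) [CommRing R] [IsNoetherianRing R] [CommRing S] [Algebra R S]
  (M N : Type u) [AddCommGroup M] [Module R M] [AddCommGroup N] [Module S N] [Module R N] [IsScalarTower R S N] [Module.Flat R N]

theorem comap_mem (P : Ideal S) (hP : P ∈ associatedPrimes S (N ⊗[R] M)) :
    P.comap (algebraMap R S) ∈ associatedPrimes R M := by
  classical
  obtain ⟨hPp, z, hz⟩ := hP
  let p := P.comap (algebraMap R S)
  haveI : p.IsPrime := hPp.comap _
  let J : Ideal R := (Submodule.colon (⊥ : Submodule S (N ⊗[R] M)) {z}).comap (algebraMap R S)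
  have hJ : ∀ r, r ∈ J ↔ r • z = 0 := fun r => by
    rw [Ideal.mem_comap, Submodule.mem_colon_singleton, Submodule.mem_bot, IsScalarTower.algebraMap_smul]
  have hJp : p = J.radical := by
    show P.comap _ = _
    rw [hz, Ideal.comap_radical]
  obtain ⟨m, hm⟩ := Ideal.exists_pow_le_of_le_radical_of_fg hJp.le (IsNoetherian.noetherian p)
  obtain ⟨T, hT⟩ := (IsNoetherian.noetherian (p ^ m) : (p ^ m).FG)
  let g : M →ₗ[R] (T → M) := LinearMap.pi fun t => t.1 • LinearMap.id
  have hgz : g.lTensor N z = 0 := by
    apply (TensorProduct.piRight R R N fun _ : T => M).injective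
    funext t
    rw [map_zero, Pi.zero_apply]
    have key : ∀ w : N ⊗[R] M, TensorProduct.piRight R R N (fun _ : T => M) (g.lTensor N w) t = t.1 • w := by
      intro w
      induction w using TensorProduct.induction_on with
      | zero => simp
      | tmul n x => simp [g, TensorProduct.tmul_smul]
      | add x y hx hy => rw [map_add, map_add, Pi.add_apply, hx, hy, smul_add]
    rw [key]
    have ht : t.1 ∈ p ^ m := hT ▸ Submodule.subset_span (Finset.mem_coe.2 t.2)
    exact (hJ _).1 (hm ht)
  obtain ⟨w, hw⟩ := (Module.Flat.lTensor_exact N (LinearMap.exact_subtype_ker_map g) z).1 hgz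
  by_contra hne
  have hkill : ∀ x : LinearMap.ker g, ∃ s ∉ p, s • x = 0 := by
    intro x
    by_contra hc
    push Not at hc
    have hmin : p ∈ (Module.annihilator R (Submodule.span R {(x : M)})).minimalPrimes := by
      rw [show Module.annihilator R (Submodule.span R {(x : M)}) = (Submodule.span R {(x : M)}).annihilator from rfl]
      refine ⟨⟨inferInstance, fun s hs => ?_⟩, fun Q hQ hQp => ?_⟩
      · by_contra hsp
        exact hc s hsp (Subtype.ext (Submodule.mem_annihilator.1 hs _ (Submodule.mem_span_singleton_self _)))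
      · have hpow : p ^ m ≤ Q := by
          rw [← hT, Submodule.span_le]
          intro t ht
          refine hQ.2 ?_
          rw [Submodule.mem_annihilator_span_singleton]
          exact congrFun (LinearMap.mem_ker.1 x.2) ⟨t, ht⟩
        exact hQ.1.le_of_pow_le hpow
    exact hne (IsAssociatedPrime.map_of_injective (f := Submodule.subtype (Submodule.span R {(x : M)}))
      (Module.associatedPrimes.minimalPrimes_annihilator_subset_associatedPrimes R (Submodule.span R {(x : M)}) hmin) (Submodule.injective_subtype _))
  have hw0 : ∀ w : N ⊗[R] LinearMap.ker g, ∃ s ∉ p, s • w = 0 := by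
    intro w
    induction w using TensorProduct.induction_on with
    | zero => exact ⟨1, p.one_notMem, smul_zero _⟩
    | tmul n x =>
      obtain ⟨s, hs, hsx⟩ := hkill x
      exact ⟨s, hs, by rw [← TensorProduct.tmul_smul, hsx, TensorProduct.tmul_zero]⟩
    | add x y hx hy =>
      obtain ⟨s, hs, hsx⟩ := hx
      obtain ⟨t, ht, hty⟩ := hy
      refine ⟨s * t, fun h => ?_, by rw [smul_add, mul_comm, mul_smul, hsx, smul_zero, mul_comm, mul_smul, hty, smul_zero, add_zero]⟩
      rcases Ideal.IsPrime.mem_or_mem inferInstance h with h | h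
      · exact hs h
      · exact ht h
  obtain ⟨s, hs, hsw⟩ := hw0 w
  refine hs (hJp.ge (Ideal.le_radical ((hJ s).2 ?_)))
  rw [← hw, ← map_smul, hsw, map_zero]

theorem mem_quot (M0 : Type u) [AddCommGroup M0] [Module R M0] (hfin : Module.Finite R M0) :
    ∀ P ∈ associatedPrimes S (N ⊗[R] M0),
      P ∈ associatedPrimes S (N ⧸ (P.comap (algebraMap R S)).map (algebraMap R S) • (⊤ : Submodule S N)) := by
  classical
  induction hfin using IsNoetherianRing.induction_on_isQuotientEquivQuotientPrime with
  | subsingleton M' =>
    rintro P ⟨hPp, z, hz⟩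
    have : z = 0 := Subsingleton.elim _ _
    subst this
    exact absurd (hz.trans (by rw [Submodule.colon_singleton_zero, Ideal.radical_top])) hPp.ne_top
  | quotient M' q e =>
    intro P hP
    let E : N ⊗[R] M' ≃ₗ[S] N ⊗[R] (R ⧸ q.1) := TensorProduct.AlgebraTensorModule.congr (LinearEquiv.refl S N) e
    have hP1 : P ∈ associatedPrimes S (N ⊗[R] (R ⧸ q.1)) := IsAssociatedPrime.map_of_injective (f := E.toLinearMap) hP E.injective
    have hq : P.comap (algebraMap R S) = q.1 := by
      obtain ⟨hPp, z, hz⟩ := hP1
      refine le_antisymm (fun r hr => ?_) (fun r hr => ?_)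
      · by_contra hrq
        rw [Ideal.mem_comap, hz] at hr
        obtain ⟨k, hk⟩ := hr
        rw [← map_pow, Submodule.mem_colon_singleton, Submodule.mem_bot, IsScalarTower.algebraMap_smul] at hk
        have hinj : Function.Injective (LinearMap.lsmul R (R ⧸ q.1) (r ^ k)) := by
          rw [← LinearMap.ker_eq_bot, LinearMap.ker_eq_bot']
          intro y hy
          obtain ⟨y, rfl⟩ := Ideal.Quotient.mk_surjective y
          rw [Ideal.Quotient.eq_zero_iff_mem]
          have : r ^ k * y ∈ q.1 := Ideal.Quotient.eq_zero_iff_mem.1 hy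
          exact (q.2.mem_or_mem this).resolve_left fun h => hrq (q.2.mem_of_pow_mem k h)
        have hs : ∀ w : N ⊗[R] (R ⧸ q.1), (LinearMap.lsmul R (R ⧸ q.1) (r ^ k)).lTensor N w = r ^ k • w := fun w => by
          induction w using TensorProduct.induction_on with
          | zero => simp
          | tmul n x => rw [LinearMap.lTensor_tmul, LinearMap.lsmul_apply, TensorProduct.tmul_smul]
          | add x y hx hy => rw [map_add, hx, hy, smul_add]
        have hz0 : z = 0 := Module.Flat.lTensor_preserves_injective_linearMap (M := N) _ hinj (by rw [hs, map_zero, hk])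
        subst hz0
        exact hPp.ne_top (by rw [hz, Submodule.colon_singleton_zero, Ideal.radical_top])
      · rw [Ideal.mem_comap, hz]
        refine Ideal.le_radical ?_
        rw [Submodule.mem_colon_singleton, Submodule.mem_bot, IsScalarTower.algebraMap_smul]
        clear hz
        induction z using TensorProduct.induction_on with
        | zero => simp
        | tmul n x =>
          obtain ⟨x, rfl⟩ := Ideal.Quotient.mk_surjective x
          rw [← TensorProduct.tmul_smul, Algebra.smul_def, Ideal.Quotient.algebraMap_eq,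
            Ideal.Quotient.eq_zero_iff_mem.2 hr, zero_mul, TensorProduct.tmul_zero]
        | add x y hx hy => rw [smul_add, hx, hy, add_zero]
    rw [hq]
    exact IsAssociatedPrime.map_of_injective (f := (quotEquiv R S N q.1).symm.toLinearMap) hP1 (quotEquiv R S N q.1).symm.injective
  | exact M1 M2 M3 f g hf hg hfg ih1 ih3 =>
    intro P hP
    have := associatedPrimes.subset_union_of_exact (f := TensorProduct.AlgebraTensorModule.lTensor S N f)
      (g := TensorProduct.AlgebraTensorModule.lTensor S N g)
      (Module.Flat.lTensor_preserves_injective_linearMap (M := N) f hf) (Module.Flat.lTensor_exact N hfg) hP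
    rcases this with h | h
    · exact ih1 P h
    · exact ih3 P h


open TensorProduct in
/-- Let `R → S` be a ring map, `M` an `R`-module and `N` an `S`-module flat over `R`. Then a prime of
`S` is associated to `N ⊗_R M` if and only if it is associated to `N/𝔭N` for some prime `𝔭` of `R`
associated to `M`. -/
theorem result {R S M N : Type u} [CommRing R] [IsNoetherianRing R] [CommRing S]
    [Algebra R S] [AddCommGroup M] [Module R M] [AddCommGroup N] [Module S N] [Module R N]
    [IsScalarTower R S N] [Module.Flat R N] :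
    associatedPrimes S (N ⊗[R] M) =
      ⋃ p ∈ associatedPrimes R M, associatedPrimes S (N ⧸ p.map (algebraMap R S) • (⊤ : Submodule S N)) := by
  classical
  ext P
  simp only [Set.mem_iUnion]
  constructor
  · intro hP
    refine ⟨P.comap (algebraMap R S), comap_mem R S M N P hP, ?_⟩
    obtain ⟨hPp, z, hz⟩ := hP
    obtain ⟨M0, hM0, z0, rfl⟩ := exists_fg R M N z
    haveI : Module.Finite R M0 := Module.Finite.iff_fg.mpr hM0
    refine mem_quot R S N M0 inferInstance P ⟨hPp, z0, hz.trans (congrArg Ideal.radical ?_)⟩
    ext s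
    rw [Submodule.mem_colon_singleton, Submodule.mem_colon_singleton, Submodule.mem_bot, Submodule.mem_bot]
    have hinj : Function.Injective (TensorProduct.AlgebraTensorModule.lTensor S N M0.subtype) :=
      Module.Flat.lTensor_preserves_injective_linearMap (M := N) _ M0.injective_subtype
    rw [← hinj.eq_iff' (map_zero _), map_smul]
    rfl
  · rintro ⟨p, hp, hP⟩
    obtain ⟨hpp, f, hf⟩ := (isAssociatedPrime_iff_exists_injective_linearMap _ _).1 hp
    have h1 : P ∈ associatedPrimes S (N ⊗[R] (R ⧸ p)) :=
      IsAssociatedPrime.map_of_injective (f := (quotEquiv R S N p).toLinearMap) hP (quotEquiv R S N p).injective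
    exact IsAssociatedPrime.map_of_injective (f := TensorProduct.AlgebraTensorModule.lTensor S N f) h1
      (Module.Flat.lTensor_preserves_injective_linearMap (M := N) f hf)

end Groth.Agent.S2069
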