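import Groth.Statements.S2073
import Mathlib.RingTheory.NoetherNormalization
import Mathlib.RingTheory.FiniteStability
import Mathlib.RingTheory.Localization.Integral
import Mathlib.RingTheory.Localization.BaseChange
import Mathlib.RingTheory.MvPolynomial.Localization
import Mathlib.RingTheory.AlgebraicIndependent.Basic

set_option autoImplicit false
universe u
open CAlg

namespace Groth.Agent.S2073

open scoped TensorProduct

/-- Let `R` be a domain and `R → S` an injective ring map of finite type. Then there are elements `y_1,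
…, y_d` of `S` algebraically independent over `R`, a finitely generated `R`-subalgebra `S'` of `S`
containing them and integral over `R[y_1, …, y_d]`, and a nonzero `f ∈ R` such that every element of
`S` lands in `S'` after multiplication by a power of `f`. -/
theorem result {R S : Type u} [CommRing R] [IsDomain R] [CommRing S] [Algebra R S]
    [Algebra.FiniteType R S] (hinj : Function.Injective (algebraMap R S)) :
    ∃ (d : ℕ) (y : Fin d → S) (S' : Subalgebra R S), AlgebraicIndependent R y ∧ (∀ i, y i ∈ S') ∧ S'.FG ∧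
      (∀ s ∈ S', IsIntegral (Algebra.adjoin R (Set.range y)) s) ∧
      ∃ f : R, f ≠ 0 ∧ ∀ s : S, ∃ n : ℕ, (f ^ n) • s ∈ S' := by
  classical
  let K := FractionRing R
  let M : Submonoid R := nonZeroDivisors R
  letI : Algebra S (K ⊗[R] S) := Algebra.TensorProduct.rightAlgebra
  haveI : IsLocalization (Algebra.algebraMapSubmonoid S M) (K ⊗[R] S) :=
    (Algebra.isLocalization_iff_isPushout M K).2 inferInstance
  haveI : Nontrivial (K ⊗[R] S) := by
    refine ⟨1, 0, fun h => ?_⟩
    rw [← map_one (algebraMap S (K ⊗[R] S)), IsLocalization.map_eq_zero_iff (Algebra.algebraMapSubmonoid S M)] at h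
    obtain ⟨⟨_, r, hr, rfl⟩, h⟩ := h
    exact nonZeroDivisors.ne_zero hr (hinj (by simpa using h))
  obtain ⟨d, g, ginj, gfin⟩ := exists_finite_inj_algHom_of_fg K (K ⊗[R] S)
  have hnum : ∀ i : Fin d, ∃ (z : S) (r : R), r ∈ M ∧ g (MvPolynomial.X i) * algebraMap R (K ⊗[R] S) r = algebraMap S (K ⊗[R] S) z := by
    intro i
    obtain ⟨⟨z, ⟨_, r, hr, rfl⟩⟩, h⟩ := IsLocalization.surj (Algebra.algebraMapSubmonoid S M) (g (MvPolynomial.X i))
    exact ⟨z, r, hr, by rw [IsScalarTower.algebraMap_apply R S (K ⊗[R] S)]; exact h⟩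
  choose y r hr hy using hnum
  have hu : ∀ i, IsUnit (algebraMap R K (r i)) := fun i => IsLocalization.map_units K ⟨r i, hr i⟩
  let θ : MvPolynomial (Fin d) K →ₐ[K] MvPolynomial (Fin d) K :=
    MvPolynomial.aeval fun i => MvPolynomial.C (algebraMap R K (r i)) * MvPolynomial.X i
  let θ' : MvPolynomial (Fin d) K →ₐ[K] MvPolynomial (Fin d) K :=
    MvPolynomial.aeval fun i => MvPolynomial.C (↑(hu i).unit⁻¹ : K) * MvPolynomial.X i
  have hθ : Function.RightInverse θ' θ := by
    have : θ.comp θ' = AlgHom.id K _ := MvPolynomial.algHom_ext fun i => by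
      show θ (θ' (MvPolynomial.X i)) = _
      simp only [θ, θ', MvPolynomial.aeval_X, map_mul, MvPolynomial.aeval_C, MvPolynomial.algebraMap_eq]
      rw [← mul_assoc, ← map_mul, IsUnit.val_inv_mul (hu i), map_one, one_mul]
      rfl
    exact fun p => congrArg (fun f : _ →ₐ[K] _ => f p) this
  have hθ2 : Function.LeftInverse θ' θ := by
    have : θ'.comp θ = AlgHom.id K _ := MvPolynomial.algHom_ext fun i => by
      show θ' (θ (MvPolynomial.X i)) = _
      simp only [θ, θ', MvPolynomial.aeval_X, map_mul, MvPolynomial.aeval_C, MvPolynomial.algebraMap_eq]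
      rw [← mul_assoc, ← map_mul, IsUnit.mul_val_inv (hu i), map_one, one_mul]
      rfl
    exact fun p => congrArg (fun f : _ →ₐ[K] _ => f p) this
  let g' := g.comp θ
  have g'inj : Function.Injective g' := ginj.comp hθ2.injective
  have g'fin : g'.Finite := gfin.comp (AlgHom.Finite.of_surjective θ hθ.surjective)
  let h : MvPolynomial (Fin d) R →ₐ[R] S := MvPolynomial.aeval y
  have hcomm : (algebraMap S (K ⊗[R] S)).comp h.toRingHom =
      g'.toRingHom.comp (MvPolynomial.map (algebraMap R K)) := by
    refine MvPolynomial.ringHom_ext (fun a => ?_) fun i => ?_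
    · simp [h, g', θ, ← IsScalarTower.algebraMap_apply]
    · simp [h, g', θ, ← hy i, Algebra.smul_def, mul_comm, ← IsScalarTower.algebraMap_apply]
  have hind : AlgebraicIndependent R y := by
    intro p q hpq
    have := congrArg (algebraMap S (K ⊗[R] S)) hpq
    change ((algebraMap S (K ⊗[R] S)).comp h.toRingHom) p = ((algebraMap S (K ⊗[R] S)).comp h.toRingHom) q at this
    rw [hcomm] at this
    exact MvPolynomial.map_injective _ (IsFractionRing.injective R K) (g'inj this)
  -- integrality after clearing denominators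
  have hint : ∀ x : S, ∃ m ∈ M, IsIntegral (Algebra.adjoin R (Set.range y)) (m • x) := by
    intro x
    letI : Algebra (MvPolynomial (Fin d) R) (MvPolynomial (Fin d) K) := (MvPolynomial.map (algebraMap R K)).toAlgebra
    haveI : IsLocalization (M.map (MvPolynomial.C (σ := Fin d))) (MvPolynomial (Fin d) K) :=
      MvPolynomial.isLocalization M K
    letI : Algebra (MvPolynomial (Fin d) R) S := h.toRingHom.toAlgebra
    letI : Algebra (MvPolynomial (Fin d) K) (K ⊗[R] S) := g'.toRingHom.toAlgebra
    letI : Algebra (MvPolynomial (Fin d) R) (K ⊗[R] S) := ((algebraMap S (K ⊗[R] S)).comp h.toRingHom).toAlgebra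
    haveI : IsScalarTower (MvPolynomial (Fin d) R) S (K ⊗[R] S) := IsScalarTower.of_algebraMap_eq' rfl
    haveI : IsScalarTower (MvPolynomial (Fin d) R) (MvPolynomial (Fin d) K) (K ⊗[R] S) :=
      IsScalarTower.of_algebraMap_eq' hcomm
    have hx : IsIntegral (MvPolynomial (Fin d) K) (algebraMap S (K ⊗[R] S) x) := g'fin.to_isIntegral _
    obtain ⟨⟨_, m, hm, rfl⟩, hmx⟩ := hx.exists_multiple_integral_of_isLocalization (M.map (MvPolynomial.C (σ := Fin d))) _
    have hmx' : IsIntegral (MvPolynomial (Fin d) R) (algebraMap S (K ⊗[R] S) (m • x)) := by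
      refine (congrArg (IsIntegral (MvPolynomial (Fin d) R)) ?_).mp hmx
      rw [Submonoid.smul_def, Algebra.smul_def, Algebra.smul_def, map_mul]
      congr 1
      change algebraMap S (K ⊗[R] S) (h (MvPolynomial.C m)) = _
      simp [h]
    haveI : IsLocalization (Algebra.algebraMapSubmonoid S (M.map (MvPolynomial.C (σ := Fin d)))) (K ⊗[R] S) := by
      have e : Algebra.algebraMapSubmonoid S (M.map (MvPolynomial.C (σ := Fin d))) = Algebra.algebraMapSubmonoid S M := by
        ext z
        constructor
        · rintro ⟨_, ⟨a, ha, rfl⟩, rfl⟩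
          exact ⟨a, ha, (show h (MvPolynomial.C a) = algebraMap R S a by simp [h]).symm⟩
        · rintro ⟨a, ha, rfl⟩
          exact ⟨_, ⟨a, ha, rfl⟩, show h (MvPolynomial.C a) = algebraMap R S a by simp [h]⟩
      rw [e]; infer_instance
    obtain ⟨_, ⟨m', hm', rfl⟩, p, hp, hp0⟩ :=
      IsLocalization.exists_isIntegral_smul_of_isIntegral_map (M.map (MvPolynomial.C (σ := Fin d))) hmx'
    let ψ : MvPolynomial (Fin d) R →+* Algebra.adjoin R (Set.range y) :=
      h.toRingHom.codRestrict (Algebra.adjoin R (Set.range y)).toSubring fun a => by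
        show h a ∈ Algebra.adjoin R (Set.range y)
        rw [Algebra.adjoin_range_eq_range_aeval]
        exact ⟨a, rfl⟩
    refine ⟨m' * m, M.mul_mem hm' hm, p.map ψ, hp.map ψ, ?_⟩
    have e1 : (MvPolynomial.C m' : MvPolynomial (Fin d) R) • (m • x) = (m' * m) • x := by
      rw [mul_smul, Algebra.smul_def, Algebra.smul_def (m')]
      congr 1
      show h (MvPolynomial.C m') = _
      simp [h]
    rw [Polynomial.eval₂_map, ← e1]
    exact hp0
  obtain ⟨t, ht⟩ := Algebra.FiniteType.out (R := R) (A := S)
  choose m hm hmint using hint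
  let f : R := ∏ x ∈ t, m x
  have hf : f ∈ M := prod_mem fun x _ => hm x
  have hfint : ∀ x ∈ t, IsIntegral (Algebra.adjoin R (Set.range y)) (f • x) := by
    intro x hx
    obtain ⟨q, hq⟩ := Finset.dvd_prod_of_mem m hx
    rw [show f = q * m x from hq.trans (mul_comm _ _), mul_smul]
    exact (hmint x).smul q
  let G : Finset S := Finset.univ.image y ∪ t.image (f • ·)
  refine ⟨d, y, Algebra.adjoin R (G : Set S), hind, fun i => Algebra.subset_adjoin (by simp [G]), ⟨G, rfl⟩, ?_,
    f, nonZeroDivisors.ne_zero hf, fun s => ?_⟩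
  · intro s hs
    induction hs using Algebra.adjoin_induction with
    | mem z hz =>
      simp only [G, Finset.coe_union, Finset.coe_image, Finset.coe_univ, Set.image_univ, Set.mem_union] at hz
      rcases hz with hz | ⟨x, hx, rfl⟩
      · exact isIntegral_algebraMap (x := (⟨z, Algebra.subset_adjoin hz⟩ : Algebra.adjoin R (Set.range y)))
      · exact hfint x hx
    | algebraMap a =>
      exact isIntegral_algebraMap (x := (⟨_, Subalgebra.algebraMap_mem _ a⟩ : Algebra.adjoin R (Set.range y)))
    | add a b _ _ ha hb => exact ha.add hb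
    | mul a b _ _ ha hb => exact ha.mul hb
  · have hs : s ∈ Algebra.adjoin R (t : Set S) := ht ▸ Algebra.mem_top
    induction hs using Algebra.adjoin_induction with
    | mem z hz => exact ⟨1, Algebra.subset_adjoin (by simpa [G] using Or.inr ⟨z, hz, rfl⟩)⟩
    | algebraMap a => exact ⟨0, by rw [pow_zero, one_smul]; exact Subalgebra.algebraMap_mem _ a⟩
    | add a b _ _ ha hb =>
      obtain ⟨i, hi⟩ := ha
      obtain ⟨j, hj⟩ := hb
      refine ⟨i + j, ?_⟩
      rw [smul_add]
      refine add_mem ?_ ?_
      · rw [pow_add, mul_comm, mul_smul]; exact Subalgebra.smul_mem _ hi _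
      · rw [pow_add, mul_smul]; exact Subalgebra.smul_mem _ hj _
    | mul a b _ _ ha hb =>
      obtain ⟨i, hi⟩ := ha
      obtain ⟨j, hj⟩ := hb
      exact ⟨i + j, by rw [pow_add, ← smul_mul_smul_comm]; exact mul_mem hi hj⟩

end Groth.Agent.S2073
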