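import Groth.Statements.S2076
import Groth.Agent.Lead.Lim.Closed
-- import your own Groth.Agent.* helpers here

set_option autoImplicit false
universe u
open CategoryTheory AlgebraicGeometry
open Lim

namespace Groth.Agent.S2076

/-- Let `X = lim X_i` be a cofiltered limit of quasi-compact schemes over `S` with affine transition
morphisms and `h : Y → X` a closed immersion with `Y → S` locally of finite type. Then `Y → X_i` is
a closed immersion for some `i`. -/
theorem result {I : Type u} [SmallCategory I] [IsCofiltered I] (S : Scheme.{u})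
    (D : I ⥤ Over S) (c : Limits.Cone D) (hc : Limits.IsLimit c)
    [∀ (i j : I) (f : i ⟶ j), IsAffineHom (D.map f).left] [∀ i, CompactSpace (D.obj i).left]
    {Y : Scheme.{u}} (h : Y ⟶ c.pt.left) [IsClosedImmersion h] [LocallyOfFiniteType (h ≫ c.pt.hom)] :
    ∃ i : I, IsClosedImmersion (h ≫ (c.π.app i).left) := by
  haveI : IsConnected I := IsCofiltered.isConnected I
  let E := D ⋙ Over.forget S
  haveI : ∀ {i j : I} (f : i ⟶ j), IsAffineHom (E.map f) := fun f => ‹∀ (i j : I) (f : i ⟶ j), IsAffineHom (D.map f).left› _ _ f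
  haveI : ∀ i, CompactSpace (E.obj i) := fun i => ‹∀ i, CompactSpace (D.obj i).left› i
  let i₀ : I := IsCofiltered.nonempty.some
  let h' : Y ⟶ ((Over.forget S).mapCone c).pt := h
  haveI : IsClosedImmersion h' := ‹IsClosedImmersion h›
  haveI : LocallyOfFiniteType (h' ≫ ((Over.forget S).mapCone c).π.app i₀ ≫ (D.obj i₀).hom) := by
    show LocallyOfFiniteType (h ≫ (c.π.app i₀).left ≫ (D.obj i₀).hom)
    rw [show (c.π.app i₀).left ≫ (D.obj i₀).hom = c.pt.hom from Over.w (c.π.app i₀)]
    infer_instance
  exact Groth.Agent.Lead.Lim.exists_isClosedImmersion_comp E ((Over.forget S).mapCone c)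
    (Limits.isLimitOfPreserves (Over.forget S) hc) i₀ (D.obj i₀).hom h'

end Groth.Agent.S2076
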