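import Groth.Statements.S2083
import Groth.Agent.IdealDepth.CM

set_option autoImplicit false
universe u
open CAlg

namespace Groth.Agent.S2083

/-- Let `R` be a Noetherian local ring, `M` a finite Cohen–Macaulay `R`-module and `g` a member of the
maximal ideal for which the support of `M/gM` has dimension exactly one less than that of `M`. Then
`g` is a nonzerodivisor on `M`, and the quotient `M/gM` is again Cohen–Macaulay, with depth one
smaller than that of `M`. -/
theorem result {R M : Type u} [CommRing R] [IsLocalRing R] [IsNoetherianRing R]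
    [AddCommGroup M] [Module R M] [Module.Finite R M] (hM : LocCoh.IsCohenMacaulayModule R M) (g : R)
    (hg : g ∈ IsLocalRing.maximalIdeal R)
    (hdim : Module.supportDim R (M ⧸ Ideal.span {g} • (⊤ : Submodule R M)) + 1 = Module.supportDim R M) :
    IsSMulRegular M g ∧ LocCoh.IsCohenMacaulayModule R (M ⧸ Ideal.span {g} • (⊤ : Submodule R M)) ∧
      LocCoh.depth R (M ⧸ Ideal.span {g} • (⊤ : Submodule R M)) + 1 = LocCoh.depth R M := by
  open Groth.Agent.IdealDepth in
  haveI := nontrivial_of_cm hM
  have hreg : IsSMulRegular M g := by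
    obtain ⟨x, hx, hxr⟩ : ∃ x ∈ Ideal.span {g}, IsSMulRegular M x := by
      refine exists_regular_of_associatedPrimes fun p hp hle => ?_
      have hs : Module.support R (M ⧸ Ideal.span {g} • (⊤ : Submodule R M)) ⊇ PrimeSpectrum.zeroLocus (p : Set R) := by
        rw [Module.support_quotient, Module.support_eq_zeroLocus]
        exact fun q hq => ⟨fun a ha => hq (annihilator_le_of_mem hp ha), fun a ha => hq (hle ha)⟩
      have h1 : ringKrullDim (R ⧸ p) ≤ Module.supportDim R (M ⧸ Ideal.span {g} • (⊤ : Submodule R M)) := by
        rw [ringKrullDim_quotient]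
        exact Order.krullDim_le_of_strictMono (fun q => ⟨q.1, hs q.2⟩) fun a b h => h
      rw [cm_ringKrullDim_quotient hM hp] at h1
      have h2 : Module.supportDim R M ≠ ⊤ := by
        have := WithBot.coe_inj.ne.2 (idealDepth_ne_top (M := M) (IsLocalRing.maximalIdeal.isMaximal R).ne_top)
        rw [show Module.supportDim R M = ((LocCoh.depth R M : ℕ∞) : WithBot ℕ∞) from hM]
        exact this
      rw [← hdim] at h1 h2
      revert h1 h2
      generalize Module.supportDim R (M ⧸ Ideal.span {g} • (⊤ : Submodule R M)) = d at hdim ⊢
      induction d with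
      | bot => simp at hdim; exact absurd hdim.symm (Module.supportDim_ne_bot_of_nontrivial R M)
      | coe d =>
        induction d with
        | top => intro _ h; exact absurd rfl h
        | coe d =>
          intro h1 _
          rw [← WithBot.coe_one, ← WithBot.coe_add, WithBot.coe_le_coe] at h1
          have : d + 1 ≤ d := ENat.coe_le_coe.1 (by exact_mod_cast h1)
          omega
    obtain ⟨c, rfl⟩ := Ideal.mem_span_singleton'.1 hx
    exact IsSMulRegular.of_mul (a := c) hxr
  let e : QuotSMulTop g M ≃ₗ[R] M ⧸ Ideal.span {g} • (⊤ : Submodule R M) :=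
    Submodule.quotEquivOfEq _ _ (Submodule.ideal_span_singleton_smul g ⊤).symm
  refine ⟨hreg, ?_, ?_⟩
  · have := cm_quotSMulTop hM hg hreg
    unfold LocCoh.IsCohenMacaulayModule LocCoh.depth at this ⊢
    rw [← Module.supportDim_eq_of_equiv e, ← congr _ e]
    exact this
  · unfold LocCoh.depth
    rw [← congr _ e]
    exact add_one_eq hg hreg

end Groth.Agent.S2083
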