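import Groth.Statements.S2086
import Groth.Agent.FibreDepth.FlatSk

set_option autoImplicit false
set_option backward.isDefEq.respectTransparency false
set_option linter.style.haveILetI false
universe u
open CAlg

namespace Groth.Agent.S2086

/-- Let `R → S` be a flat map of Noetherian rings such that `R` and all fibre rings `S ⊗ κ(𝔭)` satisfy
Serre's condition `(S_k)`. Then `S` satisfies `(S_k)`. -/
theorem result {R S : Type u} [CommRing R] [CommRing S] [IsNoetherianRing R] [IsNoetherianRing S]
    [Algebra R S] [Module.Flat R S] (k : ℕ) (hR : LocCoh.HasSk k R R)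
    (hfib : ∀ (p : Ideal R) [p.IsPrime], LocCoh.HasSk k (p.Fiber S) (p.Fiber S)) :
    LocCoh.HasSk k S S := by
  refine (Groth.Agent.IdealDepth.Serre.hasSk_self_iff S k).mpr fun P _ => ?_
  have hR' := (Groth.Agent.IdealDepth.Serre.hasSk_self_iff R k).mp hR (P.comap (algebraMap R S))
  let p : PrimeSpectrum R := ⟨P.comap (algebraMap R S), inferInstance⟩
  let Q := PrimeSpectrum.preimageEquivFiber R S p ⟨⟨P, inferInstance⟩, rfl⟩
  have hQ : Q.asIdeal.comap (Algebra.TensorProduct.includeRight : S →ₐ[R] p.asIdeal.Fiber S).toRingHom = P :=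
    congrArg (fun z => z.1.asIdeal)
      ((PrimeSpectrum.preimageEquivFiber R S p).symm_apply_apply ⟨⟨P, inferInstance⟩, rfl⟩)
  haveI := Groth.Agent.FibreDepth.FlatSk.isLocalRing_fib (R := R) P
  obtain ⟨c, hdim, hht, hd, -⟩ := Groth.Agent.FibreDepth.FlatSk.facts (R := R) P
  have hS' := (Groth.Agent.IdealDepth.Serre.hasSk_self_iff (p.asIdeal.Fiber S) k).mp (hfib p.asIdeal) Q.asIdeal
  have key : ∀ (P' : Ideal S) [P'.IsPrime], P' = P →
      Nonempty (Groth.Agent.FibreDepth.FlatSk.Fib R P ≃+*
        (Localization.AtPrime P' ⧸ (p.asIdeal.map (algebraMap R S)).map (algebraMap S (Localization.AtPrime P')))) := by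
    rintro P' _ rfl
    exact ⟨RingEquiv.refl _⟩
  obtain ⟨e₀⟩ := key (Q.asIdeal.comap Algebra.TensorProduct.includeRight) hQ
  let e : Groth.Agent.FibreDepth.FlatSk.Fib R P ≃+* Localization.AtPrime Q.asIdeal :=
    e₀.trans (Ideal.Fiber.algEquivAux₂ p.asIdeal Q.asIdeal).symm.toRingEquiv
  rw [← Groth.Agent.Segre.CM.depth_congr e] at hS'
  have hQh : Q.asIdeal.height = c := by
    refine WithBot.coe_injective ?_
    rw [← IsLocalization.AtPrime.ringKrullDim_eq_height Q.asIdeal (Localization.AtPrime Q.asIdeal),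
      ← ringKrullDim_eq_of_ringEquiv e, hdim]
  rw [hQh] at hS'
  rw [hd, hht]
  rcases le_total (k : ℕ∞) (P.comap (algebraMap R S)).height with h | h
  · exact (min_le_left _ _).trans (((min_eq_left h).ge.trans hR').trans le_self_add)
  rcases le_total (k : ℕ∞) c with h' | h'
  · exact (min_le_left _ _).trans (((min_eq_left h').ge.trans hS').trans le_add_self)
  rw [min_eq_right h] at hR'
  rw [min_eq_right h'] at hS'
  exact (min_le_right _ _).trans (add_le_add hR' hS')

end Groth.Agent.S2086
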