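import Groth.Statements.S2088
import Groth.Agent.ResidueExt.Construction

set_option autoImplicit false
universe u
open CAlg

namespace Groth.Agent.S2088

/-- Let `(R, 𝔪, k)` be a local ring and `K/k` a field extension. Then there is a flat local homomorphism
of local rings `R → R'` with `𝔪R' = 𝔪_{R'}` whose residue field is isomorphic to `K` over `k`. -/
theorem result {R K : Type u} [CommRing R] [IsLocalRing R] [Field K]
    [Algebra (IsLocalRing.ResidueField R) K] :
    ∃ (R' : Type u) (_ : CommRing R') (_ : IsLocalRing R') (_ : Algebra R R') (_ : IsLocalHom (algebraMap R R')),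
      Module.Flat R R' ∧ (IsLocalRing.maximalIdeal R).map (algebraMap R R') = IsLocalRing.maximalIdeal R' ∧
      Nonempty (IsLocalRing.ResidueField R' ≃ₐ[IsLocalRing.ResidueField R] K) := by
  obtain ⟨S, _, _, _, ψ, hflat, hmax, hsurj, hker, hcompat⟩ :=
    Groth.Agent.ResidueExt.Construction.exists_flat_extension R K
  have : IsLocalHom (algebraMap R S) :=
    ((IsLocalRing.local_hom_TFAE (algebraMap R S)).out 0 2).2 hmax.le
  refine ⟨S, inferInstance, inferInstance, inferInstance, this, hflat, hmax, ?_⟩
  let ψ' : IsLocalRing.ResidueField S →ₐ[IsLocalRing.ResidueField R] K :=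
    { Ideal.Quotient.lift (IsLocalRing.maximalIdeal S) ψ hker.ge with
      commutes' := fun c => by
        obtain ⟨r, rfl⟩ := IsLocalRing.residue_surjective c
        exact hcompat r }
  refine ⟨AlgEquiv.ofBijective ψ' ⟨RingHom.injective ψ'.toRingHom, fun x => ?_⟩⟩
  obtain ⟨s, hs⟩ := hsurj x
  exact ⟨IsLocalRing.residue S s, hs⟩

end Groth.Agent.S2088
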