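import Groth.Statements.S2096
import Groth.Agent.HensPoint.IndEtale

set_option autoImplicit false
universe u
open CAlg

namespace Groth.Agent.S2096

/-- Let `B` be a Noetherian ind-étale `A`-algebra (a filtered colimit of étale algebras) and `𝔭` a prime
of `A`. Then only finitely many primes of `B` lie over `𝔭`, the fibre ring `B ⊗ κ(𝔭)` is reduced of
dimension zero, and each residue field extension `κ(𝔮)/κ(𝔭)` is separable algebraic. -/
theorem result {A B : Type u} [CommRing A] [CommRing B] [Algebra A B] (hB : EtPBC.IsIndEtale A B)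
    [IsNoetherianRing B] (p : Ideal A) [p.IsPrime] :
    {q : PrimeSpectrum B | q.asIdeal.LiesOver p}.Finite ∧ IsReduced (p.Fiber B) ∧ ringKrullDim (p.Fiber B) ≤ 0 ∧
      ∀ (q : Ideal B) [q.IsPrime] [q.LiesOver p],
        @Algebra.IsSeparable p.ResidueField q.ResidueField _ _
          (Ideal.ResidueField.mapₐ p q (Algebra.ofId A B) (q.over_def p)).toRingHom.toAlgebra := by
  classical
  have hE := HensPoint.IndEtale.isEtColim_of_isIndEtale hB
  obtain ⟨n, K, iF, iA, hsep, ⟨e⟩⟩ := hE.fibre p
  have : IsArtinianRing (∀ i, K i) := inferInstance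
  have : IsArtinianRing (p.Fiber B) := e.symm.toRingEquiv.surjective.isArtinianRing
  have hred : IsReduced (p.Fiber B) := isReduced_of_injective e.toRingEquiv e.injective
  refine ⟨?_, hred, ?_, fun q hqp hlo => ?_⟩
  · have : Finite (PrimeSpectrum.comap (algebraMap A B) ⁻¹' {(⟨p, inferInstance⟩ : PrimeSpectrum A)}) :=
      (PrimeSpectrum.preimageEquivFiber A B ⟨p, inferInstance⟩).finite_iff.mpr inferInstance
    refine Set.Finite.subset (Set.toFinite (PrimeSpectrum.comap (algebraMap A B) ⁻¹' {(⟨p, inferInstance⟩ : PrimeSpectrum A)})) fun q hq => ?_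
    exact PrimeSpectrum.ext (show q.asIdeal.comap (algebraMap A B) = p from hq.over.symm)
  · exact Ring.krullDimLE_iff.mp (inferInstance : Ring.KrullDimLE 0 (p.Fiber B))
  · let g : p.ResidueField →ₐ[A] q.ResidueField :=
      Ideal.ResidueField.mapₐ p q (Algebra.ofId A B) (q.over_def p)
    letI alg : Algebra p.ResidueField q.ResidueField := g.toRingHom.toAlgebra
    have : IsScalarTower A p.ResidueField q.ResidueField := IsScalarTower.of_algebraMap_eq fun a => (g.commutes a).symm
    let Ψ : p.Fiber B →ₐ[p.ResidueField] q.ResidueField :=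
      Algebra.TensorProduct.lift (Algebra.ofId _ _) (IsScalarTower.toAlgHom A B q.ResidueField)
        fun _ _ => Commute.all _ _
    let φ : (∀ i, K i) →ₐ[p.ResidueField] q.ResidueField := Ψ.comp e.symm.toAlgHom
    obtain ⟨i, hi⟩ : ∃ i, φ (Pi.single i 1) ≠ 0 := by
      by_contra! hall
      refine one_ne_zero (α := q.ResidueField) ?_
      rw [← map_one φ, ← Finset.univ_sum_single (1 : ∀ i, K i), map_sum]
      exact Finset.sum_eq_zero fun j _ => hall j
    have h1 : φ (Pi.single i 1) = 1 := by
      refine mul_left_cancel₀ hi ?_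
      rw [← map_mul, ← Pi.single_mul, one_mul, mul_one]
    have hφ : ∀ x, φ x = φ (Pi.single i (x i)) := fun x => by
      conv_lhs => rw [← mul_one (φ x), ← h1, ← map_mul]
      congr 1
      rw [← Pi.single_mul_right, mul_one]
    let φi : K i →ₐ[p.ResidueField] q.ResidueField :=
      { toFun := fun c => φ (Pi.single i c)
        map_one' := h1
        map_mul' := fun a b => by rw [← map_mul, ← Pi.single_mul]
        map_zero' := by rw [Pi.single_zero, map_zero]
        map_add' := fun a b => by rw [← map_add, Pi.single_add]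
        commutes' := fun c => by
          refine ((hφ (algebraMap p.ResidueField (∀ i, K i) c)).symm.trans ?_)
          exact φ.commutes c }
    have hsurj : Function.Surjective φi := fun z => by
      obtain ⟨z, rfl⟩ := IsLocalRing.residue_surjective z
      obtain ⟨b, s, rfl⟩ := IsLocalization.exists_mk'_eq q.primeCompl z
      have hB' : ∀ b : B, φi (e ((1 : p.ResidueField) ⊗ₜ b) i) = algebraMap B q.ResidueField b := fun b => by
        show φ _ = _
        rw [← hφ]
        show Ψ (e.symm (e _)) = _
        rw [e.symm_apply_apply]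
        simp [Ψ]
      have hs : algebraMap B q.ResidueField s ≠ 0 := fun h => s.2 (Ideal.algebraMap_residueField_eq_zero.mp h)
      refine ⟨e ((1 : p.ResidueField) ⊗ₜ b) i / e ((1 : p.ResidueField) ⊗ₜ (s : B)) i, ?_⟩
      rw [map_div₀, hB', hB', div_eq_iff hs]
      have h2 := congrArg (IsLocalRing.residue (Localization.AtPrime q)) (IsLocalization.mk'_spec (Localization.AtPrime q) b s)
      rw [map_mul] at h2
      exact h2.symm
    have := hsep i
    exact AlgEquiv.Algebra.isSeparable (AlgEquiv.ofBijective φi ⟨φi.toRingHom.injective, hsurj⟩)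

end Groth.Agent.S2096
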