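import Groth.Statements.S2097
import Mathlib.RingTheory.Smooth.Basic
import Mathlib.RingTheory.FinitePresentation
import Mathlib.RingTheory.Nilpotent.Lemmas

set_option autoImplicit false
universe u
open CAlg

namespace Groth.Agent.S2097

/-- Let `R → S` be smooth, `A` an `R`-algebra and `I ⊆ A` an ideal all of whose elements are nilpotent.
Every `R`-algebra map `S → A/I` lifts to an `R`-algebra map `S → A`. -/
theorem result {R S A : Type u} [CommRing R] [CommRing S] [Algebra R S] [Algebra.Smooth R S]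
    [CommRing A] [Algebra R A] (I : Ideal A) (hI : ∀ x ∈ I, IsNilpotent x) (g : S →ₐ[R] A ⧸ I) :
    ∃ f : S →ₐ[R] A, (Ideal.Quotient.mkₐ R I).comp f = g := by
  obtain ⟨n, π, hπ, hker⟩ := Algebra.FinitePresentation.out (R := R) (A := S)
  choose a ha using fun i => Ideal.Quotient.mk_surjective (g (π (MvPolynomial.X i)))
  obtain ⟨G, hG⟩ := hker
  let I₀ : Ideal A := Ideal.span ((MvPolynomial.aeval a) '' (G : Set (MvPolynomial (Fin n) R)))
  have hmk : (Ideal.Quotient.mkₐ R I).comp (MvPolynomial.aeval a) = g.comp π := by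
    apply MvPolynomial.algHom_ext
    intro i
    simp [ha]
  have hI₀ : I₀ ≤ I := by
    refine Ideal.span_le.2 ?_
    rintro _ ⟨f, hf, rfl⟩
    have h0 : π f = 0 := RingHom.mem_ker.1 (hG ▸ Submodule.subset_span hf)
    have := AlgHom.congr_fun hmk f
    rw [AlgHom.comp_apply, AlgHom.comp_apply, h0, map_zero] at this
    exact Ideal.Quotient.eq_zero_iff_mem.1 this
  have hnil : IsNilpotent I₀ := by
    have hfg : I₀.FG := Submodule.fg_span (G.finite_toSet.image _)
    obtain ⟨k, hk⟩ := Ideal.exists_pow_le_of_le_radical_of_fg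
      (show I₀ ≤ (⊥ : Ideal A).radical from fun x hx => by
        obtain ⟨k, hk⟩ := hI x (hI₀ hx)
        exact ⟨k, by simp [hk]⟩) hfg
    exact ⟨k, eq_bot_iff.2 hk⟩
  let g₀' : MvPolynomial (Fin n) R →ₐ[R] A ⧸ I₀ :=
    (Ideal.Quotient.mkₐ R I₀).comp (MvPolynomial.aeval a)
  have hk0 : RingHom.ker π.toRingHom ≤ RingHom.ker g₀'.toRingHom := by
    rw [← hG]
    refine Submodule.span_le.2 fun f hf => ?_
    exact Ideal.Quotient.eq_zero_iff_mem.2 (Ideal.subset_span ⟨f, hf, rfl⟩)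
  let g₀ : S →ₐ[R] A ⧸ I₀ := AlgHom.liftOfSurjective π hπ g₀' hk0
  obtain ⟨f, hf⟩ := Algebra.FormallySmooth.exists_lift I₀ hnil g₀
  refine ⟨f, AlgHom.ext fun s => ?_⟩
  obtain ⟨p, rfl⟩ := hπ s
  have h2 : Ideal.Quotient.mk I₀ (f (π p)) = Ideal.Quotient.mk I₀ (MvPolynomial.aeval a p) := by
    have := AlgHom.congr_fun hf (π p)
    simpa [g₀, g₀'] using this
  have := AlgHom.congr_fun hmk p
  simp only [AlgHom.comp_apply, Ideal.Quotient.mkₐ_eq_mk] at this ⊢
  rw [← this, Ideal.Quotient.eq]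
  exact hI₀ (Ideal.Quotient.eq.1 h2)

end Groth.Agent.S2097
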