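import Groth.Statements.S2098
import Groth.Agent.Completion.ArtinReesHom
import Mathlib.RingTheory.Nakayama
import Mathlib.RingTheory.OrzechProperty
import Mathlib.RingTheory.FiniteType

set_option autoImplicit false
universe u
open CAlg

namespace Groth.Agent.S2098

/-- Let `R` be Noetherian, `I` an ideal inside the Jacobson radical and `u : N → M` a map of finite
`R`-modules. If for arbitrarily large `n` the induced map `N/IⁿN → M/IⁿM` has a left inverse, then
`u` has a left inverse. -/
theorem result {R M N : Type u} [CommRing R] [IsNoetherianRing R] (I : Ideal R)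
    (hI : I ≤ (⊥ : Ideal R).jacobson) [AddCommGroup M] [Module R M] [Module.Finite R M] [AddCommGroup N] [Module R N]
    [Module.Finite R N] (u : N →ₗ[R] M)
    (h : ∀ n₀ : ℕ, ∃ n, n₀ ≤ n ∧ ∃ s : (M ⧸ (I ^ n) • (⊤ : Submodule R M)) →ₗ[R] (N ⧸ (I ^ n) • (⊤ : Submodule R N)),
      ∀ x : N, s (Submodule.Quotient.mk (u x)) = Submodule.Quotient.mk x) :
    ∃ s : M →ₗ[R] N, s.comp u = LinearMap.id := by
  obtain ⟨c, hlift, -⟩ := Groth.Agent.Completion.ArtinReesHom.exists_hom_lift_bound I (M := M) (N := N)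
  obtain ⟨n, hn, s, hs⟩ := h (c + 1)
  obtain ⟨φ, hφ, -⟩ := hlift n (s ∘ₗ Submodule.mkQ _)
  have hsub : ∀ x : N, x - φ (u x) ∈ I • (⊤ : Submodule R N) := by
    intro x
    have h1 := LinearMap.congr_fun hφ (u x)
    rw [LinearMap.comp_apply, LinearMap.comp_apply, LinearMap.comp_apply, Submodule.mkQ_apply, hs] at h1
    have h2 := (Submodule.Quotient.eq _).1 h1
    refine Submodule.smul_mono_left ?_ h2
    exact (Ideal.pow_le_self (by omega))
  have hsurj : Function.Surjective (φ ∘ₗ u) := by
    rw [← LinearMap.range_eq_top, eq_top_iff]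
    refine Submodule.le_of_le_smul_of_le_jacobson_bot Module.Finite.fg_top hI ?_
    intro x _
    rw [← add_sub_cancel (φ (u x)) x]
    exact Submodule.add_mem_sup ⟨x, rfl⟩ (hsub x)
  have hbij : Function.Bijective (φ ∘ₗ u) :=
    ⟨OrzechProperty.injective_of_surjective_endomorphism _ hsurj, hsurj⟩
  refine ⟨(LinearEquiv.ofBijective _ hbij).symm.toLinearMap ∘ₗ φ, LinearMap.ext fun x => ?_⟩
  exact (LinearEquiv.ofBijective _ hbij).symm_apply_apply x

end Groth.Agent.S2098
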