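import Groth.Statements.S2108
import Groth.Prelude.Def_Smoothing
import Groth.Agent.Alg.JacobianMinor

set_option autoImplicit false
universe u
open Smoothing

namespace Groth.Agent.S2108
open MvPolynomial
set_option backward.isDefEq.respectTransparency false

/-- Let `A = R[x_1, …, x_n]/(f_1, …, f_m)` and `𝔮` a prime of `A` at which `R → A` is smooth. Then there
are `a ∈ A ∖ 𝔮`, an integer `c` and injections picking `c` relations and `c` variables such that `a`
is a multiple of the image of the corresponding Jacobian minor and `a f_ℓ` lies in the ideal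
generated by the chosen relations plus the square of the relation ideal, for every `ℓ`. -/
theorem result {R A : Type u} [CommRing R] [CommRing A] [Algebra R A] {n m : ℕ}
    (f : Fin m → MvPolynomial (Fin n) R) (φ : MvPolynomial (Fin n) R →ₐ[R] A) (hφ : Function.Surjective φ)
    (hker : RingHom.ker φ.toRingHom = Ideal.span (Set.range f)) (q : Ideal A) [q.IsPrime] [Algebra.IsSmoothAt R q] :
    ∃ a : A, a ∉ q ∧ ∃ (c : ℕ) (rows : Fin c ↪ Fin m) (cols : Fin c ↪ Fin n) (a' : A),
      a = a' * φ (Smoothing.jacobianMinor f rows cols) ∧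
      ∀ a₁ : MvPolynomial (Fin n) R, φ a₁ = a → ∀ ℓ : Fin m,
        a₁ * f ℓ ∈ Ideal.span (Set.range (f ∘ rows)) ⊔ Ideal.span (Set.range f) ^ 2 := by
  classical
  obtain ⟨c, g, o, hg, ho, hgF, hgen, hdet⟩ := Groth.Agent.Alg.JacobianMinor.exists_minor φ hφ
    (Finset.univ.image f) (by simpa using hker) q inferInstance
    (KaehlerDifferential.mvPolynomialBasis R (Fin n))
  have hrows : ∀ i, ∃ l, f l = g i := fun i => by simpa using hgF i
  choose rows hrows using hrows
  have hrinj : Function.Injective rows := fun a b hab => hg (by rw [← hrows a, ← hrows b, hab])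
  let Δ := Smoothing.jacobianMinor f rows o
  have hΔ : Δ ∉ q.comap φ.toRingHom := by
    convert hdet using 4
    · simp [Δ, Smoothing.jacobianMinor, hrows]
  have hden : ∀ l, ∃ t ∉ q.comap φ.toRingHom, t * f l ∈ Ideal.span (Set.range (f ∘ rows)) := fun l => by
    have h1 : algebraMap _ (Localization.AtPrime (q.comap φ.toRingHom)) (f l) ∈
        (Ideal.span (Set.range (f ∘ rows))).map
          (algebraMap _ (Localization.AtPrime (q.comap φ.toRingHom))) := by
      rw [Ideal.map_span, ← Set.range_comp]
      have := hgen ▸ Ideal.mem_map_of_mem (algebraMap _ (Localization.AtPrime (q.comap φ.toRingHom)))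
        (show f l ∈ RingHom.ker φ.toRingHom from hker ▸ Ideal.subset_span ⟨l, rfl⟩)
      refine Ideal.span_mono ?_ this
      rintro _ ⟨i, rfl⟩
      exact ⟨i, by simp [hrows]⟩
    obtain ⟨⟨⟨a, ha⟩, ⟨s, hs⟩⟩, h⟩ := (IsLocalization.mem_map_algebraMap_iff
      (q.comap φ.toRingHom).primeCompl _).mp h1
    obtain ⟨⟨t, ht⟩, htt⟩ := (IsLocalization.eq_iff_exists (q.comap φ.toRingHom).primeCompl _).mp
      (show algebraMap _ (Localization.AtPrime (q.comap φ.toRingHom)) (f l * s) =
        algebraMap _ _ a by rw [map_mul]; exact h)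
    refine ⟨t * s, fun hts => ((Ideal.IsPrime.mem_or_mem inferInstance hts).elim ht hs), ?_⟩
    rw [show t * s * f l = t * (f l * s) by ring, htt]
    exact Ideal.mul_mem_left _ _ ha
  choose t ht htmem using hden
  let b := ∏ l, t l
  refine ⟨φ (b * Δ), ?_, c, ⟨rows, hrinj⟩, ⟨o, ho⟩, φ b, map_mul φ b Δ, fun a₁ ha₁ l => ?_⟩
  · intro h
    rcases Ideal.IsPrime.mem_or_mem (inferInstance : (q.comap φ.toRingHom).IsPrime)
      (show b * Δ ∈ q.comap φ.toRingHom from h) with hb | hd
    · obtain ⟨l, -, hl⟩ := (Ideal.IsPrime.prod_mem_iff (p := q.comap φ.toRingHom)).mp hb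
      exact ht l hl
    · exact hΔ hd
  · have h0 : a₁ - b * Δ ∈ Ideal.span (Set.range f) := by
      rw [← hker]; exact (RingHom.mem_ker).mpr (by simpa [sub_eq_zero] using ha₁)
    have : a₁ * f l = b * Δ * f l + (a₁ - b * Δ) * f l := by ring
    rw [this]
    refine add_mem (Submodule.mem_sup_left ?_) (Submodule.mem_sup_right ?_)
    · rw [show b * Δ * f l = (Δ * ∏ k ∈ Finset.univ.erase l, t k) * (t l * f l) by
        simp only [b]
        rw [← Finset.mul_prod_erase Finset.univ t (Finset.mem_univ l)]
        ring]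
      exact Ideal.mul_mem_left _ _ (htmem l)
    · rw [pow_two]; exact Ideal.mul_mem_mul h0 (Ideal.subset_span ⟨l, rfl⟩)

end Groth.Agent.S2108
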