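import Groth.Statements.S2111
import Groth.Agent.Misc9.NormalHartogs

set_option autoImplicit false
universe u
open CAlg

namespace Groth.Agent.S2111

/-- Let `R` be a Noetherian normal domain with fraction field `K`. An element of `K` which lies in `R_𝔭`
for every prime `𝔭` of height one lies in `R`. -/
theorem result {R : Type u} [CommRing R] [IsDomain R] [IsNoetherianRing R]
    [IsIntegrallyClosed R] (x : FractionRing R)
    (hx : ∀ (p : Ideal R) [p.IsPrime], p.height = 1 →
      x ∈ Set.range (algebraMap (Localization.AtPrime p) (FractionRing R))) :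
    x ∈ Set.range (algebraMap R (FractionRing R)) := by
  obtain ⟨r, hr⟩ := Groth.Agent.Misc9.NormalHartogs.exists_eq_of_height_one x (fun q hq h1 => by
    obtain ⟨y, hy⟩ := hx q h1
    obtain ⟨⟨r, s⟩, hrs⟩ := IsLocalization.surj q.primeCompl y
    refine ⟨s.1, s.2, r, ?_⟩
    rw [← hy, IsScalarTower.algebraMap_apply R (Localization.AtPrime q) (FractionRing R) r,
      IsScalarTower.algebraMap_apply R (Localization.AtPrime q) (FractionRing R) s.1, ← map_mul, ← hrs, mul_comm])
  exact ⟨r, hr⟩

end Groth.Agent.S2111
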