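import Groth.Statements.S2113
import Mathlib.RingTheory.Jacobson.Ring
import Mathlib.RingTheory.Ideal.KrullsHeightTheorem
import Mathlib.RingTheory.Ideal.MinimalPrime.Noetherian
import Mathlib.RingTheory.Ideal.Height
import Mathlib.RingTheory.Noetherian.Basic

set_option autoImplicit false
universe u
open CAlg

namespace Groth.Agent.S2113

/-- A Noetherian ring in which each prime is maximal or else lies below infinitely many primes is a
Jacobson ring. -/
theorem result {R : Type u} [CommRing R] [IsNoetherianRing R]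
    (h : ∀ (p : Ideal R) [p.IsPrime], p.IsMaximal ∨ {q : PrimeSpectrum R | p ≤ q.asIdeal}.Infinite) :
    IsJacobsonRing R := by
  classical
  rw [isJacobsonRing_iff_prime_eq]
  intro P
  induction P using IsNoetherian.induction (R := R) (M := R) with
  | _ p ih =>
  intro hp
  by_contra hne
  rcases h p with hmax | hinf
  · exact hne Ideal.jacobson_eq_self_of_isMaximal
  obtain ⟨a, haJ, hap⟩ := SetLike.exists_of_lt (lt_of_le_of_ne Ideal.le_jacobson (Ne.symm hne))
  have ha : ∀ q : Ideal R, q.IsPrime → p < q → a ∈ q := fun q hq hlt => by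
    have h1 := ih q hlt hq
    rw [← h1]
    exact Ideal.jacobson_mono hlt.le haJ
  let A := R ⧸ p
  let π := Ideal.Quotient.mk p
  let H := (Ideal.span {π a}).minimalPrimes
  have hH : H.Finite := Ideal.finite_minimalPrimes_of_isNoetherianRing A _
  have haQ : ∀ Q : Ideal A, Q.IsPrime → Q ≠ ⊥ → π a ∈ Q := fun Q hQ hQ0 => by
    refine ha (Q.comap π) (Ideal.IsPrime.comap π) (lt_of_le_of_ne (fun r hr => ?_) fun heq => hQ0 ?_)
    · rw [Ideal.mem_comap, show π r = 0 from Ideal.Quotient.eq_zero_iff_mem.2 hr]; exact zero_mem _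
    · rw [← Ideal.map_comap_of_surjective π Ideal.Quotient.mk_surjective Q, ← heq, Ideal.map_quotient_self]
  have hall : ∀ Q : Ideal A, Q.IsPrime → Q ≠ ⊥ → Q ∈ H := by
    intro Q hQ hQ0
    have hsub : (Q : Set A) ⊆ ⋃ i ∈ H, (id i : Ideal A) := by
      intro x hx
      obtain ⟨P₀, hP₀, -⟩ := Ideal.exists_minimalPrimes_le (show Ideal.span {π a} ≤ Q by
        rw [Ideal.span_singleton_le_iff_mem]; exact haQ Q hQ hQ0)
      by_cases hx0 : x = 0
      · subst hx0
        exact Set.mem_biUnion hP₀ (zero_mem _)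
      obtain ⟨P, hP, hPQ⟩ := Ideal.exists_minimalPrimes_le (show Ideal.span {x} ≤ Q by
        rw [Ideal.span_singleton_le_iff_mem]; exact hx)
      haveI : (Ideal.span {x}).IsPrincipal := ⟨⟨x, rfl⟩⟩
      have hxP : x ∈ P := hP.1.2 (Ideal.mem_span_singleton_self x)
      have hPp : P.IsPrime := hP.1.1
      have hh := Ideal.height_le_one_of_isPrincipal_of_mem_minimalPrimes (Ideal.span {x}) P hP
      obtain ⟨P', hP', hP'P⟩ := Ideal.exists_minimalPrimes_le (show Ideal.span {π a} ≤ P by
        rw [Ideal.span_singleton_le_iff_mem]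
        exact haQ P hPp fun h0 => hx0 (by rw [h0] at hxP; simpa using hxP))
      have hP'p : P'.IsPrime := hP'.1.1
      have haP' : π a ∈ P' := hP'.1.2 (Ideal.mem_span_singleton_self _)
      rcases hP'P.eq_or_lt with rfl | hlt
      · exact Set.mem_biUnion hP' hxP
      · exfalso
        have hfin : P'.FiniteHeight := inferInstance
        have h2 := Ideal.height_strict_mono_of_isPrime hlt
        have h0 : P'.height = 0 := Order.lt_one_iff.1 (lt_of_lt_of_le h2 hh)
        rw [Ideal.height_eq_zero_iff_eq_bot] at h0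
        rw [h0, Ideal.mem_bot] at haP'
        exact hap (Ideal.Quotient.eq_zero_iff_mem.1 haP')
    obtain ⟨P'', hP'', hle⟩ := (Ideal.subset_union_prime_finite hH ⊥ ⊥ (f := id) (fun i hi _ _ => hi.1.1)).1 hsub
    have hQm : Ideal.span {π a} ≤ Q := by rw [Ideal.span_singleton_le_iff_mem]; exact haQ Q hQ hQ0
    exact (le_antisymm hle (hP''.2 ⟨hQ, hQm⟩ hle)) ▸ hP''
  refine hinf ((((hH.union (Set.finite_singleton ⊥)).image (Ideal.comap π)).preimage (f := fun q : PrimeSpectrum R => q.asIdeal) ?_).subset fun q hq => ?_)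
  · exact fun x _ y _ hxy => PrimeSpectrum.ext hxy
  · refine ⟨q.asIdeal.map π, ?_, ?_⟩
    · by_cases h0 : q.asIdeal.map π = ⊥
      · exact Or.inr h0
      · exact Or.inl (hall _ (Ideal.map_isPrime_of_surjective Ideal.Quotient.mk_surjective (by rw [Ideal.mk_ker]; exact hq)) h0)
    · rw [Ideal.comap_map_of_surjective π Ideal.Quotient.mk_surjective, ← RingHom.ker_eq_comap_bot, Ideal.mk_ker]
      exact sup_eq_left.2 hq

end Groth.Agent.S2113
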