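import Groth.Statements.S2117
import Groth.Agent.Alg.PBasis.Smooth
import Mathlib.RingTheory.Smooth.AdicCompletion
import Mathlib.LinearAlgebra.TensorProduct.Basis
import Mathlib.RingTheory.LocalRing.ResidueField.Basic

set_option autoImplicit false
universe u
open CAlg

namespace Groth.Agent.S2117
open Groth.Agent.Alg TensorProduct IsLocalRing

/-- Let k be a field of characteristic p > 0 and K a field extension of k. Then K is geometrically
reduced over k (equivalently, K/k is separable: every finitely generated subextension is separably
generated) if and only if the natural base-change map K ⊗_k Ω_{k/ℤ} → Ω_{K/ℤ} on absolute Kähler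
differentials is injective. -/
theorem result {k K : Type u} [Field k] [Field K] [Algebra k K] (p : ℕ)
    [Fact p.Prime] [CharP k p] :
    Algebra.IsGeometricallyReduced k K ↔ Function.Injective (KaehlerDifferential.mapBaseChange ℤ k K) := by
  have : CharP K p := charP_of_injective_algebraMap (algebraMap k K).injective p
  obtain ⟨S, hS⟩ := PBasis.exists_pBasis p k
  obtain ⟨e, he⟩ := PBasis.exists_kaehlerEquiv p (PBasis.powField_hA p (k := k))
  let b₁ : Module.Basis S k (Ω[k⁄PBasis.powField p k]) :=
    Module.Basis.mk ((PBasis.independent_iff p _).mp hS.1) ((PBasis.generating_iff p _).mp hS.2).ge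
  let b : Module.Basis S K (K ⊗[k] Ω[k⁄ℤ]) := (b₁.map e.symm).baseChange K
  have hb : ∀ s : S, KaehlerDifferential.mapBaseChange ℤ k K (b s) =
      KaehlerDifferential.D ℤ K (algebraMap k K s) := fun s => by
    have h1 : b₁.map e.symm s = KaehlerDifferential.D ℤ k (s : k) := by
      rw [Module.Basis.map_apply, LinearEquiv.symm_apply_eq, he]
      exact Module.Basis.mk_apply _ _ s
    rw [show b s = (1 : K) ⊗ₜ b₁.map e.symm s from Module.Basis.baseChange_apply _ _ s, h1,
      KaehlerDifferential.mapBaseChange_tmul, one_smul, KaehlerDifferential.map_D]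
  rw [PBasis.geometricallyReduced_iff p hS, ← LinearMap.ker_eq_bot]
  rw [show (fun s : S => KaehlerDifferential.D ℤ K (algebraMap k K (s : k))) =
    KaehlerDifferential.mapBaseChange ℤ k K ∘ b from funext fun s => (hb s).symm]
  refine ⟨fun h => ?_, fun h => b.linearIndependent.map' _ h⟩
  have h' := Submodule.range_ker_disjoint h
  rw [b.span_eq] at h'
  exact disjoint_top.mp h'.symm

end Groth.Agent.S2117
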