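import Groth.Statements.S2119
import Mathlib.RingTheory.UniqueFactorizationDomain.Basic
import Mathlib.Tactic.Ring

set_option autoImplicit false
universe u
open CAlg

namespace Groth.Agent.S2119


lemma split_mul {A : Type u} [CommRing A] [IsDomain A] {P : Set A} (hP : ∀ p ∈ P, Prime p)
    {s : A} (hs : s ∈ Submonoid.closure P) :
    ∀ x a b : A, a * b = x * s → ∃ a' b' s₁ s₂, a = a' * s₁ ∧ b = b' * s₂ ∧ x = a' * b' ∧
      s₁ ∈ Submonoid.closure P ∧ s₂ ∈ Submonoid.closure P := by
  induction hs using Submonoid.closure_induction with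
  | mem p hp =>
    intro x a b h
    rcases (hP p hp).dvd_or_dvd (h ▸ dvd_mul_left p x : p ∣ a * b) with ⟨c, rfl⟩ | ⟨c, rfl⟩
    · refine ⟨c, b, p, 1, mul_comm _ _, (mul_one b).symm, ?_, Submonoid.subset_closure hp, one_mem _⟩
      exact mul_left_cancel₀ (hP p hp).ne_zero (by rw [← mul_assoc, h, mul_comm])
    · refine ⟨a, c, 1, p, (mul_one a).symm, mul_comm _ _, ?_, one_mem _, Submonoid.subset_closure hp⟩
      exact mul_left_cancel₀ (hP p hp).ne_zero (by rw [mul_left_comm, h, mul_comm])
  | one => exact fun x a b h => ⟨a, b, 1, 1, by simp, by simp, by simpa using h.symm, one_mem _, one_mem _⟩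
  | mul s t _ _ hs ht =>
    intro x a b h
    obtain ⟨a', b', t₁, t₂, rfl, rfl, h', h₁, h₂⟩ := ht (x * s) a b (by rw [h, mul_assoc])
    obtain ⟨a'', b'', s₁, s₂, rfl, rfl, h'', h₃, h₄⟩ := hs x a' b' h'.symm
    exact ⟨a'', b'', s₁ * t₁, s₂ * t₂, by rw [mul_assoc], by rw [mul_assoc], h'',
      mul_mem h₃ h₁, mul_mem h₄ h₂⟩

lemma dvd_cancel {A : Type u} [CommRing A] [IsDomain A] {P : Set A} (hP : ∀ p ∈ P, Prime p)
    {x : A} (hx : ∀ p ∈ P, ¬ p ∣ x) {s : A} (hs : s ∈ Submonoid.closure P) :
    ∀ y : A, s ∣ x * y → s ∣ y := by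
  induction hs using Submonoid.closure_induction with
  | mem p hp => exact fun y h => ((hP p hp).dvd_or_dvd h).resolve_left (hx p hp)
  | one => exact fun y _ => one_dvd y
  | mul s t _ _ hs ht =>
    intro y h
    obtain ⟨z, rfl⟩ := hs y (dvd_trans (dvd_mul_right s t) h)
    rcases eq_or_ne s 0 with rfl | hs0
    · simp
    · refine mul_dvd_mul_left s (ht z ?_)
      rwa [mul_left_comm, mul_dvd_mul_iff_left hs0] at h

/-- Nagata's criterion for factoriality, final assertion: let `A` be a domain in which every nonzero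
nonunit factors into irreducibles, and `S` the multiplicative subset generated by a set of prime
elements. If the localization `S⁻¹A` is a unique factorization domain, then so is `A`. -/
theorem result {A : Type u} [CommRing A] [IsDomain A]
    (hfac : ∀ a : A, a ≠ 0 → ¬ IsUnit a → ∃ f : Multiset A, (∀ b ∈ f, Irreducible b) ∧ Associated f.prod a) (P : Set A)
    (hP : ∀ p ∈ P, Prime p) [IsDomain (Localization (Submonoid.closure P))]
    (hS : UniqueFactorizationMonoid (Localization (Submonoid.closure P))) : UniqueFactorizationMonoid A := by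
  classical
  let S := Submonoid.closure P
  let L := Localization S
  have hnz : S ≤ nonZeroDivisors A := by
    rw [Submonoid.closure_le]
    exact fun p hp => mem_nonZeroDivisors_of_ne_zero (hP p hp).ne_zero
  have hinj : Function.Injective (algebraMap A L) := IsLocalization.injective L hnz
  have hsu : ∀ s ∈ S, IsUnit (algebraMap A L s) := fun s hs => IsLocalization.map_units L ⟨s, hs⟩
  have key : ∀ x : A, Irreducible x → Prime x := by
    intro x hx
    by_cases hx' : ∃ p ∈ P, p ∣ x
    · obtain ⟨p, hp, hpx⟩ := hx'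
      exact ((hP p hp).irreducible.associated_of_dvd hx hpx).prime (hP p hp)
    push Not at hx'
    -- cancelling elements of `S`
    have hcancel : ∀ s ∈ S, ∀ a : A, x ∣ a * s → x ∣ a := by
      rintro s hs a ⟨w, hw⟩
      obtain ⟨v, rfl⟩ := dvd_cancel hP hx' hs w ⟨a, by rw [← hw, mul_comm]⟩
      exact ⟨v, mul_right_cancel₀ (nonZeroDivisors.ne_zero (hnz hs)) (by rw [hw]; ring)⟩
    have hdvd : ∀ a : A, algebraMap A L x ∣ algebraMap A L a → x ∣ a := by
      rintro a ⟨z, hz⟩
      obtain ⟨⟨w, s⟩, hws⟩ := IsLocalization.surj S z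
      refine hcancel s s.2 a ⟨w, hinj ?_⟩
      rw [map_mul, map_mul, hz, mul_assoc, hws]
    have hirr : Irreducible (algebraMap A L x) := by
      refine ⟨fun hu => hx.not_isUnit (isUnit_of_dvd_one (hdvd 1 ?_)), fun u v huv => ?_⟩
      · rw [map_one]; exact isUnit_iff_dvd_one.mp hu
      obtain ⟨⟨a, s⟩, has⟩ := IsLocalization.surj S u
      obtain ⟨⟨b, t⟩, hbt⟩ := IsLocalization.surj S v
      have hab : a * b = x * (s * t : S) := hinj (by
        rw [map_mul, map_mul, ← has, ← hbt, huv, Submonoid.coe_mul, map_mul]; ring)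
      obtain ⟨a', b', s₁, s₂, rfl, rfl, hx1, hs₁, hs₂⟩ := split_mul hP (s * t).2 x a b hab
      rcases hx.isUnit_or_isUnit hx1 with h | h
      · left
        refine isUnit_of_mul_isUnit_left (y := algebraMap A L s) ?_
        rw [has, map_mul]
        exact (h.map _).mul (hsu _ hs₁)
      · right
        refine isUnit_of_mul_isUnit_left (y := algebraMap A L t) ?_
        rw [hbt, map_mul]
        exact (h.map _).mul (hsu _ hs₂)
    have hpr : Prime (algebraMap A L x) := UniqueFactorizationMonoid.irreducible_iff_prime.mp hirr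
    refine ⟨hx.ne_zero, hx.not_isUnit, fun a b hab => ?_⟩
    rcases hpr.dvd_or_dvd (by rw [← map_mul]; exact map_dvd _ hab :
        algebraMap A L x ∣ algebraMap A L a * algebraMap A L b) with h | h
    · exact .inl (hdvd _ h)
    · exact .inr (hdvd _ h)
  refine UniqueFactorizationMonoid.of_exists_prime_factors fun a ha => ?_
  by_cases hu : IsUnit a
  · exact ⟨0, by simp, by simpa [associated_one_iff_isUnit, Associated.comm] using hu⟩
  · obtain ⟨f, hf, hfa⟩ := hfac a ha hu
    exact ⟨f, fun b hb => key b (hf b hb), hfa⟩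

end Groth.Agent.S2119
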