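import Groth.Statements.S2120
import Mathlib.AlgebraicGeometry.Morphisms.UniversallyClosed
import Mathlib.AlgebraicGeometry.Morphisms.Separated
import Mathlib.AlgebraicGeometry.Morphisms.Immersion
import Mathlib.AlgebraicGeometry.Morphisms.FiniteType
import Mathlib.AlgebraicGeometry.Morphisms.QuasiSeparated
import Mathlib.AlgebraicGeometry.Noetherian
import Mathlib.AlgebraicGeometry.Limits
import Mathlib.AlgebraicGeometry.ValuativeCriterion
import Mathlib.AlgebraicGeometry.PullbackCarrier
import Mathlib.AlgebraicGeometry.FunctionField
import Mathlib.Topology.Algebra.ClopenNhdofOne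
import Mathlib.RingTheory.Ideal.Height
import Mathlib.RingTheory.Ideal.KrullsHeightTheorem

set_option autoImplicit false
universe u
open CategoryTheory AlgebraicGeometry
open Mor

namespace Groth.Agent.S2120
open CategoryTheory CategoryTheory.Limits AlgebraicGeometry TopologicalSpace

/-- Let `f : X → Y` be surjective and universally closed. If `X` is quasi-separated then so is `Y`; if
`X` is separated then so is `Y`. -/
theorem result {X Y : Scheme.{u}} (f : X ⟶ Y) [Surjective f] [UniversallyClosed f] :
    (QuasiSeparatedSpace X → QuasiSeparatedSpace Y) ∧ (X.IsSeparated → Y.IsSeparated) := by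
  refine ⟨fun h => ⟨fun U V hU hUc hV hVc => ?_⟩, fun h => ?_⟩
  · have h1 := QuasiSeparatedSpace.inter_isCompact _ _ (hU.preimage f.continuous) (f.isCompact_preimage (U := ⟨U, hU⟩) hUc) (hV.preimage f.continuous) (f.isCompact_preimage (U := ⟨V, hV⟩) hVc)
    have := h1.image f.continuous
    rwa [← Set.preimage_inter, Set.image_preimage_eq _ f.surjective] at this
  · let F := pullback.map (terminal.from X) (terminal.from X) (terminal.from Y) (terminal.from Y) f f (𝟙 _) (by simp) (by simp)
    have hF : UniversallyClosed F := MorphismProperty.pullbackMap (P := @UniversallyClosed) (i₁ := f) (i₂ := f) inferInstance inferInstance (terminal.comp_from f).symm (terminal.comp_from f).symm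
    have e : pullback.diagonal (terminal.from X) ≫ F = f ≫ pullback.diagonal (terminal.from Y) := by
      apply pullback.hom_ext <;> simp [F, pullback.lift_fst, pullback.lift_snd, pullback.diagonal, pullback.lift_fst_assoc, pullback.lift_snd_assoc]
    have hr : IsClosed (Set.range (pullback.diagonal (terminal.from Y))) := by
      have hh : Set.range (pullback.diagonal (terminal.from Y)) = F '' Set.range (pullback.diagonal (terminal.from X)) := by
        rw [← Set.range_comp]
        ext z; constructor
        · rintro ⟨y, rfl⟩; obtain ⟨x, rfl⟩ := f.surjective y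
          exact ⟨x, by rw [Function.comp_apply, ← Scheme.Hom.comp_apply, e]; rfl⟩
        · rintro ⟨x, rfl⟩
          exact ⟨f x, by rw [Function.comp_apply, ← Scheme.Hom.comp_apply, ← Scheme.Hom.comp_apply, e]⟩
      rw [hh]
      exact F.isClosedMap _ (pullback.diagonal (terminal.from X)).isClosedEmbedding.isClosed_range
    rw [Scheme.isSeparated_iff, AlgebraicGeometry.isSeparated_iff]
    exact IsClosedImmersion.of_isPreimmersion _ hr

end Groth.Agent.S2120
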