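import Groth.Statements.S2131
import Mathlib.Algebra.Module.FinitePresentation
import Mathlib.RingTheory.Spectrum.Prime.Topology

set_option autoImplicit false
universe u
open CAlg

namespace Groth.Agent.S2131

/-- For an `R`-linear map from a finite module to a finitely presented module, the primes at which its
localization is bijective form an open subset of `Spec R`. -/
theorem result {R M N : Type u} [CommRing R] [AddCommGroup M] [Module R M] [Module.Finite R M]
    [AddCommGroup N] [Module R N] [Module.FinitePresentation R N] (φ : M →ₗ[R] N) :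
    IsOpen {p : PrimeSpectrum R | Function.Bijective (LocalizedModule.map p.asIdeal.primeCompl φ)} := by
  rw [isOpen_iff_forall_mem_open]
  intro p hp
  obtain ⟨g, hg, hbij⟩ := Module.FinitePresentation.exists_notMem_bijective φ p.asIdeal
    (LocalizedModule.mkLinearMap p.asIdeal.primeCompl M) (LocalizedModule.mkLinearMap p.asIdeal.primeCompl N)
    hp
  refine ⟨PrimeSpectrum.basicOpen g, fun q hq => ?_, PrimeSpectrum.isOpen_basicOpen, hg⟩
  have hgq : ∀ c : Submonoid.powers g, (c : R) ∈ q.asIdeal.primeCompl := fun c => by
    obtain ⟨n, hn⟩ := c.2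
    simp only at hn
    rw [← hn]
    exact pow_mem (show g ∈ q.asIdeal.primeCompl from hq) n
  refine ⟨?_, fun y => ?_⟩
  · rw [injective_iff_map_eq_zero]
    intro x hx
    induction x using LocalizedModule.induction_on with
    | h x s =>
      rw [LocalizedModule.map_mk, ← LocalizedModule.zero_mk s, LocalizedModule.mk_eq] at hx
      obtain ⟨u, hu⟩ := hx
      have h0 : LocalizedModule.mk ((u : R) • (s : R) • x) (1 : Submonoid.powers g) = 0 := by
        apply hbij.injective
        rw [LocalizedModule.map_mk, map_zero, map_smul, map_smul]
        simp only [Submonoid.smul_def, smul_zero] at hu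
        rw [hu, LocalizedModule.zero_mk]
      rw [← LocalizedModule.zero_mk (1 : Submonoid.powers g), LocalizedModule.mk_eq] at h0
      obtain ⟨c, hc⟩ := h0
      rw [← LocalizedModule.zero_mk s, LocalizedModule.mk_eq]
      refine ⟨(⟨c, hgq c⟩ * u), ?_⟩
      simp only [Submonoid.smul_def, Submonoid.coe_one, one_smul, smul_zero, Submonoid.coe_mul] at hc ⊢
      rw [mul_smul]; exact hc
  · induction y using LocalizedModule.induction_on with
    | h y s =>
      obtain ⟨x, hx⟩ := hbij.surjective (LocalizedModule.mk y 1)
      induction x using LocalizedModule.induction_on with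
      | h x t =>
        refine ⟨LocalizedModule.mk x (⟨t, hgq t⟩ * s), ?_⟩
        rw [LocalizedModule.map_mk, LocalizedModule.mk_eq] at hx ⊢
        obtain ⟨c, hc⟩ := hx
        refine ⟨⟨c, hgq c⟩, ?_⟩
        simp only [Submonoid.smul_def, Submonoid.coe_one, one_smul, Submonoid.coe_mul] at hc ⊢
        rw [smul_comm (c : R) (s : R), hc, mul_comm (t : R) (s : R), mul_smul, smul_comm (s : R) (c : R)]

end Groth.Agent.S2131
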