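import Groth.Statements.S2132
import Groth.Agent.HensPair.LocalColim
import Mathlib.CategoryTheory.Limits.ConcreteCategory.Basic
import Mathlib.Algebra.Category.Ring.FilteredColimits

set_option autoImplicit false
universe u
open CategoryTheory
open CAlg

namespace Groth.Agent.S2132

/-- Let `F : J ⥤ CommRingCat` be a filtered diagram of henselian local rings with local transition maps
and `c` a colimit cocone. Then the colimit is a henselian local ring. -/
theorem result {J : Type u} [SmallCategory J] [IsFiltered J] (F : J ⥤ CommRingCat.{u})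
    (hF : ∀ j, HenselianLocalRing (F.obj j)) (hloc : ∀ (i j : J) (a : i ⟶ j), IsLocalHom (F.map a).hom)
    (c : Limits.Cocone F) (hc : Limits.IsColimit c) : HenselianLocalRing c.pt := by
  classical
  have hloc' : ∀ j, IsLocalHom (c.ι.app j).hom := fun j => ⟨fun x hx => by
    obtain ⟨u, hu⟩ := hx.exists_right_inv
    obtain ⟨i, y, rfl⟩ := Limits.Concrete.isColimit_exists_rep F hc u
    let k := IsFiltered.max j i
    have h : c.ι.app k (F.map (IsFiltered.leftToMax j i) x * F.map (IsFiltered.rightToMax j i) y) =
        c.ι.app k (1 : F.obj k) := by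
      rw [map_mul, map_one, ← ConcreteCategory.comp_apply, ← ConcreteCategory.comp_apply, c.w, c.w]
      exact hu
    obtain ⟨l, a, b, hab⟩ := Limits.Concrete.isColimit_exists_of_rep_eq F hc _ _ h
    rw [map_mul, map_one, ← ConcreteCategory.comp_apply, ← Functor.map_comp] at hab
    have := hloc j l (IsFiltered.leftToMax j i ≫ a)
    exact IsLocalHom.map_nonunit (f := (F.map (IsFiltered.leftToMax j i ≫ a)).hom) x
      (IsUnit.of_mul_eq_one _ hab)⟩
  refine @HensPair.LocalColim.henselianLocalRing c.pt _ J (fun j => F.obj j) _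
    (fun j => (c.ι.app j).hom) hloc' hF fun s => ?_
  choose j x hx using Limits.Concrete.isColimit_exists_rep F hc
  obtain ⟨m, hm⟩ := IsFiltered.sup_objs_exists (s.image j)
  refine ⟨m, fun a ha => ?_⟩
  obtain ⟨g⟩ := hm (Finset.mem_image_of_mem j ha)
  refine ⟨F.map g (x a), ?_⟩
  show c.ι.app m (F.map g (x a)) = a
  rw [← ConcreteCategory.comp_apply, c.w, hx]

end Groth.Agent.S2132
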