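import Groth.Statements.S2134
import Mathlib

set_option autoImplicit false
set_option linter.style.haveILetI false
universe u
open CAlg

namespace Groth.Agent.S2134

/-- Let `K/k` be a field extension and `(K_α)` a nonempty family of intermediate fields, directed
downwards, with intersection `k`. For a `K`-subspace `V` of `K^n` (`n ≥ 1`), `V` contains a nonzero
vector with all coordinates in `k` if and only if for every `α` it contains a nonzero vector with
all coordinates in `K_α`. -/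
theorem result {k K : Type u} [Field k] [Field K] [Algebra k K] {ι : Type u} [Nonempty ι]
    (F : ι → IntermediateField k K) (hdir : ∀ a b : ι, ∃ c, F c ≤ F a ⊓ F b) (hinf : ⨅ a, F a = ⊥) (n : ℕ) (hn : 1 ≤ n)
    (V : Submodule K (Fin n → K)) :
    (∃ v ∈ V, v ≠ 0 ∧ ∀ i, v i ∈ Set.range (algebraMap k K)) ↔
      ∀ a, ∃ v ∈ V, v ≠ 0 ∧ ∀ i, v i ∈ F a := by
  classical
  constructor
  · rintro ⟨v, hv, hv0, hk⟩ a
    refine ⟨v, hv, hv0, fun i => ?_⟩
    obtain ⟨c, hc⟩ := hk i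
    rw [← hc]
    exact (F a).algebraMap_mem c
  intro h
  let supp : (Fin n → K) → Finset (Fin n) := fun v => Finset.univ.filter (fun i => v i ≠ 0)
  let 𝒮 : ι → Finset (Finset (Fin n)) := fun a => Finset.univ.filter (fun S => ∃ v ∈ V, v ≠ 0 ∧ (∀ i, v i ∈ F a) ∧ supp v = S)
  have hmem : ∀ {a S}, S ∈ 𝒮 a ↔ ∃ v ∈ V, v ≠ 0 ∧ (∀ i, v i ∈ F a) ∧ supp v = S := fun {a S} => by simp [𝒮]
  have hmono : ∀ a c, F c ≤ F a → 𝒮 c ⊆ 𝒮 a := by
    intro a c hca S hS
    obtain ⟨v, h1, h2, h3, h4⟩ := hmem.mp hS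
    exact hmem.mpr ⟨v, h1, h2, fun i => hca (h3 i), h4⟩
  obtain ⟨a₀, ha₀⟩ : ∃ a, ∀ c, (𝒮 a).card ≤ (𝒮 c).card :=
    ⟨Function.argmin (fun a => (𝒮 a).card), fun c => Function.argmin_le (fun a => (𝒮 a).card) c⟩
  have hne : (𝒮 a₀).Nonempty := by
    obtain ⟨v, h1, h2, h3⟩ := h a₀
    exact ⟨supp v, hmem.mpr ⟨v, h1, h2, h3, rfl⟩⟩
  obtain ⟨S, hS, hSmin⟩ := Finset.exists_min_image (𝒮 a₀) Finset.card hne
  obtain ⟨v, hvV, hv0, hvF, hvS⟩ := hmem.mp hS
  obtain ⟨j, hj⟩ := Function.ne_iff.mp hv0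
  simp only [Pi.zero_apply] at hj
  refine ⟨(v j)⁻¹ • v, V.smul_mem _ hvV, smul_ne_zero (inv_ne_zero hj) hv0, fun i => ?_⟩
  rw [← IntermediateField.mem_bot, ← hinf, ← SetLike.mem_coe, IntermediateField.coe_iInf, Set.mem_iInter]
  intro a
  obtain ⟨c, hc⟩ := hdir a₀ a
  have hc0 : F c ≤ F a₀ := hc.trans inf_le_left
  have hSc : S ∈ 𝒮 c := by
    rw [Finset.eq_of_subset_of_card_le (hmono a₀ c hc0) (ha₀ c)]
    exact hS
  obtain ⟨w, hwV, hw0, hwF, hwS⟩ := hmem.mp hSc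
  have hwj : w j ≠ 0 := by
    have : j ∈ supp v := Finset.mem_filter.mpr ⟨Finset.mem_univ _, hj⟩
    rw [hvS, ← hwS] at this
    exact (Finset.mem_filter.mp this).2
  set d : Fin n → K := (v j)⁻¹ • v - (w j)⁻¹ • w with hd
  have hd0 : d = 0 := by
    by_contra hne0
    have hdF : ∀ i, d i ∈ F a₀ := fun i => by
      simp only [hd, Pi.sub_apply, Pi.smul_apply, smul_eq_mul]
      exact sub_mem (mul_mem (inv_mem (hvF j)) (hvF i)) (mul_mem (inv_mem (hc0 (hwF j))) (hc0 (hwF i)))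
    have hlt : supp d ⊂ S := by
      refine (Finset.ssubset_iff_of_subset ?_).mpr ⟨j, ?_, ?_⟩
      · intro i hi
        by_contra hiS
        have h1 : v i = 0 := by
          by_contra h; exact hiS (hvS ▸ Finset.mem_filter.mpr ⟨Finset.mem_univ _, h⟩)
        have h2 : w i = 0 := by
          by_contra h; exact hiS (hwS ▸ Finset.mem_filter.mpr ⟨Finset.mem_univ _, h⟩)
        apply (Finset.mem_filter.mp hi).2
        simp [hd, h1, h2]
      · rw [← hvS]; exact Finset.mem_filter.mpr ⟨Finset.mem_univ _, hj⟩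
      · intro hjd
        apply (Finset.mem_filter.mp hjd).2
        simp [hd, hj, hwj]
    have := hSmin (supp d) (hmem.mpr ⟨d, V.sub_mem (V.smul_mem _ hvV) (V.smul_mem _ hwV), hne0, hdF, rfl⟩)
    exact absurd (Finset.card_lt_card hlt) (not_lt.mpr this)
  rw [sub_eq_zero.mp hd0, Pi.smul_apply, smul_eq_mul]
  exact (hc.trans inf_le_right) (mul_mem (inv_mem (hwF j)) (hwF i))

end Groth.Agent.S2134
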