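import Groth.Statements.S2138
import Mathlib.RingTheory.Flat.Basic
import Mathlib.RingTheory.Localization.AtPrime.Basic
import Mathlib.LinearAlgebra.TensorProduct.Quotient
import Mathlib.LinearAlgebra.DirectSum.Finsupp
import Mathlib.LinearAlgebra.Basis.VectorSpace
import Mathlib.Algebra.Module.Torsion.Basic
import Mathlib.RingTheory.TensorProduct.Maps
import Mathlib.RingTheory.LocalRing.ResidueField.Ideal

set_option autoImplicit false
universe u
open CAlg

namespace Groth.Agent.S2138

open TensorProduct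

variable {R S : Type u} [CommRing R] [CommRing S] [Algebra R S] [Module.Flat R S]

open IsLocalRing in
lemma injective_smul_residue (p : Ideal R) [p.IsPrime] [(p.map (algebraMap R S)).IsPrime] (t : S)
    (ht : t ∉ p.map (algebraMap R S)) :
    Function.Injective fun z : S ⊗[R] (Localization.AtPrime p ⧸ maximalIdeal (Localization.AtPrime p)) => t • z := by
  let q := p.map (algebraMap R S)
  let κ := Localization.AtPrime p ⧸ maximalIdeal (Localization.AtPrime p)
  have hzero : ∀ r : R, algebraMap R κ r = 0 ↔ r ∈ p := fun r => by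
    rw [IsScalarTower.algebraMap_apply R (Localization.AtPrime p) κ, Ideal.Quotient.algebraMap_eq,
      Ideal.Quotient.eq_zero_iff_mem]
    exact IsLocalization.AtPrime.to_map_mem_maximal_iff (Localization.AtPrime p) p r
  have hone : ∀ s : S, s ⊗ₜ[R] (1 : κ) = 0 ↔ s ∈ q := fun s => by
    let ι : (R ⧸ p) →ₗ[R] κ := Submodule.liftQ p (Algebra.linearMap R κ) fun r hr => (hzero r).2 hr
    have hι : Function.Injective ι := by
      exact LinearMap.ker_eq_bot.1 (Submodule.ker_liftQ_eq_bot _ _ _ fun r hr => (hzero r).1 hr)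
    have hS := Module.Flat.lTensor_preserves_injective_linearMap (M := S) ι hι
    have h1 : ι.lTensor S (s ⊗ₜ[R] Ideal.Quotient.mk p 1) = s ⊗ₜ[R] (1 : κ) :=
      (LinearMap.lTensor_tmul _ _ _ _).trans (congrArg (s ⊗ₜ[R] ·) (map_one (algebraMap R κ)))
    rw [← h1, map_eq_zero_iff _ hS, ← (TensorProduct.tensorQuotEquivQuotSMul S p).map_eq_zero_iff,
      TensorProduct.tensorQuotEquivQuotSMul_tmul_mk, one_smul, Submodule.Quotient.mk_eq_zero, Ideal.smul_top_eq_map]
    rfl
  suffices h : ∀ z : S ⊗[R] κ, t • z = 0 → z = 0 from fun a b hab =>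
    sub_eq_zero.1 (h (a - b) (by rw [smul_sub]; exact sub_eq_zero.2 hab))
  intro z hz
  have key : ∀ z : S ⊗[R] κ, ∃ b : R, b ∉ p ∧ ∃ s : S, b • z = s ⊗ₜ[R] (1 : κ) := fun z => by
    induction z using TensorProduct.induction_on with
    | zero => exact ⟨1, p.one_notMem, 0, by simp⟩
    | tmul s x =>
      obtain ⟨y, rfl⟩ := Ideal.Quotient.mk_surjective x
      obtain ⟨⟨a, b⟩, hab⟩ := IsLocalization.surj p.primeCompl y
      refine ⟨b, b.2, a • s, ?_⟩
      rw [← TensorProduct.tmul_smul, TensorProduct.smul_tmul, ← Algebra.algebraMap_eq_smul_one (A := κ) a]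
      congr 1
      change Ideal.Quotient.mk _ ((b : R) • y) = Ideal.Quotient.mk _ (algebraMap R (Localization.AtPrime p) a)
      rw [Algebra.smul_def, mul_comm, hab]
    | add z w hz hw =>
      obtain ⟨b, hb, s, hs⟩ := hz
      obtain ⟨b', hb', s', hs'⟩ := hw
      refine ⟨b' * b, fun h => (Ideal.IsPrime.mem_or_mem ‹p.IsPrime› h).elim hb' hb, b' • s + b • s', ?_⟩
      rw [smul_add, mul_smul, hs, mul_comm, mul_smul, hs', TensorProduct.smul_tmul', TensorProduct.smul_tmul',
        TensorProduct.add_tmul]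
  obtain ⟨b, hb, s, hs⟩ := key z
  have hts : t * s ∈ q := (hone _).1 (by
    rw [← smul_eq_mul, ← TensorProduct.smul_tmul', ← hs, smul_comm, hz, smul_zero])
  have hbz : b • z = 0 := hs.trans ((hone s).2 ((Ideal.IsPrime.mem_or_mem ‹_› hts).resolve_left ht))
  obtain ⟨u, hu⟩ : ∃ u : κ, algebraMap R κ b * u = 1 := by
    haveI : (maximalIdeal (Localization.AtPrime p)).IsMaximal := inferInstance
    letI : Field κ := Ideal.Quotient.field _
    exact ⟨(algebraMap R κ b)⁻¹, mul_inv_cancel₀ fun h => hb ((hzero b).1 h)⟩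
  have h2 : ∀ w : S ⊗[R] κ, (LinearMap.mulLeft R u).lTensor S (b • w) = w := fun w => by
    induction w using TensorProduct.induction_on with
    | zero => simp
    | tmul s' x =>
      rw [TensorProduct.smul_tmul', TensorProduct.smul_tmul, LinearMap.lTensor_tmul]
      congr 1
      change u * (b • x) = x
      rw [Algebra.smul_def, ← mul_assoc, mul_comm u, hu, one_mul]
    | add v w hv hw => rw [smul_add, map_add, hv, hw]
  rw [← h2 z, hbz, map_zero]

open IsLocalRing in
lemma injective_smul_of_killed (p : Ideal R) [p.IsPrime] [(p.map (algebraMap R S)).IsPrime] (t : S)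
    (ht : t ∉ p.map (algebraMap R S)) : ∀ (n : ℕ) (N : Type u) [AddCommGroup N] [Module R N]
    [Module (Localization.AtPrime p) N] [IsScalarTower R (Localization.AtPrime p) N],
    (∀ a ∈ maximalIdeal (Localization.AtPrime p) ^ n, ∀ x : N, a • x = 0) →
    ∀ z : S ⊗[R] N, t • z = 0 → z = 0 := by
  intro n
  induction n with
  | zero =>
    intro N _ _ _ _ hN z _
    haveI : Subsingleton N := ⟨fun x y => by
      rw [← one_smul (Localization.AtPrime p) x, ← one_smul (Localization.AtPrime p) y, hN 1 (by simp), hN 1 (by simp)]⟩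
    exact Subsingleton.elim z 0
  | succ n ih =>
    intro N _ _ _ _ hN z hz
    let Rp := Localization.AtPrime p
    let W : Submodule Rp N := maximalIdeal Rp • ⊤
    have hW : ∀ a ∈ maximalIdeal Rp ^ n, ∀ x : W, a • x = 0 := fun a ha x => Subtype.ext (by
      refine Submodule.smul_induction_on (p := fun y => a • y = 0) x.2 (fun s hs y _ => ?_)
        (fun y y' hy hy' => by rw [smul_add, hy, hy', add_zero])
      rw [← mul_smul]
      exact hN _ (pow_succ (maximalIdeal Rp) n ▸ Ideal.mul_mem_mul ha hs) y)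
    have ht' : Module.IsTorsionBySet Rp (N ⧸ W) (maximalIdeal Rp) := fun x a => by
      obtain ⟨x, rfl⟩ := W.mkQ_surjective x
      rw [← map_smul]
      exact (Submodule.Quotient.mk_eq_zero _).2 (Submodule.smul_mem_smul a.2 Submodule.mem_top)
    letI := ht'.module
    haveI : IsScalarTower R (Rp ⧸ maximalIdeal Rp) (N ⧸ W) := ht'.isScalarTower
    haveI : (maximalIdeal Rp).IsMaximal := inferInstance
    letI := Ideal.Quotient.field (maximalIdeal Rp)
    let bs := Module.Basis.ofVectorSpace (Rp ⧸ maximalIdeal Rp) (N ⧸ W)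
    classical
    let E : (N ⧸ W) ≃ₗ[R] (_ →₀ (Rp ⧸ maximalIdeal Rp)) := bs.repr.restrictScalars R
    let π : N →ₗ[R] N ⧸ W := W.mkQ.restrictScalars R
    let i : W →ₗ[R] N := W.subtype.restrictScalars R
    have hexact : Function.Exact i π := fun x => (LinearMap.exact_subtype_mkQ W) x
    have h1 : π.baseChange S z = 0 := by
      refine ((LinearEquiv.baseChange R S _ _ E).trans (TensorProduct.finsuppRight R S S _ _)).injective ?_
      rw [map_zero]
      ext k : 1
      refine injective_smul_residue p t ht ?_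
      change t • _ = t • (0 : S ⊗[R] (Rp ⧸ maximalIdeal Rp))
      rw [smul_zero, ← Finsupp.smul_apply, ← map_smul, ← map_smul, hz, map_zero, map_zero, Finsupp.zero_apply]
    obtain ⟨w, hw⟩ := (lTensor_exact S hexact (W.mkQ_surjective : Function.Surjective π) z).1 h1
    have hinj : Function.Injective (i.baseChange S) :=
      Module.Flat.lTensor_preserves_injective_linearMap (M := S) i W.injective_subtype
    have hw0 : w = 0 := ih W hW w (hinj (by
      rw [map_smul, map_zero, show i.baseChange S w = z from hw, hz]))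
    rw [← hw, hw0, map_zero]


/-- Let `R → S` be flat and `𝔭` a prime of `R` whose extension `𝔮 = 𝔭S` is prime. Then for every `n` the
extension to `S` of the symbolic power `𝔭^{(n)}` (the contraction of `𝔭ⁿR_𝔭`) equals the symbolic
power `𝔮^{(n)}`. -/
theorem result {R S : Type u} [CommRing R] [CommRing S] [Algebra R S] [Module.Flat R S]
    (p : Ideal R) [p.IsPrime] [(p.map (algebraMap R S)).IsPrime] (n : ℕ) :
    (((p ^ n).map (algebraMap R (Localization.AtPrime p))).comap (algebraMap R (Localization.AtPrime p))).map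
        (algebraMap R S) =
      (((p.map (algebraMap R S)) ^ n).map (algebraMap S (Localization.AtPrime (p.map (algebraMap R S))))).comap
        (algebraMap S (Localization.AtPrime (p.map (algebraMap R S)))) := by
  let q := p.map (algebraMap R S)
  let Rp := Localization.AtPrime p
  let J : Ideal Rp := (p ^ n).map (algebraMap R Rp)
  have hJ : J = IsLocalRing.maximalIdeal Rp ^ n := by
    rw [← Localization.AtPrime.map_eq_maximalIdeal, ← Ideal.map_pow]
  have hcap : ∀ r : R, r ∉ p → algebraMap R S r ∉ q := by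
    intro r hr hrq
    obtain ⟨u, hu⟩ := IsLocalization.map_units Rp (⟨r, hr⟩ : p.primeCompl)
    have h1 : ((1 : S) ⊗ₜ[R] (1 : Rp ⧸ IsLocalRing.maximalIdeal Rp)) = 0 := by
      have h2 : (1 : Rp ⧸ IsLocalRing.maximalIdeal Rp) = r • Ideal.Quotient.mk _ ((↑u⁻¹ : Rp)) := by
        rw [Algebra.smul_def, IsScalarTower.algebraMap_apply R Rp (Rp ⧸ IsLocalRing.maximalIdeal Rp),
          Ideal.Quotient.algebraMap_eq, ← map_mul, ← show (u : Rp) = algebraMap R Rp r from hu, Units.mul_inv, map_one]
      rw [h2, TensorProduct.tmul_smul, TensorProduct.smul_tmul', ← Algebra.algebraMap_eq_smul_one]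
      have h3 : ∀ x : Rp ⧸ IsLocalRing.maximalIdeal Rp, ∀ s ∈ q, s ⊗ₜ[R] x = 0 := fun x s hs => by
        refine Submodule.span_induction (fun s hs => ?_) (by simp) (fun a b _ _ ha hb => by rw [TensorProduct.add_tmul, ha, hb, add_zero])
          (fun c a _ ha => by rw [← TensorProduct.smul_tmul', ha, smul_zero]) hs
        obtain ⟨a, ha, rfl⟩ := hs
        rw [Algebra.algebraMap_eq_smul_one, TensorProduct.smul_tmul, Algebra.smul_def,
          IsScalarTower.algebraMap_apply R Rp (Rp ⧸ IsLocalRing.maximalIdeal Rp), Ideal.Quotient.algebraMap_eq,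
          Ideal.Quotient.eq_zero_iff_mem.2 ((IsLocalization.AtPrime.to_map_mem_maximal_iff Rp p a).2 ha), zero_mul,
          TensorProduct.tmul_zero]
      exact h3 _ _ hrq
    have h4 : (1 : S) ∉ q := fun h => Ideal.IsPrime.ne_top ‹q.IsPrime› ((Ideal.eq_top_iff_one q).2 h)
    let ι : (R ⧸ p) →ₗ[R] Rp ⧸ IsLocalRing.maximalIdeal Rp := Submodule.liftQ p (Algebra.linearMap R _) fun a ha => by
      change algebraMap R (Rp ⧸ IsLocalRing.maximalIdeal Rp) a = 0
      rw [IsScalarTower.algebraMap_apply R Rp (Rp ⧸ IsLocalRing.maximalIdeal Rp), Ideal.Quotient.algebraMap_eq,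
        Ideal.Quotient.eq_zero_iff_mem]
      exact (IsLocalization.AtPrime.to_map_mem_maximal_iff Rp p a).2 ha
    have hι : Function.Injective ι := by
      rw [← LinearMap.ker_eq_bot, Submodule.ker_liftQ_eq_bot]
      intro a (ha : algebraMap R (Rp ⧸ IsLocalRing.maximalIdeal Rp) a = 0)
      rw [IsScalarTower.algebraMap_apply R Rp (Rp ⧸ IsLocalRing.maximalIdeal Rp), Ideal.Quotient.algebraMap_eq,
        Ideal.Quotient.eq_zero_iff_mem] at ha
      exact (IsLocalization.AtPrime.to_map_mem_maximal_iff Rp p a).1 ha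
    have h5 : (1 : S) ⊗ₜ[R] Ideal.Quotient.mk p 1 = 0 := Module.Flat.lTensor_preserves_injective_linearMap (M := S) ι hι
      (by rw [LinearMap.lTensor_tmul, map_zero]; exact (congrArg ((1 : S) ⊗ₜ[R] ·) (map_one (algebraMap R _))).trans h1)
    rw [← (TensorProduct.tensorQuotEquivQuotSMul S p).map_eq_zero_iff, TensorProduct.tensorQuotEquivQuotSMul_tmul_mk,
      one_smul, Submodule.Quotient.mk_eq_zero, Ideal.smul_top_eq_map] at h5
    exact h4 h5
  refine le_antisymm (Ideal.map_le_iff_le_comap.2 fun r hr => ?_) fun x hx => ?_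
  · rw [Ideal.mem_comap, IsLocalization.algebraMap_mem_map_algebraMap_iff p.primeCompl] at hr
    obtain ⟨m, hm, hmr⟩ := hr
    rw [Ideal.mem_comap, Ideal.mem_comap, IsLocalization.algebraMap_mem_map_algebraMap_iff q.primeCompl]
    refine ⟨algebraMap R S m, hcap m hm, ?_⟩
    rw [← map_mul, ← Ideal.map_pow]
    exact Ideal.mem_map_of_mem _ hmr
  · rw [Ideal.mem_comap, IsLocalization.algebraMap_mem_map_algebraMap_iff q.primeCompl] at hx
    obtain ⟨t, ht, htx⟩ := hx
    let P : Ideal R := J.comap (algebraMap R Rp)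
    change x ∈ P.map (algebraMap R S)
    have hle : (q ^ n : Ideal S) ≤ P.map (algebraMap R S) := by
      rw [← Ideal.map_pow]
      exact Ideal.map_mono Ideal.le_comap_map
    let ι : (R ⧸ P) →ₗ[R] Rp ⧸ J := Submodule.liftQ P (Algebra.linearMap R _) fun a ha => by
      change algebraMap R (Rp ⧸ J) a = 0
      rw [IsScalarTower.algebraMap_apply R Rp (Rp ⧸ J), Ideal.Quotient.algebraMap_eq, Ideal.Quotient.eq_zero_iff_mem]
      exact ha
    have hι : Function.Injective ι := by
      rw [← LinearMap.ker_eq_bot, Submodule.ker_liftQ_eq_bot]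
      intro a (ha : algebraMap R (Rp ⧸ J) a = 0)
      rw [IsScalarTower.algebraMap_apply R Rp (Rp ⧸ J), Ideal.Quotient.algebraMap_eq, Ideal.Quotient.eq_zero_iff_mem] at ha
      exact ha
    have hmem : ∀ y : S, y ⊗ₜ[R] Ideal.Quotient.mk P 1 = 0 ↔ y ∈ P.map (algebraMap R S) := fun y => by
      rw [← (TensorProduct.tensorQuotEquivQuotSMul S P).map_eq_zero_iff, TensorProduct.tensorQuotEquivQuotSMul_tmul_mk,
        one_smul, Submodule.Quotient.mk_eq_zero, Ideal.smul_top_eq_map]
      rfl
    rw [← hmem]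
    refine Module.Flat.lTensor_preserves_injective_linearMap (M := S) ι hι ?_
    rw [map_zero]
    refine injective_smul_of_killed p t ht n (Rp ⧸ J) (fun a ha y => ?_) _ ?_
    · obtain ⟨y, rfl⟩ := Ideal.Quotient.mk_surjective y
      exact (Ideal.Quotient.eq_zero_iff_mem.2 (Ideal.mul_mem_right y _ (hJ ▸ ha)) :)
    · rw [LinearMap.lTensor_tmul, TensorProduct.smul_tmul', smul_eq_mul, ← LinearMap.lTensor_tmul,
        (hmem _).2 (hle htx), map_zero]

end Groth.Agent.S2138
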