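import Groth.Statements.S2139
import Mathlib.RingTheory.Localization.Integral
import Mathlib.RingTheory.Ideal.MinimalPrime.Localization
import Mathlib.RingTheory.IntegralClosure.IntegrallyClosed
import Mathlib.RingTheory.Localization.AtPrime.Basic

set_option autoImplicit false
universe u
open CAlg

namespace Groth.Agent.S2139

/-- Let `R` be a reduced ring with finitely many minimal primes. Then every localization of `R` at a
prime is an integrally closed domain if and only if `R` is integrally closed in its total ring of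
fractions. -/
theorem result {R : Type u} [CommRing R] [IsReduced R] (hfin : (minimalPrimes R).Finite) :
    (∀ (p : Ideal R) [p.IsPrime], IsDomain (Localization.AtPrime p) ∧ IsIntegrallyClosed (Localization.AtPrime p)) ↔
      IsIntegrallyClosedIn R (FractionRing R) := by
  classical
  let Q := FractionRing R
  constructor
  · intro H
    rw [isIntegrallyClosedIn_iff]
    refine ⟨IsFractionRing.injective R Q, fun {x} hx => ?_⟩
    let C : Ideal R :=
      { carrier := {r | ∃ y, algebraMap R Q y = algebraMap R Q r * x}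
        zero_mem' := ⟨0, by simp⟩
        add_mem' := fun {a b} ⟨y, hy⟩ ⟨y', hy'⟩ => ⟨y + y', by rw [map_add, hy, hy', map_add, add_mul]⟩
        smul_mem' := fun c a ⟨y, hy⟩ => ⟨c * y, by rw [map_mul, hy, smul_eq_mul, map_mul, mul_assoc]⟩ }
    suffices hC : C = ⊤ by
      obtain ⟨y, hy⟩ : (1 : R) ∈ C := by rw [hC]; exact Submodule.mem_top
      exact ⟨y, by rw [hy, map_one, one_mul]⟩
    by_contra hne
    obtain ⟨m, hm, hle⟩ := Ideal.exists_le_maximal C hne
    haveI := hm.isPrime
    obtain ⟨hdom, hcl⟩ := H m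
    let A := Localization.AtPrime m
    let F := FractionRing A
    have hu : ∀ s : nonZeroDivisors R, IsUnit (algebraMap R F s) := by
      intro s
      rw [isUnit_iff_ne_zero, IsScalarTower.algebraMap_apply R A F]
      intro h0
      have h1 := IsFractionRing.injective A F (h0.trans (map_zero _).symm)
      obtain ⟨u, hu⟩ := (IsLocalization.map_eq_zero_iff m.primeCompl A _).1 h1
      exact u.2 (by rw [mem_nonZeroDivisors_iff_right.1 s.2 (u : R) hu]; exact zero_mem _)
    let ψ : Q →+* F := IsLocalization.lift hu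
    have hψ : ∀ r, ψ (algebraMap R Q r) = algebraMap R F r := fun r => IsLocalization.lift_eq hu r
    let ψa : Q →ₐ[R] F := { ψ with commutes' := hψ }
    have hi : IsIntegral A (ψa x) := (hx.map ψa).tower_top
    obtain ⟨y, hy⟩ := IsIntegrallyClosed.isIntegral_iff.1 hi
    obtain ⟨⟨a, s⟩, rfl⟩ := IsLocalization.mk'_surjective (nonZeroDivisors R) x
    obtain ⟨⟨b, u⟩, rfl⟩ := IsLocalization.mk'_surjective m.primeCompl y
    have e : algebraMap R A (a * u) = algebraMap R A (b * s) := by
      refine IsFractionRing.injective A F ?_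
      rw [← IsScalarTower.algebraMap_apply, ← IsScalarTower.algebraMap_apply, map_mul, map_mul]
      have h1 : algebraMap R F a = ψ (IsLocalization.mk' Q a s) * algebraMap R F s := by
        rw [← hψ, ← hψ, ← map_mul, IsLocalization.mk'_spec]
      have h2 : algebraMap R F b = algebraMap A F (IsLocalization.mk' A b u) * algebraMap R F u := by
        rw [IsScalarTower.algebraMap_apply R A F, IsScalarTower.algebraMap_apply R A F, ← map_mul, IsLocalization.mk'_spec]
      rw [h1, h2, hy]
      change ψ (IsLocalization.mk' Q a s) * _ * _ = ψ (IsLocalization.mk' Q a s) * _ * _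
      ring
    obtain ⟨t, ht⟩ := (IsLocalization.eq_iff_exists m.primeCompl A).1 e
    refine hm.isPrime.mul_notMem t.2 u.2 (hle ⟨t * b, ?_⟩)
    refine (IsLocalization.map_units Q s).mul_left_cancel ?_
    rw [← map_mul, show (s : R) * (t * b) = (t * u) * a by linear_combination -ht, map_mul _ (t * u : R) a,
      ← IsLocalization.mk'_spec Q a s]
    ring
  intro hcl p hp
  -- facts on minimal primes
  have hzero : ∀ x : R, (∀ P ∈ minimalPrimes R, x ∈ P) → x = 0 := by
    intro x hx
    refine IsReduced.eq_zero _ ((mem_nilradical).1 ?_)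
    rw [nilradical, ← Ideal.sInf_minimalPrimes, Submodule.mem_sInf]
    simpa [minimalPrimes, Ideal.minimalPrimes] using hx
  have hnzd : ∀ x : R, (∀ P ∈ minimalPrimes R, x ∉ P) → x ∈ nonZeroDivisors R := by
    intro x hx
    rw [mem_nonZeroDivisors_iff_right]
    intro y hy
    exact hzero y fun P hP => ((Ideal.minimalPrimes_isPrime hP).mem_or_mem (hy ▸ zero_mem P)).resolve_right (hx P hP)
  have hprime : ∀ P' ∈ minimalPrimes R, P'.IsPrime := fun P' h => Ideal.IsMinimalPrime.isPrime h
  obtain ⟨P, hP, hPp⟩ := Ideal.exists_minimalPrimes_le (bot_le : ⊥ ≤ p)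
  haveI hPprime : P.IsPrime := Ideal.minimalPrimes_isPrime hP
  have hP' : P ∈ minimalPrimes R := by simpa [minimalPrimes, Ideal.minimalPrimes] using hP
  -- an idempotent
  obtain ⟨e, he, he1, heP⟩ : ∃ e : R, e * e = e ∧ 1 - e ∈ P ∧ ∀ P' ∈ minimalPrimes R, P' ≠ P → e ∈ P' := by
    let O := hfin.toFinset.erase P
    obtain ⟨z, hz, hzP⟩ : ∃ z ∈ O.inf id, z ∉ P := by
      refine SetLike.not_le_iff_exists.1 fun h => ?_
      obtain ⟨i, hi, hiP⟩ := hPprime.inf_le'.1 h
      rw [Finset.mem_erase, Set.Finite.mem_toFinset] at hi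
      exact hi.1 (le_antisymm hiP (hP.2 ⟨(hprime _ hi.2), bot_le⟩ hiP))
    obtain ⟨w, hw, hwO⟩ : ∃ w ∈ P, ∀ P' ∈ minimalPrimes R, P' ≠ P → w ∉ P' := by
      by_contra hn
      push Not at hn
      have hsub : (P : Set R) ⊆ ⋃ i ∈ (↑O : Set (Ideal R)), (id i : Ideal R) := fun w hw => by
        obtain ⟨P', h1, h2, h3⟩ := hn w hw
        exact Set.mem_biUnion (by simp [O, h1, h2]) h3
      obtain ⟨i, hi, hiP⟩ := (Ideal.subset_union_prime_finite O.finite_toSet P P (f := id)
        (fun i hi _ _ => by
          simp only [O, Finset.coe_erase, Set.Finite.coe_toFinset, Set.mem_sdiff] at hi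
          exact hprime _ hi.1)).1 hsub
      simp only [O, Finset.coe_erase, Set.Finite.coe_toFinset, Set.mem_sdiff, Set.mem_singleton_iff] at hi
      have hi' : i ∈ (⊥ : Ideal R).minimalPrimes := by simpa [minimalPrimes, Ideal.minimalPrimes] using hi.1
      exact hi.2 (le_antisymm (hi'.2 ⟨hPprime, bot_le⟩ hiP) hiP)
    have hzO : ∀ P' ∈ minimalPrimes R, P' ≠ P → z ∈ P' := fun P' h1 h2 =>
      (Finset.inf_le (f := id) (show P' ∈ O by simp [O, h1, h2])) hz
    have hzw : z * w = 0 := hzero _ fun P' h1 => by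
      by_cases h2 : P' = P
      · exact h2 ▸ P.mul_mem_left z hw
      · exact P'.mul_mem_right w (hzO P' h1 h2)
    have hs : z + w ∈ nonZeroDivisors R := hnzd _ fun P' h1 h => by
      by_cases h2 : P' = P
      · subst h2; exact hzP ((P'.add_mem_iff_left hw).1 h)
      · exact hwO P' h1 h2 ((P'.add_mem_iff_right (hzO P' h1 h2)).1 h)
    let E : Q := IsLocalization.mk' Q z ⟨z + w, hs⟩
    have hE : E * algebraMap R Q (z + w) = algebraMap R Q z := IsLocalization.mk'_spec Q z ⟨z + w, hs⟩
    have hEE : E * E = E := by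
      refine ((IsLocalization.map_units Q ⟨z + w, hs⟩).pow 2).mul_right_cancel ?_
      change E * E * (algebraMap R Q (z + w)) ^ 2 = E * (algebraMap R Q (z + w)) ^ 2
      rw [show E * E * (algebraMap R Q (z + w)) ^ 2 = (E * algebraMap R Q (z + w)) * (E * algebraMap R Q (z + w)) by ring,
        show E * (algebraMap R Q (z + w)) ^ 2 = (E * algebraMap R Q (z + w)) * algebraMap R Q (z + w) by ring,
        hE, ← map_mul, ← map_mul]
      congr 1
      linear_combination -hzw
    obtain ⟨e, hee⟩ := (isIntegrallyClosedIn_iff.1 hcl).2 (x := E)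
      ⟨Polynomial.X ^ 2 - Polynomial.X, Polynomial.monic_X_pow_sub (Polynomial.degree_X_le.trans_lt (by norm_num)), by simp [sq, hEE]⟩
    have hez : e * (z + w) = z := IsFractionRing.injective R Q (by rw [map_mul, hee, hE])
    refine ⟨e, IsFractionRing.injective R Q (by rw [map_mul, hee, hEE]), ?_, fun P' h1 h2 => ?_⟩
    · have : (1 - e) * (z + w) ∈ P := by rw [sub_mul, hez, one_mul, add_sub_cancel_left]; exact hw
      exact (hPprime.mem_or_mem this).resolve_right fun h => hzP ((P.add_mem_iff_left hw).1 h)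
    · have : e * (z + w) ∈ P' := by rw [hez]; exact hzO P' h1 h2
      have hp' : P'.IsPrime := hprime _ h1
      exact (hp'.mem_or_mem this).resolve_right fun h => hwO P' h1 h2 ((P'.add_mem_iff_right (hzO P' h1 h2)).1 h)
  have hep : e ∉ p := fun h => hp.ne_top ((Ideal.eq_top_iff_one p).2 (by simpa using p.add_mem (hPp he1) h))
  have her : ∀ r ∈ P, e * r = 0 := fun r hr => hzero _ fun P' h1 => by
    by_cases h2 : P' = P
    · exact h2 ▸ P.mul_mem_left e hr
    · exact P'.mul_mem_right r (heP P' h1 h2)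
  let A := Localization.AtPrime p
  have hker : ∀ r, algebraMap R A r = 0 ↔ r ∈ P := by
    intro r
    rw [IsLocalization.map_eq_zero_iff p.primeCompl]
    exact ⟨fun ⟨u, hu⟩ => (hPprime.mem_or_mem (hu ▸ zero_mem P)).resolve_left fun h => u.2 (hPp h),
      fun hr => ⟨⟨e, hep⟩, her r hr⟩⟩
  haveI hdom : IsDomain A := by
    haveI : NoZeroDivisors A := ⟨fun {x y} hxy => by
      obtain ⟨⟨a, s⟩, rfl⟩ := IsLocalization.mk'_surjective p.primeCompl x
      obtain ⟨⟨b, t⟩, rfl⟩ := IsLocalization.mk'_surjective p.primeCompl y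
      rw [← IsLocalization.mk'_mul, IsLocalization.mk'_eq_zero_iff, ← IsLocalization.map_eq_zero_iff p.primeCompl A, hker] at hxy
      exact (hPprime.mem_or_mem hxy).imp
        (fun h => (IsLocalization.mk'_eq_zero_iff _ _).2 ((IsLocalization.map_eq_zero_iff p.primeCompl A _).1 ((hker a).2 h)))
        (fun h => (IsLocalization.mk'_eq_zero_iff _ _).2 ((IsLocalization.map_eq_zero_iff p.primeCompl A _).1 ((hker b).2 h)))⟩
    exact NoZeroDivisors.to_isDomain _
  refine ⟨hdom, (isIntegrallyClosed_iff (FractionRing A)).2 fun {x} hx => ?_⟩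
  let F := FractionRing A
  obtain ⟨⟨c, hc⟩, hcx⟩ := IsIntegral.exists_multiple_integral_of_isLocalization p.primeCompl x hx
  let xc : F := (⟨c, hc⟩ : p.primeCompl) • x
  have hkerF : ∀ r, algebraMap R F r = 0 ↔ r ∈ P := fun r => by
    rw [IsScalarTower.algebraMap_apply R A F, map_eq_zero_iff _ (IsFractionRing.injective A F), hker]
  obtain ⟨⟨a, s⟩, hxc⟩ := IsLocalization.mk'_surjective (nonZeroDivisors A) xc
  obtain ⟨⟨a₁, s₁⟩, ha⟩ := IsLocalization.mk'_surjective p.primeCompl a
  obtain ⟨⟨a₂, s₂⟩, hs⟩ := IsLocalization.mk'_surjective p.primeCompl (s : A)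
  -- `xc = (a₁ s₂)/(a₂ s₁)`
  have hfr : xc * algebraMap R F (a₂ * s₁) = algebraMap R F (a₁ * s₂) := by
    have h0 : xc * algebraMap A F s = algebraMap A F a := by rw [← hxc]; exact IsLocalization.mk'_spec _ _ _
    have h1 : algebraMap A F a * algebraMap R F s₁ = algebraMap R F a₁ := by
      rw [IsScalarTower.algebraMap_apply R A F, ← map_mul, ← ha, IsLocalization.mk'_spec, ← IsScalarTower.algebraMap_apply]
    have h2 : algebraMap A F s * algebraMap R F s₂ = algebraMap R F a₂ := by
      rw [IsScalarTower.algebraMap_apply R A F, ← map_mul, ← hs, IsLocalization.mk'_spec, ← IsScalarTower.algebraMap_apply]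
    rw [map_mul, map_mul, ← h1, ← h2, ← h0]
    ring
  have hsP : a₂ * s₁ ∉ P := by
    intro h
    rcases hPprime.mem_or_mem h with h | h
    · exact nonZeroDivisors.ne_zero s.2 (hs ▸ (IsLocalization.mk'_eq_zero_iff _ _).2
        ((IsLocalization.map_eq_zero_iff p.primeCompl A _).1 ((hker _).2 h)))
    · exact s₁.2 (hPp h)
  have heF : algebraMap R F e = 1 := by
    have := (hkerF _).2 he1
    rwa [map_sub, map_one, sub_eq_zero, eq_comm] at this
  let s' := e * (a₂ * s₁) + (1 - e)
  have hs' : s' ∈ nonZeroDivisors R := hnzd _ fun P' h1 h => by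
    by_cases h2 : P' = P
    · subst h2
      rcases hPprime.mem_or_mem ((P'.add_mem_iff_left he1).1 h) with h3 | h3
      · exact hep (hPp h3)
      · exact hsP h3
    · have hp' : P'.IsPrime := hprime _ h1
      exact hp'.ne_top ((Ideal.eq_top_iff_one P').2 (by
        simpa using P'.add_mem ((P'.add_mem_iff_right (P'.mul_mem_right _ (heP P' h1 h2))).1 h) (heP P' h1 h2)))
  have hu : ∀ t : nonZeroDivisors R, IsUnit (algebraMap R F t) := by
    intro t
    rw [isUnit_iff_ne_zero, Ne, hkerF]
    intro ht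
    exact hep (by rw [mem_nonZeroDivisors_iff_right.1 t.2 e (her _ ht)]; exact zero_mem _)
  let ψ : Q →+* F := IsLocalization.lift hu
  have hψ : ∀ r, ψ (algebraMap R Q r) = algebraMap R F r := fun r => IsLocalization.lift_eq hu r
  let ψa : Q →ₐ[R] F := { ψ with commutes' := hψ }
  let y : Q := IsLocalization.mk' Q (e * (a₁ * s₂)) ⟨s', hs'⟩
  have hys : y * algebraMap R Q s' = algebraMap R Q (e * (a₁ * s₂)) := IsLocalization.mk'_spec Q _ ⟨s', hs'⟩
  have hψy : ψa y = xc := by
    refine (hu ⟨s', hs'⟩).mul_right_cancel ?_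
    have := congrArg ψa hys
    rw [map_mul, ψa.commutes, ψa.commutes, map_mul, heF, one_mul] at this
    change ψa y * algebraMap R F s' = xc * algebraMap R F s'
    rw [this, map_add, map_mul _ e, heF, one_mul, (hkerF _).2 he1, add_zero, hfr, map_mul]
  have hye : algebraMap R Q e * y = y := by
    refine (IsLocalization.map_units Q ⟨s', hs'⟩).mul_right_cancel ?_
    change algebraMap R Q e * y * algebraMap R Q s' = y * algebraMap R Q s'
    rw [mul_assoc, hys, ← map_mul, ← mul_assoc, he]
  have hkill : ∀ w : Q, ψa w = 0 → algebraMap R Q e * w = 0 := by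
    intro w hw
    obtain ⟨⟨r, t⟩, rfl⟩ := IsLocalization.mk'_surjective (nonZeroDivisors R) w
    have h0 := congrArg ψa (IsLocalization.mk'_spec Q r t)
    rw [map_mul, hw, zero_mul, ψa.commutes, eq_comm, hkerF] at h0
    rw [IsLocalization.mul_mk'_eq_mk'_of_mul, her r h0, IsLocalization.mk'_zero]
  obtain ⟨g, hg, hg0⟩ := hcx
  have hy : IsIntegral R y := by
    refine ⟨Polynomial.X * g, Polynomial.monic_X.mul hg, ?_⟩
    rw [← Polynomial.aeval_def, map_mul, Polynomial.aeval_X, ← hye, mul_right_comm]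
    rw [hye, hkill (Polynomial.aeval y g) ?_, zero_mul]
    rw [← Polynomial.aeval_algHom_apply, hψy]
    exact hg0
  obtain ⟨r, hr⟩ := (isIntegrallyClosedIn_iff.1 hcl).2 hy
  refine ⟨IsLocalization.mk' A r (⟨c, hc⟩ : p.primeCompl), ?_⟩
  have h1 : algebraMap R F r = algebraMap R F c * x := by
    rw [← ψa.commutes, hr, hψy]
    exact Algebra.smul_def c x
  refine mul_left_cancel₀ (b := algebraMap A F _) (a := algebraMap R F c) ?_ ?_
  · rw [Ne, hkerF]; exact fun h => hc (hPp h)
  rw [← h1, IsScalarTower.algebraMap_apply R A F, ← map_mul, mul_comm, IsLocalization.mk'_spec, ← IsScalarTower.algebraMap_apply]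

end Groth.Agent.S2139
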