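import Groth.Statements.S2140
import Groth.Agent.Flat.GenericFree
import Mathlib.RingTheory.FinitePresentation
import Mathlib.RingTheory.Localization.BaseChange

set_option autoImplicit false
universe u
open CAlg

namespace Groth.Agent.S2140

open scoped TensorProduct

/-- Let `R → S` be an injective ring map of finite type between domains. Then there are nonzero `f ∈ R`
and `g ∈ S` such that `S_{fg}` is a finitely presented `R_f`-algebra. -/
theorem result {R S : Type u} [CommRing R] [IsDomain R] [CommRing S] [IsDomain S]
    [Algebra R S] [Algebra.FiniteType R S] (hinj : Function.Injective (algebraMap R S)) :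
    ∃ (f : R) (g : S), f ≠ 0 ∧ g ≠ 0 ∧
      ∀ (Rf Sfg : Type u) [CommRing Rf] [CommRing Sfg] [Algebra R Rf] [IsLocalization.Away f Rf]
        [Algebra S Sfg] [IsLocalization.Away (algebraMap R S f * g) Sfg] [Algebra Rf Sfg] [Algebra R Sfg]
        [IsScalarTower R S Sfg] [IsScalarTower R Rf Sfg], Algebra.FinitePresentation Rf Sfg := by
  obtain ⟨f, hf, -, -, hfp, -⟩ := Groth.Agent.Flat.GenericFree.generic_freeness (R := R) S S
  refine ⟨f, 1, hf, one_ne_zero, ?_⟩
  intro Rf Sfg _ _ _ _ _ hloc _ _ _ _
  haveI : IsLocalization (Algebra.algebraMapSubmonoid S (Submonoid.powers f)) Sfg := by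
    rw [Algebra.algebraMapSubmonoid, Submonoid.map_powers]
    rwa [mul_one] at hloc
  haveI := hfp
  let e₀ : Localization.Away f ≃ₐ[R] Rf := IsLocalization.algEquiv (Submonoid.powers f) _ _
  letI : Algebra (Localization.Away f) Rf := e₀.toRingHom.toAlgebra
  haveI : IsScalarTower R (Localization.Away f) Rf := IsScalarTower.of_algebraMap_eq fun r => (e₀.commutes r).symm
  haveI : Algebra.FinitePresentation Rf (Rf ⊗[Localization.Away f] (Localization.Away f ⊗[R] S)) := inferInstance
  haveI : Algebra.IsPushout R Rf S Sfg := (Algebra.isPushout_of_isLocalization (Submonoid.powers f) Rf S Sfg).symm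
  haveI : Algebra.FinitePresentation Rf (Rf ⊗[R] S) := .equiv
    (Algebra.TensorProduct.cancelBaseChange R (Localization.Away f) Rf Rf S)
  exact .equiv (Algebra.IsPushout.equiv R Rf S Sfg)

end Groth.Agent.S2140
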