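import Groth.Statements.S2141
import Groth.Agent.HensPair.FieldTrdeg

set_option autoImplicit false
universe u
open CAlg

namespace Groth.Agent.S2141

/-- Let `S` be of finite type over a field `k` and `𝔭` a prime of `S` whose residue field has
transcendence degree `r` over `k`. Then the local dimension of `Spec S` at `𝔭` equals `dim S_𝔭 + r`. -/
theorem result {k S : Type u} [Field k] [CommRing S] [Algebra k S] [Algebra.FiniteType k S]
    (p : Ideal S) [p.IsPrime] (r : ℕ) (hr : Algebra.trdeg k p.ResidueField = r) :
    FlatMor.localDim (PrimeSpectrum S) ⟨p, inferInstance⟩ = ringKrullDim (Localization.AtPrime p) + (r : WithBot ℕ∞) := by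
  open CategoryTheory AlgebraicGeometry in
  let X : Scheme.{u} := Spec (CommRingCat.of S)
  let f : X ⟶ Spec (CommRingCat.of k) := Spec.map (CommRingCat.ofHom (algebraMap k S))
  haveI : LocallyOfFiniteType f := (HasRingHomProperty.Spec_iff (P := @LocallyOfFiniteType)).mpr
    (RingHom.finiteType_algebraMap.mpr inferInstance)
  let x : X := (⟨p, inferInstance⟩ : PrimeSpectrum S)
  obtain ⟨j, -, hj, hd⟩ := Groth.Agent.HensPair.FieldTrdeg.main f x
  let r0 : k →+* X.residueField x := (X.residue x).hom.comp ((X.presheaf.germ ⊤ x trivial).hom.comp (Coh.toGlobal f))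
  have hT := Groth.Agent.HensPair.FieldTrdeg.trdeg_eq k f x r0 rfl
  letI := r0.toAlgebra
  let e := (Scheme.Spec.residueFieldIso (CommRingCat.of S) x).commRingCatIsoToRingEquiv
  have he : ∀ a, e (r0 a) = algebraMap k p.ResidueField a := fun a => by
    have h1 : Coh.toGlobal f a = (Scheme.ΓSpecIso (CommRingCat.of S)).inv.hom (algebraMap k S a) :=
      (congr($(Scheme.ΓSpecIso_inv_naturality (CommRingCat.ofHom (algebraMap k S))).hom a)).symm
    have h2 := congr($(Scheme.Spec.algebraMap_residueFieldIso_inv (CommRingCat.of S) x).hom (algebraMap k S a))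
    refine (RingEquiv.eq_symm_apply e).mp ?_
    show (X.residue x).hom ((X.presheaf.germ ⊤ x trivial).hom (Coh.toGlobal f a)) =
      (Scheme.Spec.residueFieldIso (CommRingCat.of S) x).inv.hom (algebraMap k p.ResidueField a)
    rw [h1, IsScalarTower.algebraMap_apply k S p.ResidueField]
    exact h2.symm
  rw [(AlgEquiv.ofRingEquiv (f := e) he).trdeg_eq, hr] at hT
  have h3 : r = Groth.Agent.HensPair.FibreTrdeg.T f x := by exact_mod_cast hT
  rw [show ringKrullDim (Localization.AtPrime p) = (j : WithBot ℕ∞) from
    (ringKrullDim_eq_of_ringEquiv (Spec.stalkIso (CommRingCat.of S) x).commRingCatIsoToRingEquiv).symm.trans hj]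
  refine hd.trans ?_
  rw [h3]
  push_cast
  rfl

end Groth.Agent.S2141
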