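import Groth.Statements.S2142
import Groth.Agent.HensPair.DimBC
import Groth.Agent.HensPair.FieldTrdeg
import Mathlib.AlgebraicGeometry.Pullbacks

set_option autoImplicit false
universe u
open CAlg

namespace Groth.Agent.S2142

open TensorProduct in
/-- Let `S` be of finite type over a field `k`, `K/k` a field extension, `𝔮` a prime of `S` and `𝔮_K` a
prime of `K ⊗_k S` lying over `𝔮`. Then the local dimension of `Spec (K ⊗_k S)` at `𝔮_K` equals the
local dimension of `Spec S` at `𝔮`. -/
theorem result {k S K : Type u} [Field k] [CommRing S] [Algebra k S] [Algebra.FiniteType k S] [Field K]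
    [Algebra k K] (q : Ideal S) [q.IsPrime] (qK : Ideal (K ⊗[k] S)) [qK.IsPrime]
    (hq : qK.comap (Algebra.TensorProduct.includeRight.toRingHom : S →+* K ⊗[k] S) = q) :
    FlatMor.localDim (PrimeSpectrum (K ⊗[k] S)) ⟨qK, inferInstance⟩ = FlatMor.localDim (PrimeSpectrum S) ⟨q, inferInstance⟩ := by
  open Groth.Agent.HensPair AlgebraicGeometry CategoryTheory in
  let f : Spec (CommRingCat.of S) ⟶ Spec (CommRingCat.of k) := Spec.map (CommRingCat.ofHom (algebraMap k S))
  let g : Spec (CommRingCat.of K) ⟶ Spec (CommRingCat.of k) := Spec.map (CommRingCat.ofHom (algebraMap k K))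
  let f' : Spec (CommRingCat.of (K ⊗[k] S)) ⟶ Spec (CommRingCat.of K) :=
    Spec.map (CommRingCat.ofHom (Algebra.TensorProduct.includeLeftRingHom : K →+* K ⊗[k] S))
  let g' : Spec (CommRingCat.of (K ⊗[k] S)) ⟶ Spec (CommRingCat.of S) :=
    Spec.map (CommRingCat.ofHom (Algebra.TensorProduct.includeRight.toRingHom : S →+* K ⊗[k] S))
  haveI : Subsingleton ↥(Spec (CommRingCat.of k)) := inferInstanceAs (Subsingleton (PrimeSpectrum k))
  haveI : Subsingleton ↥(Spec (CommRingCat.of K)) := inferInstanceAs (Subsingleton (PrimeSpectrum K))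
  haveI : LocallyOfFiniteType f :=
    (HasRingHomProperty.Spec_iff (P := @LocallyOfFiniteType)).mpr (RingHom.finiteType_algebraMap.mpr inferInstance)
  have hsq : IsPullback g' f' f g :=
    (AlgebraicGeometry.isPullback_SpecMap_of_isPushout _ _ _ _ (CommRingCat.isPushout_tensorProduct k K S)).flip
  haveI : LocallyOfFiniteType f' := MorphismProperty.of_isPullback hsq inferInstance
  let x' : ↥(Spec (CommRingCat.of (K ⊗[k] S))) := (⟨qK, inferInstance⟩ : PrimeSpectrum (K ⊗[k] S))
  have h := DimBC.fibreDimAt_baseChange f g g' f' hsq x'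
  rw [FieldTrdeg.fibreDimAt_eq_localDim, FieldTrdeg.fibreDimAt_eq_localDim] at h
  refine h.trans (congrArg _ (PrimeSpectrum.ext hq))

end Groth.Agent.S2142
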