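import Groth.Statements.S2143
import Groth.Agent.HensPair.FieldTrdeg
import Groth.Agent.HensPair.DimMore
import Mathlib.RingTheory.Jacobson.Ring

set_option autoImplicit false
universe u
open CAlg

namespace Groth.Agent.S2143

/-- (1) = (3): let `S` be of finite type over a field `k` and `𝔭` a prime of `S`. The local dimension of
`Spec S` at `𝔭` is the infimum of `dim S_𝔪` over the maximal ideals `𝔪 ⊇ 𝔭`. -/
theorem result {k S : Type u} [Field k] [CommRing S] [Algebra k S] [Algebra.FiniteType k S]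
    (p : Ideal S) [p.IsPrime] :
    FlatMor.localDim (PrimeSpectrum S) ⟨p, inferInstance⟩ =
      ⨅ m : {m : Ideal S // m.IsMaximal ∧ p ≤ m}, ringKrullDim (Localization.AtPrime (hp := m.2.1.isPrime') m.1) := by
  open Groth.Agent.HensPair AlgebraicGeometry CategoryTheory in
  let f : Spec (CommRingCat.of S) ⟶ Spec (CommRingCat.of k) := Spec.map (CommRingCat.ofHom (algebraMap k S))
  haveI : Subsingleton ↥(Spec (CommRingCat.of k)) := inferInstanceAs (Subsingleton (PrimeSpectrum k))
  haveI : LocallyOfFiniteType f :=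
    (HasRingHomProperty.Spec_iff (P := @LocallyOfFiniteType)).mpr (RingHom.finiteType_algebraMap.mpr inferInstance)
  have hmax : ∀ (m : Ideal S) (hm : m.IsMaximal),
      ringKrullDim (Localization.AtPrime (hp := hm.isPrime') m) = FlatMor.localDim (PrimeSpectrum S) ⟨m, hm.isPrime'⟩ := by
    intro m hm
    haveI := hm.isPrime'
    let x : ↥(Spec (CommRingCat.of S)) := (⟨m, hm.isPrime'⟩ : PrimeSpectrum S)
    obtain ⟨j, -, hj, hd⟩ := FieldTrdeg.main f x
    have hxc : IsClosed ({x} : Set ↥(Spec (CommRingCat.of S))) := (PrimeSpectrum.isClosed_singleton_iff_isMaximal _).mpr hm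
    rw [DimMore.T_eq_zero f x fun z' _ h => hxc.closure_eq.le h.mem_closure, add_zero] at hd
    exact (((ringKrullDim_eq_of_ringEquiv (Spec.stalkIso (CommRingCat.of S) x).commRingCatIsoToRingEquiv).symm.trans hj).trans hd.symm)
  refine le_antisymm (le_iInf fun m => ?_) ?_
  · rw [hmax m.1 m.2.1]
    exact le_iInf fun O => Groth.Agent.TopDim.Basic.localDim_le (⟨p, inferInstance⟩ : PrimeSpectrum S) O.1
      (((PrimeSpectrum.le_iff_specializes _ _).mp m.2.2).mem_open O.1.isOpen O.2)
  · obtain ⟨O, hpO, hO⟩ := Groth.Agent.TopDim.Basic.exists_localDim (⟨p, inferInstance⟩ : PrimeSpectrum S)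
    haveI : IsJacobsonRing S := isJacobsonRing_of_finiteType (A := k) (B := S)
    obtain ⟨m, ⟨hmp, hmO⟩, hmc⟩ := nonempty_inter_closedPoints
      (Z := closure {(⟨p, inferInstance⟩ : PrimeSpectrum S)} ∩ (O : Set (PrimeSpectrum S)))
      ⟨_, subset_closure rfl, hpO⟩ (isClosed_closure.isLocallyClosed.inter O.isOpen.isLocallyClosed)
    have hm := (PrimeSpectrum.isClosed_singleton_iff_isMaximal _).mp hmc
    refine iInf_le_of_le ⟨m.asIdeal, hm, (PrimeSpectrum.le_iff_specializes _ _).mpr (specializes_iff_mem_closure.mpr hmp)⟩ ?_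
    rw [hmax m.asIdeal hm, ← hO]
    exact Groth.Agent.TopDim.Basic.localDim_le m O hmO

end Groth.Agent.S2143
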