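import Groth.Statements.S2144
import Groth.Agent.Flat.AlgebraModel
import Groth.Agent.UnivOpenAt.Dvr
import Mathlib.RingTheory.Spectrum.Prime.Chevalley
import Mathlib.RingTheory.FinitePresentation
import Mathlib.Algebra.MvPolynomial.CommRing
import Mathlib.RingTheory.Flat.FaithfullyFlat.Algebra

set_option autoImplicit false
universe u
open CAlg

namespace Groth.Agent.S2144

open scoped TensorProduct

/-- adjoining a partition of unity -/
theorem exists_unimodular {R C A : Type u} [CommRing R] [CommRing C] [CommRing A] [Algebra R C]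
    [Algebra R A] [Algebra.FinitePresentation R C] (ψ : C →ₐ[R] A) {n : ℕ} (g : Fin n → C) (a : Fin n → A)
    (ha : ∑ i, a i * ψ (g i) = 1) :
    ∃ (A₀ : Type u) (_ : CommRing A₀) (_ : Algebra R A₀) (c : C →ₐ[R] A₀) (f : A₀ →ₐ[R] A),
      Algebra.FinitePresentation R A₀ ∧ f.comp c = ψ ∧ Ideal.span (Set.range (fun i => c (g i))) = ⊤ := by
  let rel : MvPolynomial (Fin n) C := ∑ i, MvPolynomial.X i * MvPolynomial.C (g i) - 1
  haveI : Algebra.FinitePresentation R (MvPolynomial (Fin n) C) := Algebra.FinitePresentation.trans R C _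
  let φ : MvPolynomial (Fin n) C →ₐ[R] A :=
    { toRingHom := MvPolynomial.eval₂Hom ψ.toRingHom a
      commutes' := fun r => by
        rw [show algebraMap R (MvPolynomial (Fin n) C) r = MvPolynomial.C (algebraMap R C r) from rfl]
        simp }
  have hφ : φ rel = 0 := by
    simp only [rel, map_sub, map_sum, map_mul, map_one]
    rw [sub_eq_zero]
    refine Eq.trans (Finset.sum_congr rfl fun i _ => ?_) ha
    simp [φ]
  refine ⟨MvPolynomial (Fin n) C ⧸ Ideal.span {rel}, inferInstance, inferInstance,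
    (Ideal.Quotient.mkₐ R _).comp (IsScalarTower.toAlgHom R C _),
    Ideal.Quotient.liftₐ _ φ (fun x hx => by
      obtain ⟨c, rfl⟩ := Ideal.mem_span_singleton'.1 hx
      rw [map_mul, hφ, mul_zero]),
    Algebra.FinitePresentation.quotient (Submodule.fg_span_singleton rel), ?_, ?_⟩
  · refine AlgHom.ext fun x => ?_
    show φ (MvPolynomial.C x) = ψ x
    simp [φ]
  · rw [Ideal.eq_top_iff_one]
    have h0 : Ideal.Quotient.mk (Ideal.span {rel}) rel = 0 :=
      Ideal.Quotient.eq_zero_iff_mem.2 (Ideal.mem_span_singleton_self _)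
    simp only [rel, map_sub, map_sum, map_mul, map_one, sub_eq_zero] at h0
    rw [← h0]
    exact Ideal.sum_mem _ fun i _ => Ideal.mul_mem_left _ _ (Ideal.subset_span ⟨i, rfl⟩)

open TensorProduct in
/-- Let `R → A → B` be ring maps with `A → B` faithfully flat and of finite presentation. Then there are
an `R`-algebra `A₀` of finite presentation mapping to `A` and a faithfully flat finitely presented
`A₀`-algebra `B₀` with `B ≅ A ⊗_{A₀} B₀` as `A`-algebras. -/
theorem result {R A B : Type u} [CommRing R] [CommRing A] [CommRing B] [Algebra R A]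
    [Algebra A B] [Algebra.FinitePresentation A B] [Module.FaithfullyFlat A B] :
    ∃ (A₀ B₀ : Type u) (_ : CommRing A₀) (_ : CommRing B₀) (_ : Algebra R A₀) (_ : Algebra A₀ A) (_ : IsScalarTower R A₀ A)
      (_ : Algebra A₀ B₀), Algebra.FinitePresentation R A₀ ∧ Algebra.FinitePresentation A₀ B₀ ∧ Module.FaithfullyFlat A₀ B₀ ∧
      Nonempty (B ≃ₐ[A] A ⊗[A₀] B₀) := by
  classical
  obtain ⟨T, hT⟩ := Groth.Agent.Flat.AlgebraModel.exists_flat_algebra_model A B
  obtain ⟨B₁, _, _, j, hft, hflat, hpush⟩ := hT T (Finset.Subset.refl T)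
  haveI := hft; haveI := hflat
  haveI := Groth.Agent.Flat.OpenLocus.adj_finitePresentation T
  haveI : IsNoetherianRing (Groth.Agent.Flat.OpenLocus.adj T) := by
    haveI : Algebra.FiniteType ℤ (Groth.Agent.Flat.OpenLocus.adj T) := inferInstance
    exact Algebra.FiniteType.isNoetherianRing ℤ _
  haveI : Algebra.FinitePresentation (Groth.Agent.Flat.OpenLocus.adj T) B₁ := Algebra.FinitePresentation.of_finiteType.mp hft
  let U : Set (PrimeSpectrum (Groth.Agent.Flat.OpenLocus.adj T)) :=
    Set.range (PrimeSpectrum.comap (algebraMap (Groth.Agent.Flat.OpenLocus.adj T) B₁))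
  have hU : IsOpen U := PrimeSpectrum.isOpenMap_comap_of_hasGoingDown_of_finitePresentation.isOpen_range
  let J := PrimeSpectrum.vanishingIdeal Uᶜ
  have hJU : ∀ p : PrimeSpectrum (Groth.Agent.Flat.OpenLocus.adj T), J ≤ p.asIdeal → p ∉ U := by
    intro p hp
    have : p ∈ PrimeSpectrum.zeroLocus (J : Set (Groth.Agent.Flat.OpenLocus.adj T)) := hp
    rwa [PrimeSpectrum.zeroLocus_vanishingIdeal_eq_closure, hU.isClosed_compl.closure_eq] at this
  have hJA : J.map (Groth.Agent.Flat.OpenLocus.adjHom T) = ⊤ := by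
    by_contra hne
    obtain ⟨q, hq, hle⟩ := Ideal.exists_le_maximal _ hne
    obtain ⟨Q, hQ⟩ := PrimeSpectrum.comap_surjective_of_faithfullyFlat (A := A) (B := B) ⟨q, hq.isPrime⟩
    refine hJU (PrimeSpectrum.comap (Groth.Agent.Flat.OpenLocus.adjHom T) ⟨q, hq.isPrime⟩)
      (Ideal.map_le_iff_le_comap.1 hle) ⟨PrimeSpectrum.comap j Q, ?_⟩
    rw [← hQ, ← PrimeSpectrum.comap_comp_apply, ← PrimeSpectrum.comap_comp_apply]
    exact congrArg (fun f => PrimeSpectrum.comap f Q) (congrArg CommRingCat.Hom.hom hpush.w).symm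
  obtain ⟨n, g, hg⟩ := Submodule.fg_iff_exists_fin_generating_family.mp (IsNoetherian.noetherian J)
  have h1 : (1 : A) ∈ Ideal.span (Set.range (Groth.Agent.Flat.OpenLocus.adjHom T ∘ g)) := by
    rw [Set.range_comp, ← Ideal.map_span, show Ideal.span (Set.range g) = J from hg, hJA]
    trivial
  obtain ⟨a, ha⟩ := Ideal.mem_span_range_iff_exists_fun.1 h1
  let ψ : R ⊗[ℤ] (Groth.Agent.Flat.OpenLocus.adj T) →ₐ[R] A :=
    Algebra.TensorProduct.lift (Algebra.ofId R A) ((Groth.Agent.Flat.OpenLocus.adjHom T).toIntAlgHom) (fun _ _ => Commute.all _ _)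
  obtain ⟨A₀, _, _, c₀, f₀, hfp, hfc, hspan⟩ := exists_unimodular ψ (fun i => 1 ⊗ₜ g i) a (by simpa [ψ] using ha)
  haveI := hfp
  letI : Algebra A₀ A := f₀.toRingHom.toAlgebra
  haveI : IsScalarTower R A₀ A := IsScalarTower.of_algebraMap_eq fun r => (f₀.commutes r).symm
  letI alg0 : Algebra (Groth.Agent.Flat.OpenLocus.adj T) A₀ :=
    (c₀.toRingHom.comp (Algebra.TensorProduct.includeRight (R := ℤ) (A := R)).toRingHom).toAlgebra
  haveI : IsScalarTower (Groth.Agent.Flat.OpenLocus.adj T) A₀ A := IsScalarTower.of_algebraMap_eq fun t => by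
    have := congrArg (fun f => f (1 ⊗ₜ t)) hfc
    show Groth.Agent.Flat.OpenLocus.adjHom T t = f₀ (c₀ (1 ⊗ₜ t))
    simpa [ψ] using this.symm
  have hJ0 : J.map (algebraMap (Groth.Agent.Flat.OpenLocus.adj T) A₀) = ⊤ := by
    rw [← show Ideal.span (Set.range g) = J from hg, Ideal.map_span, ← Set.range_comp]
    exact hspan
  haveI : Module.FaithfullyFlat A₀ (A₀ ⊗[Groth.Agent.Flat.OpenLocus.adj T] B₁) := by
    refine Module.FaithfullyFlat.of_comap_surjective fun q => ?_
    have hp : PrimeSpectrum.comap (algebraMap (Groth.Agent.Flat.OpenLocus.adj T) A₀) q ∈ U := by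
      by_contra hq
      refine q.2.ne_top (top_le_iff.1 (hJ0.symm.trans_le (Ideal.map_le_iff_le_comap.2 fun x hx => ?_)))
      exact (PrimeSpectrum.mem_vanishingIdeal _ _).1 hx _ hq
    obtain ⟨Q₁, hQ₁⟩ := hp
    let k := PrimeSpectrum.comap (algebraMap (Groth.Agent.Flat.OpenLocus.adj T) A₀) q
    let u₁ : k.asIdeal.ResidueField →+* q.asIdeal.ResidueField :=
      Ideal.ResidueField.map k.asIdeal q.asIdeal (algebraMap _ A₀) rfl
    let u₂ : k.asIdeal.ResidueField →+* Q₁.asIdeal.ResidueField :=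
      Ideal.ResidueField.map k.asIdeal Q₁.asIdeal (algebraMap _ B₁) (congrArg PrimeSpectrum.asIdeal hQ₁).symm
    obtain ⟨K, _, u, v, huv⟩ := Groth.Agent.UnivOpenAt.Dvr.exists_common_field u₂ u₁
    letI : Algebra (Groth.Agent.Flat.OpenLocus.adj T) K :=
      ((v.comp (algebraMap A₀ q.asIdeal.ResidueField)).comp (algebraMap _ A₀)).toAlgebra
    let f₁ : A₀ →ₐ[Groth.Agent.Flat.OpenLocus.adj T] K :=
      { toRingHom := v.comp (algebraMap A₀ q.asIdeal.ResidueField), commutes' := fun _ => rfl }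
    let f₂ : B₁ →ₐ[Groth.Agent.Flat.OpenLocus.adj T] K :=
      { toRingHom := u.comp (algebraMap B₁ Q₁.asIdeal.ResidueField), commutes' := fun t => by
          have h := RingHom.congr_fun huv (algebraMap _ k.asIdeal.ResidueField t)
          simp only [RingHom.comp_apply, u₁, u₂] at h
          exact (congrArg u (Ideal.ResidueField.map_algebraMap k.asIdeal Q₁.asIdeal (algebraMap _ B₁) _ t)).symm.trans
            (h.trans (congrArg v (Ideal.ResidueField.map_algebraMap k.asIdeal q.asIdeal (algebraMap _ A₀) _ t))) }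
    let F := Algebra.TensorProduct.lift f₁ f₂ (fun _ _ => Commute.all _ _)
    refine ⟨PrimeSpectrum.comap F.toRingHom ⟨⊥, Ideal.isPrime_bot⟩, ?_⟩
    ext x
    simp only [PrimeSpectrum.comap_asIdeal, Ideal.mem_comap, Ideal.mem_bot]
    simp [F, f₁]
  letI algB : Algebra B₁ B := j.toAlgebra
  haveI : IsScalarTower (Groth.Agent.Flat.OpenLocus.adj T) A B := IsScalarTower.of_algebraMap_eq fun _ => rfl
  haveI : IsScalarTower (Groth.Agent.Flat.OpenLocus.adj T) B₁ B :=
    IsScalarTower.of_algebraMap_eq fun t => congrArg (fun f => f t) (congrArg CommRingCat.Hom.hom hpush.w)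
  haveI : Algebra.IsPushout (Groth.Agent.Flat.OpenLocus.adj T) A B₁ B := CommRingCat.isPushout_iff_isPushout.mp hpush
  let e : B ≃ₐ[A] A ⊗[A₀] (A₀ ⊗[Groth.Agent.Flat.OpenLocus.adj T] B₁) :=
    ((Algebra.TensorProduct.cancelBaseChange (Groth.Agent.Flat.OpenLocus.adj T) A₀ A A B₁).trans
      (Algebra.IsPushout.equiv (Groth.Agent.Flat.OpenLocus.adj T) A B₁ B)).symm
  exact ⟨A₀, A₀ ⊗[Groth.Agent.Flat.OpenLocus.adj T] B₁, inferInstance, inferInstance, inferInstance, inferInstance,
    inferInstance, inferInstance, inferInstance, inferInstance, inferInstance, ⟨e⟩⟩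

end Groth.Agent.S2144
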