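import Groth.Statements.S2146
import Groth.Agent.Alg.SpreadIso
import Mathlib.RingTheory.Ideal.Quotient.Operations
import Mathlib.RingTheory.Localization.Away.Basic
import Mathlib.Tactic.LinearCombination

set_option autoImplicit false
universe u
open CAlg

namespace Groth.Agent.S2146

/-- Let `S` be a finitely presented `R`-algebra and `𝔮` a prime of `S` over `𝔭` such that the induced
map `R_𝔭 → S_𝔮` is bijective. Then for some `f ∉ 𝔭` there is an `R_f`-algebra `C` with `S_f ≅ R_f ×
C` as `R_f`-algebras. -/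
theorem result {R S : Type u} [CommRing R] [CommRing S] [Algebra R S]
    [Algebra.FinitePresentation R S] (q : Ideal S) [q.IsPrime] (p : Ideal R) [p.IsPrime] [q.LiesOver p]
    (h : Function.Bijective (Localization.localRingHom p q (algebraMap R S) (q.over_def p))) :
    ∃ f : R, f ∉ p ∧ ∀ (Rf Sf : Type u) [CommRing Rf] [CommRing Sf] [Algebra R Rf] [IsLocalization.Away f Rf]
      [Algebra S Sf] [IsLocalization.Away (algebraMap R S f) Sf] [Algebra Rf Sf] [Algebra R Sf] [IsScalarTower R S Sf]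
      [IsScalarTower R Rf Sf],
      ∃ (C : Type u) (_ : CommRing C) (_ : Algebra Rf C), Nonempty (Sf ≃ₐ[Rf] (Rf × C)) := by
  classical
  have hp : p = q.comap (algebraMap R S) := q.over_def p
  let φ := Localization.localRingHom p q (algebraMap R S) hp
  let e : Localization.AtPrime p ≃ₐ[R] Localization.AtPrime q := AlgEquiv.ofRingEquiv (f := RingEquiv.ofBijective φ h)
    fun r => by
      change φ (algebraMap R (Localization.AtPrime p) r) = _
      rw [Localization.localRingHom_to_map, ← IsScalarTower.algebraMap_apply R S (Localization.AtPrime q)]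
  obtain ⟨f₀, hf₀, σ₀, hσ₀⟩ := Groth.Agent.Alg.SpreadIso.exists_lift (T := S) p
    (e.symm.toAlgHom.comp (IsScalarTower.toAlgHom R S _))
  obtain ⟨n, π, hπ, -⟩ := Algebra.FinitePresentation.out (R := R) (A := S)
  let x : Fin n → S := fun i => π (MvPolynomial.X i)
  choose a k hak using fun i => Groth.Agent.Alg.SpreadIso.exists_frac (σ₀ (x i))
  have hd : ∀ i, algebraMap S (Localization.AtPrime q) (algebraMap R S (f₀ ^ k i) * x i - algebraMap R S (a i)) = 0 := by
    intro i
    refine e.symm.injective ?_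
    have h1 := congrArg (Groth.Agent.Alg.SpreadIso.toQ (R := R) p hf₀) (hak i)
    rw [map_mul, Groth.Agent.Alg.SpreadIso.toQ_alg, Groth.Agent.Alg.SpreadIso.toQ_alg,
      show Groth.Agent.Alg.SpreadIso.toQ (R := R) p hf₀ (σ₀ (x i)) = e.symm (algebraMap S _ (x i)) from
        AlgHom.congr_fun hσ₀ (x i)] at h1
    rw [map_zero, map_sub, map_mul, ← IsScalarTower.algebraMap_apply, ← IsScalarTower.algebraMap_apply, map_sub,
      map_mul, AlgEquiv.commutes, AlgEquiv.commutes, sub_eq_zero, mul_comm]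
    exact h1
  choose c hc using fun i => (IsLocalization.map_eq_zero_iff q.primeCompl _ _).1 (hd i)
  let g : S := ∏ i, (c i : S)
  have hg : g ∉ q := (q.primeCompl.prod_mem fun i _ => (c i).2 : _)
  obtain ⟨b, kb, hbp, hb⟩ := Groth.Agent.Alg.SpreadIso.exists_numerator (R := R) p hf₀ (σ₀ g) (by
    rw [show Groth.Agent.Alg.SpreadIso.toQ (R := R) p hf₀ (σ₀ g) = e.symm (algebraMap S _ g) from AlgHom.congr_fun hσ₀ g]
    exact (IsLocalization.map_units (M := q.primeCompl) (Localization.AtPrime q) ⟨g, hg⟩).map e.symm)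
  have hfp : f₀ * b ∉ p := Groth.Agent.Alg.SpreadIso.mul_notMem' p hf₀ hbp
  refine ⟨f₀ * b, hfp, fun Rf Sf _ _ _ _ _ _ _ _ _ _ => ?_⟩
  have hfu : IsUnit (algebraMap R Rf (f₀ * b)) := IsLocalization.Away.algebraMap_isUnit _
  have hu₀ : IsUnit (Algebra.ofId R Rf f₀) := isUnit_of_dvd_unit (map_dvd _ (dvd_mul_right f₀ b)) hfu
  let j : Localization.Away f₀ →ₐ[R] Rf := Groth.Agent.Alg.SpreadIso.liftA f₀ (Algebra.ofId R Rf) hu₀
  have hj : ∀ r, j (algebraMap R _ r) = algebraMap R Rf r := fun r => Groth.Agent.Alg.SpreadIso.liftA_alg _ _ _ r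
  let σ₁ : S →ₐ[R] Rf := j.comp σ₀
  have hσu : IsUnit (σ₁.toRingHom (algebraMap R S (f₀ * b))) := by
    rw [show σ₁.toRingHom (algebraMap R S (f₀ * b)) = algebraMap R Rf (f₀ * b) from σ₁.commutes _]
    exact hfu
  let σ : Sf →+* Rf := IsLocalization.Away.lift (S := Sf) (algebraMap R S (f₀ * b)) hσu
  have hσS : ∀ y, σ (algebraMap S Sf y) = σ₁ y := fun y => IsLocalization.Away.lift_eq _ hσu y
  have hσR : σ.comp (algebraMap Rf Sf) = RingHom.id Rf := IsLocalization.ringHom_ext (Submonoid.powers (f₀ * b))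
    (RingHom.ext fun r => by
      change σ (algebraMap Rf Sf (algebraMap R Rf r)) = algebraMap R Rf r
      rw [← IsScalarTower.algebraMap_apply R Rf Sf, IsScalarTower.algebraMap_apply R S Sf, hσS]
      exact σ₁.commutes r)
  have hσRf : ∀ r, σ (algebraMap Rf Sf r) = r := fun r => RingHom.congr_fun hσR r
  have hgu : IsUnit (σ₁ g) := by
    have h1 := congrArg j hb
    rw [map_mul, hj, hj] at h1
    refine isUnit_of_mul_isUnit_left (y := algebraMap R Rf (f₀ ^ kb)) ?_
    rw [show σ₁ g = j (σ₀ g) from rfl, h1]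
    exact isUnit_of_dvd_unit (map_dvd _ (dvd_mul_left b f₀)) hfu
  let e₀ : Sf := algebraMap S Sf g * algebraMap Rf Sf ((hgu.unit⁻¹ : Rfˣ) : Rf)
  have he₀ : σ e₀ = 1 := by rw [map_mul, hσS, hσRf]; exact hgu.mul_val_inv
  -- the good set
  let G : Subalgebra Rf Sf :=
    { carrier := {y | e₀ * y = e₀ * algebraMap Rf Sf (σ y)}
      mul_mem' := fun {y z} (hy : e₀ * y = _) (hz : e₀ * z = _) => by
        change e₀ * (y * z) = e₀ * algebraMap Rf Sf (σ (y * z))
        rw [map_mul, map_mul]
        linear_combination z * hy + algebraMap Rf Sf (σ y) * hz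
      add_mem' := fun {y z} (hy : e₀ * y = _) (hz : e₀ * z = _) => by
        change e₀ * (y + z) = e₀ * algebraMap Rf Sf (σ (y + z))
        rw [map_add, map_add]
        linear_combination hy + hz
      algebraMap_mem' := fun r => by
        change e₀ * _ = e₀ * algebraMap Rf Sf (σ (algebraMap Rf Sf r))
        rw [hσRf] }
  have hGgen : ∀ i, algebraMap S Sf (x i) ∈ G := fun i => by
    change e₀ * _ = e₀ * algebraMap Rf Sf (σ (algebraMap S Sf (x i)))
    rw [hσS]
    have h1 := congrArg j (hak i)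
    rw [map_mul, hj, hj] at h1
    have h0 : algebraMap S Sf g * (algebraMap S Sf (algebraMap R S (f₀ ^ k i) * x i - algebraMap R S (a i))) = 0 := by
      rw [← map_mul, show g = (c i : S) * ∏ l ∈ Finset.univ.erase i, (c l : S) from
        (Finset.mul_prod_erase Finset.univ (fun l => (c l : S)) (Finset.mem_univ i)).symm, mul_right_comm, hc i, zero_mul, map_zero]
    rw [map_sub, map_mul, ← IsScalarTower.algebraMap_apply, ← IsScalarTower.algebraMap_apply,
      IsScalarTower.algebraMap_apply R Rf Sf, IsScalarTower.algebraMap_apply R Rf Sf, ← h1, map_mul,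
      show j (σ₀ (x i)) = σ₁ (x i) from rfl] at h0
    have hu : IsUnit (algebraMap Rf Sf (algebraMap R Rf (f₀ ^ k i))) := by
      have hw : IsUnit (algebraMap R Rf f₀) := isUnit_of_dvd_unit (map_dvd _ (dvd_mul_right f₀ b)) hfu
      rw [map_pow, map_pow]
      exact (hw.map _).pow _
    refine hu.mul_right_cancel ?_
    simp only [e₀]
    linear_combination algebraMap Rf Sf ((hgu.unit⁻¹ : Rfˣ) : Rf) * h0
  have hGS : ∀ y : S, algebraMap S Sf y ∈ G := by
    intro y
    obtain ⟨P, rfl⟩ := hπ y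
    induction P using MvPolynomial.induction_on with
    | C r =>
      rw [show π (MvPolynomial.C r) = algebraMap R S r from π.commutes r, ← IsScalarTower.algebraMap_apply,
        IsScalarTower.algebraMap_apply R Rf Sf]
      exact G.algebraMap_mem _
    | add P Q hP hQ => rw [map_add, map_add]; exact add_mem hP hQ
    | mul_X P i hP => rw [map_mul, map_mul]; exact mul_mem hP (hGgen i)
  have hGall : ∀ z : Sf, e₀ * z = e₀ * algebraMap Rf Sf (σ z) := by
    intro z
    obtain ⟨⟨y, ⟨_, m, rfl⟩⟩, hy⟩ := IsLocalization.surj (Submonoid.powers (algebraMap R S (f₀ * b))) z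
    have hu : IsUnit (algebraMap S Sf ((algebraMap R S (f₀ * b)) ^ m)) := by
      rw [map_pow]; exact (IsLocalization.Away.algebraMap_isUnit _).pow m
    refine hu.mul_right_cancel ?_
    have e1 : algebraMap S Sf ((algebraMap R S (f₀ * b)) ^ m) =
        algebraMap Rf Sf (σ (algebraMap S Sf ((algebraMap R S (f₀ * b)) ^ m))) := by
      rw [hσS, ← map_pow, σ₁.commutes, ← IsScalarTower.algebraMap_apply, ← IsScalarTower.algebraMap_apply]
    rw [mul_assoc, hy]
    conv_rhs => rw [e1, mul_assoc e₀, ← map_mul, ← map_mul, hy]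
    exact hGS y
  have hidem : e₀ * e₀ = e₀ := by rw [hGall e₀, he₀, map_one, mul_one]
  let σa : Sf →ₐ[Rf] Rf := { σ with commutes' := hσRf }
  let Φ : Sf →ₐ[Rf] Rf × (Sf ⧸ Ideal.span {e₀}) := σa.prod (Ideal.Quotient.mkₐ Rf (Ideal.span {e₀}))
  refine ⟨Sf ⧸ Ideal.span {e₀}, inferInstance, inferInstance, ⟨AlgEquiv.ofBijective Φ ⟨?_, ?_⟩⟩⟩
  · refine (injective_iff_map_eq_zero Φ).2 fun z hz => ?_
    have hz1 : σ z = 0 := congrArg Prod.fst hz
    have hz2 : z ∈ Ideal.span {e₀} := Ideal.Quotient.eq_zero_iff_mem.1 (congrArg Prod.snd hz)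
    obtain ⟨w, rfl⟩ := Ideal.mem_span_singleton.1 hz2
    have h1 := hGall (e₀ * w)
    rw [hz1, map_zero, mul_zero, ← mul_assoc, hidem] at h1
    exact h1
  · rintro ⟨r, y⟩
    obtain ⟨y, rfl⟩ := Ideal.Quotient.mk_surjective y
    refine ⟨e₀ * algebraMap Rf Sf r + (1 - e₀) * y, Prod.ext ?_ ?_⟩
    · change σ _ = r
      rw [map_add, map_mul σ e₀, map_mul σ (1 - e₀), map_sub, map_one, he₀, hσRf, one_mul, sub_self, zero_mul, add_zero]
    · change Ideal.Quotient.mk _ _ = Ideal.Quotient.mk _ y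
      rw [Ideal.Quotient.mk_eq_mk_iff_sub_mem, Ideal.mem_span_singleton]
      exact ⟨algebraMap Rf Sf r - y, by ring⟩

end Groth.Agent.S2146
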