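import Groth.Statements.S2149
import Mathlib.RingTheory.Localization.BaseChange
import Mathlib.RingTheory.LocalProperties.Exactness
import Mathlib.RingTheory.Flat.Localization

set_option autoImplicit false
universe u
open CAlg

namespace Groth.Agent.S2149


open TensorProduct

/-- Let `R → S` be a ring map and `u : M → M'` a map of `S`-modules. Then `u`, viewed as an `R`-linear
map, is universally injective exactly when, for every maximal ideal `𝔪` of `S`, the localized map
`M_𝔪 → M'_𝔪` is also universally injective as an `R`-linear map. -/
theorem result {R S M M' : Type u} [CommRing R] [CommRing S] [Algebra R S]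
    [AddCommGroup M] [Module S M] [Module R M] [IsScalarTower R S M] [AddCommGroup M'] [Module S M'] [Module R M']
    [IsScalarTower R S M'] (u : M →ₗ[S] M') :
    CAlgX.UniversallyInjective R (u.restrictScalars R) ↔
      ∀ (m : Ideal S) [m.IsMaximal],
        CAlgX.UniversallyInjective R ((LocalizedModule.map m.primeCompl u).restrictScalars R) := by
  have key : ∀ (m : Ideal S) [m.IsMaximal] (Q : Type u) [AddCommGroup Q] [Module R Q],
      ⇑(IsLocalizedModule.map m.primeCompl
        (TensorProduct.AlgebraTensorModule.rTensor R Q (LocalizedModule.mkLinearMap m.primeCompl M))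
        (TensorProduct.AlgebraTensorModule.rTensor R Q (LocalizedModule.mkLinearMap m.primeCompl M'))
        (TensorProduct.AlgebraTensorModule.rTensor R Q u)) =
      ⇑(((LocalizedModule.map m.primeCompl u).restrictScalars R).rTensor Q) := by
    intro m _ Q _ _
    have h : IsLocalizedModule.map m.primeCompl
        (TensorProduct.AlgebraTensorModule.rTensor R Q (LocalizedModule.mkLinearMap m.primeCompl M))
        (TensorProduct.AlgebraTensorModule.rTensor R Q (LocalizedModule.mkLinearMap m.primeCompl M'))
        (TensorProduct.AlgebraTensorModule.rTensor R Q u) =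
        TensorProduct.AlgebraTensorModule.rTensor R Q ((LocalizedModule.map m.primeCompl u).restrictScalars S) := by
      refine IsLocalizedModule.linearMap_ext m.primeCompl
        (TensorProduct.AlgebraTensorModule.rTensor R Q (LocalizedModule.mkLinearMap m.primeCompl M))
        (TensorProduct.AlgebraTensorModule.rTensor R Q (LocalizedModule.mkLinearMap m.primeCompl M')) ?_
      ext x q
      simpa using IsLocalizedModule.map_apply m.primeCompl
        (TensorProduct.AlgebraTensorModule.rTensor R Q (LocalizedModule.mkLinearMap m.primeCompl M))
        (TensorProduct.AlgebraTensorModule.rTensor R Q (LocalizedModule.mkLinearMap m.primeCompl M'))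
        (TensorProduct.AlgebraTensorModule.rTensor R Q u) (x ⊗ₜ[R] q)
    exact congrArg DFunLike.coe h
  constructor
  · intro h m _ Q _ _
    rw [← key]
    exact IsLocalizedModule.map_injective m.primeCompl _ _ _ (h Q)
  · intro h Q _ _
    refine injective_of_isLocalized_maximal
      (fun m _ => (LocalizedModule m.primeCompl M) ⊗[R] Q)
      (fun m _ => TensorProduct.AlgebraTensorModule.rTensor R Q (LocalizedModule.mkLinearMap m.primeCompl M))
      (fun m _ => (LocalizedModule m.primeCompl M') ⊗[R] Q)
      (fun m _ => TensorProduct.AlgebraTensorModule.rTensor R Q (LocalizedModule.mkLinearMap m.primeCompl M'))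
      (TensorProduct.AlgebraTensorModule.rTensor R Q u) fun m _ => ?_
    rw [key]
    exact h m Q

end Groth.Agent.S2149
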