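import Groth.Statements.S2154
import Groth.Agent.Lead.Lim.Integral
-- import your own Groth.Agent.* helpers here

set_option autoImplicit false
universe u
open CategoryTheory AlgebraicGeometry
open Lim

namespace Groth.Agent.S2154

/-- Let `S` be quasi-compact and quasi-separated and `X = lim X_i` a cofiltered limit of quasi-compact
quasi-separated `S`-schemes locally of finite type over `S`, with finite transition morphisms. If `X
→ S` is integral then `X_i → S` is finite for all `i` beyond some index. -/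
theorem result {I : Type u} [SmallCategory I] [IsCofiltered I] (S : Scheme.{u}) [CompactSpace S]
    [QuasiSeparatedSpace S] (D : I ⥤ Over S) (c : Limits.Cone D) (hc : Limits.IsLimit c)
    [∀ (i j : I) (f : i ⟶ j), IsFinite (D.map f).left] [∀ i, CompactSpace (D.obj i).left]
    [∀ i, QuasiSeparatedSpace (D.obj i).left] [∀ i, LocallyOfFiniteType (D.obj i).hom] [IsIntegralHom c.pt.hom] :
    ∃ i₀ : I, ∀ (i : I) (_ : i ⟶ i₀), IsFinite (D.obj i).hom := by
  haveI : IsConnected I := IsCofiltered.isConnected I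
  let E := D ⋙ Over.forget S
  haveI hfin : ∀ {i j : I} (f : i ⟶ j), IsFinite (E.map f) := fun f => ‹∀ (i j : I) (f : i ⟶ j), IsFinite (D.map f).left› _ _ f
  haveI : ∀ {i j : I} (f : i ⟶ j), IsAffineHom (E.map f) := fun f => (hfin f).toIsAffineHom
  haveI : ∀ i, CompactSpace (E.obj i) := fun i => ‹∀ i, CompactSpace (D.obj i).left› i
  haveI : ∀ i, QuasiSeparatedSpace (E.obj i) := fun i => ‹∀ i, QuasiSeparatedSpace (D.obj i).left› i
  let j₀ : I := IsCofiltered.nonempty.some
  let t₀ : E.obj j₀ ⟶ S := (D.obj j₀).hom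
  haveI : LocallyOfFiniteType t₀ := ‹∀ i, LocallyOfFiniteType (D.obj i).hom› j₀
  haveI : IsIntegralHom (((Over.forget S).mapCone c).π.app j₀ ≫ t₀) := by
    show IsIntegralHom ((c.π.app j₀).left ≫ (D.obj j₀).hom)
    rw [show (c.π.app j₀).left ≫ (D.obj j₀).hom = c.pt.hom from Over.w (c.π.app j₀)]
    infer_instance
  obtain ⟨i, φ, h⟩ := Groth.Agent.Lead.Lim.exists_isIntegralHom E ((Over.forget S).mapCone c)
    (Limits.isLimitOfPreserves (Over.forget S) hc) (fun f => hfin f) j₀ t₀
  have hi : IsFinite (D.obj i).hom := by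
    refine (IsFinite.iff_isIntegralHom_and_locallyOfFiniteType (D.obj i).hom).2 ⟨?_, inferInstance⟩
    have e : E.map φ ≫ t₀ = (D.obj i).hom := Over.w (D.map φ)
    exact e ▸ h
  refine ⟨i, fun j f => ?_⟩
  rw [show (D.obj j).hom = (D.map f).left ≫ (D.obj i).hom from (Over.w (D.map f)).symm]
  infer_instance

end Groth.Agent.S2154
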