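import Groth.Statements.S2155
import Groth.Prelude
import Groth.Agent.Locus.BaseChange

set_option autoImplicit false
universe u
open CategoryTheory AlgebraicGeometry
open Mor

namespace Groth.Agent.S2155
open CategoryTheory CategoryTheory.Limits AlgebraicGeometry Groth.Agent.Locus
set_option backward.isDefEq.respectTransparency false

/-- Consider a cartesian square with `f : X → S` locally of finite presentation, base change `g : S' →
S`, and `f' : X' → S'`, `g' : X' → X` the projections. If `f` is flat, or if `g` is flat, then the
open set of points where `f'` is smooth is the preimage under `g'` of the open set of points where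
`f` is smooth. -/
theorem result {X S X' S' : Scheme.{u}} (f : X ⟶ S) (g : S' ⟶ S) (f' : X' ⟶ S') (g' : X' ⟶ X)
    (h : IsPullback g' f' f g) [LocallyOfFinitePresentation f] [LocallyOfFinitePresentation f'] (hflat : Flat f ∨ Flat g) :
    f'.smoothLocus = g' ⁻¹ᵁ f.smoothLocus := by
  ext x'
  refine ⟨fun hx => ?_, fun hx => BaseChange.mem_smoothLocus_forward h hx⟩
  rcases hflat with hf | hg
  · exact BaseChange.mem_smoothLocus_of_flat_stalkMap h (Flat.stalkMap f _) hx
  · exact BaseChange.mem_smoothLocus_of_flat_base_stalkMap h (Flat.stalkMap g _) hx

end Groth.Agent.S2155
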