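import Groth.Statements.S2156
import Groth.Prelude
import Groth.Agent.Locus.BaseChange

set_option autoImplicit false
universe u
open CategoryTheory AlgebraicGeometry
open Mor

namespace Groth.Agent.S2156
open CategoryTheory CategoryTheory.Limits AlgebraicGeometry Groth.Agent.Locus
set_option backward.isDefEq.respectTransparency false

/-- Let `f : X → S` be locally of finite presentation and `x ∈ X` with image `s`. Then `f` is smooth at
`x` if and only if `O_{S,s} → O_{X,x}` is flat and the fibre `X_s → Spec κ(s)` is smooth at the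
point corresponding to `x`. -/
theorem result {X S : Scheme.{u}} (f : X ⟶ S) [LocallyOfFinitePresentation f] (x : X)
    [LocallyOfFinitePresentation (f.fiberToSpecResidueField (f.base x))] :
    x ∈ f.smoothLocus ↔
      (f.stalkMap x).hom.Flat ∧ f.asFiber x ∈ (f.fiberToSpecResidueField (f.base x)).smoothLocus := by
  have h : IsPullback (f.fiberι (f x)) (f.fiberToSpecResidueField (f x)) f (S.fromSpecResidueField (f x)) :=
    IsPullback.of_hasPullback _ _
  refine ⟨fun hx => ⟨?_, ?_⟩, fun ⟨hfl, hx⟩ => ?_⟩
  · obtain ⟨U, hxU, hU⟩ := (Basic.exists_smooth_nhd_iff f x).mpr hx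
    have h' := Flat.stalkMap (U.ι ≫ f) ⟨x, hxU⟩
    rw [Scheme.Hom.stalkMap_comp, CommRingCat.hom_comp,
      RingHom.Flat.respectsIso.cancel_right_isIso] at h'
    exact h'
  · refine BaseChange.mem_smoothLocus_forward h ?_
    rw [Scheme.Hom.fiberι_asFiber]; exact hx
  · have := BaseChange.mem_smoothLocus_of_flat_stalkMap h (x' := f.asFiber x)
      (by rw [Scheme.Hom.fiberι_asFiber]; exact hfl) hx
    rwa [Scheme.Hom.fiberι_asFiber] at this

end Groth.Agent.S2156
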