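import Groth.Statements.S2158
import Groth.Agent.ModStalk.OmegaLocal
import Groth.Agent.ModStalk.Localization
import Mathlib.RingTheory.Etale.Kaehler
import Mathlib.RingTheory.Unramified.LocalRing

set_option autoImplicit false
universe u
open CategoryTheory AlgebraicGeometry
open Mor

namespace Groth.Agent.S2158

open scoped TensorProduct
open AlgebraicGeometry CategoryTheory Groth.Agent.ModStalk

set_option linter.style.haveILetI false


/-- Let `f : X → S` be locally of finite type and quasi-separated (so that the diagonal is quasi-compact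
and the prelude's sheaf of differentials is the conormal sheaf of the diagonal near every point), `x
∈ X`, `s = f(x)`. Then the stalk `Ω_{X/S,x}` vanishes if and only if `𝔪_s O_{X,x} = 𝔪_x` and
`κ(x)/κ(s)` is a finite separable extension. -/
theorem result {X S : Scheme.{u}} (f : X ⟶ S) [LocallyOfFiniteType f] [QuasiSeparated f] (x : X) :
    Subsingleton ((Omega.sheaf f).presheaf.stalk x) ↔
      ((IsLocalRing.maximalIdeal (S.presheaf.stalk (f.base x))).map (f.stalkMap x).hom =
          IsLocalRing.maximalIdeal (X.presheaf.stalk x) ∧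
        (f.residueFieldMap x).hom.Finite ∧
        @Algebra.IsSeparable (S.residueField (f.base x)) (X.residueField x) _ _ (f.residueFieldMap x).hom.toAlgebra) := by
  have hd := isUniversal_dOmega f
  haveI : (Omega.sheaf f).IsQuasicoherent := isQCoh_of_isUniversal hd
  obtain ⟨_, ⟨V, hV, rfl⟩, hxV, -⟩ := S.isBasis_affineOpens.exists_subset_of_mem_open (Set.mem_univ (f x)) isOpen_univ
  obtain ⟨_, ⟨U, hU, rfl⟩, hxU, hle⟩ :=
    X.isBasis_affineOpens.exists_subset_of_mem_open (show x ∈ f ⁻¹ᵁ V from hxV) (f ⁻¹ᵁ V).2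
  let M := Omega.sheaf f
  let A := Γ(S, V)
  let B := Γ(X, U)
  let Ap := S.presheaf.stalk (f x)
  let Bq := X.presheaf.stalk x
  letI : Algebra A B := (f.appLE V U hle).hom.toAlgebra
  letI : Algebra B Bq := TopCat.Presheaf.algebra_section_stalk X.presheaf (⟨x, hxU⟩ : U)
  letI : Algebra A Ap := TopCat.Presheaf.algebra_section_stalk S.presheaf (⟨f x, hxV⟩ : V)
  letI : Algebra Ap Bq := (f.stalkMap x).hom.toAlgebra
  letI : Algebra A Bq := ((algebraMap B Bq).comp (algebraMap A B)).toAlgebra
  haveI : IsScalarTower A B Bq := IsScalarTower.of_algebraMap_eq fun _ => rfl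
  haveI : IsScalarTower A Ap Bq := IsScalarTower.of_algebraMap_eq fun a => by
    show X.presheaf.germ U x hxU (f.appLE V U hle a) = f.stalkMap x (S.presheaf.germ V (f x) hxV a)
    rw [Scheme.Hom.germ_stalkMap_apply]
    exact TopCat.Presheaf.germ_res_apply _ (homOfLE hle) x hxU _
  haveI : IsLocalHom (algebraMap Ap Bq) := inferInstanceAs (IsLocalHom (f.stalkMap x).hom)
  haveI hBq : IsLocalization.AtPrime Bq (hU.primeIdealOf ⟨x, hxU⟩).asIdeal := hU.isLocalization_stalk ⟨x, hxU⟩
  haveI hAp : IsLocalization.AtPrime Ap (hV.primeIdealOf ⟨f x, hxV⟩).asIdeal := hV.isLocalization_stalk ⟨f x, hxV⟩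
  haveI : Algebra.FiniteType A B := f.finiteType_appLE hV hU hle
  haveI : Algebra.EssFiniteType B Bq :=
    Algebra.EssFiniteType.of_isLocalization _ (hU.primeIdealOf ⟨x, hxU⟩).asIdeal.primeCompl
  haveI : Algebra.EssFiniteType A Bq := Algebra.EssFiniteType.comp A B Bq
  haveI : Algebra.EssFiniteType Ap Bq := Algebra.EssFiniteType.of_comp A Ap Bq
  obtain ⟨T, -⟩ := exists_kaehlerEquiv hle hd hV hU
  letI := sectionModule M (⟨x, hxU⟩ : U)
  haveI := isLocalizedModule_germ hU M (⟨x, hxU⟩ : U)
  haveI : IsLocalizedModule (hU.primeIdealOf ⟨x, hxU⟩).asIdeal.primeCompl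
      (germₗ M (⟨x, hxU⟩ : U) ∘ₗ T.toLinearMap) := inferInstance
  let e : M.presheaf.stalk x ≃ₗ[B] Ω[Bq⁄A] :=
    (IsLocalizedModule.iso (hU.primeIdealOf ⟨x, hxU⟩).asIdeal.primeCompl (germₗ M (⟨x, hxU⟩ : U) ∘ₗ T.toLinearMap)).symm ≪≫ₗ
      IsLocalizedModule.iso (hU.primeIdealOf ⟨x, hxU⟩).asIdeal.primeCompl (KaehlerDifferential.map A A B Bq)
  haveI : Algebra.FormallyEtale A Ap := Algebra.FormallyEtale.of_isLocalization (hV.primeIdealOf ⟨f x, hxV⟩).asIdeal.primeCompl
  have hiff : Subsingleton (M.presheaf.stalk x) ↔ Algebra.FormallyUnramified Ap Bq := by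
    rw [e.toEquiv.subsingleton_congr]
    refine ⟨fun h => ⟨(KaehlerDifferential.map_surjective A Ap Bq).subsingleton⟩, fun h => ?_⟩
    haveI : Algebra.FormallyUnramified A Bq := Algebra.FormallyUnramified.comp A Ap Bq
    infer_instance
  rw [hiff, Algebra.FormallyUnramified.iff_map_maximalIdeal_eq]
  have halg : ((IsLocalRing.ResidueField.map (algebraMap Ap Bq)).toAlgebra :
      Algebra (IsLocalRing.ResidueField Ap) (IsLocalRing.ResidueField Bq)) =
      (inferInstance : Algebra (IsLocalRing.ResidueField Ap) (IsLocalRing.ResidueField Bq)) :=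
    Algebra.algebra_ext _ _ fun r => by obtain ⟨r, rfl⟩ := IsLocalRing.residue_surjective r; rfl
  constructor
  · rintro ⟨hsep, hmax⟩
    haveI : Algebra.FormallyUnramified Ap Bq :=
      Algebra.FormallyUnramified.iff_map_maximalIdeal_eq.mpr ⟨hsep, hmax⟩
    have hf : Module.Finite (IsLocalRing.ResidueField Ap) (IsLocalRing.ResidueField Bq) := inferInstance
    refine ⟨hmax, ?_, ?_⟩
    · show @Module.Finite (IsLocalRing.ResidueField Ap) (IsLocalRing.ResidueField Bq) _ _
        (IsLocalRing.ResidueField.map (algebraMap Ap Bq)).toAlgebra.toModule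
      rw [halg]
      exact hf
    · show @Algebra.IsSeparable (IsLocalRing.ResidueField Ap) (IsLocalRing.ResidueField Bq) _ _
        (IsLocalRing.ResidueField.map (algebraMap Ap Bq)).toAlgebra
      rw [halg]
      exact hsep
  · rintro ⟨hmax, -, hsep⟩
    refine ⟨?_, hmax⟩
    have h' : @Algebra.IsSeparable (IsLocalRing.ResidueField Ap) (IsLocalRing.ResidueField Bq) _ _
        (IsLocalRing.ResidueField.map (algebraMap Ap Bq)).toAlgebra := hsep
    rw [halg] at h'
    exact h'

end Groth.Agent.S2158
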