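import Groth.Statements.S2159
import Mathlib.Algebra.Module.Projective
import Mathlib.LinearAlgebra.Prod

set_option autoImplicit false
universe u
open CAlg

namespace Groth.Agent.S2159

/-- Given surjections `p₁ : P₁ → M` and `p₂ : P₂ → M` from projective modules, with kernels `K` and `L`,
there is an isomorphism `K ⊕ P₂ ≅ L ⊕ P₁`. -/
theorem result {R M P₁ P₂ : Type u} [CommRing R] [AddCommGroup M] [Module R M] [AddCommGroup P₁] [Module R P₁]
    [Module.Projective R P₁] [AddCommGroup P₂] [Module R P₂] [Module.Projective R P₂] (p₁ : P₁ →ₗ[R] M) (p₂ : P₂ →ₗ[R] M)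
    (h₁ : Function.Surjective p₁) (h₂ : Function.Surjective p₂) :
    Nonempty ((LinearMap.ker p₁ × P₂) ≃ₗ[R] (LinearMap.ker p₂ × P₁)) := by
  obtain ⟨a, ha⟩ := Module.projective_lifting_property p₂ p₁ h₂
  obtain ⟨b, hb⟩ := Module.projective_lifting_property p₁ p₂ h₁
  have ha' : ∀ x, p₂ (a x) = p₁ x := fun x => LinearMap.congr_fun ha x
  have hb' : ∀ x, p₁ (b x) = p₂ x := fun x => LinearMap.congr_fun hb x
  exact ⟨{
    toFun := fun q => (⟨q.2 - a (q.1.1 + b q.2), by simp [ha', hb']⟩, q.1.1 + b q.2)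
    invFun := fun q => (⟨q.2 - b (q.1.1 + a q.2), by simp [ha', hb']⟩, q.1.1 + a q.2)
    map_add' := fun q r => by
      refine Prod.ext (Subtype.ext ?_) ?_ <;> simp <;> abel
    map_smul' := fun c q => by
      refine Prod.ext (Subtype.ext ?_) ?_ <;> simp [smul_sub, smul_add]
    left_inv := fun q => by
      refine Prod.ext (Subtype.ext ?_) ?_ <;> simp
    right_inv := fun q => by
      refine Prod.ext (Subtype.ext ?_) ?_ <;> simp }⟩

end Groth.Agent.S2159
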