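import Groth.Statements.S2160
import Mathlib.RingTheory.Ideal.KrullsHeightTheorem
import Mathlib.RingTheory.Spectrum.Prime.Topology
import Mathlib.RingTheory.Ideal.MinimalPrime.Noetherian

set_option autoImplicit false
universe u
open CAlg

namespace Groth.Agent.S2160

/-- Let `R` be a Noetherian local domain of Krull dimension at least `2`. Then every nonempty open
subset of `Spec R` is infinite. -/
theorem result {R : Type u} [CommRing R] [IsDomain R] [IsLocalRing R] [IsNoetherianRing R]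
    (hdim : 2 ≤ ringKrullDim R) (U : Set (PrimeSpectrum R)) (hU : IsOpen U) (hne : U.Nonempty) : U.Infinite := by
  classical
  intro hfin
  obtain ⟨p₀, hp₀⟩ := hne
  obtain ⟨_, ⟨f, rfl⟩, hpf, hfU⟩ := PrimeSpectrum.isTopologicalBasis_basic_opens.exists_subset_of_mem_open hp₀ hU
  have hf0 : f ≠ 0 := fun h => hpf (h ▸ p₀.asIdeal.zero_mem)
  let B : Set (Ideal R) := (PrimeSpectrum.asIdeal '' {p | p ∈ U ∧ p.asIdeal.height ≤ 1}) ∪ (Ideal.span {f}).minimalPrimes
  have hBfin : B.Finite := ((hfin.subset fun p hp => hp.1).image _).union ((Ideal.span {f}).finite_minimalPrimes_of_isNoetherianRing R)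
  have hBh : ∀ Q ∈ B, Q.IsPrime ∧ Q.height ≤ 1 := by
    rintro Q (⟨p, ⟨-, hp⟩, rfl⟩ | hQ)
    · exact ⟨p.2, hp⟩
    · haveI : (Submodule.IsPrincipal (Ideal.span {f})) := ⟨⟨f, rfl⟩⟩
      exact ⟨hQ.1.1, Ideal.height_le_one_of_isPrincipal_of_mem_minimalPrimes (Ideal.span {f}) Q hQ⟩
  obtain ⟨g, hgm, hg⟩ : ∃ g ∈ IsLocalRing.maximalIdeal R, ∀ Q ∈ B, g ∉ Q := by
    by_contra hc
    push Not at hc
    have hsub : (IsLocalRing.maximalIdeal R : Set R) ⊆ ⋃ Q ∈ (hBfin.toFinset : Set (Ideal R)), (Q : Set R) := by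
      intro g hg
      obtain ⟨Q, hQ, hgQ⟩ := hc g hg
      exact Set.mem_iUnion₂.2 ⟨Q, by simpa using hQ, hgQ⟩
    obtain ⟨Q, hQ, hmQ⟩ := (Ideal.subset_union_prime ⊥ ⊥ (fun Q hQ _ _ => (hBh Q (by simpa using hQ)).1)).1 hsub
    obtain ⟨hQp, hQh⟩ := hBh Q (by simpa using hQ)
    have hQm : Q = IsLocalRing.maximalIdeal R :=
      ((IsLocalRing.maximalIdeal.isMaximal R).eq_of_le hQp.ne_top hmQ).symm
    have : ringKrullDim R ≤ 1 := by
      rw [← IsLocalRing.maximalIdeal_height_eq_ringKrullDim, ← hQm]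
      exact_mod_cast hQh
    exact absurd (hdim.trans this) (by decide)
  obtain ⟨P, hP, hPm⟩ := Ideal.exists_minimalPrimes_le
    (I := Ideal.span {g}) (J := IsLocalRing.maximalIdeal R) ((Ideal.span_singleton_le_iff_mem _).2 hgm)
  haveI : (Submodule.IsPrincipal (Ideal.span {g})) := ⟨⟨g, rfl⟩⟩
  have hPh := Ideal.height_le_one_of_isPrincipal_of_mem_minimalPrimes (Ideal.span {g}) P hP
  haveI := hP.1.1
  have hgP : g ∈ P := hP.1.2 (Ideal.mem_span_singleton_self g)
  have hfP : f ∉ P := by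
    intro hfP
    obtain ⟨Q, hQ, hQP⟩ := Ideal.exists_minimalPrimes_le (I := Ideal.span {f}) (J := P)
      ((Ideal.span_singleton_le_iff_mem _).2 hfP)
    haveI := hQ.1.1
    rcases eq_or_lt_of_le hQP with rfl | hlt
    · exact hg Q (Or.inr hQ) hgP
    · have hQ0 : (⊥ : Ideal R) < Q := bot_lt_iff_ne_bot.2 fun e => hf0 (by
        have := hQ.1.2 (Ideal.mem_span_singleton_self f); rwa [e, Submodule.mem_bot] at this)
      have h1 := Ideal.height_strict_mono_of_isPrime hQ0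
      rw [Ideal.height_bot] at h1
      have h2 := Ideal.height_strict_mono_of_isPrime hlt
      exact absurd ((Order.one_le_iff_pos.2 h1).trans_lt h2) (not_lt.2 hPh)
  exact hg P (Or.inl ⟨⟨P, hP.1.1⟩, ⟨hfU hfP, hPh⟩, rfl⟩) hgP

end Groth.Agent.S2160
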