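import Groth.Statements.S2163
import Groth.Agent.ML.Module
import Mathlib.RingTheory.Flat.Basic

set_option autoImplicit false
universe u
open CAlg

namespace Groth.Agent.S2163


open Groth.Agent.ML.Module TensorProduct

/-- A ring `R` is coherent — every finitely generated ideal is a finitely presented module — if and only
if for every index set `A` (in the same universe) the product module `R^A` is flat. -/
theorem result {R : Type u} [CommRing R] :
    (∀ I : Ideal R, I.FG → Module.FinitePresentation R I) ↔ ∀ (A : Type u), Module.Flat R (A → R) := by
  classical
  constructor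
  · intro hR A
    rw [Module.Flat.iff_rTensor_injective]
    intro J hJ
    haveI := hR J hJ
    rw [injective_iff_map_eq_zero]
    intro z hz
    refine of_finitePresentation J A (fun _ => R) (funext fun a => ?_)
    apply (TensorProduct.rid R J).injective
    refine Subtype.ext ?_
    have h2 : ∀ z : J ⊗[R] (A → R), TensorProduct.lid R (A → R) (J.subtype.rTensor _ z) a =
        ((TensorProduct.rid R J (piRightHom R R J (fun _ : A => R) z a)) : R) := fun z => by
      induction z using TensorProduct.induction_on with
      | zero => simp
      | add x y hx hy => simp [hx, hy]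
      | tmul j f => simp [mul_comm]
    rw [← h2, hz]
    simp
  · intro hflat I hI
    haveI : Module.Finite R I := Module.Finite.iff_fg.mpr hI
    obtain ⟨n, π, hπ⟩ := Module.Finite.exists_fin' R I
    refine Module.finitePresentation_of_surjective π hπ ?_
    let K := LinearMap.ker π
    haveI := hflat K
    let x : (Fin n → R) ⊗[R] (K → R) := ∑ i, Pi.single i 1 ⊗ₜ fun k : K => (k : Fin n → R) i
    have hx : π.rTensor (K → R) x = 0 := by
      apply Module.Flat.rTensor_preserves_injective_linearMap (M := K → R) I.subtype I.injective_subtype
      rw [map_zero]
      apply (TensorProduct.lid R (K → R)).injective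
      rw [map_zero]
      funext k
      have hk : π (k : Fin n → R) = 0 := k.2
      rw [pi_eq_sum_univ' (k : Fin n → R)] at hk
      have hk' := congrArg Subtype.val hk
      simpa [x, map_sum, Finset.sum_apply, mul_comm] using hk'
    obtain ⟨w, hw⟩ := (rTensor_exact (K → R) (M := LinearMap.ker π) (LinearMap.exact_subtype_ker_map π) hπ x).mp hx
    obtain ⟨m, v, c, rfl⟩ := TensorProduct.exists_sum_tmul_eq w
    refine ⟨Finset.univ.image fun j => (v j : Fin n → R), le_antisymm ?_ fun k hk => ?_⟩
    · rw [Submodule.span_le]
      intro y hy
      obtain ⟨j, -, rfl⟩ := Finset.mem_image.mp hy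
      exact (v j).2
    · let k' : K := ⟨k, hk⟩
      have h2 := congrArg ((TensorProduct.rid R (Fin n → R)).toLinearMap ∘ₗ
        (LinearMap.proj (R := R) (φ := fun _ : K => R) k').lTensor (Fin n → R)) hw
      have h3 : k = ∑ j, c j k' • (v j : Fin n → R) := by
        conv_lhs => rw [pi_eq_sum_univ' k]
        simpa [x, k', map_sum] using h2.symm
      rw [h3]
      exact Submodule.sum_mem _ fun j _ => Submodule.smul_mem _ _ (Submodule.subset_span (by simp))

end Groth.Agent.S2163
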