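import Groth.Statements.S2170
import Mathlib.Tactic.Linarith
import Mathlib.Tactic.Ring
-- import your own Groth.Agent.* helpers here

set_option autoImplicit false
open Finset
open Models

namespace Groth.Agent.S2170

/-- Let A be a symmetric real n × n matrix with non-negative off-diagonal entries and m a vector with
positive entries such that for every i, ∑_{j ≠ i} A_{ij} m_j ≤ −A_{ii} m_i. Then the kernel of A is
the span of the vectors equal to m on an index set I and zero off I, for those I such that A_{ij} =
0 whenever i ∈ I and j ∉ I and such that equality holds in the above inequality for every i ∈ I. The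
published statement omits the symmetry of A (without which it fails) and applies it only to
symmetric matrices; stated here with A symmetric. -/
theorem result {n : ℕ} (A : Matrix (Fin n) (Fin n) ℝ) (m : Fin n → ℝ)
    (hsymm : A.IsSymm) (hA : ∀ i j, i ≠ j → 0 ≤ A i j) (hm : ∀ i, 0 < m i)
    (hle : ∀ i, ∑ j ∈ univ.erase i, A i j * m j ≤ -(A i i * m i)) :
    LinearMap.ker (Matrix.mulVecLin A) = Submodule.span ℝ
      {x : Fin n → ℝ | ∃ I : Finset (Fin n), (∀ i ∈ I, ∀ j ∉ I, A i j = 0) ∧
        (∀ i ∈ I, ∑ j ∈ univ.erase i, A i j * m j = -(A i i * m i)) ∧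
        x = fun i => if i ∈ I then m i else 0} := by
  classical
  have hrow : ∀ i, ∑ j, A i j * m j = ∑ j ∈ univ.erase i, A i j * m j + A i i * m i :=
    fun i => (Finset.sum_erase_add _ _ (Finset.mem_univ i)).symm
  apply le_antisymm
  · intro x hx
    rw [LinearMap.mem_ker, Matrix.mulVecLin_apply] at hx
    set y : Fin n → ℝ := fun i => x i / m i with hy
    have hxy : ∀ i, x i = y i * m i := fun i => by simp [hy, (hm i).ne']
    set r : Fin n → ℝ := fun i => ∑ j, A i j * m j with hr
    have hr0 : ∀ i, r i ≤ 0 := fun i => by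
      rw [hr]; dsimp only; rw [hrow]; linarith [hle i]
    have hAy : ∀ i, ∑ j, A i j * (y j * m j) = 0 := fun i => by
      have := congrFun hx i
      simp only [Matrix.mulVec, dotProduct, Pi.zero_apply] at this
      rw [← this]; exact Finset.sum_congr rfl fun j _ => by rw [hxy j]
    set T := fun i j => A i j * m i * m j * (y i - y j) ^ 2 with hT
    have hT0 : ∀ i j, 0 ≤ T i j := fun i j => by
      by_cases h : i = j
      · subst h; simp [hT]
      · exact mul_nonneg (mul_nonneg (mul_nonneg (hA i j h) (hm i).le) (hm j).le) (sq_nonneg _)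
    have e1 : ∀ i, ∑ j, A i j * m i * m j * y i ^ 2 = r i * (m i * y i ^ 2) := fun i => by
      simp only [hr]; rw [Finset.sum_mul]; exact Finset.sum_congr rfl fun j _ => by ring
    have e2 : ∀ i, ∑ j, A i j * m i * m j * (y i * y j) = 0 := fun i => by
      have : ∑ j, A i j * m i * m j * (y i * y j) = (m i * y i) * ∑ j, A i j * (y j * m j) := by
        rw [Finset.mul_sum]; exact Finset.sum_congr rfl fun j _ => by ring
      rw [this, hAy, mul_zero]
    have key : ∑ i, ∑ j, T i j = 2 * ∑ i, r i * (m i * y i ^ 2) := by
      have : ∀ i j, T i j = A i j * m i * m j * y i ^ 2 - 2 * (A i j * m i * m j * (y i * y j))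
          + A j i * m j * m i * y j ^ 2 := fun i j => by
        rw [hsymm.apply i j]; simp only [hT]; ring
      simp only [this, Finset.sum_add_distrib, Finset.sum_sub_distrib, ← Finset.mul_sum, e1, e2]
      rw [Finset.sum_comm (f := fun i j => A j i * m j * m i * y j ^ 2)]
      simp only [e1]
      simp; ring
    have h1 : 0 ≤ ∑ i, ∑ j, T i j := Finset.sum_nonneg fun i _ => Finset.sum_nonneg fun j _ => hT0 i j
    have h2 : ∑ i, r i * (m i * y i ^ 2) ≤ 0 := Finset.sum_nonpos fun i _ =>
      mul_nonpos_of_nonpos_of_nonneg (hr0 i) (mul_nonneg (hm i).le (sq_nonneg _))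
    have hTz : ∀ i j, T i j = 0 := fun i j => by
      have h0 : ∑ i, ∑ j, T i j = 0 := by linarith
      have h0i := (Finset.sum_eq_zero_iff_of_nonneg
        (fun i _ => Finset.sum_nonneg fun j _ => hT0 i j)).1 h0 i (Finset.mem_univ i)
      exact (Finset.sum_eq_zero_iff_of_nonneg (fun j _ => hT0 i j)).1 h0i j (Finset.mem_univ j)
    have hrz : ∀ i, y i ≠ 0 → r i = 0 := fun i hi => by
      have h0 : ∑ i, r i * (m i * y i ^ 2) = 0 := by linarith
      have := (Finset.sum_eq_zero_iff_of_nonpos (fun i _ =>
        mul_nonpos_of_nonpos_of_nonneg (hr0 i) (mul_nonneg (hm i).le (sq_nonneg _)))).1 h0 i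
          (Finset.mem_univ i)
      rcases mul_eq_zero.1 this with h | h
      · exact h
      · simp [(hm i).ne', hi] at h
    have hconn : ∀ i j, A i j ≠ 0 → y i = y j := fun i j h => by
      have := hTz i j
      simp [hT, h, (hm i).ne', (hm j).ne', sub_eq_zero] at this
      exact this
    set V := (Finset.univ.image y).erase 0 with hV
    have hdec : x = ∑ v ∈ V, v • fun i => if i ∈ (univ.filter fun k => y k = v) then m i else 0 := by
      funext i
      simp only [Finset.sum_apply, Pi.smul_apply, smul_eq_mul, Finset.mem_filter,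
        Finset.mem_univ, true_and, mul_ite, mul_zero]
      rw [Finset.sum_ite_eq]
      by_cases h : y i = 0
      · simp [hV, h, hxy i]
      · simp [hV, h, hxy i]
    rw [hdec]
    refine Submodule.sum_mem _ fun v hv => Submodule.smul_mem _ _ (Submodule.subset_span ?_)
    refine ⟨univ.filter fun k => y k = v, ?_, ?_, rfl⟩
    · intro i hi j hj
      simp only [Finset.mem_filter, Finset.mem_univ, true_and] at hi hj
      by_contra h
      exact hj ((hconn i j h).symm.trans hi)
    · intro i hi
      simp only [Finset.mem_filter, Finset.mem_univ, true_and] at hi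
      have := hrz i (by rw [hi]; exact (Finset.mem_erase.1 hv).1)
      simp only [hr] at this
      rw [hrow] at this; linarith
  · rw [Submodule.span_le]
    rintro _ ⟨I, hI, heq, rfl⟩
    rw [SetLike.mem_coe, LinearMap.mem_ker, Matrix.mulVecLin_apply]
    funext k
    simp only [Matrix.mulVec, dotProduct, Pi.zero_apply, mul_ite, mul_zero]
    rw [Finset.sum_ite_mem, Finset.univ_inter]
    by_cases hk : k ∈ I
    · have hz : ∑ j, A k j * m j = 0 := by rw [hrow, heq k hk]; ring
      rw [← hz]
      exact Finset.sum_subset (Finset.subset_univ _) fun j _ hj => by rw [hI k hk j hj, zero_mul]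
    · exact Finset.sum_eq_zero fun j hj => by rw [← hsymm.apply k j, hI j hj k hk, zero_mul]

end Groth.Agent.S2170
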