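import Groth.Statements.S2171
import Groth.Agent.NumType.Quad

set_option autoImplicit false
open Finset
open Models

namespace Groth.Agent.S2171

/-- Let A be a symmetric real n by n matrix with non-negative off-diagonal entries, m a vector with
positive entries such that A m = 0, and assume no proper non-empty index set I has A i j = 0 for all
i in I and j outside I. Then x^t A x is at most 0 for every real vector x, with equality exactly
when x is a real multiple of m. -/
theorem result {n : ℕ} (A : Matrix (Fin n) (Fin n) ℝ)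
    (m : Fin n → ℝ) (hsymm : A.IsSymm) (hA : ∀ i j, i ≠ j → 0 ≤ A i j) (hm : ∀ i, 0 < m i)
    (hAm : A.mulVec m = 0)
    (hconn : ∀ I : Finset (Fin n), I.Nonempty → I ≠ univ → ∃ i ∈ I, ∃ j ∉ I, A i j ≠ 0)
    (x : Fin n → ℝ) :
    dotProduct x (A.mulVec x) ≤ 0 ∧ (dotProduct x (A.mulVec x) = 0 ↔ ∃ q : ℝ, x = q • m) := by
  classical
  have hle' : ∀ i, ∑ j, A i j * m j ≤ 0 := fun i => le_of_eq (congr_fun hAm i)
  set y : Fin n → ℝ := fun i => x i / m i with hy
  have hxy : (fun i => y i * m i) = x := funext fun i => div_mul_cancel₀ _ (hm i).ne'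
  refine ⟨hxy ▸ Groth.Agent.NumType.Quad.quad_nonpos A hsymm hA m hm hle' y, ?_, ?_⟩
  · intro h0
    obtain ⟨-, h2⟩ := Groth.Agent.NumType.Quad.quad_eq_zero A hsymm hA m hm hle' y
      (by rw [hxy]; exact h0)
    rcases isEmpty_or_nonempty (Fin n) with he | ⟨⟨i0⟩⟩
    · exact ⟨0, funext fun i => isEmptyElim i⟩
    refine ⟨y i0, ?_⟩
    have : univ.filter (fun i => y i = y i0) = univ := by
      by_contra hne
      obtain ⟨i, hi, j, hj, hij⟩ := hconn _ ⟨i0, by simp⟩ hne
      simp at hi hj
      exact hij (h2 i j (by rw [hi]; exact Ne.symm hj))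
    funext i
    have hi : y i = y i0 := by
      have hm' := mem_univ i
      rw [← this, mem_filter] at hm'
      exact hm'.2
    have := congr_fun hxy i
    simp only [Pi.smul_apply, smul_eq_mul, ← hi, this]
  · rintro ⟨q, rfl⟩
    rw [Matrix.mulVec_smul, hAm, smul_zero, dotProduct_zero]

end Groth.Agent.S2171
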