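import Groth.Statements.S2178
import Groth.Agent.NumType.Basic
import Mathlib.LinearAlgebra.Dimension.Finrank
import Mathlib.LinearAlgebra.Dimension.Constructions
import Mathlib.LinearAlgebra.Dimension.RankNullity
import Mathlib.LinearAlgebra.FreeModule.PID
import Mathlib.RingTheory.Finiteness.Basic
import Mathlib.LinearAlgebra.Dimension.Free

set_option autoImplicit false
open Finset
open Models Models.NumericalType

namespace Groth.Agent.S2178
open Groth.Agent.NumType.Basic


/-- The Picard group of a numerical type (the cokernel of the matrix (a i j / w i) acting on Z^n) has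
free rank one: its rank as a Z-module is 1. -/
theorem result {n : ℕ} (T : Models.NumericalType n) : Module.finrank ℤ T.Pic = 1 := by
  classical
  set L := Matrix.mulVecLin T.picMatrix with hL
  have i0 : Fin n := ⟨0, T.pos⟩
  have key : ∀ x, L x = 0 ↔ T.a.mulVec x = 0 := by
    intro x
    have hmul : ∀ i, T.w i * L x i = T.a.mulVec x i := by
      intro i
      simp only [hL, Matrix.mulVecLin_apply, Matrix.mulVec, dotProduct, Finset.mul_sum]
      refine Finset.sum_congr rfl fun j _ => ?_
      rw [← mul_assoc, picMatrix, Int.mul_ediv_cancel' (T.w_dvd i j)]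
    constructor
    · intro h; funext i; rw [← hmul i, h]; simp
    · intro h; funext i
      have := hmul i
      rw [h] at this
      simpa [(T.w_pos i).ne'] using this
  have hm : T.m ∈ LinearMap.ker L := (key T.m).2 T.mulVec_m
  let f : LinearMap.ker L →ₗ[ℤ] ℤ := (LinearMap.proj i0).comp (LinearMap.ker L).subtype
  have hf : Function.Injective f := by
    rw [injective_iff_map_eq_zero]
    rintro ⟨x, hx⟩ h0
    have h0' : x i0 = 0 := h0
    by_contra hne
    have hx0 : x ≠ 0 := fun e => hne (Subtype.ext e)
    have := quad_neg T x hx0 i0 h0'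
    rw [(key x).1 hx] at this
    simp at this
  have hker1 : Module.finrank ℤ (LinearMap.ker L) = 1 := by
    refine le_antisymm ((LinearMap.finrank_le_finrank_of_injective hf).trans (Module.finrank_self ℤ).le) ?_
    have : Nontrivial (LinearMap.ker L) := ⟨⟨⟨T.m, hm⟩, 0, fun e => by
      have := congr_fun (congr_arg Subtype.val e) i0
      exact (T.m_pos i0).ne' this⟩⟩
    exact Module.finrank_pos
  have h1 := (LinearMap.range L).finrank_quotient_add_finrank
  have h2 := (LinearMap.ker L).finrank_quotient_add_finrank
  have h3 : Module.finrank ℤ ((Fin n → ℤ) ⧸ LinearMap.ker L) = Module.finrank ℤ (LinearMap.range L) :=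
    L.quotKerEquivRange.finrank_eq
  show Module.finrank ℤ ((Fin n → ℤ) ⧸ LinearMap.range L) = 1
  omega

end Groth.Agent.S2178
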