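import Groth.Statements.S2179
import Groth.Agent.NumType.Basic

set_option autoImplicit false
open Finset
open Models Models.NumericalType

namespace Groth.Agent.S2179


/-- For a numerical type T, the map Z^n -> Z^n multiplying the i-th coordinate by w i induces a
well-defined injective homomorphism from Pic(T), the cokernel of (a i j / w i), to the cokernel of
the matrix a. -/
theorem result {n : ℕ} (T : Models.NumericalType n) :
    ∃ f : T.Pic →+ T.CokerA, Function.Injective f ∧
      ∀ x : Fin n → ℤ, f (Submodule.Quotient.mk x) = Submodule.Quotient.mk (fun i => T.w i * x i) := by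
  classical
  let D : (Fin n → ℤ) →ₗ[ℤ] (Fin n → ℤ) := LinearMap.pi fun i => T.w i • LinearMap.proj i
  have hD : ∀ x, D x = fun i => T.w i * x i := fun x => rfl
  have hmul : ∀ x i, T.w i * T.picMatrix.mulVec x i = T.a.mulVec x i := by
    intro x i
    simp only [Matrix.mulVec, dotProduct, Finset.mul_sum]
    refine Finset.sum_congr rfl fun j _ => ?_
    rw [← mul_assoc, picMatrix, Int.mul_ediv_cancel' (T.w_dvd i j)]
  have hle : LinearMap.range (Matrix.mulVecLin T.picMatrix) ≤
      (LinearMap.range (Matrix.mulVecLin T.a)).comap D := by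
    rintro _ ⟨x, rfl⟩
    exact ⟨x, funext fun i => (hmul x i).symm⟩
  refine ⟨(Submodule.mapQ _ _ D hle).toAddMonoidHom, ?_, fun x => rfl⟩
  rw [injective_iff_map_eq_zero]
  intro z hz
  induction z using Submodule.Quotient.induction_on with
  | _ x =>
    rw [LinearMap.toAddMonoidHom_coe, Submodule.mapQ_apply, Submodule.Quotient.mk_eq_zero] at hz
    obtain ⟨y, hy⟩ := hz
    rw [Submodule.Quotient.mk_eq_zero]
    refine ⟨y, funext fun i => ?_⟩
    have := congr_fun hy i
    rw [Matrix.mulVecLin_apply, ← hmul y i, hD] at this
    exact mul_left_cancel₀ (T.w_pos i).ne' this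

end Groth.Agent.S2179
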