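import Groth.Statements.S2182
import Groth.Agent.NumType.Basic

set_option autoImplicit false
open Finset
open Models Models.NumericalType

namespace Groth.Agent.S2182

/-- In a numerical type, whenever a i j > 0 one has m i * a i j at most m j * |a j j| and m i * w i at
most m j * |a j j|. -/
theorem result {n : ℕ} (T : Models.NumericalType n) (i j : Fin n) (hij : 0 < T.a i j) :
    T.m i * T.a i j ≤ T.m j * |T.a j j| ∧ T.m i * T.w i ≤ T.m j * |T.a j j| := by
  have hm := T.m_pos i
  rcases eq_or_ne i j with rfl | hne
  · have hw := T.w_dvd i i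
    have h2 := Int.le_of_dvd hij hw
    rw [abs_of_pos hij]
    exact ⟨le_rfl, mul_le_mul_of_nonneg_left h2 hm.le⟩
  have h1 := Groth.Agent.NumType.Basic.row1 T j i hne
  have h2 := Groth.Agent.NumType.Basic.w_le T i j hne hij.ne'
  rw [Groth.Agent.NumType.Basic.a_symm T j i] at h1
  have h3 : -T.a j j ≤ |T.a j j| := neg_le_abs _
  have h4 := mul_le_mul_of_nonneg_right h3 (T.m_pos j).le
  constructor <;> nlinarith

end Groth.Agent.S2182
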