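import Groth.Statements.S2189
import Groth.Agent.Lead.FV.Basic

set_option autoImplicit false
universe u
open CategoryTheory
open LCI

namespace Groth.Agent.S2189

/-- Let R be a Noetherian ring and I an ideal which has finite projective dimension as an R-module and
whose conormal module I/I^2 is finite locally free (projective) over R/I. Then I is a regular ideal:
for every prime p containing I there is g outside p such that the extension of I to R_g is generated
by a regular sequence of R_g. -/
theorem result {R : Type u} [CommRing R]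
    [IsNoetherianRing R] (I : Ideal R) (n : ℕ)
    (hpd : HasProjectiveDimensionLT (ModuleCat.of R I) n)
    [Module.Projective (R ⧸ I) I.Cotangent] (p : Ideal R) [p.IsPrime] (hIp : I ≤ p) :
    ∃ g : R, g ∉ p ∧ ∃ rs : List (Localization.Away g),
      RingTheory.Sequence.IsRegular (Localization.Away g) rs ∧
        Ideal.ofList rs = I.map (algebraMap R (Localization.Away g)) := by
  classical
  obtain ⟨N, g, hgI⟩ := Submodule.fg_iff_exists_fin_generating_family.1 (IsNoetherian.noetherian I)
  have hg : ∀ l, g l ∈ I := fun l => hgI ▸ Submodule.subset_span ⟨l, rfl⟩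
  -- a splitting matrix of the conormal module
  let F : (Fin N → R ⧸ I) →ₗ[R ⧸ I] I.Cotangent :=
    Fintype.linearCombination (R ⧸ I) fun l => I.toCotangent ⟨g l, hg l⟩
  have hF : ∀ c : Fin N → R, F (fun l => Ideal.Quotient.mk I (c l)) =
      I.toCotangent (∑ l, c l • ⟨g l, hg l⟩) := by
    intro c
    rw [map_sum]
    simp only [F, Fintype.linearCombination_apply]
    exact Finset.sum_congr rfl fun i _ => by rw [map_smul]; rfl
  have hFs : Function.Surjective F := by
    intro z
    obtain ⟨⟨y, hy⟩, rfl⟩ := I.toCotangent_surjective z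
    rw [← hgI] at hy
    obtain ⟨c, hc⟩ := Submodule.mem_span_range_iff_exists_fun R |>.1 hy
    exact ⟨_, (hF c).trans (congrArg _ (Subtype.ext (by simpa using hc)))⟩
  obtain ⟨σ, hσ⟩ := Module.projective_lifting_property F LinearMap.id hFs
  choose S hS using fun k l => Ideal.Quotient.mk_surjective (σ (I.toCotangent ⟨g k, hg k⟩) l)
  have hS1 : ∀ k, ∑ l, S k l * g l - g k ∈ I ^ 2 := by
    intro k
    have h1 : F (fun l => Ideal.Quotient.mk I (S k l)) = I.toCotangent ⟨g k, hg k⟩ := by
      rw [show (fun l => Ideal.Quotient.mk I (S k l)) = σ (I.toCotangent ⟨g k, hg k⟩) from funext (hS k)]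
      exact LinearMap.congr_fun hσ _
    rw [hF, Ideal.toCotangent_eq] at h1
    simpa using h1
  have hS2 : ∀ c : Fin N → R, ∑ k, c k * g k ∈ I ^ 2 → ∀ l, ∑ k, c k * S k l ∈ I := by
    intro c hc l
    rw [← Ideal.Quotient.eq_zero_iff_mem]
    have h0 : σ (F (fun l => Ideal.Quotient.mk I (c l))) l = 0 := by
      rw [hF, (Ideal.toCotangent_eq_zero I _).2 (by simpa using hc), map_zero, Pi.zero_apply]
    rw [← h0]
    simp only [F, Fintype.linearCombination_apply, map_sum, map_smul, Finset.sum_apply, Pi.smul_apply, map_mul, smul_eq_mul, hS]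
  -- localise at `p`
  let L := Localization.AtPrime p
  let φ := algebraMap R L
  haveI : IsNoetherianRing L := IsLocalization.isNoetherianRing p.primeCompl L inferInstance
  haveI : Module.Flat R L := IsLocalization.flat _ p.primeCompl
  let J : Ideal L := I.map φ
  have hJm : J ≤ IsLocalRing.maximalIdeal L := by
    rw [← IsLocalization.AtPrime.map_eq_maximalIdeal p L]; exact Ideal.map_mono hIp
  haveI := hpd
  have hpdI : HasProjectiveDimensionLT (ModuleCat.of R I) (n + 1) :=
    hasProjectiveDimensionLT_of_ge _ n (n + 1) (by omega)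
  haveI : Module.Finite R I := Module.Finite.iff_fg.2 (IsNoetherian.noetherian _)
  have hpdJ : HasProjectiveDimensionLT (ModuleCat.of L J) (n + 1) := by
    have h := (RegularLocal.GlobalDim.pdLT_baseChange (R := R) L n I).1 hpdI
    exact RegularLocal.GlobalDim.pdLT_congr (LeadFV.tensorIdealEquiv I L) h
  haveI : Module.Finite L J := Module.Finite.iff_fg.2 (IsNoetherian.noetherian _)
  obtain ⟨d, f, hf, hmin⟩ := RegularLocal.GlobalDim.exists_minimal_cover (R := L) J
  let a : Fin d → L := fun i => (f (Pi.single i 1) : L)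
  have hfsum : ∀ v : Fin d → L, (f v : L) = ∑ i, v i * a i := by
    intro v
    conv_lhs => rw [pi_eq_sum_univ' v]
    simp [a]
  have hspan : Ideal.span (Set.range a) = J := by
    refine le_antisymm (Ideal.span_le.2 ?_) fun y hy => ?_
    · rintro _ ⟨i, rfl⟩; exact (f (Pi.single i 1)).2
    · obtain ⟨v, hv⟩ := hf ⟨y, hy⟩
      exact Ideal.mem_span_range_iff_exists_fun.2 ⟨v, by rw [← hfsum, hv]⟩
  have hJg : J = Ideal.span (Set.range (φ ∘ g)) := by
    show Ideal.map φ I = _
    conv_lhs => rw [← hgI]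
    show Ideal.map φ (Ideal.span (Set.range g)) = _
    rw [Ideal.map_span, Set.range_comp]
  have hA : ∀ i, ∃ c : Fin N → L, ∑ k, c k * φ (g k) = a i := fun i =>
    Ideal.mem_span_range_iff_exists_fun.1 (hJg ▸ hspan ▸ Ideal.subset_span ⟨i, rfl⟩ : a i ∈ Ideal.span (Set.range (φ ∘ g)))
  have hB : ∀ k, ∃ c : Fin d → L, ∑ i, c i * a i = φ (g k) := fun k =>
    Ideal.mem_span_range_iff_exists_fun.1 (hspan ▸ Ideal.mem_map_of_mem φ (hg k))
  choose A hA using hA
  choose B hB using hB
  let S' : Matrix (Fin N) (Fin N) L := Matrix.of fun k l => φ (S k l)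
  have hS1' : ∀ k, ∑ l, S' k l * φ (g l) - φ (g k) ∈ J ^ 2 := fun k => by
    have := Ideal.mem_map_of_mem φ (hS1 k)
    rw [Ideal.map_pow, map_sub, map_sum] at this
    simpa [S'] using this
  have hS2' : ∀ c : Fin N → L, ∑ k, c k * φ (g k) = 0 → ∀ l, ∑ k, c k * S' k l ∈ J := by
    intro c hc l
    obtain ⟨t, ht⟩ := IsLocalization.exist_integer_multiples_of_finite p.primeCompl c
    choose c' hc' using ht
    have h0 : φ (∑ k, c' k * g k) = 0 := by
      rw [map_sum]
      have : ∀ k, φ (c' k * g k) = φ t * (c k * φ (g k)) := fun k => by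
        rw [map_mul, show φ (c' k) = φ t * c k from (hc' k).trans (Algebra.smul_def _ _), mul_assoc]
      simp [this, ← Finset.mul_sum, hc]
    obtain ⟨m, hm⟩ := (IsLocalization.map_eq_zero_iff p.primeCompl L _).1 h0
    have h2 := hS2 (fun k => m * c' k) (by simp [mul_assoc, ← Finset.mul_sum, hm]) l
    have h3 := Ideal.mem_map_of_mem φ h2
    have h4 : φ (∑ k, m * c' k * S k l) = φ m * (φ t * ∑ k, c k * S' k l) := by
      rw [map_sum, Finset.mul_sum, Finset.mul_sum]
      refine Finset.sum_congr rfl fun k _ => ?_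
      rw [map_mul, map_mul, show φ (c' k) = φ t * c k from (hc' k).trans (Algebra.smul_def _ _)]
      simp [S', mul_assoc]
    rw [h4, Ideal.unit_mul_mem_iff_mem _ (IsLocalization.map_units L m),
      Ideal.unit_mul_mem_iff_mem _ (IsLocalization.map_units L t)] at h3
    exact h3
  let A' : Matrix (Fin d) (Fin N) L := Matrix.of A
  let B' : Matrix (Fin N) (Fin d) L := Matrix.of B
  let T : Matrix (Fin d) (Fin d) L := A' * S' * B'
  have hga : (fun k => φ (g k)) = B'.mulVec a := funext fun k => (hB k).symm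
  have hag : a = A'.mulVec (fun k => φ (g k)) := funext fun i => (hA i).symm
  have hT : ∀ i, (T.mulVec a - a) i ∈ J ^ 2 := by
    intro i
    have h1 : T.mulVec a - a = A'.mulVec (S'.mulVec (fun k => φ (g k)) - fun k => φ (g k)) := by
      rw [Matrix.mulVec_sub, ← hag, hga]
      simp [T, Matrix.mulVec_mulVec, Matrix.mul_assoc]
    rw [h1]
    show ∑ k, A' i k * (S'.mulVec (fun k => φ (g k)) - fun k => φ (g k)) k ∈ J ^ 2
    exact Ideal.sum_mem _ fun k _ => Ideal.mul_mem_left _ _ (hS1' k)
  have hTm : ∀ i j, (T - 1) i j ∈ IsLocalRing.maximalIdeal L := by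
    intro i j
    have h2 := hT i
    rw [pow_two] at h2
    obtain ⟨e, he, hes⟩ : ∃ e : Fin d → L, (∀ l, e l ∈ J) ∧ ∑ l, e l * a l = (T.mulVec a - a) i := by
      refine Submodule.mul_induction_on (C := fun z => ∃ e : Fin d → L, (∀ l, e l ∈ J) ∧ ∑ l, e l * a l = z) h2 ?_ ?_
      · intro u hu v hv
        rw [← hspan] at hv
        obtain ⟨e, he⟩ := Ideal.mem_span_range_iff_exists_fun.1 hv
        refine ⟨fun l => u * e l, fun l => Ideal.mul_mem_right _ _ hu, ?_⟩
        rw [← he, Finset.mul_sum]
        exact Finset.sum_congr rfl fun l _ => mul_assoc _ _ _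
      · rintro u v ⟨e, he, he'⟩ ⟨e2, he2, he2'⟩
        exact ⟨e + e2, fun l => add_mem (he l) (he2 l), by simp [add_mul, Finset.sum_add_distrib, he', he2']⟩
    have hker : f (fun l => (T - 1) i l - e l) = 0 := by
      refine Subtype.ext ?_
      rw [hfsum]
      simp only [sub_mul, Finset.sum_sub_distrib, hes]
      rw [show ∑ l, (T - 1) i l * a l = ((T - 1).mulVec a) i from rfl, Matrix.sub_mulVec, Matrix.one_mulVec]
      simp
    have := hmin _ hker j
    simpa using add_mem this (hJm (he j))
  have hdet : IsUnit T.det := by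
    have h1 : (IsLocalRing.residue L).mapMatrix T = 1 := by
      ext i j
      rw [RingHom.mapMatrix_apply, Matrix.map_apply]
      have h2 := (IsLocalRing.residue_eq_zero_iff _).2 (hTm i j)
      rw [Matrix.sub_apply, map_sub, sub_eq_zero] at h2
      rw [h2, Matrix.one_apply, Matrix.one_apply]
      split_ifs <;> simp
    rw [← isUnit_map_iff (IsLocalRing.residue L), RingHom.map_det, h1, Matrix.det_one]
    exact isUnit_one
  have hind : LeadFV.Indep J a := by
    intro c hc i
    have h0 : ∑ k, Matrix.vecMul c A' k * φ (g k) = 0 := by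
      have h : dotProduct c (A'.mulVec fun k => φ (g k)) = 0 := by rw [← hag]; exact hc
      rw [Matrix.dotProduct_mulVec] at h
      exact h
    have h1 : ∀ j, Matrix.vecMul c T j ∈ J := by
      intro j
      have : Matrix.vecMul c T = Matrix.vecMul (Matrix.vecMul (Matrix.vecMul c A') S') B' := by
        simp [T, Matrix.vecMul_vecMul, Matrix.mul_assoc]
      rw [this]
      show ∑ l, Matrix.vecMul (Matrix.vecMul c A') S' l * B' l j ∈ J
      exact Ideal.sum_mem _ fun l _ => Ideal.mul_mem_right _ _ (hS2' _ h0 l)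
    have h2 : c = Matrix.vecMul (Matrix.vecMul c T) T⁻¹ := by
      rw [Matrix.vecMul_vecMul, Matrix.mul_nonsing_inv _ hdet, Matrix.vecMul_one]
    rw [h2]
    show ∑ l, Matrix.vecMul c T l * T⁻¹ l i ∈ J
    exact Ideal.sum_mem _ fun l _ => Ideal.mul_mem_right _ _ (h1 l)
  obtain ⟨rs', hreg', hgen'⟩ := LeadFV.exists_regular_local (Fintype.card (Fin d)) L J hJm n hpdJ (Fin d) a rfl hspan hind
  have hrep : ∀ r ∈ rs', ∃ y : R, ∃ u : p.primeCompl, y ∈ I ∧ r * φ u = φ y := by
    intro r hr
    have : r ∈ J := hgen' ▸ Ideal.subset_span hr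
    obtain ⟨⟨⟨y, hy⟩, u⟩, hu⟩ := (IsLocalization.mem_map_algebraMap_iff p.primeCompl L).1 this
    exact ⟨y, u, hy, hu⟩
  obtain ⟨g', hg', hrs⟩ := LeadFV.exists_spread I p hIp rs' hreg'.toIsWeaklyRegular hgen' hrep
  exact ⟨g', hg', hrs⟩

end Groth.Agent.S2189
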