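import Groth.Statements.S2199
import Groth.Agent.Flat.TorPeriodic
import Mathlib.RingTheory.Ideal.Quotient.Noetherian
import Mathlib.RingTheory.LocalRing.MaximalIdeal.Basic

set_option autoImplicit false
universe u
open LCI

namespace Groth.Agent.S2199

/-- For a Noetherian local ring (A, m) and proper ideals I inside J such that A/J has finite
Tor-dimension as a module over A/I (canonical algebra structure), the map I/mI -> J/mJ is injective:
an element of I lying in mJ already lies in mI. -/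
theorem result {A : Type u} [CommRing A] [IsNoetherianRing A] [IsLocalRing A]
    (I J : Ideal A) (hIJ : I ≤ J) (hJ : J ≠ ⊤) [Algebra (A ⧸ I) (A ⧸ J)]
    [IsScalarTower A (A ⧸ I) (A ⧸ J)] (hfd : DRing.HasFiniteTorDim (A ⧸ I) (A ⧸ J))
    (x : A) (hx : x ∈ I) (hxm : x ∈ IsLocalRing.maximalIdeal A * J) :
    x ∈ IsLocalRing.maximalIdeal A * I := by
  classical
  by_contra hxI
  set 𝔪 := IsLocalRing.maximalIdeal A
  obtain ⟨(K : Ideal A), ⟨hK1, hK2, hK3⟩, hKmax⟩ := set_has_maximal_iff_noetherian.mpr ‹IsNoetherianRing A›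
    {K : Ideal A | 𝔪 * I ≤ K ∧ K ≤ I ∧ x ∉ K} ⟨𝔪 * I, le_rfl, Ideal.mul_le_right, hxI⟩
  have hKx : I ≤ K ⊔ Ideal.span {x} := by
    intro y hy
    by_contra hyn
    have hyK : y ∉ K := fun h => hyn (Submodule.mem_sup_left h)
    have hxin : x ∈ K ⊔ Ideal.span {y} := by
      by_contra h
      exact hKmax (K ⊔ Ideal.span {y})
        ⟨hK1.trans le_sup_left, sup_le hK2 (by rwa [Ideal.span_le, Set.singleton_subset_iff]), h⟩
        (lt_of_le_of_ne le_sup_left fun he => hyK (he ▸ Submodule.mem_sup_right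
          (Ideal.mem_span_singleton_self y)))
    obtain ⟨k, hk, z, hz, hkz⟩ := Submodule.mem_sup.mp hxin
    obtain ⟨a, rfl⟩ := Ideal.mem_span_singleton'.mp hz
    by_cases ha : IsUnit a
    · obtain ⟨u, rfl⟩ := ha
      refine hyn ?_
      have : y = ↑u⁻¹ * (x - k) := by rw [← hkz, add_sub_cancel_left, ← mul_assoc, Units.inv_mul, one_mul]
      rw [this]
      exact Ideal.mul_mem_left _ _ (sub_mem (Submodule.mem_sup_right (Ideal.mem_span_singleton_self x))
        (Submodule.mem_sup_left hk))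
    · refine hK3 ?_
      rw [← hkz]
      exact add_mem hk (hK1 (Ideal.mul_mem_mul (show a ∈ 𝔪 from ha) hy))
  letI : Algebra (A ⧸ K) (A ⧸ I) := (Ideal.Quotient.factor hK2).toAlgebra
  let c : A ⧸ K := Ideal.Quotient.mk K x
  -- transfer the hypothesis
  have hfd' : DRing.HasFiniteTorDim (A ⧸ I) ((A ⧸ I) ⧸ J.map (Ideal.Quotient.mk I)) := by
    obtain ⟨d, hd⟩ := hfd
    let e0 : ((A ⧸ I) ⧸ J.map (Ideal.Quotient.mk I)) ≃ₗ[A ⧸ I] (A ⧸ J) :=
      { (DoubleQuot.quotQuotEquivQuotOfLE hIJ).toAddEquiv with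
        map_smul' := fun r s => by
          obtain ⟨a, rfl⟩ := Ideal.Quotient.mk_surjective r
          obtain ⟨s, rfl⟩ := Ideal.Quotient.mk_surjective s
          obtain ⟨b, rfl⟩ := Ideal.Quotient.mk_surjective s
          show DoubleQuot.quotQuotEquivQuotOfLE hIJ (Ideal.Quotient.mk _ (Ideal.Quotient.mk I (a * b))) =
            Ideal.Quotient.mk I a • DoubleQuot.quotQuotEquivQuotOfLE hIJ _
          rw [Algebra.smul_def]
          exact (map_mul (Ideal.Quotient.mk J) a b).trans (congrArg (· * _)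
            (IsScalarTower.algebraMap_apply A (A ⧸ I) (A ⧸ J) a)) }
    refine ⟨d, fun N _ _ p hp => ?_⟩
    have := hd N p hp
    exact ((((CategoryTheory.Tor (ModuleCat.{u} (A ⧸ I)) p).mapIso e0.toModuleIso).app
      (ModuleCat.of (A ⧸ I) N)).toLinearEquiv.toEquiv.subsingleton)
  obtain ⟨m, js, hjs⟩ := Submodule.fg_iff_exists_fin_generating_family.mp
    (IsNoetherian.noetherian J)
  have hxm' : x ∈ 𝔪 • Submodule.span A (Set.range js) := by rwa [hjs]
  obtain ⟨r, hr, hsum⟩ := (Submodule.mem_ideal_smul_span_iff_exists_sum _ _ _).mp hxm'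
  obtain ⟨ι, _, _, e, M, hM, hrow, hcol⟩ := Groth.Agent.Flat.TorPeriodic.exists_factorization
    (fun i => Ideal.Quotient.mk K (js i)) (fun i => Ideal.Quotient.mk K (r i))
  have hprod : ∀ a, a ∈ 𝔪 → ∀ b ∈ I, Ideal.Quotient.mk K (a * b) = 0 := fun a ha b hb =>
    Ideal.Quotient.eq_zero_iff_mem.mpr (hK1 (Ideal.mul_mem_mul ha hb))
  have hxmem : x ∈ 𝔪 := IsLocalRing.le_maximalIdeal hJ (hIJ hx)
  obtain ⟨k, hk⟩ := Groth.Agent.Flat.TorPeriodic.exists_pow_mem (R := A ⧸ I) (P' := A ⧸ K) (P := A ⧸ I)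
    (Ideal.Quotient.factor_surjective hK2) c
    (by
      refine le_antisymm (fun y hy => ?_) ((Ideal.span_singleton_le_iff_mem _).mpr
        (RingHom.mem_ker.mpr (Ideal.Quotient.eq_zero_iff_mem.mpr hx)))
      obtain ⟨y, rfl⟩ := Ideal.Quotient.mk_surjective y
      have hyI : y ∈ I := Ideal.Quotient.eq_zero_iff_mem.mp (RingHom.mem_ker.mp hy)
      obtain ⟨k, hk, z, hz, rfl⟩ := Submodule.mem_sup.mp (hKx hyI)
      rw [map_add, Ideal.Quotient.eq_zero_iff_mem.mpr hk, zero_add]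
      obtain ⟨a, rfl⟩ := Ideal.mem_span_singleton'.mp hz
      exact Ideal.mem_span_singleton'.mpr ⟨Ideal.Quotient.mk K a, (map_mul _ a x).symm⟩)
    (by rw [← map_mul]; exact hprod x hxmem x hx)
    (𝔪.map (Ideal.Quotient.mk K))
    (fun a => by
      obtain ⟨a, rfl⟩ := Ideal.Quotient.mk_surjective a
      refine ⟨fun ha => ?_, fun ha => ?_⟩
      · obtain ⟨b, hb, hba⟩ := (Ideal.mem_map_iff_of_surjective _ Ideal.Quotient.mk_surjective).mp ha
        rw [← hba, ← map_mul, mul_comm]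
        exact hprod b hb x hx
      · refine Ideal.mem_map_of_mem _ (show a ∈ 𝔪 from fun hu => hK3 ?_)
        obtain ⟨u, rfl⟩ := hu
        have h := Ideal.Quotient.eq_zero_iff_mem.mp ((map_mul (Ideal.Quotient.mk K) x u).trans ha)
        simpa using Ideal.mul_mem_right (↑u⁻¹ : A) K h)
    (𝔪.map (Ideal.Quotient.mk I))
    (by
      show (𝔪.map (Ideal.Quotient.mk I)).map (RingHom.id _) = _
      rw [Ideal.map_id, Ideal.map_map]
      rfl)
    e M 1
    (by rw [hM, mul_one]; congr 1; show _ = Ideal.Quotient.mk K x; rw [← hsum, Finsupp.sum_fintype _ _ fun i => zero_smul A (js i)]; simp only [map_sum, smul_eq_mul, map_mul])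
    (J.map (Ideal.Quotient.mk I))
    (fun i => by
      refine (?_ : Ideal.span _ ≤ (J.map (Ideal.Quotient.mk I)).comap (algebraMap (A ⧸ K) (A ⧸ I))) (hrow i)
      rw [Ideal.span_le]
      rintro _ ⟨j, rfl⟩
      show Ideal.Quotient.mk I (js j) ∈ J.map (Ideal.Quotient.mk I)
      exact Ideal.mem_map_of_mem _ (hjs.le (Submodule.subset_span ⟨j, rfl⟩)))
    (fun i => Ideal.span_le.mpr (Set.range_subset_iff.mpr fun j => Ideal.mem_map_of_mem _ (hr j)) (hcol i))
    hfd'
  rw [map_one, one_pow] at hk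
  have hle : J.map (Ideal.Quotient.mk I) ⊔ (𝔪.map (Ideal.Quotient.mk K)).map (algebraMap (A ⧸ K) (A ⧸ I))
      ≤ 𝔪.map (Ideal.Quotient.mk I) := by
    refine sup_le (Ideal.map_mono (IsLocalRing.le_maximalIdeal hJ)) ?_
    rw [Ideal.map_map]
    exact le_rfl
  obtain ⟨b, hb, hb1⟩ := (Ideal.mem_map_iff_of_surjective _ Ideal.Quotient.mk_surjective).mp (hle hk)
  have h1 : b - 1 ∈ 𝔪 := IsLocalRing.le_maximalIdeal hJ (hIJ (Ideal.Quotient.eq.mp (hb1.trans (map_one _).symm)))
  exact (IsLocalRing.maximalIdeal.isMaximal A).ne_top ((Ideal.eq_top_iff_one _).mpr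
    (show (1 : A) ∈ 𝔪 by simpa using sub_mem hb h1))

end Groth.Agent.S2199
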