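import Groth.Statements.S2200
import Groth.Agent.RegSeq.SameSpan
import Groth.Agent.S2199
import Mathlib.RingTheory.Ideal.Quotient.Noetherian

set_option autoImplicit false
universe u
open LCI

namespace Groth.Agent.S2200

/-- Let (A, m) be a Noetherian local ring and I, J proper ideals with I inside J. If J is cut out by a
regular sequence and A/J has finite Tor-dimension as an A/I-module (canonical algebra structure),
then I is cut out by a regular sequence of A and the image of J in A/I by one of A/I. -/
theorem result {A : Type u} [CommRing A] [IsNoetherianRing A] [IsLocalRing A]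
    (I J : Ideal A) (hIJ : I ≤ J) (hJ : J ≠ ⊤) [Algebra (A ⧸ I) (A ⧸ J)]
    [IsScalarTower A (A ⧸ I) (A ⧸ J)] (hfd : DRing.HasFiniteTorDim (A ⧸ I) (A ⧸ J))
    (hJreg : ∃ rs : List A, Ideal.ofList rs = J ∧ RingTheory.Sequence.IsRegular A rs) :
    (∃ rs : List A, Ideal.ofList rs = I ∧ RingTheory.Sequence.IsRegular A rs) ∧
      ∃ rs' : List (A ⧸ I), Ideal.ofList rs' = J.map (Ideal.Quotient.mk I) ∧
        RingTheory.Sequence.IsRegular (A ⧸ I) rs' := by
  classical
  obtain ⟨as, hasJ, has⟩ := hJreg
  set 𝔪 := IsLocalRing.maximalIdeal A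
  have hJm : J ≤ 𝔪 := IsLocalRing.le_maximalIdeal hJ
  have hexI : ∃ n, ∃ l : List A, l.length = n ∧ Ideal.ofList l = I := by
    obtain ⟨m, g, hg⟩ := Submodule.fg_iff_exists_fin_generating_family.mp
      (IsNoetherian.noetherian I)
    refine ⟨_, List.ofFn g, rfl, ?_⟩
    rw [← hg, Ideal.ofList]
    congr 1
    ext a
    simp [Set.mem_range]
  obtain ⟨lI, hlen, hlI⟩ := Nat.find_spec hexI
  -- a minimal generating set stays independent modulo `𝔪 J`
  have hind : ∀ (l : List A) (b : A) (suf : List A), lI = l ++ b :: suf →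
      ∀ y ∈ Ideal.ofList l, b - y ∉ 𝔪 * J := by
    intro l b suf he y hy hby
    have hbI : b ∈ I := hlI ▸ Ideal.subset_span (by simp [he])
    have hlle : Ideal.ofList l ≤ I := hlI ▸ Ideal.span_mono (fun a ha => by
      show a ∈ lI
      simp only [he, List.mem_append]
      exact Or.inl ha)
    have h1 := Groth.Agent.S2199.result I J hIJ hJ hfd (b - y) (sub_mem hbI (hlle hy)) hby
    have h2 : I ≤ Ideal.ofList (l ++ suf) := by
      refine Submodule.le_of_le_smul_of_le_jacobson_bot (IsNoetherian.noetherian I)
        (IsLocalRing.maximalIdeal_le_jacobson _) ?_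
      rw [smul_eq_mul]
      conv_lhs => rw [← hlI, he]
      rw [Ideal.ofList_append, Ideal.ofList_cons, Ideal.ofList_append]
      refine sup_le (le_sup_left.trans le_sup_left) (sup_le ?_ (le_sup_right.trans le_sup_left))
      rw [Ideal.span_singleton_le_iff_mem, show b = y + (b - y) by ring]
      exact Submodule.add_mem_sup (Submodule.mem_sup_left hy) h1
    have h3 : Ideal.ofList (l ++ suf) = I := by
      refine le_antisymm ?_ h2
      rw [← hlI, he, Ideal.ofList_append, Ideal.ofList_append, Ideal.ofList_cons]
      exact sup_le_sup le_rfl le_sup_right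
    have := Nat.find_min' hexI ⟨l ++ suf, rfl, h3⟩
    rw [← hlen, he] at this
    simp at this
  -- exchange
  have hex : ∀ (suf l : List A), lI = l ++ suf →
      ∀ rest : List A, Ideal.ofList (l ++ rest) = J → (l ++ rest).length = as.length →
      ∃ rest' : List A, Ideal.ofList (lI ++ rest') = J ∧ (lI ++ rest').length = as.length := by
    intro suf
    induction suf with
    | nil => intro l he rest h1 h2; exact ⟨rest, by simpa [he] using h1, by simpa [he] using h2⟩
    | cons b suf ih =>
      intro l he rest h1 h2
      have hb : b ∈ Ideal.ofList (l ++ rest) := by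
        rw [h1]; exact hIJ (hlI ▸ Ideal.subset_span (by simp [he]))
      rw [Ideal.ofList_append] at hb
      obtain ⟨y, hy, z, hz, hyz⟩ := Submodule.mem_sup.mp hb
      have hrle : Ideal.ofList rest ≤ J := by rw [← h1, Ideal.ofList_append]; exact le_sup_right
      rcases Groth.Agent.RegSeq.SameSpan.coeff rest z hz with hz' | ⟨a, rest', u, w, hp, hu, hw, hzeq⟩
      · exact absurd (Ideal.mul_mono_right hrle hz')
          (by rw [show z = b - y by rw [← hyz]; ring]; exact hind l b suf he y hy)
      · refine ih (l ++ [b]) (by simp [he]) rest' ?_ ?_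
        · have hperm : Ideal.ofList rest = Ideal.ofList (rest' ++ [a]) :=
            congrArg Ideal.span (Set.ext fun _ => hp.mem_iff)
          rw [← h1]
          simp only [Ideal.ofList_append, hperm, Ideal.ofList_singleton]
          refine le_antisymm (sup_le (sup_le le_sup_left ?_) (le_sup_left.trans le_sup_right)) ?_
          · rw [Ideal.span_singleton_le_iff_mem, ← hyz, hzeq]
            exact Submodule.add_mem_sup hy (add_mem (Submodule.mem_sup_right
              (Ideal.mul_mem_left _ _ (Ideal.mem_span_singleton_self a))) (Submodule.mem_sup_left hw))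
          · refine sup_le (le_sup_left.trans le_sup_left) (sup_le le_sup_right ?_)
            rw [Ideal.span_singleton_le_iff_mem, ← Ideal.unit_mul_mem_iff_mem _ hu,
              show u * a = (b - y) - w by rw [← hyz, hzeq]; ring]
            exact sub_mem (sub_mem (Submodule.mem_sup_left (Submodule.mem_sup_right
              (Ideal.mem_span_singleton_self b))) (Submodule.mem_sup_left (Submodule.mem_sup_left hy)))
              (Submodule.mem_sup_right hw)
        · simp only [List.length_append, List.length_singleton, hp.length_eq] at h2 ⊢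
          omega
  obtain ⟨rest, hJ', hlen'⟩ := hex lI [] rfl as (by simpa using hasJ) rfl
  obtain ⟨-, hreg⟩ := Groth.Agent.RegSeq.SameSpan.main _ as (lI ++ rest) rfl hlen'.le has
    (hasJ.trans hJ'.symm)
  have hw := hreg.toIsWeaklyRegular
  rw [RingTheory.Sequence.isWeaklyRegular_append_iff] at hw
  have hmem : ∀ r ∈ lI ++ rest, r ∈ 𝔪 := fun r hr => hJm (hJ' ▸ Ideal.subset_span hr)
  refine ⟨⟨lI, hlI, .of_isWeaklyRegular_of_mem_maximalIdeal A
    (fun r hr => hmem r (List.mem_append_left _ hr)) hw.1⟩, rest.map (Ideal.Quotient.mk I), ?_, ?_⟩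
  · rw [← Ideal.map_ofList, ← hJ', Ideal.ofList_append, Ideal.map_sup, hlI, Ideal.map_quotient_self,
      bot_sup_eq]
  · have hI : I ≠ ⊤ := fun h => hJ (top_le_iff.mp (h ▸ hIJ))
    have : Nontrivial (A ⧸ I) := Ideal.Quotient.nontrivial_iff.mpr hI
    have : IsLocalRing (A ⧸ I) :=
      IsLocalRing.of_surjective' (Ideal.Quotient.mk I) Ideal.Quotient.mk_surjective
    refine .of_isWeaklyRegular_of_mem_maximalIdeal (A ⧸ I) ?_ ?_
    · intro r hr
      obtain ⟨a, ha, rfl⟩ := List.mem_map.mp hr
      exact fun hu => hmem a (List.mem_append_right _ ha)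
        (by
          obtain ⟨v, hv⟩ := hu.exists_right_inv
          obtain ⟨v, rfl⟩ := Ideal.Quotient.mk_surjective v
          rw [← map_mul, ← map_one (Ideal.Quotient.mk I), Ideal.Quotient.eq] at hv
          by_contra hna
          have h1 : (1 : A) ∈ 𝔪 := by
            simpa using 𝔪.sub_mem (𝔪.mul_mem_right v (show a ∈ 𝔪 from hna)) (hJm (hIJ hv))
          exact h1 isUnit_one)
    · rw [← Ideal.Quotient.algebraMap_eq, RingTheory.Sequence.isWeaklyRegular_map_algebraMap_iff]
      refine (LinearEquiv.isWeaklyRegular_congr ?_ _).mp hw.2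
      exact Submodule.quotEquivOfEq _ _ (by rw [hlI, smul_eq_mul, Ideal.mul_top])

end Groth.Agent.S2200
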