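import Groth.Statements.S2203
import Mathlib
-- import your own Groth.Agent.* helpers here

set_option autoImplicit false
universe u
open CategoryTheory
open QCohCat

namespace Groth.Agent.S2203

/-- Ring-isomorphism part of the statement: let A and B be commutative rings whose categories of modules
are equivalent. Then A and B are isomorphic as rings. (The source moreover describes the equivalence
as base change followed by tensoring with an invertible module.) -/
theorem result (A B : Type u) [CommRing A] [CommRing B]
    (F : ModuleCat.{u} A ≌ ModuleCat.{u} B) : Nonempty (A ≃+* B) := by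
  haveI : F.functor.Additive := Functor.additive_of_preserves_binary_products F.functor
  haveI : F.inverse.Additive := F.inverse_additive
  let B1 : ModuleCat.{u} B := ModuleCat.of B B
  let ζ : A → (N : ModuleCat.{u} B) → (N ⟶ N) := fun a N =>
    F.counitIso.inv.app N ≫ F.functor.map (a • 𝟙 (F.inverse.obj N)) ≫ F.counitIso.hom.app N
  have hnat : ∀ (a : A) (N N' : ModuleCat.{u} B) (u : N ⟶ N'), u ≫ ζ a N' = ζ a N ≫ u := by
    intro a N N' u
    simp only [ζ, Category.assoc]
    rw [show F.counitIso.hom.app N ≫ u = F.functor.map (F.inverse.map u) ≫ F.counitIso.hom.app N' from (F.counitIso.hom.naturality u).symm, ← Category.assoc u, show u ≫ F.counitIso.inv.app N' =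
      F.counitIso.inv.app N ≫ F.functor.map (F.inverse.map u) from F.counitIso.inv.naturality u]
    simp only [Category.assoc, Functor.comp_map]
    rw [← Category.assoc (F.functor.map (F.inverse.map u)), ← F.functor.map_comp,
      ← Category.assoc (F.functor.map (a • _)), ← F.functor.map_comp]
    simp
  let φ : A → B := fun a => (ζ a B1).hom (1 : B)
  have hζ : ∀ (a : A) (N : ModuleCat.{u} B), ζ a N = φ a • 𝟙 N := by
    intro a N
    ext x
    have h := ConcreteCategory.congr_hom (hnat a B1 N (ModuleCat.ofHom (LinearMap.toSpanSingleton B N x))) (1 : B)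
    simpa [φ, B1] using h
  have hinj : Function.Injective φ := by
    intro a a' h
    let N := F.functor.obj (ModuleCat.of A A)
    have h1 : ζ a N = ζ a' N := by rw [hζ, hζ, h]
    have h2 : a • 𝟙 (F.inverse.obj N) = a' • 𝟙 (F.inverse.obj N) := by
      apply F.functor.map_injective
      have h5 := congrArg (fun k => (F.counitIso.app N).hom ≫ k ≫ (F.counitIso.app N).inv) h1
      simpa [ζ] using h5
    have h3 : a • 𝟙 (ModuleCat.of A A) = a' • 𝟙 (ModuleCat.of A A) := by
      have h4 := congrArg (fun k => F.unitIso.hom.app (ModuleCat.of A A) ≫ k ≫ F.unitIso.inv.app (ModuleCat.of A A)) h2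
      simpa [N] using h4
    simpa using ConcreteCategory.congr_hom h3 (1 : A)
  have hsurj : Function.Surjective φ := by
    intro b
    let A1 : ModuleCat.{u} A := ModuleCat.of A A
    let ξ : (M : ModuleCat.{u} A) → (M ⟶ M) := fun M =>
      F.unitIso.hom.app M ≫ F.inverse.map (b • 𝟙 (F.functor.obj M)) ≫ F.unitIso.inv.app M
    have hnat' : ∀ (M M' : ModuleCat.{u} A) (u : M ⟶ M'), u ≫ ξ M' = ξ M ≫ u := by
      intro M M' u
      simp only [ξ, Category.assoc]
      rw [← Category.assoc u, show u ≫ F.unitIso.hom.app M' =
        F.unitIso.hom.app M ≫ F.inverse.map (F.functor.map u) from F.unitIso.hom.naturality u,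
        show F.unitIso.inv.app M ≫ u = F.inverse.map (F.functor.map u) ≫ F.unitIso.inv.app M' from
          (F.unitIso.inv.naturality u).symm]
      simp only [Category.assoc]
      rw [← Category.assoc (F.inverse.map (F.functor.map u)), ← F.inverse.map_comp,
        ← Category.assoc (F.inverse.map (b • _)), ← F.inverse.map_comp]
      simp
    refine ⟨(ξ A1).hom (1 : A), ?_⟩
    have hξ : ∀ M, ξ M = (ξ A1).hom (1 : A) • 𝟙 M := by
      intro M
      ext x
      have h := ConcreteCategory.congr_hom (hnat' A1 M (ModuleCat.ofHom (LinearMap.toSpanSingleton A M x))) (1 : A)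
      simpa [A1] using h
    have key : ζ ((ξ A1).hom (1 : A)) B1 = b • 𝟙 B1 := by
      simp only [ζ, ← hξ]
      simp [ξ]
    simpa [φ, B1] using ConcreteCategory.congr_hom key (1 : B)
  let ψ : A →+* B :=
    { toFun := φ
      map_one' := by simp [φ, ζ, B1]
      map_zero' := by simp [φ, ζ, B1]
      map_add' := fun a a' => by simp [φ, ζ, B1, add_smul]
      map_mul' := fun a a' => by
        have h1 : ζ (a * a') B1 = ζ a' B1 ≫ ζ a B1 := by
          simp only [ζ, Category.assoc, Iso.hom_inv_id_app_assoc]
          rw [← Category.assoc (F.functor.map (a' • _)), ← F.functor.map_comp]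
          simp [smul_smul]
        show (ζ (a * a') B1).hom (1 : B) = φ a * φ a'
        rw [h1, hζ a B1, hζ a' B1]
        simp [B1, mul_comm] }
  exact ⟨RingEquiv.ofBijective ψ ⟨hinj, hsurj⟩⟩

end Groth.Agent.S2203
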