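import Groth.Statements.S2206
import Groth.Agent.EtAlg.DiagSmooth
import Groth.Agent.Locus.FiberCriterion

set_option autoImplicit false
universe u
open TensorProduct
open LCI

namespace Groth.Agent.S2206

/-- Let A be a Noetherian ring and B a flat A-algebra of finite type, viewed as an algebra over B
tensor_A B through the multiplication map. If B, as a module over B tensor_A B, has finite
Tor-dimension (the diagonal is a perfect ring map), then B is smooth over A. -/
theorem result {A B : Type u} [CommRing A] [CommRing B]
    [Algebra A B] [IsNoetherianRing A] [Algebra.FiniteType A B] [Module.Flat A B]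
    [Algebra (B ⊗[A] B) B]
    (hmul : ∀ x y : B, algebraMap (B ⊗[A] B) B (x ⊗ₜ[A] y) = x * y)
    (h : DRing.HasFiniteTorDim (B ⊗[A] B) B) : Algebra.Smooth A B := by
  classical
  have : Algebra.FinitePresentation A B := Algebra.FinitePresentation.of_finiteType.mp inferInstance
  refine ⟨?_, inferInstance⟩
  rw [← Algebra.smoothLocus_eq_univ_iff, Set.eq_univ_iff_forall]
  intro x
  let q := x.asIdeal
  let K := q.ResidueField
  let χ : B →ₐ[A] K := IsScalarTower.toAlgHom A B K
  let G : K ⊗[A] B →ₐ[K] K :=
    Algebra.TensorProduct.lift (Algebra.ofId K K) χ fun _ _ => .all _ _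
  have hp : (RingHom.ker G).IsPrime := RingHom.ker_isPrime _
  letI := (Algebra.TensorProduct.includeRight : B →ₐ[A] K ⊗[A] B).toRingHom.toAlgebra
  have hsm : Algebra.IsSmoothAt K (RingHom.ker G) :=
    Groth.Agent.EtAlg.DiagSmooth.isSmoothAt_of_point G
      (Groth.Agent.EtAlg.DiagSmooth.finiteTorDim_point hmul h χ)
  have hover : (RingHom.ker G).LiesOver q := ⟨by
    ext b
    change b ∈ q ↔ G (1 ⊗ₜ[A] b) = 0
    simp only [G, Algebra.TensorProduct.lift_tmul, map_one, one_mul]
    exact (Ideal.algebraMap_residueField_eq_zero).symm⟩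
  exact Groth.Agent.Locus.FiberCriterion.isSmoothAt_of_flat_of_field (RingHom.ker G) q
    (Module.Flat.trans A B (Localization.AtPrime q)) hsm

end Groth.Agent.S2206
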