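import Groth.Statements.S2207
import Mathlib.RingTheory.DividedPowers.DPMorphism

set_option autoImplicit false
universe u v
open DPow

namespace Groth.Agent.S2207

/-- Existence in case (2): let I = (x) be a principal ideal of A with a divided power structure and B
any A-algebra. Then there is a divided power structure on I B for which A -> B is a homomorphism of
divided power rings. -/
theorem result {A : Type u} {B : Type v} [CommRing A] [CommRing B] [Algebra A B]
    (x : A) (γ : DividedPowers (Ideal.span {x})) :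
    ∃ δ : DividedPowers ((Ideal.span {x}).map (algebraMap A B)), γ.IsDPMorphism δ (algebraMap A B) := by
  classical
  let φ := algebraMap A B
  have hx : x ∈ Ideal.span {x} := Ideal.mem_span_singleton_self x
  let G : ℕ → B := fun n => φ (γ.dpow n x)
  have hG0 : G 0 = 1 := by simp [G, γ.dpow_zero hx]
  have hG1 : G 1 = φ x := by simp [G, γ.dpow_one hx]
  have hGc : ∀ n, n ≠ 0 → ∃ c : A, γ.dpow n x = c * x := fun n hn => by
    obtain ⟨c, hc⟩ := Ideal.mem_span_singleton'.1 (γ.dpow_mem hn hx)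
    exact ⟨c, hc.symm⟩
  have hwd : ∀ (n : ℕ) (b b' : B), b * φ x = b' * φ x → b ^ n * G n = b' ^ n * G n := fun n b b' h => by
    rcases Nat.eq_zero_or_pos n with rfl | hn
    · simp
    obtain ⟨c, hc⟩ := hGc n hn.ne'
    obtain ⟨t, ht⟩ := sub_dvd_pow_sub_pow b b' n
    rw [← sub_eq_zero, ← sub_mul, ht, show G n = φ c * φ x by simp [G, hc],
      show (b - b') * t * (φ c * φ x) = (b * φ x - b' * φ x) * (t * φ c) by ring, h, sub_self, zero_mul]
  have hJ : (Ideal.span {x}).map φ = Ideal.span {φ x} := by rw [Ideal.map_span, Set.image_singleton]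
  let d : ℕ → B → B := fun n y => if h : ∃ b, b * φ x = y then h.choose ^ n * G n else 0
  have hd : ∀ n b, d n (b * φ x) = b ^ n * G n := fun n b => by
    have h : ∃ b', b' * φ x = b * φ x := ⟨b, rfl⟩
    simp only [d]
    rw [dif_pos h]
    exact hwd n _ _ h.choose_spec
  have hmem : ∀ y ∈ (Ideal.span {x}).map φ, ∃ b, y = b * φ x := fun y hy => by
    rw [hJ, Ideal.mem_span_singleton'] at hy
    obtain ⟨b, hb⟩ := hy
    exact ⟨b, hb.symm⟩
  have hmul : ∀ m n, G m * G n = ((m + n).choose m : B) * G (m + n) := fun m n => by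
    simp only [G]
    rw [← map_mul, γ.mul_dpow hx, map_mul, map_natCast]
  refine ⟨{ dpow := d, dpow_null := ?_, dpow_zero := ?_, dpow_one := ?_, dpow_mem := ?_, dpow_add := ?_, dpow_mul := ?_, mul_dpow := ?_, dpow_comp := ?_ }, ⟨le_rfl, ?_⟩⟩
  · intro n y hy
    exact dif_neg fun ⟨b, hb⟩ => hy (by rw [hJ, Ideal.mem_span_singleton']; exact ⟨b, hb⟩)
  · intro y hy
    obtain ⟨b, rfl⟩ := hmem y hy
    rw [hd, pow_zero, hG0, mul_one]
  · intro y hy
    obtain ⟨b, rfl⟩ := hmem y hy
    rw [hd, pow_one, hG1]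
  · intro n y hn hy
    obtain ⟨b, rfl⟩ := hmem y hy
    rw [hd]
    exact Ideal.mul_mem_left _ _ (Ideal.mem_map_of_mem φ (γ.dpow_mem hn hx))
  · intro n y z hy hz
    obtain ⟨b, rfl⟩ := hmem y hy
    obtain ⟨b', rfl⟩ := hmem z hz
    rw [← add_mul, hd, add_pow, Finset.sum_mul, Finset.Nat.sum_antidiagonal_eq_sum_range_succ (fun i j => d i (b * φ x) * d j (b' * φ x))]
    refine Finset.sum_congr rfl fun k hk => ?_
    rw [hd, hd, show b ^ k * G k * (b' ^ (n - k) * G (n - k)) = b ^ k * b' ^ (n - k) * (G k * G (n - k)) by ring, hmul, Nat.add_sub_cancel' (Nat.lt_succ_iff.1 (Finset.mem_range.1 hk))]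
    ring
  · intro n a y hy
    obtain ⟨b, rfl⟩ := hmem y hy
    rw [← mul_assoc, hd, hd, mul_pow, mul_assoc]
  · intro m n y hy
    obtain ⟨b, rfl⟩ := hmem y hy
    rw [hd, hd, hd, show b ^ m * G m * (b ^ n * G n) = b ^ (m + n) * (G m * G n) by ring, hmul]
    ring
  · intro m n y hn hy
    obtain ⟨b, rfl⟩ := hmem y hy
    obtain ⟨c, hc⟩ := hGc n hn
    have h1 : φ c ^ m * G m = (Nat.uniformBell m n : B) * G (m * n) := by
      have := congrArg φ (γ.dpow_comp (m := m) hn hx)
      rw [hc, γ.dpow_mul hx, map_mul, map_pow, map_mul, map_natCast] at this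
      exact this
    rw [hd, show b ^ n * G n = (b ^ n * φ c) * φ x by simp [G, hc]; ring, hd, hd, mul_pow, ← pow_mul, mul_comm n m, mul_assoc, h1]
    ring
  · intro n a ha
    obtain ⟨c, rfl⟩ := Ideal.mem_span_singleton'.1 ha
    show d n (φ (c * x)) = φ (γ.dpow n (c * x))
    rw [map_mul, hd, γ.dpow_mul hx, map_mul, map_pow]

end Groth.Agent.S2207
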