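import Groth.Statements.S2211
import Mathlib.RingTheory.DividedPowers.Basic
import Mathlib.Data.Nat.Choose.Lucas

set_option autoImplicit false
universe u
open DPow

namespace Groth.Agent.S2211

theorem not_dvd_bell {p : ℕ} (hp : p.Prime) (m : ℕ) : ¬ p ∣ Nat.uniformBell m p := by
  haveI := Fact.mk hp
  induction m with
  | zero => simp [Nat.uniformBell_zero_left, hp.ne_one]
  | succ m ih =>
    rw [Nat.uniformBell_succ_left, Nat.Prime.dvd_mul hp]
    rintro (h | h)
    · have h1 := @Choose.choose_modEq_choose_mod_mul_choose_div_nat (m * p + p - 1) (p - 1) p _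
      have e : m * p + p - 1 = (p - 1) + m * p := by have := hp.two_le; omega
      have hlt : p - 1 < p := by have := hp.two_le; omega
      rw [e] at h h1
      rw [Nat.add_mul_mod_self_right, Nat.mod_eq_of_lt hlt, Nat.choose_self, Nat.div_eq_of_lt hlt,
        Nat.choose_zero_right, mul_one] at h1
      exact hp.not_dvd_one (h1.dvd_iff dvd_rfl |>.1 h)
    · exact ih h


/-- First part: let p be a prime and A a ring in which every integer prime to p is invertible, I an
ideal of A. Two divided power structures on I coincide exactly when their p-th divided power maps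
agree on I. -/
theorem result {A : Type u} [CommRing A] (p : ℕ) (hp : p.Prime)
    (hA : ∀ n : ℕ, ¬ p ∣ n → IsUnit (n : A)) {I : Ideal A} (γ γ' : DividedPowers I) :
    γ = γ' ↔ ∀ x ∈ I, γ.dpow p x = γ'.dpow p x := by
  refine ⟨fun h x _ => by rw [h], fun h => ?_⟩
  haveI := Fact.mk hp
  refine DividedPowers.ext _ _ fun n => ?_
  induction n using Nat.strong_induction_on with
  | _ n ih =>
    intro x hx
    rcases Nat.lt_or_ge n 2 with hn | hn
    · interval_cases n
      · rw [γ.dpow_zero hx, γ'.dpow_zero hx]
      · rw [γ.dpow_one hx, γ'.dpow_one hx]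
    rcases eq_or_ne n p with rfl | hnp
    · exact h x hx
    by_cases hdvd : p ∣ n
    · obtain ⟨m, rfl⟩ := hdvd
      have hm : m ≠ 0 := by rintro rfl; omega
      have hlt : m < p * m := by
        nlinarith [hp.two_le, Nat.pos_of_ne_zero hm]
      have e1 := γ.dpow_comp (m := m) (n := p) hp.ne_zero hx
      have e2 := γ'.dpow_comp (m := m) (n := p) hp.ne_zero hx
      rw [mul_comm m p] at e1 e2
      have hmem : γ'.dpow p x ∈ I := γ'.dpow_mem hp.ne_zero hx
      rw [h x hx, ih m hlt hmem, e2] at e1
      exact ((hA _ (not_dvd_bell hp m)).mul_right_inj.1 e1).symm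
    · have e1 := γ.mul_dpow (m := 1) (n := n - 1) hx
      have e2 := γ'.mul_dpow (m := 1) (n := n - 1) hx
      rw [γ.dpow_one hx, Nat.choose_one_right, Nat.add_sub_of_le (by omega : 1 ≤ n)] at e1
      rw [γ'.dpow_one hx, Nat.choose_one_right, Nat.add_sub_of_le (by omega : 1 ≤ n)] at e2
      rw [ih (n - 1) (by omega) hx, e2] at e1
      exact ((hA n hdvd).mul_right_inj.1 e1).symm

end Groth.Agent.S2211
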