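import Groth.Statements.S2212
import Groth.Agent.DPow.FromP
import Groth.Agent.S2211
import Mathlib.RingTheory.Int.Basic
import Mathlib.Tactic.FieldSimp
import Mathlib.Algebra.BigOperators.Pi
import Mathlib.Algebra.MvPolynomial.NoZeroDivisors

set_option autoImplicit false
universe u
open DPow

namespace Groth.Agent.S2212

open Groth.Agent.DPow.FromP MvPolynomial

/-- polynomial model -/
noncomputable def polySys {p : ℕ} (hp : p.Prime) : Sys p (MvPolynomial (Fin 2) ℚ) where
  I := ⊤
  d z := C ((p.factorial : ℚ)⁻¹) * z ^ p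
  hA n hn := by
    rw [← map_natCast (C : ℚ →+* MvPolynomial (Fin 2) ℚ)]
    exact (isUnit_iff_ne_zero.2 (Nat.cast_ne_zero.2 (by rintro rfl; exact hn (dvd_zero p)))).map C
  hdI _ _ := trivial
  h1 z _ := by
    rw [← mul_assoc, ← map_natCast (C : ℚ →+* MvPolynomial (Fin 2) ℚ), ← map_mul,
      mul_inv_cancel₀ (Nat.cast_ne_zero.2 p.factorial_ne_zero), map_one, one_mul]
  h2 a x _ := by rw [mul_pow]; ring
  h3 x _ y _ := by
    rw [(Commute.all x y).add_pow', Finset.mul_sum,
      ← Finset.sum_filter_add_sum_filter_not (Finset.antidiagonal p) (fun k => 0 < k.1 ∧ 0 < k.2), add_comm]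
    congr 1
    · have : ((Finset.antidiagonal p).filter fun k => ¬ (0 < k.1 ∧ 0 < k.2)) = {(0, p), (p, 0)} := by
        ext ⟨a, b⟩
        simp only [Finset.mem_filter, Finset.HasAntidiagonal.mem_antidiagonal, Finset.mem_insert, Finset.mem_singleton, Prod.mk.injEq]
        omega
      rw [this, Finset.sum_pair (by simp [hp.ne_zero.symm])]
      simp [add_comm]
    · refine Finset.sum_congr rfl fun k hk => ?_
      simp only [Finset.mem_filter, Finset.HasAntidiagonal.mem_antidiagonal] at hk
      have hne : ((k.1.factorial * k.2.factorial : ℕ) : ℚ) ≠ 0 :=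
        Nat.cast_ne_zero.2 (mul_ne_zero k.1.factorial_ne_zero k.2.factorial_ne_zero)
      rw [← map_natCast (C : ℚ →+* MvPolynomial (Fin 2) ℚ) (k.1.factorial * k.2.factorial),
        ← Sys.map_inverse C (isUnit_iff_ne_zero.2 hne), Ring.inverse_eq_inv', nsmul_eq_mul,
        ← map_natCast (C : ℚ →+* MvPolynomial (Fin 2) ℚ) (p.choose k.1), ← mul_assoc, ← map_mul, mul_assoc]
      congr 2
      have h := fac_choose k.1 k.2
      rw [hk.1] at h
      have hpne : (p.factorial : ℚ) ≠ 0 := Nat.cast_ne_zero.2 p.factorial_ne_zero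
      field_simp
      push_cast [← h]
      ring

theorem poly_F {p : ℕ} (hp : p.Prime) (n : ℕ) (z : MvPolynomial (Fin 2) ℚ) :
    F p (polySys hp).d n z = C ((n.factorial : ℚ)⁻¹) * z ^ n := by
  apply mul_left_cancel₀ (show ((n.factorial : ℕ) : MvPolynomial (Fin 2) ℚ) ≠ 0 from Nat.cast_ne_zero.2 n.factorial_ne_zero)
  rw [(polySys hp).fac_mul_F hp n z trivial, ← mul_assoc, ← map_natCast (C : ℚ →+* MvPolynomial (Fin 2) ℚ), ← map_mul,
    mul_inv_cancel₀ (Nat.cast_ne_zero.2 n.factorial_ne_zero), map_one, one_mul]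

theorem add_comp {A : Type u} [CommRing A] {p : ℕ} (hp : p.Prime) (SA : Sys p A) (x y : A) (hx : x ∈ SA.I) (hy : y ∈ SA.I) :
    (∀ n, F p SA.d n (x + y) = (Finset.antidiagonal n).sum fun k => F p SA.d k.1 x * F p SA.d k.2 y) ∧
    ∀ m n, n ≠ 0 → F p SA.d m (F p SA.d n x) = (Nat.uniformBell m n : A) * F p SA.d (m * n) x := by
  let P := MvPolynomial (Fin 2) ℚ
  let fstH : A × P →+* A := RingHom.fst A P
  let sndH : A × P →+* P := RingHom.snd A P
  have hAT : ∀ n : ℕ, ¬ p ∣ n → IsUnit (n : A × P) := fun n hn =>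
    Prod.isUnit_iff.2 ⟨by simpa using SA.hA n hn, by simpa using (polySys hp).hA n hn⟩
  let ST : Sys p (A × P) :=
    { I := Ideal.prod SA.I ⊤
      d := fun z => (SA.d z.1, (polySys hp).d z.2)
      hA := hAT
      hdI := fun z hz => ⟨SA.hdI _ hz.1, trivial⟩
      h1 := fun z hz => Prod.ext (by simpa using SA.h1 _ hz.1) (by simpa using (polySys hp).h1 z.2 trivial)
      h2 := fun a z hz => Prod.ext (by simpa using SA.h2 a.1 _ hz.1) (by simpa using (polySys hp).h2 a.2 z.2 trivial)
      h3 := fun z hz w hw => by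
        have hu : ∀ k ∈ (Finset.antidiagonal p).filter (fun k => 0 < k.1 ∧ 0 < k.2),
            IsUnit ((k.1.factorial * k.2.factorial : ℕ) : A × P) := fun k hk => hAT _ (by
          simp only [Finset.mem_filter, Finset.HasAntidiagonal.mem_antidiagonal] at hk
          rw [Nat.Prime.dvd_mul hp, Nat.Prime.dvd_factorial hp, Nat.Prime.dvd_factorial hp]; omega)
        refine Prod.ext ?_ ?_
        · refine (SA.h3 _ hz.1 _ hw.1).trans ?_
          rw [Prod.fst_add, Prod.fst_add, Prod.fst_sum]
          refine congrArg _ (Finset.sum_congr rfl fun k hk => ?_)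
          rw [Prod.fst_mul, Prod.fst_mul, Prod.pow_fst, Prod.pow_fst,
            show (Ring.inverse ((k.1.factorial * k.2.factorial : ℕ) : A × P)).1 =
              Ring.inverse ((k.1.factorial * k.2.factorial : ℕ) : A) from
              (Sys.map_inverse fstH (hu k hk)).trans (by rw [map_natCast])]
          rfl
        · refine ((polySys hp).h3 _ trivial _ trivial).trans ?_
          rw [Prod.snd_add, Prod.snd_add, Prod.snd_sum]
          refine congrArg _ (Finset.sum_congr rfl fun k hk => ?_)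
          rw [Prod.snd_mul, Prod.snd_mul, Prod.pow_snd, Prod.pow_snd,
            show (Ring.inverse ((k.1.factorial * k.2.factorial : ℕ) : A × P)).2 =
              Ring.inverse ((k.1.factorial * k.2.factorial : ℕ) : P) from
              (Sys.map_inverse sndH (hu k hk)).trans (by rw [map_natCast])]
          }
  haveI : (Ideal.span {(p : ℤ)}).IsPrime :=
    (Ideal.span_singleton_prime (Nat.cast_ne_zero.2 hp.ne_zero)).2 (Nat.prime_iff_prime_int.1 hp)
  let L := Localization.AtPrime (Ideal.span {(p : ℤ)})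
  have hndvd : ∀ s : (Ideal.span {(p : ℤ)}).primeCompl, ¬ p ∣ (s : ℤ).natAbs := fun s h =>
    s.2 (Ideal.mem_span_singleton.2 (Int.natCast_dvd.2 h))
  have hunit : ∀ {R : Type u} [CommRing R], (∀ n : ℕ, ¬ p ∣ n → IsUnit (n : R)) →
      ∀ s : (Ideal.span {(p : ℤ)}).primeCompl, IsUnit (Int.castRingHom R s) := by
    intro R _ hR s
    rcases Int.natAbs_eq (s : ℤ) with h | h
    · rw [h, map_natCast]; exact hR _ (hndvd s)
    · rw [h, map_neg, map_natCast]; exact (hR _ (hndvd s)).neg
  let φA : L →+* A := IsLocalization.lift (hunit SA.hA)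
  have hunitQ : ∀ s : (Ideal.span {(p : ℤ)}).primeCompl, IsUnit (Int.castRingHom ℚ s) := fun s =>
    isUnit_iff_ne_zero.2 (fun h => s.2 (by
      rw [eq_intCast, Int.cast_eq_zero] at h; rw [h]; exact zero_mem _))
  let φQ : L →+* ℚ := IsLocalization.lift hunitQ
  have hφQ : Function.Injective φQ := (IsLocalization.lift_injective_iff _).2 fun a b => by
    constructor
    · intro h
      exact congrArg (Int.castRingHom ℚ) (IsLocalization.injective L (Ideal.span {(p : ℤ)}).primeCompl_le_nonZeroDivisors h)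
    · intro h
      exact congrArg _ (Int.cast_injective (α := ℚ) h)
  letI : Algebra L (A × P) := (RingHom.prod φA ((C : ℚ →+* P).comp φQ)).toAlgebra
  have hL : ∀ n : ℕ, ¬ p ∣ n → IsUnit (n : L) := fun n hn => by
    rw [← map_natCast (algebraMap ℤ L)]
    exact IsLocalization.map_units L (⟨(n : ℤ), fun h => hn (Int.natCast_dvd_natCast.1 (Ideal.mem_span_singleton.1 h))⟩ :
      (Ideal.span {(p : ℤ)}).primeCompl)
  let X' : A × P := (x, X 0)
  let Y' : A × P := (y, X 1)
  have hX : X' ∈ ST.I := ⟨hx, trivial⟩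
  have hY : Y' ∈ ST.I := ⟨hy, trivial⟩
  have hfst : ∀ n, ∀ z ∈ ST.I, (F p ST.d n z).1 = F p SA.d n z.1 := fun n z hz =>
    ST.F_map hp SA fstH (fun z hz => hz.1) (fun z hz => rfl) n z hz
  have hsnd : ∀ n, ∀ z ∈ ST.I, (F p ST.d n z).2 = C ((n.factorial : ℚ)⁻¹) * z.2 ^ n := fun n z hz =>
    (ST.F_map hp (polySys hp) sndH (fun z hz => trivial) (fun z hz => rfl) n z hz).trans (poly_F hp n z.2)
  have htransfer : ∀ z ∈ ST.spn L X' Y' Set.univ, ∀ w ∈ ST.spn L X' Y' Set.univ, z.2 = w.2 → z.1 = w.1 := by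
    intro z hz w hw hzw
    have hmem := sub_mem hz hw
    rw [Sys.spn, Set.image_univ, Finsupp.mem_span_range_iff_exists_finsupp] at hmem
    obtain ⟨l, hl⟩ := hmem
    suffices l = 0 by
      rw [this, Finsupp.sum_zero_index] at hl
      exact congrArg Prod.fst (sub_eq_zero.1 hl.symm)
    have hl2 := congrArg sndH hl
    rw [map_finsuppSum, map_sub, show sndH z = sndH w from hzw, sub_self] at hl2
    let e : ℕ × ℕ → (Fin 2 →₀ ℕ) := fun k => Finsupp.single 0 k.1 + Finsupp.single 1 k.2
    have he : Function.Injective e := fun k k' h => Prod.ext (by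
      simpa [e] using DFunLike.congr_fun h 0) (by simpa [e] using DFunLike.congr_fun h 1)
    have hg : ∀ k, sndH (l k • ST.gen X' Y' k) =
        monomial (e k) (φQ (l k) * ((k.1.factorial : ℚ)⁻¹ * (k.2.factorial : ℚ)⁻¹)) := fun k => by
      rw [Algebra.smul_def, Sys.gen_def, map_mul, map_mul]
      show C (φQ (l k)) * ((F p ST.d k.1 X').2 * (F p ST.d k.2 Y').2) = _
      rw [hsnd _ _ hX, hsnd _ _ hY]
      simp only [X', Y', e]
      rw [X_pow_eq_monomial, X_pow_eq_monomial, C_mul_monomial, C_mul_monomial, monomial_mul, C_mul_monomial]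
      congr 1
      ring
    ext k
    have h3 := congrArg (coeff (e k)) hl2
    rw [coeff_zero, Finsupp.sum, coeff_sum, Finset.sum_eq_single k] at h3
    · rw [hg, coeff_monomial, if_pos rfl] at h3
      apply hφQ
      rw [Finsupp.zero_apply, map_zero]
      rcases mul_eq_zero.1 h3 with h | h
      · exact h
      · exact absurd h (mul_ne_zero (inv_ne_zero (Nat.cast_ne_zero.2 k.1.factorial_ne_zero))
          (inv_ne_zero (Nat.cast_ne_zero.2 k.2.factorial_ne_zero)))
    · intro k' _ hne
      rw [hg, coeff_monomial, if_neg (fun h => hne (he h))]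
    · intro hk
      rw [Finsupp.notMem_support_iff.1 hk, zero_smul, map_zero, coeff_zero]
  have hgen : ∀ {k : ℕ × ℕ}, ST.gen X' Y' k ∈ ST.spn L X' Y' Set.univ := fun {k} =>
    Submodule.subset_span ⟨k, trivial, rfl⟩
  have hgen' : ∀ {k : ℕ × ℕ}, k ≠ 0 → ST.gen X' Y' k ∈ ST.spn L X' Y' {k | k ≠ 0} := fun {k} hk =>
    Submodule.subset_span ⟨k, hk, rfl⟩
  refine ⟨fun n => ?_, fun m n hn => ?_⟩
  · have hsum : X' + Y' ∈ ST.spn L X' Y' {k | k ≠ 0} := by
      refine add_mem ?_ ?_
      · simpa [Sys.gen_def, ST.F_zero, ST.F_one hp] using hgen' (k := (1, 0)) (by simp)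
      · simpa [Sys.gen_def, ST.F_zero, ST.F_one hp] using hgen' (k := (0, 1)) (by simp)
    have h := htransfer _ (ST.closure hp hX hY hL n _ hsum).2
      ((Finset.antidiagonal n).sum fun k => ST.gen X' Y' k) (Submodule.sum_mem _ fun k _ => hgen) (by
        show _ = sndH _
        rw [map_sum, hsnd _ _ (add_mem hX hY)]
        show C ((n.factorial : ℚ)⁻¹) * ((X 0 : P) + X 1) ^ n = _
        rw [(Commute.all _ _).add_pow', Finset.mul_sum]
        refine Finset.sum_congr rfl fun k hk => ?_
        show _ = (F p ST.d k.1 X').2 * (F p ST.d k.2 Y').2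
        rw [hsnd _ _ hX, hsnd _ _ hY]
        simp only [X', Y']
        rw [nsmul_eq_mul, ← map_natCast (C : ℚ →+* P), mul_mul_mul_comm, ← mul_assoc, ← map_mul, ← map_mul]
        congr 2
        rw [Finset.HasAntidiagonal.mem_antidiagonal] at hk
        have h := fac_choose k.1 k.2
        rw [hk] at h
        have h1 : (k.1.factorial : ℚ) ≠ 0 := Nat.cast_ne_zero.2 k.1.factorial_ne_zero
        have h2 : (k.2.factorial : ℚ) ≠ 0 := Nat.cast_ne_zero.2 k.2.factorial_ne_zero
        have h3 : (n.factorial : ℚ) ≠ 0 := Nat.cast_ne_zero.2 n.factorial_ne_zero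
        field_simp
        push_cast [← h]
        ring)
    rw [hfst _ _ (add_mem hX hY)] at h
    show F p SA.d n (X' + Y').1 = _
    rw [h]
    show fstH _ = _
    rw [map_sum]
    refine Finset.sum_congr rfl fun k _ => ?_
    show (F p ST.d k.1 X').1 * (F p ST.d k.2 Y').1 = _
    rw [hfst _ _ hX, hfst _ _ hY]
  · have hg : F p ST.d n X' ∈ ST.spn L X' Y' {k | k ≠ 0} := by
      simpa [Sys.gen_def, ST.F_zero] using hgen' (k := (n, 0)) (by simp [hn])
    have hw : ((Nat.uniformBell m n : ℕ) : A × P) * F p ST.d (m * n) X' ∈ ST.spn L X' Y' Set.univ := by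
      have := Submodule.smul_mem _ ((Nat.uniformBell m n : ℕ) : L) (hgen (k := (m * n, 0)))
      rwa [Algebra.smul_def, map_natCast, Sys.gen_def, ST.F_zero, mul_one] at this
    have hFn := ST.F_mem hp n X' hX hn
    have h := htransfer _ (ST.closure hp hX hY hL m _ hg).2 _ hw (by
      rw [hsnd _ _ hFn, hsnd _ _ hX, Prod.snd_mul, hsnd _ _ hX, Prod.snd_natCast,
        ← map_natCast (C : ℚ →+* P), mul_pow, ← map_pow, ← mul_assoc, ← mul_assoc, ← map_mul, ← map_mul, ← pow_mul,
        mul_comm n m]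
      congr 2
      have h := Nat.uniformBell_mul_eq m hn
      have h1 : (m.factorial : ℚ) ≠ 0 := Nat.cast_ne_zero.2 m.factorial_ne_zero
      have h2 : (n.factorial : ℚ) ≠ 0 := Nat.cast_ne_zero.2 n.factorial_ne_zero
      have h3 : ((m * n).factorial : ℚ) ≠ 0 := Nat.cast_ne_zero.2 (m * n).factorial_ne_zero
      rw [inv_pow]
      field_simp
      push_cast [← h]
      ring)
    rw [hfst _ _ hFn, Prod.fst_mul, hfst _ _ hX, hfst _ _ hX, Prod.fst_natCast] at h
    exact h


/-- Second part: let p be a prime, A a ring in which every integer prime to p is invertible and I an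
ideal. Let d : A -> A send I into I and satisfy p! d(x) = x^p, d(a x) = a^p d(x), and d(x + y) =
d(x) + d(y) + sum over i + j = p with i, j > 0 of x^i y^j / (i! j!), for x, y in I and a in A. Then
there is exactly one divided power structure on I whose p-th divided power is d on I. -/
theorem result {A : Type u} [CommRing A] (p : ℕ) (hp : p.Prime)
    (hA : ∀ n : ℕ, ¬ p ∣ n → IsUnit (n : A)) {I : Ideal A} (d : A → A)
    (hdI : ∀ x ∈ I, d x ∈ I) (h1 : ∀ x ∈ I, (p.factorial : A) * d x = x ^ p)
    (h2 : ∀ (a x : A), x ∈ I → d (a * x) = a ^ p * d x)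
    (h3 : ∀ x ∈ I, ∀ y ∈ I, d (x + y) = d x + d y +
      ((Finset.antidiagonal p).filter fun k => 0 < k.1 ∧ 0 < k.2).sum
        fun k => Ring.inverse ((k.1.factorial * k.2.factorial : ℕ) : A) * x ^ k.1 * y ^ k.2) :
    ∃! γ : DividedPowers I, ∀ x ∈ I, γ.dpow p x = d x := by
  classical
  let SA : Sys p A := ⟨I, d, hA, hdI, h1, h2, h3⟩
  have hmem : ∀ x ∈ I, x ∈ SA.I := fun x hx => hx
  refine ⟨
    { dpow := fun n x => if x ∈ I then F p d n x else 0
      dpow_null := fun hx => if_neg hx
      dpow_zero := fun hx => by rw [if_pos hx]; exact SA.F_zero _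
      dpow_one := fun hx => by rw [if_pos hx]; exact SA.F_one hp _
      dpow_mem := fun hn hx => by rw [if_pos hx]; exact SA.F_mem hp _ _ hx hn
      dpow_add := ?_
      dpow_mul := fun {n a x} hx => by
        rw [if_pos hx, if_pos (Ideal.mul_mem_left _ _ hx)]; exact SA.F_smul hp n a x hx
      mul_dpow := fun {m n x} hx => by
        rw [if_pos hx, if_pos hx, if_pos hx]; exact SA.F_mul hp _ x hx m n rfl
      dpow_comp := ?_ }, ?_, ?_⟩
  · intro n x y hx hy
    rw [if_pos (I.add_mem hx hy)]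
    rw [show ((Finset.antidiagonal n).sum fun k => (if x ∈ I then F p d k.1 x else 0) * (if y ∈ I then F p d k.2 y else 0))
      = (Finset.antidiagonal n).sum fun k => F p d k.1 x * F p d k.2 y from
        Finset.sum_congr rfl fun k _ => by rw [if_pos hx, if_pos hy]]
    exact (add_comp hp SA x y hx hy).1 n
  · intro m n x hn hx
    rw [if_pos hx, if_pos hx, if_pos (show F p d n x ∈ I from SA.F_mem hp _ _ hx hn)]
    exact (add_comp hp SA x x hx hx).2 m n hn
  · intro x hx
    show (if x ∈ I then F p d p x else 0) = d x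
    rw [if_pos hx]; exact SA.F_p hp x
  · intro γ hγ
    refine (S2211.result p hp hA γ _).2 fun x hx => ?_
    rw [hγ x hx]
    show d x = if x ∈ I then F p d p x else 0
    rw [if_pos hx]; exact (SA.F_p hp x).symm

end Groth.Agent.S2212
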