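import Groth.Statements.S8255

set_option autoImplicit false
universe u
open CategoryTheory CategoryTheory.Limits AlgebraicGeometry Opposite TopologicalSpace
open EGA2

namespace Groth.Agent.S8255

/-- Let S be a scheme and A a quasi-coherent O_S-algebra, and let π : Spec(A) → S be its relative
spectrum (glued from the affine schemes Spec A(U), U an affine open of S). Then the canonical
comparison map π_* O_{Spec(A)} → A (which over an affine open U is restriction to the chart Spec
A(U) followed by Γ(Spec R) = R) is an isomorphism; in other words the direct-image algebra of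
Spec(A) is A. -/
theorem result {S : Scheme.{u}} (A : RelSpec.QCAlg S) : IsIso A.gammaMap := by
  have h : ∀ (U : S.Opens) (hU : IsAffineOpen U), IsIso (A.gammaAff U hU) := by
    intro U hU
    have : IsIso ((A.ι U hU).app (A.π ⁻¹ᵁ U)) := (A.ι U hU).isIso_app _ (A.π_preimage U hU).le
    have e : A.ι U hU ⁻¹ᵁ (A.π ⁻¹ᵁ U) = ⊤ := top_le_iff.mp (A.top_le_preimage U hU)
    have : IsIso ((A.ι U hU).appLE (A.π ⁻¹ᵁ U) ⊤ (A.top_le_preimage U hU)) := by
      rw [Scheme.Hom.appLE, show homOfLE (A.top_le_preimage U hU) = eqToHom e.symm from Subsingleton.elim _ _]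
      infer_instance
    rw [RelSpec.QCAlg.gammaAff]
    infer_instance
  let α : (⟨A.π.base _* A.spec.presheaf, TopCat.Sheaf.pushforward_sheaf_of_sheaf _ A.spec.sheaf.property⟩ :
      TopCat.Sheaf CommRingCat.{u} S.carrier) ⟶ ⟨A.presheaf, A.isSheaf⟩ := ⟨A.gammaMap⟩
  have hw : IsIso (Functor.whiskerLeft (Scheme.AffineZariskiSite.toOpensFunctor S).op α.hom) := by
    show IsIso ((Scheme.AffineZariskiSite.toOpensFunctor S).op.whiskerLeft A.gammaMap)
    rw [A.gammaMap_restrict]
    have : ∀ U, IsIso (A.gammaRestrict.app U) := fun U => h U.unop.1 U.unop.2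
    exact NatIso.isIso_of_isIso_app _
  have := CategoryTheory.Functor.IsCoverDense.iso_of_restrict_iso
    (G := Scheme.AffineZariskiSite.toOpensFunctor S) (K := Opens.grothendieckTopology S) α hw
  exact (inferInstance : IsIso ((sheafToPresheaf _ _).map α))

end Groth.Agent.S8255
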