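import Groth.Statements.S3571
import Groth.Agent.ModStalk.Affine
import Groth.Agent.S8255

set_option autoImplicit false
universe u
open CategoryTheory AlgebraicGeometry TopologicalSpace
open EGA2

namespace Groth.Agent.S3571

open Opposite

/-- The module of a sheaf of algebras. -/
noncomputable abbrev modOf {S : Scheme.{u}} (B : Sheaf (Opens.grothendieckTopology S) CommRingCat.{u}) (φ : S.sheaf ⟶ B) :
    S.Modules :=
  (SheafOfModules.restrictScalars
    ((sheafCompose (Opens.grothendieckTopology S) (forget₂ CommRingCat.{u} RingCat.{u})).map φ)).obj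
    (SheafOfModules.unit ((sheafCompose (Opens.grothendieckTopology S) (forget₂ CommRingCat.{u} RingCat.{u})).obj B))

set_option maxHeartbeats 1000000 in
theorem isQC_of_isQuasicoherent {S : Scheme.{u}}
    (B : Sheaf (Opens.grothendieckTopology S) CommRingCat.{u}) (φ : S.sheaf ⟶ B)
    (hM : (modOf B φ).IsQuasicoherent) : RelSpec.IsQC B.obj φ.hom := by
  intro U hU r
  letI := (B.obj.map (homOfLE (S.basicOpen_le r)).op).hom.toAlgebra
  have hnat : ∀ a : Γ(S, U), (B.obj.map (homOfLE (S.basicOpen_le r)).op).hom ((φ.hom.app (op U)).hom a) =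
      (φ.hom.app (op (S.basicOpen r))).hom (S.presheaf.map (homOfLE (S.basicOpen_le r)).op a) := fun a =>
    (ConcreteCategory.congr_hom (φ.hom.naturality (homOfLE (S.basicOpen_le r)).op) a).symm
  refine IsLocalization.Away.mk _ ?_ (fun t => ?_) (fun a b hab => ?_)
  · show IsUnit ((B.obj.map (homOfLE (S.basicOpen_le r)).op).hom ((φ.hom.app (op U)).hom r))
    rw [hnat]
    exact IsUnit.map _ (RingedSpace.isUnit_res_basicOpen _ r)
  · obtain ⟨n, s, hs⟩ := Groth.Agent.ModStalk.exists_extend (modOf B φ) hU r t
    refine ⟨n, s, ?_⟩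
    show t * (B.obj.map (homOfLE (S.basicOpen_le r)).op).hom ((φ.hom.app (op U)).hom r) ^ n =
      (B.obj.map (homOfLE (S.basicOpen_le r)).op).hom s
    rw [hnat, ← map_pow, mul_comm]
    exact hs.symm
  · obtain ⟨n, hn⟩ := Groth.Agent.ModStalk.exists_pow_smul_eq_zero (modOf B φ) hU r
      (show _ from a - b) ((map_sub (B.obj.map (homOfLE (S.basicOpen_le r)).op).hom a b).trans (sub_eq_zero.mpr hab))
    refine ⟨n, sub_eq_zero.mp ?_⟩
    rw [← mul_sub, ← map_pow]
    exact hn

/-- Let S be a scheme and B a sheaf of commutative rings on S with a morphism O_S → B making B a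
quasi-coherent O_S-module (a quasi-coherent O_S-algebra). Then there are a scheme X and an affine
morphism f : X → S together with an isomorphism of sheaves of rings B ≅ f_*O_X compatible with the
two structure maps from O_S (X is the relative spectrum of B; it is in fact unique up to unique
S-isomorphism, but only existence is asserted here). -/
theorem result {S : Scheme.{u}}
    (B : Sheaf (Opens.grothendieckTopology S) CommRingCat.{u}) (φ : S.sheaf ⟶ B)
    (hB : Coh.IsQCoh ((SheafOfModules.restrictScalars
      ((sheafCompose (Opens.grothendieckTopology S) (forget₂ CommRingCat.{u} RingCat.{u})).map φ)).obj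
      (SheafOfModules.unit ((sheafCompose (Opens.grothendieckTopology S) (forget₂ CommRingCat.{u} RingCat.{u})).obj B)))) :
    ∃ (X : Scheme.{u}) (f : X ⟶ S) (_ : IsAffineHom f)
      (e : B ≅ (TopCat.Sheaf.pushforward CommRingCat.{u} f.base).obj X.sheaf),
      (φ ≫ e.hom).hom = f.c := by
  let A : RelSpec.QCAlg S := ⟨B.obj, B.property, φ.hom, isQC_of_isQuasicoherent B φ hB⟩
  have : IsIso A.gammaMap := Groth.Agent.S8255.result A
  let e : B ≅ (TopCat.Sheaf.pushforward CommRingCat.{u} A.π.base).obj A.spec.sheaf :=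
    (fullyFaithfulSheafToPresheaf _ _).preimageIso (asIso A.gammaMap).symm
  refine ⟨A.spec, A.π, inferInstance, e, ?_⟩
  show φ.hom ≫ inv A.gammaMap = A.π.c
  rw [IsIso.comp_inv_eq]
  exact A.π_c_gammaMap.symm

end Groth.Agent.S3571
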