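import Groth.Statements.S9602
import Mathlib.RingTheory.AdicCompletion.Algebra
import Mathlib.RingTheory.Nilpotent.Basic
import Mathlib.RingTheory.Jacobson.Ideal

set_option autoImplicit false
universe u
open CAlg

namespace Groth.Agent.S9602

/-- Let R be a ring, I an ideal of R and R^ = lim R/Iⁿ the I-adic completion. An element of R^ whose
image in R/I is invertible is itself invertible in R^; and the kernel of R^ → R/I as well as the
extended ideal I R^ both lie inside the Jacobson radical of R^. -/
theorem result {R : Type u} [CommRing R] (I : Ideal R) :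
    (∀ x : AdicCompletion I R, IsUnit (AdicCompletion.evalOneₐ I x) → IsUnit x) ∧
      RingHom.ker (AdicCompletion.evalOneₐ I).toRingHom ≤ (⊥ : Ideal (AdicCompletion I R)).jacobson ∧
      I.map (algebraMap R (AdicCompletion I R)) ≤ (⊥ : Ideal (AdicCompletion I R)).jacobson := by
  have hunit : ∀ x : AdicCompletion I R, IsUnit (AdicCompletion.evalOneₐ I x) → IsUnit x := by
    intro x hx
    have hn : ∀ n, IsUnit (AdicCompletion.evalₐ I n x) := by
      intro n
      obtain ⟨s, rfl⟩ := AdicCompletion.mk_surjective I R x
      obtain ⟨t, ht⟩ := hx.exists_right_inv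
      obtain ⟨t, rfl⟩ := Ideal.Quotient.mk_surjective t
      rcases Nat.eq_zero_or_pos n with rfl | hpos
      · have : Subsingleton (R ⧸ I ^ 0) := Ideal.Quotient.subsingleton_iff.mpr (pow_zero I ▸ Ideal.one_eq_top)
        exact isUnit_of_subsingleton _
      have h1 : s.val 1 * t - 1 ∈ I := by
        rw [← AdicCompletion.factorₐ_evalₐ_one, AdicCompletion.evalₐ_mk, Ideal.Quotient.factor_mk,
          ← map_mul, ← map_one (Ideal.Quotient.mk I)] at ht
        exact Ideal.Quotient.eq.mp ht
      have h2 : s.val n * t - 1 ∈ I := by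
        have hc : s.val 1 - s.val n ∈ I := by
          have := SModEq.sub_mem.mp (s.2 (Nat.one_le_of_lt hpos))
          simpa using this
        have h := I.sub_mem h1 (I.mul_mem_right t hc)
        convert h using 1; ring
      rw [AdicCompletion.evalₐ_mk]
      refine isUnit_of_mul_isUnit_left (y := Ideal.Quotient.mk (I ^ n) t) ?_
      rw [← map_mul, ← add_sub_cancel 1 (s.val n * t), map_add, map_one]
      rw [add_comm]
      refine IsNilpotent.isUnit_add_one ⟨n, ?_⟩
      rw [← map_pow, Ideal.Quotient.eq_zero_iff_mem]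
      exact Ideal.pow_mem_pow h2 n
    choose y hy using fun n => (hn n).exists_right_inv
    choose r hr using fun n => Ideal.Quotient.mk_surjective (y n)
    have hcomp : ∀ n, r n ≡ r (n + 1) [SMOD (I ^ n • ⊤ : Submodule R R)] := by
      intro n
      rw [SModEq.sub_mem, smul_eq_mul, Ideal.mul_top, ← Ideal.Quotient.eq, hr]
      have h := congrArg (Ideal.Quotient.factor (Ideal.pow_le_pow_right (Nat.le_succ n))) (hy (n + 1))
      rw [map_mul, map_one, ← hr, Ideal.Quotient.factor_mk] at h
      have he : Ideal.Quotient.factor (Ideal.pow_le_pow_right (Nat.le_succ n))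
          (AdicCompletion.evalₐ I (n + 1) x) = AdicCompletion.evalₐ I n x := by
        obtain ⟨s, rfl⟩ := AdicCompletion.mk_surjective I R x
        rw [AdicCompletion.evalₐ_mk, AdicCompletion.evalₐ_mk, Ideal.Quotient.factor_mk, Ideal.Quotient.eq]
        have := SModEq.sub_mem.mp (s.2 (Nat.le_succ n)).symm
        simpa using this
      rw [he] at h
      exact left_inv_eq_right_inv ((mul_comm _ _).trans (hy n)) h
    refine IsUnit.of_mul_eq_one (AdicCompletion.mk I R (AdicCompletion.AdicCauchySequence.mk I R r hcomp)) ?_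
    refine AdicCompletion.ext_evalₐ fun n => ?_
    rw [map_mul, map_one, AdicCompletion.evalₐ_mk]
    change AdicCompletion.evalₐ I n x * Ideal.Quotient.mk _ (r n) = 1
    rw [hr, hy]
  have hker : RingHom.ker (AdicCompletion.evalOneₐ I).toRingHom ≤ (⊥ : Ideal (AdicCompletion I R)).jacobson :=
    fun x hx => Ideal.mem_jacobson_bot.mpr fun y => hunit _ (by
      have hx0 : AdicCompletion.evalOneₐ I x = 0 := hx
      simp [hx0])
  refine ⟨hunit, hker, le_trans (Ideal.map_le_iff_le_comap.mpr fun a ha => ?_) hker⟩
  change AdicCompletion.evalOneₐ I (algebraMap R _ a) = 0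
  rw [AlgHom.commutes]
  exact Ideal.Quotient.eq_zero_iff_mem.mpr ha

end Groth.Agent.S9602
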