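import Groth.Statements.S2334
import Groth.Agent.Lead.DVR.Criteria
-- import your own Groth.Agent.* helpers here

set_option autoImplicit false
universe u
open CategoryTheory CategoryTheory.Limits AlgebraicGeometry
open EGA2

namespace Groth.Agent.S2334

/-- Locally Noetherian case of the valuative criterion of separatedness: let Y be a locally Noetherian
scheme and f : X → Y locally of finite type. Then f is separated if and only if for every discrete
valuation ring A with fraction field K, any two morphisms Spec A → X with the same composite to Y
which agree on Spec K are equal. (In the general criterion the diagonal must be assumed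
quasi-compact; that is automatic here.) -/
theorem result {X Y : Scheme.{u}} [IsLocallyNoetherian Y] (f : X ⟶ Y) [LocallyOfFiniteType f] :
    IsSeparated f ↔ ∀ (A : Type u) [CommRing A] [IsDomain A] [IsDiscreteValuationRing A] (g₁ g₂ : (Spec (CommRingCat.of A)) ⟶ X),
      g₁ ≫ f = g₂ ≫ f → (Spec.map (CommRingCat.ofHom (algebraMap A (FractionRing A)))) ≫ g₁ = (Spec.map (CommRingCat.ofHom (algebraMap A (FractionRing A)))) ≫ g₂ → g₁ = g₂ := by
  open CategoryTheory.Limits in
  constructor
  · intro _ A _ _ _ g₁ g₂ h h'
    have w : (Spec.map (CommRingCat.ofHom (algebraMap A (FractionRing A))) ≫ g₁) ≫ f =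
        Spec.map (CommRingCat.ofHom (algebraMap A (FractionRing A))) ≫ g₁ ≫ f := Category.assoc _ _ _
    have hs := IsSeparated.valuativeCriterion f
      { R := A, K := FractionRing A, i₁ := Spec.map (CommRingCat.ofHom (algebraMap A (FractionRing A))) ≫ g₁,
        i₂ := g₁ ≫ f, commSq := ⟨w⟩ }
    exact congrArg CommSq.LiftStruct.l
      (hs.elim ⟨g₁, rfl, rfl⟩ ⟨g₂, h'.symm, h.symm⟩)
  · intro H
    haveI : IsLocallyNoetherian X := LocallyOfFiniteType.isLocallyNoetherian f
    haveI : IsLocallyNoetherian (pullback f f) := LocallyOfFiniteType.isLocallyNoetherian (pullback.fst f f ≫ f)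
    haveI : QuasiSeparated f := inferInstance
    have hd : Groth.Agent.Lead.DVR.DvrExist (pullback.diagonal f) := fun A _ _ _ x y w => by
      have h1 := congrArg (· ≫ pullback.fst f f) w
      have h2 := congrArg (· ≫ pullback.snd f f) w
      simp only [Category.assoc, pullback.diagonal_fst, pullback.diagonal_snd, Category.comp_id] at h1 h2
      have e := H A (y ≫ pullback.fst f f) (y ≫ pullback.snd f f) (by simp [pullback.condition]) (h1.symm.trans h2)
      refine ⟨y ≫ pullback.fst f f, pullback.hom_ext ?_ ?_, h1.symm⟩
      · simp
      · simpa using e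
    have := hd.universallyClosed
    exact ⟨.of_isPreimmersion _ (pullback.diagonal f).isClosedMap.isClosed_range⟩

end Groth.Agent.S2334
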