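import Groth.Statements.S2335
import Groth.Agent.Lead.DVR.Criteria
import Groth.Agent.S2334
-- import your own Groth.Agent.* helpers here

set_option autoImplicit false
universe u
open CategoryTheory CategoryTheory.Limits AlgebraicGeometry
open EGA2

namespace Groth.Agent.S2335

/-- Let Y be locally Noetherian and f : X → Y of finite type. Then f is proper if and only if for every
discrete valuation ring A with fraction field K and every commutative square Spec K → X, Spec A → Y,
there is exactly one morphism Spec A → X making both triangles commute. -/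
theorem result {X Y : Scheme.{u}} [IsLocallyNoetherian Y] (f : X ⟶ Y) [LocallyOfFiniteType f] [QuasiCompact f] :
    IsProper f ↔ ∀ (A : Type u) [CommRing A] [IsDomain A] [IsDiscreteValuationRing A] (x : (Spec (CommRingCat.of (FractionRing A))) ⟶ X) (y : (Spec (CommRingCat.of A)) ⟶ Y),
      x ≫ f = (Spec.map (CommRingCat.ofHom (algebraMap A (FractionRing A)))) ≫ y → ∃! l : (Spec (CommRingCat.of A)) ⟶ X, l ≫ f = y ∧ (Spec.map (CommRingCat.ofHom (algebraMap A (FractionRing A)))) ≫ l = x := by
  constructor
  · intro _ A _ _ _ x y w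
    obtain ⟨l, hl⟩ := Groth.Agent.Lead.DVR.dvrExist_of_universallyClosed f A x y w
    exact ⟨l, hl, fun l' hl' => (Groth.Agent.S2334.result f).mp inferInstance A l' l
      (hl'.1.trans hl.1.symm) (hl'.2.trans hl.2.symm)⟩
  · intro h
    haveI : IsSeparated f := (Groth.Agent.S2334.result f).mpr fun A _ _ _ g₁ g₂ e e' => by
      obtain ⟨l, -, hu⟩ := h A (Spec.map (CommRingCat.ofHom (algebraMap A (FractionRing A))) ≫ g₁) (g₁ ≫ f)
        (Category.assoc _ _ _)
      exact (hu g₁ ⟨rfl, rfl⟩).trans (hu g₂ ⟨e.symm, e'.symm⟩).symm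
    haveI : UniversallyClosed f := Groth.Agent.Lead.DVR.DvrExist.universallyClosed f fun A _ _ _ x y w =>
      (h A x y w).exists
    exact ⟨⟩

end Groth.Agent.S2335
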