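import Groth.Statements.S2344
import Groth.Agent.Misc9.ExtendAt
-- import your own Groth.Agent.* helpers here

set_option autoImplicit false
set_option backward.isDefEq.respectTransparency false
universe u
open CategoryTheory CategoryTheory.Limits AlgebraicGeometry
open EGA2

namespace Groth.Agent.S2344

/-- Let X be a normal algebraic curve over k (separated, of finite type, nonempty, local rings at closed
points of dimension one, all local rings integrally closed domains), Y proper over k, U a dense open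
of X and g : U → Y a k-morphism. Then g extends uniquely to a k-morphism X → Y. -/
theorem result (k : Type u) [Field k] (X Y : Scheme.{u}) [X.Over (Spec (CommRingCat.of k))] [Y.Over (Spec (CommRingCat.of k))]
    [LocallyOfFiniteType (X ↘ (Spec (CommRingCat.of k)))] [QuasiCompact (X ↘ (Spec (CommRingCat.of k)))] [IsSeparated (X ↘ (Spec (CommRingCat.of k)))] [Nonempty X] (hcurve : (∀ x : X, IsClosed ({x} : Set X) → ringKrullDim (X.presheaf.stalk x) = 1)) (hnorm : Pi1.IsNormalScheme X)
    [IsProper (Y ↘ (Spec (CommRingCat.of k)))] (U : X.Opens) (hU : Dense (U : Set X)) (g : (U : Scheme.{u}) ⟶ Y)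
    (hg : g ≫ (Y ↘ (Spec (CommRingCat.of k))) = U.ι ≫ (X ↘ (Spec (CommRingCat.of k)))) :
    ∃! g' : X ⟶ Y, U.ι ≫ g' = g ∧ g' ≫ (Y ↘ (Spec (CommRingCat.of k))) = X ↘ (Spec (CommRingCat.of k)) := by
  haveI : IsLocallyNoetherian X := LocallyOfFiniteType.isLocallyNoetherian (X ↘ Spec (CommRingCat.of k))
  haveI : CompactSpace X := QuasiCompact.compactSpace_of_compactSpace (X ↘ Spec (CommRingCat.of k))
  haveI : ∀ y : X, IsDomain (X.presheaf.stalk y) := fun y => (hnorm y).1
  haveI : IsReduced X := isReduced_of_isReduced_stalk X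
  have hdim : ∀ y : X, ringKrullDim (X.presheaf.stalk y) ≤ 1 := by
    intro y
    obtain ⟨c, hc1, hc2⟩ := IsClosed.exists_closed_singleton (isClosed_closure (s := {y})) ⟨y, subset_closure rfl⟩
    exact (Misc9.ExtendAt.ringKrullDim_stalk_le_of_specializes (specializes_iff_mem_closure.2 hc1)).trans (hcurve c hc2).le
  have hreg : ∀ y : X, ringKrullDim (X.presheaf.stalk y) ≤ 1 → IsRegularLocalRing (X.presheaf.stalk y) := by
    intro y hy
    haveI := (hnorm y).2
    haveI : Ring.KrullDimLE 1 (X.presheaf.stalk y) := Ring.krullDimLE_iff.2 hy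
    haveI : IsPrincipalIdealRing (X.presheaf.stalk y) := by
      refine ((tfae_of_isNoetherianRing_of_isLocalRing_of_isDomain (X.presheaf.stalk y)).out 3 0 :).mp ⟨inferInstance, fun P hP hP' => ?_⟩
      exact IsLocalRing.eq_maximalIdeal (hP'.isMaximal_of_ne_bot hP)
    infer_instance
  obtain ⟨V, hUV, g', h1, h2, h3⟩ := Misc9.ExtendAt.extend_all (X ↘ Spec (CommRingCat.of k)) (Y ↘ Spec (CommRingCat.of k)) hreg U hU g hg
    (fun x _ _ e he => Misc9.ExtendAt.exists_lift_proper x _ _ _ U g hg e he)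
  have hV : ∀ y : X, y ∈ V := fun y => h3 y (hdim y)
  haveI : IsIso V.ι := by
    haveI : Surjective V.ι := ⟨fun y => ⟨⟨y, hV y⟩, rfl⟩⟩
    exact (isIso_iff_isOpenImmersion_and_surjective V.ι).2 ⟨inferInstance, inferInstance⟩
  have hU' : U.ι ≫ inv V.ι = X.homOfLE hUV := by rw [IsIso.comp_inv_eq, Scheme.homOfLE_ι]
  haveI : IsDominant U.ι := ⟨by rw [DenseRange, Scheme.Opens.range_ι]; exact hU⟩
  refine ⟨inv V.ι ≫ g', ⟨by rw [reassoc_of% hU', h2], by rw [Category.assoc, h1, IsIso.inv_hom_id_assoc]⟩, fun t ⟨ht1, ht2⟩ => ?_⟩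
  refine ext_of_isDominant_of_isSeparated (Y ↘ Spec (CommRingCat.of k)) ?_ U.ι ?_
  · rw [ht2, Category.assoc, h1, IsIso.inv_hom_id_assoc]
  · rw [ht1, reassoc_of% hU', h2]

end Groth.Agent.S2344
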