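import Groth.Statements.S2348
import Groth.Agent.BlowUpEC.Basic
import Groth.Agent.S1682
import Groth.Agent.S8851
import Mathlib.AlgebraicGeometry.FunctionField

set_option autoImplicit false
universe u
open CategoryTheory CategoryTheory.Limits AlgebraicGeometry
open EGA2

namespace Groth.Agent.S2348

/-- For an ideal of O_Y: let Y be an integral scheme, I a nonzero quasi-coherent ideal sheaf and b : X →
Y a blowing up of Y in I (characterised by its universal property). Then X is integral, b sends the
generic point of X to that of Y and induces a bijection on their residue fields (b is birational).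
The printed statement also asserts that b is surjective; the proof does not show this and it fails
when I is not of finite type, so it is left out. -/
theorem result {X Y : Scheme.{u}} [IsIntegral Y] (I : Y.IdealSheafData) (hI : I ≠ ⊥)
    (b : X ⟶ Y) (hb : BlowUp.IsBlowUp b I) :
    ∃ (_ : IsIntegral X), ∃ hgen : b.base (genericPoint X) = genericPoint Y,
      Function.Bijective (b.residueFieldMap (genericPoint X)).hom := by
  have hiso := Groth.Agent.S1682.result I b hb
  let U : Y.Opens := I.support.compl
  have : IsReduced X := Groth.Agent.S8851.result I b hb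
  have hne : genericPoint Y ∈ U := by
    intro hg
    have htop : I.support = ⊤ := TopologicalSpace.Closeds.ext (Set.eq_univ_of_univ_subset (by
      rw [← (genericPoint_spec Y).def]
      exact closure_minimal (Set.singleton_subset_iff.mpr hg) I.support.isClosed))
    exact hI (Scheme.IdealSheafData.support_eq_top_iff.mp htop)
  have : Nonempty (U : Scheme.{u}) := ⟨⟨_, hne⟩⟩
  have : IsIntegral (U : Scheme.{u}) := isIntegral_of_isOpenImmersion U.ι
  let W : X.Opens := b ⁻¹ᵁ U
  have : Nonempty (W : Scheme.{u}) := ⟨(inv (b ∣_ U)) ⟨_, hne⟩⟩
  have : IsIntegral (W : Scheme.{u}) := isIntegral_of_isOpenImmersion (b ∣_ U)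
  have hW : W = (I.comap b).support.compl := by
    rw [Scheme.IdealSheafData.support_comap]; rfl
  have hdense : DenseRange W.ι := by
    have h1 := Groth.Agent.BlowUpEC.dominant_compl hb.1
    have h2 := Groth.Agent.BlowUpEC.isAffineHom_compl hb.1
    rw [← hW] at h1 h2
    have : IsDominant W.ι := inferInstance
    exact W.ι.denseRange
  have : IrreducibleSpace X := by
    have h := ((IrreducibleSpace.isIrreducible_univ (W : Scheme.{u})).image _
      W.ι.continuous.continuousOn).closure
    rw [Set.image_univ, hdense.closure_range] at h
    exact { toPreirreducibleSpace := ⟨h.isPreirreducible⟩, toNonempty := ⟨W.ι (Classical.arbitrary _)⟩ }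
  have hX : IsIntegral X := isIntegral_of_irreducibleSpace_of_isReduced X
  refine ⟨hX, ?_, ?_⟩
  · have := genericPoint_eq_of_isOpenImmersion ((b ∣_ U) ≫ U.ι)
    rw [morphismRestrict_ι, Scheme.Hom.comp_apply,
      genericPoint_eq_of_isOpenImmersion W.ι] at this
    exact this
  · rw [← ConcreteCategory.isIso_iff_bijective, ← genericPoint_eq_of_isOpenImmersion W.ι]
    have h1 : IsIso (((b ∣_ U) ≫ U.ι).residueFieldMap (genericPoint (W : Scheme.{u}))) := inferInstance
    have h2 : IsIso ((W.ι ≫ b).residueFieldMap (genericPoint (W : Scheme.{u}))) := by
      rw [Scheme.Hom.residueFieldMap_congr (morphismRestrict_ι b U).symm]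
      infer_instance
    rw [Scheme.residueFieldMap_comp] at h2
    haveI := h2
    exact @IsIso.of_isIso_comp_right _ _ _ _ _ (b.residueFieldMap _) (W.ι.residueFieldMap _) inferInstance h2

end Groth.Agent.S2348
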