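import Groth.Statements.S2350
import Groth.Agent.ModStalk.GenLocus
import Mathlib.AlgebraicGeometry.Morphisms.Affine

set_option autoImplicit false
universe u
open CategoryTheory CategoryTheory.Limits AlgebraicGeometry
open EGA2

namespace Groth.Agent.S2350

/-- Let X be a scheme, L an invertible O_X-module and s a global section of L. Then the inclusion of the
open X_s (where s generates L) into X is an affine morphism. -/
theorem result (X : Scheme.{u}) (L : X.Modules) (hL : PicF.IsInvertible L) (s : Coh.structureModule X ⟶ L) :
    IsAffineHom (CohB1.genLocus L s).ι := by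
  choose U hxU hU hUG using Groth.Agent.ModStalk.exists_affine_inter L hL s
  refine HasAffineProperty.of_iSup_eq_top (P := @IsAffineHom) (fun x : X => ⟨U x, hU x⟩)
    (top_le_iff.mp fun x _ => TopologicalSpace.Opens.mem_iSup.mpr ⟨x, hxU x⟩) fun x => ?_
  show IsAffine _
  have h : IsAffineOpen ((CohB1.genLocus L s).ι ⁻¹ᵁ U x) := by
    rw [← (CohB1.genLocus L s).ι.isAffineOpen_iff_of_isOpenImmersion, Scheme.Hom.image_preimage_eq_opensRange_inf,
      Scheme.Opens.opensRange_ι]
    exact hUG x
  exact h

end Groth.Agent.S2350
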