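import Groth.Statements.S2353
import Groth.Agent.Lead.DVR.Existence
import Groth.Agent.Lead.DVR.Variants
-- import your own Groth.Agent.* helpers here

set_option autoImplicit false
universe u
open CategoryTheory CategoryTheory.Limits AlgebraicGeometry
open EGA2

namespace Groth.Agent.S2353

/-- Let Y be an integral separated locally Noetherian scheme, X an integral separated scheme and f : X →
Y dominant and of finite type, with generic point ξ of X. Suppose that for every discrete valuation
subring R of the function field K(X) and every point y of Y such that R dominates the local ring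
O_{Y,y} (through O_{Y,y} → O_{Y,f(ξ)} → K(X): the image lies in R and the maximal ideal maps into
the maximal ideal of R), there is a point x of X whose local ring is dominated by R (through O_{X,x}
→ K(X)). Then f is proper. -/
theorem result {X Y : Scheme.{u}} [IsIntegral X] [IsIntegral Y] [X.IsSeparated] [Y.IsSeparated]
    [IsLocallyNoetherian Y] (f : X ⟶ Y) [IsDominant f] [LocallyOfFiniteType f] [QuasiCompact f]
    (h : ∀ (R : ValuationSubring X.functionField), IsDiscreteValuationRing R →
      ∀ (y : Y) (hy : f.base (genericPoint X) ⤳ y), ((∀ a : (Y.presheaf.stalk y), (Y.presheaf.stalkSpecializes hy ≫ f.stalkMap (genericPoint X)).hom a ∈ R) ∧ ∀ a ∈ IsLocalRing.maximalIdeal (Y.presheaf.stalk y), R.valuation ((Y.presheaf.stalkSpecializes hy ≫ f.stalkMap (genericPoint X)).hom a) < 1) →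
        ∃ x : X, ((∀ a : (X.presheaf.stalk x), algebraMap (X.presheaf.stalk x) X.functionField a ∈ R) ∧ ∀ a ∈ IsLocalRing.maximalIdeal (X.presheaf.stalk x), R.valuation (algebraMap (X.presheaf.stalk x) X.functionField a) < 1)) :
    IsProper f := by
  haveI : IsSeparated f := by
    haveI : IsSeparated (f ≫ CategoryTheory.Limits.terminal.from Y) :=
      (CategoryTheory.Limits.terminal.hom_ext (f ≫ CategoryTheory.Limits.terminal.from Y)
        (CategoryTheory.Limits.terminal.from X)) ▸ inferInstance
    exact IsSeparated.of_comp f (CategoryTheory.Limits.terminal.from Y)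
  haveI : UniversallyClosed f := Groth.Agent.Lead.DVR.universallyClosed_of_good f fun z => by
    refine ⟨genericPoint X, genericPoint_specializes z, fun A hA y hy => ?_⟩
    let r : X.functionField →+* X.residueField (genericPoint X) := (X.residue (genericPoint X)).hom
    have hr : Function.Bijective r := ⟨r.injective, X.residue_surjective _⟩
    let R : ValuationSubring X.functionField := A.comap r
    let toA : R →+* A := (r.comp R.subtype).codRestrict A.toSubring fun a => a.2
    have hbij : Function.Bijective toA := by
      refine ⟨fun a b e => Subtype.ext (hr.1 (congrArg Subtype.val e)), fun a => ?_⟩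
      obtain ⟨b, hb⟩ := hr.2 a
      exact ⟨⟨b, show r b ∈ A by rw [hb]; exact a.2⟩, Subtype.ext hb⟩
    haveI : IsDiscreteValuationRing R := by
      haveI := hA
      exact IsDiscreteValuationRing.RingEquivClass.isDiscreteValuationRing (RingEquiv.ofBijective toA hbij).symm
    let y0 := y (IsLocalRing.closedPoint A)
    let g := Scheme.stalkClosedPointTo y
    have hy0 : f.base (genericPoint X) ⤳ y0 := by
      have h1 : y (Spec.map (CommRingCat.ofHom A.subtype) (IsLocalRing.closedPoint (X.residueField (genericPoint X)))) =
          f (genericPoint X) := by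
        rw [← Scheme.Hom.comp_apply, hy, Scheme.Hom.comp_apply]
        exact congrArg f (Scheme.fromSpecResidueField_apply _ _)
      exact h1 ▸ (IsLocalRing.specializes_closedPoint _).map y.continuous
    have hg : g ≫ CommRingCat.ofHom A.subtype =
        Y.presheaf.stalkSpecializes hy0 ≫ f.stalkMap (genericPoint X) ≫ X.residue (genericPoint X) := by
      apply Spec.map_injective
      rw [← cancel_mono (Y.fromSpecStalk y0), Spec.map_comp, Category.assoc,
        Scheme.Spec_stalkClosedPointTo_fromSpecStalk, hy, Spec.map_comp, Spec.map_comp, Category.assoc, Category.assoc,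
        Scheme.SpecMap_stalkSpecializes_fromSpecStalk, Scheme.SpecMap_stalkMap_fromSpecStalk, Scheme.fromSpecResidueField,
        Category.assoc]
    obtain ⟨x, hx, -⟩ := h R inferInstance y0 hy0 ⟨fun a => by
        show r _ ∈ A
        rw [show r ((Y.presheaf.stalkSpecializes hy0 ≫ f.stalkMap (genericPoint X)).hom a) = (g a : X.residueField (genericPoint X))
          from (ConcreteCategory.congr_hom hg a).symm]
        exact (g a).2, fun a ha => by
        have e : r ((Y.presheaf.stalkSpecializes hy0 ≫ f.stalkMap (genericPoint X)).hom a) =
            (g a : X.residueField (genericPoint X)) := (ConcreteCategory.congr_hom hg a).symm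
        have hm : ¬ IsUnit (g a) := fun hu => (IsLocalRing.mem_maximalIdeal a).mp ha (IsUnit.of_map g.hom a hu)
        have hmem : (Y.presheaf.stalkSpecializes hy0 ≫ f.stalkMap (genericPoint X)).hom a ∈ R := by
          show r _ ∈ A
          rw [e]; exact (g a).2
        refine (R.valuation_lt_one_iff (⟨_, hmem⟩ : R)).mp ((IsLocalRing.mem_maximalIdeal _).mpr fun hu => hm ?_)
        rw [show g a = toA ⟨_, hmem⟩ from Subtype.ext e.symm]
        exact hu.map toA⟩
    let φ : X.presheaf.stalk x ⟶ CommRingCat.of A :=
      CommRingCat.ofHom ((r.comp (algebraMap (X.presheaf.stalk x) X.functionField)).codRestrict A.toSubring hx)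
    have hsub : Spec.map (CommRingCat.ofHom A.subtype) ≫ Spec.map φ ≫ X.fromSpecStalk x =
        X.fromSpecResidueField (genericPoint X) := by
      rw [← Spec.map_comp_assoc, show φ ≫ CommRingCat.ofHom A.subtype =
        X.presheaf.stalkSpecializes (genericPoint_specializes x) ≫ X.residue (genericPoint X) from rfl,
        Spec.map_comp, Category.assoc, Scheme.SpecMap_stalkSpecializes_fromSpecStalk, Scheme.fromSpecResidueField]
    refine ⟨Spec.map φ ≫ X.fromSpecStalk x, ?_, hsub⟩
    have hs := IsSeparated.valuativeCriterion (CategoryTheory.Limits.terminal.from Y)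
      { R := A, K := X.residueField (genericPoint X), i₁ := X.fromSpecResidueField (genericPoint X) ≫ f,
        i₂ := CategoryTheory.Limits.terminal.from _,
        commSq := ⟨CategoryTheory.Limits.terminal.hom_ext _ _⟩ }
    exact congrArg CommSq.LiftStruct.l (hs.elim
      ⟨(Spec.map φ ≫ X.fromSpecStalk x) ≫ f, by rw [← Category.assoc]; exact congrArg (· ≫ f) hsub,
        CategoryTheory.Limits.terminal.hom_ext _ _⟩
      ⟨y, hy, CategoryTheory.Limits.terminal.hom_ext _ _⟩)
  exact ⟨⟩

end Groth.Agent.S2353
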