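import Groth.Statements.S2356
import Groth.Agent.ModStalk.Semilocal

set_option autoImplicit false
universe u
open CategoryTheory CategoryTheory.Limits AlgebraicGeometry
open EGA2

namespace Groth.Agent.S2356

/-- Let Y be a scheme, E a locally free O_Y-module of rank r, and Z a finite set of points of Y
contained in an affine open V. Then there is an open neighbourhood U ⊆ V of Z on which E is free of
rank r. -/
theorem result (Y : Scheme.{u}) (r : ℕ) (E : Y.Modules) (hE : FlatMod.IsFinLocFreeOfRank r E)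
    (Z : Set Y) (hZ : Z.Finite) (V : Y.Opens) (hV : IsAffineOpen V) (hZV : Z ⊆ V) :
    ∃ U : Y.Opens, Z ⊆ U ∧ U ≤ V ∧ Nonempty (E.restrict U.ι ≅ FlatMod.freeMod (U : Scheme.{u}) r) := by
  have hE' : FlatMod.IsFinLocFree E := fun x => by
    obtain ⟨U, hxU, he⟩ := hE x
    exact ⟨U, r, hxU, he⟩
  have := Groth.Agent.ModStalk.isFinitePresentation_of_isFinLocFree E hE'
  have := Groth.Agent.ModStalk.isFiniteType_of_isFinLocFree E hE'
  obtain ⟨hfree, -⟩ := Groth.Agent.ModStalk.free_stalk_of_isFinLocFree E hE'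
  have hrank : ∀ y : Y, Module.finrank (Y.presheaf.stalk y) (E.presheaf.stalk y) = r := fun y => by
    obtain ⟨U, hyU, ⟨e⟩⟩ := hE y
    exact (Groth.Agent.ModStalk.free_stalk_of_pullback U.ι E
      (((AlgebraicGeometry.Scheme.Modules.restrictFunctorIsoPullback U.ι).app _).symm ≪≫ e) ⟨y, hyU⟩).2
  obtain ⟨U, hUV, s, hZU, hU⟩ := Groth.Agent.ModStalk.exists_sections_span_finite E hV Z hZ hZV r
    (fun z _ => hfree z) (fun z _ => hrank z)
  refine ⟨U, hZU, hUV, Groth.Agent.ModStalk.nonempty_iso_of_span E (fun i => E.presheaf.map (homOfLE hUV).op (s i))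
    (fun y _ => hfree y) (fun y _ => hrank y) fun y hy => ?_⟩
  simp only [TopCat.Presheaf.germ_res_apply]
  exact hU y hy

end Groth.Agent.S2356
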