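import Groth.Statements.S6304
import Mathlib.RingTheory.Flat.Basic
import Mathlib.RingTheory.Flat.Equalizer
import Mathlib.LinearAlgebra.TensorProduct.RightExactness

set_option autoImplicit false
universe u
open CAlg

namespace Groth.Agent.S6304

/-- In a short exact sequence 0 → M' → M → M'' → 0 of R-modules whose right-hand term M'' is flat, the
middle term M is flat when M' is, and M' is flat when M is. -/
theorem result {R : Type u} [CommRing R] {M' M M'' : Type u} [AddCommGroup M'] [Module R M'] [AddCommGroup M] [Module R M] [AddCommGroup M''] [Module R M''] (f : M' →ₗ[R] M) (g : M →ₗ[R] M'') (hf : Function.Injective f) (hexact : Function.Exact f g) (hg : Function.Surjective g) [Module.Flat R M''] : (Module.Flat R M' → Module.Flat R M) ∧ (Module.Flat R M → Module.Flat R M') := by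
  have key : ∀ (A : Type u) [AddCommGroup A] [Module R A], Function.Injective (f.lTensor A) :=
    fun A _ _ => LinearMap.lTensor_injective_of_exact_of_flat g hg f hf hexact A
  constructor <;> intro hflat <;> rw [Module.Flat.iff_rTensor_preserves_injective_linearMap] <;>
    intro N N' _ _ _ _ L hL
  · rw [← LinearMap.ker_eq_bot, eq_bot_iff]
    intro z hz
    have hzg : g.lTensor N z = 0 := by
      apply Module.Flat.rTensor_preserves_injective_linearMap (M := M'') L hL
      rw [map_zero, ← LinearMap.comp_apply, LinearMap.rTensor_comp_lTensor,
        ← LinearMap.lTensor_comp_rTensor, LinearMap.comp_apply, LinearMap.mem_ker.1 hz, map_zero]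
    obtain ⟨w, rfl⟩ := (lTensor_exact N hexact hg z).1 hzg
    have : w = 0 := by
      apply Module.Flat.rTensor_preserves_injective_linearMap (M := M') L hL
      rw [map_zero]
      apply key N'
      rw [map_zero, ← LinearMap.comp_apply, LinearMap.lTensor_comp_rTensor,
        ← LinearMap.rTensor_comp_lTensor, LinearMap.comp_apply, LinearMap.mem_ker.1 hz]
    rw [this, map_zero]; rfl
  · intro a b hab
    apply key N
    apply Module.Flat.rTensor_preserves_injective_linearMap (M := M) L hL
    rw [← LinearMap.comp_apply, ← LinearMap.comp_apply (L.rTensor M), LinearMap.rTensor_comp_lTensor,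
      ← LinearMap.lTensor_comp_rTensor, LinearMap.comp_apply, LinearMap.comp_apply, hab]

end Groth.Agent.S6304
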