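import Groth.Statements.S2464
import Groth.Agent.Alg.PBasis.Basic
import Mathlib.FieldTheory.Perfect
import Mathlib.RingTheory.Smooth.Basic

set_option autoImplicit false
universe u
open EGA41

namespace Groth.Agent.S2464
open Groth.Agent.Alg.PBasis

/-- Let p be a prime, B a ring of characteristic p and A → B an injective ring map whose image contains
every p-th power, and (x_α) a p-basis of B over A. Let E be an A-algebra and q : E → B a surjective
A-algebra homomorphism whose kernel K has K^p = 0. (i) q admits an A-algebra right inverse if and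
only if, for all z ∈ E and a ∈ A with a ↦ q(z)^p in B, the image of a in E is z^p. (ii) When this
holds, for every family (z_α) in E with q(z_α) = x_α there is a unique A-algebra homomorphism v : B
→ E with v(x_α) = z_α for all α, and q ∘ v is the identity. -/
theorem result (p : ℕ) [Fact p.Prime] {A B : Type u} [CommRing A] [CommRing B] [Algebra A B] [CharP B p]
    (hinj : Function.Injective (algebraMap A B)) (hpow : ∀ b : B, b ^ p ∈ Set.range (algebraMap A B))
    {ι : Type u} (x : ι → B) (hx : EGA41.IsPBasis p A x)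
    {E : Type u} [CommRing E] [Algebra A E] (q : E →ₐ[A] B) (hq : Function.Surjective q) (hK : RingHom.ker q.toRingHom ^ p = ⊥) :
    ((∃ v : B →ₐ[A] E, q.comp v = AlgHom.id A B) ↔ ∀ (z : E) (a : A), algebraMap A B a = q z ^ p → algebraMap A E a = z ^ p) ∧
    ((∀ (z : E) (a : A), algebraMap A B a = q z ^ p → algebraMap A E a = z ^ p) →
      ∀ z : ι → E, (∀ i, q (z i) = x i) →
        (∃! v : B →ₐ[A] E, ∀ i, v (x i) = z i) ∧ ∀ v : B →ₐ[A] E, (∀ i, v (x i) = z i) → q.comp v = AlgHom.id A B) := by
  let e : A →+* EGA41.pPowerSubalgebra p A B := algebraMap A _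
  have he : Function.Bijective e := ⟨fun a b h => hinj (congrArg Subtype.val h), fun a =>
    (exists_of_mem p hpow a).imp fun c hc => Subtype.ext hc⟩
  let E' := RingEquiv.ofBijective e he
  have hE : ∀ a, algebraMap A B (E'.symm a) = a := fun a => congrArg Subtype.val (E'.apply_symm_apply a)
  have hpA : (p : A) = 0 := hinj (by rw [map_natCast, CharP.cast_eq_zero, map_zero])
  have hpE : (p : E) = 0 := by rw [← map_natCast (algebraMap A E), hpA, map_zero]
  have hext : ∀ v w : B →ₐ[A] E, (∀ i, v (x i) = w (x i)) → v = w := fun v w h =>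
    AlgHom.coe_ringHom_injective (ringHom_ext_of_generating p hx.2 _ _ (fun a ha => by
      obtain ⟨c, hc⟩ := exists_of_mem p hpow ⟨a, ha⟩
      dsimp at hc
      rw [← hc]
      exact (v.commutes c).trans (w.commutes c).symm) h)
  have main : (∀ (z : E) (a : A), algebraMap A B a = q z ^ p → algebraMap A E a = z ^ p) → ∀ z : ι → E, (∀ i, q (z i) = x i) → (∃! v : B →ₐ[A] E, ∀ i, v (x i) = z i) ∧ ∀ v : B →ₐ[A] E, (∀ i, v (x i) = z i) → q.comp v = AlgHom.id A B := by
    intro hc z hz
    obtain ⟨Φ, h1, h2⟩ := exists_ringHom p hx ((algebraMap A E).comp E'.symm.toRingHom) z fun i =>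
      (hc (z i) _ (by rw [hz i]; exact hE _)).symm
    let v : B →ₐ[A] E := { Φ with
      commutes' := fun a => by
        have := h1 (E' a)
        change Φ (algebraMap A B a) = algebraMap A E (E'.symm (E' a)) at this
        rwa [E'.symm_apply_apply] at this }
    refine ⟨⟨v, h2, fun w hw => hext w v fun i => (hw i).trans (h2 i).symm⟩, fun w hw => ?_⟩
    refine AlgHom.coe_ringHom_injective (ringHom_ext_of_generating p hx.2 _ _ (fun a ha => ?_) fun i => ?_)
    · obtain ⟨c, hc⟩ := exists_of_mem p hpow ⟨a, ha⟩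
      dsimp at hc
      simp [← hc]
    · simp [hw, hz]
  refine ⟨⟨fun ⟨v, hv⟩ z a hza => ?_, fun hc => ?_⟩, main⟩
  · have hqv : ∀ b, q (v b) = b := fun b => DFunLike.congr_fun hv b
    have hk : z - v (q z) ∈ RingHom.ker q.toRingHom := by
      change q (z - v (q z)) = 0
      rw [map_sub, hqv, sub_self]
    have hk0 : (z - v (q z)) ^ p = 0 := by
      have := Ideal.pow_mem_pow hk p
      rwa [hK, Ideal.mem_bot] at this
    obtain ⟨r, hr⟩ := exists_add_pow_prime_eq (Fact.out : p.Prime) (v (q z)) (z - v (q z))
    rw [add_sub_cancel, hk0, add_zero, hpE, zero_mul, zero_mul, zero_mul, add_zero] at hr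
    rw [← v.commutes, hza, map_pow, hr]
  · choose z hz using fun i => hq (x i)
    obtain ⟨⟨v, hv, -⟩, hsec⟩ := main hc z hz
    exact ⟨v, hsec v hv⟩

end Groth.Agent.S2464
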