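import Groth.Statements.S2465
import Groth.Agent.Alg.PBasis.Basic
import Mathlib.RingTheory.Kaehler.Basic
import Mathlib.LinearAlgebra.Basis.Defs

set_option autoImplicit false
universe u
open EGA41

namespace Groth.Agent.S2465
open Groth.Agent.Alg Groth.Agent.Alg.PBasis

/-- Let p be a prime, B a ring of characteristic p, A → B injective with image containing all p-th
powers, (x_α) a p-basis of B over A, and L a B-module. (i) An additive derivation D : A → L extends
to a derivation of B if and only if D vanishes on the elements of A mapping to p-th powers. (ii) In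
that case, for every family (y_α) in L there is a unique derivation D' of B into L extending D with
D'(x_α) = y_α for all α. -/
theorem result (p : ℕ) [Fact p.Prime] {A B : Type u} [CommRing A] [CommRing B] [Algebra A B] [CharP B p]
    (hinj : Function.Injective (algebraMap A B)) (hpow : ∀ b : B, b ^ p ∈ Set.range (algebraMap A B))
    {ι : Type u} (x : ι → B) (hx : EGA41.IsPBasis p A x)
    (L : Type u) [AddCommGroup L] [Module B L] [Module A L] [IsScalarTower A B L] (D : Derivation ℤ A L) :
    ((∃ D' : Derivation ℤ B L, ∀ a : A, D' (algebraMap A B a) = D a) ↔ ∀ (a : A) (b : B), algebraMap A B a = b ^ p → D a = 0) ∧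
    ((∀ (a : A) (b : B), algebraMap A B a = b ^ p → D a = 0) →
      ∀ y : ι → L, ∃! D' : Derivation ℤ B L, (∀ a : A, D' (algebraMap A B a) = D a) ∧ ∀ i, D' (x i) = y i) := by
  let e : A →+* EGA41.pPowerSubalgebra p A B := algebraMap A _
  have he : Function.Bijective e := ⟨fun a b h => hinj (congrArg Subtype.val h), fun a =>
    (exists_of_mem p hpow a).imp fun c hc => Subtype.ext hc⟩
  let E := RingEquiv.ofBijective e he
  have hE : ∀ a, algebraMap A B (E.symm a) = a := fun a => congrArg Subtype.val (E.apply_symm_apply a)
  have main : (∀ (a : A) (b : B), algebraMap A B a = b ^ p → D a = 0) → ∀ y : ι → L,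
      ∃! D' : Derivation ℤ B L, (∀ a : A, D' (algebraMap A B a) = D a) ∧ ∀ i, D' (x i) = y i := by
    intro hc y
    obtain ⟨D', h1, h2⟩ := exists_derivation p hx (D.toLinearMap.toAddMonoidHom.comp E.symm.toAddMonoidHom)
      (fun a b => by
        simp only [AddMonoidHom.coe_comp, Function.comp_apply]
        change D (E.symm (a * b)) = (a : B) • D (E.symm b) + (b : B) • D (E.symm a)
        rw [map_mul, D.leibniz, ← hE a, ← hE b, algebraMap_smul, algebraMap_smul])
      (fun i => hc _ (x i) (hE _)) y
    have h1' : ∀ a : A, D' (algebraMap A B a) = D a := fun a => by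
      have := h1 (E a)
      change D' (algebraMap A B a) = D (E.symm (E a)) at this
      rwa [E.symm_apply_apply] at this
    refine ⟨D', ⟨h1', h2⟩, fun D'' h => derivation_ext_of_generating p hx.2 _ _ (fun a ha => ?_)
      (fun i => by rw [h.2 i, h2 i])⟩
    obtain ⟨c, hc'⟩ := exists_of_mem p hpow ⟨a, ha⟩
    dsimp at hc'
    rw [← hc', h.1 c, h1']
  refine ⟨⟨fun ⟨D', hD'⟩ a b hab => ?_, fun hc => ?_⟩, main⟩
  · rw [← hD', hab, derivation_pow_eq_zero p D' b]
  · obtain ⟨D', hD', -⟩ := main hc 0
    exact ⟨D', hD'.1⟩

end Groth.Agent.S2465
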