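import Groth.Statements.S2466
import Groth.Agent.Alg.PBasis.Basic
import Mathlib.RingTheory.Kaehler.Basic
import Mathlib.LinearAlgebra.Basis.Defs

set_option autoImplicit false
universe u
open EGA41

namespace Groth.Agent.S2466
open Groth.Agent.Alg Groth.Agent.Alg.PBasis

/-- Let p be a prime, B an A-algebra of characteristic p and (x_α) a p-basis of B over A. Then the
family of differentials (d_{B/A} x_α) is a basis of the B-module Ω_{B/A}. -/
theorem result (p : ℕ) [Fact p.Prime] {A B : Type u} [CommRing A] [CommRing B] [Algebra A B] [CharP B p]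
    {ι : Type u} (x : ι → B) (hx : EGA41.IsPBasis p A x) :
    ∃ b : Module.Basis ι B (Ω[B⁄A]), ∀ i, b i = KaehlerDifferential.D A B (x i) := by
  classical
  let F : (ι →₀ B) →ₗ[B] Ω[B⁄A] := Finsupp.linearCombination B fun i => KaehlerDifferential.D A B (x i)
  obtain ⟨D₀, hD₀⟩ := exists_derivationOver p hx (L := ι →₀ B) (fun i => Finsupp.single i 1)
  let G := D₀.liftKaehlerDifferential
  have hFG : F.comp G = LinearMap.id := by
    refine Derivation.liftKaehlerDifferential_unique _ _ (derivationOver_ext p hx.2 _ _ fun i => ?_)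
    simp [F, G, hD₀]
  have hGF : G.comp F = LinearMap.id := Finsupp.lhom_ext fun i b => by
    simp [F, G, hD₀]
  refine ⟨Module.Basis.ofRepr (LinearEquiv.ofLinear G F hGF hFG), fun i => ?_⟩
  simp [F]

end Groth.Agent.S2466
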