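import Groth.Statements.S2467
import Groth.Agent.Alg.PBasis.Field
import Mathlib.LinearAlgebra.Basis.VectorSpace

set_option autoImplicit false
universe u
open EGA41

namespace Groth.Agent.S2467
open Groth.Agent.Alg Groth.Agent.Alg.PBasis

/-- Let k ⊆ K be fields of characteristic p > 0, S ⊆ K a system of p-generators of K over k and L ⊆ S a
subset which is p-free over k. Then there is a p-basis B of K over k with L ⊆ B ⊆ S. In particular
every extension of k has a p-basis over k. -/
theorem result (p : ℕ) [Fact p.Prime] {k K : Type u} [Field k] [Field K] [Algebra k K] [CharP K p]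
    (S L : Set K) (hLS : L ⊆ S) (hS : EGA41.IsPGenerating p k (Subtype.val : S → K)) (hL : EGA41.IsPIndependent p k (Subtype.val : L → K)) :
    ∃ B : Set K, L ⊆ B ∧ B ⊆ S ∧ EGA41.IsPBasis p k (Subtype.val : B → K) := by
  rw [PBasis.generating_iff] at hS
  rw [PBasis.independent_iff] at hL
  have hL' : LinearIndepOn K (fun a => KaehlerDifferential.D k K a) L := hL
  refine ⟨hL'.extend hLS, hL'.subset_extend hLS, hL'.extend_subset hLS, (PBasis.independent_iff p _).mpr ?_, ?_⟩
  · exact hL'.linearIndepOn_extend hLS
  · rw [PBasis.generating_iff, eq_top_iff, ← hS, Submodule.span_le]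
    rintro _ ⟨⟨a, ha⟩, rfl⟩
    have := hL'.image_subset_span_image_extend hLS ⟨a, ha, rfl⟩
    rwa [Set.image_eq_range] at this

end Groth.Agent.S2467
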