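import Groth.Statements.S2468
import Groth.Agent.Alg.PBasis.Field
import Mathlib.LinearAlgebra.Basis.VectorSpace

set_option autoImplicit false
universe u
open EGA41

namespace Groth.Agent.S2468
open Groth.Agent.Alg Groth.Agent.Alg.PBasis

/-- Let k ⊆ K be fields of characteristic p > 0 and (x_α) a family of elements of K. Then (x_α) is
p-free over k if and only if the d_{K/k} x_α are linearly independent over K; it is a system of
p-generators of K over k if and only if the d x_α span Ω_{K/k}; and it is a p-basis if and only if
the d x_α form a basis of Ω_{K/k} (stated as the existence of a K-basis of Ω_{K/k} indexed by the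
same index set whose members are the d x_α). (With the empty family the second equivalence
specializes to: Ω_{K/k} = 0 iff K = k(K^p).) -/
theorem result (p : ℕ) [Fact p.Prime] {k K : Type u} [Field k] [Field K] [Algebra k K] [CharP K p]
    {ι : Type u} (x : ι → K) :
    (EGA41.IsPIndependent p k x ↔ LinearIndependent K (fun i => KaehlerDifferential.D k K (x i))) ∧
    (EGA41.IsPGenerating p k x ↔ Submodule.span K (Set.range fun i => KaehlerDifferential.D k K (x i)) = ⊤) ∧
    (EGA41.IsPBasis p k x ↔ ∃ b : Module.Basis ι K (Ω[K⁄k]), ∀ i, b i = KaehlerDifferential.D k K (x i)) := by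
  refine ⟨PBasis.independent_iff p x, PBasis.generating_iff p x, ?_⟩
  rw [EGA41.IsPBasis, PBasis.independent_iff p x, PBasis.generating_iff p x]
  exact ⟨fun ⟨h1, h2⟩ => ⟨Module.Basis.mk h1 h2.ge, fun i => by simp⟩, fun ⟨b, hb⟩ => by
    rw [show (fun i => KaehlerDifferential.D k K (x i)) = b from funext fun i => (hb i).symm]
    exact ⟨b.linearIndependent, b.span_eq⟩⟩

end Groth.Agent.S2468
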