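import Groth.Statements.S2478
import Groth.Agent.Cons.Basic
import Mathlib.AlgebraicGeometry.Morphisms.FinitePresentation
import Mathlib.AlgebraicGeometry.Morphisms.Flat
import Mathlib.AlgebraicGeometry.Morphisms.UniversallyOpen
import Mathlib.AlgebraicGeometry.Noetherian
import Mathlib.RingTheory.Spectrum.Prime.Chevalley
import Mathlib.Topology.Maps.Proper.CompactlyGenerated
import Mathlib.Topology.Compactness.LocallyCompact
import Mathlib.Topology.Connected.TotallyDisconnected

set_option autoImplicit false
universe u
open EGA41

namespace Groth.Agent.S2478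
open CategoryTheory CategoryTheory.Limits AlgebraicGeometry TopologicalSpace Topology Groth.Agent.Cons.Basic

open Topology in
/-- Equivalence of (a'') and (b) for X = Spec A affine: a subset E of Spec A is the image of the map
Spec B → Spec A induced by some ring homomorphism A → B if and only if E is an intersection of a
family of constructible subsets of Spec A. -/
theorem result {A : Type u} [CommRing A] (E : Set (PrimeSpectrum A)) :
    (∃ (B : Type u) (_ : CommRing B) (f : A →+* B), Set.range (PrimeSpectrum.comap f) = E) ↔
      ∃ S : Set (Set (PrimeSpectrum A)), (∀ s ∈ S, IsConstructible s) ∧ E = ⋂₀ S := by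
  constructor
  · rintro ⟨B, _, φ, rfl⟩
    have hp : ProCons.IsProConstructible (Set.range (Spec.map (CommRingCat.ofHom φ))) := isProConstructible_range _
    have hcl := isProConstructible_iff_isClosed.mp hp
    refine ⟨{s | IsConstructible s ∧ Set.range (PrimeSpectrum.comap φ) ⊆ s}, fun s hs => hs.1, subset_antisymm (Set.subset_sInter fun s hs => hs.2) fun p hp' => by_contra fun hn => ?_⟩
    obtain ⟨C, hC, hpC, hCE⟩ := exists_isConstructible_subset (@IsClosed.isOpen_compl _ (constructibleTopology _) _ hcl) p hn
    exact Set.mem_sInter.mp hp' Cᶜ ⟨hC.compl, Set.subset_compl_comm.mp hCE⟩ hpC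
  · rintro ⟨S, hS, rfl⟩
    exact exists_range_comap_eq (@isClosed_sInter _ (constructibleTopology _) _ fun s hs =>
      @IsClosed.mk _ (constructibleTopology _) _ (isClopen_of_isConstructible (hS s hs)).2)

end Groth.Agent.S2478
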