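import Groth.Statements.S2479
import Groth.Agent.Cons.Basic
import Mathlib.AlgebraicGeometry.Morphisms.FinitePresentation
import Mathlib.AlgebraicGeometry.Morphisms.Flat
import Mathlib.AlgebraicGeometry.Morphisms.UniversallyOpen
import Mathlib.AlgebraicGeometry.Noetherian
import Mathlib.RingTheory.Spectrum.Prime.Chevalley
import Mathlib.Topology.Maps.Proper.CompactlyGenerated
import Mathlib.Topology.Compactness.LocallyCompact
import Mathlib.Topology.Connected.TotallyDisconnected

set_option autoImplicit false
universe u
open EGA41

namespace Groth.Agent.S2479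
open CategoryTheory CategoryTheory.Limits AlgebraicGeometry TopologicalSpace Topology Groth.Agent.Cons.Basic

open AlgebraicGeometry CategoryTheory Topology in
/-- Let X be a quasi-compact and quasi-separated scheme and E ⊆ X. Then E = f(X') for some quasi-compact
morphism f : X' → X if and only if E is an intersection of a family of constructible subsets of X. -/
theorem result {X : Scheme.{u}} [CompactSpace X] [QuasiSeparatedSpace X] (E : Set X) :
    (∃ (X' : Scheme.{u}) (f : X' ⟶ X), QuasiCompact f ∧ Set.range f.base = E) ↔
      ∃ S : Set (Set X), (∀ s ∈ S, IsConstructible s) ∧ E = ⋂₀ S := by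
  constructor
  · rintro ⟨X', f, hf, rfl⟩
    have hcl := isProConstructible_iff_isClosed.mp (isProConstructible_range f)
    refine ⟨{s | IsConstructible s ∧ Set.range f ⊆ s}, fun s hs => hs.1, subset_antisymm (Set.subset_sInter fun s hs => hs.2) fun p hp' => by_contra fun hn => ?_⟩
    obtain ⟨C, hC, hpC, hCE⟩ := exists_isConstructible_subset (@IsClosed.isOpen_compl _ (constructibleTopology _) _ hcl) p hn
    exact Set.mem_sInter.mp hp' Cᶜ ⟨hC.compl, Set.subset_compl_comm.mp hCE⟩ hpC
  · rintro ⟨S, hS, rfl⟩
    obtain ⟨X', f, hX', hf⟩ := exists_range_eq (isProConstructible_iff_isClosed.mpr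
      (@isClosed_sInter _ (constructibleTopology _) _ fun s hs => @IsClosed.mk _ (constructibleTopology _) _ (isClopen_of_isConstructible (hS s hs)).2))
    exact ⟨X', f, inferInstance, hf⟩

end Groth.Agent.S2479
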