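import Groth.Statements.S2483
import Groth.Agent.Alg.PBasis.SmoothIff
import Mathlib.RingTheory.AdicCompletion.RingHom
import Mathlib.RingTheory.Ideal.Cotangent
import Mathlib.Algebra.CharP.Algebra
import Mathlib.Algebra.Field.ZMod
import Mathlib.Algebra.Algebra.Rat
import Mathlib.Algebra.Field.ULift
import Mathlib.LinearAlgebra.Dual.Lemmas

set_option autoImplicit false
universe u
open IsLocalRing

namespace Groth.Agent.S2483

theorem exists_lift {k A C : Type u} [CommRing k] [CommRing A] [CommRing C] [Algebra k A] [Algebra k C]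
    [Algebra.FormallySmooth k A] (I : Ideal C) [IsAdicComplete I C] (f : A →ₐ[k] C ⧸ I ^ 2) :
    ∃ F : A →ₐ[k] C, ∀ x, Ideal.Quotient.mk (I ^ 2) (F x) = f x := by
  have step : ∀ (n : ℕ) (g : A →ₐ[k] C ⧸ I ^ (n + 2)), ∃ g' : A →ₐ[k] C ⧸ I ^ (n + 1 + 2),
      (Ideal.Quotient.factorₐ k (Ideal.pow_le_pow_right (I := I) (show n + 2 ≤ n + 1 + 2 by omega))).comp g' = g := by
    intro n g
    have hle : I ^ (n + 1 + 2) ≤ I ^ (n + 2) := Ideal.pow_le_pow_right (by omega)
    let q := Ideal.Quotient.factorₐ k hle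
    have hq : Function.Surjective q := Ideal.Quotient.factor_surjective hle
    have hk : IsNilpotent (RingHom.ker (q : C ⧸ I ^ (n + 1 + 2) →+* C ⧸ I ^ (n + 2))) := by
      refine ⟨2, le_bot_iff.mp ?_⟩
      rw [show RingHom.ker (q : C ⧸ I ^ (n + 1 + 2) →+* C ⧸ I ^ (n + 2)) = RingHom.ker (Ideal.Quotient.factor hle) from rfl,
        Ideal.Quotient.factor_ker]
      rw [← Ideal.map_pow, Ideal.map_le_iff_le_comap, ← pow_mul]
      exact le_of_le_of_eq (Ideal.pow_le_pow_right (show n + 1 + 2 ≤ (n + 2) * 2 by omega)) Ideal.mk_ker.symm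
    exact ⟨Algebra.FormallySmooth.liftOfSurjective g q hq hk, Algebra.FormallySmooth.comp_liftOfSurjective g q hq hk⟩
  choose next hnext using step
  let F : ∀ n, A →ₐ[k] C ⧸ I ^ (n + 2) := fun n => Nat.rec f next n
  have ha : StrictMono (fun n => n + 2) := fun a b h => Nat.add_lt_add_right h 2
  let G : ∀ n, A →+* C ⧸ I ^ (n + 2) := fun n => (F n).toRingHom
  have hG : ∀ {m}, (Ideal.Quotient.factorPow I (ha.monotone m.le_succ)).comp (G (m + 1)) = G m := fun {m} => by
    ext x; exact congr($(hnext m (F m)) x)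
  let L := IsAdicComplete.StrictMono.liftRingHom I ha G hG
  refine ⟨{ L with commutes' := fun r => ?_ }, fun x => IsAdicComplete.StrictMono.mk_liftRingHom I ha G hG (n := 0) x⟩
  refine IsHausdorff.eq_iff_smodEq (I := I).mpr fun n => ?_
  rw [smul_eq_mul, Ideal.mul_top, SModEq.sub_mem]
  refine Ideal.pow_le_pow_right (show n ≤ n + 2 by omega) ?_
  rw [← Ideal.Quotient.eq]
  exact (IsAdicComplete.StrictMono.mk_liftRingHom I ha G hG (n := n) _).trans ((F n).commutes r)

theorem exists_second_lift {C : Type u} [CommRing C] [IsLocalRing C] [IsNoetherianRing C]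
    [IsAdicComplete (maximalIdeal C) C] (hm : maximalIdeal C ≠ ⊥) (u : ResidueField C →+* C)
    (hu : ∀ x, residue C (u x) = x) (k : Type u) [Field k] [PerfectField k]
    [Algebra k (ResidueField C)] (hk : ∀ a b : k →+* C ⧸ maximalIdeal C ^ 2, a = b)
    (hΩ : ¬ Subsingleton (Ω[ResidueField C⁄ℤ])) :
    ∃ v : ResidueField C →+* C, (∀ x, residue C (v x) = x) ∧ v ≠ u := by
  classical
  let K := ResidueField C
  letI : Algebra k C := (u.comp (algebraMap k K)).toAlgebra
  haveI : Algebra.FormallySmooth k K := (Groth.Agent.Alg.PBasis.formallySmooth_iff_geometricallyReduced k K).mpr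
    (Groth.Agent.Alg.PBasis.geometricallyReduced_of_perfectField k K)
  let ι := (maximalIdeal C).cotangentToQuotientSquare
  have hι : Function.Injective ι := fun a b h => by
    obtain ⟨a, rfl⟩ := (maximalIdeal C).toCotangent_surjective a
    obtain ⟨b, rfl⟩ := (maximalIdeal C).toCotangent_surjective b
    exact (maximalIdeal C).toCotangent_eq.mpr (Ideal.Quotient.eq.mp h)
  have hι0 : ∀ a b, ι a * ι b = 0 := fun a b => by
    obtain ⟨a, rfl⟩ := (maximalIdeal C).toCotangent_surjective a
    obtain ⟨b, rfl⟩ := (maximalIdeal C).toCotangent_surjective b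
    change Ideal.Quotient.mk _ (a : C) * Ideal.Quotient.mk _ (b : C) = 0
    rw [← map_mul, Ideal.Quotient.eq_zero_iff_mem, pow_two]
    exact Ideal.mul_mem_mul a.2 b.2
  have hιs : ∀ (x : K) (a : CotangentSpace C), ι (x • a) = Ideal.Quotient.mk _ (u x) * ι a := fun x a => by
    rw [show x • a = (u x) • a by
      rw [← IsScalarTower.algebraMap_smul K (u x) a]; exact congrArg (· • a) (hu x).symm, map_smul]
    rfl
  have : Nontrivial (CotangentSpace C) := by
    by_contra h
    rw [not_nontrivial_iff_subsingleton, Ideal.cotangent_subsingleton_iff] at h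
    exact hm (Submodule.eq_bot_of_le_smul_of_le_jacobson_bot (maximalIdeal C) (maximalIdeal C)
      (IsNoetherian.noetherian _) (by rw [smul_eq_mul]; exact h.symm.le) (maximalIdeal_le_jacobson ⊥))
  obtain ⟨a, ha⟩ := exists_ne (0 : CotangentSpace C)
  obtain ⟨ω, hω⟩ : ∃ ω : Ω[K⁄ℤ], ω ≠ 0 := by
    by_contra h
    push Not at h
    exact hΩ ⟨fun p q => (h p).trans (h q).symm⟩
  obtain ⟨φ, hφ⟩ := Module.Projective.exists_dual_ne_zero K hω
  let D : Derivation ℤ K (CotangentSpace C) :=
    Derivation.mk' ((AddMonoidHom.mk' (fun x => φ (KaehlerDifferential.D ℤ K x) • a)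
      (fun x y => by simp only [map_add, add_smul])).toIntLinearMap) (fun x y => by
      change φ (KaehlerDifferential.D ℤ K (x * y)) • a = x • (φ (KaehlerDifferential.D ℤ K y) • a) + y • (φ (KaehlerDifferential.D ℤ K x) • a)
      rw [Derivation.leibniz, map_add, map_smul, map_smul, add_smul, smul_assoc, smul_assoc])
  let g : K →+* C ⧸ maximalIdeal C ^ 2 :=
    { toFun := fun x => Ideal.Quotient.mk _ (u x) + ι (D x)
      map_one' := by simp
      map_mul' := fun x y => by
        rw [D.leibniz, map_add, hιs, hιs, map_mul, map_mul]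
        linear_combination -(hι0 (D x) (D y))
      map_zero' := by simp
      map_add' := fun x y => by simp only [map_add]; abel }
  let gk : K →ₐ[k] C ⧸ maximalIdeal C ^ 2 :=
    { g with commutes' := fun r => RingHom.congr_fun (hk (g.comp (algebraMap k K)) (algebraMap k _)) r }
  obtain ⟨F, hF⟩ := exists_lift (maximalIdeal C) gk
  refine ⟨F.toRingHom, fun x => ?_, fun h => ?_⟩
  · have h1 : Ideal.Quotient.mk _ (F x) = Ideal.Quotient.mk _ (u x) + ι (D x) := hF x
    obtain ⟨b, hb⟩ := (maximalIdeal C).toCotangent_surjective (D x)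
    rw [← hb, show ι ((maximalIdeal C).toCotangent b) = Ideal.Quotient.mk _ (b : C) from rfl, ← map_add,
      Ideal.Quotient.eq] at h1
    refine Eq.trans ?_ (hu x)
    change residue C (F x) = residue C (u x)
    refine Ideal.Quotient.eq.mpr ?_
    have := (maximalIdeal C).add_mem (Ideal.pow_le_self two_ne_zero h1) b.2
    rwa [show F x - (u x + b) + b = F x - u x by ring] at this
  · have hD : ∀ x, φ (KaehlerDifferential.D ℤ K x) = 0 := fun x => by
      by_contra hx
      have h1 : Ideal.Quotient.mk _ (F x) = Ideal.Quotient.mk _ (u x) + ι (D x) := hF x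
      rw [show F x = u x from RingHom.congr_fun h x, left_eq_add, ← ι.map_zero] at h1
      have h3 : φ (KaehlerDifferential.D ℤ K x) • a = 0 := hι (a₂ := 0) h1
      rcases smul_eq_zero.mp h3 with h2 | h2
      exacts [hx h2, ha h2]
    refine hφ ?_
    have := φ.eqLocus 0
    exact LinearMap.congr_fun (LinearMap.ext_on (KaehlerDifferential.span_range_derivation ℤ K)
      (f := φ) (g := 0) (by rintro _ ⟨x, rfl⟩; exact hD x)) ω

theorem result {C : Type u} [CommRing C] [IsLocalRing C] [IsNoetherianRing C] [IsAdicComplete (maximalIdeal C) C] (hm : maximalIdeal C ≠ ⊥) (u : ResidueField C →+* C) (hu : ∀ x, residue C (u x) = x) : (∀ v : ResidueField C →+* C, (∀ x, residue C (v x) = x) → v = u) ↔ Subsingleton (Ω[ResidueField C⁄ℤ]) := by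
  constructor
  · intro h
    by_contra hΩ
    suffices ∃ v : ResidueField C →+* C, (∀ x, residue C (v x) = x) ∧ v ≠ u by
      obtain ⟨v, hv, hne⟩ := this; exact hne (h v hv)
    obtain ⟨p, hp⟩ := CharP.exists (ResidueField C)
    rcases CharP.char_is_prime_or_zero (ResidueField C) p with hp' | rfl
    · have := Fact.mk hp'
      letI : Algebra (ULift.{u} (ZMod p)) (ResidueField C) :=
        ((ZMod.castHom (dvd_refl p) (ResidueField C)).comp ULift.ringEquiv.toRingHom).toAlgebra
      haveI : Finite (ULift.{u} (ZMod p)) := inferInstance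
      exact exists_second_lift hm u hu (ULift.{u} (ZMod p)) (fun a b => by
        refine RingHom.ext fun x => ?_
        exact RingHom.congr_fun (RingHom.ext_zmod (a.comp ULift.ringEquiv.symm.toRingHom) (b.comp ULift.ringEquiv.symm.toRingHom)) x.down) hΩ
    · haveI : CharZero (ResidueField C) := CharP.charP_to_charZero _
      letI : Algebra (ULift.{u} ℚ) (ResidueField C) :=
        ((algebraMap ℚ (ResidueField C)).comp ULift.ringEquiv.toRingHom).toAlgebra
      haveI : CharZero (ULift.{u} ℚ) := charZero_of_injective_ringHom (f := ULift.ringEquiv.symm.toRingHom (R := ℚ)) ULift.ringEquiv.symm.injective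
      exact exists_second_lift hm u hu (ULift.{u} ℚ) (fun a b => by
        refine RingHom.ext fun x => ?_
        exact RingHom.congr_fun (RingHom.ext_rat (a.comp ULift.ringEquiv.symm.toRingHom) (b.comp ULift.ringEquiv.symm.toRingHom)) x.down) hΩ
  · intro hΩ v hv
    haveI : Algebra.FormallyUnramified ℤ (ResidueField C) := ⟨hΩ⟩
    refine RingHom.ext fun x => IsHausdorff.eq_iff_smodEq (I := maximalIdeal C).mpr fun n => ?_
    rw [smul_eq_mul, Ideal.mul_top, SModEq.sub_mem]
    refine Ideal.pow_le_pow_right (Nat.le_succ n) ?_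
    rw [← Ideal.Quotient.eq]
    let q : C →+* C ⧸ maximalIdeal C ^ (n + 1) := Ideal.Quotient.mk _
    refine AlgHom.congr_fun (Algebra.FormallyUnramified.ext (R := ℤ) ((maximalIdeal C).map q)
      ⟨n + 1, by rw [← Ideal.map_pow]; exact Ideal.map_quotient_self _⟩
      (g₁ := { q.comp v with commutes' := fun k => by simp }) (g₂ := { q.comp u with commutes' := fun k => by simp }) fun y => ?_) x
    refine Ideal.Quotient.eq.mpr ?_
    change q (v y) - q (u y) ∈ _
    rw [← map_sub]
    exact Ideal.mem_map_of_mem q (Ideal.Quotient.eq.mp ((hv y).trans (hu y).symm))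

end Groth.Agent.S2483
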