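import Groth.Statements.S2484
import Groth.Agent.Alg.PBasis.SmoothIff
import Mathlib.RingTheory.Unramified.Finite
import Mathlib.Algebra.Algebra.Epi
import Mathlib.RingTheory.Smooth.Basic

set_option autoImplicit false
universe u
open EGA41

namespace Groth.Agent.S2484
open TensorProduct Groth.Agent.Alg

/-- Let K ⊆ E ⊆ F be fields. (i) If F is a separable extension of E, then Υ_{F/E/K} = 0, i.e. the
canonical map Ω_{E/K} ⊗_E F → Ω_{F/K} is injective. (ii) Conversely, if F is separable over K and
this map is injective, then F is separable over E. (Separable means geometrically reduced.) -/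
theorem result {K E F : Type u} [Field K] [Field E] [Field F] [Algebra K E] [Algebra E F] [Algebra K F] [IsScalarTower K E F] :
    (Algebra.IsGeometricallyReduced E F → Function.Injective (KaehlerDifferential.mapBaseChange K E F)) ∧
    (Algebra.IsGeometricallyReduced K F → Function.Injective (KaehlerDifferential.mapBaseChange K E F) → Algebra.IsGeometricallyReduced E F) := by
  refine ⟨fun h => ?_, fun h hinj => ?_⟩
  · have := PBasis.formallySmooth_of_geometricallyReduced (k := E) (K := F)
    exact PBasis.mapBaseChange_injective K E F
  · have := PBasis.formallySmooth_of_geometricallyReduced (k := K) (K := F)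
    rw [← PBasis.formallySmooth_iff_geometricallyReduced]
    exact ⟨Module.Projective.of_free, PBasis.subsingleton_h1Cotangent_of_injective K E F hinj⟩

end Groth.Agent.S2484
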