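import Groth.Statements.S2485
import Groth.Agent.Alg.PBasis.SmoothIff
import Mathlib.RingTheory.Unramified.Finite
import Mathlib.Algebra.Algebra.Epi
import Mathlib.RingTheory.Smooth.Basic

set_option autoImplicit false
universe u
open EGA41

namespace Groth.Agent.S2485
open TensorProduct Groth.Agent.Alg

/-- Let p be a prime and A → B a ring homomorphism making B an A-algebra of finite type, with B of
characteristic p, such that for some s ≥ 0 every p^s-th power of an element of B lies in the image
of A. If Ω_{B/A} = 0 then A → B is surjective. -/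
theorem result (p : ℕ) [Fact p.Prime] {A B : Type u} [CommRing A] [CommRing B] [Algebra A B] [CharP B p]
    [Algebra.FiniteType A B] (s : ℕ) (hpow : ∀ b : B, b ^ p ^ s ∈ Set.range (algebraMap A B)) [Subsingleton (Ω[B⁄A])] :
    Function.Surjective (algebraMap A B) := by
  have : Algebra.FormallyUnramified A B := ⟨inferInstance⟩
  have : Algebra.IsIntegral A B := ⟨fun b => by
    obtain ⟨a, ha⟩ := hpow b
    exact IsIntegral.of_pow (pow_pos (Fact.out : p.Prime).pos s) (ha ▸ isIntegral_algebraMap)⟩
  have : Module.Finite A B := Algebra.IsIntegral.finite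
  rw [← Algebra.isEpi_iff_surjective_algebraMap_of_finite, Algebra.isEpi_iff_forall_one_tmul_eq]
  intro b
  have hnil : ∀ x ∈ KaehlerDifferential.ideal A B, IsNilpotent x := by
    have hle : KaehlerDifferential.ideal A B ≤ nilradical (B ⊗[A] B) := by
      rw [← KaehlerDifferential.span_range_eq_ideal, Ideal.span_le]
      rintro _ ⟨c, rfl⟩
      refine ⟨p ^ s, ?_⟩
      obtain ⟨a, ha⟩ := hpow c
      have hp0 : (p : B ⊗[A] B) = 0 := by
        rw [← map_natCast (algebraMap B (B ⊗[A] B)), CharP.cast_eq_zero, map_zero]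
      rcases subsingleton_or_nontrivial (B ⊗[A] B) with h | h
      · exact Subsingleton.elim _ _
      have : CharP (B ⊗[A] B) p := (CharP.charP_iff_prime_eq_zero Fact.out).mpr hp0
      rw [Submodule.zero_eq_bot, Submodule.mem_bot, sub_pow_char_pow, Algebra.TensorProduct.tmul_pow, Algebra.TensorProduct.tmul_pow, one_pow, ← ha,
        sub_eq_zero, Algebra.algebraMap_eq_smul_one, tmul_smul, smul_tmul']
    exact fun x hx => hle hx
  have hidem : IsIdempotentElem (KaehlerDifferential.ideal A B) :=
    (Ideal.cotangent_subsingleton_iff _).mp (inferInstance : Subsingleton Ω[B⁄A])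
  obtain ⟨e, he, hee⟩ := (Ideal.isIdempotentElem_iff_of_fg _ (KaehlerDifferential.ideal_fg A B)).mp hidem
  have he0 : e = 0 := by
    obtain ⟨n, hn⟩ := hnil e (hee ▸ Ideal.mem_span_singleton_self e)
    rcases n with _ | n
    · exact (subsingleton_of_zero_eq_one (by simpa using hn.symm)).elim _ _
    · rwa [he.pow_succ_eq] at hn
  have : (1 : B) ⊗ₜ[A] b - b ⊗ₜ[A] (1 : B) ∈ KaehlerDifferential.ideal A B :=
    KaehlerDifferential.one_smul_sub_smul_one_mem_ideal A b
  rw [hee, he0] at this
  simp [sub_eq_zero] at this
  exact this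

end Groth.Agent.S2485
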