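import Groth.Statements.S2486
import Groth.Agent.Alg.PBasis.Basic
import Groth.Agent.S2485
import Mathlib.RingTheory.Kaehler.Basic
import Mathlib.RingTheory.FiniteType

set_option autoImplicit false
universe u
open EGA41

namespace Groth.Agent.S2486
open Groth.Agent.Alg

/-- Let p be a prime, B an A-algebra of characteristic p and (x_α) a family of elements of B. Then (a) B
is generated as an A[B^p]-algebra by the x_α if and only if (b) (x_α) is a system of p-generators of
B over A; these imply (c) Ω_{B/A} is generated by the d x_α; and if B is an A[B^p]-algebra of finite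
type, (c) implies (a). -/
theorem result (p : ℕ) [Fact p.Prime] {A B : Type u} [CommRing A] [CommRing B] [Algebra A B] [CharP B p]
    {ι : Type u} (x : ι → B) :
    (Algebra.adjoin (EGA41.pPowerSubalgebra p A B) (Set.range x) = ⊤ ↔ EGA41.IsPGenerating p A x) ∧
    (EGA41.IsPGenerating p A x → Submodule.span B (Set.range fun i => KaehlerDifferential.D A B (x i)) = ⊤) ∧
    (Algebra.FiniteType (EGA41.pPowerSubalgebra p A B) B →
      Submodule.span B (Set.range fun i => KaehlerDifferential.D A B (x i)) = ⊤ → EGA41.IsPGenerating p A x) := by
  classical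
  let A₀ := EGA41.pPowerSubalgebra p A B
  have h1 : Algebra.adjoin A₀ (Set.range x) = ⊤ ↔ EGA41.IsPGenerating p A x := by
    let P := Submodule.span A₀ (Set.range fun e : {e : ι →₀ ℕ // ∀ i, e i < p} => EGA41.pMonomial x e.1)
    have hP1 : (1 : B) ∈ P := Submodule.subset_span ⟨⟨0, fun _ => (Fact.out : p.Prime).pos⟩, by
      simp [EGA41.pMonomial]⟩
    have hmul : ∀ i, ∀ u ∈ P, x i * u ∈ P := by
      intro i u hu
      induction hu using Submodule.span_induction with
      | zero => rw [mul_zero]; exact zero_mem _
      | add a b _ _ ha hb => rw [mul_add]; exact add_mem ha hb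
      | smul a b _ hb => rw [mul_smul_comm]; exact P.smul_mem a hb
      | mem y hy =>
        obtain ⟨⟨e, he⟩, rfl⟩ := hy
        have hmon : x i * EGA41.pMonomial x e = EGA41.pMonomial x (e + Finsupp.single i 1) := by
          rw [EGA41.pMonomial, EGA41.pMonomial, Finsupp.prod_add_index' (by simp) (by simp [pow_add]),
            Finsupp.prod_single_index (by simp), pow_one, mul_comm]
        rw [hmon]
        by_cases hlt : e i + 1 < p
        · refine Submodule.subset_span ⟨⟨e + Finsupp.single i 1, fun j => ?_⟩, rfl⟩
          rcases eq_or_ne j i with rfl | hji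
          · simpa using hlt
          · simpa [hji.symm] using he j
        · have hei : e i + 1 = p := by have := he i; omega
          have he' : ∀ j, e.erase i j < p := fun j => by
            rcases eq_or_ne j i with rfl | hji
            · simpa using (Fact.out : p.Prime).pos
            · simpa [hji] using he j
          have hdec : e + Finsupp.single i 1 = e.erase i + Finsupp.single i p := by
            ext j
            rcases eq_or_ne j i with rfl | hji
            · simp [hei]
            · simp [hji]
          rw [hdec, EGA41.pMonomial, Finsupp.prod_add_index' (by simp) (by simp [pow_add]),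
            Finsupp.prod_single_index (by simp), mul_comm]
          exact P.smul_mem (⟨x i ^ p, PBasis.pow_mem p A (x i)⟩ : A₀)
            (Submodule.subset_span ⟨⟨e.erase i, he'⟩, rfl⟩)
    constructor
    · intro h
      have hall : ∀ b ∈ Algebra.adjoin A₀ (Set.range x), ∀ u ∈ P, b * u ∈ P := by
        intro b hb
        induction hb using Algebra.adjoin_induction with
        | mem y hy => obtain ⟨i, rfl⟩ := hy; exact hmul i
        | algebraMap a => exact fun u hu => P.smul_mem a hu
        | add a b _ _ ha hb => intro u hu; rw [add_mul]; exact add_mem (ha u hu) (hb u hu)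
        | mul a b _ _ ha hb => intro u hu; rw [mul_assoc]; exact ha _ (hb u hu)
      exact eq_top_iff.mpr fun b _ => by simpa using hall b (h ▸ trivial) 1 hP1
    · intro h
      refine eq_top_iff.mpr fun b _ => ?_
      have hb : b ∈ P := by rw [show P = ⊤ from h]; trivial
      refine (Submodule.span_le (p := Subalgebra.toSubmodule (Algebra.adjoin A₀ (Set.range x)))).mpr ?_ hb
      rintro _ ⟨e, rfl⟩
      exact Subalgebra.prod_mem _ fun i _ => Subalgebra.pow_mem _ (Algebra.subset_adjoin (Set.mem_range_self i)) _
  refine ⟨h1, fun hx => ?_, fun hft hspan => h1.mp ?_⟩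
  · let S := Submodule.span B (Set.range fun i => KaehlerDifferential.D A B (x i))
    have h : (S.mkQ.compDer (KaehlerDifferential.D A B)) = 0 := PBasis.derivationOver_ext p hx _ _ fun i => by
      simpa [S] using Submodule.subset_span (R := B) (Set.mem_range_self (f := fun i => KaehlerDifferential.D A B (x i)) i)
    rw [eq_top_iff, ← KaehlerDifferential.span_range_derivation, Submodule.span_le]
    rintro _ ⟨b, rfl⟩
    have := DFunLike.congr_fun h b
    simpa [S] using this
  · let B' := Algebra.adjoin A₀ (Set.range x)
    have hAB : ∀ a : A, algebraMap A B a ∈ B' := fun a =>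
      B'.algebraMap_mem (⟨algebraMap A B a, Subalgebra.algebraMap_mem _ a⟩ : A₀)
    have : Algebra.FiniteType B' B := Algebra.FiniteType.of_restrictScalars_finiteType A₀ B' B
    have hΩ : Subsingleton (Ω[B⁄B']) := by
      letI : Algebra A B' := ((algebraMap A B).codRestrict B' hAB).toAlgebra
      have : IsScalarTower A B' B := .of_algebraMap_eq fun _ => rfl
      refine subsingleton_of_forall_eq 0 fun z => ?_
      obtain ⟨w, rfl⟩ := KaehlerDifferential.map_surjective A B' B z
      have h0 : KaehlerDifferential.map A B' B B = 0 := LinearMap.ext_on_range hspan fun i => by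
        rw [KaehlerDifferential.map_D, LinearMap.zero_apply, Algebra.algebraMap_self, RingHom.id_apply]
        exact (KaehlerDifferential.D B' B).map_algebraMap ⟨x i, Algebra.subset_adjoin (Set.mem_range_self i)⟩
      rw [h0, LinearMap.zero_apply]
    have hs := Groth.Agent.S2485.result p (A := B') (B := B) 1 fun b =>
      ⟨⟨b ^ p, B'.algebraMap_mem (⟨b ^ p, PBasis.pow_mem p A b⟩ : A₀)⟩, (congrArg (b ^ ·) (pow_one p)).symm⟩
    exact eq_top_iff.mpr fun b _ => by obtain ⟨c, rfl⟩ := hs b; exact c.2

end Groth.Agent.S2486
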