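import Groth.Statements.S2555
import Groth.Agent.FibreDepth.Statements

set_option autoImplicit false
set_option backward.isDefEq.respectTransparency false
open CategoryTheory AlgebraicGeometry
universe u
open EGA43

namespace Groth.Agent.S2555

/-- Let f : X ⟶ Y be proper, flat and locally of finite presentation and k ≥ 1. The set of points y of Y
such that every local ring of the fibre X_y satisfies Serre's condition (S_k) is open in Y. -/
theorem result {X Y : Scheme.{u}} (f : X ⟶ Y) [IsProper f]
    [Flat f] [LocallyOfFinitePresentation f] (k : ℕ) (hk : 1 ≤ k) :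
    IsOpen {y : Y | ∀ x : ↥(f.fiber y), LocCoh.HasSk k ((f.fiber y).presheaf.stalk x) ((f.fiber y).presheaf.stalk x)} := by
  exact (congrArg IsOpen (Set.ext fun y => forall_congr' fun w => Groth.Agent.FibreDepth.Unit.hasSk_iff f k y w)).mpr
    (Groth.Agent.FibreDepth.Statements.hasSk_proper f (Coh.structureModule X) (Groth.Agent.FibreDepth.Unit.isFP_unit X) f.isClosedMap (fun x => Groth.Agent.FibreDepth.Unit.flatAt_unit f x (Flat.stalkMap f x)) k)

end Groth.Agent.S2555
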