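import Groth.Statements.S2573
import Groth.Agent.Flat.FreeStrata
import Mathlib.RingTheory.Localization.Away.AdjoinRoot

set_option autoImplicit false
universe u
open EGA43

namespace Groth.Agent.S2573

/-- Let A be a commutative ring whose spectrum is irreducible, with unique minimal prime p, let B be a
finitely presented A-algebra and M a finitely presented B-module. If the localization M_p is flat
over A_p, then there is t ∉ p such that M_t is a free A_t-module. -/
theorem result {A B : Type u} [CommRing A] [CommRing B] [Algebra A B]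
    [Algebra.FinitePresentation A B] (p : Ideal A) [p.IsPrime] (hp : minimalPrimes A = {p})
    (M : Type u) [AddCommGroup M] [Module B M] [Module A M] [IsScalarTower A B M] [Module.FinitePresentation B M]
    (hflat : Module.Flat (Localization.AtPrime p) (LocalizedModule p.primeCompl M)) :
    ∃ t : A, t ∉ p ∧ Module.Free (Localization.Away t) (LocalizedModule (Submonoid.powers t) M) := by
  classical
  have hnil : p = nilradical A := by
    have h := Ideal.sInf_minimalPrimes (I := (⊥ : Ideal A))
    rw [show (⊥ : Ideal A).minimalPrimes = minimalPrimes A from rfl, hp, sInf_singleton] at h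
    exact h
  -- flatness at the primes above `p`
  let U : Set (PrimeSpectrum B) := {q | Flat.FlatAt.FlatAt A M q.asIdeal}
  have hflatA : Module.Flat A (LocalizedModule p.primeCompl M) :=
    Module.Flat.trans A (Localization.AtPrime p) _
  have hgen : ∀ q : PrimeSpectrum B, q.asIdeal.comap (algebraMap A B) ≤ p → q ∈ U := by
    intro q hq P Q _ _ _ _ f hf x hx
    obtain ⟨s, hs, hs0⟩ := Flat.Descent.exists_smul_eq_zero_of_injective (S := A) p.primeCompl
      (LocalizedModule.mkLinearMap p.primeCompl M) f
      (Module.Flat.lTensor_preserves_injective_linearMap f hf) hx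
    exact ⟨algebraMap A B s, fun h => hs (hq h), by rw [algebraMap_smul, hs0]⟩
  let I := PrimeSpectrum.vanishingIdeal Uᶜ
  obtain ⟨t₀, ht₀, ht₀I⟩ : ∃ t₀, t₀ ∉ p ∧ algebraMap A B t₀ ∈ I := by
    by_contra hcon
    push Not at hcon
    obtain ⟨Q, hQ, hIQ, hdis⟩ := Ideal.exists_le_prime_disjoint I
      (Algebra.algebraMapSubmonoid B p.primeCompl) (Set.disjoint_left.mpr fun b hb hb' => by
        obtain ⟨a, ha, rfl⟩ := hb'
        exact hcon a ha hb)
    have hU : (⟨Q, hQ⟩ : PrimeSpectrum B) ∈ U := hgen _ fun a ha => by
      by_contra hap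
      exact Set.disjoint_left.mp hdis ha ⟨a, hap, rfl⟩
    have hmem : (⟨Q, hQ⟩ : PrimeSpectrum B) ∈ PrimeSpectrum.zeroLocus (I : Set B) := hIQ
    rw [PrimeSpectrum.zeroLocus_vanishingIdeal_eq_closure,
      (Flat.OpenLocus.isOpen_flatLocus (R := A) (S := B) (M := M)).isClosed_compl.closure_eq]
      at hmem
    exact hmem hU
  -- the flat localization at `t₀`
  let b := algebraMap A B t₀
  let ℓ := LocalizedModule.mkLinearMap (Submonoid.powers b) M
  haveI : Module.Flat A (LocalizedModule (Submonoid.powers b) M) := by
    rw [Module.Flat.iff_lTensor_injective']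
    refine fun a => Flat.Descent.lTensor_localized_injective (Submonoid.powers b) ℓ a.subtype
      fun x hx => ?_
    have hb : b ∈ Ideal.radical (LinearMap.ker (LinearMap.toSpanSingleton B _ x)) := by
      rw [Ideal.radical_eq_sInf, Ideal.mem_sInf]
      rintro q ⟨hle, hq⟩
      by_contra hbq
      have hU : (⟨q, hq⟩ : PrimeSpectrum B) ∈ U := by
        by_contra hn
        exact hbq ((PrimeSpectrum.mem_vanishingIdeal _ _).mp ht₀I _ hn)
      obtain ⟨s, hs, hs0⟩ := hU a.subtype (Submodule.injective_subtype a) x hx
      exact hs (hle (show LinearMap.toSpanSingleton B _ x s = 0 from hs0))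
    obtain ⟨n, hn⟩ := hb
    exact ⟨b ^ n, ⟨n, rfl⟩, hn⟩
  haveI : Algebra.FinitePresentation B (Localization.Away b) :=
    .of_isLocalizationAway b
  haveI : Algebra.FinitePresentation A (Localization.Away b) :=
    Algebra.FinitePresentation.trans A B _
  obtain ⟨l, hl, hfree⟩ := Flat.FreeStrata.exists_free_strata A (Localization.Away b)
    (LocalizedModule (Submonoid.powers b) M)
  have hex : ∃ i, ∃ h : i < l.length, l[i] ∉ p := by
    by_contra hcon
    push Not at hcon
    refine (inferInstance : p.IsPrime).ne_top (top_le_iff.mp (hl ▸ Ideal.span_le.mpr ?_))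
    intro a ha
    obtain ⟨i, hi, rfl⟩ := List.mem_iff_getElem.mp ha
    exact hcon i hi
  obtain ⟨hi, hip⟩ := Nat.find_spec hex
  let i := Nat.find hex
  let t := t₀ * l[i]
  refine ⟨t, fun h => ((inferInstance : p.IsPrime).mem_or_mem h).elim ht₀ hip, ?_⟩
  let L := Localization.Away t
  have ht : IsUnit (algebraMap A L t) := IsLocalization.Away.algebraMap_isUnit t
  have htl : IsUnit (algebraMap A L l[i]) :=
    isUnit_of_dvd_unit (map_dvd _ (dvd_mul_left _ t₀)) ht
  have htb : IsUnit (algebraMap A L t₀) :=
    isUnit_of_dvd_unit (map_dvd _ (dvd_mul_right t₀ _)) ht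
  let J : Ideal L := (Ideal.span {a | a ∈ l.take i}).map (algebraMap A L)
  have hJ : IsNilpotent J := by
    refine (Ideal.FG.isNilpotent_iff_le_nilradical ((Ideal.FG.map (Submodule.fg_span ?_) _))).mpr ?_
    · exact List.finite_toSet _
    · rw [Ideal.map_span, Ideal.span_le]
      rintro _ ⟨a, ha, rfl⟩
      obtain ⟨j, hj, rfl⟩ := List.mem_iff_getElem.mp ha
      rw [List.length_take] at hj
      rw [List.getElem_take]
      have hjp : l[j] ∈ p := by
        by_contra hn
        exact Nat.find_min hex (lt_min_iff.mp hj).1 ⟨(lt_min_iff.mp hj).2, hn⟩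
      exact (mem_nilradical.mp (hnil ▸ hjp)).map (algebraMap A L)
  haveI : Module.Free (L ⧸ J) (TensorProduct A (L ⧸ J) (LocalizedModule (Submonoid.powers b) M)) :=
    hfree i hi (L ⧸ J) (htl.map (Ideal.Quotient.mk J)) (by
      rw [IsScalarTower.algebraMap_eq A L (L ⧸ J), ← Ideal.map_map, Ideal.Quotient.algebraMap_eq,
        Ideal.map_quotient_self])
  haveI := Flat.FreeStrata.free_of_nilpotent (R := A)
    (M := LocalizedModule (Submonoid.powers b) M) J hJ inferInstance
  -- `L ⊗ M → L ⊗ M_b` is bijective
  let r := TensorProduct.AlgebraTensorModule.rTensor A L ℓ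
  have hu : ∀ s : Submonoid.powers b, Function.Bijective fun x : TensorProduct A M L => s.1 • x := by
    rintro ⟨_, n, rfl⟩
    obtain ⟨c, hc⟩ := (htb.pow n).exists_left_inv
    have key : ∀ x : TensorProduct A M L, (b ^ n) • x =
        (LinearMap.mulLeft A ((algebraMap A L t₀) ^ n)).lTensor M x := by
      intro x
      induction x using TensorProduct.induction_on with
      | zero => simp
      | add u v hu hv => simp only [smul_add, map_add, hu, hv]
      | tmul m z =>
        simp only [TensorProduct.smul_tmul', LinearMap.lTensor_tmul, LinearMap.mulLeft_apply,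
          b, ← map_pow, algebraMap_smul, TensorProduct.smul_tmul, Algebra.smul_def]
    rw [funext key]
    refine Function.bijective_iff_has_inverse.mpr
      ⟨LinearMap.lTensor M (LinearMap.mulLeft A c), fun x => ?_, fun x => ?_⟩
    · simp only []
      rw [← LinearMap.comp_apply, ← LinearMap.lTensor_comp, show (LinearMap.mulLeft A c).comp
        (LinearMap.mulLeft A (algebraMap A L t₀ ^ n)) = LinearMap.id from LinearMap.ext fun z => by
          simp [← mul_assoc, hc], LinearMap.lTensor_id, LinearMap.id_apply]
    · simp only []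
      rw [← LinearMap.comp_apply, ← LinearMap.lTensor_comp, show
        (LinearMap.mulLeft A (algebraMap A L t₀ ^ n)).comp (LinearMap.mulLeft A c) = LinearMap.id
        from LinearMap.ext fun z => by simp [← mul_assoc, mul_comm _ c, hc],
        LinearMap.lTensor_id, LinearMap.id_apply]
  have hr : Function.Bijective r := by
    refine ⟨(injective_iff_map_eq_zero r).mpr fun x hx => ?_, fun y => ?_⟩
    · obtain ⟨s, hs⟩ := (IsLocalizedModule.eq_zero_iff (Submonoid.powers b) r).mp hx
      exact (hu s).1 (by simpa [Submonoid.smul_def] using hs)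
    · obtain ⟨⟨x, s⟩, hxy⟩ := IsLocalizedModule.surj (Submonoid.powers b) r y
      obtain ⟨x', rfl⟩ := (hu s).2 x
      refine ⟨x', ((Module.End.isUnit_iff _).mp (IsLocalizedModule.map_units r s)).injective ?_⟩
      show (s : B) • r x' = (s : B) • y
      rw [← map_smul]; exact hxy.symm
  have hbij : Function.Bijective (LinearMap.baseChange L (ℓ.restrictScalars A)) := by
    have h : (LinearMap.baseChange L (ℓ.restrictScalars A) : _ → _) =
        (TensorProduct.comm A _ L) ∘ r ∘ (TensorProduct.comm A L M) := by
      funext x
      induction x using TensorProduct.induction_on with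
      | zero => simp
      | add u v hu hv => simp only [Function.comp_apply, map_add, hu, hv] at hu hv ⊢
      | tmul z m => rfl
    rw [h]
    exact (LinearEquiv.bijective _).comp (hr.comp (LinearEquiv.bijective _))
  haveI : Module.Free L (TensorProduct A L M) := Module.Free.of_equiv (LinearEquiv.ofBijective _ hbij).symm
  exact Module.Free.of_equiv (LocalizedModule.equivTensorProduct (Submonoid.powers t) M).symm

end Groth.Agent.S2573
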