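-- Proof of S2574.
import Mathlib.RingTheory.Flat.Basic
import Mathlib.RingTheory.Ideal.AssociatedPrime.Basic
import Mathlib.RingTheory.Localization.AtPrime.Basic
import Mathlib.Algebra.Module.LocalizedModule.Basic
import Mathlib.RingTheory.Nilpotent.Defs
import Mathlib.RingTheory.Noetherian.Basic
import Mathlib.RingTheory.TensorProduct.Basic
import Groth.Agent.Flat.Criteria
import Mathlib.RingTheory.Flat.Localization
import Mathlib.RingTheory.Localization.BaseChange
import Mathlib.RingTheory.Flat.Stability
import Mathlib.RingTheory.Ideal.AssociatedPrime.Finiteness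

set_option autoImplicit false
open TensorProduct
universe u
namespace EGA43
end EGA43
open EGA43

namespace Groth.Agent.S2574

/-- Let A be a Noetherian ring, J a nilpotent ideal of A and M an A-module. Then M is flat over A if and
only if (A/J) ⊗_A M is flat over A/J and, for every associated prime p of A, the localization M_p is
flat over A_p. -/
theorem result {A : Type u} [CommRing A] [IsNoetherianRing A]
    (J : Ideal A) (hJ : IsNilpotent J) (M : Type u) [AddCommGroup M] [Module A M] :
    Module.Flat A M ↔
      Module.Flat (A ⧸ J) ((A ⧸ J) ⊗[A] M) ∧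
        ∀ p : associatedPrimes A A,
          haveI : p.1.IsPrime := IsAssociatedPrime.isPrime p.2
          Module.Flat (Localization.AtPrime p.1) (LocalizedModule p.1.primeCompl M) := by
  constructor
  · intro h
    haveI := h
    refine ⟨inferInstance, fun p => ?_⟩
    haveI : p.1.IsPrime := IsAssociatedPrime.isPrime p.2
    exact Module.Flat.of_linearEquiv
      (LocalizedModule.equivTensorProduct p.1.primeCompl M)
  rintro ⟨h2, hass⟩
  obtain ⟨n, hn⟩ := hJ
  have kill : ∀ (a : Ideal A) (x : M ⊗[A] a), a.subtype.lTensor M x = 0 →
      ∃ s ∈ nonZeroDivisors A, s • x = 0 := by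
    intro a x hx
    by_contra hne
    let Q : Ideal A := LinearMap.ker (LinearMap.toSpanSingleton A (M ⊗[A] a) x)
    have hsub : (Q : Set A) ⊆ ⋃ p ∈ associatedPrimes A A, (p : Set A) := by
      rw [biUnion_associatedPrimes_eq_compl_nonZeroDivisors]
      intro s hs hs'
      exact hne ⟨s, hs', hs⟩
    obtain ⟨p, hp, hQp⟩ := (Ideal.subset_union_prime_finite (associatedPrimes.finite A A)
      (f := id) ⊥ ⊥ fun q hq _ _ => hq.isPrime).mp hsub
    haveI : p.IsPrime := IsAssociatedPrime.isPrime hp
    haveI : Module.Flat (Localization.AtPrime p) (LocalizedModule p.primeCompl M) := hass ⟨p, hp⟩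
    haveI : Module.Flat A (Localization.AtPrime p) := IsLocalization.flat _ p.primeCompl
    haveI : Module.Flat A (LocalizedModule p.primeCompl M) :=
      Module.Flat.trans A (Localization.AtPrime p) _
    let ℓ := LocalizedModule.mkLinearMap p.primeCompl M
    let G := TensorProduct.AlgebraTensorModule.rTensor (A := A) A a ℓ
    have hG : G x = 0 := by
      refine Module.Flat.lTensor_preserves_injective_linearMap
        (M := LocalizedModule p.primeCompl M) a.subtype (Submodule.injective_subtype a) ?_
      have : ∀ y, a.subtype.lTensor (LocalizedModule p.primeCompl M) (G y) =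
          ℓ.rTensor A (a.subtype.lTensor M y) := by
        intro y
        induction y using TensorProduct.induction_on with
        | zero => simp
        | add p q hp hq => simp only [map_add, hp, hq]
        | tmul m r => simp [G]
      rw [this, hx, map_zero, map_zero]
    obtain ⟨s, hs⟩ := (IsLocalizedModule.eq_zero_iff p.primeCompl G).mp hG
    exact s.2 (hQp (show (s : A) ∈ Q from hs))
  let K : ℕ → Ideal A := fun k => Submodule.annihilator (J ^ k : Ideal A)
  have key : ∀ k, ∀ b : Ideal A, b ≤ K k →
      ∀ s ∈ nonZeroDivisors A, ∀ x : M ⊗[A] b, s • x = 0 → x = 0 := by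
    intro k
    induction k with
    | zero =>
      intro b hb s _ x _
      haveI : Subsingleton b := by
        refine ⟨fun u v => Subtype.ext ?_⟩
        have h0 : ∀ w : b, (w : A) = 0 := fun w => by
          simpa using Submodule.mem_annihilator.mp (hb w.2) 1 (by simp)
        rw [h0, h0]
      exact Subsingleton.elim _ _
    | succ k ih =>
      intro b hb s hs x hx
      let W : Submodule A b := Submodule.comap b.subtype (K k)
      have hkill : Module.IsTorsionBySet A (↥b ⧸ W) J := by
        intro y r
        obtain ⟨y, rfl⟩ := Submodule.mkQ_surjective W y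
        rw [← map_smul, Submodule.mkQ_apply, Submodule.Quotient.mk_eq_zero]
        refine Submodule.mem_annihilator.mpr fun t ht => ?_
        show ((r : A) * (y : A)) * t = 0
        have := Submodule.mem_annihilator.mp (hb y.2) ((r : A) * t)
          (by rw [pow_succ']; exact Ideal.mul_mem_mul r.2 ht)
        rw [smul_eq_mul] at this
        rw [← this]; ring
      letI := hkill.module
      haveI : IsScalarTower A (A ⧸ J) (↥b ⧸ W) := ⟨fun r c v => by
        obtain ⟨c, rfl⟩ := Ideal.Quotient.mk_surjective c
        show (Ideal.Quotient.mk J (r * c)) • v = r • (Ideal.Quotient.mk J c) • v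
        simp [mul_smul]⟩
      let f : (↥b ⧸ W) →ₗ[A ⧸ J] (↥b ⧸ W) := (Ideal.Quotient.mk J s) • LinearMap.id
      have hf : Function.Injective f := by
        rw [injective_iff_map_eq_zero]
        intro v hv
        obtain ⟨v, rfl⟩ := Submodule.mkQ_surjective W v
        have hv' : W.mkQ (s • v) = 0 := by rw [map_smul]; exact hv
        rw [Submodule.mkQ_apply, Submodule.Quotient.mk_eq_zero] at hv' ⊢
        refine Submodule.mem_annihilator.mpr fun t ht => ?_
        have h0 : (s * (v : A)) * t = 0 := Submodule.mem_annihilator.mp hv' t ht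
        rw [mul_assoc] at h0
        exact (mem_nonZeroDivisors_iff.mp hs).1 _ h0
      have hq : W.mkQ.lTensor M x = 0 := by
        refine Groth.Agent.Flat.LocalCriterion.lTensor_restrictScalars_injective h2 f hf ?_
        have : f.restrictScalars A = s • (LinearMap.id : (↥b ⧸ W) →ₗ[A] _) := by
          refine LinearMap.ext fun v => ?_
          show (Ideal.Quotient.mk J s) • v = s • v
          exact algebraMap_smul (A ⧸ J) s v
        rw [this, LinearMap.lTensor_smul, LinearMap.lTensor_id, LinearMap.smul_apply,
          LinearMap.id_apply, ← map_smul, hx, map_zero, map_zero]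
      let incl : ↥(b ⊓ K k) →ₗ[A] b := Submodule.inclusion inf_le_left
      have hex : Function.Exact incl W.mkQ := by
        intro y
        rw [Submodule.mkQ_apply, Submodule.Quotient.mk_eq_zero]
        exact ⟨fun hy => ⟨⟨y, y.2, hy⟩, rfl⟩, by rintro ⟨z, rfl⟩; exact z.2.2⟩
      obtain ⟨y, rfl⟩ := (lTensor_exact M hex (Submodule.mkQ_surjective W) x).mp hq
      have hy : (b ⊓ K k).subtype.lTensor M (s • y) = 0 := by
        rw [show (b ⊓ K k).subtype = b.subtype ∘ₗ incl from rfl, LinearMap.lTensor_comp,
          LinearMap.comp_apply, map_smul, hx, map_zero]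
      obtain ⟨t, ht, hty⟩ := kill _ (s • y) hy
      rw [smul_smul] at hty
      rw [ih _ inf_le_right _ (mul_mem ht hs) y hty, map_zero]
  rw [Module.Flat.iff_lTensor_injective']
  intro a
  rw [injective_iff_map_eq_zero]
  intro x hx
  obtain ⟨s, hs, hsx⟩ := kill a x hx
  refine key n a (fun y _ => Submodule.mem_annihilator.mpr fun t ht => ?_) s hs x hsx
  rw [hn] at ht
  rw [Ideal.mem_bot.mp ht, smul_zero]

end Groth.Agent.S2574
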