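import Groth.Statements.S2586
import Groth.Agent.Flat.FibreRegular

set_option autoImplicit false
open TensorProduct
universe u
open EGA43

namespace Groth.Agent.S2586

/-- Let A ⟶ B be a ring map with B finitely presented over A, M a finitely presented B-module, q a prime
of B with contraction p, and g₁, …, gₙ elements of q. Suppose the localization M_q is flat over A
and the gᵢ form a regular sequence on the localization at q of the fibre module M ⊗_A κ(p). Then the
gᵢ form a regular sequence on M_q, and for every i the localization at q of M/(g₁, …, gᵢ)M is flat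
over A. -/
theorem result {A B : Type u} [CommRing A] [CommRing B] [Algebra A B]
    [Algebra.FinitePresentation A B] (M : Type u) [AddCommGroup M] [Module B M] [Module A M] [IsScalarTower A B M]
    [Module.FinitePresentation B M] (q : Ideal B) [q.IsPrime] (g : List B) (hg : ∀ b ∈ g, b ∈ q)
    (hflat : Module.Flat A (LocalizedModule q.primeCompl M))
    (hreg : RingTheory.Sequence.IsRegular
      (LocalizedModule q.primeCompl (M ⊗[A] (q.comap (algebraMap A B)).ResidueField)) g) :
    RingTheory.Sequence.IsRegular (LocalizedModule q.primeCompl M) g ∧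
      ∀ i ≤ g.length, Module.Flat A
        (LocalizedModule q.primeCompl (M ⧸ (Ideal.span {b | b ∈ g.take i} • (⊤ : Submodule B M)))) := by
  obtain ⟨h1, h2⟩ := Groth.Agent.Flat.FibreRegular.flatAt_quotient_take q g hg
    ((Flat.FlatAt.flatAt_iff_localizedModule q).mpr hflat) fun i hi y hy =>
      (Flat.FibreRegular.isSMulRegular_localized_iff q
        (LocalizedModule.mkLinearMap q.primeCompl _) (Ideal.ofList (g.take i)) g[i]).mp
        (hreg.toIsWeaklyRegular.regular_mod_prev i hi) y hy
  refine ⟨⟨⟨fun i hi => ?_⟩, fun htop => hreg.top_ne_smul (eq_top_iff.mpr fun z _ => ?_).symm⟩,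
    fun i hi => (Flat.FlatAt.flatAt_iff_localizedModule q).mp (h2 i hi)⟩
  · exact (Flat.FibreRegular.isSMulRegular_localized_iff q
      (LocalizedModule.mkLinearMap q.primeCompl M) _ _).mpr (h1 i hi)
  · let ℓ := LocalizedModule.mkLinearMap q.primeCompl M
    let ℓ' := LocalizedModule.mkLinearMap q.primeCompl
      (M ⊗[A] (q.comap (algebraMap A B)).ResidueField)
    have hmem : ∀ x, ℓ' x ∈ Ideal.ofList g • (⊤ : Submodule B _) := by
      intro x
      induction x using TensorProduct.induction_on with
      | zero => rw [map_zero]; exact zero_mem _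
      | add a b ha hb => rw [map_add]; exact add_mem ha hb
      | tmul m k =>
        obtain ⟨s, hs, hsm⟩ := (Flat.FibreRegular.mem_smul_top_localized_iff q ℓ _ m).mp
          (by rw [← htop]; exact Submodule.mem_top)
        refine (Flat.FibreRegular.mem_smul_top_localized_iff q ℓ' _ _).mpr ⟨s, hs, ?_⟩
        have := Submodule.mem_map_of_mem (f := (TensorProduct.AlgebraTensorModule.mk A B M
          (q.comap (algebraMap A B)).ResidueField).flip k) hsm
        rw [Submodule.map_smul''] at this
        exact Submodule.smul_mono le_rfl le_top this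
    obtain ⟨⟨x, s⟩, hs⟩ := IsLocalizedModule.surj q.primeCompl ℓ' z
    obtain ⟨v, hv⟩ := (IsLocalizedModule.map_units ℓ' s).exists_left_inv
    have h3 := Submodule.mem_map_of_mem (f := v) (hmem x)
    rw [Submodule.map_smul'', ← hs] at h3
    have h4 : v ((s : B) • z) = z := LinearMap.congr_fun hv z
    rw [Submonoid.smul_def, h4] at h3
    exact Submodule.smul_mono le_rfl le_top h3

end Groth.Agent.S2586
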