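import Groth.Statements.S2595
import Groth.Agent.CMFlat.Locus

set_option autoImplicit false
set_option backward.isDefEq.respectTransparency false
open CategoryTheory AlgebraicGeometry
universe u
open EGA43

namespace Groth.Agent.S2595

/-- Let Y be locally Noetherian, f : X ⟶ Y locally of finite type and x a point of X. If O_{Y,f x} ⟶
O_{X,x} is flat and the local ring at x of the fibre through x is Cohen–Macaulay, then f is
equidimensional at x. -/
theorem result {X Y : Scheme.{u}} [IsLocallyNoetherian Y] (f : X ⟶ Y)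
    [LocallyOfFiniteType f] (x : X) (hflat : (f.stalkMap x).hom.Flat)
    (hCM : LocCoh.IsCohenMacaulayLocalRing ((f.fiber (f.base x)).presheaf.stalk (f.asFiber x))) :
    EGA43.IsEquidimAt f x := by
  haveI : IsLocallyNoetherian X := LocallyOfFiniteType.isLocallyNoetherian f
  haveI : LocallyOfFinitePresentation f := LocallyOfFinitePresentation.iff_locallyOfFiniteType.mpr inferInstance
  obtain ⟨d, U, g, hxU, hgq, hfl, hqf, -⟩ := Groth.Agent.CMFlat.Locus.exists_flat_param f x ⟨hflat, hCM⟩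
  haveI := hfl
  haveI := hqf
  obtain ⟨O, hxO, hO⟩ := Groth.Agent.Equidim.AffineParam.exists_nhd_gen x
  let j : ((U ⊓ O : X.Opens) : Scheme.{u}) ⟶ U := X.homOfLE inf_le_left
  refine Groth.Agent.Equidim.AffineCrit.isEquidimAt_of_param f x (U ⊓ O) ⟨hxU, hxO⟩ (j ≫ g) ?_ fun ξ hξ => ⟨?_, ?_⟩
  · rw [Category.assoc, hgq, Scheme.homOfLE_ι_assoc]
  · refine hO _ ξ.2.2 fun p hp => ?_
    have hp' : p ∈ U ⊓ O := hp.mem_open (U ⊓ O).isOpen ξ.2
    exact congrArg Subtype.val (hξ ⟨p, hp'⟩
      ((U ⊓ O).ι.isOpenEmbedding.isInducing.specializes_iff.mp hp))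
  · intro z hz
    obtain ⟨w, hw, rfl⟩ := Flat.generalizingMap (j ≫ g) hz
    rw [hξ w hw]

end Groth.Agent.S2595
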