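import Groth.Statements.S2596
import Groth.Agent.Lead.DVR.ProperNhd
-- import your own Groth.Agent.* helpers here

set_option autoImplicit false
open CategoryTheory AlgebraicGeometry
universe u
open EGA43

namespace Groth.Agent.S2596

open CategoryTheory.Limits in
/-- Let Y be locally Noetherian, f : X ⟶ Y separated and of finite type, and y a point of Y. Suppose
that for every discrete valuation ring A with fraction field K and every morphism g : Spec A ⟶ Y
sending the closed point to y, every K-point σ of X ×_Y Spec A lying over the generic point Spec K ⟶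
Spec A extends to a section of X ×_Y Spec A ⟶ Spec A. Then f is proper over some open neighbourhood
of y. -/
theorem result {X Y : Scheme.{u}} [IsLocallyNoetherian Y]
    (f : X ⟶ Y) [IsSeparated f] [LocallyOfFiniteType f] [QuasiCompact f] (y : Y)
    (h : ∀ (A : Type u) [CommRing A] [IsDomain A] [IsDiscreteValuationRing A]
      (g : Spec (CommRingCat.of A) ⟶ Y), g.base (IsLocalRing.closedPoint A) = y →
      ∀ σ : Spec (CommRingCat.of (FractionRing A)) ⟶ pullback f g,
        σ ≫ pullback.snd f g = Spec.map (CommRingCat.ofHom (algebraMap A (FractionRing A))) →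
        ∃ s : Spec (CommRingCat.of A) ⟶ pullback f g, s ≫ pullback.snd f g = 𝟙 _ ∧
          Spec.map (CommRingCat.ofHom (algebraMap A (FractionRing A))) ≫ s = σ) :
    ∃ U : Y.Opens, y ∈ U ∧ IsProper (f ∣_ U) := by
  refine Groth.Agent.Lead.DVR.exists_isProper_nhd f y fun η _ A hA g hg w => ?_
  haveI := hA
  let e := FractionRing.algEquiv A (X.residueField η)
  let eI : X.residueField η ⟶ CommRingCat.of (FractionRing A) := CommRingCat.ofHom e.symm.toRingHom
  let eH : CommRingCat.of (FractionRing A) ⟶ X.residueField η := CommRingCat.ofHom e.toRingHom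
  have he : CommRingCat.ofHom (algebraMap A (FractionRing A)) ≫ eH = CommRingCat.ofHom A.subtype :=
    CommRingCat.hom_ext (RingHom.ext fun a => e.commutes a)
  have he' : CommRingCat.ofHom A.subtype ≫ eI = CommRingCat.ofHom (algebraMap A (FractionRing A)) :=
    CommRingCat.hom_ext (RingHom.ext fun a => e.symm.commutes a)
  have heI : eI ≫ eH = 𝟙 _ := CommRingCat.hom_ext (RingHom.ext fun a => e.apply_symm_apply a)
  obtain ⟨s, hs, hs'⟩ := h A g hg (CategoryTheory.Limits.pullback.lift (Spec.map eI ≫ X.fromSpecResidueField η)
      (Spec.map (CommRingCat.ofHom (algebraMap A (FractionRing A))))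
      (by rw [Category.assoc, ← w, ← he', Spec.map_comp]; exact (Category.assoc _ _ _).symm))
    (CategoryTheory.Limits.pullback.lift_snd _ _ _)
  refine ⟨s ≫ CategoryTheory.Limits.pullback.fst f g, ?_, ?_⟩
  · rw [Category.assoc, CategoryTheory.Limits.pullback.condition, reassoc_of% hs]
  · rw [← he, Spec.map_comp, Category.assoc, reassoc_of% hs', CategoryTheory.Limits.pullback.lift_fst,
      ← Category.assoc, ← Spec.map_comp, heI, Spec.map_id]
    exact Category.id_comp _

end Groth.Agent.S2596
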