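-- Proof of S2797.
import Mathlib.RingTheory.Kaehler.Basic
import Mathlib.RingTheory.TensorProduct.Basic
import Groth.Prelude.Def_DiffOp
import Mathlib.Algebra.BigOperators.Group.Finset.Basic
import Groth.Agent.Diff.Basic

set_option autoImplicit false
universe u v
open scoped BigOperators
open Diff16

namespace Groth.Agent.S2797

/-- Let B be an A-algebra generated by a subset s, let M, N be B-modules and D : M → N an A-linear map.
If for every g in s the commutator m ↦ D(g·m) - g·D(m) is a differential operator of order at most n
relative to A, then D is a differential operator of order at most n + 1. -/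
theorem result (A B : Type u) [CommRing A] [CommRing B] [Algebra A B]
    (M N : Type v) [AddCommGroup M] [Module A M] [Module B M] [IsScalarTower A B M]
    [AddCommGroup N] [Module A N] [Module B N] [IsScalarTower A B N]
    (s : Set B) (hs : Algebra.adjoin A s = ⊤) (n : ℕ) (D : M →ₗ[A] N)
    (hD : ∀ g ∈ s, Diff16.IsDiffOpLE A B M N n (Diff16.commutator A B M N D g)) :
    Diff16.IsDiffOpLE A B M N (n + 1) D := by
  rw [Groth.Agent.Diff.Basic.isDiffOpLE_iff_le_annD, pow_succ]
  conv_lhs => arg 2; rw [Groth.Agent.Diff.Basic.ideal_eq_span_of_adjoin s hs]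
  rw [Groth.Agent.Diff.Basic.span_mul_le_annD_iff]
  rintro _ ⟨g, hg, rfl⟩
  rw [Groth.Agent.Diff.Basic.act_delta, ← Groth.Agent.Diff.Basic.isDiffOpLE_iff_le_annD]
  exact hD g hg

end Groth.Agent.S2797
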