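import Groth.Statements.S2907
import Groth.Agent.SGA1Q.Glue
import Groth.Agent.Coeq6.Invariant

set_option autoImplicit false
open CategoryTheory CategoryTheory.Limits AlgebraicGeometry
universe u
open SGA1

namespace Groth.Agent.S2907

/-- Let a finite group G act on a scheme X by automorphisms and suppose every orbit of G is contained in
some affine open of X. Then the quotient of X by G exists: there is an affine G-invariant morphism p
: X ⟶ Y identifying the sections of O_Y over each open with the G-invariant sections of O_X over its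
preimage. -/
theorem result {X : Scheme.{u}} {G : Type u} [Group G] [Finite G] (ρ : G →* Aut X)
    (h : ∀ x : X, ∃ U : X.Opens, IsAffineOpen U ∧ ∀ g : G, (ρ g).hom.base x ∈ U) :
    ∃ (Y : Scheme.{u}) (p : X ⟶ Y), SGA1.IsQuot ρ p := by
  classical
  let A : SGA1Q.Glue.Act.{u} := { U := X, H := G, ρ := ρ }
  haveI := Fintype.ofFinite G
  have hmul : ∀ (k g : G) (x : X), (ρ (k * g)).hom x = (ρ k).hom ((ρ g).hom x) := fun k g x => by
    rw [map_mul]; rfl
  have hone : ∀ x : X, (ρ 1).hom x = x := fun x => by rw [map_one]; rfl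
  have cov : ∀ (u : A.U) (O : A.U.Opens), (∀ x, SGA1Q.Glue.Rel A u x → x ∈ O) →
      ∃ W : A.U.Opens, IsAffineOpen W ∧ u ∈ W ∧ W ≤ O ∧ A.s ⁻¹ᵁ W = A.t ⁻¹ᵁ W := by
    intro u O hO
    obtain ⟨V, hV, hVu⟩ := h u
    haveI : IsAffine V.toScheme := hV
    have horb : ∀ g : G, (ρ g).hom u ∈ O := fun g =>
      hO _ (SGA1Q.Glue.rel_symm (SGA1Q.Glue.rel_iff.2 ⟨g, rfl⟩))
    let O' : X.Opens := ⟨⋂ g : G, (ρ g).hom ⁻¹' ((V : Set X) ∩ O),
      isOpen_iInter_of_finite fun g => (V.2.inter O.2).preimage (ρ g).hom.continuous⟩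
    have hO' : ∀ {x}, x ∈ O' ↔ ∀ g : G, (ρ g).hom x ∈ V ∧ (ρ g).hom x ∈ O := fun {x} =>
      Set.mem_iInter
    obtain ⟨f, hf, hFf⟩ := Coeq6.Invariant.exists_basicOpen (X := V.toScheme) (V.ι ⁻¹ᵁ O')
      (Set.range fun g : G => (⟨(ρ g).hom u, hVu g⟩ : V.toScheme)) (Set.finite_range _) (by
        rintro _ ⟨g, rfl⟩
        refine hO'.2 fun k => ?_
        rw [show (V.ι (⟨(ρ g).hom u, hVu g⟩ : V.toScheme)) = (ρ g).hom u from rfl, ← hmul]
        exact ⟨hVu _, horb _⟩)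
    let D : X.Opens := V.ι ''ᵁ V.toScheme.basicOpen f
    have hD : IsAffineOpen D := ((isAffineOpen_top V.toScheme).basicOpen f).image_of_isOpenImmersion V.ι
    have hDO' : ∀ x ∈ D, x ∈ O' := by rintro _ ⟨z, hz, rfl⟩; exact hf hz
    let P : G → V.toScheme.Opens := fun g => V.ι ⁻¹ᵁ ((ρ g).hom ⁻¹ᵁ D)
    have hPle : ∀ g : G, (ρ g).hom ⁻¹ᵁ D ≤ V := fun g x hx => by
      have h1 := ((hO'.1 (hDO' _ hx)) g⁻¹).1
      rwa [← hmul, inv_mul_cancel, hone] at h1
    have hP : ∀ g, IsAffineOpen (P g) := fun g =>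
      haveI : IsIso (ρ g).hom := (ρ g).isIso_hom
      (hD.preimage (ρ g).hom).preimage_of_isOpenImmersion V.ι (by rw [Scheme.Opens.opensRange_ι]; exact hPle g)
    let W₀ : V.toScheme.Opens := Finset.univ.inf' Finset.univ_nonempty P
    have hW₀ : IsAffineOpen W₀ := Finset.inf'_induction _ _ (fun a ha b hb => ha.inf hb) fun g _ => hP g
    have hW₀' : ∀ {z}, z ∈ W₀ ↔ ∀ g, z ∈ P g := fun {z} => by
      refine ⟨fun hz g => Finset.inf'_le P (Finset.mem_univ g) hz, fun hz => ?_⟩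
      have : ∀ s : Finset G, ∀ hs : s.Nonempty, z ∈ s.inf' hs P := fun s hs =>
        Finset.inf'_induction (p := fun O : V.toScheme.Opens => z ∈ O) hs P (fun a ha b hb => ⟨ha, hb⟩) fun g _ => hz g
      exact this _ _
    let W : X.Opens := V.ι ''ᵁ W₀
    have hW : ∀ {x}, x ∈ W ↔ ∀ g : G, (ρ g).hom x ∈ D := fun {x} => by
      constructor
      · rintro ⟨z, hz, rfl⟩ g; exact hW₀'.1 hz g
      · intro hx; exact ⟨⟨x, hPle 1 (hx 1)⟩, hW₀'.2 fun g => hx g, rfl⟩
    refine ⟨W, hW₀.image_of_isOpenImmersion V.ι, hW.2 fun g => ⟨_, hFf ⟨g, rfl⟩, rfl⟩, fun x hx => ?_, ?_⟩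
    · have h1 := ((hO'.1 (hDO' _ (hW.1 hx 1))) 1).2
      rwa [hone, hone] at h1
    · apply TopologicalSpace.Opens.ext
      ext r
      have hinv : ∀ (g : G) (x : X), x ∈ W ↔ (ρ g).hom x ∈ W := fun g x => by
        rw [hW, hW]
        exact ⟨fun h k => by rw [← hmul]; exact h _, fun h k => by
          have := h (k * g⁻¹); rwa [← hmul, inv_mul_cancel_right] at this⟩
      obtain ⟨g, hg⟩ := SGA1Q.Glue.rel_iff.1 (⟨r, rfl, rfl⟩ : SGA1Q.Glue.Rel A (A.t r) (A.s r))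
      show A.s r ∈ W ↔ A.t r ∈ W
      rw [← hg]
      exact hinv g _
  obtain ⟨Y, p, ι, -, -, -, -, H, hint⟩ := SGA1Q.Glue.exists_quot cov
  haveI := hint
  exact ⟨Y, p, SGA1Q.OfPred.isQuot H inferInstance⟩

end Groth.Agent.S2907
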