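import Groth.Statements.S2910
import Groth.Agent.SGA1Q.Free
import Mathlib.AlgebraicGeometry.Morphisms.Etale

set_option autoImplicit false
open CategoryTheory CategoryTheory.Limits AlgebraicGeometry
universe u
open SGA1

namespace Groth.Agent.S2910

/-- Let a finite group G act faithfully on a connected scheme X, let p : X ⟶ Y be a quotient of X by G
with Y locally Noetherian and p finite, and suppose p is etale. Then G acts freely on the geometric
points of X (all inertia groups are trivial), and every automorphism of X over Y is the action of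
exactly one element of G. -/
theorem result {X Y : Scheme.{u}} {G : Type u} [Group G] [Finite G] (ρ : G →* Aut X)
    (p : X ⟶ Y) (hp : SGA1.IsQuot ρ p) [IsLocallyNoetherian Y] [IsFinite p] [ConnectedSpace X]
    (hfaith : Function.Injective ρ) [Etale p] :
    (∀ (K : Type u) [Field K] [IsAlgClosed K] (ξ : Spec (CommRingCat.of K) ⟶ X) (g : G), ξ ≫ (ρ g).hom = ξ → g = 1) ∧
    ∀ u : Aut X, u.hom ≫ p = p → ∃! g : G, ρ g = u := by
  haveI := hp.affine
  have eqv : ∀ (a b : X ⟶ X), a ≫ p = p → b ≫ p = p → ∀ (T : Scheme.{u}) (ξ : T ⟶ X) (z : T), ξ ≫ a = ξ ≫ b → a = b := by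
    intro a b ha hb T ξ z h
    let Δ := pullback.diagonal p
    let w := pullback.lift a b (ha.trans hb.symm)
    let i := pullback.fst w Δ
    haveI : IsOpenImmersion i := inferInstanceAs (IsOpenImmersion (pullback.fst w Δ))
    haveI : IsClosedImmersion i := inferInstanceAs (IsClosedImmersion (pullback.fst w Δ))
    let l : T ⟶ pullback w Δ := pullback.lift ξ (ξ ≫ a) (by
      apply pullback.hom_ext <;> simp [w, Δ, pullback.lift_fst, pullback.lift_snd, h])
    have hne : (Set.range i).Nonempty := ⟨i (l z), ⟨_, rfl⟩⟩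
    have hcl : IsClopen (Set.range i) := ⟨i.isClosedEmbedding.isClosed_range, i.isOpenEmbedding.isOpen_range⟩
    haveI : Surjective i := ⟨Set.range_eq_univ.1 (hcl.eq_univ hne)⟩
    haveI : IsIso i := (isIso_iff_isOpenImmersion_and_surjective _).mpr ⟨inferInstance, inferInstance⟩
    have e : i ≫ w = pullback.snd w Δ ≫ Δ := pullback.condition
    have e1 := congrArg (· ≫ pullback.fst p p) e
    have e2 := congrArg (· ≫ pullback.snd p p) e
    simp only [w, Δ, Category.assoc, pullback.lift_fst, pullback.lift_snd, pullback.diagonal_fst,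
      pullback.diagonal_snd, Category.comp_id] at e1 e2
    rw [← cancel_epi i]
    exact e1.trans e2.symm
  have hfree : ∀ (K : Type u) [Field K] [IsAlgClosed K] (ξ : Spec (CommRingCat.of K) ⟶ X) (g : G), ξ ≫ (ρ g).hom = ξ → g = 1 := by
    intro K _ _ ξ g h
    have h1 := eqv (ρ g).hom (𝟙 X) (hp.inv g) (Category.id_comp p) _ ξ (IsLocalRing.closedPoint K)
      (h.trans (Category.comp_id ξ).symm)
    exact hfaith ((Iso.ext h1 : ρ g = 1).trans (map_one ρ).symm)
  refine ⟨hfree, fun v hv => ?_⟩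
  obtain ⟨hP, -, -, -⟩ := SGA1Q.Free.main ρ hfree hp
  let r : X ⟶ ∐ fun _ : G => X := hP.lift (𝟙 X) v.hom (by rw [hv, Category.id_comp])
  obtain ⟨x⟩ := (inferInstance : Nonempty X)
  obtain ⟨g, hg⟩ := SGA1Q.Free.exists_piece r x
  let P := SGA1Q.Free.piece r g
  have e : P.ι ≫ r = P.ι ≫ CategoryTheory.Limits.Sigma.ι (fun _ : G => X) g := by
    have := SGA1Q.Free.piece_eq ρ r g P le_rfl
    rw [this, hP.lift_fst]
    simp
  have e2 : P.ι ≫ v.hom = P.ι ≫ (ρ g).hom := by
    have := congrArg (· ≫ SGA1Q.Base.actMap ρ) e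
    simpa [r, hP.lift_snd] using this
  refine ⟨g, Iso.ext (eqv (ρ g).hom v.hom (hp.inv g) hv _ P.ι ⟨x, hg⟩ e2.symm), fun g' hg' => hfaith ?_⟩
  exact hg'.trans (Iso.ext (eqv (ρ g).hom v.hom (hp.inv g) hv _ P.ι ⟨x, hg⟩ e2.symm) : ρ g = v).symm

end Groth.Agent.S2910
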