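import Groth.Statements.S2913
import Mathlib.AlgebraicGeometry.Morphisms.UniversallyClosed
import Mathlib.AlgebraicGeometry.Morphisms.Separated
import Mathlib.AlgebraicGeometry.Morphisms.Immersion
import Mathlib.AlgebraicGeometry.Morphisms.FiniteType
import Mathlib.AlgebraicGeometry.Morphisms.QuasiSeparated
import Mathlib.AlgebraicGeometry.Noetherian
import Mathlib.AlgebraicGeometry.Limits
import Mathlib.AlgebraicGeometry.ValuativeCriterion
import Mathlib.AlgebraicGeometry.PullbackCarrier
import Mathlib.AlgebraicGeometry.FunctionField
import Mathlib.Topology.Algebra.ClopenNhdofOne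
import Mathlib.RingTheory.Ideal.Height
import Mathlib.RingTheory.Ideal.KrullsHeightTheorem

set_option autoImplicit false
open CategoryTheory CategoryTheory.Limits AlgebraicGeometry Opposite
universe u
open SGA1

namespace Groth.Agent.S2913
open CategoryTheory CategoryTheory.Limits AlgebraicGeometry TopologicalSpace

/-- Let g : S' ⟶ S be a surjective morphism of schemes such that for every open U of S the map O_S(U) →
O_{S'}(g⁻¹U) is injective. Then g is an epimorphism in the category of schemes. -/
theorem result {S' S : Scheme.{u}} (g : S' ⟶ S) [Surjective g]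
    (hinj : ∀ U : S.Opens, Function.Injective (g.app U).hom) : Epi g := by
  refine ⟨fun {Z} a b hab => ?_⟩
  have hbase : a.base = b.base := by
    ext x; obtain ⟨x', rfl⟩ := g.surjective x
    have := congrArg (fun F => F x') (congrArg (fun F : S' ⟶ Z => (F : S' → Z)) hab)
    simpa using this
  refine Scheme.Hom.ext hbase fun U => ?_
  have hm : Mono (g.app (b ⁻¹ᵁ U)) := ConcreteCategory.mono_of_injective _ (hinj _)
  rw [← cancel_mono (g.app (b ⁻¹ᵁ U))]
  have := Scheme.Hom.congr_app hab U
  simp only [Scheme.Hom.comp_app, Category.assoc] at this ⊢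
  rw [g.naturality, reassoc_of% this]
  erw [Category.assoc, ← Functor.map_comp]
  refine (congrArg (fun q => (b.app U ≫ g.app (b ⁻¹ᵁ U)) ≫ q) ?_).trans (Category.comp_id _)
  exact (congrArg S'.presheaf.map (Subsingleton.elim _ (𝟙 _))).trans (S'.presheaf.map_id _)

end Groth.Agent.S2913
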