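import Groth.Statements.S2914
import Groth.Agent.SGA1Q.Pred2

set_option autoImplicit false
open CategoryTheory CategoryTheory.Limits AlgebraicGeometry Opposite
universe u
open SGA1

namespace Groth.Agent.S2914

/-- Let g : S' ⟶ S be a morphism of schemes whose underlying map is a quotient map, and such that for
every open U of S the sequence O_S(U) → O_{S'}(g⁻¹U) ⇉ O_{S''}(h⁻¹U) is an equalizer, where S'' = S'
×_S S' with structure map h and the two arrows are restriction along the projections. Then g is an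
effective epimorphism in the category of schemes. -/
theorem result {S' S : Scheme.{u}} (g : S' ⟶ S) (hq : Topology.IsQuotientMap g.base)
    (hinj : ∀ U : S.Opens, Function.Injective (g.app U).hom)
    (heq : ∀ (U : S.Opens) (s' : Γ(S', g ⁻¹ᵁ U)), (SGA1.overlapFstApp g U).hom s' = (SGA1.overlapSndApp g U).hom s' →
      s' ∈ Set.range (g.app U).hom) :
    EffectiveEpi g := by
  have rel : ∀ x y : S', g x = g y → ∃ r : ↥(pullback g g), pullback.snd g g r = x ∧ pullback.fst g g r = y := fun x y h => by
    obtain ⟨r, h₁, h₂⟩ := Scheme.Pullback.exists_preimage_pullback y x h.symm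
    exact ⟨r, h₂, h₁⟩
  have aff : ∀ E : S.Opens, SGA1Q.Pred2.AffUniv (pullback.fst g g) (pullback.snd g g) g E := by
    intro E Z _ f hf
    have hψ : (g ∣_ E).appTop = E.topIso.hom ≫ g.app E ≫ (g ⁻¹ᵁ E).topIso.inv := by
      rw [← Scheme.Hom.resLE_eq_morphismRestrict]
      exact (Scheme.Hom.resLE_app_top _ _).trans (by rw [Scheme.Hom.app_eq_appLE])
    let O : (pullback g g).Opens := pullback.fst g g ⁻¹ᵁ (g ⁻¹ᵁ E)
    have key : ∀ z, ((f.appTop ≫ (g ⁻¹ᵁ E).topIso.hom).hom z) ∈ (g.app E).hom.range := by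
      intro z
      refine heq E _ ?_
      have h := congrArg (fun m : O.toScheme ⟶ Z => m.appTop ≫ O.topIso.hom)
        (hf _ O.ι ((pullback.fst g g).resLE (g ⁻¹ᵁ E) O le_rfl)
          ((pullback.snd g g).resLE (g ⁻¹ᵁ E) O (SGA1.fst_preimage_eq_snd_preimage g E).le)
          (Scheme.Hom.resLE_comp_ι _ _) (Scheme.Hom.resLE_comp_ι _ _))
      simp only [Scheme.Hom.comp_appTop] at h
      rw [show ((pullback.fst g g).resLE (g ⁻¹ᵁ E) O le_rfl).appTop = _ from Scheme.Hom.resLE_app_top _ _,
        show ((pullback.snd g g).resLE (g ⁻¹ᵁ E) O (SGA1.fst_preimage_eq_snd_preimage g E).le).appTop = _ from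
          Scheme.Hom.resLE_app_top _ _] at h
      simp only [Category.assoc, Iso.inv_hom_id, Category.comp_id] at h
      have h' := congrArg (fun m => m.hom z) h
      rw [SGA1.overlapFstApp, SGA1.overlapSndApp, Scheme.Hom.app_eq_appLE]
      exact h'
    let eq := RingEquiv.ofBijective (g.app E).hom.rangeRestrict ⟨fun a b h => hinj E (congrArg Subtype.val h),
      RingHom.rangeRestrict_surjective _⟩
    let φ : Γ(Z, ⊤) ⟶ Γ(E.toScheme, ⊤) :=
      CommRingCat.ofHom (eq.symm.toRingHom.comp ((f.appTop ≫ (g ⁻¹ᵁ E).topIso.hom).hom.codRestrict _ key)) ≫ E.topIso.inv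
    have hφ : φ ≫ (g ∣_ E).appTop = f.appTop := by
      rw [hψ]
      simp only [φ, Category.assoc, Iso.inv_hom_id_assoc]
      rw [← Category.assoc, Iso.comp_inv_eq]
      ext z
      exact congrArg Subtype.val (eq.apply_symm_apply ⟨_, key z⟩)
    have hinj' : Function.Injective (g ∣_ E).appTop.hom := by
      rw [hψ]
      simp only [CommRingCat.hom_comp, RingHom.coe_comp]
      exact ((g ⁻¹ᵁ E).topIso.commRingCatIsoToRingEquiv.symm.injective).comp
        ((hinj E).comp E.topIso.commRingCatIsoToRingEquiv.injective)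
    refine ⟨E.toScheme.toSpecΓ ≫ Spec.map φ ≫ Z.isoSpec.inv, ?_, fun v hv => ?_⟩
    · show g ∣_ E ≫ _ = f
      rw [← cancel_mono Z.isoSpec.hom]
      simp only [Category.assoc, Iso.inv_hom_id, Category.comp_id]
      rw [Scheme.toSpecΓ_naturality_assoc, ← Spec.map_comp, hφ]
      exact (Scheme.toSpecΓ_naturality f).symm
    · rw [← cancel_mono Z.isoSpec.hom]
      simp only [Category.assoc, Iso.inv_hom_id, Category.comp_id]
      refine (Scheme.toSpecΓ_naturality v).trans ?_
      have h1 : v.appTop ≫ (g ∣_ E).appTop = φ ≫ (g ∣_ E).appTop := by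
        rw [hφ, ← Scheme.Hom.comp_appTop]; exact congrArg Scheme.Hom.appTop hv
      have : v.appTop = φ := by
        ext z
        exact hinj' (congrArg (fun m => m.hom z) h1)
      rw [this]
  have H : SGA1Q.Pred2.IsQuot (pullback.fst g g) (pullback.snd g g) g :=
    ⟨pullback.condition, hq.surjective, hq, rel, fun y V hy => ⟨V, hy, le_rfl, aff V⟩⟩
  exact ⟨⟨{
    desc := fun e he => (SGA1Q.Pred2.exists_desc H e (he _ _ pullback.condition)).choose
    fac := fun e he => (SGA1Q.Pred2.exists_desc H e (he _ _ pullback.condition)).choose_spec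
    uniq := fun e he m hm => SGA1Q.Pred2.unique_desc H _ _
      (hm.trans (SGA1Q.Pred2.exists_desc H e (he _ _ pullback.condition)).choose_spec.symm) }⟩⟩

end Groth.Agent.S2914
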