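import Groth.Statements.S2919
import Groth.Agent.SGA1Q.Free

set_option autoImplicit false
open CategoryTheory CategoryTheory.Limits AlgebraicGeometry
universe u
open SGA1

namespace Groth.Agent.S2919

/-- Let a finite group G act on X, p : X ⟶ Y a quotient with Y locally Noetherian and p finite, G acting
freely on geometric points, and suppose p has a section. Then the morphism from the disjoint union
of copies of Y indexed by G to X which is s followed by the action of g on the g-th copy is an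
isomorphism. -/
theorem result {X Y : Scheme.{u}} {G : Type u} [Group G] [Finite G] (ρ : G →* Aut X)
    (p : X ⟶ Y) (hp : SGA1.IsQuot ρ p) [IsLocallyNoetherian Y] [IsFinite p]
    (hfree : (∀ (K : Type u) [Field K] [IsAlgClosed K] (ξ : Spec (CommRingCat.of K) ⟶ X) (g : G), ξ ≫ (ρ g).hom = ξ → g = 1)) (s : Y ⟶ X) (hs : s ≫ p = 𝟙 Y) :
    IsIso (Sigma.desc (fun g : G => s ≫ (ρ g).hom) : (∐ fun _ : G => Y) ⟶ X) := by
  classical
  obtain ⟨hP, -, -, -⟩ := SGA1Q.Free.main ρ hfree hp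
  let K : (∐ fun _ : G => Y) ⟶ ∐ fun _ : G => X :=
    CategoryTheory.Limits.Sigma.desc fun g => s ≫ CategoryTheory.Limits.Sigma.ι (fun _ : G => X) g
  let L : (∐ fun _ : G => X) ⟶ ∐ fun _ : G => Y :=
    CategoryTheory.Limits.Sigma.desc fun g => p ≫ CategoryTheory.Limits.Sigma.ι (fun _ : G => Y) g
  let J : (∐ fun _ : G => Y) ⟶ X := CategoryTheory.Limits.Sigma.desc fun g => s ≫ (ρ g).hom
  let π : (∐ fun _ : G => Y) ⟶ Y := CategoryTheory.Limits.Sigma.desc fun _ => 𝟙 Y
  have hKJ : K ≫ SGA1Q.Base.actMap ρ = J := CategoryTheory.Limits.Sigma.hom_ext _ _ fun g => by simp [K, J]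
  have hKs : K ≫ SGA1Q.Base.srcMap ρ = π ≫ s := CategoryTheory.Limits.Sigma.hom_ext _ _ fun g => by simp [K, π]
  have hπ : J ≫ p = π := CategoryTheory.Limits.Sigma.hom_ext _ _ fun g => by simp [J, π, hp.inv g, hs]
  have hKL : K ≫ L = 𝟙 _ := CategoryTheory.Limits.Sigma.hom_ext _ _ fun g => by simp [K, L, reassoc_of% hs]
  let r : X ⟶ ∐ fun _ : G => X := hP.lift (p ≫ s) (𝟙 X) (by simp [hs])
  have hrs : r ≫ SGA1Q.Base.srcMap ρ = p ≫ s := hP.lift_fst _ _ _
  have hrt : r ≫ SGA1Q.Base.actMap ρ = 𝟙 X := hP.lift_snd _ _ _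
  have hr : r ≫ L ≫ K = r := by
    refine (X.openCoverOfIsOpenCover (fun g => SGA1Q.Free.piece r g) (TopologicalSpace.IsOpenCover.mk (eq_top_iff.2
      fun x _ => TopologicalSpace.Opens.mem_iSup.2 (SGA1Q.Free.exists_piece r x)))).hom_ext _ _ fun (g : G) => ?_
    show (SGA1Q.Free.piece r g).ι ≫ r ≫ L ≫ K = (SGA1Q.Free.piece r g).ι ≫ r
    have e := SGA1Q.Free.piece_eq ρ r g (SGA1Q.Free.piece r g) le_rfl
    rw [hrs] at e
    rw [← Category.assoc (SGA1Q.Free.piece r g).ι r, e]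
    simp [L, K, reassoc_of% hs]
  refine ⟨r ≫ L, ?_, ?_⟩
  · show J ≫ r ≫ L = 𝟙 _
    have : J ≫ r = K := SGA1Q.Free.joint ρ hfree _ _
      (by rw [Category.assoc, hrt, Category.comp_id, hKJ]) (by rw [Category.assoc, hrs, ← Category.assoc, hπ, hKs])
    rw [reassoc_of% this, hKL]
  · show (r ≫ L) ≫ J = 𝟙 _
    rw [← hKJ, Category.assoc, ← Category.assoc L, ← Category.assoc r, hr, hrt]

end Groth.Agent.S2919
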