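import Groth.Statements.S2954
import Groth.Agent.RootDat.Shadow

set_option autoImplicit false
open RootPairing
open scoped Pointwise
universe u
open RootD

open RootPairing Groth.Agent.RootDat.Form Groth.Agent.RootDat.Pos Groth.Agent.RootDat.Weyl Groth.Agent.RootDat.Exist
namespace Groth.Agent.S2954

/-- For a finite crystallographic reduced root pairing (over a domain of characteristic zero), the Weyl
group acts freely and transitively on bases: for two bases b, b' there is exactly one element of the
Weyl group carrying the set of simple roots of b onto that of b'. -/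
theorem result {ι R M N : Type*} [CommRing R] [CharZero R] [IsDomain R] [AddCommGroup M] [Module R M]
    [AddCommGroup N] [Module R N] (P : RootPairing ι R M N) [Finite ι] [P.IsCrystallographic] [P.IsReduced]
    (b b' : P.Base) :
    ∃! g : P.weylGroup, (fun i : ι => (g : P.Aut) • i) '' (b.support : Set ι) = (b'.support : Set ι) := by
  open Groth.Agent.RootDat in
  obtain ⟨g', hg', himg⟩ := Trans.transitive_simpleSys (Shadow.shadow P)
    (BaseB.isSimpleSys_base (Shadow.base P b)) (BaseB.isSimpleSys_base (Shadow.base P b'))
  obtain ⟨g, hg, he⟩ := Groth.Agent.RootDat.Shadow.exists_lift_weyl P hg'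
  have himg' : (fun i : ι => g • i) '' (b.support : Set ι) = (b'.support : Set ι) := by
    rw [show (fun i : ι => g • i) = fun i => g' • i from funext he]
    exact himg
  refine ⟨⟨g, hg⟩, himg', fun g₁ h₁ => ?_⟩
  have hone : g⁻¹ * (g₁ : P.Aut) = 1 := by
    refine Groth.Agent.RootDat.Shadow.eq_one_of_pos P b (mul_mem (inv_mem hg) g₁.2) fun i hi => ?_
    have : (g₁ : P.Aut) • i ∈ (fun i : ι => g • i) '' (b.support : Set ι) := by
      rw [himg', ← h₁]; exact ⟨i, hi, rfl⟩
    obtain ⟨k, hk, hk'⟩ := this
    rw [mul_smul, ← show g • k = (g₁ : P.Aut) • i from hk', inv_smul_smul]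
    exact RootPairing.Base.isPos_of_mem_support hk
  exact Subtype.ext (inv_mul_eq_one.mp hone).symm

end Groth.Agent.S2954
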