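import Groth.Statements.S2955


set_option autoImplicit false
open RootPairing
open scoped Pointwise Classical
universe u
open RootD

namespace Groth.Agent.S2955

/-- Let P be a finite crystallographic reduced root pairing over a domain of characteristic zero, with a
base b, and write 2ρ for the sum of the positive roots with respect to b. Then for every simple root
β (an index in the support of b) the reflection in β sends 2ρ to 2ρ − 2β (equivalently, the coroot
of β pairs to 1 with ρ; only the reflection identity is asserted). -/
theorem result {ι R M N : Type*} [CommRing R] [CharZero R] [IsDomain R] [AddCommGroup M] [Module R M]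
    [AddCommGroup N] [Module R N] (P : RootPairing ι R M N) [Finite ι] [P.IsCrystallographic] [P.IsReduced]
    [Fintype ι] (b : P.Base) (j : ι) (hj : j ∈ b.support) :
    P.reflection j (∑ i, if b.IsPos i then P.root i else 0) =
      (∑ i, if b.IsPos i then P.root i else 0) - (2 : R) • P.root j := by
  classical
  have e : ∀ i, P.reflection j (P.root i) = P.root (P.reflectionPerm j i) := fun i => (P.root_reflectionPerm j i).symm
  have hj1 : b.IsPos j := RootPairing.Base.isPos_of_mem_support hj
  have key : ∀ i, i ≠ j → i ≠ P.reflectionPerm j j → (b.IsPos (P.reflectionPerm j i) ↔ b.IsPos i) := by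
    intro i h1 h2
    refine ⟨fun h => ?_, fun h => h.reflectionPerm hj h1⟩
    have h3 : P.reflectionPerm j i ≠ j := fun h' => h2 (by rw [← P.reflectionPerm_self j i, h'])
    have := h.reflectionPerm hj h3
    rwa [P.reflectionPerm_self] at this
  let f : ι → M := fun i => if b.IsPos i then P.root i else 0
  have hneg : ¬ b.IsPos (P.reflectionPerm j j) := by
    intro h
    rw [RootPairing.Base.isPos_iff] at h hj1
    letI := P.indexNeg
    have h' : b.height (P.reflectionPerm j j) = -b.height j := b.height_reflectionPerm_self j
    rw [h'] at h
    omega
  have hne : P.reflectionPerm j j ≠ j := fun h => hneg (h.symm ▸ hj1)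
  show P.reflection j (∑ i, f i) = (∑ i, f i) - (2 : R) • P.root j
  rw [map_sum, ← Equiv.sum_comp (P.reflectionPerm j) (fun i => P.reflection j (f i)), sub_eq_add_neg, ← Finset.add_sum_erase _ _ (Finset.mem_univ j), ← Finset.add_sum_erase _ _ (Finset.mem_erase.mpr ⟨hne, Finset.mem_univ _⟩)]
  rw [← Finset.add_sum_erase _ f (Finset.mem_univ j), ← Finset.add_sum_erase _ f (Finset.mem_erase.mpr ⟨hne, Finset.mem_univ (P.reflectionPerm j j)⟩)]
  have hrest : ∀ i ∈ (Finset.univ.erase j).erase (P.reflectionPerm j j), P.reflection j (f (P.reflectionPerm j i)) = f i := by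
    intro i hi
    simp only [Finset.mem_erase, Finset.mem_univ, and_true] at hi
    simp only [f, key i hi.2 hi.1]
    split_ifs with h
    · rw [e, P.reflectionPerm_self]
    · rw [map_zero]
  rw [Finset.sum_congr rfl hrest, P.reflectionPerm_self]
  simp only [f, if_pos hj1, if_neg hneg, map_zero, P.reflection_apply_self, two_smul]
  abel

end Groth.Agent.S2955
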