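import Groth.Statements.S2957
import Groth.Agent.RootDat.Shadow
import Mathlib.Tactic.Linarith

set_option autoImplicit false
open RootPairing
open scoped Pointwise
universe u
open RootD

open RootPairing Groth.Agent.RootDat.Form Groth.Agent.RootDat.Pos Groth.Agent.RootDat.Weyl Groth.Agent.RootDat.Exist
namespace Groth.Agent.S2957

/-- For a finite crystallographic reduced root pairing with a base b: let α, β be simple roots and w an
element of the Weyl group with w(α) = β. Then there are simple roots α = α_0, ..., α_m = β and Weyl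
group elements w_0, ..., w_{m-1} with w = w_{m-1} ... w_0, w_i(α_i) = α_{i+1}, and each w_i lying in
the subgroup generated by the reflections in α_i and in a simple root γ_i, where γ_i = α_{i+1}
whenever α_i ≠ α_{i+1}. -/
theorem result {ι R M N : Type*} [CommRing R] [CharZero R] [IsDomain R] [AddCommGroup M] [Module R M]
    [AddCommGroup N] [Module R N] (P : RootPairing ι R M N) [Finite ι] [P.IsCrystallographic] [P.IsReduced]
    (b : P.Base) (α β : ι) (hα : α ∈ b.support) (hβ : β ∈ b.support) (w : P.Aut) (hw : w ∈ P.weylGroup)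
    (hwα : w • α = β) :
    ∃ (m : ℕ) (a : Fin (m + 1) → ι) (ws : Fin m → P.Aut),
      (∀ i, a i ∈ b.support) ∧ a 0 = α ∧ a (Fin.last m) = β ∧
      (∀ i, ws i ∈ P.weylGroup) ∧
      w = (List.ofFn fun i : Fin m => ws (Fin.rev i)).prod ∧
      (∀ i : Fin m, ws i • a (Fin.castSucc i) = a (Fin.succ i)) ∧
      ∀ i : Fin m, ∃ γ ∈ b.support,
        ws i ∈ Subgroup.closure {Equiv.reflection P (a (Fin.castSucc i)), Equiv.reflection P γ} ∧
        (a (Fin.castSucc i) ≠ a (Fin.succ i) → γ = a (Fin.succ i)) := by
  classical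
  haveI : Fintype ι := Fintype.ofFinite ι
  letI := P.indexNeg
  let Neg' : P.Aut → Finset ι := fun g => Finset.univ.filter fun i => b.IsPos i ∧ ¬ b.IsPos (g • i)
  have hN : ∀ g i, i ∈ Neg' g ↔ b.IsPos i ∧ ¬ b.IsPos (g • i) := fun g i => by simp [Neg']
  have hsimp : ∀ i ∈ b.support, b.IsPos i := fun i hi => RootPairing.Base.isPos_of_mem_support hi
  have hnegself : ∀ i, b.IsPos i → ¬ b.IsPos (P.reflectionPerm i i) := fun i hi h =>
    (RootPairing.Base.IsPos.neg_iff_not b i).mp h hi
  -- dropping a descent shortens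
  have hdrop : ∀ (g : P.Aut), ∀ δ ∈ b.support, ¬ b.IsPos (g • δ) →
      (Neg' (g * RootPairing.Equiv.reflection P δ)).card < (Neg' g).card := by
    intro g δ hδ hg
    refine lt_of_le_of_lt (Finset.card_le_card_of_injOn (fun i => P.reflectionPerm δ i) (t := (Neg' g).erase δ) ?_ ?_) (Finset.card_erase_lt_of_mem ((hN g δ).mpr ⟨hsimp δ hδ, hg⟩))
    · intro i hi
      obtain ⟨hi1, hi2⟩ := (hN _ i).mp hi
      rw [mul_smul] at hi2
      have hne : i ≠ δ := by
        rintro rfl
        refine hi2 ?_
        have e : g • (RootPairing.Equiv.reflection P i • i) = P.reflectionPerm (g • i) (g • i) := by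
          refine P.root.injective ?_
          show P.root (g • P.reflectionPerm i i) = _
          rw [show P.root (g • P.reflectionPerm i i) = g • P.root (P.reflectionPerm i i) from (RootPairing.Hom.root_weightMap_apply _ _ _ _).symm,
            P.root_reflectionPerm, P.reflection_apply_self, smul_neg, P.root_reflectionPerm, P.reflection_apply_self]
          congr 1
          exact RootPairing.Hom.root_weightMap_apply _ _ _ _
        rw [e]
        exact (RootPairing.Base.IsPos.neg_iff_not b (g • i)).mpr hg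
      simp only [Finset.mem_coe, Finset.mem_erase, hN]
      exact ⟨fun h => hnegself δ (hsimp δ hδ) (by rw [← P.reflectionPerm_self δ i] at hi1; rw [h] at hi1; exact hi1),
        hi1.reflectionPerm hδ hne, hi2⟩
    · exact (P.reflectionPerm δ).injective.injOn
  have hht : ∀ (j a c : ι) (p q : ℤ), P.root j = p • P.root a + q • P.root c → b.height j = p * b.height a + q * b.height c := by
    intro j a c p q h
    obtain ⟨f, -, -, hf⟩ := b.exists_root_eq_sum_int a
    obtain ⟨f', -, -, hf'⟩ := b.exists_root_eq_sum_int c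
    rw [RootPairing.Base.height_eq_sum hf, RootPairing.Base.height_eq_sum hf', RootPairing.Base.height_eq_sum (f := fun x => p * f x + q * f' x), Finset.sum_add_distrib, Finset.mul_sum, Finset.mul_sum]
    rw [h, hf, hf', Finset.smul_sum, Finset.smul_sum, ← Finset.sum_add_distrib]
    exact Finset.sum_congr rfl fun x _ => by rw [smul_smul, smul_smul, add_smul]
  suffices key : ∀ n (α : ι) (w : P.Aut), α ∈ b.support → w ∈ P.weylGroup → w • α = β → (Neg' w).card ≤ n →
      ∃ (m : ℕ) (a : Fin (m + 1) → ι) (ws : Fin m → P.Aut),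
        (∀ i, a i ∈ b.support) ∧ a 0 = α ∧ a (Fin.last m) = β ∧ (∀ i, ws i ∈ P.weylGroup) ∧
        w = (List.ofFn fun i : Fin m => ws (Fin.rev i)).prod ∧
        (∀ i : Fin m, ws i • a (Fin.castSucc i) = a (Fin.succ i)) ∧
        ∀ i : Fin m, ∃ γ ∈ b.support,
          ws i ∈ Subgroup.closure {RootPairing.Equiv.reflection P (a (Fin.castSucc i)), RootPairing.Equiv.reflection P γ} ∧
          (a (Fin.castSucc i) ≠ a (Fin.succ i) → γ = a (Fin.succ i)) from key _ α w hα hw hwα le_rfl
  intro n
  induction n with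
  | zero =>
    intro α w hα hw hwα h0
    have hw1 : w = 1 := Groth.Agent.RootDat.Shadow.eq_one_of_pos P b hw fun i hi => by
      by_contra h
      have := Finset.card_pos.mpr ⟨i, (hN w i).mpr ⟨hsimp i hi, h⟩⟩
      omega
    subst hw1
    rw [one_smul] at hwα
    exact ⟨0, fun _ => α, Fin.elim0, fun _ => hα, rfl, hwα, fun i => i.elim0, by simp, fun i => i.elim0, fun i => i.elim0⟩
  | succ n ih =>
    intro α w hα hw hwα hcard
    by_cases hex : ∃ γ ∈ b.support, ¬ b.IsPos (w • γ)
    swap
    · push Not at hex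
      have hw1 : w = 1 := Groth.Agent.RootDat.Shadow.eq_one_of_pos P b hw hex
      subst hw1
      rw [one_smul] at hwα
      exact ⟨0, fun _ => α, Fin.elim0, fun _ => hα, rfl, hwα, fun i => i.elim0, by simp, fun i => i.elim0, fun i => i.elim0⟩
    obtain ⟨γ, hγ, hwγ⟩ := hex
    have hαγ : α ≠ γ := by
      rintro rfl
      exact hwγ (by rw [hwα]; exact hsimp β hβ)
    let H := Subgroup.closure {RootPairing.Equiv.reflection P α, RootPairing.Equiv.reflection P γ}
    have hrH : ∀ δ, δ = α ∨ δ = γ → RootPairing.Equiv.reflection P δ ∈ H := fun δ hδ =>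
      Subgroup.subset_closure (by rcases hδ with rfl | rfl <;> simp)
    have hHW : H ≤ P.weylGroup := (Subgroup.closure_le _).mpr (by
      rintro _ (rfl | rfl) <;> exact P.reflection_mem_weylGroup _)
    obtain ⟨v, hvH, hmin⟩ : ∃ v ∈ H, ∀ v' ∈ H, (Neg' (w * v⁻¹)).card ≤ (Neg' (w * v'⁻¹)).card := by
      have hne : ∃ k, ∃ v ∈ H, (Neg' (w * v⁻¹)).card = k := ⟨_, 1, one_mem _, rfl⟩
      obtain ⟨v, hv, hv'⟩ := Nat.find_spec hne
      exact ⟨v, hv, fun v' hv'' => hv' ▸ Nat.find_min' hne ⟨v', hv'', rfl⟩⟩
    have hpos : ∀ δ, δ = α ∨ δ = γ → b.IsPos ((w * v⁻¹) • δ) := by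
      intro δ hδ
      by_contra h
      have h1 := hdrop (w * v⁻¹) δ (by rcases hδ with rfl | rfl <;> assumption) h
      have h2 := hmin ((RootPairing.Equiv.reflection P δ)⁻¹ * v) (mul_mem (inv_mem (hrH δ hδ)) hvH)
      rw [mul_inv_rev, inv_inv, ← mul_assoc] at h2
      omega
    have hlt : (Neg' (w * v⁻¹)).card ≤ n := by
      have h1 := hdrop w γ hγ hwγ
      have h2 := hmin (RootPairing.Equiv.reflection P γ) (hrH γ (Or.inr rfl))
      rw [RootPairing.Equiv.reflection_inv] at h2
      omega
    have hspan : ∀ h ∈ H, ∀ i, P.root i ∈ Submodule.span ℤ {P.root α, P.root γ} → P.root (h • i) ∈ Submodule.span ℤ {P.root α, P.root γ} := by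
      intro h hh
      induction hh using Subgroup.closure_induction'' with
      | one => intro i hi; rwa [one_smul]
      | mem x hx =>
        intro i hi
        obtain ⟨δ, hδ, rfl⟩ : ∃ δ, (δ = α ∨ δ = γ) ∧ x = RootPairing.Equiv.reflection P δ := by
          rcases hx with rfl | rfl
          exacts [⟨α, Or.inl rfl, rfl⟩, ⟨γ, Or.inr rfl, rfl⟩]
        show P.root (P.reflectionPerm δ i) ∈ _
        rw [P.root_reflectionPerm, P.reflection_apply_root, ← Groth.Agent.RootDat.Shadow.pairingIn_cast P, Int.cast_smul_eq_zsmul]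
        exact sub_mem hi (Submodule.smul_mem _ _ (Submodule.subset_span (by rcases hδ with rfl | rfl <;> simp)))
      | inv_mem x hx =>
        intro i hi
        obtain ⟨δ, hδ, rfl⟩ : ∃ δ, (δ = α ∨ δ = γ) ∧ x = RootPairing.Equiv.reflection P δ := by
          rcases hx with rfl | rfl
          exacts [⟨α, Or.inl rfl, rfl⟩, ⟨γ, Or.inr rfl, rfl⟩]
        rw [RootPairing.Equiv.reflection_inv]
        show P.root (P.reflectionPerm δ i) ∈ _
        rw [P.root_reflectionPerm, P.reflection_apply_root, ← Groth.Agent.RootDat.Shadow.pairingIn_cast P, Int.cast_smul_eq_zsmul]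
        exact sub_mem hi (Submodule.smul_mem _ _ (Submodule.subset_span (by rcases hδ with rfl | rfl <;> simp)))
      | mul x y _ _ hx hy => intro i hi; rw [mul_smul]; exact hx _ (hy i hi)
    obtain ⟨p, q, hpq⟩ := Submodule.mem_span_pair.mp (hspan v hvH α (Submodule.subset_span (by simp)))
    obtain ⟨f, -, hsgn, hf⟩ := b.exists_root_eq_sum_int (v • α)
    have hfp : f α = p ∧ f γ = q := by
      let g : ι → ℤ := fun x => if x = α then p else if x = γ then q else 0
      have hsum : ∑ x ∈ b.support, ((f x - g x : ℤ) : R) • P.root x = 0 := by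
        simp only [Int.cast_smul_eq_zsmul, sub_smul, Finset.sum_sub_distrib, ← hf]
        rw [Finset.sum_eq_add_of_mem (f := fun x => g x • P.root x) α γ hα hγ hαγ (fun x _ hx => by simp [g, hx.1, hx.2])]
        simp [g, hαγ.symm, hpq]
      have h0 := linearIndepOn_finset_iff.mp b.linearIndepOn_root _ hsum
      have h1 := h0 α hα
      have h2 := h0 γ hγ
      simp only [g, Int.cast_eq_zero, if_true, if_neg hαγ.symm, sub_eq_zero] at h1 h2
      exact ⟨h1, h2⟩
    have hroot : ∀ (g : P.Aut) (i : ι), g • P.root i = P.root (g • i) := fun g i => RootPairing.Hom.root_weightMap_apply _ _ _ _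
    have hβeq : P.root β = p • P.root ((w * v⁻¹) • α) + q • P.root ((w * v⁻¹) • γ) := by
      rw [← hwα, show w • α = (w * v⁻¹) • (v • α) by rw [← mul_smul, inv_mul_cancel_right],
        ← hroot _ (v • α), ← hpq, smul_add, ← hroot, ← hroot, smul_comm, smul_comm (w * v⁻¹) q]
    have h1 := hht β _ _ p q hβeq
    rw [b.height_one_of_mem_support hβ] at h1
    have hA := (RootPairing.Base.isPos_iff b).mp (hpos α (Or.inl rfl))
    have hC := (RootPairing.Base.isPos_iff b).mp (hpos γ (Or.inr rfl))
    have hpq01 : (p = 1 ∧ q = 0) ∨ (p = 0 ∧ q = 1) := by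
      rcases hsgn with h | h
      · have hp : 0 ≤ p := hfp.1 ▸ h.le α
        have hq : 0 ≤ q := hfp.2 ▸ h.le γ
        have hp1 : p ≤ 1 := by nlinarith
        have hq1 : q ≤ 1 := by nlinarith
        interval_cases p <;> interval_cases q <;> omega
      · have hp : p ≤ 0 := hfp.1 ▸ h.le α
        have hq : q ≤ 0 := hfp.2 ▸ h.le γ
        nlinarith
    have hv1 : v • α = α ∨ v • α = γ := by
      rcases hpq01 with ⟨rfl, rfl⟩ | ⟨rfl, rfl⟩
      · exact Or.inl (P.root.injective (by rw [← hpq]; simp))
      · exact Or.inr (P.root.injective (by rw [← hpq]; simp))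
    obtain ⟨m, a, ws, ha, ha0, halast, hws, hprod, hact, hcl⟩ := ih (v • α) (w * v⁻¹)
      (by rcases hv1 with h | h <;> rw [h] <;> assumption) (mul_mem hw (inv_mem (hHW hvH)))
      (by rw [← mul_smul, inv_mul_cancel_right, hwα]) hlt
    refine ⟨m + 1, Fin.cons α a, Fin.cons v ws, ?_, rfl, ?_, ?_, ?_, ?_, ?_⟩
    · exact Fin.cases hα ha
    · rw [show Fin.last (m + 1) = (Fin.last m).succ from rfl, Fin.cons_succ, halast]
    · exact Fin.cases (hHW hvH) hws
    · rw [List.ofFn_succ', List.concat_eq_append, List.prod_append]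
      simp only [Fin.rev_castSucc, Fin.cons_succ, Fin.rev_last, Fin.cons_zero, List.prod_singleton]
      rw [← hprod, inv_mul_cancel_right]
    · intro i
      induction i using Fin.cases with
      | zero => simp [ha0]
      | succ i => simp only [Fin.cons_succ, ← Fin.succ_castSucc]; exact hact i
    · intro i
      induction i using Fin.cases with
      | zero =>
        refine ⟨γ, hγ, by simpa using hvH, ?_⟩
        simp only [Fin.castSucc_zero, Fin.cons_zero, Fin.cons_succ, ha0]
        intro hne
        rcases hv1 with h | h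
        · exact absurd h.symm hne
        · exact h.symm
      | succ i => simp only [Fin.cons_succ, ← Fin.succ_castSucc]; exact hcl i

end Groth.Agent.S2957
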