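import Groth.Statements.S2978
import Mathlib

set_option autoImplicit false
universe u
open SGA3b

namespace Groth.Agent.S2978

/-- Let A be a Noetherian ring, M a set and a : M × M → A a family vanishing off the diagonal which is a
finite sum of decomposable families: a(m, m') = Σ_i b_i(m) c_i(m') for finitely many b_i, c_i : M →
A. Then a has finite support. -/
theorem result (A : Type u) [CommRing A] [IsNoetherianRing A] (M : Type u)
    (a : M × M → A) (hdiag : ∀ m m', m ≠ m' → a (m, m') = 0)
    (ι : Type u) [Fintype ι] (b c : ι → M → A) (hdec : ∀ m m', a (m, m') = ∑ i, b i m * c i m') :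
    Set.Finite {p : M × M | a p ≠ 0} := by
  classical
  let v : M → M → A := fun m' m => a (m, m')
  have hv : ∀ m', v m' ∈ Submodule.span A (Set.range b) := fun m' => by
    have : v m' = ∑ i, c i m' • b i := by
      funext m
      simp [v, hdec, Finset.sum_apply, mul_comm]
    rw [this]
    exact Submodule.sum_mem _ fun i _ => Submodule.smul_mem _ _ (Submodule.subset_span ⟨i, rfl⟩)
  have hN : (Submodule.span A (Set.range b)).FG := Submodule.fg_span (Set.finite_range b)
  have := isNoetherian_of_fg_of_noetherian _ hN
  have hD : (Submodule.span A (Set.range v)).FG :=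
    hN.of_le (Submodule.span_le.2 (by rintro _ ⟨m', rfl⟩; exact hv m'))
  obtain ⟨T, hT, hTs⟩ := Submodule.fg_span_iff_fg_span_finset_subset _ |>.1 hD
  let F : Set M := ⋃ w ∈ (T : Set (M → A)), Function.support w
  have hF : F.Finite := T.finite_toSet.biUnion fun w hw => by
    obtain ⟨m', rfl⟩ := hT hw
    exact (Set.finite_singleton m').subset fun m hm => by
      by_contra hne
      exact hm (hdiag m m' hne)
  refine ((hF.image fun m => (m, m))).subset ?_
  rintro ⟨m, m'⟩ hp
  obtain rfl : m = m' := not_not.1 fun hne => hp (hdiag m m' hne)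
  refine ⟨m, ?_, rfl⟩
  by_contra hm
  have h0 : Submodule.span A (T : Set (M → A)) ≤ LinearMap.ker (LinearMap.proj m : (M → A) →ₗ[A] A) :=
    Submodule.span_le.2 fun w hw => not_not.1 fun h => hm (Set.mem_iUnion₂.2 ⟨w, hw, h⟩)
  exact hp (h0 (hTs ▸ Submodule.subset_span ⟨m, rfl⟩ : v m ∈ Submodule.span A (T : Set (M → A))))

end Groth.Agent.S2978
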