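import Groth.Statements.S3025
import Groth.Agent.HopfRep.ConnSep

set_option autoImplicit false
universe u
open CategoryTheory MonoidalCategory CartesianMonoidalCategory MonObj GrpObj AlgebraicGeometry TensorProduct
open SGA3

namespace Groth.Agent.S3025

/-- Let S be a scheme and G a group scheme over S which is locally of finite presentation and
universally open over S and whose fibres are connected. Then G is separated and quasi-compact (hence
of finite presentation) over S. -/
theorem result (S : Scheme.{u}) (G : Over S) [GrpObj G]
    [LocallyOfFinitePresentation G.hom] [UniversallyOpen G.hom]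
    (hconn : ∀ s : S, _root_.IsConnected (G.hom.base ⁻¹' {s})) :
    IsSeparated G.hom ∧ QuasiCompact G.hom := by
  have hc : ∀ s : S, ConnectedSpace ↥(G.hom.fiber s) := fun s => by
    have h := hconn s
    rw [show G.hom.base ⁻¹' {s} = Set.range (G.hom.fiberι s) from (Scheme.Hom.range_fiberι _ _).symm] at h
    have : _root_.IsPreconnected (Set.univ : Set ↥(G.hom.fiber s)) := by
      rw [← (G.hom.fiberι s).isEmbedding.isInducing.isPreconnected_image, Set.image_univ]
      exact h.isPreconnected
    obtain ⟨_, x, -⟩ := h.nonempty
    exact { toPreconnectedSpace := ⟨this⟩, toNonempty := ⟨x⟩ }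
  exact ⟨Groth.Agent.HopfRep.TransSep.isSeparated hc (Groth.Agent.HopfRep.ConnSep.regular G)
    (Groth.Agent.HopfRep.ConnSep.surjective_shear G), Groth.Agent.HopfRep.ConnSep.quasiCompact hc⟩

end Groth.Agent.S3025
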