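import Groth.Statements.S3026
import Groth.Agent.HopfRep.NilpFun
import Groth.Agent.HopfRep.ReducedNhd
import Groth.Agent.HopfRep.Torsor
import Mathlib.AlgebraicGeometry.Morphisms.Flat

set_option autoImplicit false
universe u
open CategoryTheory MonoidalCategory CartesianMonoidalCategory MonObj GrpObj AlgebraicGeometry TensorProduct
open SGA3

namespace Groth.Agent.S3026

/-- Let N be a group scheme of finite type over a field k such that the structure map identifies k with
the ring of global functions of N. Then N is smooth over k. (The same lemma also gives connectedness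
and commutativity.) -/
theorem result (k : Type u) [Field k] (N : Over (Spec (CommRingCat.of k))) [GrpObj N]
    [LocallyOfFiniteType N.hom] [QuasiCompact N.hom]
    (hO : Function.Bijective ((Scheme.ΓSpecIso (CommRingCat.of k)).inv ≫ N.hom.appTop).hom) :
    Smooth N.hom := by
  apply HopfRep.ReducedNhd.smooth_of_geometric
  let K := AlgebraicClosure k
  let g := Spec.map (CommRingCat.ofHom (algebraMap k K))
  let NK : Over (Spec (CommRingCat.of K)) := (Over.pullback g).obj N
  letI : GrpObj NK := Functor.grpObjObj (F := Over.pullback g)
  have : LocallyOfFiniteType NK.hom := by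
    change LocallyOfFiniteType (Limits.pullback.snd _ _)
    infer_instance
  have : QuasiCompact NK.hom := by
    change QuasiCompact (Limits.pullback.snd _ _)
    infer_instance
  suffices h : AlgebraicGeometry.IsReduced NK.left by
    exact HopfRep.GrpSmooth.smooth_of_reduced NK
  refine HopfRep.NilpFun.isReduced_of_forall fun s hs => ?_
  have := HopfRep.Torsor.isSeparated N
  have h1 : IsIso ((Scheme.ΓSpecIso (CommRingCat.of k)).inv ≫ N.hom.appTop) :=
    (ConcreteCategory.isIso_iff_bijective _).2 hO
  have : IsIso N.hom.appTop := IsIso.of_isIso_comp_left (Scheme.ΓSpecIso (CommRingCat.of k)).inv _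
  have : CompactSpace N.left := QuasiCompact.compactSpace_of_compactSpace N.hom
  have : QuasiSeparatedSpace N.left := quasiSeparatedSpace_of_quasiSeparated N.hom
  have H : IsPullback (Limits.pullback.fst N.hom g) (Limits.pullback.snd N.hom g) N.hom g :=
    IsPullback.of_hasPullback _ _
  have hiso := isIso_pushoutSection_of_isQuasiSeparated_of_flat_right H (US := ⊤) (UT := ⊤)
    (UX := ⊤) (UY := ⊤) le_top le_top (by simp) (isAffineOpen_top (Spec (CommRingCat.of k)))
    (isAffineOpen_top (Spec (CommRingCat.of K))) isCompact_univ (isQuasiSeparated_univ_iff.mpr inferInstance)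
  have hpo : IsPushout N.hom.appTop g.appTop (Limits.pullback.fst N.hom g).appTop
      (Limits.pullback.snd N.hom g).appTop := by
    simpa [Scheme.Hom.app_eq_appLE] using (isIso_pushoutSection_iff _ _ _ _).mp hiso
  have := hpo.isIso_inr_of_isIso
  have hbij : Function.Bijective
      ((Scheme.ΓSpecIso (CommRingCat.of K)).inv ≫ (Limits.pullback.snd N.hom g).appTop).hom :=
    (ConcreteCategory.isIso_iff_bijective _).1 inferInstance
  obtain ⟨c, rfl⟩ := hbij.2 s
  obtain ⟨n, hn⟩ := hs
  rw [← map_pow, ← map_zero ((Scheme.ΓSpecIso (CommRingCat.of K)).inv ≫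
    (Limits.pullback.snd N.hom g).appTop).hom] at hn
  have : c = 0 := eq_zero_of_pow_eq_zero (hbij.1 hn)
  rw [this, map_zero]

end Groth.Agent.S3026
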