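import Groth.Statements.S3045
import Mathlib

set_option autoImplicit false
universe u
open TensorProduct
open SGA3

namespace Groth.Agent.S3045

/-- Let A be a commutative Hopf algebra over a commutative ring k (the coordinate ring of an affine
group G = Spec A) and φ, ψ two k[ε]-valued points of G reducing to the unit point modulo ε (tangent
vectors at the identity). Then for every a ∈ A the ε-component of the product point φ · ψ at a — the
product of points being convolution, formed here as the triple convolution of φ, ψ and the unit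
point — is the sum of the ε-components of φ(a) and ψ(a): on tangent vectors at the identity the
group law of G induces addition. -/
theorem result (k : Type u) [CommRing k] (A : Type u) [CommRing A] [HopfAlgebra k A]
    (φ ψ : LieHopf.LiePts k A) (a : A) :
    TrivSqZeroExt.snd (Dyn.conv3 k A φ.1 ψ.1 ((Algebra.ofId k (DualNumber k)).comp (Bialgebra.counitAlgHom k A)) a) =
      LieHopf.LiePts.tangent k A φ a + LieHopf.LiePts.tangent k A ψ a := by
  obtain ⟨ι, 𝓡, -⟩ : ∃ (ι : Type u) (r : Coalgebra.Repr k a ι), True := ⟨_, Coalgebra.Repr.arbitrary k a, trivial⟩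
  let η := (Algebra.ofId k (DualNumber k)).comp (Bialgebra.counitAlgHom k A)
  let m := ((Algebra.TensorProduct.lmul' (S := DualNumber k) k).comp (Algebra.TensorProduct.map φ.1 ψ.1)).comp (Bialgebra.comulAlgHom k A)
  have hm : ∀ b (ι : Type u) (r : Coalgebra.Repr k b ι), m b = ∑ i ∈ r.index, φ.1 (r.left i) * ψ.1 (r.right i) := fun b ι r => by
    simp [m, ← r.eq]
  have hr : ∀ b (ι : Type u) (r : Coalgebra.Repr k b ι), ∑ i ∈ r.index, Coalgebra.counit (R := k) (r.right i) • r.left i = b := fun b ι r => by
    simpa only [map_sum, TensorProduct.lift.tmul, LinearMap.lsmul_apply, LinearMap.flip_apply, one_smul] using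
      congr(TensorProduct.lift (LinearMap.lsmul k A).flip $(Coalgebra.sum_tmul_counit_eq (R := k) r))
  have h3 : Dyn.conv3 k A φ.1 ψ.1 η a = m a := by
    have e : Dyn.conv3 k A φ.1 ψ.1 η a = ∑ i ∈ 𝓡.index, m (𝓡.left i) * η (𝓡.right i) := by
      simp [Dyn.conv3, m, ← 𝓡.eq]
    rw [e]
    conv_rhs => rw [← hr a ι 𝓡, map_sum]
    refine Finset.sum_congr rfl fun i _ => ?_
    simp [η, Algebra.smul_def, mul_comm, Algebra.ofId_apply]
  rw [h3, hm a ι 𝓡, TrivSqZeroExt.snd_sum]
  simp only [DualNumber.snd_mul, φ.2, ψ.2, Finset.sum_add_distrib, LieHopf.LiePts.tangent]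
  have l1 := congrArg (fun b => TrivSqZeroExt.snd (ψ.1 b)) (Coalgebra.sum_counit_smul 𝓡)
  have l2 := congrArg (fun b => TrivSqZeroExt.snd (φ.1 b)) (hr a ι 𝓡)
  simp only [map_sum, map_smul, TrivSqZeroExt.snd_sum, TrivSqZeroExt.snd_smul, smul_eq_mul] at l1 l2
  rw [← l1, ← l2, add_comm]
  simp [Bialgebra.counitAlgHom_apply, mul_comm]

end Groth.Agent.S3045
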