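import Groth.Statements.S3058
import Groth.Agent.ToposQC.Coprod

set_option autoImplicit false
open CategoryTheory CategoryTheory.Limits Opposite
universe u
open ToposFin

namespace Groth.Agent.S3058

/-- For a topos of sheaves of sets on a small site: the coproduct of a small family of objects is
quasi-compact if and only if every member is quasi-compact and all but finitely many members are
initial (empty) objects. -/
theorem result {C : Type u} [SmallCategory C] {J : GrothendieckTopology C} {ι : Type u}
    (F : ι → ToposFin.Sh J) :
    ToposFin.IsQC (∐ F) ↔ (∀ i, ToposFin.IsQC (F i)) ∧ {i | IsEmpty (F i ≅ ⊥_ (ToposFin.Sh J))}.Finite := by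
  refine (Groth.Agent.ToposQC.qc_cofan_iff _ (coproductIsCoproduct F)).trans (and_congr_right fun _ => ⟨?_, fun hfin => ?_⟩)
  · rintro ⟨T, hT⟩
    refine T.finite_toSet.subset fun k hk => ?_
    by_contra hkT
    exact hk.false ((Groth.Agent.ToposQC.isInitialOfNull (hT k hkT)).uniqueUpToIso initialIsInitial)
  · refine ⟨hfin.toFinset, fun i hi => ?_⟩
    obtain ⟨φ⟩ := not_isEmpty_iff.1 (fun hne => hi (hfin.mem_toFinset.2 hne))
    exact Groth.Agent.ToposQC.null_of_map φ.hom (Groth.Agent.ToposQC.null_of_isInitial initialIsInitial)

end Groth.Agent.S3058
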