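import Groth.Statements.S3059
import Groth.Agent.ToposQC.Filt

set_option autoImplicit false
open CategoryTheory CategoryTheory.Limits Opposite
universe u
open ToposFin

namespace Groth.Agent.S3059

/-- For a topos of sheaves of sets on a small site: an object X is quasi-compact if and only if, for
every small filtered diagram (Y_i), the natural map colim Hom(X, Y_i) -> Hom(X, colim Y_i) is
injective. -/
theorem result {C : Type u} [SmallCategory C] {J : GrothendieckTopology C}
    (X : ToposFin.Sh J) :
    ToposFin.IsQC X ↔ ∀ (I : Type u) [SmallCategory I] [IsFiltered I] (D : I ⥤ ToposFin.Sh J),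
      Function.Injective (colimit.post D (coyoneda.obj (op X))) := by
  refine ⟨fun hX I _ _ D => Groth.Agent.ToposQC.post_injective D hX, fun h => ?_⟩
  classical
  rw [Groth.Agent.ToposQC.qc_iff]
  intro ι F π hπ
  let U : Finset ι → ToposFin.Sh J := fun s => ∐ fun i : s => F i
  let u : ∀ s, U s ⟶ X := fun s => Sigma.desc fun i : s => π i
  let D : Finset ι ⥤ ToposFin.Sh J :=
    { obj := fun s => pushout (u s) (u s)
      map := fun {s t} hst => pushout.desc (pushout.inl _ _) (pushout.inr _ _) (Sigma.hom_ext _ _ fun i => by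
        have e : Sigma.ι (fun i : s => F i) i ≫ u s = Sigma.ι (fun i : t => F i) ⟨i.1, leOfHom hst i.2⟩ ≫ u t := by
          simp [u]
        rw [← Category.assoc, ← Category.assoc, e, Category.assoc, Category.assoc, pushout.condition])
      map_id := fun s => by apply pushout.hom_ext <;> simp
      map_comp := fun f g => by
        apply pushout.hom_ext
        · exact (pushout.inl_desc _ _ _).trans (((congrArg (· ≫ _) (pushout.inl_desc _ _ _)).trans (pushout.inl_desc _ _ _)).symm.trans (Category.assoc _ _ _))
        · exact (pushout.inr_desc _ _ _).trans (((congrArg (· ≫ _) (pushout.inr_desc _ _ _)).trans (pushout.inr_desc _ _ _)).symm.trans (Category.assoc _ _ _)) }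
  let s₀ : Finset ι := ∅
  let x := colimit.ι (D ⋙ coyoneda.obj (Opposite.op X)) s₀ (pushout.inl (u s₀) (u s₀))
  let y := colimit.ι (D ⋙ coyoneda.obj (Opposite.op X)) s₀ (pushout.inr (u s₀) (u s₀))
  have hxy : colimit.post D (coyoneda.obj (Opposite.op X)) x = colimit.post D (coyoneda.obj (Opposite.op X)) y := by
    rw [Groth.Agent.ToposQC.post_ι, Groth.Agent.ToposQC.post_ι]
    refine hπ _ _ _ fun i => ?_
    have hl : (D.map (homOfLE (Finset.empty_subset {i}))) = pushout.desc (pushout.inl _ _) (pushout.inr _ _) _ := rfl
    rw [← colimit.w D (homOfLE (Finset.empty_subset {i})), ← Category.assoc (pushout.inl (u s₀) (u s₀)),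
      ← Category.assoc (pushout.inr (u s₀) (u s₀)), hl, pushout.inl_desc, pushout.inr_desc]
    have e : π i = Sigma.ι (fun k : ({i} : Finset ι) => F k) ⟨i, Finset.mem_singleton_self i⟩ ≫ u {i} := by simp [u]
    rw [e, Category.assoc, Category.assoc, ← Category.assoc (u {i}), ← Category.assoc (u {i}) (pushout.inr _ _), pushout.condition]
  obtain ⟨t, f, g, e⟩ := (Types.FilteredColimit.colimit_eq_iff _).1 (h (Finset ι) D hxy)
  obtain rfl := Subsingleton.elim g f
  have e' : pushout.inl (u t) (u t) = pushout.inr (u t) (u t) := by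
    have e2 : pushout.inl (u s₀) (u s₀) ≫ D.map g = pushout.inr (u s₀) (u s₀) ≫ D.map g := e
    exact (pushout.inl_desc _ _ _).symm.trans (e2.trans (pushout.inr_desc _ _ _))
  refine ⟨t, fun Z a b hab => ?_⟩
  have w : u t ≫ a = u t ≫ b := Sigma.hom_ext _ _ fun i => by simpa [u] using hab i
  have := congrArg (fun m => m ≫ pushout.desc a b w) e'
  exact (pushout.inl_desc _ _ _).symm.trans (this.trans (pushout.inr_desc _ _ _))

end Groth.Agent.S3059
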