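import Groth.Statements.S5217
import Mathlib.CategoryTheory.Sites.RegularEpi
import Mathlib.CategoryTheory.Sites.LeftExact
import Mathlib.CategoryTheory.Sites.LocallySurjective

set_option autoImplicit false
open CategoryTheory CategoryTheory.Limits
universe w v₁ u₁
open ShfCat

namespace Groth.Agent.S5217

section
variable {C : Type u₁} [Category.{v₁} C] {R X : Cᵒᵖ ⥤ Type w} (p₁ p₂ : R ⟶ X)

/-- the pointwise quotient -/
def quotPsh : Cᵒᵖ ⥤ Type w where
  obj U := Quot (TypeCat.Rel.ofPair (p₁.app U) (p₂.app U))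
  map {U V} f := ↾(Quot.map (X.map f) fun a b ⟨r, h₁, h₂⟩ => ⟨R.map f r,
    by rw [NatTrans.naturality_apply, h₁], by rw [NatTrans.naturality_apply, h₂]⟩)
  map_id U := by ext q; induction q using Quot.ind; simp [Quot.map]
  map_comp f g := by ext q; induction q using Quot.ind; simp [Quot.map]

def quotπ : X ⟶ quotPsh p₁ p₂ where
  app U := ↾(Quot.mk _)

lemma quotπ_cond : p₁ ≫ quotπ p₁ p₂ = p₂ ≫ quotπ p₁ p₂ := by
  ext U r
  exact Quot.sound ⟨r, rfl, rfl⟩

instance : Epi (quotπ p₁ p₂) :=
  haveI : ∀ U, Epi ((quotπ p₁ p₂).app U) := fun U =>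
    (epi_iff_surjective _).2 Quot.mk_surjective
  NatTrans.epi_of_epi_app _

noncomputable def quotDesc {Z : Cᵒᵖ ⥤ Type w} (g : X ⟶ Z) (hg : p₁ ≫ g = p₂ ≫ g) :
    quotPsh p₁ p₂ ⟶ Z where
  app U := ↾(Quot.lift (g.app U) fun a b ⟨r, h₁, h₂⟩ => by
    rw [← h₁, ← h₂]
    exact ConcreteCategory.congr_hom (congr_app hg U) r)
  naturality U V f := by
    ext q
    induction q using Quot.ind with | _ a => exact NatTrans.naturality_apply g f a

lemma quotπ_desc {Z : Cᵒᵖ ⥤ Type w} (g : X ⟶ Z) (hg : p₁ ≫ g = p₂ ≫ g) :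
    quotπ p₁ p₂ ≫ quotDesc p₁ p₂ g hg = g := rfl

lemma isKernelPair_quotπ (hmono : ∀ U (r r' : R.obj U), p₁.app U r = p₁.app U r' →
      p₂.app U r = p₂.app U r' → r = r')
    (hequiv : ∀ U, Equivalence (TypeCat.Rel.ofPair (p₁.app U) (p₂.app U))) :
    IsKernelPair (quotπ p₁ p₂) p₁ p₂ := by
  refine IsPullback.of_forall_isPullback_app fun U => ?_
  rw [Types.isPullback_iff]
  refine ⟨congr_app (quotπ_cond p₁ p₂) U, fun r r' h => hmono U r r' h.1 h.2, fun a b hab => ?_⟩
  exact (hequiv U).quot_mk_eq_iff a b |>.1 hab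

end

/-- In the category of sheaves of sets on a site, every equivalence relation is universally effective
(its quotient sheaf exists, the relation is the kernel pair of the quotient map, and that map is a
universal effective epimorphism). Stated for sheaves valued in `Type w` whenever sheafification
exists. -/
theorem result {C : Type u₁} [Category.{v₁} C]
    (J : GrothendieckTopology C) [HasSheafify J (Type w)]
    {R X : Sheaf J (Type w)} (p₁ p₂ : R ⟶ X) [IsEquivalenceRelation p₁ p₂] :
    IsUniversallyEffectiveEquivalenceRelation p₁ p₂ := by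
  obtain ⟨e⟩ := IsEquivalenceRelation.nonempty_equivalenceRelation (p₁ := p₁) (p₂ := p₂)
  have hj : JointlyMono₂ p₁ p₂ := e.toReflexiveRelation.toJointlyMono₂
  let S := sheafToPresheaf J (Type w)
  let a := presheafToSheaf J (Type w)
  let adj := sheafificationAdjunction J (Type w)
  have hjU : ∀ U : Cᵒᵖ, JointlyMono₂ (p₁.hom.app U) (p₂.hom.app U) := fun U => by
    let G := S ⋙ (evaluation Cᵒᵖ (Type w)).obj U
    have : Mono (prod.lift p₁ p₂) :=
      ⟨fun f g h => hj.right_cancellation f g (by simpa only [Category.assoc, prod.lift_fst] using congrArg (· ≫ prod.fst) h)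
        (by simpa only [Category.assoc, prod.lift_snd] using congrArg (· ≫ prod.snd) h)⟩
    have : Mono (G.map (prod.lift p₁ p₂) ≫ prodComparison G X X) := inferInstance
    refine ⟨fun Y f g h₁ h₂ => (cancel_mono (G.map (prod.lift p₁ p₂) ≫ prodComparison G X X)).1 ?_⟩
    apply Limits.prod.hom_ext
    · simp only [Category.assoc, prodComparison_fst, ← G.map_comp, prod.lift_fst]; exact h₁
    · simp only [Category.assoc, prodComparison_snd, ← G.map_comp, prod.lift_snd]; exact h₂
  have hmono : ∀ U (r r' : R.obj.obj U), p₁.hom.app U r = p₁.hom.app U r' →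
      p₂.hom.app U r = p₂.hom.app U r' → r = r' := fun U r r' h₁ h₂ => by
    have := (hjU U).right_cancellation (↾fun _ : PUnit.{w+1} => r) (↾fun _ => r')
      (by ext; exact h₁) (by ext; exact h₂)
    exact ConcreteCategory.congr_hom this PUnit.unit
  have hequiv : ∀ U, Equivalence (TypeCat.Rel.ofPair (p₁.hom.app U) (p₂.hom.app U)) := fun U => by
    let G := S ⋙ (evaluation Cᵒᵖ (Type w)).obj U
    haveI : JointlyMono₂ (G.map p₁) (G.map p₂) := hjU U
    exact TypeCat.equivalence_of_equivalenceRelation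
      (p₁ := p₁.hom.app U) (p₂ := p₂.hom.app U)
      { e.toReflexiveRelation.map G, e.toSymmetricRelation.map G, e.toTransitiveRelation.map G with }
  let q := quotπ p₁.hom p₂.hom
  let B := a.obj (quotPsh p₁.hom p₂.hom)
  let π : X ⟶ B := inv (adj.counit.app X) ≫ a.map q
  have hker : IsKernelPair π p₁ p₂ :=
    ((isKernelPair_quotπ p₁.hom p₂.hom hmono hequiv).map a).of_iso
      (asIso (adj.counit.app R)) (asIso (adj.counit.app X)) (asIso (adj.counit.app X))
      (Iso.refl _) (adj.counit.naturality p₁) (adj.counit.naturality p₂)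
      (by simp [π, q, S, B]) (by simp [π, q, S, B])
  have : Epi (a.map q) := Functor.map_epi a q
  have : Epi π := epi_comp _ _
  have hpush : IsPushout p₁ p₂ π π := by
    have h12 : ∀ s : PushoutCocone p₁ p₂, s.inl = s.inr := fun s => by
      have h := congrArg (e.r ≫ ·) s.condition
      simpa only [← Category.assoc, e.reflexivity₁, e.reflexivity₂, Category.id_comp] using h
    have hd : ∀ s : PushoutCocone p₁ p₂, ∃ d : B ⟶ s.pt, π ≫ d = s.inl := fun s => by
      have hg : p₁.hom ≫ s.inl.hom = p₂.hom ≫ s.inl.hom := by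
        rw [← ObjectProperty.FullSubcategory.comp_hom, ← ObjectProperty.FullSubcategory.comp_hom]
        conv_rhs => rw [h12 s, ← s.condition]
      refine ⟨a.map (quotDesc p₁.hom p₂.hom s.inl.hom hg) ≫ adj.counit.app s.pt, ?_⟩
      simp only [π, q, Category.assoc, ← Functor.map_comp_assoc, quotπ_desc]
      rw [IsIso.inv_comp_eq]
      exact adj.counit.naturality s.inl
    choose d hd using hd
    exact IsPushout.of_isColimit (c := PushoutCocone.mk π π hker.w)
      (PushoutCocone.IsColimit.mk _ d hd (fun s => (hd s).trans (h12 s))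
        (fun s m hm _ => (cancel_epi π).1 (hm.trans (hd s).symm)))
  refine ⟨⟨{ toEquivalenceRelation := e, B := B, π := π, isKernelPair := hker, isPushout := hpush,
              universally_effectiveEpi_π := fun P Q i₁ i₂ f' hsq => ?_ }⟩⟩
  have hπ : Sheaf.IsLocallySurjective π := (Sheaf.isLocallySurjective_iff_epi π).2 inferInstance
  have hf : Sheaf.IsLocallySurjective f' := ⟨fun {U} x => J.superset_covering ?_
    (Presheaf.imageSieve_mem J π.hom (i₂.hom.app _ x))⟩
  · haveI : Epi f' := (Sheaf.isLocallySurjective_iff_epi f').1 hf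
    exact (isRegularEpi_iff_effectiveEpi f').1 (IsRegularEpiCategory.regularEpiOfEpi f')
  intro V g ⟨s, hs⟩
  let G := S ⋙ (evaluation Cᵒᵖ (Type w)).obj (Opposite.op V)
  have hs' : π.hom.app (Opposite.op V) s =
      i₂.hom.app (Opposite.op V) (Q.obj.map g.op x) :=
    hs.trans (NatTrans.naturality_apply i₂.hom g.op x).symm
  obtain ⟨z, hz₁, hz₂⟩ := ((Types.isPullback_iff _ _ _ _).1 (hsq.map G)).2.2
    (Q.obj.map g.op x) s hs'.symm
  exact ⟨z, hz₁⟩

end Groth.Agent.S5217
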