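import Groth.Statements.S3093
import Mathlib

set_option autoImplicit false
universe u
open CohTop

namespace Groth.Agent.S3093

open Set

/-- Let X be a topological space and K ⊆ X a compact subset such that any two distinct points of K have
disjoint open neighbourhoods in X. If A and B are subsets of K that are closed in K and W is an open
subset of X containing A ∩ B, then there are open subsets U ⊇ A and V ⊇ B of X with U ∩ V ⊆ W. -/
theorem result {X : Type u} [TopologicalSpace X] {K : Set X} (hK : IsCompact K)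
    (hsep : ∀ x ∈ K, ∀ y ∈ K, x ≠ y → ∃ U V : Set X, IsOpen U ∧ IsOpen V ∧ x ∈ U ∧ y ∈ V ∧ Disjoint U V)
    {A B W : Set X} (hA : A ⊆ K) (hB : B ⊆ K) (hAc : IsClosed (Subtype.val ⁻¹' A : Set K))
    (hBc : IsClosed (Subtype.val ⁻¹' B : Set K)) (hW : IsOpen W) (hABW : A ∩ B ⊆ W) :
    ∃ U V : Set X, IsOpen U ∧ IsOpen V ∧ A ⊆ U ∧ B ⊆ V ∧ U ∩ V ⊆ W := by
  classical
  have sep : ∀ A B : Set X, IsCompact A → IsCompact B → A ⊆ K → B ⊆ K → Disjoint A B →
      SeparatedNhds A B := by
    intro A B hA' hB' hAK hBK hd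
    refine IsCompact.induction_on (p := fun s => SeparatedNhds s B) hA' (SeparatedNhds.empty_left B)
      (fun s s' hss h => h.mono hss subset_rfl) (fun s s' h h' => h.union_left h') fun a ha => ?_
    have key : SeparatedNhds {a} B := by
      refine IsCompact.induction_on (p := fun s => SeparatedNhds {a} s) hB' (SeparatedNhds.empty_right _)
        (fun s s' hss h => h.mono subset_rfl hss) (fun s s' h h' => h.union_right h') fun b hb => ?_
      obtain ⟨U, V, hU, hV, hau, hbv, hUV⟩ := hsep a (hAK ha) b (hBK hb)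
        fun e => Set.disjoint_left.mp hd ha (e ▸ hb)
      exact ⟨V, nhdsWithin_le_nhds (hV.mem_nhds hbv), U, V, hU, hV, singleton_subset_iff.mpr hau, subset_rfl, hUV⟩
    obtain ⟨U, V, hU, hV, hau, hBV, hUV⟩ := key
    exact ⟨U, nhdsWithin_le_nhds (hU.mem_nhds (singleton_subset_iff.mp hau)), U, V, hU, hV, subset_rfl, hBV, hUV⟩
  have cpt : ∀ A : Set X, A ⊆ K → IsClosed (Subtype.val ⁻¹' A : Set K) → IsCompact A := by
    intro A hAK hAc
    haveI := isCompact_iff_compactSpace.mp hK
    have h := hAc.isCompact.image continuous_subtype_val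
    rwa [Subtype.image_preimage_coe, inter_eq_right.mpr hAK] at h
  obtain ⟨U, V, hU, hV, hAU, hBV, hUV⟩ := sep (A \ W) (B \ W) ((cpt A hA hAc).diff hW)
    ((cpt B hB hBc).diff hW) (sdiff_subset.trans hA) (sdiff_subset.trans hB)
    (Set.disjoint_left.mpr fun z hz hz' => hz.2 (hABW ⟨hz.1, hz'.1⟩))
  refine ⟨U ∪ W, V ∪ W, hU.union hW, hV.union hW, fun z hz => ?_, fun z hz => ?_, ?_⟩
  · by_cases h : z ∈ W
    exacts [Or.inr h, Or.inl (hAU ⟨hz, h⟩)]
  · by_cases h : z ∈ W
    exacts [Or.inr h, Or.inl (hBV ⟨hz, h⟩)]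
  · rintro z ⟨h1 | h1, h2 | h2⟩
    exacts [absurd h2 (Set.disjoint_left.mp hUV h1), h2, h1, h1]

end Groth.Agent.S3093
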