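import Groth.Statements.S3248
import Mathlib
import Groth.Agent.Dix.Azumaya

set_option autoImplicit false
universe u
open TensorProduct
open Dix

namespace Groth.Agent.S3248

/-- Stated for a commutative subalgebra: let A be a central simple algebra of dimension r² over a field
k and L a commutative k-algebra embedded in A by an injective k-algebra homomorphism ι, such that A
is free of rank r for the right L-module structure a · l = a ι(l) (given here as a module structure
together with that compatibility). Then L ⊗_k A is isomorphic as an L-algebra to the matrix algebra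
M_r(L). (Only the existence of an isomorphism is stated; the text names the map a ⊗ l ↦ (y ↦ a y
l).) -/
theorem result (k : Type u) [Field k] (A : Type u) [Ring A] [Algebra k A] [Algebra.IsCentral k A] [IsSimpleRing A] [FiniteDimensional k A] (L : Type u) [CommRing L] [Algebra k L] (ι : L →ₐ[k] A) (hι : Function.Injective ι) [Module L A] (hmod : ∀ (l : L) (a : A), l • a = a * ι l) [Module.Free L A] (r : ℕ) (hr : 0 < r) (hA : Module.finrank k A = r ^ 2) (hrank : Module.finrank L A = r) : Nonempty ((L ⊗[k] A) ≃ₐ[L] Matrix (Fin r) (Fin r) L) := by
  haveI : IsScalarTower k L A := ⟨fun c l a => by rw [hmod, hmod, map_smul, mul_smul_comm]⟩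
  haveI : SMulCommClass L k A := ⟨fun l c a => by rw [hmod, hmod, smul_mul_assoc]⟩
  haveI : FiniteDimensional k L := FiniteDimensional.of_injective ι.toLinearMap hι
  haveI : Module.Finite L A := Module.Finite.of_restrictScalars_finite k L A
  haveI : Nontrivial L := ι.toRingHom.domain_nontrivial
  let lam : A →ₐ[k] Module.End L A :=
    { toFun := fun a =>
        { toFun := fun y => a * y
          map_add' := mul_add a
          map_smul' := fun l y => by rw [RingHom.id_apply, hmod, hmod, mul_assoc] }
      map_one' := LinearMap.ext fun y => one_mul y
      map_mul' := fun a b => LinearMap.ext fun y => mul_assoc a b y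
      map_zero' := LinearMap.ext fun y => zero_mul y
      map_add' := fun a b => LinearMap.ext fun y => add_mul a b y
      commutes' := fun c => LinearMap.ext fun y => by
        show algebraMap k A c * y = _
        rw [← Algebra.smul_def]
        rfl }
  let ψ : L ⊗[k] A →ₐ[L] Module.End L A :=
    Algebra.TensorProduct.lift (Algebra.ofId L (Module.End L A)) lam
      (fun l a => Algebra.commutes l (lam a))
  let f : L →ₗ[k] Aᵐᵒᵖ := (MulOpposite.opLinearEquiv k : A ≃ₗ[k] Aᵐᵒᵖ).toLinearMap ∘ₗ ι.toLinearMap
  have hf : Function.Injective f := fun x y h => hι (MulOpposite.op_injective h)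
  let g : L ⊗[k] A →ₗ[k] A ⊗[k] Aᵐᵒᵖ :=
    (f.lTensor A) ∘ₗ (TensorProduct.comm k L A).toLinearMap
  have hg : Function.Injective g := by
    intro x y h
    have h2 : f.lTensor A (TensorProduct.comm k L A x) = f.lTensor A (TensorProduct.comm k L A y) := h
    have h3 := Module.Flat.lTensor_preserves_injective_linearMap (R := k) (M := A) f hf
    exact (TensorProduct.comm k L A).injective (h3 h2)
  have key : ∀ z x, ψ z x = AlgHom.mulLeftRight k A (g z) x := by
    intro z x
    induction z using TensorProduct.induction_on with
    | zero => simp
    | tmul l a =>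
      simp only [ψ, Algebra.TensorProduct.lift_tmul, g, f, LinearMap.comp_apply,
        LinearEquiv.coe_coe, TensorProduct.comm_tmul, LinearMap.lTensor_tmul,
        AlgHom.mulLeftRight_apply]
      show l • (a * x) = a * x * ι l
      exact hmod l (a * x)
    | add c d hc hd => simp [hc, hd]
  have hm := (Dix.Azumaya.bijective_of_centralSimple k A).injective
  have hinj : Function.Injective ψ := fun z w h =>
    hg (hm (LinearMap.ext fun x => by rw [← key, ← key, h]))
  have hL : Module.finrank k L = r := by
    have h := Module.finrank_mul_finrank k L A
    rw [hrank, hA, pow_two] at h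
    exact Nat.eq_of_mul_eq_mul_right hr h
  have hdim : Module.finrank k (L ⊗[k] A) = Module.finrank k (Module.End L A) := by
    rw [Module.finrank_tensorProduct, ← Module.finrank_mul_finrank k L (Module.End L A),
      Module.finrank_linearMap, hrank, hA, hL, pow_two]
  haveI : Module.Finite k (Module.End L A) := Module.Finite.trans L _
  have hsurj : Function.Surjective ψ :=
    (LinearMap.injective_iff_surjective_of_finrank_eq_finrank (f := ψ.toLinearMap.restrictScalars k)
      hdim).mp hinj
  exact ⟨(AlgEquiv.ofBijective ψ ⟨hinj, hsurj⟩).trans
    (algEquivMatrix (Module.finBasisOfFinrankEq L A hrank))⟩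

end Groth.Agent.S3248
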