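import Groth.Statements.S3286
import Groth.Agent.LamG.Positive

set_option autoImplicit false
universe u
open Finset
open LambdaRing

namespace Groth.Agent.S3286

open Groth.Agent.LamG
/-- In a λ-ring with positive structure having the splitting property, ψ^i (ψ^j (x)) = ψ^(i j) (x) for
all i, j and x. -/
theorem result (K : Type u) [CommRing K] [LambdaRing.LambdaOps K] (P : LambdaRing.PosStructure K) (hK : LambdaRing.HasSplitting K P) (i j : ℕ) (x : K) :
    LambdaRing.adams P i (LambdaRing.adams P j x) = LambdaRing.adams P (i * j) x := by
  cases i with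
  | zero =>
    rw [Nat.zero_mul, adams_zero_eq, adams_zero_eq]
    cases j with
    | zero => rw [adams_zero_eq, map_intCast, Int.cast_id]
    | succ j => rw [adams_succ_eq, aug_adamsOp hK]
  | succ i =>
    cases j with
    | zero =>
      rw [Nat.mul_zero, adams_zero_eq, adams_succ_eq]
      exact map_intCast (posAdams hK i) (P.aug x)
    | succ j =>
      obtain ⟨m, hm⟩ := Nat.exists_eq_add_of_le' (Nat.mul_pos i.succ_pos j.succ_pos)
      rw [adams_succ_eq, adams_succ_eq, adamsOp_comp_pos hK, hm, adams_succ_eq]

end Groth.Agent.S3286
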