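import Groth.Statements.S3290
import Groth.Agent.LamG.Positive

set_option autoImplicit false
universe u
open Finset
open LambdaRing

namespace Groth.Agent.S3290

open Groth.Agent.LamG
/-- For a positive element e of augmentation m in a λ-ring with positive structure, the polynomials
Σ_{i=0}^{m} γ^i(e − m) t^(m−i) and Σ_{i=0}^{m} λ^i(e) (t − 1)^(m−i) are equal. -/
theorem result (K : Type u) [CommRing K] [LambdaRing.LambdaOps K] (P : LambdaRing.PosStructure K) (e : K) (he : e ∈ P.pos) :
    (∑ i ∈ range ((P.aug e).toNat + 1),
        Polynomial.C (LambdaRing.gamma i (e - ((P.aug e).toNat : K))) * Polynomial.X ^ ((P.aug e).toNat - i)) =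
      ∑ i ∈ range ((P.aug e).toNat + 1),
        Polynomial.C (LambdaRing.LambdaOps.lam i e) * (Polynomial.X - 1) ^ ((P.aug e).toNat - i) := by
  set m := (P.aug e).toNat with hm
  have hlam : ∀ i, m < i → LambdaOps.lam i e = 0 := fun i hi => P.lam_eq_zero e he i (by
    have := P.aug_pos e he
    omega)
  ext n
  simp only [Polynomial.finset_sum_coeff, Polynomial.coeff_C_mul, Polynomial.coeff_X_pow]
  rw [show (Polynomial.X - 1 : Polynomial K) = Polynomial.X + Polynomial.C (-1) by simp [sub_eq_add_neg]]
  simp only [Polynomial.coeff_X_add_C_pow]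
  by_cases hn : n ≤ m
  · rw [Finset.sum_eq_single (m - n) (fun i hi hne => by
      rw [if_neg (by have := mem_range.1 hi; omega), mul_zero]) (fun h => absurd (mem_range.2 (by omega)) h),
      if_pos (by omega), mul_one, gamma_sub_natCast (lam_one_eq_zero P) hlam]
    refine sum_congr rfl fun i hi => ?_
    have hi' := mem_range.1 hi
    split_ifs with h
    · have e : (m - i).choose (m - n - i) = (m - i).choose n := Nat.choose_symm_of_eq_add (by omega)
      rw [e, show m - n - i = m - i - n by omega]
    · rw [Nat.choose_eq_zero_of_lt (by omega : m - i < n)]; simp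
  · rw [Finset.sum_eq_zero (fun i hi => by rw [if_neg (by omega), mul_zero]),
      Finset.sum_eq_zero (fun i hi => by rw [Nat.choose_eq_zero_of_lt (by omega : m - i < n)]; simp)]

end Groth.Agent.S3290
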