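import Groth.Statements.S3351
import Mathlib.LinearAlgebra.Matrix.ToLinearEquiv
import Mathlib.LinearAlgebra.Matrix.NonsingularInverse
import Mathlib.LinearAlgebra.FreeModule.PID
import Mathlib.LinearAlgebra.BilinearForm.Orthogonal
import Mathlib.RingTheory.PrincipalIdealDomain
import Mathlib.Algebra.Module.Projective

set_option autoImplicit false
open Models

namespace Groth.Agent.S3351

theorem extend {L : Type} [AddCommGroup L] [Module.Finite ℤ L] [Module.Free ℤ L]
    (A : Submodule ℤ L) (htf : ∀ (c : ℤ) (x : L), c ≠ 0 → c • x ∈ A → x ∈ A) (ψ : Module.Dual ℤ A) :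
    ∃ φ : Module.Dual ℤ L, φ ∘ₗ A.subtype = ψ := by
  haveI : Module.IsTorsionFree ℤ (L ⧸ A) := Module.IsTorsionFree.of_smul_eq_zero fun c z hz => by
    obtain ⟨x, rfl⟩ := Submodule.mkQ_surjective A z
    rw [← map_smul, Submodule.mkQ_apply, Submodule.Quotient.mk_eq_zero] at hz
    rw [Submodule.mkQ_apply, Submodule.Quotient.mk_eq_zero, or_iff_not_imp_left]
    exact fun hc => htf c x hc hz
  haveI : Module.Free ℤ (L ⧸ A) := Module.free_of_finite_type_torsion_free'
  obtain ⟨s, hs⟩ := Module.projective_lifting_property A.mkQ LinearMap.id A.mkQ_surjective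
  let r : L →ₗ[ℤ] A := LinearMap.codRestrict A (LinearMap.id - s ∘ₗ A.mkQ) fun x => by
    rw [← Submodule.Quotient.mk_eq_zero, ← Submodule.mkQ_apply, LinearMap.sub_apply, map_sub, LinearMap.comp_apply,
      ← LinearMap.comp_apply A.mkQ s, hs, LinearMap.id_apply, LinearMap.id_apply, sub_self]
  refine ⟨ψ ∘ₗ r, LinearMap.ext fun a => congrArg ψ (Subtype.ext ?_)⟩
  change (a : L) - s (A.mkQ a) = a
  rw [Submodule.mkQ_apply, (Submodule.Quotient.mk_eq_zero A).mpr a.2, map_zero, sub_zero]

theorem orth_orth {L : Type} [AddCommGroup L] [Module.Finite ℤ L] [Module.Free ℤ L]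
    (B : LinearMap.BilinForm ℤ L) (hsymm : ∀ x y, B x y = B y x) (hpos : ∀ x, x ≠ 0 → 0 < B x x)
    (A : Submodule ℤ L) (htf : ∀ (c : ℤ) (x : L), c ≠ 0 → c • x ∈ A → x ∈ A) (x : L)
    (hx : ∀ b ∈ B.orthogonal A, B x b = 0) : x ∈ A := by
  classical
  obtain ⟨n, bA⟩ := Submodule.basisOfPid (Module.Free.chooseBasis ℤ L) A
  let G : Matrix (Fin n) (Fin n) ℤ := Matrix.of fun i j => B (bA i) (bA j)
  have hB : ∀ (y : L) (v : Fin n → ℤ), B y (∑ j, v j • (bA j : L)) = ∑ j, v j * B y (bA j) := fun y v => by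
    simp [map_sum]
  have hdet : G.det ≠ 0 := fun h => by
    obtain ⟨v, hv, hGv⟩ := Matrix.exists_mulVec_eq_zero_iff.mpr h
    have hne : (∑ j, v j • (bA j : L)) ≠ 0 := fun h0 => hv (funext fun j => by
      have h1 : ∑ j, v j • bA j = 0 := Subtype.ext (by simpa using h0)
      exact Fintype.linearIndependent_iff.mp bA.linearIndependent v h1 j)
    refine absurd (hpos _ hne) (not_lt.mpr (le_of_eq ?_))
    rw [hB]
    refine Finset.sum_eq_zero fun j _ => ?_
    rw [hsymm, hB, show (∑ i, v i * B (bA j) (bA i)) = (G.mulVec v) j by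
      simp [Matrix.mulVec, dotProduct, G, mul_comm], hGv, Pi.zero_apply, mul_zero]
  let c : Fin n → ℤ := fun j => B (bA j) x
  let v := G.adjugate.mulVec c
  let a : L := ∑ j, v j • (bA j : L)
  have ha : a ∈ A := sum_mem fun j _ => A.smul_mem _ (bA j).2
  have hba : ∀ j, B (bA j) a = G.det * c j := fun j => by
    rw [hB, show (∑ i, v i * B (bA j) (bA i)) = (G.mulVec v) j by simp [Matrix.mulVec, dotProduct, G, mul_comm]]
    simp [v, Matrix.mulVec_mulVec, Matrix.mul_adjugate, Matrix.smul_mulVec]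
  have hmem : G.det • x - a ∈ B.orthogonal A := fun y hy => by
    change B y (G.det • x - a) = 0
    have h1 : (B.flip (G.det • x - a)) ∘ₗ A.subtype = 0 := bA.ext fun j => by
      change B (bA j) (G.det • x - a) = 0
      rw [map_sub, map_smul, hba, smul_eq_mul, sub_self]
    exact DFunLike.congr_fun h1 ⟨y, hy⟩
  have h0 : G.det • x - a = 0 := by
    by_contra hne
    refine absurd (hpos _ hne) (not_lt.mpr (le_of_eq ?_))
    rw [map_sub, map_smul, hsymm _ x, hsymm _ a, hx _ hmem, smul_zero, zero_sub, neg_eq_zero]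
    exact hmem a ha
  exact htf _ x hdet (sub_eq_zero.mp h0 ▸ ha)

/-- Let L be a finite free Z-module with a positive definite symmetric integral bilinear form, A ⊆ L a
submodule with L/A torsion free and B the orthogonal complement of A. Write M^# for the dual lattice
of a sublattice M, identified here with the Z-dual Hom(M, Z) through the form. Then the natural maps
L/(A ⊕ B) → B^#/B and L/(A ⊕ B) → A^#/A are injective: an element x of L whose functional ⟨x, -⟩ on
B (resp. on A) is represented by an element of B (resp. of A) lies in A ⊕ B. Moreover the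
restriction maps L^# → B^# and L^# → A^# are surjective, so that the cokernels of the two injections
are quotients of L^#/L. -/
theorem result {L : Type} [AddCommGroup L] [Module.Finite ℤ L] [Module.Free ℤ L]
    (B : LinearMap.BilinForm ℤ L) (hsymm : B.IsSymm) (hpos : ∀ x, x ≠ 0 → 0 < B x x)
    (A : Submodule ℤ L) (htf : ∀ (c : ℤ) (x : L), c ≠ 0 → c • x ∈ A → x ∈ A) :
    (∀ x : L, (∃ b ∈ B.orthogonal A, ∀ b' ∈ B.orthogonal A, B x b' = B b b') → x ∈ A ⊔ B.orthogonal A) ∧
      (∀ x : L, (∃ a ∈ A, ∀ a' ∈ A, B x a' = B a a') → x ∈ A ⊔ B.orthogonal A) ∧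
      (∀ ψ : Module.Dual ℤ ↥(B.orthogonal A), ∃ φ : Module.Dual ℤ L, φ ∘ₗ (B.orthogonal A).subtype = ψ) ∧
      (∀ ψ : Module.Dual ℤ ↥A, ∃ φ : Module.Dual ℤ L, φ ∘ₗ A.subtype = ψ) := by
  have hs : ∀ x y, B x y = B y x := fun x y => hsymm.eq x y
  refine ⟨fun x ⟨b, hb, h⟩ => ?_, fun x ⟨a, ha, h⟩ => ?_, extend _ fun c x hc hx y hy => ?_, extend A htf⟩
  · have h1 : x - b ∈ A := orth_orth B hs hpos A htf _ fun b' hb' => by
      rw [map_sub, LinearMap.sub_apply, h b' hb', sub_self]
    exact Submodule.mem_sup.mpr ⟨_, h1, b, hb, sub_add_cancel x b⟩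
  · refine Submodule.mem_sup.mpr ⟨a, ha, x - a, fun y hy => ?_, add_sub_cancel a x⟩
    change B y (x - a) = 0
    rw [map_sub, hs y x, hs y a, h y hy, sub_self]
  · have h1 : B y (c • x) = 0 := hx y hy
    rw [map_smul, smul_eq_mul, mul_eq_zero] at h1
    exact h1.resolve_left hc

end Groth.Agent.S3351
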