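import Groth.Statements.S3352
import Mathlib.LinearAlgebra.FreeModule.Finite.Quotient
import Mathlib.LinearAlgebra.FreeModule.PID
import Mathlib.LinearAlgebra.Dual.Basis
import Mathlib.GroupTheory.OrderOfElement

set_option autoImplicit false
open Models

namespace Groth.Agent.S3352

/-- Let L₀, L₁ be finite free ℤ-modules with positive definite symmetric integral bilinear forms, the
form on L₀ unimodular (x ↦ ⟨x, −⟩ is a bijection L₀ → Hom(L₀, ℤ)), and let d : L₀ → L₁ and d* : L₁ →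
L₀ be adjoint. Identify Im(d)^# (the dual lattice of Im(d)) with Hom(Im(d), ℤ) through the form on
L₁. Then there is an isomorphism Φ from the torsion subgroup of Coker(d* d) onto Im(d)^#/Im(d),
determined by: for x ∈ L₀ whose class is torsion, Φ[x] is the class of the functional d(y') ↦ ⟨x,
y'⟩ (equivalently the class of (1/a)·d(y) when a·x = d* d(y)). -/
theorem result {L₀ L₁ : Type} [AddCommGroup L₀] [AddCommGroup L₁]
    [Module.Finite ℤ L₀] [Module.Free ℤ L₀] [Module.Finite ℤ L₁] [Module.Free ℤ L₁]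
    (B₀ : LinearMap.BilinForm ℤ L₀) (B₁ : LinearMap.BilinForm ℤ L₁) (h₀s : B₀.IsSymm) (h₁s : B₁.IsSymm)
    (h₀p : ∀ x, x ≠ 0 → 0 < B₀ x x) (h₁p : ∀ x, x ≠ 0 → 0 < B₁ x x) (huni : Function.Bijective B₀)
    (d : L₀ →ₗ[ℤ] L₁) (ds : L₁ →ₗ[ℤ] L₀) (hadj : ∀ x y, B₁ (d x) y = B₀ x (ds y)) :
    ∃ Φ : ↥(Submodule.torsion ℤ (L₀ ⧸ LinearMap.range (ds ∘ₗ d))) ≃ₗ[ℤ]
        (Module.Dual ℤ ↥(LinearMap.range d) ⧸
          LinearMap.range ((B₁.compl₂ (LinearMap.range d).subtype) ∘ₗ (LinearMap.range d).subtype)),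
      ∀ (x : L₀) (hx : Submodule.Quotient.mk x ∈ Submodule.torsion ℤ (L₀ ⧸ LinearMap.range (ds ∘ₗ d)))
        (ψ : Module.Dual ℤ ↥(LinearMap.range d)),
        (∀ y' : L₀, ψ ⟨d y', LinearMap.mem_range_self d y'⟩ = B₀ x y') →
          Φ ⟨Submodule.Quotient.mk x, hx⟩ = Submodule.Quotient.mk ψ := by
  classical
  set W := LinearMap.range d
  set T := Submodule.torsion ℤ (L₀ ⧸ LinearMap.range (ds ∘ₗ d))
  set G : W →ₗ[ℤ] Module.Dual ℤ W := (B₁.compl₂ W.subtype) ∘ₗ W.subtype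
  have hG : ∀ (u v : W), G u v = B₁ u v := fun u v => rfl
  have hGinj : Function.Injective G := (injective_iff_map_eq_zero G).2 fun u hu => by
    by_contra hne
    have := h₁p u (fun e => hne (Subtype.ext e))
    rw [← hG, hu] at this
    simp at this
  have hfin : Finite (Module.Dual ℤ W ⧸ LinearMap.range G) :=
    Submodule.finiteQuotientOfFreeOfRankEq _ (by
      rw [← (LinearEquiv.ofInjective G hGinj).finrank_eq, ← (Module.Free.chooseBasis ℤ W).toDualEquiv.finrank_eq])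
  let T0 : Submodule ℤ L₀ := T.comap (Submodule.mkQ _)
  have hker : ∀ x : T0, LinearMap.ker d ≤ LinearMap.ker (B₀ x) := fun x y hy => by
    obtain ⟨⟨a, ha⟩, hax⟩ := x.2
    obtain ⟨z, hz⟩ := LinearMap.mem_range.1 ((Submodule.Quotient.mk_eq_zero _).1 (show Submodule.Quotient.mk (a • (x : L₀)) = 0 from hax))
    rw [LinearMap.mem_ker] at hy ⊢
    have h1 : B₁ (d y) (d z) = B₀ y (a • (x : L₀)) := by rw [hadj, ← hz]; rfl
    rw [hy, map_zero, LinearMap.zero_apply, map_smul, smul_eq_mul] at h1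
    rw [h₀s.eq]
    exact (mul_eq_zero.1 h1.symm).resolve_left (mem_nonZeroDivisors_iff_ne_zero.1 ha)
  let ψ : T0 → Module.Dual ℤ W := fun x => ((LinearMap.ker d).liftQ (B₀ x) (hker x)) ∘ₗ d.quotKerEquivRange.symm.toLinearMap
  have hψ : ∀ (x : T0) (y : L₀), ψ x ⟨d y, LinearMap.mem_range_self d y⟩ = B₀ x y := fun x y => by
    show (LinearMap.ker d).liftQ (B₀ x) (hker x) (d.quotKerEquivRange.symm ⟨d y, _⟩) = _
    rw [LinearMap.quotKerEquivRange_symm_apply_image, Submodule.mkQ_apply, Submodule.liftQ_apply]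
  have hWext : ∀ f f' : Module.Dual ℤ W, (∀ y, f ⟨d y, LinearMap.mem_range_self d y⟩ = f' ⟨d y, LinearMap.mem_range_self d y⟩) → f = f' :=
    fun f f' h => LinearMap.ext fun ⟨w, hw⟩ => by obtain ⟨y, rfl⟩ := hw; exact h y
  let g : T0 →ₗ[ℤ] Module.Dual ℤ W ⧸ LinearMap.range G :=
    (Submodule.mkQ _) ∘ₗ
    { toFun := ψ
      map_add' := fun x x' => hWext _ _ fun y => by rw [LinearMap.add_apply, hψ, hψ, hψ]; simp
      map_smul' := fun c x => hWext _ _ fun y => by rw [LinearMap.smul_apply, hψ, hψ]; simp }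
  let h : T0 →ₗ[ℤ] T := (Submodule.mkQ _).restrict (fun x hx => hx)
  have hsur : Function.Surjective h := fun ⟨q, hq⟩ => by
    obtain ⟨x, rfl⟩ := Submodule.Quotient.mk_surjective _ q
    exact ⟨⟨x, hq⟩, rfl⟩
  have gsur : Function.Surjective g := fun q => by
    obtain ⟨f, rfl⟩ := Submodule.Quotient.mk_surjective _ q
    obtain ⟨x, hx⟩ := huni.2 (f ∘ₗ d.rangeRestrict)
    have hxf : ∀ y, B₀ x y = f ⟨d y, LinearMap.mem_range_self d y⟩ := fun y => LinearMap.congr_fun hx y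
    have hn := isOfFinAddOrder_of_finite (Submodule.Quotient.mk f : Module.Dual ℤ W ⧸ LinearMap.range G)
    obtain ⟨m, hm, hmf⟩ := hn.exists_nsmul_eq_zero
    rw [← Submodule.Quotient.mk_smul, Submodule.Quotient.mk_eq_zero] at hmf
    obtain ⟨⟨w, hw⟩, hwf⟩ := hmf
    obtain ⟨z, rfl⟩ := hw
    have hmem : x ∈ T0 := by
      refine ⟨⟨(m : ℤ), mem_nonZeroDivisors_iff_ne_zero.2 (by exact_mod_cast hm.ne')⟩, ?_⟩
      show ((m : ℤ) • Submodule.Quotient.mk x : L₀ ⧸ LinearMap.range (ds ∘ₗ d)) = 0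
      rw [← Submodule.Quotient.mk_smul, Submodule.Quotient.mk_eq_zero]
      refine ⟨z, huni.1 (LinearMap.ext fun y => ?_)⟩
      have h1 : B₁ (d z) (d y) = (m : ℤ) • f ⟨d y, LinearMap.mem_range_self d y⟩ := by
        have := LinearMap.congr_fun hwf ⟨d y, LinearMap.mem_range_self d y⟩
        rw [hG, LinearMap.smul_apply] at this
        exact this.trans (natCast_zsmul _ _).symm
      rw [LinearMap.comp_apply, map_smul, LinearMap.smul_apply, hxf, ← h1, h₀s.eq, ← hadj, h₁s.eq]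
    exact ⟨⟨x, hmem⟩, congrArg Submodule.Quotient.mk (hWext _ _ fun y => (hψ ⟨x, hmem⟩ y).trans (hxf y))⟩
  have hkk : LinearMap.ker h = LinearMap.ker g := by
    ext x
    rw [LinearMap.mem_ker, LinearMap.mem_ker, Subtype.ext_iff]
    show Submodule.Quotient.mk (x : L₀) = 0 ↔ Submodule.Quotient.mk (ψ x) = 0
    rw [Submodule.Quotient.mk_eq_zero, Submodule.Quotient.mk_eq_zero]
    constructor
    · rintro ⟨z, hz⟩
      refine ⟨⟨d z, LinearMap.mem_range_self d z⟩, hWext _ _ fun y => ?_⟩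
      rw [hψ, hG, ← hz, LinearMap.comp_apply, h₀s.eq, ← hadj, h₁s.eq]
    · rintro ⟨⟨w, hw⟩, hwf⟩
      obtain ⟨z, rfl⟩ := hw
      refine ⟨z, huni.1 (LinearMap.ext fun y => ?_)⟩
      have h1 := LinearMap.congr_fun hwf ⟨d y, LinearMap.mem_range_self d y⟩
      rw [hψ, hG] at h1
      rw [LinearMap.comp_apply, ← h1, h₀s.eq, ← hadj, h₁s.eq]
  let Φ := (h.quotKerEquivOfSurjective hsur).symm ≪≫ₗ (Submodule.quotEquivOfEq _ _ hkk) ≪≫ₗ g.quotKerEquivOfSurjective gsur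
  refine ⟨Φ, fun x hx f hf => ?_⟩
  have e : (h.quotKerEquivOfSurjective hsur).symm ⟨Submodule.Quotient.mk x, hx⟩ = Submodule.Quotient.mk (⟨x, hx⟩ : T0) := by
    rw [LinearEquiv.symm_apply_eq]; rfl
  show g.quotKerEquivOfSurjective gsur (Submodule.quotEquivOfEq _ _ hkk ((h.quotKerEquivOfSurjective hsur).symm _)) = _
  rw [e, Submodule.quotEquivOfEq_mk]
  exact congrArg Submodule.Quotient.mk (hWext _ _ fun y => (hψ ⟨x, hx⟩ y).trans (hf y).symm)

end Groth.Agent.S3352
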