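import Groth.Statements.S3390
import Groth.Agent.HensPair.FibreTrdeg

set_option autoImplicit false
open CategoryTheory AlgebraicGeometry
universe u
open EGA43

namespace Groth.Agent.S3390

/-- Let Y be an irreducible locally Noetherian scheme with generic point η and X an irreducible scheme,
and let f : X ⟶ Y be dominant and locally of finite type. Take a point x of X and write y = f x.
Suppose dim O_{X,x} = dim O_{Y,y} + dim O_{X_y,x}. Then the local dimension of the fibre X_y at x
(FlatMor.fibreDimAt f x) equals the dimension of the generic fibre X_η (i.e. f is equidimensional at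
x). -/
theorem result {X Y : Scheme.{u}} [IrreducibleSpace X] [IrreducibleSpace Y]
    [IsLocallyNoetherian Y] (f : X ⟶ Y) [LocallyOfFiniteType f] [IsDominant f] (x : X)
    (h : ringKrullDim (X.presheaf.stalk x) =
        ringKrullDim (Y.presheaf.stalk (f.base x)) + ringKrullDim ((f.fiber (f.base x)).presheaf.stalk (f.asFiber x))) :
    FlatMor.fibreDimAt f x = topologicalKrullDim ↥(f.fiber (genericPoint Y)) := by
  open Groth.Agent.HensPair in
  haveI : IsLocallyNoetherian X := LocallyOfFiniteType.isLocallyNoetherian f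
  refine le_antisymm ?_ (Groth.Agent.Equidim.generic_fibre_dim_le f x)
  obtain ⟨k, hk, hd⟩ := FibreTrdeg.main f x
  let ξ := genericPoint X
  have hξ : f ξ = genericPoint Y := by
    refine IsGenericPoint.eq (S := Set.univ) ?_ (genericPoint_spec Y)
    refine Set.eq_univ_of_univ_subset ?_
    rw [← f.denseRange.closure_range]
    refine closure_minimal ?_ isClosed_closure
    rintro _ ⟨z, rfl⟩
    exact (((genericPoint_spec X).specializes (Set.mem_univ z)).map f.continuous).mem_closure
  have h1 := AltitudeScheme.dimension_inequality f x (FibreTrdeg.T f x) (FibreTrdeg.T f ξ) (FibreTrdeg.T_spec f x)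
    fun η hη _ => by
      rw [irreducibleComponents_eq_singleton, Set.mem_singleton_iff] at hη
      obtain rfl : η = ξ := IsGenericPoint.eq (S := Set.univ) hη (genericPoint_spec X)
      exact le_of_eq (FibreTrdeg.T_spec f _)
  obtain ⟨d, hd'⟩ : ∃ d : ℕ, ringKrullDim (Y.presheaf.stalk (f.base x)) = (d : ℕ) := by
    have hb : ringKrullDim (Y.presheaf.stalk (f.base x)) ≠ ⊥ := ringKrullDim_ne_bot
    have ht : ringKrullDim (Y.presheaf.stalk (f.base x)) ≠ ⊤ := ringKrullDim_ne_top
    revert hb ht
    generalize ringKrullDim (Y.presheaf.stalk (f.base x)) = a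
    intro hb ht
    match a with
    | ⊥ => exact absurd rfl hb
    | (⊤ : ℕ∞) => exact absurd rfl ht
    | ((n : ℕ) : ℕ∞) => exact ⟨n, rfl⟩
  rw [h, hd', ringKrullDim_stalk_eq_coheight, hk] at h1
  have h2 : d + k + FibreTrdeg.T f x ≤ d + FibreTrdeg.T f ξ := by exact_mod_cast h1
  have h3 : k + FibreTrdeg.T f x ≤ FibreTrdeg.T f ξ := by omega
  refine hd.le.trans (((Nat.cast_le (α := WithBot ℕ∞)).mpr h3).trans ?_)
  rw [← hξ]
  exact (FibreTrdeg.T_le_fibreDimAt f ξ).trans (Groth.Agent.Equidim.fibreDimAt_le_dim f ξ)

end Groth.Agent.S3390
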