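import Groth.Statements.S3392
import Groth.Agent.HensPair.CatFormula

set_option autoImplicit false
open CategoryTheory AlgebraicGeometry
universe u
open EGA43

namespace Groth.Agent.S3392

/-- Let Y be an irreducible locally Noetherian scheme, f : X ⟶ Y a morphism of finite type and y a point
of Y. Condition (a): for every point x of the fibre over y, dim O_{X,x} = dim O_{Y,y} + dim
O_{X_y,x}. Condition (b): for every point z of the fibre over y at which the local ring of the fibre
has dimension 0 (the generic points of the irreducible components of the fibre), dim O_{X,z} = dim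
O_{Y,y}. Then (a) implies (b), and (b) implies (a) if O_{Y,y} is universally catenary. -/
theorem result {X Y : Scheme.{u}} [IrreducibleSpace Y] [IsLocallyNoetherian Y]
    (f : X ⟶ Y) [LocallyOfFiniteType f] [QuasiCompact f] (y : Y) :
    ((∀ x : X, f.base x = y → ringKrullDim (X.presheaf.stalk x) =
        ringKrullDim (Y.presheaf.stalk (f.base x)) + ringKrullDim ((f.fiber (f.base x)).presheaf.stalk (f.asFiber x))) →
      (∀ z : X, f.base z = y → ringKrullDim ((f.fiber (f.base z)).presheaf.stalk (f.asFiber z)) = 0 →
        ringKrullDim (X.presheaf.stalk z) = ringKrullDim (Y.presheaf.stalk (f.base z)))) ∧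
    (CAlg.IsUniversallyCatenary (Y.presheaf.stalk y) →
      (∀ z : X, f.base z = y → ringKrullDim ((f.fiber (f.base z)).presheaf.stalk (f.asFiber z)) = 0 →
        ringKrullDim (X.presheaf.stalk z) = ringKrullDim (Y.presheaf.stalk (f.base z))) →
      (∀ x : X, f.base x = y → ringKrullDim (X.presheaf.stalk x) =
        ringKrullDim (Y.presheaf.stalk (f.base x)) + ringKrullDim ((f.fiber (f.base x)).presheaf.stalk (f.asFiber x)))) := by
  refine ⟨fun h z hz h0 => ?_, fun hcat h x hx => ?_⟩
  · have h1 := h z hz
    rwa [h0, add_zero] at h1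
  subst hx
  obtain ⟨g, hg, hgmax, hdim⟩ := Groth.Agent.HensPair.FibreTrdeg.exists_maximal_dim f x
  let z := f.fiberι (f.base x) g
  have hfz : f.base z = f.base x := (f.range_fiberι (f.base x)).subset ⟨g, rfl⟩
  have hzx : z ⤳ x := (hg.map (f.fiberι (f.base x)).continuous).trans (specializes_of_eq (f.fiberι_asFiber x))
  have hmax : ∀ z' : X, f z' = f z → z' ⤳ z → z' = z := fun z' hz' hz'z =>
    Groth.Agent.HensPair.FibreComp.maximal_image f _ g hgmax z' (hz'.trans hfz) (specializes_iff_mem_closure.mp hz'z)
  refine Groth.Agent.HensPair.CatFormula.of_component f x z hcat hfz hzx hmax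
    (le_antisymm (Groth.Agent.HensPair.FibreTrdeg.fibreDimAt_mono f hzx) hdim) (h z hfz ?_)
  obtain ⟨m, d, k, -, -, hk, -, he⟩ := Groth.Agent.HensPair.CatFormula.dims f z
  rw [hk]
  rw [Groth.Agent.HensPair.FibreTrdeg.fibreDimAt_eq_T_of_maximal f z
    ((Groth.Agent.HensPair.CatFormula.maximal_iff f z).mp hmax)] at he
  have h1 : Groth.Agent.HensPair.FibreTrdeg.T f z = k + Groth.Agent.HensPair.FibreTrdeg.T f z := by exact_mod_cast he
  rw [show k = 0 by omega]
  rfl

end Groth.Agent.S3392
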