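import Groth.Statements.S3393
import Groth.Agent.HensPair.EquidimCat

set_option autoImplicit false
open CategoryTheory AlgebraicGeometry
universe u
open EGA43

namespace Groth.Agent.S3393

/-- Let Y be an irreducible locally Noetherian scheme with generic point η, f : X ⟶ Y a morphism of
finite type and y a point of Y. Condition (b): for every point z of the fibre over y at which the
local ring of the fibre has dimension 0, dim O_{X,z} = dim O_{Y,y}. Condition (c): for every such z
there is an irreducible component X' of X containing z such that the dimension of X' ∩ f⁻¹(η)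
(topology induced from X) equals the local dimension at z of the fibre over y (the dimension of the
irreducible component of the fibre with generic point z). Then (b) implies (c), and (c) implies (b)
if O_{Y,y} is universally catenary. -/
theorem result {X Y : Scheme.{u}} [IrreducibleSpace Y] [IsLocallyNoetherian Y]
    (f : X ⟶ Y) [LocallyOfFiniteType f] [QuasiCompact f] (y : Y) :
    ((∀ z : X, f.base z = y → ringKrullDim ((f.fiber (f.base z)).presheaf.stalk (f.asFiber z)) = 0 →
        ringKrullDim (X.presheaf.stalk z) = ringKrullDim (Y.presheaf.stalk (f.base z))) →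
      (∀ z : X, f.base z = y → ringKrullDim ((f.fiber (f.base z)).presheaf.stalk (f.asFiber z)) = 0 →
        ∃ X' ∈ irreducibleComponents (X : Type u), z ∈ X' ∧
          topologicalKrullDim ↥(X' ∩ f.base ⁻¹' {genericPoint Y}) = FlatMor.fibreDimAt f z)) ∧
    (CAlg.IsUniversallyCatenary (Y.presheaf.stalk y) →
      (∀ z : X, f.base z = y → ringKrullDim ((f.fiber (f.base z)).presheaf.stalk (f.asFiber z)) = 0 →
        ∃ X' ∈ irreducibleComponents (X : Type u), z ∈ X' ∧
          topologicalKrullDim ↥(X' ∩ f.base ⁻¹' {genericPoint Y}) = FlatMor.fibreDimAt f z) →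
      (∀ z : X, f.base z = y → ringKrullDim ((f.fiber (f.base z)).presheaf.stalk (f.asFiber z)) = 0 →
        ringKrullDim (X.presheaf.stalk z) = ringKrullDim (Y.presheaf.stalk (f.base z)))) := by
  open Groth.Agent.HensPair in
  have hT : ∀ z : X, ringKrullDim ((f.fiber (f.base z)).presheaf.stalk (f.asFiber z)) = 0 →
      FlatMor.fibreDimAt f z = ((FibreTrdeg.T f z : ℕ) : WithBot ℕ∞) := fun z h0 => by
    obtain ⟨m, d, k, -, -, hk, -, he⟩ := CatFormula.dims f z
    rw [hk] at h0
    have hk0 : k = 0 := by exact_mod_cast h0
    rw [he, hk0, Nat.zero_add]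
  refine ⟨fun hb z hz h0 => ?_, fun hcat hc z hz h0 => ?_⟩
  · obtain ⟨ξ, hξz, hξmax, hη, hTξ⟩ := EquidimCat.exists_component_of_dim f z _ (hT z h0) rfl (hb z hz h0)
    refine ⟨closure {ξ}, Groth.Agent.Equidim.closure_mem_irreducibleComponents ξ hξmax, hξz.mem_closure, ?_⟩
    rw [← hη, EquidimCat.gen_fibre_dim f ξ, hTξ, hT z h0]
  · obtain ⟨X', hX', hzX', hdim⟩ := hc z hz h0
    subst hz
    let ξ := hX'.1.genericPoint
    have hcl : closure ({ξ} : Set X) = X' := by
      rw [hX'.1.genericPoint_closure_eq, (isClosed_of_mem_irreducibleComponents X' hX').closure_eq]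
    have hξz : ξ ⤳ z := specializes_iff_mem_closure.mpr (hcl.ge hzX')
    have hη : f ξ = genericPoint Y := by
      obtain ⟨a, ha, hay⟩ : (X' ∩ f.base ⁻¹' {genericPoint Y}).Nonempty := by
        by_contra hne
        rw [Set.not_nonempty_iff_eq_empty] at hne
        rw [hne, hT z h0] at hdim
        have h1 : topologicalKrullDim ↥(∅ : Set X) = ⊥ := Order.krullDim_eq_bot_iff.mpr ⟨fun C => by
          obtain ⟨w, -⟩ := C.isIrreducible.nonempty
          exact w.2⟩
        rw [h1] at hdim
        exact absurd hdim (by simp)
      have h1 : f ξ ⤳ genericPoint Y :=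
        ((specializes_iff_mem_closure.mpr (hcl.ge ha)).map f.continuous).trans (specializes_of_eq hay)
      exact (h1.antisymm ((genericPoint_spec Y).specializes trivial)).eq
    rw [← hcl, ← hη, EquidimCat.gen_fibre_dim f ξ, hT z h0] at hdim
    have hTξ : FibreTrdeg.T f ξ = FibreTrdeg.T f z := by exact_mod_cast hdim
    obtain ⟨m, d, k, hm, hd, hk, hle, -⟩ := CatFormula.dims f z
    obtain ⟨j, i, hi, hj, -, heq⟩ := CatScheme.alt f z ξ hξz
    rw [CatScheme.cd_eq_stalk_of_generic (f ξ) (f z) (fun t => hη ▸ (genericPoint_spec Y).specializes trivial), hd] at hj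
    have hdj : d = j := by exact_mod_cast hj
    have him : i ≤ m := by
      have h := CatScheme.cd_le_stalk ξ z
      rw [hi, hm] at h
      exact_mod_cast h
    rw [hk] at h0
    have hk0 : k = 0 := by exact_mod_cast h0
    have := heq hcat
    rw [hm, hd]
    exact_mod_cast (by omega : m = d)

end Groth.Agent.S3393
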