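import Groth.Statements.S3396
import Groth.Agent.HensPair.EquidimCat

set_option autoImplicit false
open CategoryTheory AlgebraicGeometry
universe u
open EGA43

namespace Groth.Agent.S3396

/-- Let Y be locally Noetherian, f : X ⟶ Y locally of finite type and equidimensional at the point x,
and suppose the local ring O_{Y,f x} is universally catenary. If O_{Y,f x} is equidimensional, then
so is O_{X,x}. -/
theorem result {X Y : Scheme.{u}} [IsLocallyNoetherian Y] (f : X ⟶ Y)
    [LocallyOfFiniteType f] (x : X) (h : EGA43.IsEquidimAt f x)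
    (hcat : CAlg.IsUniversallyCatenary (Y.presheaf.stalk (f.base x)))
    (hY : EGA4.IsEquidim (Y.presheaf.stalk (f.base x))) :
    EGA4.IsEquidim (X.presheaf.stalk x) := by
  open Groth.Agent.HensPair in
  intro P hP
  obtain ⟨m, d, k, hm, hd, hk, hle, he⟩ := CatFormula.dims f x
  obtain ⟨i, j, e, hi, -, he', hf, hj⟩ := EquidimCat.quot_formula f x h hcat ⟨P, hP.1.1⟩ hP
  have hjd : d = j := by have := hj hY; rw [hd] at this; exact_mod_cast this
  have hek : e = k + FibreTrdeg.T f x := by rw [he] at he'; exact_mod_cast he'.symm
  have hfor := CatFormula.eq_of_formula f x m d k hm hd hk (CatFormula.of_equidimAt f x hY hcat h)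
  rw [hi, hm]
  exact_mod_cast (by omega : i = m)

end Groth.Agent.S3396
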