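import Groth.Statements.S3399
import Groth.Agent.Cons.Basic
import Mathlib.AlgebraicGeometry.Morphisms.FinitePresentation
import Mathlib.AlgebraicGeometry.Morphisms.Flat
import Mathlib.AlgebraicGeometry.Morphisms.UniversallyOpen
import Mathlib.AlgebraicGeometry.Noetherian
import Mathlib.RingTheory.Spectrum.Prime.Chevalley
import Mathlib.Topology.Maps.Proper.CompactlyGenerated
import Mathlib.Topology.Compactness.LocallyCompact
import Mathlib.Topology.Connected.TotallyDisconnected

set_option autoImplicit false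
open CategoryTheory AlgebraicGeometry
universe u
open EGA41

namespace Groth.Agent.S3399
open CategoryTheory CategoryTheory.Limits AlgebraicGeometry TopologicalSpace Topology Groth.Agent.Cons.Basic

/-- Let f : X' ⟶ X be a morphism locally of finite presentation and E' an ind-constructible subset of
X'. Then f(E') is ind-constructible in X; in particular f(X') is ind-constructible. -/
theorem result {X' X : Scheme.{u}} (f : X' ⟶ X)
    [LocallyOfFinitePresentation f] (E' : Set X') (hE' : ProCons.IsIndConstructible E') :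
    ProCons.IsIndConstructible (f.base '' E') := by
  refine isIndConstructible_iff.mpr fun R t => ?_
  refine @isOpen_iff_forall_mem_open _ (constructibleTopology (Spec R)) _ |>.mpr fun p hp => ?_
  obtain ⟨x, hx, hxp⟩ := hp
  obtain ⟨z, hz₁, hz₂⟩ := Scheme.Pullback.exists_preimage_pullback x p hxp
  obtain ⟨Q, hQ, hzQ⟩ : ∃ Q : (pullback f t).Opens, IsAffineOpen Q ∧ z ∈ Q := by
    obtain ⟨_, ⟨Q, hQ, rfl⟩, hzQ, -⟩ :=
      (pullback f t).isBasis_affineOpens.exists_subset_of_mem_open (Set.mem_univ z) isOpen_univ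
    exact ⟨Q, hQ, hzQ⟩
  obtain ⟨w, rfl⟩ := hQ.range_fromSpec.ge hzQ
  have := hQ.isOpenImmersion_fromSpec
  obtain ⟨C, hC, hwC, hCE⟩ := exists_isConstructible_subset
    (isIndConstructible_iff.mp hE' _ (hQ.fromSpec ≫ pullback.fst f t)) w
    (show (hQ.fromSpec ≫ pullback.fst f t) w ∈ E' by rw [Scheme.Hom.comp_apply, hz₁]; exact hx)
  refine ⟨(hQ.fromSpec ≫ pullback.snd f t) '' C, ?_, (isClopen_of_isConstructible
    ((hQ.fromSpec ≫ pullback.snd f t).isConstructible_image hC)).1, ⟨w, hwC, by
      rw [Scheme.Hom.comp_apply]; exact hz₂⟩⟩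
  rintro _ ⟨v, hv, rfl⟩
  refine ⟨_, hCE hv, ?_⟩
  simp only [← Scheme.Hom.comp_apply, Category.assoc, pullback.condition]

end Groth.Agent.S3399
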