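import Groth.Statements.S3401
import Groth.Agent.Cons.Basic
import Mathlib.AlgebraicGeometry.Morphisms.FinitePresentation
import Mathlib.AlgebraicGeometry.Morphisms.Flat
import Mathlib.AlgebraicGeometry.Morphisms.UniversallyOpen
import Mathlib.AlgebraicGeometry.Noetherian
import Mathlib.RingTheory.Spectrum.Prime.Chevalley
import Mathlib.Topology.Maps.Proper.CompactlyGenerated
import Mathlib.Topology.Compactness.LocallyCompact
import Mathlib.Topology.Connected.TotallyDisconnected

set_option autoImplicit false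
open CategoryTheory AlgebraicGeometry
universe u
open EGA41

namespace Groth.Agent.S3401
open CategoryTheory CategoryTheory.Limits AlgebraicGeometry TopologicalSpace Topology Groth.Agent.Cons.Basic

/-- Let X be a scheme and E a subset of X. If E is ind-constructible then for every point x of E the set
E ∩ cl{x} is a neighbourhood of x in cl{x}; when X is locally Noetherian the converse holds. (As
published, the necessity clause quantifies over all points x of X; for x outside E the condition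
cannot hold, and the argument uses x ∈ E, so it is stated here for x ∈ E.) Stated as an equivalence
for X locally Noetherian. -/
theorem result (X : Scheme.{u}) [IsLocallyNoetherian X]
    (E : Set X) :
    ProCons.IsIndConstructible E ↔
      ∀ x ∈ E, (Subtype.val ⁻¹' E : Set ↥(closure ({x} : Set X))) ∈ nhds (⟨x, subset_closure rfl⟩ : ↥(closure ({x} : Set X))) := by
  constructor
  · intro hE x hx
    obtain ⟨Q, hQ, hxQ⟩ : ∃ Q : X.Opens, IsAffineOpen Q ∧ x ∈ Q := by
      obtain ⟨_, ⟨Q, hQ, rfl⟩, hxQ, -⟩ :=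
        X.isBasis_affineOpens.exists_subset_of_mem_open (Set.mem_univ x) isOpen_univ
      exact ⟨Q, hQ, hxQ⟩
    obtain ⟨p, rfl⟩ := hQ.range_fromSpec.ge hxQ
    have := hQ.isOpenImmersion_fromSpec
    obtain ⟨C, hC, hpC, hCE⟩ := exists_isConstructible_subset (isIndConstructible_iff.mp hE _ hQ.fromSpec) p hx
    obtain ⟨S, rfl⟩ := PrimeSpectrum.exists_constructibleSetData_iff.mpr hC
    obtain ⟨D, hD, hpD⟩ := Set.mem_iUnion₂.mp hpC
    refine mem_nhds_subtype _ _ _ |>.mpr ⟨hQ.fromSpec '' (PrimeSpectrum.zeroLocus {D.f})ᶜ,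
      (hQ.fromSpec.isOpenEmbedding.isOpenMap _ (PrimeSpectrum.isClosed_zeroLocus _).isOpen_compl).mem_nhds ⟨p, hpD.2, rfl⟩, ?_⟩
    rintro ⟨y, hy⟩ ⟨q, hq, hqy⟩
    obtain rfl : hQ.fromSpec q = y := hqy
    have hpq : p ⤳ q := hQ.fromSpec.isOpenEmbedding.isInducing.specializes_iff.mp (specializes_iff_mem_closure.mpr hy)
    refine hCE (Set.mem_iUnion₂.mpr ⟨D, hD, ?_, hq⟩)
    exact hpq.mem_closed (PrimeSpectrum.isClosed_zeroLocus _) hpD.1
  · intro h
    refine isIndConstructible_iff.mpr fun R t => ?_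
    refine @isOpen_iff_forall_mem_open _ (constructibleTopology (Spec R)) _ |>.mpr fun p hp => ?_
    obtain ⟨Q, hQ, hpQ⟩ : ∃ Q : X.Opens, IsAffineOpen Q ∧ t p ∈ Q := by
      obtain ⟨_, ⟨Q, hQ, rfl⟩, hxQ, -⟩ :=
        X.isBasis_affineOpens.exists_subset_of_mem_open (Set.mem_univ (t p)) isOpen_univ
      exact ⟨Q, hQ, hxQ⟩
    obtain ⟨W, hW, hWE⟩ := mem_nhds_subtype _ _ _ |>.mp (h _ hp)
    obtain ⟨W', hW'W, hW'o, hxW'⟩ := mem_nhds_iff.mp hW
    obtain ⟨q, hq⟩ := hQ.range_fromSpec.ge hpQ
    have := hQ.isOpenImmersion_fromSpec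
    obtain ⟨_, ⟨g, rfl⟩, hqg, hgW⟩ := PrimeSpectrum.isTopologicalBasis_basic_opens.exists_subset_of_mem_open
      (show q ∈ hQ.fromSpec ⁻¹' W' by rw [Set.mem_preimage, hq]; exact hxW') (hW'o.preimage hQ.fromSpec.continuous)
    have : IsNoetherianRing Γ(X, Q) := IsLocallyNoetherian.component_noetherian ⟨Q, hQ⟩
    have : NoetherianSpace (PrimeSpectrum Γ(X, Q)) := inferInstance
    let C : Set (Spec Γ(X, Q)) := (PrimeSpectrum.basicOpen g : Set (PrimeSpectrum Γ(X, Q))) ∩ closure {q}
    have hC : IsConstructible C := by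
      refine ((PrimeSpectrum.isCompact_basicOpen g).isConstructible (PrimeSpectrum.basicOpen g).2).inter ?_
      exact ((NoetherianSpace.isCompact (α := PrimeSpectrum Γ(X, Q)) _).isConstructible isClosed_closure.isOpen_compl).of_compl
    have hCE : hQ.fromSpec '' C ⊆ E := by
      rintro _ ⟨z, ⟨hzg, hzq⟩, rfl⟩
      have hcl : hQ.fromSpec z ∈ closure {t p} := by
        rw [← hq]
        exact ((specializes_iff_mem_closure.mpr hzq).map hQ.fromSpec.continuous).mem_closure
      exact hWE (show (⟨_, hcl⟩ : ↥(closure {t p})) ∈ Subtype.val ⁻¹' W from hW'W (hgW hzg))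
    have hopen := isOpen_image_of_isOpenImmersion hQ.fromSpec (isClopen_of_isConstructible hC).1
    exact ⟨t ⁻¹' (hQ.fromSpec '' C), Set.preimage_mono hCE, isOpen_preimage t hopen, q, ⟨hqg, subset_closure rfl⟩, hq⟩

end Groth.Agent.S3401
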