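import Groth.Statements.S3404
import Groth.Agent.Cons.Basic
import Groth.Agent.Mor.Cancel
import Mathlib.AlgebraicGeometry.Morphisms.FinitePresentation

set_option autoImplicit false
open CategoryTheory AlgebraicGeometry
universe u
open EGA41

namespace Groth.Agent.S3404

section helpers

open CategoryTheory CategoryTheory.Limits AlgebraicGeometry Topology

theorem exists_generization_comap {A B : Type u} [CommRing A] [CommRing B] (φ : A →+* B) (P : PrimeSpectrum B)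
    (h : ∀ U : Set (PrimeSpectrum B), IsOpen U → P ∈ U → ∀ q', q' ⤳ PrimeSpectrum.comap φ P → q' ∈ PrimeSpectrum.comap φ '' U)
    (q' : PrimeSpectrum A) (hq : q' ⤳ PrimeSpectrum.comap φ P) :
    ∃ P' : PrimeSpectrum B, P' ⤳ P ∧ PrimeSpectrum.comap φ P' = q' := by
  let M : Submonoid B := P.asIdeal.primeCompl ⊔ (q'.asIdeal.primeCompl.map φ)
  have hdis : Disjoint ((q'.asIdeal.map φ : Ideal B) : Set B) M := by
    rw [Set.disjoint_left]
    intro z hz hzM
    obtain ⟨s, hs, _, ⟨a, ha, rfl⟩, rfl⟩ := Submonoid.mem_sup.mp hzM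
    obtain ⟨Q, hQs, hQ⟩ := h _ (PrimeSpectrum.basicOpen s).isOpen hs q' hq
    have hle : q'.asIdeal.map φ ≤ Q.asIdeal := Ideal.map_le_iff_le_comap.mpr (by rw [← hQ]; rfl)
    rcases Q.2.mem_or_mem (hle hz) with h' | h'
    · exact hQs h'
    · exact ha (by rw [← hQ]; exact h')
  obtain ⟨P', hP', hle, hdis'⟩ := Ideal.exists_le_prime_disjoint _ M hdis
  rw [Set.disjoint_left] at hdis'
  refine ⟨⟨P', hP'⟩, (PrimeSpectrum.le_iff_specializes _ P).mp (fun z hz => ?_), ?_⟩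
  · by_contra hzP
    exact hdis' hz ((le_sup_left : P.asIdeal.primeCompl ≤ M) hzP)
  · refine PrimeSpectrum.ext (le_antisymm (fun a ha => ?_) (Ideal.map_le_iff_le_comap.mp hle))
    by_contra haq
    exact hdis' ha ((le_sup_right : q'.asIdeal.primeCompl.map φ ≤ M) ⟨a, haq, rfl⟩)

theorem lift_of_isOpenAt {X Y : Scheme.{u}} (f : X ⟶ Y) (x : X) (hf : EGA43.IsOpenAt f.base x)
    (y' : Y) (hy : y' ⤳ f x) : ∃ x' : X, x' ⤳ x ∧ f x' = y' := by
  obtain ⟨_, ⟨V, hV, rfl⟩, hxV, -⟩ := Y.isBasis_affineOpens.exists_subset_of_mem_open (Set.mem_univ (f x)) isOpen_univ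
  obtain ⟨_, ⟨U, hU, rfl⟩, hxU, hUV⟩ := X.isBasis_affineOpens.exists_subset_of_mem_open (show x ∈ (f ⁻¹ᵁ V).1 from hxV) (f ⁻¹ᵁ V).2
  set φ := (f.appLE V U hUV).hom
  have hc : ∀ Q, f (hU.fromSpec Q) = hV.fromSpec (PrimeSpectrum.comap φ Q) := fun Q => by
    rw [← Scheme.Hom.comp_apply, ← hV.SpecMap_appLE_fromSpec f hU hUV]; rfl
  obtain ⟨P, rfl⟩ := hU.range_fromSpec.ge hxU
  obtain ⟨q', rfl⟩ := hV.range_fromSpec.ge (hy.mem_open V.2 hxV)
  have hq : q' ⤳ PrimeSpectrum.comap φ P :=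
    hV.fromSpec.isOpenEmbedding.isInducing.specializes_iff.mp ((hc P) ▸ hy)
  obtain ⟨P', hP', hP'q⟩ := exists_generization_comap φ P (fun W hW hPW q hq => by
    have h1 : f.base '' (hU.fromSpec '' W) ∈ nhds (f.base (hU.fromSpec P)) :=
      hf _ ((hU.fromSpec.isOpenEmbedding.isOpenMap W hW).mem_nhds ⟨P, hPW, rfl⟩)
    obtain ⟨O, hO, hOo, hPO⟩ := mem_nhds_iff.1 h1
    have h2 : hV.fromSpec q ∈ O := ((hc P).symm ▸ (hq.map hV.fromSpec.continuous) : hV.fromSpec q ⤳ f (hU.fromSpec P)).mem_open hOo hPO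
    obtain ⟨_, ⟨Q, hQ, rfl⟩, hQe⟩ := hO h2
    exact ⟨Q, hQ, hV.fromSpec.isOpenEmbedding.injective ((hc Q).symm.trans hQe)⟩) q' hq
  exact ⟨hU.fromSpec P', hP'.map hU.fromSpec.continuous, (hc P').trans (congrArg hV.fromSpec hP'q)⟩

theorem isOpenAt_of_lift {X Y : Scheme.{u}} (f : X ⟶ Y) [LocallyOfFinitePresentation f] (x : X)
    (h : ∀ y' : Y, y' ⤳ f x → ∃ x' : X, x' ⤳ x ∧ f x' = y') : EGA43.IsOpenAt f.base x := by
  intro N hN
  obtain ⟨_, ⟨V, hV, rfl⟩, hxV, -⟩ := Y.isBasis_affineOpens.exists_subset_of_mem_open (Set.mem_univ (f x)) isOpen_univ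
  obtain ⟨O, hON, hOo, hxO⟩ := mem_nhds_iff.1 hN
  obtain ⟨_, ⟨W, hW, rfl⟩, hxW, hWO⟩ :=
    X.isBasis_affineOpens.exists_subset_of_mem_open (show x ∈ O ∩ (f ⁻¹ᵁ V : X.Opens) from ⟨hxO, hxV⟩) (hOo.inter (f ⁻¹ᵁ V).2)
  have hWV : W ≤ f ⁻¹ᵁ V := fun z hz => (hWO hz).2
  haveI : IsAffine (W : Scheme.{u}) := hW
  haveI : IsAffine (V : Scheme.{u}) := hV
  let g : (W : Scheme.{u}) ⟶ V := f.resLE V W hWV
  have hg : ∀ z, (Scheme.Opens.ι V) (g z) = f ((Scheme.Opens.ι W) z) := fun z => by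
    rw [← Scheme.Hom.comp_apply, Scheme.Hom.resLE_comp_ι]; rfl
  haveI : IsAffineHom g := inferInstance
  haveI : LocallyOfFinitePresentation g := by
    haveI : LocallyOfFinitePresentation (g ≫ (Scheme.Opens.ι V)) := by rw [Scheme.Hom.resLE_comp_ι]; infer_instance
    exact Groth.Agent.Mor.Cancel.locallyOfFinitePresentation_of_comp g (Scheme.Opens.ι V)
  have hlc : IsLocallyConstructible (Set.range g) := by
    have := Scheme.Hom.isLocallyConstructible_image g (s := Set.univ) IsLocallyConstructible.univ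
    rwa [Set.image_univ] at this
  have hpro : ProCons.IsProConstructible (Set.range g)ᶜ := by
    rw [Groth.Agent.Cons.Basic.isProConstructible_iff_compl, compl_compl]
    exact (Groth.Agent.Cons.Basic.isLocallyConstructible_iff.mp hlc).1
  have hgx : g ⟨x, hxW⟩ ∉ closure (Set.range g)ᶜ := by
    intro hcl
    obtain ⟨z, hz, hzx⟩ := Groth.Agent.Cons.Basic.exists_specializes_of_mem_closure hpro hcl
    have hzx' : (Scheme.Opens.ι V) z ⤳ f x := (hg ⟨x, hxW⟩) ▸ hzx.map (Scheme.Opens.ι V).continuous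
    obtain ⟨x', hx', hx'z⟩ := h _ hzx'
    have hx'W : x' ∈ W := hx'.mem_open W.2 hxW
    exact hz ⟨⟨x', hx'W⟩, (Scheme.Opens.ι V).isOpenEmbedding.injective ((hg ⟨x', hx'W⟩).trans hx'z)⟩
  refine Filter.mem_of_superset (((Scheme.Opens.ι V).isOpenEmbedding.isOpenMap _ (isClosed_closure.isOpen_compl)).mem_nhds
    (show f x ∈ (Scheme.Opens.ι V) '' (closure (Set.range g)ᶜ)ᶜ from ⟨g ⟨x, hxW⟩, hgx, hg ⟨x, hxW⟩⟩)) ?_
  rintro _ ⟨v, hv, rfl⟩
  obtain ⟨z, rfl⟩ : v ∈ Set.range g := by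
    by_contra hn
    exact hv (subset_closure hn)
  exact ⟨(Scheme.Opens.ι W) z, hON (hWO z.2).1, (hg z).symm⟩

end helpers

/-- Let f : X ⟶ Y be a morphism of schemes, x a point of X and y = f x. If f is open at x then every
generization of y is the image of a generization of x; when f is locally of finite presentation the
converse holds. -/
theorem result {X Y : Scheme.{u}} (f : X ⟶ Y) (x : X) :
    (EGA43.IsOpenAt f.base x → ∀ y' : Y, y' ⤳ f.base x → ∃ x' : X, x' ⤳ x ∧ f.base x' = y') ∧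
    (LocallyOfFinitePresentation f →
      ((EGA43.IsOpenAt f.base x) ↔ ∀ y' : Y, y' ⤳ f.base x → ∃ x' : X, x' ⤳ x ∧ f.base x' = y')) := by
  exact ⟨fun h y' hy => lift_of_isOpenAt f x h y' hy,
    fun hf => ⟨fun h y' hy => lift_of_isOpenAt f x h y' hy, fun h => haveI := hf; isOpenAt_of_lift f x h⟩⟩

end Groth.Agent.S3404
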