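import Groth.Statements.S3406
import Mathlib
import Groth.Agent.Misc9.HSDim

set_option autoImplicit false
universe u
open EGA41

namespace Groth.Agent.S3406

theorem isMaximal_of_finiteLength {A : Type u} [CommRing A] [IsNoetherianRing A] {M : Type u} [AddCommGroup M]
    [Module A M] [Module.Finite A M] (h : IsFiniteLength A M) (p : PrimeSpectrum A) (hp : p ∈ Module.support A M) :
    p.asIdeal.IsMaximal := by
  rw [Module.support_eq_zeroLocus] at hp
  obtain ⟨q, hq, hqp⟩ := Ideal.exists_minimalPrimes_le (show Module.annihilator A M ≤ p.asIdeal from hp)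
  obtain ⟨-, f, hf⟩ := (isAssociatedPrime_iff_exists_injective_linearMap q M).mp
    (Module.associatedPrimes.minimalPrimes_annihilator_subset_associatedPrimes A M hq)
  haveI : IsArtinian A M := (isFiniteLength_iff_isNoetherian_isArtinian.1 h).2
  haveI : IsArtinian A (A ⧸ q) := isArtinian_of_injective f hf
  haveI : IsArtinianRing (A ⧸ q) := isArtinian_of_tower A (M := A ⧸ q) ‹_›
  haveI : q.IsPrime := hq.isPrime
  have hqm : q.IsMaximal := Ideal.Quotient.maximal_of_isField q (IsArtinianRing.isField_of_isDomain (A ⧸ q))
  exact hqm.eq_of_le p.isPrime.ne_top hqp ▸ hqm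

theorem supportDim_congr {A : Type u} [CommRing A] {M N : Type u} [AddCommGroup M] [Module A M] [AddCommGroup N] [Module A N]
    (h : Module.support A M = Module.support A N) : Module.supportDim A M = Module.supportDim A N := by
  unfold Module.supportDim
  rw [h]

theorem le_add {A : Type u} [CommRing A] [IsNoetherianRing A] : ∀ (n : ℕ) (x : Fin n → A) (_ : ∀ i, x i ∈ Ring.jacobson A)
    (M : Type u) [AddCommGroup M] [Module A M] [Module.Finite A M],
    Module.supportDim A M ≤ Module.supportDim A (M ⧸ (Ideal.span (Set.range x) • (⊤ : Submodule A M))) + n := by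
  intro n
  induction n with
  | zero =>
    intro x _ M _ _ _
    rw [Nat.cast_zero, add_zero]
    refine le_of_eq (supportDim_congr ?_)
    rw [Module.support_quotient]
    simp
  | succ n ih =>
    intro x hx M _ _ _
    have h1 : Module.supportDim A M ≤ Module.supportDim A (QuotSMulTop (x 0) M) + 1 :=
      Module.supportDim_le_supportDim_quotSMulTop_succ_of_mem_jacobson (by
        have hj : Ring.jacobson A ≤ (Module.annihilator A M).jacobson := by
          rw [← Ideal.jacobson_bot]
          exact Ideal.jacobson_mono bot_le
        exact hj (hx 0))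
    have h2 := ih (fun i => x i.succ) (fun i => hx _) (QuotSMulTop (x 0) M)
    rw [supportDim_congr (M := QuotSMulTop (x 0) M ⧸ (Ideal.span (Set.range fun i : Fin n => x i.succ) • (⊤ : Submodule A (QuotSMulTop (x 0) M))))
        (N := M ⧸ (Ideal.span (Set.range x) • (⊤ : Submodule A M))) (by
      simp only [Module.support_quotient, Module.support_quotSMulTop, Set.inter_assoc]
      congr 1
      rw [← PrimeSpectrum.zeroLocus_span {x 0}, ← PrimeSpectrum.zeroLocus_sup]
      congr 2
      rw [← Ideal.span_union, Set.singleton_union]
      congr 1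
      ext z
      simp [Fin.exists_fin_succ, eq_comm])] at h2
    refine h1.trans ((add_le_add_left h2 1).trans (le_of_eq ?_))
    push_cast
    rw [add_assoc]


/-- The equality s(M) = dim(M): let A be a Noetherian ring with finitely many maximal ideals, r its
Jacobson radical and M a nonzero finitely generated A-module. Then the dimension of M (the Krull
dimension of its support) is the least n for which there are elements x_1, …, x_n of r such that
M/(x_1 M + ⋯ + x_n M) has finite length. -/
theorem result (A : Type u) [CommRing A] [IsNoetherianRing A]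
    [Finite (MaximalSpectrum A)] (M : Type u) [AddCommGroup M] [Module A M] [Module.Finite A M] [Nontrivial M] :
    Module.supportDim A M =
      sInf {k : WithBot ℕ∞ | ∃ (n : ℕ) (x : Fin n → A), k = n ∧ (∀ i, x i ∈ Ring.jacobson A) ∧
        IsFiniteLength A (M ⧸ (Ideal.span (Set.range x) • (⊤ : Submodule A M)))} := by
  obtain ⟨P, -, hP⟩ := Groth.Agent.Misc9.HSDim.exists_polynomial (A := A) (M := M)
  refine le_antisymm (le_sInf ?_) ?_
  · rintro k ⟨n, x, rfl, hx, hfl⟩
    refine (le_add n x hx M).trans ?_
    have h0 : Module.supportDim A (M ⧸ (Ideal.span (Set.range x) • (⊤ : Submodule A M))) ≤ 0 := by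
      refine iSup_le fun s => ?_
      by_contra hlt
      have hs : s.length ≠ 0 := fun h => hlt (by rw [h]; exact le_rfl)
      have hmax := isMaximal_of_finiteLength hfl s.head.1 s.head.2
      have h01 : s.head < s ⟨1, by omega⟩ := s.strictMono (by simp [Fin.lt_def])
      exact h01.ne (Subtype.ext (PrimeSpectrum.ext (hmax.eq_of_le (s ⟨1, by omega⟩).1.isPrime.ne_top h01.le)))
    calc _ ≤ (0 : WithBot ℕ∞) + n := add_le_add_left h0 _
      _ = _ := zero_add _
  · obtain ⟨l, hl, hlj, hlm⟩ := Groth.Agent.Misc9.HSDim.exists_params (A := A) P.natDegree (Module.annihilator A M)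
      fun s hs => by
        have hmem : ∀ i, s.toFun i ∈ Module.support A M := fun i ↦ by
          rw [Module.support_eq_zeroLocus]
          exact fun x hx ↦ LTSeries.monotone s (Fin.zero_le i) (hs hx)
        let s' : LTSeries (Module.support A M) :=
          { length := s.length, toFun := fun i ↦ ⟨s.toFun i, hmem i⟩, step := fun i ↦ s.step i }
        have h := (Order.LTSeries.length_le_krullDim s').trans_eq hP.symm
        exact_mod_cast h
    refine le_trans (sInf_le ⟨l.length, fun i => l.get i, rfl, fun i => hlj _ (List.get_mem l i), ?_⟩) ?_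
    · rw [← Module.length_ne_top_iff]
      refine Groth.Agent.Misc9.HSDim.length_ne_top fun p hp => ?_
      rw [Module.support_quotient, Module.support_eq_zeroLocus] at hp
      refine hlm p hp.1 fun x hx => hp.2 (Ideal.subset_span ?_)
      exact List.mem_iff_get.1 hx
    · rw [← hP]
      exact_mod_cast hl

end Groth.Agent.S3406
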