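import Groth.Statements.S3432
import Groth.Agent.EGA43.LocClosed

set_option autoImplicit false
open CategoryTheory AlgebraicGeometry
universe u
open EGA43

namespace Groth.Agent.S3432

/-- Let X be a locally Noetherian scheme and Y a closed subset of X such that every nonempty closed
subset of X meets Y. Then the open subscheme X ∖ Y (equivalently, the subspace X ∖ Y) is a Jacobson
space. -/
theorem result (X : Scheme.{u}) [IsLocallyNoetherian X] (Y : Set X)
    (hY : IsClosed Y) (hmeet : ∀ Z : Set X, IsClosed Z → Z.Nonempty → (Z ∩ Y).Nonempty) :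
    JacobsonSpace ↥(Yᶜ) := by
  rw [jacobsonSpace_iff_locallyClosed]
  intro Z hne hZ
  have hi : Topology.IsInducing (Subtype.val : ↥(Yᶜ) → X) := Topology.IsInducing.subtypeVal
  obtain ⟨x, hx, hxc⟩ := Groth.Agent.EGA43.LocClosed.exists_locallyClosed_singleton X
    (hZ.image hi (by rw [Subtype.range_coe]; exact hY.isOpen_compl.isLocallyClosed)) (hne.image _)
  obtain ⟨z, hz, rfl⟩ := hx
  refine ⟨z, hz, ?_⟩
  have : (closure ({z.1} : Set X)) ∩ Yᶜ ⊆ {z.1} := by
    rintro y ⟨hy, hyY⟩
    by_contra hne'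
    have hyc := Groth.Agent.EGA43.LocClosed.isClosed_of_mem_closure hxc hy hne'
    obtain ⟨w, hw, hwY⟩ := hmeet {y} hyc (Set.singleton_nonempty y)
    exact hyY (Set.mem_singleton_iff.mp hw ▸ hwY)
  show IsClosed ({z} : Set ↥(Yᶜ))
  convert (isClosed_closure (s := ({z.1} : Set X))).preimage continuous_subtype_val using 1
  ext w
  refine ⟨fun h => ?_, fun h => Subtype.ext (this ⟨h, w.2⟩)⟩
  rw [Set.mem_singleton_iff.mp h]
  exact subset_closure rfl

end Groth.Agent.S3432
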