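import Groth.Statements.S3433
import Groth.Agent.EGA43.LocClosed
import Groth.Agent.ConstrTop.Basic

set_option autoImplicit false
universe u
open EGA43

namespace Groth.Agent.S3433

/-- Let A be a Noetherian local ring with maximal ideal m and let Y be the punctured spectrum Spec A ∖
{m}. Then Y is a Jacobson space, and a point p of Y is closed in Y if and only if dim A/p = 1. -/
theorem result (A : Type u) [CommRing A] [IsNoetherianRing A] [IsLocalRing A] :
    JacobsonSpace ↥({IsLocalRing.closedPoint A}ᶜ : Set (PrimeSpectrum A)) ∧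
      ∀ p : ↥({IsLocalRing.closedPoint A}ᶜ : Set (PrimeSpectrum A)),
        IsClosed ({p} : Set ↥({IsLocalRing.closedPoint A}ᶜ : Set (PrimeSpectrum A))) ↔
          ringKrullDim (A ⧸ p.1.asIdeal) = 1 := by
  have hU : IsOpen ({IsLocalRing.closedPoint A}ᶜ : Set (PrimeSpectrum A)) :=
    (IsLocalRing.isClosed_singleton_closedPoint A).isOpen_compl
  let U : Set (PrimeSpectrum A) := {IsLocalRing.closedPoint A}ᶜ
  have hm : ∀ q : PrimeSpectrum A, q ≤ IsLocalRing.closedPoint A := fun q =>
    IsLocalRing.le_maximalIdeal q.2.ne_top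
  -- locally closed points of the punctured spectrum are closed in it
  have key : ∀ p : ↥U, IsLocallyClosed ({p.1} : Set (PrimeSpectrum A)) → IsClosed ({p} : Set ↥U) := by
    intro p hp
    obtain ⟨O, C, hO, hC, hOC⟩ := hp
    have hpO : p.1 ∈ O ∧ p.1 ∈ C := (hOC ▸ rfl : p.1 ∈ O ∩ C)
    obtain ⟨_, ⟨f, rfl⟩, hfp, hfO⟩ :=
      PrimeSpectrum.isTopologicalBasis_basic_opens.exists_subset_of_mem_open hpO.1 hO
    convert (isClosed_closure (s := ({p.1} : Set (PrimeSpectrum A)))).preimage continuous_subtype_val using 1
    ext w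
    refine ⟨fun h => by rw [Set.mem_singleton_iff.mp h]; exact subset_closure rfl, fun h => ?_⟩
    have hpw : p.1 ≤ w.1 := (PrimeSpectrum.le_iff_specializes _ _).mpr (specializes_iff_mem_closure.mpr h)
    rcases hpw.eq_or_lt with h' | h'
    · exact Subtype.ext h'.symm
    · exact (Groth.Agent.EGA43.LocClosed.no_chain p.1 w.1 (IsLocalRing.closedPoint A) f
        (fun s hps hfs => by
          have : s ∈ O ∩ C := ⟨hfO hfs, ((PrimeSpectrum.le_iff_specializes _ _).mp hps).mem_closed hC hpO.2⟩
          rw [← hOC] at this; exact this)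
        hfp h' (lt_of_le_of_ne (hm _) w.2)).elim
  refine ⟨?_, fun p => ?_⟩
  · rw [jacobsonSpace_iff_locallyClosed]
    intro Z hne hZ
    have hlc : IsLocallyClosed (Subtype.val '' Z : Set (PrimeSpectrum A)) :=
      hZ.image (Topology.IsInducing.subtypeVal (t := U)) (by rw [Subtype.range_coe]; exact hU.isLocallyClosed)
    obtain ⟨x, ⟨z, hz, rfl⟩, hxc⟩ := Groth.Agent.EGA43.LocClosed.exists_locallyClosed_singleton
      (AlgebraicGeometry.Spec (CommRingCat.of A)) hlc (hne.image _)
    exact ⟨z, hz, key z hxc⟩
  · have hdim : ∀ n : ℕ, ringKrullDim (A ⧸ p.1.asIdeal) = Order.krullDim (Set.Ici p.1) := fun _ =>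
      (ringKrullDim_quotient p.1.asIdeal).trans (by
        refine Order.krullDim_eq_of_orderIso ?_
        exact OrderIso.setCongr _ _ (by ext q; exact Iff.rfl))
    rw [hdim 0]
    constructor
    · intro hc
      have hmin : ∀ q : PrimeSpectrum A, p.1 ≤ q → q = p.1 ∨ q = IsLocalRing.closedPoint A := by
        intro q hq
        by_contra h
        push_neg at h
        obtain ⟨C, hC, hCe⟩ := isClosed_induced_iff.mp hc
        have hpC : p.1 ∈ C := by
          have : p ∈ (Subtype.val ⁻¹' C : Set ↥U) := hCe.symm ▸ rfl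
          exact this
        have : (⟨q, h.2⟩ : ↥U) ∈ ({p} : Set ↥U) :=
          hCe ▸ ((PrimeSpectrum.le_iff_specializes _ _).mp hq).mem_closed hC hpC
        exact h.1 (congrArg Subtype.val (Set.mem_singleton_iff.mp this))
      refine le_antisymm (iSup_le fun s => ?_) ?_
      · by_contra hlen
        have hl : 2 ≤ s.length := by
          by_contra hc'
          exact hlen (by exact_mod_cast (by omega : s.length ≤ 1))
        have h1 := s.strictMono (show (⟨0, by omega⟩ : Fin (s.length + 1)) < ⟨1, by omega⟩ by simp [Fin.lt_def])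
        have h2 := s.strictMono (show (⟨1, by omega⟩ : Fin (s.length + 1)) < ⟨2, by omega⟩ by simp [Fin.lt_def])
        rcases hmin _ (s ⟨1, by omega⟩).2 with h | h
        · have h1' := Subtype.coe_lt_coe.mpr h1
          rw [h] at h1'
          exact not_lt_of_ge (s ⟨0, by omega⟩).2 h1'
        · have h2' := Subtype.coe_lt_coe.mpr h2
          rw [h] at h2'
          exact not_lt_of_ge (hm _) h2'
      · let P : Set.Ici p.1 := ⟨p.1, Set.self_mem_Ici⟩
        let M : Set.Ici p.1 := ⟨IsLocalRing.closedPoint A, hm p.1⟩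
        have hPM : P < M := Subtype.coe_lt_coe.mp (lt_of_le_of_ne (hm p.1) p.2)
        exact Order.LTSeries.length_le_krullDim ((RelSeries.singleton _ M).cons P hPM)
    · intro hd
      have hmin : ∀ q : PrimeSpectrum A, p.1 < q → ¬ q < IsLocalRing.closedPoint A := by
        intro q hq hqm
        let P : Set.Ici p.1 := ⟨p.1, Set.self_mem_Ici⟩
        let Q : Set.Ici p.1 := ⟨q, hq.le⟩
        let M : Set.Ici p.1 := ⟨IsLocalRing.closedPoint A, hm p.1⟩
        have hQM : Q < M := Subtype.coe_lt_coe.mp hqm
        have hPQ : P < Q := Subtype.coe_lt_coe.mp hq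
        let S1 : LTSeries (Set.Ici p.1) := (RelSeries.singleton _ M).cons Q hQM
        have hS1 : S1.head = Q := RelSeries.head_cons _ _ _
        let S2 : LTSeries (Set.Ici p.1) := S1.cons P (show P < S1.head by rw [hS1]; exact hPQ)
        have := Order.LTSeries.length_le_krullDim S2
        have hS2 : S2.length = 2 := rfl
        rw [hS2] at this
        rw [hd] at this
        simp at this
      convert (isClosed_closure (s := ({p.1} : Set (PrimeSpectrum A)))).preimage continuous_subtype_val using 1
      ext w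
      refine ⟨fun h => by rw [Set.mem_singleton_iff.mp h]; exact subset_closure rfl, fun h => ?_⟩
      rcases ((PrimeSpectrum.le_iff_specializes p.1 w.1).mpr
        (specializes_iff_mem_closure.mpr h)).eq_or_lt with h' | h'
      · exact Subtype.ext h'.symm
      · exact absurd (lt_of_le_of_ne (hm _) w.2) (hmin _ h')

end Groth.Agent.S3433
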