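import Groth.Statements.S3434
import Groth.Agent.Lead.DVR.ProperNhd
-- import your own Groth.Agent.* helpers here

set_option autoImplicit false
open CategoryTheory AlgebraicGeometry
universe u
open EGA43

namespace Groth.Agent.S3434

/-- Let Y be an integral locally Noetherian scheme, X an integral scheme, f : X ⟶ Y separated, dominant
and of finite type, and y a point of Y; write K for the function field of X (the local ring at its
generic point ξ), into which O_{Y,y} maps through O_{Y,f ξ}. Then f is proper over some open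
neighbourhood of y if and only if every discrete valuation ring of K which dominates (the image of)
O_{Y,y} dominates (the image of) O_{X,x} for some point x of X; such an x lies over y. -/
theorem result {X Y : Scheme.{u}} [IsIntegral X] [IsIntegral Y] [IsLocallyNoetherian Y]
    (f : X ⟶ Y) [IsSeparated f] [IsDominant f] [LocallyOfFiniteType f] [QuasiCompact f] (y : Y)
    (hξ : f.base (genericPoint X) ⤳ y) :
    (∃ U : Y.Opens, y ∈ U ∧ IsProper (f ∣_ U)) ↔
      ∀ A : ValuationSubring X.functionField, IsDiscreteValuationRing A →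
        (∀ r : Y.presheaf.stalk y, A.valuation ((Y.presheaf.stalkSpecializes hξ ≫ f.stalkMap (genericPoint X)) r) ≤ 1) →
        (∀ r ∈ IsLocalRing.maximalIdeal (Y.presheaf.stalk y),
            A.valuation ((Y.presheaf.stalkSpecializes hξ ≫ f.stalkMap (genericPoint X)) r) < 1) →
        ∃ x : X, f.base x = y ∧
          (∀ r : X.presheaf.stalk x, A.valuation (X.presheaf.stalkSpecializes (genericPoint_specializes x) r) ≤ 1) ∧
          (∀ r ∈ IsLocalRing.maximalIdeal (X.presheaf.stalk x),
            A.valuation (X.presheaf.stalkSpecializes (genericPoint_specializes x) r) < 1) := by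
  constructor
  · rintro ⟨U, hyU, hprop⟩ A hA hA1 hA2
    haveI := hA
    haveI := hprop
    let g : Y.presheaf.stalk y ⟶ X.presheaf.stalk (genericPoint X) :=
      Y.presheaf.stalkSpecializes hξ ≫ f.stalkMap (genericPoint X)
    let π : Y.presheaf.stalk y ⟶ CommRingCat.of A :=
      CommRingCat.ofHom (g.hom.codRestrict A.toSubring fun r => (A.valuation_le_one_iff _).mp (hA1 r))
    haveI : IsLocalHom π.hom := ⟨fun r hr => by
      by_contra hr'
      exact (IsLocalRing.mem_maximalIdeal _).mp
        ((A.valuation_lt_one_iff (π r)).mpr (hA2 r ((IsLocalRing.mem_maximalIdeal r).mpr hr'))) hr⟩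
    let yA := Spec.map π ≫ Y.fromSpecStalk y
    have hcl : yA (IsLocalRing.closedPoint A) = y := by
      show (Y.fromSpecStalk y) ((Spec.map π) (IsLocalRing.closedPoint A)) = y
      rw [show (Spec.map π) (IsLocalRing.closedPoint A) = IsLocalRing.closedPoint (Y.presheaf.stalk y) from
        IsLocalRing.comap_closedPoint π.hom, Scheme.fromSpecStalk_closedPoint]
    have hr : Set.range yA ⊆ (U : Set Y) := Groth.Agent.Lead.DVR.range_subset_of_closedPoint yA (hcl.symm ▸ hyU)
    let y' := IsOpenImmersion.lift U.ι yA (by rwa [Scheme.Opens.range_ι])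
    let xK := X.fromSpecStalk (genericPoint X)
    have hxy : xK ≫ f = Spec.map (CommRingCat.ofHom A.subtype) ≫ yA := by
      rw [← Scheme.SpecMap_stalkMap_fromSpecStalk, ← Scheme.SpecMap_stalkSpecializes_fromSpecStalk hξ,
        ← Spec.map_comp_assoc, ← Spec.map_comp_assoc]
      rfl
    have hxr : Set.range xK ⊆ ((f ⁻¹ᵁ U : X.Opens) : Set X) := by
      rintro _ ⟨q, rfl⟩
      show (xK ≫ f) q ∈ U
      rw [hxy]
      exact hr ⟨_, rfl⟩
    let x' := IsOpenImmersion.lift (f ⁻¹ᵁ U).ι xK (by rwa [Scheme.Opens.range_ι])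
    have w : x' ≫ (f ∣_ U) = Spec.map (CommRingCat.ofHom (algebraMap A X.functionField)) ≫ y' := by
      rw [← cancel_mono U.ι, Category.assoc, morphismRestrict_ι, IsOpenImmersion.lift_fac_assoc, Category.assoc,
        IsOpenImmersion.lift_fac, hxy]
      rfl
    obtain ⟨l, hl, hl'⟩ := Groth.Agent.Lead.DVR.DvrExist.lift _
      (Groth.Agent.Lead.DVR.dvrExist_of_universallyClosed (f ∣_ U)) A X.functionField x' y' w
    let l₀ := l ≫ (f ⁻¹ᵁ U).ι
    have hl₀ : l₀ ≫ f = yA := by
      rw [Category.assoc, ← morphismRestrict_ι, reassoc_of% hl, IsOpenImmersion.lift_fac]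
    have hsub : Spec.map (CommRingCat.ofHom A.subtype) ≫ l₀ = xK := by
      rw [show l₀ = l ≫ (f ⁻¹ᵁ U).ι from rfl, show CommRingCat.ofHom A.subtype =
        CommRingCat.ofHom (algebraMap A X.functionField) from rfl, reassoc_of% hl', IsOpenImmersion.lift_fac]
    let ψ := Scheme.stalkClosedPointTo l₀
    have hψ : ψ ≫ CommRingCat.ofHom A.subtype =
        X.presheaf.stalkSpecializes (genericPoint_specializes (l₀ (IsLocalRing.closedPoint A))) := by
      apply Spec.map_injective
      rw [← cancel_mono (X.fromSpecStalk _), Spec.map_comp, Category.assoc,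
        Scheme.Spec_stalkClosedPointTo_fromSpecStalk, hsub, Scheme.SpecMap_stalkSpecializes_fromSpecStalk]
    refine ⟨l₀ (IsLocalRing.closedPoint A), ?_, fun r => ?_, fun r hr => ?_⟩
    · show (l₀ ≫ f) (IsLocalRing.closedPoint A) = y
      rw [hl₀, hcl]
    · rw [← hψ]
      exact (A.valuation_le_one_iff _).mpr (ψ r).2
    · rw [← hψ]
      refine (A.valuation_lt_one_iff (ψ r)).mp ((IsLocalRing.mem_maximalIdeal _).mpr fun hu => ?_)
      exact (IsLocalRing.mem_maximalIdeal _).mp hr (IsUnit.of_map ψ.hom r hu)
  · intro h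
    refine Groth.Agent.Lead.DVR.exists_isProper_nhd f y fun η hη => ?_
    have hgen : η = genericPoint X := by
      have h1 := hη.2 (IrreducibleSpace.isIrreducible_univ (X : Type u)) (Set.subset_univ _)
      exact (((specializes_iff_mem_closure).mpr (h1 (Set.mem_univ (genericPoint X)))).antisymm
        (genericPoint_specializes η)).eq
    subst hgen
    intro A hA yA hyA hy
    let r : X.functionField →+* X.residueField (genericPoint X) := (X.residue (genericPoint X)).hom
    have hr : Function.Bijective r := ⟨r.injective, X.residue_surjective _⟩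
    let R : ValuationSubring X.functionField := A.comap r
    let toA : R →+* A := (r.comp R.subtype).codRestrict A.toSubring fun a => a.2
    have hbij : Function.Bijective toA := by
      refine ⟨fun a b e => Subtype.ext (hr.1 (congrArg Subtype.val e)), fun a => ?_⟩
      obtain ⟨b, hb⟩ := hr.2 a
      exact ⟨⟨b, show r b ∈ A by rw [hb]; exact a.2⟩, Subtype.ext hb⟩
    haveI : IsDiscreteValuationRing R := by
      haveI := hA
      exact IsDiscreteValuationRing.RingEquivClass.isDiscreteValuationRing (RingEquiv.ofBijective toA hbij).symm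
    subst hyA
    let g := Scheme.stalkClosedPointTo yA
    have hg : g ≫ CommRingCat.ofHom A.subtype =
        Y.presheaf.stalkSpecializes hξ ≫ f.stalkMap (genericPoint X) ≫ X.residue (genericPoint X) := by
      apply Spec.map_injective
      rw [← cancel_mono (Y.fromSpecStalk _), Spec.map_comp, Category.assoc,
        Scheme.Spec_stalkClosedPointTo_fromSpecStalk, hy, Spec.map_comp, Spec.map_comp, Category.assoc, Category.assoc,
        Scheme.SpecMap_stalkSpecializes_fromSpecStalk, Scheme.SpecMap_stalkMap_fromSpecStalk, Scheme.fromSpecResidueField,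
        Category.assoc]
    have e : ∀ a, r ((Y.presheaf.stalkSpecializes hξ ≫ f.stalkMap (genericPoint X)) a) =
        (g a : X.residueField (genericPoint X)) := fun a => (ConcreteCategory.congr_hom hg a).symm
    have hmem : ∀ a, (Y.presheaf.stalkSpecializes hξ ≫ f.stalkMap (genericPoint X)) a ∈ R := fun a => by
      show r _ ∈ A
      rw [e]; exact (g a).2
    obtain ⟨x, hxy, hx1, -⟩ := h R inferInstance (fun a => (R.valuation_le_one_iff _).mpr (hmem a)) fun a ha => by
      have hm : ¬ IsUnit (g a) := fun hu => (IsLocalRing.mem_maximalIdeal a).mp ha (IsUnit.of_map g.hom a hu)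
      refine (R.valuation_lt_one_iff (⟨_, hmem a⟩ : R)).mp ((IsLocalRing.mem_maximalIdeal _).mpr fun hu => hm ?_)
      rw [show g a = toA ⟨_, hmem a⟩ from Subtype.ext (e a).symm]
      exact hu.map toA
    let φ : X.presheaf.stalk x ⟶ CommRingCat.of A :=
      CommRingCat.ofHom ((r.comp (X.presheaf.stalkSpecializes (genericPoint_specializes x)).hom).codRestrict A.toSubring
        fun a => (R.valuation_le_one_iff _).mp (hx1 a))
    have hsub : Spec.map (CommRingCat.ofHom A.subtype) ≫ Spec.map φ ≫ X.fromSpecStalk x =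
        X.fromSpecResidueField (genericPoint X) := by
      rw [← Spec.map_comp_assoc, show φ ≫ CommRingCat.ofHom A.subtype =
        X.presheaf.stalkSpecializes (genericPoint_specializes x) ≫ X.residue (genericPoint X) from rfl,
        Spec.map_comp, Category.assoc, Scheme.SpecMap_stalkSpecializes_fromSpecStalk, Scheme.fromSpecResidueField]
    refine ⟨Spec.map φ ≫ X.fromSpecStalk x, ?_, hsub⟩
    obtain ⟨_, ⟨W, hW, rfl⟩, hyW, -⟩ :=
      Y.isBasis_affineOpens.exists_subset_of_mem_open (Set.mem_univ (yA (IsLocalRing.closedPoint A))) isOpen_univ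
    obtain ⟨p₂, hp₂⟩ := Groth.Agent.Lead.DVR.exists_chart hW yA
      (Groth.Agent.Lead.DVR.range_subset_of_closedPoint yA hyW)
    obtain ⟨p₁, hp₁⟩ := Groth.Agent.Lead.DVR.exists_chart hW ((Spec.map φ ≫ X.fromSpecStalk x) ≫ f) (by
      rintro _ ⟨q, rfl⟩
      have hx : x ⤳ x := specializes_rfl
      have h1 : f x ∈ W := hxy ▸ hyW
      obtain ⟨v, hv⟩ : (X.fromSpecStalk x) (Spec.map φ q) ∈ Set.range (X.fromSpecStalk x) := ⟨_, rfl⟩
      have h2 : (X.fromSpecStalk x) (Spec.map φ q) ⤳ x := by
        have h3 : (X.fromSpecStalk x) (Spec.map φ q) ∈ {z | z ⤳ x} := X.range_fromSpecStalk.le ⟨_, rfl⟩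
        exact h3
      exact (h2.map f.continuous).mem_open W.isOpen h1)
    have e2 : p₁ ≫ CommRingCat.ofHom A.subtype = p₂ ≫ CommRingCat.ofHom A.subtype := Groth.Agent.Lead.DVR.chart_ext hW (by
      simp only [Spec.map_comp, Category.assoc]
      rw [hp₁, hp₂, hy, ← Category.assoc, hsub])
    have e3 : p₁ = p₂ := CommRingCat.hom_ext (RingHom.ext fun z => Subtype.ext (ConcreteCategory.congr_hom e2 z))
    rw [← hp₁, ← hp₂, e3]

end Groth.Agent.S3434
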