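import Groth.Statements.S3441
import Groth.Statements.S3441
import Mathlib.RingTheory.Kaehler.Basic
import Mathlib.Algebra.TrivSqZeroExt.Basic
import Mathlib.Tactic.LinearCombination
import Mathlib.Tactic.Ring
import Mathlib.RingTheory.Ideal.Quotient.Operations

set_option autoImplicit false
universe u
open EGA41

namespace Groth.Agent.S3441
open TensorProduct

open TensorProduct in
theorem exists_extension (A B C : Type u) [CommRing A] [CommRing B] [CommRing C] [Algebra A B] [Algebra B C]
    [Algebra A C] [IsScalarTower A B C] (h : EGA41.IsFormallySmoothRel A B C) {T : Type u} [AddCommGroup T]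
    [Module C T] (δ : B →+ T) (hδ : ∀ a b, δ (a * b) = algebraMap B C a • δ b + algebraMap B C b • δ a)
    (hδA : ∀ a : A, δ (algebraMap A B a) = 0) :
    ∃ d : C →+ T, (∀ x y, d (x * y) = x • d y + y • d x) ∧ (∀ b, d (algebraMap B C b) = δ b) ∧
      ∀ a : A, d (algebraMap A C a) = 0 := by
  letI : Module Cᵐᵒᵖ T := Module.compHom T ((RingHom.id C).fromOpposite mul_comm)
  haveI : IsCentralScalar C T := ⟨fun _ _ => rfl⟩
  have hδ1 : δ 1 = 0 := by simpa using hδA 1
  let g : B →+* TrivSqZeroExt C T :=
    { toFun := fun b => TrivSqZeroExt.inl (algebraMap B C b) + TrivSqZeroExt.inr (δ b)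
      map_one' := by simp [hδ1]
      map_mul' := fun a b => by ext <;> simp [hδ]
      map_zero' := by simp
      map_add' := fun a b => by ext <;> simp }
  letI : Algebra B (TrivSqZeroExt C T) := g.toAlgebra
  letI : Algebra A (TrivSqZeroExt C T) := ((TrivSqZeroExt.inlHom C T).comp (algebraMap A C)).toAlgebra
  haveI : IsScalarTower A B (TrivSqZeroExt C T) := IsScalarTower.of_algebraMap_eq fun a => by
    change TrivSqZeroExt.inl (algebraMap A C a) = g (algebraMap A B a)
    simp [g, hδA, ← IsScalarTower.algebraMap_apply]
  let π : TrivSqZeroExt C T →+* C := (TrivSqZeroExt.fstHom C C T).toRingHom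
  let J : Ideal (TrivSqZeroExt C T) := RingHom.ker π
  have hJ : J ^ 2 = ⊥ := by
    rw [sq, eq_bot_iff, Ideal.mul_le]
    intro x hx y hy
    have hx' : x.fst = 0 := hx
    have hy' : y.fst = 0 := hy
    rw [Ideal.mem_bot]
    ext <;> simp [hx', hy']
  let u₀ : C →ₐ[B] TrivSqZeroExt C T ⧸ J :=
    { (Ideal.Quotient.mk J).comp (TrivSqZeroExt.inlHom C T) with
      commutes' := fun b => Ideal.Quotient.eq.mpr (by
        change π (TrivSqZeroExt.inl (algebraMap B C b) - g b) = 0
        simp [π, g]) }
  obtain ⟨v, hv⟩ := h (TrivSqZeroExt C T) J hJ u₀ ⟨{ TrivSqZeroExt.inlHom C T with commutes' := fun a => rfl }, AlgHom.ext fun c => rfl⟩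
  have hv1 : ∀ c, (v c).fst = c := fun c => by
    have h1 : π (v c - TrivSqZeroExt.inl c) = 0 := Ideal.Quotient.eq.mp (DFunLike.congr_fun hv c)
    simpa [π, sub_eq_zero] using h1
  refine ⟨AddMonoidHom.mk' (fun c => (v c).snd) (fun a b => by simp), fun x y => ?_, fun b => ?_, fun a => ?_⟩
  · change (v (x * y)).snd = x • (v y).snd + y • (v x).snd
    rw [map_mul, TrivSqZeroExt.snd_mul, hv1, hv1]
    rfl
  · change (v (algebraMap B C b)).snd = _
    rw [AlgHom.commutes]
    change (g b).snd = _
    simp [g]
  · change (v (algebraMap A C a)).snd = 0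
    rw [IsScalarTower.algebraMap_apply A B C, AlgHom.commutes]
    change (g _).snd = 0
    simp [g, hδA]


/-- Let A → B → C be ring homomorphisms. The canonical C-linear map Ω_{B/A} ⊗_B C → Ω_{C/A} is left
invertible (has a C-linear left inverse) if and only if C is a formally smooth B-algebra relative to
A for the discrete topologies: every B-algebra homomorphism from C to a quotient C'/J of a B-algebra
C' by an ideal J of square zero that lifts to C' as an A-algebra homomorphism also lifts to C' as a
B-algebra homomorphism. (The published definition of relative formal smoothness tests every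
nilpotent ideal J; its reduction to ideals of square zero does not carry over to the relative
setting, and the square-zero form, which is what the published proof of this statement uses, is the
one taken here.) -/
theorem result (A B C : Type u) [CommRing A] [CommRing B]
    [CommRing C] [Algebra A B] [Algebra B C] [Algebra A C] [IsScalarTower A B C] :
    (∃ l : Ω[C⁄A] →ₗ[C] C ⊗[B] Ω[B⁄A], l ∘ₗ KaehlerDifferential.mapBaseChange A B C = LinearMap.id) ↔
      EGA41.IsFormallySmoothRel A B C := by
  constructor
  · rintro ⟨l, hl⟩ R _ _ _ _ J hJ u₀ ⟨u, hu⟩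
    have hmul : ∀ a b : J, (a : R) * b = 0 := fun a b => by
      have : (a : R) * b ∈ J ^ 2 := by rw [sq]; exact Ideal.mul_mem_mul a.2 b.2
      rwa [hJ, Ideal.mem_bot] at this
    letI iC : Module C J := Module.compHom J u.toRingHom
    have hC : ∀ (c : C) (j : J), ((c • j : J) : R) = u c * j := fun c j => rfl
    have hu' : ∀ c, Ideal.Quotient.mk J (u c) = u₀ c := fun c => DFunLike.congr_fun hu c
    have hB : ∀ b : B, u (algebraMap B C b) - algebraMap B R b ∈ J := fun b => by
      rw [← Ideal.Quotient.eq, hu', AlgHom.commutes, Ideal.Quotient.mk_algebraMap]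
    haveI : IsScalarTower B C J := IsScalarTower.of_algebraMap_smul fun b j => Subtype.ext (by
      change u (algebraMap B C b) * j = b • (j : R)
      rw [Algebra.smul_def, ← sub_eq_zero, ← sub_mul]
      exact hmul ⟨_, hB b⟩ j)
    haveI : IsScalarTower A C J := IsScalarTower.of_algebraMap_smul fun a j => Subtype.ext (by
      change u (algebraMap A C a) * j = a • (j : R)
      rw [AlgHom.commutes, Algebra.smul_def])
    let δ : Derivation A B J := Derivation.mk'
      { toFun := fun b => ⟨u (algebraMap B C b) - algebraMap B R b, hB b⟩
        map_add' := fun a b => Subtype.ext (by simp only [map_add, Submodule.coe_add]; ring)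
        map_smul' := fun a b => Subtype.ext (by
          simp only [RingHom.id_apply, SetLike.val_smul_of_tower, Algebra.smul_def, map_mul,
            ← IsScalarTower.algebraMap_apply, AlgHom.commutes]
          ring) }
      (fun a b => Subtype.ext (by
        change u (algebraMap B C (a * b)) - algebraMap B R (a * b) =
          a • (u (algebraMap B C b) - algebraMap B R b) + b • (u (algebraMap B C a) - algebraMap B R a)
        simp only [Algebra.smul_def, map_mul]
        linear_combination hmul ⟨_, hB a⟩ ⟨_, hB b⟩))
    let φ : Ω[C⁄A] →ₗ[C] J := (δ.liftKaehlerDifferential.liftBaseChange C) ∘ₗ l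
    let d : Derivation A C J := φ.compDer (KaehlerDifferential.D A C)
    have hd : ∀ b : B, d (algebraMap B C b) = δ b := fun b => by
      change (δ.liftKaehlerDifferential.liftBaseChange C) (l (KaehlerDifferential.D A C (algebraMap B C b))) = _
      rw [show KaehlerDifferential.D A C (algebraMap B C b) =
        KaehlerDifferential.mapBaseChange A B C (1 ⊗ₜ KaehlerDifferential.D A B b) by simp,
        ← LinearMap.comp_apply l, hl]
      simp
    refine ⟨{ toFun := fun c => u c - d c
              map_one' := by simp
              map_mul' := fun x y => by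
                rw [d.leibniz, Submodule.coe_add, hC, hC, map_mul]
                linear_combination -(hmul (d x) (d y))
              map_zero' := by simp
              map_add' := fun x y => by simp only [map_add, Submodule.coe_add]; ring
              commutes' := fun b => by rw [hd]; exact sub_sub_cancel _ _ }, AlgHom.ext fun c => ?_⟩
    change Ideal.Quotient.mk J (u c - d c) = u₀ c
    rw [map_sub, Ideal.Quotient.eq_zero_iff_mem.mpr (d c).2, sub_zero, hu']
  · intro h
    let δ : Derivation A B (C ⊗[B] Ω[B⁄A]) :=
      ((TensorProduct.mk B C Ω[B⁄A]) 1).compDer (KaehlerDifferential.D A B)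
    obtain ⟨d₀, hd1, hd, hdA⟩ := exists_extension A B C h δ.toLinearMap.toAddMonoidHom
      (fun a b => by simp [Derivation.leibniz, IsScalarTower.algebraMap_smul]) (fun a => δ.map_algebraMap a)
    let d : Derivation A C (C ⊗[B] Ω[B⁄A]) := Derivation.mk'
      { toFun := d₀, map_add' := d₀.map_add,
        map_smul' := fun a c => by
          rw [Algebra.smul_def, hd1, hdA, smul_zero, add_zero, IsScalarTower.algebraMap_smul]
          rfl } hd1
    refine ⟨d.liftKaehlerDifferential, ?_⟩
    refine TensorProduct.AlgebraTensorModule.ext fun c ω => ?_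
    rw [LinearMap.comp_apply, KaehlerDifferential.mapBaseChange_tmul, map_smul, LinearMap.id_apply]
    have : d.liftKaehlerDifferential (KaehlerDifferential.map A A B C ω) = 1 ⊗ₜ ω := by
      induction (KaehlerDifferential.span_range_derivation A B).ge (Submodule.mem_top (x := ω))
        using Submodule.span_induction with
      | mem x hx =>
        obtain ⟨b, rfl⟩ := hx
        rw [KaehlerDifferential.map_D, Derivation.liftKaehlerDifferential_comp_D]
        exact hd b
      | zero => simp
      | add x y _ _ hx hy => simp [hx, hy, TensorProduct.tmul_add]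
      | smul b x _ hx =>
        rw [map_smul, ← IsScalarTower.algebraMap_smul C b, map_smul, hx, IsScalarTower.algebraMap_smul,
          TensorProduct.tmul_smul]
    rw [this, TensorProduct.smul_tmul', smul_eq_mul, mul_one]

end Groth.Agent.S3441
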