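import Groth.Statements.S3449
import Groth.Agent.HensPair.JacobsonDim

set_option autoImplicit false
open CategoryTheory AlgebraicGeometry
universe u
open EGA43

namespace Groth.Agent.S3449

/-- Let S be a locally Noetherian scheme which is Jacobson, whose local rings are universally catenary,
and whose irreducible components S' are equidimensional in the sense that for every closed point s
of S' the dimension of S' equals the dimension of S' at s (the Krull dimension of the set of
generizations of s inside S'). Let X and Y be S-schemes, each locally of finite type over the base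
S, and let f : X ⟶ Y be a morphism over S, with X irreducible and f dominant; let η be the generic
point of Y and e the dimension of the fibre over η. Then dim X = dim Y + e. -/
theorem result {X Y S : Scheme.{u}} [IsLocallyNoetherian S]
    [JacobsonSpace S] (h2 : ∀ s : S, CAlg.IsUniversallyCatenary (S.presheaf.stalk s))
    (h3 : ∀ S' ∈ irreducibleComponents (S : Type u), ∀ s ∈ S', IsClosed ({s} : Set S) →
      topologicalKrullDim (↥S' : Type u) = topologicalKrullDim ↥{t : S | t ∈ S' ∧ t ⤳ s})
    (p : X ⟶ S) (q : Y ⟶ S) [LocallyOfFiniteType p] [LocallyOfFiniteType q] (f : X ⟶ Y) (hf : f ≫ q = p)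
    [IrreducibleSpace X] [IrreducibleSpace Y] [IsDominant f] :
    topologicalKrullDim (X : Type u) =
      topologicalKrullDim (Y : Type u) + topologicalKrullDim ↥(f.fiber (genericPoint Y)) := by
  subst hf
  haveI : LocallyOfFiniteType f := locallyOfFiniteType_of_comp f q
  let ξ := genericPoint X
  have hξ : ∀ z : X, ξ ⤳ z := fun z => (genericPoint_spec X).specializes trivial
  have hη : f ξ = genericPoint Y := by
    refine IsGenericPoint.eq (S := Set.univ) ?_ (genericPoint_spec Y)
    refine Set.eq_univ_of_univ_subset ?_
    rw [← f.denseRange.closure_range]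
    refine closure_minimal ?_ isClosed_closure
    rintro _ ⟨z, rfl⟩
    exact ((hξ z).map f.continuous).mem_closure
  have hgen : topologicalKrullDim ↥(f.fiber (genericPoint Y)) =
      ((Groth.Agent.HensPair.FibreTrdeg.T f ξ : ℕ) : WithBot ℕ∞) := by
    rw [← Groth.Agent.HensPair.FibreTrdeg.fibreDimAt_eq_T_of_maximal f ξ
      fun z _ hz => ((specializes_iff_mem_closure.mpr hz).antisymm (hξ z)).eq]
    refine le_antisymm (Groth.Agent.Equidim.generic_fibre_dim_le f ξ) ?_
    rw [← hη]
    exact Groth.Agent.Equidim.fibreDimAt_le_dim f ξ
  obtain ⟨s, hs, hsc⟩ := Groth.Agent.HensPair.JacobsonDim.exists_closed_below (q (f ξ))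
  rw [hgen, Groth.Agent.HensPair.JacobsonDim.dim_irreducible h2 h3 (f ≫ q) s hs hsc,
    Groth.Agent.HensPair.JacobsonDim.dim_irreducible h2 h3 q s (by rw [← hη]; exact hs) hsc,
    Groth.Agent.HensPair.JacobsonDim.T_add f q, ← hη]
  show Groth.Agent.HensPair.CatScheme.cd (q (f ξ)) s + _ = _
  push_cast
  rw [add_assoc]

end Groth.Agent.S3449
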