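import Groth.Statements.S3456
import Groth.Agent.HensPair.EquidimCat

set_option autoImplicit false
open CategoryTheory AlgebraicGeometry
universe u
open EGA43

namespace Groth.Agent.S3456

/-- Let Y be locally Noetherian, f : X ⟶ Y locally of finite type and x a point of X; let X_j run over
the (finitely many) irreducible components of X containing x. Then f is equidimensional at x if and
only if there is a natural number e such that for every X_j: the closure Y_j of f(X_j) is an
irreducible component of Y; for every point η of Y whose closure equals Y_j (i.e. the generic point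
of Y_j), the fibre X_j ∩ f⁻¹(η) has topological Krull dimension e; and the local dimension at x of
X_j ∩ f⁻¹(f x) is e. All subsets of X carry the induced topology. -/
theorem result {X Y : Scheme.{u}} [IsLocallyNoetherian Y] (f : X ⟶ Y)
    [LocallyOfFiniteType f] (x : X) :
    EGA43.IsEquidimAt f x ↔
      ∃ e : ℕ, ∀ Xj ∈ irreducibleComponents (X : Type u), ∀ hx : x ∈ Xj,
        closure (f.base '' Xj) ∈ irreducibleComponents (Y : Type u) ∧
        (∀ η : Y, closure ({η} : Set Y) = closure (f.base '' Xj) →
          topologicalKrullDim ↥(Xj ∩ f.base ⁻¹' {η}) = e) ∧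
        FlatMor.localDim ↥(Xj ∩ f.base ⁻¹' {f.base x}) ⟨x, ⟨hx, Set.mem_singleton (f.base x)⟩⟩ = e := by
  open Groth.Agent.HensPair in
  haveI : IsLocallyNoetherian X := LocallyOfFiniteType.isLocallyNoetherian f
  have himg : ∀ ξ : X, closure (f.base '' closure ({ξ} : Set X)) = closure {f.base ξ} := fun ξ =>
    le_antisymm (closure_minimal ((image_closure_subset_closure_image f.continuous).trans
      (by rw [Set.image_singleton])) isClosed_closure)
      (closure_mono (Set.singleton_subset_iff.mpr ⟨ξ, subset_closure rfl, rfl⟩))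
  constructor
  · intro hf
    obtain ⟨e, he, hcomp⟩ := EquidimCat.component_data f x hf
    refine ⟨e, fun Xj hXj hx => ?_⟩
    let ξ := hXj.1.genericPoint
    have hcl : closure ({ξ} : Set X) = Xj := by
      rw [hXj.1.genericPoint_closure_eq, (isClosed_of_mem_irreducibleComponents Xj hXj).closure_eq]
    have hξx : ξ ⤳ x := specializes_iff_mem_closure.mpr (hcl.ge hx)
    obtain ⟨hT, hfmax⟩ := hcomp ξ hξx (Groth.Agent.Equidim.AffineCrit.genericPoint_maximal hXj)
    have hIm : closure (f.base '' Xj) = closure {f.base ξ} := by rw [← hcl, himg]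
    have hgen : topologicalKrullDim ↥(Xj ∩ f.base ⁻¹' {f.base ξ}) = (e : ℕ) := by
      rw [← hcl, EquidimCat.gen_fibre_dim f ξ, hT]
    refine ⟨hIm ▸ Groth.Agent.Equidim.closure_mem_irreducibleComponents _ hfmax, fun η hη => ?_, ?_⟩
    · obtain rfl : η = f.base ξ := IsGenericPoint.eq (S := closure {f.base ξ}) (hη.trans hIm) rfl
      exact hgen
    · refine le_antisymm ((ChevalleyTfae.localDim_inter_le f x Xj hx).trans he.le) ?_
      exact hgen.ge.trans (ChevalleyTfae.generic_dim_le_localDim f x Xj
        (isClosed_of_mem_irreducibleComponents Xj hXj) hXj.1 hx ξ hcl)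
  · rintro ⟨e, he⟩
    have key : ∀ ξ : X, ξ ⤳ x → (∀ z : X, z ⤳ ξ → z = ξ) → FibreTrdeg.T f ξ = e ∧ ∀ η : Y, η ⤳ f ξ → η = f ξ := by
      intro ξ hξx hmax
      obtain ⟨h1, h2, -⟩ := he _ (Groth.Agent.Equidim.closure_mem_irreducibleComponents ξ hmax) hξx.mem_closure
      rw [himg] at h1
      refine ⟨?_, ChevalleyTfae.maximal_of_component h1 rfl⟩
      have h := h2 (f.base ξ) (himg ξ).symm
      rw [EquidimCat.gen_fibre_dim f ξ] at h
      exact_mod_cast h
    refine EquidimCore.of_components f x e (le_antisymm ?_ ?_) key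
    · obtain ⟨g, hg, hgmax, hdim⟩ := FibreTrdeg.exists_maximal_dim f x
      let a := f.fiberι (f x) g
      have hax : a ⤳ x := (hg.map (f.fiberι (f x)).continuous).trans (specializes_of_eq (f.fiberι_asFiber x))
      obtain ⟨ξ, hξa, hξmax⟩ := Groth.Agent.Equidim.AffineCrit.exists_maximal_above a
      obtain ⟨-, -, h3⟩ := he _ (Groth.Agent.Equidim.closure_mem_irreducibleComponents ξ hξmax) (hξa.trans hax).mem_closure
      have hfa : f a = f x := (f.range_fiberι (f x)).subset ⟨g, rfl⟩
      have hTa := FibreTrdeg.fibreDimAt_eq_T_of_maximal f a fun z hz hcl =>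
        FibreComp.maximal_image f (f x) g hgmax z (hz.trans hfa) hcl
      refine (hdim.trans hTa.le).trans (le_trans ?_ h3.le)
      rw [← EquidimCat.gen_fibre_dim f a]
      refine le_trans ?_ (ChevalleyTfae.generic_dim_le_localDim f x (closure {a}) isClosed_closure
        isIrreducible_singleton.closure hax.mem_closure a rfl) |>.trans ?_
      · exact le_rfl
      · have hsub : closure ({a} : Set X) ⊆ closure {ξ} := closure_minimal (Set.singleton_subset_iff.mpr hξa.mem_closure) isClosed_closure
        refine le_iInf fun O => ?_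
        obtain ⟨O', hO', hO'eq⟩ := isOpen_induced_iff.mp O.1.2
        refine (Groth.Agent.TopDim.Basic.localDim_le _ ⟨Subtype.val ⁻¹' O', hO'.preimage continuous_subtype_val⟩
          (show x ∈ O' from hO'eq.ge O.2)).trans ?_
        exact Groth.Agent.Equidim.dim_le_of_range
          (φ := fun s : ↥((Subtype.val ⁻¹' O') : Set ↥(closure ({a} : Set X) ∩ f.base ⁻¹' {f.base x})) => s.1.1)
          (Topology.IsInducing.subtypeVal.comp Topology.IsInducing.subtypeVal)
          (Topology.IsEmbedding.subtypeVal.comp Topology.IsEmbedding.subtypeVal)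
          fun s => ⟨⟨⟨s.1.1, hsub s.1.2.1, s.1.2.2⟩, hO'eq.le s.2⟩, rfl⟩
    · obtain ⟨ξ, hξx, hξmax⟩ := Groth.Agent.Equidim.AffineCrit.exists_maximal_above x
      rw [← (key ξ hξx hξmax).1]
      exact (FibreTrdeg.T_le_fibreDimAt f ξ).trans (FibreTrdeg.fibreDimAt_mono f hξx)

end Groth.Agent.S3456
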