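import Groth.Statements.S3525
import Groth.Agent.TorColim.HomologyColim
import Mathlib.CategoryTheory.Abelian.Projective.Resolution
import Mathlib.Algebra.Category.ModuleCat.Monoidal.Closed
import Mathlib.CategoryTheory.Abelian.GrothendieckCategory.Basic
import Mathlib.Algebra.Category.ModuleCat.AB
import Mathlib.Algebra.Homology.HomologicalComplexLimits

set_option autoImplicit false
universe u
open HTor

namespace Groth.Agent.S3525

open CategoryTheory CategoryTheory.Limits MonoidalCategory

/-- `M ↦ M ⊗ K` as a functor to complexes -/
noncomputable def tensorCx {A : Type u} [CommRing A] {ι : Type} (c : ComplexShape ι)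
    (K : HomologicalComplex (ModuleCat.{u} A) c) : ModuleCat.{u} A ⥤ HomologicalComplex (ModuleCat.{u} A) c where
  obj M := (((tensoringLeft (ModuleCat.{u} A)).obj M).mapHomologicalComplex c).obj K
  map f := (NatTrans.mapHomologicalComplex ((tensoringLeft (ModuleCat.{u} A)).map f) c).app K
  map_id M := by
    ext i : 1
    simp
  map_comp f g := by
    ext i : 1
    simp

theorem preservesColimitsOfShape_tensorCx {A : Type u} [CommRing A] {ι : Type} (c : ComplexShape ι)
    (K : HomologicalComplex (ModuleCat.{u} A) c) (J : Type u) [SmallCategory J] :
    PreservesColimitsOfShape J (tensorCx c K) := by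
  refine HomologicalComplex.preservesColimitsOfShape_of_eval _ fun i => ?_
  have e : tensorCx c K ⋙ HomologicalComplex.eval _ c i ≅ tensorRight (K.X i) := Iso.refl _
  haveI : PreservesColimitsOfShape J (tensorLeft (K.X i)) := inferInstance
  haveI : PreservesColimitsOfShape J (tensorRight (K.X i)) :=
    preservesColimitsOfShape_of_natIso (BraidedCategory.tensorLeftIsoTensorRight (K.X i))
  exact preservesColimitsOfShape_of_natIso e.symm

open CategoryTheory CategoryTheory.Limits in
/-- For a commutative ring A, an A-module N and p ≥ 0, the functor M ↦ Tor_p^A(M, N) preserves filtered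
colimits. (Tor is Mathlib's, left derived in the second variable; this is the case of single modules
rather than complexes.) -/
theorem result (A : Type u) [CommRing A] (p : ℕ) (N : ModuleCat.{u} A)
    (J : Type u) [SmallCategory J] [IsFiltered J] :
    PreservesColimitsOfShape J ((CategoryTheory.Tor (ModuleCat.{u} A) p).flip.obj N) := by
  let P := projectiveResolution N
  haveI := preservesColimitsOfShape_tensorCx (ComplexShape.down ℕ) P.complex J
  haveI := Groth.Agent.TorColim.preservesColimitsOfShape_homologyFunctor (A := ModuleCat.{u} A) (J := J)
    (ComplexShape.down ℕ) p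
  let e : (CategoryTheory.Tor (ModuleCat.{u} A) p).flip.obj N ≅
      tensorCx (ComplexShape.down ℕ) P.complex ⋙ HomologicalComplex.homologyFunctor _ (ComplexShape.down ℕ) p :=
    NatIso.ofComponents (fun M => P.isoLeftDerivedObj ((MonoidalCategory.tensoringLeft (ModuleCat.{u} A)).obj M) p)
      fun {M M'} f => by
        show (NatTrans.leftDerived ((MonoidalCategory.tensoringLeft (ModuleCat.{u} A)).map f) p).app N ≫ _ = _
        rw [P.leftDerived_app_eq, Category.assoc, Category.assoc]
        erw [Iso.inv_hom_id, Category.comp_id]
        rfl
  exact preservesColimitsOfShape_of_natIso e.symm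

end Groth.Agent.S3525
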