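import Groth.Statements.S3532
import Mathlib
import Groth.Agent.ML.Basic

set_option autoImplicit false
universe u
open HomAlg3

namespace Groth.Agent.S3532

open Opposite Groth.Agent.ML.Basic

open CategoryTheory in
/-- Category of abelian groups, system indexed by the natural numbers: Let (A_k)_{k ≥ 0} be an inverse
system of abelian groups. For p ≤ k write Im_k(A_p) for the image of A_k → A_p, and K_p for the
kernel of A_p → A_{p-1} (K_0 = A_0). Then (A_k) satisfies the Mittag-Leffler condition (for each p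
the subgroups Im_k(A_p) are eventually constant in k) if and only if for each p the subgroups
Im_k(A_p) ∩ K_p are eventually constant in k. -/
theorem result (F : ℕᵒᵖ ⥤ AddCommGrpCat.{u}) :
    (F ⋙ forget AddCommGrpCat).IsMittagLeffler ↔
      ((∃ k₀ : ℕ, ∀ (k : ℕ) (hk : k₀ ≤ k),
          (F.map (homOfLE (Nat.zero_le k)).op).hom.range = (F.map (homOfLE (Nat.zero_le k₀)).op).hom.range) ∧
        ∀ p : ℕ, ∃ k₀ : ℕ, ∃ h₀ : p + 1 ≤ k₀, ∀ (k : ℕ) (hk : k₀ ≤ k),
          (F.map (homOfLE (h₀.trans hk)).op).hom.range ⊓ (F.map (homOfLE (Nat.le_succ p)).op).hom.ker =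
            (F.map (homOfLE h₀).op).hom.range ⊓ (F.map (homOfLE (Nat.le_succ p)).op).hom.ker) := by
  rw [ml_iff]
  have mono : ∀ {j k k' : ℕ} (h : j ≤ k) (h' : k ≤ k'),
      (t F (h.trans h')).range ≤ (t F h).range := by
    rintro j k k' h h' _ ⟨y, rfl⟩
    exact ⟨t F h' y, t_t F h h' y⟩
  constructor
  · intro H
    refine ⟨?_, fun p => ?_⟩
    · obtain ⟨i, hi, H'⟩ := H 0
      exact ⟨i, fun k hk => le_antisymm (mono hi hk) fun x ⟨y, hy⟩ => hy ▸ H' k (Nat.zero_le k) y⟩
    · obtain ⟨i, hi, H'⟩ := H (p + 1)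
      refine ⟨i, hi, fun k hk => le_antisymm (inf_le_inf_right _ (mono hi hk)) (inf_le_inf_right _ ?_)⟩
      exact fun x ⟨y, hy⟩ => hy ▸ H' k (hi.trans hk) y
  · rintro ⟨⟨k₀, h0⟩, hK⟩ j
    induction j with
    | zero =>
      refine ⟨k₀, Nat.zero_le _, fun k hk x => ?_⟩
      have hx : t F (Nat.zero_le k₀) x ∈ (t F (Nat.zero_le (max k k₀))).range :=
        (h0 (max k k₀) (le_max_right _ _)).ge ⟨x, rfl⟩
      obtain ⟨y, hy⟩ := hx
      exact ⟨t F (le_max_left k k₀) y, by rw [t_t]; exact hy⟩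
    | succ p ih =>
      obtain ⟨i, hi, H'⟩ := ih
      obtain ⟨k₁, h₁, hk₁⟩ := hK p
      refine ⟨max i k₁, h₁.trans (le_max_right _ _), fun k hk x => ?_⟩
      set M := max k k₁
      have hM : p + 1 ≤ M := h₁.trans (le_max_right _ _)
      obtain ⟨y, hy⟩ := H' M ((Nat.le_succ p).trans hM) (t F (le_max_left i k₁) x)
      have hmem : t F (h₁.trans (le_max_right i k₁)) x - t F hM y ∈
          (t F hM).range ⊓ (t F (Nat.le_succ p)).ker := by
        refine (hk₁ M (le_max_right _ _)).ge ⟨AddSubgroup.sub_mem (t F h₁).range (mono h₁ (le_max_right _ _) ⟨x, rfl⟩)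
          (mono h₁ (le_max_right _ _) ⟨y, rfl⟩), ?_⟩
        show t F (Nat.le_succ p) _ = 0
        rw [map_sub, t_t, t_t, hy, t_t, sub_self]
      obtain ⟨⟨z, hz⟩, -⟩ := hmem
      refine ⟨t F (le_max_left k k₁) (z + y), ?_⟩
      rw [t_t, map_add, hz, sub_add_cancel]

end Groth.Agent.S3532
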