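import Groth.Statements.S3557
import Groth.Agent.Lead.ProjL
-- import your own Groth.Agent.* helpers here

set_option autoImplicit false
universe u
open CategoryTheory CategoryTheory.Limits AlgebraicGeometry
open EGA2

namespace Groth.Agent.S3557

/-- Let S be a graded ring which is essentially reduced (S_+ contains no nonzero nilpotent). Then Proj S
is an integral scheme if and only if S is essentially integral, i.e. S_+ is nonzero and the product
of two nonzero elements of S_+ is nonzero. -/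
theorem result {R A : Type u} [CommRing R] [CommRing A] [Algebra R A] (𝒜 : ℕ → Submodule R A) [GradedAlgebra 𝒜]
    (hred : ∀ f ∈ (HomogeneousIdeal.irrelevant 𝒜).toIdeal, IsNilpotent f → f = 0) :
    AlgebraicGeometry.IsIntegral (Proj 𝒜) ↔
      ((∃ f ∈ (HomogeneousIdeal.irrelevant 𝒜).toIdeal, f ≠ 0) ∧
        ∀ f ∈ (HomogeneousIdeal.irrelevant 𝒜).toIdeal, ∀ g ∈ (HomogeneousIdeal.irrelevant 𝒜).toIdeal,
          f * g = 0 → f = 0 ∨ g = 0) := by
  constructor
  · intro hI
    have hne : ∃ f ∈ (HomogeneousIdeal.irrelevant 𝒜).toIdeal, f ≠ 0 := by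
      by_contra h
      push Not at h
      have := (Groth.Agent.Lead.ProjL.isEmpty_iff 𝒜).mpr fun f hf => (h f hf) ▸ IsNilpotent.zero
      exact not_isEmpty_iff.mpr hI.nonempty this
    refine ⟨hne, fun f hf g hg hfg => ?_⟩
    by_contra h
    push Not at h
    obtain ⟨p, hp⟩ := Groth.Agent.Lead.ProjL.exists_point_not_mem 𝒜 hf fun hn => h.1 (hred f hf hn)
    obtain ⟨q, hq⟩ := Groth.Agent.Lead.ProjL.exists_point_not_mem 𝒜 hg fun hn => h.2 (hred g hg hn)
    haveI : IrreducibleSpace (ProjectiveSpectrum 𝒜) := irreducibleSpace_of_isIntegral (Proj 𝒜)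
    obtain ⟨z, hz⟩ := nonempty_preirreducible_inter (ProjectiveSpectrum.isOpen_basicOpen 𝒜 (a := f))
      (ProjectiveSpectrum.isOpen_basicOpen 𝒜 (a := g)) ⟨p, hp⟩ ⟨q, hq⟩
    exact (z.isPrime.mem_or_mem (hfg ▸ zero_mem _)).elim hz.1 hz.2
  · rintro ⟨⟨f, hf, hf0⟩, hd⟩
    haveI := Groth.Agent.Lead.ProjL.isReduced 𝒜 hred
    haveI : IrreducibleSpace ↥(Proj 𝒜) := Groth.Agent.Lead.ProjL.isIrreducible_univ 𝒜
      ⟨f, hf, fun hn => hf0 (hred f hf hn)⟩ fun a ha b hb hn =>
        (hd a ha b hb (hred _ (Ideal.mul_mem_right _ _ ha) hn)).imp (fun e : a = 0 => e.symm ▸ IsNilpotent.zero) (fun e : b = 0 => e.symm ▸ IsNilpotent.zero)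
    exact AlgebraicGeometry.isIntegral_of_irreducibleSpace_of_isReduced (Proj 𝒜)

end Groth.Agent.S3557
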