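import Groth.Statements.S3559
import Groth.Agent.Lead.ProjL
-- import your own Groth.Agent.* helpers here

set_option autoImplicit false
universe u
open CategoryTheory CategoryTheory.Limits AlgebraicGeometry
open EGA2

namespace Groth.Agent.S3559

/-- Let S be a graded ring and (f_i) a family of homogeneous elements of positive degree. The opens
D_+(f_i) cover Proj S if and only if every element of S_+ has a power in the ideal generated by the
f_i. -/
theorem result {R A : Type u} [CommRing R] [CommRing A] [Algebra R A] (𝒜 : ℕ → Submodule R A) [GradedAlgebra 𝒜]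
    {ι : Type u} (f : ι → A) (hf : ∀ i, ∃ d : ℕ, 0 < d ∧ f i ∈ 𝒜 d) :
    (⨆ i, Proj.basicOpen 𝒜 (f i)) = ⊤ ↔
      (HomogeneousIdeal.irrelevant 𝒜).toIdeal ≤ (Ideal.span (Set.range f)).radical := by
  classical
  constructor
  · intro h z hz
    rw [← DirectSum.sum_support_decompose 𝒜 z]
    refine Ideal.sum_mem _ fun j _ => ?_
    rcases Nat.eq_zero_or_pos j with rfl | hj
    · rw [← GradedRing.proj_apply, (HomogeneousIdeal.mem_irrelevant_iff _ _).mp hz]
      exact zero_mem _
    by_contra hn
    rw [Ideal.radical_eq_sInf, Ideal.mem_sInf] at hn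
    push Not at hn
    obtain ⟨Q, ⟨hle, hQ⟩, hzQ⟩ := hn
    obtain ⟨p, -, -, hp⟩ := Groth.Agent.Lead.ProjL.exists_point_le 𝒜 Q hj (DirectSum.decompose 𝒜 z j).2 hzQ
    obtain ⟨i, hi⟩ := TopologicalSpace.Opens.mem_iSup.mp (h.ge (TopologicalSpace.Opens.mem_top (p : Proj 𝒜)))
    obtain ⟨d, -, hd⟩ := hf i
    exact hi (hp d (f i) hd (hle (Ideal.subset_span ⟨i, rfl⟩)))
  · intro h
    refine top_le_iff.mp fun p _ => TopologicalSpace.Opens.mem_iSup.mpr ?_
    by_contra H
    push Not at H
    refine p.not_irrelevant_le fun z hz => p.isPrime.radical.le (Ideal.radical_mono ?_ (h hz))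
    rw [Ideal.span_le, Set.range_subset_iff]
    exact fun i => not_not.mp (H i)

end Groth.Agent.S3559
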