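import Groth.Statements.S3560
import Groth.Agent.Lead.GradedL
import Groth.Agent.Lead.ProjL
-- import your own Groth.Agent.* helpers here

set_option autoImplicit false
universe u
open CategoryTheory CategoryTheory.Limits AlgebraicGeometry
open EGA2

namespace Groth.Agent.S3560

/-- Let S be a graded ring whose irrelevant ideal S_+ is finitely generated. Then Proj S is empty if and
only if there is n such that S_k = 0 for all k ≥ n. -/
theorem result {R A : Type u} [CommRing R] [CommRing A] [Algebra R A] (𝒜 : ℕ → Submodule R A) [GradedAlgebra 𝒜]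
    (hfg : (HomogeneousIdeal.irrelevant 𝒜).toIdeal.FG) :
    IsEmpty (Proj 𝒜) ↔ ∃ n : ℕ, ∀ k : ℕ, n ≤ k → 𝒜 k = ⊥ := by
  rw [Groth.Agent.Lead.ProjL.isEmpty_iff]
  constructor
  · intro h
    haveI := Groth.Agent.GrNat.finiteType_of_hasGens 𝒜 (Groth.Agent.GrNat.hasGens_of_fg 𝒜 hfg)
    obtain ⟨N, hN⟩ := Ideal.exists_pow_le_of_le_radical_of_fg (J := (⊥ : Ideal A)) (fun f hf => h f hf) hfg
    obtain ⟨D, hD⟩ := Groth.Agent.Lead.GradedL.subset_pow 𝒜
    exact ⟨N * D, fun k hk => (Submodule.eq_bot_iff _).mpr fun a ha => (Submodule.mem_bot A).mp (hN (hD N k hk ha))⟩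
  · rintro ⟨n, hn⟩ f hf
    by_contra hnil
    obtain ⟨i, hi, hni⟩ := Groth.Agent.Lead.ProjL.exists_pos_component 𝒜 hf hnil
    refine hni ⟨n, ?_⟩
    have h := SetLike.pow_mem_graded n (DirectSum.decompose 𝒜 f i).2
    rw [hn (n • i) (by rw [smul_eq_mul]; exact Nat.le_mul_of_pos_right n hi)] at h
    exact (Submodule.mem_bot R).mp h

end Groth.Agent.S3560
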