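import Groth.Statements.S3569
import Mathlib.AlgebraicGeometry.Sites.SmallAffineZariski

set_option autoImplicit false
universe u
open CategoryTheory CategoryTheory.Limits AlgebraicGeometry
open EGA2

namespace Groth.Agent.S3569

open Opposite AlgebraicGeometry CategoryTheory CategoryTheory.Limits TopologicalSpace

theorem specMap_inj {Y : Scheme.{u}} (V : Y.Opens) {R : CommRingCat.{u}} (a b : R ⟶ Γ(Y, V))
    (h : V.toSpecΓ ≫ Spec.map a = V.toSpecΓ ≫ Spec.map b) : a = b := by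
  have h' := congrArg (fun m => (Scheme.ΓSpecIso R).inv ≫ Scheme.Hom.appTop m ≫ V.topIso.hom) h
  simp only [Scheme.Hom.comp_appTop, Scheme.Opens.toSpecΓ_appTop, Category.assoc] at h'
  rw [← Scheme.ΓSpecIso_inv_naturality_assoc, ← Scheme.ΓSpecIso_inv_naturality_assoc] at h'
  simpa only [Category.assoc, Iso.inv_hom_id, Category.comp_id, Iso.inv_hom_id_assoc] using h'

theorem ι_comp_eq {X Y : Scheme.{u}} (h : Y ⟶ X) {A : X.Opens} (hA : IsAffineOpen A) {V : Y.Opens}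
    (e : V ≤ h ⁻¹ᵁ A) : V.ι ≫ h = V.toSpecΓ ≫ Spec.map (h.appLE A V e) ≫ hA.fromSpec := by
  rw [Scheme.Opens.toSpecΓ_SpecMap_appLE_assoc, IsAffineOpen.toSpecΓ_fromSpec, Scheme.Hom.resLE_comp_ι]

theorem algHom_app {X Y S : Scheme.{u}} (f : X ⟶ S) (g : Y ⟶ S) (h : Y ⟶ X) (w : h ≫ f = g) (U : S.Opens) :
    (AffAlg.algHom f g h w).app (op U) = h.appLE (f ⁻¹ᵁ U) (g ⁻¹ᵁ U) (le_of_eq (by subst w; rfl)) := by
  subst w
  simp [AffAlg.algHom, Scheme.Hom.appLE]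
  exact Category.comp_id _

theorem hom_ext_affine {S : Scheme.{u}} {F : TopCat.Presheaf CommRingCat.{u} S.carrier}
    (G : TopCat.Sheaf CommRingCat.{u} S.carrier) (a b : F ⟶ G.obj)
    (h : ∀ U : S.Opens, IsAffineOpen U → a.app (op U) = b.app (op U)) : a = b := by
  apply (Functor.IsCoverDense.restrictHomEquivHom (G := Scheme.AffineZariskiSite.toOpensFunctor S)
    (K := Opens.grothendieckTopology S) (ℱ := F) (ℱ' := G)).symm.injective
  ext U : 2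
  exact h U.unop.1 U.unop.2

/-- Let f : X → S be an affine morphism and g : Y → S any morphism. Then h ↦ A(h) = f_*(h^♯) is a
bijection from the set of S-morphisms Y → X onto the set of O_S-algebra homomorphisms f_*O_X →
g_*O_Y (morphisms of sheaves of rings compatible with the structure maps from O_S). -/
theorem result {X Y S : Scheme.{u}} (f : X ⟶ S) [IsAffineHom f] (g : Y ⟶ S) :
    Function.Bijective (AffAlg.algOf f g) := by
  have hpre : ∀ (h : AffAlg.over f g) (U : S.Opens), g ⁻¹ᵁ U ≤ h.1 ⁻¹ᵁ (f ⁻¹ᵁ U) := fun h U => le_of_eq (by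
    obtain ⟨h, rfl⟩ := h; rfl)
  have hcov : IsOpenCover (fun U : S.affineOpens => g ⁻¹ᵁ U.1) :=
    IsOpenCover.comap (iSup_affineOpens_eq_top S) g.base.hom
  constructor
  · intro h h' he
    apply Subtype.ext
    refine (Y.openCoverOfIsOpenCover _ hcov).hom_ext _ _ fun U => ?_
    show (g ⁻¹ᵁ U.1).ι ≫ h.1 = (g ⁻¹ᵁ U.1).ι ≫ h'.1
    rw [ι_comp_eq h.1 (U.2.preimage f) (hpre h U.1), ι_comp_eq h'.1 (U.2.preimage f) (hpre h' U.1),
      ← algHom_app f g h.1 h.2, ← algHom_app f g h'.1 h'.2]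
    have he' : AffAlg.algHom f g h.1 h.2 = AffAlg.algHom f g h'.1 h'.2 := congrArg Subtype.val he
    rw [he']
  · intro ω
    let k : ∀ U : S.affineOpens, (g ⁻¹ᵁ U.1 : Y.Opens).toScheme ⟶ X := fun U =>
      (g ⁻¹ᵁ U.1).toSpecΓ ≫ Spec.map (ω.1.app (op U.1)) ≫ (U.2.preimage f).fromSpec
    have hres : ∀ (U W : S.affineOpens) (hle : W.1 ≤ U.1),
        Y.homOfLE (g.preimage_mono hle) ≫ k U = k W := by
      intro U W hle
      show Y.homOfLE _ ≫ (g ⁻¹ᵁ U.1).toSpecΓ ≫ _ = _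
      rw [← Scheme.Opens.toSpecΓ_SpecMap_presheaf_map_assoc, ← Spec.map_comp_assoc]
      have hn : ω.1.app (op U.1) ≫ Y.presheaf.map (homOfLE (g.preimage_mono hle)).op =
          X.presheaf.map (homOfLE (f.preimage_mono hle)).op ≫ ω.1.app (op W.1) :=
        (ω.1.naturality (homOfLE hle).op).symm
      rw [hn, Spec.map_comp_assoc, (U.2.preimage f).map_fromSpec (W.2.preimage f)]
    let 𝒰 := Y.openCoverOfIsOpenCover _ hcov
    have hglue : ∀ U V : S.affineOpens, pullback.fst (𝒰.f U) (𝒰.f V) ≫ k U = pullback.snd (𝒰.f U) (𝒰.f V) ≫ k V := by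
      intro U V
      let P := pullback (𝒰.f U) (𝒰.f V)
      let m : P ⟶ Y := pullback.fst (𝒰.f U) (𝒰.f V) ≫ (g ⁻¹ᵁ U.1).ι
      have hm : m = pullback.snd (𝒰.f U) (𝒰.f V) ≫ (g ⁻¹ᵁ V.1).ι := pullback.condition
      let J := {W : S.affineOpens // W.1 ≤ U.1 ⊓ V.1}
      have hc : IsOpenCover (fun W : J => m ⁻¹ᵁ (g ⁻¹ᵁ W.1.1)) := by
        refine IsOpenCover.mk (eq_top_iff.mpr fun p _ => ?_)
        have h1 : g (m p) ∈ U.1 := (pullback.fst (𝒰.f U) (𝒰.f V) p).2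
        have h2 : g (m p) ∈ V.1 := by rw [hm]; exact (pullback.snd (𝒰.f U) (𝒰.f V) p).2
        obtain ⟨_, ⟨W, hW, rfl⟩, hxW, hWle⟩ :=
          S.isBasis_affineOpens.exists_subset_of_mem_open (show g (m p) ∈ U.1 ⊓ V.1 from ⟨h1, h2⟩) (U.1 ⊓ V.1).2
        exact Opens.mem_iSup.mpr ⟨⟨⟨W, hW⟩, hWle⟩, hxW⟩
      refine (P.openCoverOfIsOpenCover _ hc).hom_ext _ _ fun (W : J) => ?_
      show (m ⁻¹ᵁ (g ⁻¹ᵁ W.1.1)).ι ≫ pullback.fst (𝒰.f U) (𝒰.f V) ≫ k U =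
        (m ⁻¹ᵁ (g ⁻¹ᵁ W.1.1)).ι ≫ pullback.snd (𝒰.f U) (𝒰.f V) ≫ k V
      let a := m.resLE (g ⁻¹ᵁ W.1.1) (m ⁻¹ᵁ (g ⁻¹ᵁ W.1.1)) le_rfl
      have h1 : a ≫ Y.homOfLE (g.preimage_mono (W.2.trans inf_le_left)) =
          (m ⁻¹ᵁ (g ⁻¹ᵁ W.1.1)).ι ≫ pullback.fst (𝒰.f U) (𝒰.f V) := by
        rw [← cancel_mono (g ⁻¹ᵁ U.1).ι, Category.assoc, Scheme.homOfLE_ι, Scheme.Hom.resLE_comp_ι]
        exact (Category.assoc _ _ _).symm
      have h2 : a ≫ Y.homOfLE (g.preimage_mono (W.2.trans inf_le_right)) =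
          (m ⁻¹ᵁ (g ⁻¹ᵁ W.1.1)).ι ≫ pullback.snd (𝒰.f U) (𝒰.f V) := by
        rw [← cancel_mono (g ⁻¹ᵁ V.1).ι, Category.assoc, Scheme.homOfLE_ι, Scheme.Hom.resLE_comp_ι, hm]
        exact (Category.assoc _ _ _).symm
      refine ((reassoc_of% h1) (k U)).symm.trans (Eq.trans ?_ ((reassoc_of% h2) (k V)))
      rw [hres U W.1 (W.2.trans inf_le_left), hres V W.1 (W.2.trans inf_le_right)]
    let h := 𝒰.glueMorphisms k hglue
    have hh : ∀ U : S.affineOpens, (g ⁻¹ᵁ U.1).ι ≫ h = k U := fun U => 𝒰.ι_glueMorphisms k hglue U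
    have hf : h ≫ f = g := by
      refine 𝒰.hom_ext _ _ fun U => ?_
      show (g ⁻¹ᵁ U.1).ι ≫ h ≫ f = (g ⁻¹ᵁ U.1).ι ≫ g
      rw [reassoc_of% (hh U), ι_comp_eq g U.2 (le_refl (g ⁻¹ᵁ U.1))]
      simp only [k, Category.assoc]
      rw [← U.2.SpecMap_appLE_fromSpec f (U.2.preimage f) le_rfl, ← Spec.map_comp_assoc, ← Scheme.Hom.app_eq_appLE,
        ← Scheme.Hom.app_eq_appLE]
      have hc := NatTrans.congr_app ω.2 (op U.1)
      rw [show f.app U.1 ≫ ω.1.app (op U.1) = g.app U.1 from hc]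
    refine ⟨⟨h, hf⟩, Subtype.ext ?_⟩
    refine hom_ext_affine ⟨_, TopCat.Sheaf.pushforward_sheaf_of_sheaf g.base Y.sheaf.property⟩ _ _ fun U hU => ?_
    show (AffAlg.algHom f g h hf).app (op U) = _
    rw [algHom_app]
    apply specMap_inj
    rw [← cancel_mono (hU.preimage f).fromSpec, Category.assoc, Category.assoc, ← ι_comp_eq]
    exact hh ⟨U, hU⟩

end Groth.Agent.S3569
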