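import Groth.Statements.S3578
import Groth.Agent.Lead.ProjL
-- import your own Groth.Agent.* helpers here

set_option autoImplicit false
universe u
open EGA2

namespace Groth.Agent.S3578

/-- Via the correspondence between closed subsets of Proj S and radical graded ideals of S_+: let S be a
graded ring and Z a closed subset of Proj S, with J = S_+ ∩ (vanishing ideal of Z). Then Z is
irreducible if and only if J is a prime ideal of the ring-without-unit S_+: J ≠ S_+ and a product of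
two elements of S_+ lies in J only if one factor does. -/
theorem result {R A : Type u} [CommRing R] [CommRing A] [Algebra R A] (𝒜 : ℕ → Submodule R A) [GradedAlgebra 𝒜]
    (Z : Set (ProjectiveSpectrum 𝒜)) (hZ : IsClosed Z) :
    IsIrreducible Z ↔
      (¬ (HomogeneousIdeal.irrelevant 𝒜).toIdeal ≤ (ProjectiveSpectrum.vanishingIdeal Z).toIdeal ∧
        ∀ f ∈ (HomogeneousIdeal.irrelevant 𝒜).toIdeal, ∀ g ∈ (HomogeneousIdeal.irrelevant 𝒜).toIdeal,
          f * g ∈ (ProjectiveSpectrum.vanishingIdeal Z).toIdeal →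
            f ∈ (ProjectiveSpectrum.vanishingIdeal Z).toIdeal ∨ g ∈ (ProjectiveSpectrum.vanishingIdeal Z).toIdeal) := by
  classical
  have hmem : ∀ (f : A), f ∈ (ProjectiveSpectrum.vanishingIdeal Z).toIdeal ↔ ∀ p ∈ Z, f ∈ p.asHomogeneousIdeal.toIdeal :=
    fun f => ProjectiveSpectrum.mem_vanishingIdeal _ _
  constructor
  · rintro ⟨⟨p, hp⟩, hZi⟩
    refine ⟨fun h => p.not_irrelevant_le fun f hf => (hmem f).mp (h hf) p hp, fun f _ g _ hfg => ?_⟩
    have hsub : Z ⊆ ProjectiveSpectrum.zeroLocus 𝒜 {f} ∪ ProjectiveSpectrum.zeroLocus 𝒜 {g} := fun q hq =>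
      (q.isPrime.mem_or_mem ((hmem _).mp hfg q hq)).imp (fun h => Set.singleton_subset_iff.mpr h)
        (fun h => Set.singleton_subset_iff.mpr h)
    rcases isPreirreducible_iff_isClosed_union_isClosed.mp hZi _ _ (ProjectiveSpectrum.isClosed_zeroLocus 𝒜 _)
      (ProjectiveSpectrum.isClosed_zeroLocus 𝒜 _) hsub with h | h
    · exact Or.inl ((hmem f).mpr fun q hq => Set.singleton_subset_iff.mp (h hq))
    · exact Or.inr ((hmem g).mpr fun q hq => Set.singleton_subset_iff.mp (h hq))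
  · rintro ⟨hne, hpr⟩
    refine ⟨?_, ?_⟩
    · by_contra h
      rw [Set.not_nonempty_iff_eq_empty] at h
      exact hne fun f _ => (hmem f).mpr fun p hp => absurd hp (by rw [h]; simp)
    rintro U V hU hV ⟨p, hpZ, hp⟩ ⟨q, hqZ, hq⟩
    obtain ⟨_, ⟨r, rfl⟩, hpr', hrU⟩ := (ProjectiveSpectrum.isTopologicalBasis_basic_opens 𝒜).exists_subset_of_mem_open hp hU
    obtain ⟨_, ⟨r', rfl⟩, hqr, hrV⟩ := (ProjectiveSpectrum.isTopologicalBasis_basic_opens 𝒜).exists_subset_of_mem_open hq hV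
    obtain ⟨i, s, hi, hs, hsp, hsr⟩ := Groth.Agent.Lead.ProjL.exists_pos_nhd 𝒜 p hpr'
    obtain ⟨j, t, hj, ht, htq, htr⟩ := Groth.Agent.Lead.ProjL.exists_pos_nhd 𝒜 q hqr
    obtain ⟨z, hzZ, hz⟩ : ∃ z ∈ Z, s * t ∉ z.asHomogeneousIdeal.toIdeal := by
      by_contra h
      push Not at h
      rcases hpr s (Groth.Agent.Lead.ProjL.mem_irr 𝒜 hi hs) t (Groth.Agent.Lead.ProjL.mem_irr 𝒜 hj ht) ((hmem _).mpr h) with h' | h'
      · exact hsp ((hmem s).mp h' p hpZ)
      · exact htq ((hmem t).mp h' q hqZ)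
    exact ⟨z, hzZ, hrU (hsr z fun h => hz (Ideal.mul_mem_right _ _ h)), hrV (htr z fun h => hz (Ideal.mul_mem_left _ _ h))⟩

end Groth.Agent.S3578
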