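import Groth.Statements.S3780
import Groth.Agent.Lead.AdamsRR.Functional

set_option autoImplicit false
universe v u
open CategoryTheory CategoryTheory.Limits AlgebraicGeometry
attribute [local instance] HasDerivedCategory.standard
open KRR

namespace Groth.Agent.S3780

/-- Let K be a λ-ring with positive structure admitting a splitting, e a positive element of
augmentation ε(e) = r + 1, K_e = K[T]/(p_e(T)) the elementary extension of K with ℓ the class of T,
and f : K_e → K a K-linear functional with f(ℓ^i) = σ^i(e) for i ≤ r. For any λ-operations on K_e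
extending those of K with λ^i(ℓ) = 0 for i ≥ 2, and q = e − ℓ ∈ K_e, one has f(λ^0(q)) = 1 and
f(λ^i(q)) = 0 for all i ≥ 1; that is, f(λ_t(q)) = 1. -/
theorem result (K : Type v) [CommRing K] [LambdaRing.LambdaOps K] (P : LambdaRing.PosStructure K) (hK : LambdaRing.HasSplitting K P) (e : K) (he : e ∈ P.pos) (r : ℕ) (hr : P.aug e = r + 1)
    (inst : LambdaRing.LambdaOps (AdjoinRoot (KRR.extPoly P e)))
    (hext : ∀ (i : ℕ) (x : K), @LambdaRing.LambdaOps.lam _ _ inst i (AdjoinRoot.of (KRR.extPoly P e) x) =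
      AdjoinRoot.of (KRR.extPoly P e) (LambdaRing.LambdaOps.lam i x))
    (hroot : ∀ i : ℕ, 2 ≤ i → @LambdaRing.LambdaOps.lam _ _ inst i (AdjoinRoot.root (KRR.extPoly P e)) = 0)
    (f : AdjoinRoot (KRR.extPoly P e) →ₗ[K] K)
    (hf : ∀ i : ℕ, i ≤ r → f (AdjoinRoot.root (KRR.extPoly P e) ^ i) = KRR.sigma i e) (i : ℕ) :
    f (@LambdaRing.LambdaOps.lam _ _ inst i (AdjoinRoot.of (KRR.extPoly P e) e - AdjoinRoot.root (KRR.extPoly P e))) =
      if i = 0 then 1 else 0 := by
  open Groth.Agent.Lead.AdamsRR Finset in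
  have hL : ∀ i, LambdaRing.LambdaOps.lam i (AdjoinRoot.of (KRR.extPoly P e) e - AdjoinRoot.root (KRR.extPoly P e)) =
      (-1 : K) ^ i • ∑ m ∈ range (i + 1), cc e m • AdjoinRoot.root (KRR.extPoly P e) ^ (i - m) := by
    intro i
    induction i with
    | zero => simp [LambdaRing.LambdaOps.lam_zero, cc]
    | succ i ih =>
      have hadd := LambdaRing.LambdaOps.lam_add (i + 1) (AdjoinRoot.root (KRR.extPoly P e))
        (AdjoinRoot.of (KRR.extPoly P e) e - AdjoinRoot.root (KRR.extPoly P e))
      rw [add_sub_cancel, hext, sum_range_succ', sum_range_succ',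
        sum_eq_zero (fun m _ => by rw [hroot (m + 1 + 1) (by omega), zero_mul]), zero_add,
        LambdaRing.LambdaOps.lam_one, LambdaRing.LambdaOps.lam_zero, one_mul, Nat.sub_zero,
        show i + 1 - (0 + 1) = i by omega, ih] at hadd
      rw [sum_range_succ, Nat.sub_self, pow_zero]
      have hs : ∑ m ∈ range (i + 1), cc e m • AdjoinRoot.root (KRR.extPoly P e) ^ (i + 1 - m) =
          AdjoinRoot.root (KRR.extPoly P e) * ∑ m ∈ range (i + 1), cc e m • AdjoinRoot.root (KRR.extPoly P e) ^ (i - m) := by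
        rw [mul_sum]
        refine sum_congr rfl fun m hm => ?_
        rw [show i + 1 - m = (i - m) + 1 by have := mem_range.1 hm; omega, pow_succ, mul_smul_comm, mul_comm]
      rw [hs]
      simp only [Algebra.smul_def, AdjoinRoot.algebraMap_eq, cc, map_mul, map_pow, map_neg, map_one, mul_one] at hadd ⊢
      have e1 : ((-1 : AdjoinRoot (KRR.extPoly P e)) ^ (i + 1)) * (-1) ^ (i + 1) = 1 := by
        rw [← mul_pow, neg_one_mul, neg_neg, one_pow]
      linear_combination -hadd - AdjoinRoot.of (KRR.extPoly P e) (LambdaRing.LambdaOps.lam (i + 1) e) * e1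
  open Groth.Agent.Lead.AdamsRR in
  rw [hL, map_smul, map_sum, Finset.sum_congr rfl (fun m _ => by rw [map_smul, f_root_pow hK he hr hf, smul_eq_mul]),
    sigma_rec]
  split_ifs with h
  · subst h; simp
  · simp

end Groth.Agent.S3780
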