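import Groth.Statements.S3781
import Groth.Agent.Lead.LamDet.Det

set_option autoImplicit false
universe v u
open CategoryTheory CategoryTheory.Limits AlgebraicGeometry
attribute [local instance] HasDerivedCategory.standard
open KRR

namespace Groth.Agent.S3781

/-- Let K be a λ-ring with positive structure having the splitting property, L its group of line
elements and F^n the γ-filtration. Assume moreover that the inverse of a line element is a line
element and that for a positive e with ε(e) = r the element det e = λ^r(e) is positive (hence a line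
element); these are part of the published setting but are not implied by the axioms used here, so
they are hypotheses. Then u ↦ u − 1 induces an isomorphism L ≅ Gr^1 K = F^1/F^2: every x ∈ F^1 is
congruent modulo F^2 to u − 1 for some line element u, and line elements u, v with u − v ∈ F^2 are
equal. -/
theorem result (K : Type v) [CommRing K] [LambdaRing.LambdaOps K] (P : LambdaRing.PosStructure K) (hK : LambdaRing.HasSplitting K P)
    (hLinv : ∀ w : K, P.IsLine w → ∃ w' : K, P.IsLine w' ∧ w * w' = 1)
    (hdet : ∀ e : K, e ∈ P.pos → LambdaRing.LambdaOps.lam (P.aug e).toNat e ∈ P.pos) :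
    (∀ x : K, x ∈ LambdaRing.gammaFiltration P 1 → ∃ u : K, P.IsLine u ∧ x - (u - 1) ∈ LambdaRing.gammaFiltration P 2) ∧
    ∀ u v : K, P.IsLine u → P.IsLine v → u - v ∈ LambdaRing.gammaFiltration P 2 → u = v := by
  open Groth.Agent.Lead.LamDet Groth.Agent.LamG in
  refine ⟨fun x hx => ?_, fun u v hu hv huv => ?_⟩
  · have hx0 : P.aug x = 0 := Groth.Agent.Lead.ChernChar.aug_eq_zero_of_mem hK le_rfl
      (Groth.Agent.Lead.ChernChar.mem_qG_of_mem ((mem_gammaFiltration_iff P 1 x).1 hx))
    obtain ⟨e, f, he, hf, rfl⟩ := P.exists_sub x
    have hef : (P.aug e).toNat = (P.aug f).toNat := by rw [map_sub, sub_eq_zero] at hx0; rw [hx0]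
    have hline : ∀ g ∈ P.pos, P.IsLine (dp P g) := fun g hg => ⟨hdet g hg, by
      rw [dp, aug_lam hK hg, Nat.choose_self]; rfl⟩
    obtain ⟨w, hw, hdw⟩ := hLinv _ (hline f hf)
    refine ⟨dp P e * w, isLine_mul (hline e he) hw, (mem_gammaFiltration_iff P 2 _).2 ?_⟩
    have h1 := lam_top_sub_mem hK he rfl
    have h2 := lam_top_sub_mem hK hf rfl
    have h3 : (dp P e * w - 1) * (dp P f - 1) ∈ LambdaRing.gammaFil P.aug (1 + 1) := gammaFil_mul_mem _
      (mem_gammaFil_one _ (by rw [map_sub, map_mul, map_one, (hline e he).2, hw.2, one_mul, sub_self]))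
      (mem_gammaFil_one _ (by rw [map_sub, map_one, (hline f hf).2, sub_self]))
    have h4 := add_mem (sub_mem h2 h1) h3
    convert h4 using 1
    simp only [dp, ← hef] at hdw ⊢
    linear_combination (-LambdaRing.LambdaOps.lam (P.aug e).toNat e) * hdw
  · have h := det_eq_zero hK huv
    rw [show det P (u - v) = det P u - det P v from map_sub (detHom hK) u v, sub_eq_zero] at h
    rw [← det_line hK hu, h, det_line hK hv]


end Groth.Agent.S3781
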