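import Groth.Statements.S3782
import Groth.Agent.Lead.AdamsRR.ExtFil

set_option autoImplicit false
universe v u
open CategoryTheory CategoryTheory.Limits AlgebraicGeometry
attribute [local instance] HasDerivedCategory.standard
open KRR

namespace Groth.Agent.S3782

/-- Let K be a λ-ring with positive structure having the splitting property, e positive with ε(e) = r +
1, and K_e = K[T]/(p_e) with generator ℓ, equipped with a λ-structure extending that of K with
λ^i(ℓ) = 0 for i ≥ 2 and a positive structure making K ⟶ K_e an extension with ℓ a line element and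
again having the splitting property. Then for every k ≥ 0 the γ-filtration of K_e is F^k K_e =
Σ_{i=0}^{r} F^{k-i}K · (ℓ - 1)^i (F^j K = K for j ≤ 0). In particular F^k K_e ∩ K = F^k K. -/
theorem result (K : Type v) [CommRing K] [LambdaRing.LambdaOps K] (P : LambdaRing.PosStructure K) (hK : LambdaRing.HasSplitting K P) (e : K) (he : e ∈ P.pos) (r : ℕ) (hr : P.aug e = r + 1)
    (inst : LambdaRing.LambdaOps (AdjoinRoot (KRR.extPoly P e))) (Pe : @LambdaRing.PosStructure _ _ inst)
    (hext : @LambdaRing.IsExtension K _ _ _ _ inst P Pe (AdjoinRoot.of (KRR.extPoly P e)))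
    (hroot : ∀ i : ℕ, 2 ≤ i → @LambdaRing.LambdaOps.lam _ _ inst i (AdjoinRoot.root (KRR.extPoly P e)) = 0)
    (hline : @LambdaRing.PosStructure.IsLine _ _ inst Pe (AdjoinRoot.root (KRR.extPoly P e)))
    (hsplit : @LambdaRing.HasSplitting _ _ inst Pe) (k : ℕ) :
    @LambdaRing.gammaFiltration _ _ inst Pe k =
      ⨆ i ∈ Finset.range (r + 1), AddSubgroup.map
        ((AddMonoidHom.mulRight ((AdjoinRoot.root (KRR.extPoly P e) - 1) ^ i)).comp
          (AdjoinRoot.of (KRR.extPoly P e)).toAddMonoidHom)
        (LambdaRing.gammaFiltration P (k - i)) := by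
  have hm : (P.aug e).toNat = r + 1 := by omega
  have hz : Pe.aug (AdjoinRoot.root (KRR.extPoly P e) - 1) = 0 := by rw [map_sub, map_one, hline.2, sub_self]
  have good : ∀ x, Pe.aug x = 0 → (Groth.Agent.Lead.AdamsRR.extGFil P e).Good x := by
    intro x hx
    have hof : ∀ y, P.aug y = 0 → (Groth.Agent.Lead.AdamsRR.extGFil P e).Good (AdjoinRoot.of (KRR.extPoly P e) y) := by
      intro y hy t
      rw [← Groth.Agent.LamG.map_gamma (AdjoinRoot.of (KRR.extPoly P e)) hext.isLambdaHom]
      exact AddSubgroup.subset_closure ⟨0, LambdaRing.gamma t y, by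
        rw [Nat.sub_zero]; exact Groth.Agent.LamG.gamma_mem_gammaFil _ hy t, by rw [pow_zero, mul_one]⟩
    have hpow : ∀ i : ℕ, (Groth.Agent.Lead.AdamsRR.extGFil P e).Good (AdjoinRoot.root (KRR.extPoly P e) ^ i - 1) := by
      intro i t
      have h := congrFun (Groth.Agent.LamG.gammaSeq_line_sub_one (Groth.Agent.LamG.lam_one_eq_zero Pe)
        (Groth.Agent.LamG.isLine_lam (Groth.Agent.LamG.isLine_pow hline i))) t
      rw [h, Groth.Agent.Lead.Lam.single]
      split_ifs with h0 h1
      · rw [h0]; exact (Groth.Agent.Lead.AdamsRR.extGFil P e).mem_zero _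
      · rw [h1]; exact Groth.Agent.Lead.AdamsRR.root_sub_one_pow_sub_one_mem e i
      · exact Submodule.zero_mem _
    have key : ∀ (q : Polynomial K), (Groth.Agent.Lead.AdamsRR.extGFil P e).Good
        (AdjoinRoot.mk (KRR.extPoly P e) q - (Pe.aug (AdjoinRoot.mk (KRR.extPoly P e) q) : ℤ)) := by
      intro q
      induction q using Polynomial.induction_on' with
      | add p q hp hq =>
        rw [map_add, map_add, Int.cast_add, add_sub_add_comm]
        exact hp.add hq
      | monomial i a =>
        rw [← Polynomial.C_mul_X_pow_eq_monomial, map_mul, map_pow, AdjoinRoot.mk_C, AdjoinRoot.mk_X, map_mul, map_pow,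
          hext.aug_comp, hline.2, one_pow, mul_one,
          show AdjoinRoot.of (KRR.extPoly P e) a * AdjoinRoot.root (KRR.extPoly P e) ^ i - ((P.aug a : ℤ) : AdjoinRoot (KRR.extPoly P e)) =
            AdjoinRoot.root (KRR.extPoly P e) ^ i * AdjoinRoot.of (KRR.extPoly P e) (a - (P.aug a : K)) +
            (P.aug a) • (AdjoinRoot.root (KRR.extPoly P e) ^ i - 1) by rw [map_sub, map_intCast, zsmul_eq_mul]; ring]
        refine Groth.Agent.LamG.GFil.Good.add ?_ ((Groth.Agent.Lead.AdamsRR.extGFil P e).goodAddSubgroup.zsmul_mem (hpow i) _)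
        exact Groth.Agent.Lead.AdamsRR.GFil_good_line_mul
          (fun t => Groth.Agent.Lead.AdamsRR.lam_line_mul hsplit (Groth.Agent.LamG.isLine_pow hline i) _ t)
          (Groth.Agent.Lead.AdamsRR.root_sub_one_pow_sub_one_mem e i) (hof _ (by simp))
    obtain ⟨q, rfl⟩ := AdjoinRoot.mk_surjective x
    simpa [hx] using key q
  apply le_antisymm
  · intro x hx
    rw [Groth.Agent.LamG.mem_gammaFiltration_iff] at hx
    have hx' := Groth.Agent.LamG.gammaFil_le _ _ good k hx
    have key : ∀ (i : ℕ) (a : K), a ∈ LambdaRing.gammaFil P.aug (k - i) →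
        AdjoinRoot.of (KRR.extPoly P e) a * (AdjoinRoot.root (KRR.extPoly P e) - 1) ^ i ∈
          (⨆ i ∈ Finset.range (r + 1), AddSubgroup.map
            ((AddMonoidHom.mulRight ((AdjoinRoot.root (KRR.extPoly P e) - 1) ^ i)).comp
              (AdjoinRoot.of (KRR.extPoly P e)).toAddMonoidHom)
            (LambdaRing.gammaFiltration P (k - i))) := by
      intro i
      induction i using Nat.strong_induction_on with
      | _ i ih =>
        intro a ha
        rcases Nat.lt_or_ge i (r + 1) with hi | hi
        · exact AddSubgroup.mem_iSup_of_mem i (AddSubgroup.mem_iSup_of_mem (Finset.mem_range.2 hi)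
            ⟨a, (Groth.Agent.LamG.mem_gammaFiltration_iff P _ a).2 ha, rfl⟩)
        · obtain ⟨j, rfl⟩ : ∃ j, i = j + (r + 1) := ⟨i - (r + 1), by omega⟩
          have hrel := Groth.Agent.Lead.AdamsRR.shift_rel e he hm
          rw [Finset.sum_range_succ', pow_zero, one_mul, Groth.Agent.LamG.gamma_zero, one_smul, Nat.sub_zero] at hrel
          rw [pow_add, eq_neg_of_add_eq_zero_right hrel, mul_neg, mul_neg, Finset.mul_sum, Finset.mul_sum]
          refine neg_mem (sum_mem fun l hl => ?_)
          have hl' := Finset.mem_range.1 hl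
          rw [Algebra.smul_def, AdjoinRoot.algebraMap_eq]
          have h := ih (j + (r + 1 - (l + 1))) (by omega)
            (a * ((-1) ^ (l + 1) * LambdaRing.gamma (l + 1) (e - ((r + 1 : ℕ) : K)))) (by
              refine Groth.Agent.LamG.gammaFil_anti _ (show k - (j + (r + 1 - (l + 1))) ≤ (k - (j + (r + 1))) + (l + 1) by omega)
                (Groth.Agent.LamG.gammaFil_mul_mem _ ha (Ideal.mul_mem_left _ _ (Groth.Agent.LamG.gamma_mem_gammaFil _ ?_ _)))
              rw [map_sub, map_natCast]; omega)
          rw [map_mul, pow_add] at h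
          convert h using 1
          ring
    refine (AddSubgroup.closure_le _).2 ?_ (Groth.Agent.Lead.AdamsRR.mem_extGFil.1 hx')
    rintro _ ⟨i, a, ha, rfl⟩
    exact key i a ha
  · refine iSup₂_le fun i _ => ?_
    rintro _ ⟨a, ha, rfl⟩
    rw [Groth.Agent.LamG.mem_gammaFiltration_iff]
    change AdjoinRoot.of (KRR.extPoly P e) a * (AdjoinRoot.root (KRR.extPoly P e) - 1) ^ i ∈ _
    refine Groth.Agent.LamG.gammaFil_anti _ (show k ≤ (k - i) + i * 1 by omega) (Groth.Agent.LamG.gammaFil_mul_mem _ ?_ ?_)
    · have h := Groth.Agent.LamG.gammaFil_le (A := K) P.aug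
        { G := fun n => (LambdaRing.gammaFil Pe.aug n).comap (AdjoinRoot.of (KRR.extPoly P e))
          zero_eq := by rw [Groth.Agent.LamG.gammaFil_zero, Ideal.comap_top]
          anti := fun h => Ideal.comap_mono (Groth.Agent.LamG.gammaFil_anti _ h)
          mul_mem := fun ha hb => by
            rw [Ideal.mem_comap] at ha hb ⊢
            rw [map_mul]; exact Groth.Agent.LamG.gammaFil_mul_mem _ ha hb }
        (fun y hy t => by
          rw [Ideal.mem_comap, Groth.Agent.LamG.map_gamma (AdjoinRoot.of (KRR.extPoly P e)) hext.isLambdaHom]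
          exact Groth.Agent.LamG.gamma_mem_gammaFil _ (by rw [hext.aug_comp, hy]) t) (k - i)
      exact h ((Groth.Agent.LamG.mem_gammaFiltration_iff P _ a).1 ha)
    · exact (Groth.Agent.LamG.gammaGFil Pe.aug).pow_mem (Groth.Agent.LamG.mem_gammaFil_one _ hz) i


end Groth.Agent.S3782
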