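import Groth.Statements.S3792
import Groth.Agent.Lead.AdamsRR.Lambda

set_option autoImplicit false
universe v u
open CategoryTheory CategoryTheory.Limits AlgebraicGeometry
attribute [local instance] HasDerivedCategory.standard
open KRR

namespace Groth.Agent.S3792

open Finset TensorProduct Groth.Agent.Lead.AdamsRR Groth.Agent.LamG
open Groth.Agent.Lead.Lam (map_esymm')

/-- Let K be a λ-ring with positive structure having the splitting property, e a positive element and j
≥ 1. Then ψ^j(λ_{-1}(e)) = λ_{-1}(e) · θ^j(e), where λ_{-1}(e) = Σ_{i ≤ ε(e)} (-1)^i λ^i(e), ψ^j is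
the Adams operation and θ^j(e) is Bott's cannibalistic class (the universal polynomial in the λ^i(e)
which is Π (1 + u_i + ⋯ + u_i^{j-1}) on a splitting e = Σ u_i). -/
theorem result (K : Type v) [CommRing K] [LambdaRing.LambdaOps K] (P : LambdaRing.PosStructure K) (hK : LambdaRing.HasSplitting K P) (e : K) (he : e ∈ P.pos) (j : ℕ) (hj : 1 ≤ j) :
    LambdaRing.adams P j (KRR.lamAlt P e) = KRR.lamAlt P e * KRR.bott P j e := by
  obtain ⟨k, rfl⟩ : ∃ k, j = k + 1 := ⟨j - 1, by omega⟩
  obtain ⟨d⟩ := nonempty_splitData hK he (n := (P.aug e).toNat) rfl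
  apply d.ext.injective
  have hA : d.φ (KRR.lamAlt P e) = ∏ i, (1 - d.v i) := by
    rw [KRR.lamAlt, map_sum]
    have h := Multiset.prod_X_sub_X_eq_sum_esymm ((univ : Finset (Fin (P.aug e).toNat)).val.map d.v)
    have h' := congrArg (Polynomial.eval (1 : d.L.carrier)) h
    rw [Polynomial.eval_multiset_prod, Multiset.map_map, Multiset.map_map, Multiset.card_map,
      Finset.card_val, Finset.card_univ, Fintype.card_fin, Polynomial.eval_finsetSum] at h'
    simp only [Function.comp_def, Polynomial.eval_sub, Polynomial.eval_X, Polynomial.eval_C,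
      Polynomial.eval_mul, Polynomial.eval_pow, Polynomial.eval_neg, Polynomial.eval_one, one_pow, mul_one] at h'
    rw [Finset.prod_eq_multiset_prod, h']
    exact Finset.sum_congr rfl fun i _ => by rw [map_mul, map_pow, map_neg, map_one, d.map_lam]
  have hψ : ∀ x, d.φ (LambdaRing.adams P (k + 1) x) = posAdams d.splitting k (d.φ x) := fun x => by
    rw [adams_succ_eq, map_adamsOp d.φ d.ext.isLambdaHom]; rfl
  rw [map_mul, hψ, hA, map_bott d.φ (k + 1) rfl d.v d.map_lam, map_prod, ← Finset.prod_mul_distrib]
  refine Finset.prod_congr rfl fun i _ => ?_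
  have hv : posAdams d.splitting k (d.v i) = d.v i ^ (k + 1) := adamsOp_line (isLine_lam (d.line i)) k
  rw [map_sub, map_one, hv, mul_neg_geom_sum]

end Groth.Agent.S3792
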