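import Groth.Statements.S3794
import Groth.Agent.Lead.ChernChar.Character
import Mathlib.RingTheory.TensorProduct.IsBaseChangeHom

set_option autoImplicit false
universe v u
open CategoryTheory CategoryTheory.Limits AlgebraicGeometry
attribute [local instance] HasDerivedCategory.standard
open scoped TensorProduct
open KRR

namespace Groth.Agent.S3794

open Finset LambdaRing Groth.Agent.LamG Groth.Agent.Lead.ChernChar
open Groth.Agent.Lead.Lam (nw)

variable {K : Type v} [CommRing K] [LambdaOps K] {P : PosStructure K}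

theorem eq_bot_fil {d : ℕ} (hd : LambdaRing.gammaFiltration P (d + 1) = ⊥) {n : ℕ} (hn : d + 1 ≤ n) {x : K}
    (hx : x ∈ gammaFil P.aug n) : x = 0 := by
  have h := (mem_gammaFiltration_iff P (d + 1) x).2 (gammaFil_anti _ hn hx)
  rw [hd] at h
  simpa using h

theorem grK_high {d : ℕ} (hd : LambdaRing.gammaFiltration P (d + 1) = ⊥) {n : ℕ} (hn : d + 1 ≤ n) {x : K}
    (hx : x ∈ (qG P).G n) : KGr.grK P (n : ℤ) x = 0 := by
  obtain ⟨N, hN, hNx⟩ := hx
  exact grK_eq_zero ⟨N, hN, by rw [eq_bot_fil hd hn hNx]; exact zero_mem _⟩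

/-- the ℚ-linear extension of the Chern character -/
noncomputable def phi (P : PosStructure K) (d : ℕ) : TensorProduct ℤ ℚ K →ₗ[ℚ] KGr.Gr P :=
  TensorProduct.AlgebraTensorModule.lift
    ((LinearMap.ringLmapEquivSelf ℚ ℚ (K →ₗ[ℤ] KGr.Gr P)).symm
      (AddMonoidHom.mk' (KGr.chK P d) (chK_add d)).toIntLinearMap)

theorem phi_tmul (d : ℕ) (q : ℚ) (x : K) : phi P d (q ⊗ₜ[ℤ] x) = q • KGr.chK P d x := rfl

theorem tail_mem (S : Submodule ℚ (KGr.Gr P)) (m d : ℕ) (x : K)
    (h : ∀ n, m + 1 < n → ∀ y ∈ (qG P).G n, KGr.grK P (n : ℤ) y ∈ S) :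
    (∑ k ∈ Finset.Ioo m d, (1 / ((k + 1).factorial : ℚ)) • nw (cseq P x) k) ∈ S := by
  refine Submodule.sum_mem _ fun k hk => S.smul_mem _ ?_
  obtain ⟨y, hy, hy'⟩ := exists_nw_eq (P := P) x k
  rw [hy']
  exact h (k + 1) (by have := (Finset.mem_Ioo.1 hk).1; omega) y hy

/-- the classes of the graded pieces lie in the image -/
theorem grK_mem_range (hK : HasSplitting K P) {d : ℕ} (hd : LambdaRing.gammaFiltration P (d + 1) = ⊥) :
    ∀ (n : ℕ) (x : K), x ∈ (qG P).G n → KGr.grK P (n : ℤ) x ∈ LinearMap.range (phi P d) := by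
  have hch : ∀ x : K, KGr.chK P d x ∈ LinearMap.range (phi P d) := fun x =>
    ⟨(1 : ℚ) ⊗ₜ[ℤ] x, by rw [phi_tmul, one_smul]⟩
  have hpos : ∀ n, ∀ x : K, x ∈ (qG P).G (n + 1) → KGr.grK P ((n + 1 : ℕ) : ℤ) x ∈ LinearMap.range (phi P d) := by
    suffices ∀ j n, d ≤ n + j → ∀ x : K, x ∈ (qG P).G (n + 1) →
        KGr.grK P ((n + 1 : ℕ) : ℤ) x ∈ LinearMap.range (phi P d) from fun n => this d n (by omega)
    intro j
    induction j with
    | zero =>
      intro n hn x hx
      rw [grK_high hd (by omega) hx]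
      exact Submodule.zero_mem _
    | succ j ih =>
      intro n hn x hx
      rcases Nat.lt_or_ge n d with hlt | hge
      · rw [eq_sub_of_add_eq (chK_lead hK hlt hx).symm]
        refine Submodule.sub_mem _ (hch x) (tail_mem _ n d x fun k hk y hy => ?_)
        obtain ⟨k, rfl⟩ : ∃ l, k = l + 1 := ⟨k - 1, by omega⟩
        exact ih k (by omega) y hy
      · rw [grK_high hd (by omega) hx]
        exact Submodule.zero_mem _
  intro n x hx
  rcases Nat.eq_zero_or_pos n with rfl | hn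
  · rw [grK_congr (y := ((P.aug x : ℤ) : K) * 1) ((qG P).zero_eq ▸ Submodule.mem_top)
      (by rw [mul_one]; exact sub_aug_mem_one x), grK_intCast_mul _ ((qG P).zero_eq ▸ Submodule.mem_top),
      grK_zero_one]
    exact Submodule.smul_mem _ _ (by rw [← chK_one (P := P) d]; exact hch 1)
  · obtain ⟨n, rfl⟩ : ∃ l, n = l + 1 := ⟨n - 1, by omega⟩
    exact hpos n x hx

/-- the homogeneous classes -/
def homog (P : PosStructure K) : Submonoid (KGr.Gr P) where
  carrier := {z | ∃ (n : ℕ) (x : K), x ∈ (qG P).G n ∧ KGr.grK P (n : ℤ) x = z}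
  one_mem' := ⟨0, 1, (qG P).zero_eq ▸ Submodule.mem_top, grK_zero_one⟩
  mul_mem' := by
    rintro _ _ ⟨n, x, hx, rfl⟩ ⟨m, y, hy, rfl⟩
    exact ⟨n + m, x * y, (qG P).mul_mem hx hy, (grK_mul hx hy).symm⟩

theorem span_homog : Submodule.span ℚ (homog P : Set (KGr.Gr P)) = ⊤ := by
  have key : ∀ p : KGr.rees P, (1 : ℚ) ⊗ₜ[ℤ] Ideal.Quotient.mk (Ideal.span {KGr.tGen P}) p ∈
      Submodule.span ℚ (homog P : Set (KGr.Gr P)) := by
    rintro ⟨p, hp⟩
    let ι : KGr.rees P →+* KGr.Gr P :=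
      (Algebra.TensorProduct.includeRight : KGr.GrZ P →ₐ[ℤ] KGr.Gr P).toRingHom.comp (Ideal.Quotient.mk _)
    let A : Subalgebra ℚ (KGr.Gr P) := Algebra.adjoin ℚ (homog P : Set (KGr.Gr P))
    have hA : Subalgebra.toSubmodule A = Submodule.span ℚ (homog P : Set (KGr.Gr P)) := by
      rw [Algebra.adjoin_eq_span, Submonoid.closure_eq]
    rw [← hA]
    suffices h : Subring.closure (KGr.reesGens P) ≤ (A.toSubring.comap ι).map (KGr.rees P).subtype by
      obtain ⟨q, hq, hqp⟩ := h hp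
      have : q = ⟨p, hp⟩ := Subtype.ext hqp
      subst this
      exact hq
    refine Subring.closure_le.2 ?_
    rintro _ (rfl | ⟨n, x, hx, rfl⟩)
    · refine ⟨KGr.tGen P, ?_, rfl⟩
      change ι (KGr.tGen P) ∈ A
      rw [show ι (KGr.tGen P) = 0 by simp [ι, Ideal.Quotient.eq_zero_iff_mem.2 (Ideal.subset_span rfl)]]
      exact zero_mem A
    · have hx' := (mem_gammaFiltration_iff P n x).1 hx
      refine ⟨⟨_, Subring.subset_closure (Or.inr ⟨n, x, hx, rfl⟩)⟩, ?_, rfl⟩
      change (1 : ℚ) ⊗ₜ[ℤ] gen n x hx' ∈ A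
      refine Algebra.subset_adjoin ⟨n, x, mem_qG_of_mem hx', ?_⟩
      rw [grK_eq 1 le_rfl (show ((1 : ℕ) : K) * x ∈ gammaFil P.aug n by simpa using hx')]
      congr 1
      · simp
      · exact gen_congr rfl (by simp) _ _
  refine eq_top_iff.2 fun z _ => ?_
  induction z using TensorProduct.induction_on with
  | zero => exact Submodule.zero_mem _
  | tmul q g =>
    obtain ⟨p, rfl⟩ := Ideal.Quotient.mk_surjective g
    rw [show q ⊗ₜ[ℤ] Ideal.Quotient.mk (Ideal.span {KGr.tGen P}) p =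
      q • ((1 : ℚ) ⊗ₜ[ℤ] Ideal.Quotient.mk (Ideal.span {KGr.tGen P}) p) by rw [TensorProduct.smul_tmul', smul_eq_mul, mul_one]]
    exact Submodule.smul_mem _ _ (key p)
  | add a b ha hb => exact Submodule.add_mem _ (ha trivial) (hb trivial)

/-- an element with zero character is torsion -/
theorem torsion_of_chK_eq_zero (hK : HasSplitting K P) {d : ℕ} (hd : LambdaRing.gammaFiltration P (d + 1) = ⊥)
    {x : K} (h : KGr.chK P d x = 0) : ∃ N : ℕ, 1 ≤ N ∧ (N : K) * x = 0 := by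
  have h0 : ∀ n, ∀ m, n ≤ m → ∀ k, k ∈ Finset.Ioo m d →
      compQ P n ((1 / ((k + 1).factorial : ℚ)) • nw (cseq P x) k) = 0 := by
    intro n m hnm k hk
    obtain ⟨y, hy, hy'⟩ := exists_nw_eq (P := P) x k
    rw [map_smul, hy', compQ_grK_ne (by have := (Finset.mem_Ioo.1 hk).1; omega) hy, smul_zero]
  have haug : P.aug x = 0 := by
    have h1 := congrArg (compQ P 0) h
    rw [chK_eq, map_add, map_sum, Algebra.algebraMap_eq_smul_one, map_smul, ← grK_zero_one (P := P),
      compQ_grK ((qG P).zero_eq ▸ Submodule.mem_top), map_zero, Finset.sum_eq_zero, add_zero] at h1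
    · by_contra hne
      have hq : ((P.aug x : ℤ) : ℚ) ≠ 0 := Int.cast_ne_zero.2 hne
      obtain ⟨N, hN, hN0⟩ := tmul_eq_zero_exists ((smul_eq_zero.1 h1).resolve_left hq)
      rw [nsmul_eq_mul, map_one, mul_one, ← map_natCast (Ideal.Quotient.mk ((qG P).G (0 + 1))),
        Ideal.Quotient.eq_zero_iff_mem] at hN0
      have := aug_eq_zero_of_mem hK le_rfl hN0
      rw [map_natCast] at this
      exact absurd (Nat.cast_eq_zero.1 this) (by omega)
    · intro k _
      obtain ⟨y, hy, hy'⟩ := exists_nw_eq (P := P) x k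
      rw [map_smul, hy', compQ_grK_ne (by omega) hy, smul_zero]
  have hmem : ∀ n, n ≤ d → x ∈ (qG P).G (n + 1) := by
    intro n
    induction n with
    | zero => intro _; simpa [haug] using sub_aug_mem_one (P := P) x
    | succ n ih =>
      intro hn
      have hx := ih (by omega)
      refine mem_next_of_grK_eq_zero hx ?_
      have h1 := congrArg (compQ P (n + 1)) h
      rw [chK_lead hK (by omega) hx, map_add, map_zero, map_sum] at h1
      by_contra hne
      apply hne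
      have h2 : ∀ k ∈ Finset.Ioo n d, compQ P (n + 1) ((1 / ((k + 1).factorial : ℚ)) • nw (cseq P x) k) = 0 := by
        intro k hk
        obtain ⟨y, hy, hy'⟩ := exists_nw_eq (P := P) x k
        rw [map_smul, hy', compQ_grK_ne (by have := (Finset.mem_Ioo.1 hk).1; omega) hy, smul_zero]
      rw [Finset.sum_eq_zero h2, add_zero, compQ_grK hx] at h1
      obtain ⟨N, hN, hN0⟩ := tmul_eq_zero_exists h1
      rw [nsmul_eq_mul, ← map_natCast (Ideal.Quotient.mk ((qG P).G (n + 1 + 1))), ← map_mul,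
        Ideal.Quotient.eq_zero_iff_mem] at hN0
      exact grK_eq_zero (qG_saturated hN hN0)
  obtain ⟨N, hN, hNx⟩ := hmem d le_rfl
  exact ⟨N, hN, eq_bot_fil hd le_rfl hNx⟩

theorem phi_injective (hK : HasSplitting K P) {d : ℕ} (hd : LambdaRing.gammaFiltration P (d + 1) = ⊥) :
    Function.Injective (phi P d) := by
  refine (injective_iff_map_eq_zero _).2 fun z hz => ?_
  obtain ⟨⟨x, s⟩, hs⟩ := IsLocalizedModule.surj (nonZeroDivisors ℤ) (TensorProduct.mk ℤ ℚ K 1) z
  have hsx : (s : ℤ) • z = (1 : ℚ) ⊗ₜ[ℤ] x := hs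
  have hx : KGr.chK P d x = 0 := by
    rw [← one_smul ℚ (KGr.chK P d x), ← phi_tmul, ← hsx, map_zsmul, hz, smul_zero]
  obtain ⟨N, hN, hN0⟩ := torsion_of_chK_eq_zero hK hd hx
  have h1 : ((N : ℤ) * (s : ℤ)) • z = 0 := by
    rw [mul_smul, hsx, ← TensorProduct.tmul_smul, natCast_zsmul, nsmul_eq_mul, hN0, TensorProduct.tmul_zero]
  rw [← Int.cast_smul_eq_zsmul ℚ] at h1
  refine (smul_eq_zero.1 h1).resolve_left (Int.cast_ne_zero.2 (mul_ne_zero ?_ (nonZeroDivisors.coe_ne_zero s)))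
  exact Int.natCast_ne_zero.2 (by omega)

/-- Let K be a λ-ring with positive structure having the splitting property, whose γ-filtration
satisfies F^{d+1} K = 0. Then the Chern character ch : K ⟶ ℚGr K = ℚ ⊗ (⊕ F^n/F^{n+1}) (from the
Chern classes c^i(x) = γ^i(x - ε x) mod F^{i+1} through the Hirzebruch polynomials of exp, truncated
at d) is additive and induces a bijection ℚ ⊗ K ⟶ ℚGr K: there is a ℚ-linear Φ with Φ(1 ⊗ x) = ch(x)
for all x, and it is bijective. -/
theorem result (K : Type v) [CommRing K] [LambdaRing.LambdaOps K] (P : LambdaRing.PosStructure K) (hK : LambdaRing.HasSplitting K P) (d : ℕ) (hd : LambdaRing.gammaFiltration P (d + 1) = ⊥)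
    :
    ∃ Φ : TensorProduct ℤ ℚ K →ₗ[ℚ] KGr.Gr P, (∀ x : K, Φ ((1 : ℚ) ⊗ₜ[ℤ] x) = KGr.chK P d x) ∧ Function.Bijective Φ := by
  refine ⟨phi P d, fun x => by rw [phi_tmul, one_smul], phi_injective hK hd, ?_⟩
  rw [← LinearMap.range_eq_top, eq_top_iff, ← span_homog, Submodule.span_le]
  rintro _ ⟨n, x, hx, rfl⟩
  exact grK_mem_range hK hd n x hx

end Groth.Agent.S3794
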