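import Groth.Statements.S3795
import Groth.Agent.Lead.ChernChar.Eigen

set_option autoImplicit false
universe v u
open CategoryTheory CategoryTheory.Limits AlgebraicGeometry
attribute [local instance] HasDerivedCategory.standard
open KRR

namespace Groth.Agent.S3795

/-- Let K be a λ-ring with positive structure having the splitting property, j ≥ 2, n ≥ 0 and x ∈ K. If
ψ^j(x) - j^n x lies in ℚF^{n+1} (some positive multiple lies in F^{n+1}, γ-filtration), then x lies
in ℚF^n (some positive multiple of x lies in F^n). -/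
theorem result (K : Type v) [CommRing K] [LambdaRing.LambdaOps K] (P : LambdaRing.PosStructure K) (hK : LambdaRing.HasSplitting K P) (j : ℕ) (hj : 2 ≤ j) (n : ℕ) (x : K)
    (hx : ∃ N : ℕ, 1 ≤ N ∧ (N : K) * (LambdaRing.adams P j x - (j : K) ^ n * x) ∈ LambdaRing.gammaFiltration P (n + 1)) :
    ∃ N : ℕ, 1 ≤ N ∧ (N : K) * x ∈ LambdaRing.gammaFiltration P n := by
  open Groth.Agent.Lead.ChernChar Groth.Agent.LamG in
  obtain ⟨N, hN, hNx⟩ := hx
  obtain ⟨k, rfl⟩ : ∃ k, j = k + 1 := ⟨j - 1, by omega⟩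
  rw [adams_succ_eq] at hNx
  obtain ⟨M, hM, hMx⟩ := mem_of_adams_congr (P := P) hK hj (x := x)
    ⟨N, hN, (mem_gammaFiltration_iff P _ _).1 hNx⟩ n le_rfl
  exact ⟨M, hM, (mem_gammaFiltration_iff P _ _).2 hMx⟩

end Groth.Agent.S3795
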