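import Groth.Statements.S3802
import Groth.Agent.Lead.AdamsRR.Lambda

set_option autoImplicit false
universe v u
open CategoryTheory CategoryTheory.Limits AlgebraicGeometry
attribute [local instance] HasDerivedCategory.standard
open KRR

namespace Groth.Agent.S3802

open Finset TensorProduct Groth.Agent.Lead.AdamsRR Groth.Agent.LamG
open Groth.Agent.Lead.Lam (map_esymm')

/-- Let K be a λ-ring with positive structure having the splitting property, c positive with ε(c) = r +
1, and K_c = K[T]/(p_c) with generator ℓ, equipped with a λ-structure extending that of K with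
λ^i(ℓ) = 0 for i ≥ 2 and a positive structure making K ⟶ K_c an extension with ℓ a line element and
c - ℓ positive (when r ≥ 1), having the splitting property; let f : K_c ⟶ K be the associated
K-linear functional (f(ℓ^i) = σ^i(c) for i ≤ r). If z ∈ K_c satisfies z (1 - ℓ) = 0, then z = f(z) ·
λ_{-1}(c - ℓ), where λ_{-1}(c - ℓ) = Σ_{i ≤ r} (-1)^i λ^i(c - ℓ). -/
theorem result (K : Type v) [CommRing K] [LambdaRing.LambdaOps K] (P : LambdaRing.PosStructure K) (hK : LambdaRing.HasSplitting K P) (c : K) (hc : c ∈ P.pos) (r : ℕ) (hr : P.aug c = r + 1)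
    (inst : LambdaRing.LambdaOps (AdjoinRoot (KRR.extPoly P c))) (Pc : @LambdaRing.PosStructure _ _ inst)
    (hext : @LambdaRing.IsExtension K _ _ _ _ inst P Pc (AdjoinRoot.of (KRR.extPoly P c)))
    (hroot : ∀ i : ℕ, 2 ≤ i → @LambdaRing.LambdaOps.lam _ _ inst i (AdjoinRoot.root (KRR.extPoly P c)) = 0)
    (hline : @LambdaRing.PosStructure.IsLine _ _ inst Pc (AdjoinRoot.root (KRR.extPoly P c)))
    (hpos : 1 ≤ r → AdjoinRoot.of (KRR.extPoly P c) c - AdjoinRoot.root (KRR.extPoly P c) ∈ (@LambdaRing.PosStructure.pos _ _ inst Pc))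
    (hsplit : @LambdaRing.HasSplitting _ _ inst Pc)
    (f : AdjoinRoot (KRR.extPoly P c) →ₗ[K] K)
    (hf : ∀ i : ℕ, i ≤ r → f (AdjoinRoot.root (KRR.extPoly P c) ^ i) = KRR.sigma i c)
    (z : AdjoinRoot (KRR.extPoly P c)) (hz : z * (1 - AdjoinRoot.root (KRR.extPoly P c)) = 0) :
    z = AdjoinRoot.of (KRR.extPoly P c) (f z) *
      @KRR.lamAlt _ _ inst Pc (AdjoinRoot.of (KRR.extPoly P c) c - AdjoinRoot.root (KRR.extPoly P c)) := by
  have hr' : (P.aug c).toNat = r + 1 := by rw [hr]; omega
  obtain ⟨d⟩ := nonempty_splitData hK hc hr'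
  set cc : ℕ → K := fun i => (-1 : K) ^ i * LambdaRing.LambdaOps.lam i c with hcc
  have hmon : (KRR.extPoly P c).Monic := d.monic_extPoly hr'
  rcases subsingleton_or_nontrivial K with hK0 | hK0
  · have : Subsingleton (AdjoinRoot (KRR.extPoly P c)) := Module.subsingleton K _
    exact Subsingleton.elim _ _
  have hdeg : (KRR.extPoly P c).natDegree = r + 1 := by
    have := d.ext.injective.nontrivial
    rw [← Polynomial.natDegree_map_eq_of_injective d.ext.injective (KRR.extPoly P c), d.map_extPoly hr', natDegree_pv]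
  -- `λ^i (c - (AdjoinRoot.root (KRR.extPoly P c)))`
  have hL : ∀ i, LambdaRing.LambdaOps.lam i (AdjoinRoot.of (KRR.extPoly P c) c - (AdjoinRoot.root (KRR.extPoly P c))) * (-1) ^ i =
      ∑ m ∈ Finset.range (i + 1), AdjoinRoot.of (KRR.extPoly P c) (cc m) * (AdjoinRoot.root (KRR.extPoly P c)) ^ (i - m) := by
    intro i
    induction i with
    | zero => simp [LambdaRing.LambdaOps.lam_zero, cc]
    | succ i ih =>
      have hadd := LambdaRing.LambdaOps.lam_add (i + 1) (AdjoinRoot.root (KRR.extPoly P c)) (AdjoinRoot.of (KRR.extPoly P c) c - (AdjoinRoot.root (KRR.extPoly P c)))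
      rw [add_sub_cancel, ← hext.isLambdaHom, Finset.sum_range_succ', Finset.sum_range_succ',
        Finset.sum_eq_zero (fun m _ => by rw [hroot (m + 1 + 1) (by omega), zero_mul]), zero_add,
        LambdaRing.LambdaOps.lam_one, LambdaRing.LambdaOps.lam_zero, one_mul, Nat.sub_zero,
        show i + 1 - (0 + 1) = i by omega] at hadd
      rw [Finset.sum_range_succ, Nat.sub_self, pow_zero, mul_one,
        show AdjoinRoot.of (KRR.extPoly P c) (cc (i + 1)) = (-1) ^ (i + 1) * AdjoinRoot.of (KRR.extPoly P c) (LambdaRing.LambdaOps.lam (i + 1) c) by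
          simp [cc]]
      have hs : ∑ m ∈ Finset.range (i + 1), AdjoinRoot.of (KRR.extPoly P c) (cc m) * (AdjoinRoot.root (KRR.extPoly P c)) ^ (i + 1 - m) =
          (AdjoinRoot.root (KRR.extPoly P c)) * ∑ m ∈ Finset.range (i + 1), AdjoinRoot.of (KRR.extPoly P c) (cc m) * (AdjoinRoot.root (KRR.extPoly P c)) ^ (i - m) := by
        rw [Finset.mul_sum]
        refine Finset.sum_congr rfl fun m hm => ?_
        rw [show i + 1 - m = (i - m) + 1 by have := Finset.mem_range.1 hm; omega, pow_succ]
        ring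
      rw [hs, ← ih, hadd]
      ring
  set h : Polynomial K := ∑ i ∈ Finset.range (r + 1), ∑ m ∈ Finset.range (i + 1),
    Polynomial.C (cc m) * Polynomial.X ^ (i - m) with hh
  have hQ : KRR.lamAlt Pc (AdjoinRoot.of (KRR.extPoly P c) c - (AdjoinRoot.root (KRR.extPoly P c))) = AdjoinRoot.mk (KRR.extPoly P c) h := by
    rw [KRR.lamAlt, map_sub, hext.aug_comp, hline.2, hr, show ((r : ℤ) + 1 - 1).toNat = r by omega]
    simp only [hh, map_sum, map_mul, map_pow, AdjoinRoot.mk_C, AdjoinRoot.mk_X]
    exact Finset.sum_congr rfl fun i _ => by rw [mul_comm, hL]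
  have hcore : (Polynomial.X - Polynomial.C 1) * h = (KRR.extPoly P c) - Polynomial.C ((KRR.extPoly P c).eval 1) := by
    have hpe : (KRR.extPoly P c) = ∑ m ∈ Finset.range (r + 1 + 1), Polynomial.C (cc m) * Polynomial.X ^ (r + 1 - m) := by
      rw [KRR.extPoly, hr']
    have hgen : ∀ N : ℕ, (Polynomial.X - Polynomial.C 1) *
        (∑ i ∈ Finset.range N, ∑ m ∈ Finset.range (i + 1), Polynomial.C (cc m) * Polynomial.X ^ (i - m)) =
        ∑ m ∈ Finset.range (N + 1), (Polynomial.C (cc m) * Polynomial.X ^ (N - m) - Polynomial.C (cc m)) := by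
      intro N
      induction N with
      | zero => simp
      | succ N ih =>
        rw [Finset.sum_range_succ _ N, mul_add, ih, Finset.mul_sum, ← Finset.sum_add_distrib,
          Finset.sum_range_succ _ (N + 1), Nat.sub_self, pow_zero, mul_one, sub_self, add_zero]
        refine Finset.sum_congr rfl fun m hm => ?_
        rw [show N + 1 - m = (N - m) + 1 by have := Finset.mem_range.1 hm; omega, pow_succ, map_one]
        ring
    rw [hh, hgen, Finset.sum_sub_distrib, ← hpe]
    congr 1
    rw [hpe, Polynomial.eval_finsetSum, map_sum]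
    simp
  obtain ⟨g₀, rfl⟩ := AdjoinRoot.mk_surjective z
  set g := g₀ %ₘ (KRR.extPoly P c) with hg
  have hgg : AdjoinRoot.mk (KRR.extPoly P c) g₀ = AdjoinRoot.mk (KRR.extPoly P c) g := by
    rw [AdjoinRoot.mk_eq_mk, hg]
    exact ⟨g₀ /ₘ (KRR.extPoly P c), by linear_combination -(Polynomial.modByMonic_add_div g₀ (KRR.extPoly P c))⟩
  rw [hgg] at hz ⊢
  have hp1 : (KRR.extPoly P c).natDegree ≠ 0 := by rw [hdeg]; omega
  have hgdeg : g.natDegree ≤ r := by
    have := Polynomial.natDegree_modByMonic_lt g₀ hmon (fun h => hp1 (by rw [h]; simp))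
    rw [hdeg] at this
    exact Nat.lt_succ_iff.1 this
  obtain ⟨w, hw⟩ : (KRR.extPoly P c) ∣ g * (1 - Polynomial.X) := by
    rw [← AdjoinRoot.mk_eq_zero, map_mul, map_sub, map_one, AdjoinRoot.mk_X]
    exact hz
  have hwC : w.natDegree = 0 := by
    by_contra hne
    have hw0 : w ≠ 0 := fun h => hne (by simp [h])
    have h1 : ((KRR.extPoly P c) * w).natDegree = (KRR.extPoly P c).natDegree + w.natDegree := hmon.natDegree_mul' hw0
    rw [← hw, hdeg] at h1
    have h2 : (g * (1 - Polynomial.X)).natDegree ≤ r + 1 := by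
      refine Polynomial.natDegree_mul_le.trans (add_le_add hgdeg ?_)
      exact (Polynomial.natDegree_sub_le _ _).trans (by simp)
    omega
  obtain ⟨b, rfl⟩ : ∃ b, w = Polynomial.C b := ⟨_, Polynomial.eq_C_of_natDegree_eq_zero hwC⟩
  set a := g.coeff r with ha
  have hab : b = -a := by
    have := congrArg (fun q : Polynomial K => q.coeff (r + 1)) hw
    simp only [Polynomial.coeff_mul_C, mul_sub, mul_one, Polynomial.coeff_sub, Polynomial.coeff_mul_X] at this
    rw [Polynomial.coeff_eq_zero_of_natDegree_lt (show g.natDegree < r + 1 by omega),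
      show (KRR.extPoly P c).coeff (r + 1) = 1 by rw [← hdeg]; exact hmon.coeff_natDegree, one_mul, zero_sub] at this
    exact this.symm
  subst hab
  have hgh : g = Polynomial.C a * h := by
    have hev : a * (KRR.extPoly P c).eval 1 = 0 := by
      have := congrArg (Polynomial.eval 1) hw
      simp at this
      simpa [mul_comm] using this
    rw [← sub_eq_zero]
    refine (Polynomial.monic_X_sub_C (1 : K)).mul_right_eq_zero_iff.1 ?_
    rw [mul_sub, ← mul_assoc, mul_comm (Polynomial.X - Polynomial.C 1) (Polynomial.C a), mul_assoc, hcore, mul_sub,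
      ← map_mul, hev, map_zero, sub_zero, Polynomial.C_1]
    rw [map_neg] at hw
    linear_combination -hw
  have hfa : f (AdjoinRoot.mk (KRR.extPoly P c) g) = a := by
    apply d.ext.injective
    rw [d.map_functional hr' f hf]
    have hd : pv d.v ∣ Polynomial.X ^ r * g.map d.φ - g.map d.φ := by
      have h1 : (Polynomial.X - 1 : Polynomial K) ∣ Polynomial.X ^ r - 1 := sub_one_dvd_pow_sub_one _ _
      obtain ⟨u, hu⟩ := h1
      refine ⟨(Polynomial.C a * u).map d.φ, ?_⟩
      rw [← d.map_extPoly hr', ← Polynomial.map_X d.φ, ← Polynomial.map_pow, ← Polynomial.map_mul,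
        ← Polynomial.map_mul, ← Polynomial.map_sub]
      congr 1
      rw [map_neg] at hw
      linear_combination g * hu - u * hw
    have h2 : tau d.v (Polynomial.X ^ r * g.map d.φ) = tau d.v (g.map d.φ) := by
      rw [← sub_eq_zero, ← map_sub]
      exact tau_eq_zero_of_dvd hd
    have := d.ext.injective.nontrivial
    have hdeg' : (g.map d.φ).degree < (pv d.v).degree := by
      rw [Polynomial.degree_eq_natDegree (pv_monic d.v).ne_zero, natDegree_pv]
      refine lt_of_le_of_lt (Polynomial.degree_le_natDegree) ?_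
      exact_mod_cast Nat.lt_succ_of_le (Polynomial.natDegree_map_le.trans hgdeg)
    rw [h2, tau_apply, (Polynomial.modByMonic_eq_self_iff (pv_monic d.v)).2 hdeg', Polynomial.coeff_map]
  rw [hfa, hQ, ← AdjoinRoot.mk_C, ← map_mul, ← hgh]

end Groth.Agent.S3802
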