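import Groth.Statements.S3804
import Groth.Agent.Lead.AdamsRR.Lambda

set_option autoImplicit false
set_option backward.isDefEq.respectTransparency false
universe v u
open CategoryTheory CategoryTheory.Limits AlgebraicGeometry
attribute [local instance] HasDerivedCategory.standard
open scoped TensorProduct
open KRR

namespace Groth.Agent.S3804

open Finset TensorProduct Groth.Agent.Lead.AdamsRR Groth.Agent.LamG
open Groth.Agent.Lead.Lam (map_esymm')

theorem flat_int {S : Type} [CommRing S] (a : Algebra ℤ S)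
    (h : @Module.Flat ℤ S _ _ (@Algebra.toModule _ _ _ _ a)) : Module.Flat ℤ S := by
  obtain rfl : a = Ring.toIntAlgebra S := Subsingleton.elim _ _
  exact h

theorem main {S : Type} [CommRing S] [Module.Flat ℤ S] (K : Type v) [CommRing K] [LambdaRing.LambdaOps K] (P : LambdaRing.PosStructure K) (hK : LambdaRing.HasSplitting K P) (e : K) (he : e ∈ P.pos) (r : ℕ) (hr : P.aug e = r + 1)
    (inst : LambdaRing.LambdaOps (AdjoinRoot (KRR.extPoly P e))) (Pe : @LambdaRing.PosStructure _ _ inst)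
    (hext : @LambdaRing.IsExtension K _ _ _ _ inst P Pe (AdjoinRoot.of (KRR.extPoly P e)))
    (hroot : ∀ i : ℕ, 2 ≤ i → @LambdaRing.LambdaOps.lam _ _ inst i (AdjoinRoot.root (KRR.extPoly P e)) = 0)
    (hline : @LambdaRing.PosStructure.IsLine _ _ inst Pe (AdjoinRoot.root (KRR.extPoly P e)))
    (hpos : 1 ≤ r → AdjoinRoot.of (KRR.extPoly P e) e - AdjoinRoot.root (KRR.extPoly P e) ∈ (@LambdaRing.PosStructure.pos _ _ inst Pe))
    (hsplit : @LambdaRing.HasSplitting _ _ inst Pe) (N : ℕ) (hN : @LambdaRing.gammaFiltration _ _ inst Pe N = ⊥)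
    (f : AdjoinRoot (KRR.extPoly P e) →ₗ[K] K)
    (hf : ∀ i : ℕ, i ≤ r → f (AdjoinRoot.root (KRR.extPoly P e) ^ i) = KRR.sigma i e)
    (linv : AdjoinRoot (KRR.extPoly P e)) (hlinv : linv * AdjoinRoot.root (KRR.extPoly P e) = 1)
    (j : ℕ) (hj : 1 ≤ j) (hjS : IsUnit (j : S)) :
    (∃ w : TensorProduct ℤ (S) (AdjoinRoot (KRR.extPoly P e)), w * ((1 : S) ⊗ₜ[ℤ] @KRR.bott _ _ inst Pe j (AdjoinRoot.of (KRR.extPoly P e) e * linv)) = 1) ∧
    ∀ w : TensorProduct ℤ (S) (AdjoinRoot (KRR.extPoly P e)), w * ((1 : S) ⊗ₜ[ℤ] @KRR.bott _ _ inst Pe j (AdjoinRoot.of (KRR.extPoly P e) e * linv)) = 1 →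
      ∀ x : AdjoinRoot (KRR.extPoly P e),
        (1 : S) ⊗ₜ[ℤ] LambdaRing.adams P j (f x) =
          LinearMap.lTensor (S) f.toAddMonoidHom.toIntLinearMap
            ((j : TensorProduct ℤ (S) (AdjoinRoot (KRR.extPoly P e))) * w * ((1 : S) ⊗ₜ[ℤ] @LambdaRing.adams _ _ inst Pe j x)) := by
  obtain ⟨k, rfl⟩ : ∃ k, j = k + 1 := ⟨j - 1, by omega⟩
  have hr' : (P.aug e).toNat = r + 1 := by rw [hr]; omega
  obtain ⟨d⟩ := nonempty_splitData hK he hr'
  set x := AdjoinRoot.of (KRR.extPoly P e) e * linv with hx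
  -- exterior powers of `e / (AdjoinRoot.root (KRR.extPoly P e))`
  have hlam : ∀ i, LambdaRing.LambdaOps.lam i x = linv ^ i * AdjoinRoot.of (KRR.extPoly P e) (LambdaRing.LambdaOps.lam i e) := by
    intro i
    have h := lam_line_mul hsplit hline x i
    have hlx : (AdjoinRoot.root (KRR.extPoly P e)) * x = AdjoinRoot.of (KRR.extPoly P e) e := by rw [hx, mul_comm (AdjoinRoot.root (KRR.extPoly P e)), mul_assoc, hlinv, mul_one]
    rw [hlx, ← hext.isLambdaHom] at h
    rw [h, ← mul_assoc, ← mul_pow, hlinv, one_pow, one_mul]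
  have hauglinv : Pe.aug linv = 1 := by
    have := congrArg Pe.aug hlinv
    rwa [map_mul, hline.2, mul_one, map_one] at this
  have haugx : (Pe.aug x).toNat = r + 1 := by rw [hx, map_mul, hext.aug_comp, hauglinv, mul_one, hr']
  set θ : AdjoinRoot (KRR.extPoly P e) := KRR.bott Pe (k + 1) x with hθ
  -- invertibility
  have haugθ : Pe.aug θ = ((k + 1 : ℕ) : ℤ) ^ (r + 1) := by
    rw [hθ, map_bott Pe.aug (k + 1) haugx (fun _ => (1 : ℤ)) fun i => by
      rw [hlam, map_mul, map_pow, hauglinv, one_pow, one_mul, hext.aug_comp, aug_lam hK he, hr',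
        Multiset.map_const', Finset.card_val, Finset.card_univ, Fintype.card_fin, esymm_replicate_one]]
    simp
  have hnil : IsNilpotent (θ - ((k + 1 : ℕ) : AdjoinRoot (KRR.extPoly P e)) ^ (r + 1)) := by
    refine ⟨N, ?_⟩
    set y := θ - ((k + 1 : ℕ) : AdjoinRoot (KRR.extPoly P e)) ^ (r + 1)
    have hy : Pe.aug y = 0 := by
      simp only [y, map_sub, map_pow, map_natCast, haugθ, sub_self]
    have hmem : y ^ N ∈ LambdaRing.gammaFiltration Pe N := by
      rw [LambdaRing.gammaFiltration]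
      split_ifs with h0
      · exact AddSubgroup.mem_top _
      · refine AddSubgroup.subset_closure ⟨List.replicate N (1, y), fun q hq => ?_, by simp, ?_⟩
        · rw [List.eq_of_mem_replicate hq]; exact hy
        · simp [Groth.Agent.LamG.gamma_one]
    rw [hN] at hmem
    exact AddSubgroup.mem_bot.1 hmem
  have hjR : IsUnit ((k + 1 : ℕ) : S ⊗[ℤ] AdjoinRoot (KRR.extPoly P e)) := by
    have := hjS.map (Algebra.TensorProduct.includeLeftRingHom : S →+* S ⊗[ℤ] AdjoinRoot (KRR.extPoly P e))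
    rwa [map_natCast] at this
  let iR : AdjoinRoot (KRR.extPoly P e) →+* S ⊗[ℤ] AdjoinRoot (KRR.extPoly P e) := Algebra.TensorProduct.includeRight.toRingHom
  have hiR : ∀ y, iR y = (1 : S) ⊗ₜ[ℤ] y := fun _ => rfl
  have hθunit : IsUnit (iR θ) := by
    have h1 : iR θ = ((k + 1 : ℕ) : S ⊗[ℤ] AdjoinRoot (KRR.extPoly P e)) ^ (r + 1) +
        iR (θ - ((k + 1 : ℕ) : AdjoinRoot (KRR.extPoly P e)) ^ (r + 1)) := by
      rw [map_sub, map_pow, map_natCast]; ring
    rw [h1]
    exact (hnil.map iR).isUnit_add_left_of_commute (hjR.pow _) (Commute.all _ _)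
  refine ⟨⟨↑hθunit.unit⁻¹, hθunit.val_inv_mul⟩, fun w hw g₀ => ?_⟩
  -- comparison with the split ring
  let A := S ⊗[ℤ] d.L.carrier
  let iL : d.L.carrier →+* A := Algebra.TensorProduct.includeRight.toRingHom
  let ι : K →+* A := iL.comp d.φ
  let v' : Fin (r + 1) → A := iL ∘ d.v
  have hpv : (KRR.extPoly P e).map ι = pv v' := by rw [← Polynomial.map_map, d.map_extPoly hr', map_pv]
  let G : AdjoinRoot (KRR.extPoly P e) →+* AdjoinRoot (pv v') :=
    AdjoinRoot.lift ((AdjoinRoot.of (pv v')).comp ι) (AdjoinRoot.root (pv v')) (by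
      rw [← Polynomial.eval₂_map, hpv, AdjoinRoot.eval₂_root])
  have hG : ∀ g, G (AdjoinRoot.mk (KRR.extPoly P e) g) = AdjoinRoot.mk (pv v') (g.map ι) := fun g => by
    rw [AdjoinRoot.lift_mk, ← Polynomial.eval₂_map]
    change Polynomial.eval₂ (AdjoinRoot.of (pv v')) _ _ = _
    rw [← AdjoinRoot.algebraMap_eq, ← Polynomial.aeval_def, AdjoinRoot.aeval_eq]
  let Ψ : S ⊗[ℤ] AdjoinRoot (KRR.extPoly P e) →ₐ[ℤ] AdjoinRoot (pv v') :=
    Algebra.TensorProduct.lift
      (((AdjoinRoot.of (pv v')).comp (Algebra.TensorProduct.includeLeftRingHom : S →+* A)).toIntAlgHom)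
      G.toIntAlgHom (fun _ _ => Commute.all _ _)
  have hΨ : ∀ (a : S) (y : AdjoinRoot (KRR.extPoly P e)),
      Ψ (a ⊗ₜ[ℤ] y) = AdjoinRoot.of (pv v') (a ⊗ₜ[ℤ] (1 : d.L.carrier)) * G y := fun a y =>
    Algebra.TensorProduct.lift_tmul _ _ _ a y
  let φl : K →ₗ[ℤ] d.L.carrier := d.φ.toAddMonoidHom.toIntLinearMap
  have compat : ∀ z : S ⊗[ℤ] AdjoinRoot (KRR.extPoly P e),
      LinearMap.lTensor S φl (LinearMap.lTensor S f.toAddMonoidHom.toIntLinearMap z) =
        tauRoot v' (AdjoinRoot.root (pv v') ^ r * Ψ z) := by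
    intro z
    induction z using TensorProduct.induction_on with
    | zero => simp
    | add a b ha hb => simp only [map_add, mul_add, ha, hb]
    | tmul a y =>
      obtain ⟨g, rfl⟩ := AdjoinRoot.mk_surjective y
      change a ⊗ₜ[ℤ] d.φ (f (AdjoinRoot.mk (KRR.extPoly P e) g)) = _
      rw [hΨ, hG, mul_left_comm, ← AdjoinRoot.algebraMap_eq, ← Algebra.smul_def, map_smul, smul_eq_mul,
        ← AdjoinRoot.mk_X, ← map_pow, ← map_mul, tauRoot_mk, d.map_functional hr' f hf,
        ← Polynomial.map_X ι, ← Polynomial.map_pow]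
      have h2 := map_tau iL d.v (Polynomial.X ^ r * g.map d.φ)
      rw [Polynomial.map_mul, Polynomial.map_pow, Polynomial.map_X, Polynomial.map_map] at h2
      rw [Polynomial.map_pow, Polynomial.map_X, ← h2]
      change _ = a ⊗ₜ[ℤ] (1 : d.L.carrier) * (1 : S) ⊗ₜ[ℤ] tau d.v (Polynomial.X ^ r * g.map d.φ)
      rw [Algebra.TensorProduct.tmul_mul_tmul, mul_one, one_mul]
  have hinj : Function.Injective (LinearMap.lTensor S φl) :=
    Module.Flat.lTensor_preserves_injective_linearMap φl d.ext.injective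
  -- the Bott class upstairs
  have hri : G linv * AdjoinRoot.root (pv v') = 1 := by
    have := congrArg G hlinv
    rwa [map_mul, map_one, AdjoinRoot.lift_root] at this
  have hGθ : G θ = ∏ i, ∑ m ∈ Finset.range (k + 1), (G linv * AdjoinRoot.of (pv v') (v' i)) ^ m := by
    refine map_bott G (k + 1) haugx _ fun i => ?_
    have h1 : G (AdjoinRoot.of (KRR.extPoly P e) (LambdaRing.LambdaOps.lam i e)) =
        AdjoinRoot.of (pv v') (iL (d.φ (LambdaRing.LambdaOps.lam i e))) := AdjoinRoot.lift_of _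
    rw [hlam, map_mul, map_pow, h1, d.map_lam,
      ← RingHom.comp_apply (AdjoinRoot.of (pv v')) iL, map_esymm', ← esymm_map_mul, Multiset.map_map,
      Multiset.map_map]
    rfl
  have hΨw : Ψ w * ∏ i, ∑ m ∈ Finset.range (k + 1), (G linv * AdjoinRoot.of (pv v') (v' i)) ^ m = 1 := by
    have h1 : Ψ ((1 : S) ⊗ₜ[ℤ] θ) = G θ := by
      rw [hΨ]
      change AdjoinRoot.of (pv v') (1 : A) * G θ = _
      rw [map_one, one_mul]
    rw [← hGθ, ← h1, ← map_mul]
    exact (congrArg Ψ hw).trans (map_one Ψ)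
  set ψL := posAdams d.splitting k
  have hψ : ∀ a : K, d.φ (LambdaRing.adams P (k + 1) a) = ψL (d.φ a) := fun a => by
    rw [adams_succ_eq, map_adamsOp d.φ d.ext.isLambdaHom]; rfl
  obtain ⟨g, rfl⟩ := AdjoinRoot.mk_surjective g₀
  apply hinj
  rw [compat, map_mul Ψ, map_mul Ψ, map_natCast Ψ]
  have hΨψ : Ψ ((1 : S) ⊗ₜ[ℤ] LambdaRing.adams Pe (k + 1) (AdjoinRoot.mk (KRR.extPoly P e) g)) =
      AdjoinRoot.mk (pv v') (((g.map d.φ).map (iL.comp ψL)).comp (Polynomial.X ^ (k + 1))) := by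
    rw [hΨ]
    change AdjoinRoot.of (pv v') (1 : A) * G _ = _
    rw [map_one, one_mul, adams_succ_eq]
    change G (posAdams hsplit k (AdjoinRoot.mk (KRR.extPoly P e) g)) = _
    induction g using Polynomial.induction_on' with
    | add a b ha hb => simp only [map_add, ha, hb, Polynomial.map_add, Polynomial.add_comp]
    | monomial n a =>
      rw [← Polynomial.C_mul_X_pow_eq_monomial, map_mul, map_pow, AdjoinRoot.mk_C, AdjoinRoot.mk_X, map_mul,
        map_pow, show posAdams hsplit k (AdjoinRoot.root (KRR.extPoly P e)) = (AdjoinRoot.root (KRR.extPoly P e)) ^ (k + 1) from adamsOp_line (isLine_lam hline) k,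
        show posAdams hsplit k (AdjoinRoot.of (KRR.extPoly P e) a) = AdjoinRoot.of (KRR.extPoly P e) (LambdaRing.adams P (k + 1) a) by
          rw [adams_succ_eq, map_adamsOp _ hext.isLambdaHom]; rfl,
        map_mul, map_pow, map_pow, AdjoinRoot.lift_root, AdjoinRoot.lift_of]
      simp only [Polynomial.map_mul, Polynomial.map_pow, Polynomial.map_C, Polynomial.map_X,
        Polynomial.mul_comp, Polynomial.pow_comp, Polynomial.C_comp, Polynomial.X_comp, map_mul, map_pow,
        AdjoinRoot.mk_C, AdjoinRoot.mk_X, RingHom.comp_apply, ι, hψ]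
  rw [hΨψ]
  change (1 : S) ⊗ₜ[ℤ] d.φ (LambdaRing.adams P (k + 1) (f (AdjoinRoot.mk (KRR.extPoly P e) g))) = _
  rw [hψ, d.map_functional hr' f hf]
  clear hΨψ
  induction g using Polynomial.induction_on' with
  | add a b ha hb =>
    simp only [Polynomial.map_add, Polynomial.add_comp, mul_add, map_add, TensorProduct.tmul_add, ha, hb]
  | monomial n a =>
    rw [← Polynomial.C_mul_X_pow_eq_monomial]
    simp only [Polynomial.map_mul, Polynomial.map_pow, Polynomial.map_C, Polynomial.map_X,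
      Polynomial.mul_comp, Polynomial.pow_comp, Polynomial.C_comp, Polynomial.X_comp]
    rw [mul_left_comm, ← pow_add, add_comm r n, ← Polynomial.smul_eq_C_mul, map_smul, smul_eq_mul, map_mul,
      map_tau ψL, Polynomial.map_pow, Polynomial.map_X]
    change iL (ψL (d.φ a) * tau (⇑ψL ∘ d.v) (Polynomial.X ^ (n + r))) = _
    have hcomp : (⇑ψL ∘ d.v) = fun i => d.v i ^ (k + 1) := funext fun i => adamsOp_line (isLine_lam (d.line i)) k
    rw [hcomp, map_mul, map_tau iL, Polynomial.map_pow, Polynomial.map_X]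
    have hcomp' : (⇑iL ∘ fun i => d.v i ^ (k + 1)) = fun i => v' i ^ (k + 1) := funext fun i => map_pow iL _ _
    rw [hcomp', ← tauRoot_bott v' (k + 1) (by omega) (G linv) (Ψ w) hri hΨw n, map_mul (AdjoinRoot.mk (pv v')),
      map_pow, map_pow, AdjoinRoot.mk_C, AdjoinRoot.mk_X, ← pow_mul, ← smul_eq_mul, ← map_smul, RingHom.comp_apply]
    have hs : ∀ (c : A) (y : AdjoinRoot (pv v')), c • y = AdjoinRoot.of (pv v') c * y := by
      intro c y
      induction y using AdjoinRoot.induction_on with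
      | _ q => rw [AdjoinRoot.smul_mk, Polynomial.smul_eq_C_mul, map_mul, AdjoinRoot.mk_C]
    refine congrArg (tauRoot v') ?_
    refine (hs _ _).trans ?_
    ring


/-- For the model elementary projection: let K be a λ-ring with positive structure having the splitting
property, e positive with ε(e) = r + 1, K_e = K[T]/(p_e) with generator ℓ (a unit, inverse linv),
carrying a λ-structure extending that of K with λ^i(ℓ) = 0 for i ≥ 2 and a positive structure making
K ⟶ K_e an extension with ℓ a line element and e - ℓ positive (when r ≥ 1), having the splitting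
property, and with F^N K_e = 0 for some N (the published statement assumes instead that 1 - u is
nilpotent for all line elements u of the rings in play). Let f : K_e ⟶ K be the associated K-linear
functional (f(ℓ^i) = σ^i(e), i ≤ r) and j ≥ 1. The published statement's hypothesis 'j invertible in
K' is read here after tensoring with R = ℤ[1/j] (no λ-ring with an augmentation onto ℤ has j
invertible for j ≥ 2). Then 1 ⊗ θ^j(e ℓ⁻¹) is invertible in R ⊗ K_e, and for every inverse w of it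
and every x ∈ K_e: 1 ⊗ ψ^j(f(x)) = (R ⊗ f)(j · w · (1 ⊗ ψ^j(x))) in R ⊗ K. -/
theorem result (K : Type v) [CommRing K] [LambdaRing.LambdaOps K] (P : LambdaRing.PosStructure K) (hK : LambdaRing.HasSplitting K P) (e : K) (he : e ∈ P.pos) (r : ℕ) (hr : P.aug e = r + 1)
    (inst : LambdaRing.LambdaOps (AdjoinRoot (KRR.extPoly P e))) (Pe : @LambdaRing.PosStructure _ _ inst)
    (hext : @LambdaRing.IsExtension K _ _ _ _ inst P Pe (AdjoinRoot.of (KRR.extPoly P e)))
    (hroot : ∀ i : ℕ, 2 ≤ i → @LambdaRing.LambdaOps.lam _ _ inst i (AdjoinRoot.root (KRR.extPoly P e)) = 0)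
    (hline : @LambdaRing.PosStructure.IsLine _ _ inst Pe (AdjoinRoot.root (KRR.extPoly P e)))
    (hpos : 1 ≤ r → AdjoinRoot.of (KRR.extPoly P e) e - AdjoinRoot.root (KRR.extPoly P e) ∈ (@LambdaRing.PosStructure.pos _ _ inst Pe))
    (hsplit : @LambdaRing.HasSplitting _ _ inst Pe) (N : ℕ) (hN : @LambdaRing.gammaFiltration _ _ inst Pe N = ⊥)
    (f : AdjoinRoot (KRR.extPoly P e) →ₗ[K] K)
    (hf : ∀ i : ℕ, i ≤ r → f (AdjoinRoot.root (KRR.extPoly P e) ^ i) = KRR.sigma i e)
    (linv : AdjoinRoot (KRR.extPoly P e)) (hlinv : linv * AdjoinRoot.root (KRR.extPoly P e) = 1)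
    (j : ℕ) (hj : 1 ≤ j) :
    (∃ w : TensorProduct ℤ (Localization.Away (j : ℤ)) (AdjoinRoot (KRR.extPoly P e)), w * ((1 : Localization.Away (j : ℤ)) ⊗ₜ[ℤ] @KRR.bott _ _ inst Pe j (AdjoinRoot.of (KRR.extPoly P e) e * linv)) = 1) ∧
    ∀ w : TensorProduct ℤ (Localization.Away (j : ℤ)) (AdjoinRoot (KRR.extPoly P e)), w * ((1 : Localization.Away (j : ℤ)) ⊗ₜ[ℤ] @KRR.bott _ _ inst Pe j (AdjoinRoot.of (KRR.extPoly P e) e * linv)) = 1 →
      ∀ x : AdjoinRoot (KRR.extPoly P e),
        (1 : Localization.Away (j : ℤ)) ⊗ₜ[ℤ] LambdaRing.adams P j (f x) =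
          LinearMap.lTensor (Localization.Away (j : ℤ)) f.toAddMonoidHom.toIntLinearMap
            ((j : TensorProduct ℤ (Localization.Away (j : ℤ)) (AdjoinRoot (KRR.extPoly P e))) * w * ((1 : Localization.Away (j : ℤ)) ⊗ₜ[ℤ] @LambdaRing.adams _ _ inst Pe j x)) := by
  have hflat := flat_int (S := Localization.Away (j : ℤ)) inferInstance
    (IsLocalization.flat _ (Submonoid.powers (j : ℤ)))
  have hu : IsUnit ((j : ℕ) : Localization.Away (j : ℤ)) := by
    rw [← map_natCast (algebraMap ℤ (Localization.Away (j : ℤ)))]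
    exact IsLocalization.map_units (Localization.Away (j : ℤ))
      (⟨_, Submonoid.mem_powers _⟩ : Submonoid.powers (j : ℤ))
  exact main K P hK e he r hr inst Pe hext hroot hline hpos hsplit N hN f hf linv hlinv j hj hu

end Groth.Agent.S3804
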