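-- Proof of S3808.
import Mathlib.RingTheory.Kaehler.Basic
import Mathlib.RingTheory.TensorProduct.Basic
import Groth.Prelude.Def_PP16
import Mathlib.RingTheory.Localization.Basic
import Groth.Agent.Diff.Kernel

set_option autoImplicit false
universe u
open scoped TensorProduct
open PP16

namespace Groth.Agent.S3808

/-- Let A → B be a ring map, R a multiplicative subset of A, S one of B containing the image of R, and
A' = R⁻¹A, B' = S⁻¹B with the induced map A' → B'. Then the canonical map P^n_{B'/A} → P^n_{B'/A'}
is bijective. -/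
theorem result (n : ℕ) (A B A' B' : Type u) [CommRing A] [CommRing B] [Algebra A B]
    [CommRing A'] [CommRing B'] [Algebra A A'] [Algebra B B'] [Algebra A' B'] [Algebra A B']
    [IsScalarTower A A' B'] [IsScalarTower A B B'] (R : Submonoid A) (S : Submonoid B) [IsLocalization R A']
    [IsLocalization S B'] (hRS : ∀ r ∈ R, algebraMap A B r ∈ S) :
    Function.Bijective (PP16.map n A B' A' B') := by
  have h := Groth.Agent.Diff.Kernel.map_surjective_ker A B' A' B' n (fun x => ⟨x, rfl⟩)
  refine ⟨?_, h.1⟩
  rw [RingHom.injective_iff_ker_eq_bot, h.2,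
    Groth.Agent.Diff.Kernel.ker_tensorMap_tower A A' B', Groth.Agent.Diff.Kernel.towerKer,
    Ideal.map_span]
  rw [Ideal.span_eq_bot]
  rintro _ ⟨_, ⟨a, rfl⟩, rfl⟩
  suffices h0 : Groth.Agent.Diff.Basic.delta A (algebraMap A' B' a) = 0 by show Ideal.Quotient.mk _ (Groth.Agent.Diff.Basic.delta A (algebraMap A' B' a)) = 0; rw [h0]; exact map_zero _
  obtain ⟨⟨x, r⟩, hxr⟩ := IsLocalization.surj R a
  have hu : IsUnit (algebraMap A B' (r : A)) := by
    rw [IsScalarTower.algebraMap_apply A B B']
    exact IsLocalization.map_units B' (⟨_, hRS r r.2⟩ : S)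
  have hu' : IsUnit (algebraMap A (B' ⊗[A] B') (r : A)) := by
    rw [Algebra.TensorProduct.algebraMap_apply]
    exact hu.map (Algebra.TensorProduct.includeLeft (R := A) (S := A) (A := B') (B := B'))
  refine hu'.mul_right_injective ?_
  beta_reduce
  rw [mul_zero, ← Algebra.smul_def, Groth.Agent.Diff.Basic.delta, smul_sub,
    TensorProduct.smul_tmul', TensorProduct.smul_tmul', TensorProduct.smul_tmul]
  rw [show (r : A) • algebraMap A' B' a = algebraMap A B' x by
    rw [Algebra.smul_def, IsScalarTower.algebraMap_apply A A' B', ← map_mul, mul_comm, hxr,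
      ← IsScalarTower.algebraMap_apply]]
  rw [Algebra.algebraMap_eq_smul_one, TensorProduct.smul_tmul, sub_self]

end Groth.Agent.S3808
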