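-- Proof of S3812.
import Mathlib.RingTheory.Kaehler.Basic
import Mathlib.RingTheory.TensorProduct.Basic
import Groth.Prelude.Def_PP16
import Mathlib.RingTheory.MvPolynomial.Basic
import Groth.Agent.Diff.Truncated
import Mathlib.RingTheory.Kaehler.Polynomial

set_option autoImplicit false
universe u
open scoped TensorProduct
open PP16

namespace Groth.Agent.S3812

/-- Let B = A[T_i] be a polynomial algebra. There is an isomorphism of B-algebras from P^n_{B/A} onto
B[U_i]/(U)^(n+1), where (U) is the ideal generated by the new indeterminates, sending the principal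
part d^n T_i to the class of T_i + U_i for every i (so d^n F(T) goes to the class of F(T + U)). -/
theorem result (n : ℕ) (A : Type u) [CommRing A] (σ : Type u) :
    ∃ e : PP16.P n A (MvPolynomial σ A) ≃ₐ[MvPolynomial σ A]
        (MvPolynomial σ (MvPolynomial σ A) ⧸
          Ideal.span (Set.range (MvPolynomial.X : σ → MvPolynomial σ (MvPolynomial σ A))) ^ (n + 1)),
      ∀ i : σ, e (PP16.dn n A (MvPolynomial σ A) (MvPolynomial.X i)) =
        Ideal.Quotient.mk _ (MvPolynomial.C (MvPolynomial.X i : MvPolynomial σ A) +
          (MvPolynomial.X i : MvPolynomial σ (MvPolynomial σ A))) := by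
  let b := KaehlerDifferential.mvPolynomialBasis A σ
  have hb : ∀ i, b i = KaehlerDifferential.D A (MvPolynomial σ A) (MvPolynomial.X i) := fun i => by
    apply b.repr.injective
    rw [Module.Basis.repr_self, KaehlerDifferential.mvPolynomialBasis_repr_D_X]
  exact Groth.Agent.Diff.Truncated.exists_algEquiv n A (MvPolynomial σ A) MvPolynomial.X
    (Groth.Agent.Diff.Monomial.gen_of_basis b hb)
    (Groth.Agent.Diff.SmoothIndep.indep_of_formallySmooth b hb)

end Groth.Agent.S3812
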