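-- Proof of S3816.
import Mathlib.RingTheory.Kaehler.Basic
import Mathlib.RingTheory.TensorProduct.Basic
import Groth.Prelude.Def_PP16
import Groth.Prelude.Def_DiffOp
import Mathlib.Algebra.BigOperators.Group.Finset.Basic
import Mathlib.LinearAlgebra.Basis.Defs
import Mathlib.Data.Nat.Choose.Basic
import Groth.Agent.Diff.Sym

set_option autoImplicit false
universe u
open scoped TensorProduct
open scoped BigOperators
open PP16

namespace Groth.Agent.S3816

open Groth.Agent.Diff.Basic Groth.Agent.Diff.Monomial Groth.Agent.Diff.Sym MvPolynomial in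
theorem linearIndependent_of_indep {A B : Type u} [CommRing A] [CommRing B] [Algebra A B]
    {ι : Type} {z : ι → B} (hi : Indep A z) :
    LinearIndependent B (fun i => KaehlerDifferential.D A B (z i)) := by
  classical
  rw [linearIndependent_iff]
  intro c hc
  have h := (KaehlerDifferential.ideal A B).toCotangent_eq_zero ⟨_, theta_lin_mem (z := z) c⟩
  rw [toCotangent_theta_lin] at h
  have h2 := hi 1 (lin c) (h.mp hc)
  ext i
  have h3 := (mem_pow_idealOfVars_iff' 2 (lin c)).mp h2 (Finsupp.single i 1) (by simp)
  simpa [lin, Finsupp.linearCombination_apply, Finsupp.sum, coeff_sum, coeff_smul, coeff_X',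
    Finsupp.single_left_inj] using h3

/-- a) iff b) (affine form, finite family): let B be an A-algebra and z_1, …, z_r elements of B whose
differentials generate the module of differentials of B over A. The following are equivalent: (a) B
is differentially smooth over A and (dz_i) is a basis of the module of differentials; (b) there is a
family (D_p), indexed by multi-indices p, of differential operators B → B (each of some finite
order) with D_p(z^q) = (∏ binom(q_i, p_i)) z^(q-p) for all p, q. -/
theorem result (A B : Type u) [CommRing A] [CommRing B]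
    [Algebra A B] (ι : Type) [Fintype ι] [DecidableEq ι] (z : ι → B)
    (hz : Submodule.span B (Set.range fun i => KaehlerDifferential.D A B (z i)) = ⊤) :
    (PP16.IsDiffSmooth A B ∧
        ∃ b : Module.Basis ι B (KaehlerDifferential A B), ∀ i, b i = KaehlerDifferential.D A B (z i)) ↔
      ∃ Dp : (ι → ℕ) → (B →ₗ[A] B),
        (∀ p, ∃ k : ℕ, Diff16.IsDiffOpLE A B B B k (Dp p)) ∧
        ∀ p q : ι → ℕ, Dp p (∏ i, z i ^ q i) =
          ((∏ i, Nat.choose (q i) (p i) : ℕ) : B) * ∏ i, z i ^ (q i - p i) := by
  constructor
  · rintro ⟨hB, b, hb⟩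
    have hg := Groth.Agent.Diff.Monomial.gen_of_basis b hb
    have hi := Groth.Agent.Diff.Sym.indep_of_isDiffSmooth b hb hB
    exact ⟨Groth.Agent.Diff.Monomial.dpOp hg hi,
      fun p => ⟨_, Groth.Agent.Diff.Monomial.isDiffOpLE_dpOp hg hi p⟩,
      fun p => Groth.Agent.Diff.Monomial.values_dpOp hg hi p⟩
  · rintro ⟨Dp, hD, hv⟩
    have hi := Groth.Agent.Diff.Monomial.indep_of_values hz Dp hD hv
    let b := Module.Basis.mk (linearIndependent_of_indep hi) (le_of_eq hz.symm)
    have hb : ∀ i, b i = KaehlerDifferential.D A B (z i) := fun i => Module.Basis.mk_apply _ _ i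
    exact ⟨Groth.Agent.Diff.Sym.isDiffSmooth_of_indep b hb hi, b, hb⟩

end Groth.Agent.S3816
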