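-- Proof of S3817.
import Mathlib.RingTheory.Kaehler.Basic
import Mathlib.RingTheory.TensorProduct.Basic
import Groth.Prelude.Def_PP16
import Groth.Prelude.Def_DiffOp
import Mathlib.Algebra.BigOperators.Group.Finset.Basic
import Mathlib.LinearAlgebra.Basis.Defs
import Mathlib.Data.Nat.Choose.Basic
import Groth.Agent.Diff.Sym

set_option autoImplicit false
universe u
open scoped TensorProduct
open scoped BigOperators
open PP16

namespace Groth.Agent.S3817

/-- (Affine form, finite family.) Let B be an A-algebra which is differentially smooth over A and (z_i)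
a finite family of elements of B whose differentials form a basis of the module of differentials
Ω_{B/A}. Then for every m the monomials ζ^p with |p| ≤ m in the elements ζ_i = d^m z_i - z_i form a
basis of the B-module P^m_{B/A} (first-factor structure); in particular the P^m are free of finite
rank. -/
theorem result (A B : Type u) [CommRing A] [CommRing B] [Algebra A B]
    (hB : PP16.IsDiffSmooth A B) (ι : Type) [Fintype ι] [DecidableEq ι] (z : ι → B)
    (hz : ∃ b : Module.Basis ι B (KaehlerDifferential A B), ∀ i, b i = KaehlerDifferential.D A B (z i)) (m : ℕ) :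
    ∃ b : Module.Basis {p : ι → ℕ // ∑ i, p i ≤ m} B (PP16.P m A B),
      ∀ p, b p = ∏ i, (PP16.dn m A B (z i) - algebraMap B (PP16.P m A B) (z i)) ^ (p.1 i) := by
  obtain ⟨b, hb⟩ := hz
  have hg := Groth.Agent.Diff.Monomial.gen_of_basis b hb
  have hi := Groth.Agent.Diff.Sym.indep_of_isDiffSmooth b hb hB
  let v : {p : ι → ℕ // ∑ i, p i ≤ m} → PP16.P m A B := fun p =>
    ∏ i, (PP16.dn m A B (z i) - algebraMap B (PP16.P m A B) (z i)) ^ (p.1 i)
  let g : MvPolynomial ι B →ₐ[B] PP16.P m A B :=
    (Ideal.Quotient.mkₐ B ((KaehlerDifferential.ideal A B) ^ (m + 1))).comp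
      (Groth.Agent.Diff.Monomial.theta A z)
  have hX : ∀ i, g (MvPolynomial.X i) =
      PP16.dn m A B (z i) - algebraMap B (PP16.P m A B) (z i) := by
    intro i
    show Ideal.Quotient.mk ((KaehlerDifferential.ideal A B) ^ (m + 1))
      (Groth.Agent.Diff.Monomial.theta A z (MvPolynomial.X i)) = _
    simp [Groth.Agent.Diff.Monomial.theta, Groth.Agent.Diff.Basic.delta, PP16.dn]
    rfl
  have hv : ∀ p, v p = g (MvPolynomial.monomial (Groth.Agent.Diff.Monomial.mi p.1) 1) := by
    intro p
    rw [MvPolynomial.monomial_eq, MvPolynomial.C_1, one_mul,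
      Finsupp.prod_fintype _ _ (fun i => pow_zero _), map_prod]
    simp only [map_pow, hX, Groth.Agent.Diff.Monomial.mi_apply, v]
  have hli : LinearIndependent B v := by
    rw [linearIndependent_iff']
    intro S c hc p hp
    have hmem : Groth.Agent.Diff.Monomial.theta A z
        (∑ q ∈ S, MvPolynomial.monomial (Groth.Agent.Diff.Monomial.mi q.1) (c q)) ∈
        KaehlerDifferential.ideal A B ^ (m + 1) := by
      rw [← Ideal.Quotient.eq_zero_iff_mem]
      refine Eq.trans ?_ hc
      show g _ = _
      rw [map_sum]
      refine Finset.sum_congr rfl fun q _ => ?_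
      rw [hv, ← map_smul, MvPolynomial.smul_monomial, smul_eq_mul, mul_one]
    have h0 := Groth.Agent.Diff.Monomial.coeff_eq_zero_of_mem (hi m _ hmem)
      (p := p.1) (Nat.lt_succ_of_le p.2)
    rw [MvPolynomial.coeff_sum, Finset.sum_eq_single p] at h0
    · simpa using h0
    · intro q _ hq
      rw [MvPolynomial.coeff_monomial, if_neg]
      intro he
      exact hq (Subtype.ext (funext fun i => by simpa using DFunLike.congr_fun he i))
    · exact fun h => absurd hp h
  have hspan : ⊤ ≤ Submodule.span B (Set.range v) := by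
    intro x _
    obtain ⟨y, rfl⟩ := Ideal.Quotient.mk_surjective x
    obtain ⟨P, -, hP⟩ := Groth.Agent.Diff.Monomial.exists_sub_mem hg 0 y (by simp) (m + 1)
    rw [Ideal.Quotient.eq.mpr hP]
    show g P ∈ _
    rw [P.as_sum, map_sum]
    refine Submodule.sum_mem _ fun x _ => ?_
    by_cases hx : x.degree ≤ m
    · have hsum : ∑ i, x i ≤ m := by rwa [← Finsupp.degree_eq_sum]
      have := Submodule.smul_mem (Submodule.span B (Set.range v)) (MvPolynomial.coeff x P)
        (Submodule.subset_span ⟨⟨fun i => x i, hsum⟩, rfl⟩)
      rwa [hv, ← map_smul, MvPolynomial.smul_monomial, smul_eq_mul, mul_one,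
        Groth.Agent.Diff.Monomial.mi_coe] at this
    · have : g (MvPolynomial.monomial x (MvPolynomial.coeff x P)) = 0 := by
        show Ideal.Quotient.mk ((KaehlerDifferential.ideal A B) ^ (m + 1)) _ = 0
        rw [Ideal.Quotient.eq_zero_iff_mem]
        refine Groth.Agent.Diff.Monomial.theta_mem_pow ?_
        rw [MvPolynomial.mem_pow_idealOfVars_iff']
        intro y hy
        classical
        rw [MvPolynomial.coeff_monomial, if_neg]
        rintro rfl
        omega
      rw [this]
      exact zero_mem _
  exact ⟨Module.Basis.mk hli hspan, fun p => Module.Basis.mk_apply _ _ p⟩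

end Groth.Agent.S3817
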