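-- Proof of S3818.
import Mathlib.RingTheory.Kaehler.Basic
import Mathlib.RingTheory.TensorProduct.Basic
import Groth.Prelude.Def_PP16
import Groth.Prelude.Def_DiffOp
import Mathlib.Algebra.BigOperators.Group.Finset.Basic
import Mathlib.LinearAlgebra.Basis.Defs
import Mathlib.Data.Nat.Choose.Basic
import Mathlib.Data.Finsupp.Basic
import Groth.Agent.Diff.SmoothIndep

set_option autoImplicit false
universe u
open scoped TensorProduct
open scoped BigOperators
open PP16

namespace Groth.Agent.S3818

/-- Last assertion (affine form, finite family): let B be an A-algebra, z_1, …, z_r elements of B whose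
differentials generate the module of differentials, and (D_p) a family of differential operators B →
B (each of some finite order) with D_p(z^q) = (∏ binom(q_i, p_i)) z^(q-p). Then D_p has order at
most |p|, and every differential operator B → B of order at most m relative to A can be written in
exactly one way as a B-linear combination ∑_{|p| ≤ m} a_p D_p. -/
theorem result (A B : Type u) [CommRing A] [CommRing B] [Algebra A B]
    (ι : Type) [Fintype ι] [DecidableEq ι] (z : ι → B)
    (hz : Submodule.span B (Set.range fun i => KaehlerDifferential.D A B (z i)) = ⊤)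
    (Dp : (ι → ℕ) → (B →ₗ[A] B)) (hD : ∀ p, ∃ k : ℕ, Diff16.IsDiffOpLE A B B B k (Dp p))
    (hDz : ∀ p q : ι → ℕ, Dp p (∏ i, z i ^ q i) =
        ((∏ i, Nat.choose (q i) (p i) : ℕ) : B) * ∏ i, z i ^ (q i - p i)) :
    (∀ p, Diff16.IsDiffOpLE A B B B (∑ i, p i) (Dp p)) ∧
      ∀ (m : ℕ) (D : B →ₗ[A] B), Diff16.IsDiffOpLE A B B B m D →
        ∃! a : {p : ι → ℕ // ∑ i, p i ≤ m} →₀ B, D = a.sum fun p c => c • Dp p.1 := by
  have hg : Groth.Agent.Diff.Monomial.Gen A z := hz
  have hv : ∀ p, Groth.Agent.Diff.Monomial.Values z p (Dp p) := fun p q => hDz p q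
  have hord : ∀ p, Diff16.IsDiffOpLE A B B B (∑ i, p i) (Dp p) := fun p => by
    obtain ⟨k, hk⟩ := hD p
    exact Groth.Agent.Diff.Monomial.isDiffOpLE_of_values hg (hv p) hk
  refine ⟨hord, fun m D hDm => ?_⟩
  classical
  let S := {p : ι → ℕ // ∑ i, p i ≤ m}
  -- the functional attached to an operator
  have key : ∀ (a : S →₀ B) (s : ι → ℕ),
      Diff16.linearize A B B B (a.sum fun p c => c • Dp p.1)
        (Groth.Agent.Diff.Monomial.theta A z
          (MvPolynomial.monomial (Groth.Agent.Diff.Monomial.mi s) (1 : B))) =
        if h : ∑ i, s i ≤ m then a ⟨s, h⟩ else 0 := by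
    intro a s
    rw [Groth.Agent.Diff.Basic.linearize_eq, Finsupp.sum, map_sum, LinearMap.sum_apply]
    have hterm : ∀ p : S, Groth.Agent.Diff.Basic.act
        (Groth.Agent.Diff.Monomial.theta A z
          (MvPolynomial.monomial (Groth.Agent.Diff.Monomial.mi s) (1 : B))) (a p • Dp p.1) 1 =
        if s = p.1 then a p else 0 := by
      intro p
      have e : a p • Dp p.1 = Groth.Agent.Diff.Basic.act ((a p) ⊗ₜ[A] (1 : B)) (Dp p.1) := by
        ext x; simp
      rw [e, ← Groth.Agent.Diff.Basic.act_mul, mul_comm, Groth.Agent.Diff.Basic.act_mul,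
        Groth.Agent.Diff.Basic.act_tmul, one_smul, ← Groth.Agent.Diff.Basic.linearize_eq,
        Groth.Agent.Diff.Monomial.linearize_theta_of_values (hv p.1), smul_eq_mul]
      have hinj : Groth.Agent.Diff.Monomial.mi s = Groth.Agent.Diff.Monomial.mi p.1 ↔ s = p.1 := by
        simp [Groth.Agent.Diff.Monomial.mi]
      simp [MvPolynomial.coeff_monomial, hinj]
    rw [Finset.sum_congr rfl fun p _ => hterm p]
    split_ifs with h
    · rw [Finset.sum_eq_single (⟨s, h⟩ : S)]
      · simp
      · intro p _ hp
        rw [if_neg]
        rintro rfl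
        exact hp rfl
      · intro hn
        simp [Finsupp.notMem_support_iff.mp hn]
    · refine Finset.sum_eq_zero fun p _ => ?_
      rw [if_neg]
      rintro rfl
      exact h p.2
  have hfin : Finite S := by
    refine Finite.of_injective (fun p : S => fun i => (⟨p.1 i, Nat.lt_succ_of_le
      ((Finset.single_le_sum (fun j _ => Nat.zero_le (p.1 j)) (Finset.mem_univ i)).trans p.2)⟩ :
        Fin (m + 1))) fun p p' h => ?_
    exact Subtype.ext (funext fun i => congrArg Fin.val (congrFun h i))
  let a : S →₀ B := Finsupp.equivFunOnFinite.symm fun p =>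
    Diff16.linearize A B B B D (Groth.Agent.Diff.Monomial.theta A z
      (MvPolynomial.monomial (Groth.Agent.Diff.Monomial.mi p.1) (1 : B)))
  have hsum : ∀ a : S →₀ B, Diff16.IsDiffOpLE A B B B m (a.sum fun p c => c • Dp p.1) := by
    intro a
    induction a using Finsupp.induction_linear with
    | zero => simpa using Groth.Agent.Diff.Basic.isDiffOpLE_zero_map m
    | add a a' ha ha' =>
      rw [Finsupp.sum_add_index' (fun _ => by simp) (fun _ _ _ => by rw [add_smul])]
      exact Groth.Agent.Diff.Basic.isDiffOpLE_add ha ha'
    | single p c =>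
      rw [Finsupp.sum_single_index (by simp)]
      exact Groth.Agent.Diff.Basic.isDiffOpLE_smul c
        (Groth.Agent.Diff.Basic.isDiffOpLE_mono p.2 (hord p.1))
  refine ⟨a, ?_, fun a' ha' => ?_⟩
  · refine Groth.Agent.Diff.Monomial.ext_of_gen hg D _ hDm (hsum a) fun q => ?_
    -- both linearisations agree on all polynomials
    have hall : ∀ P : MvPolynomial ι B,
        Diff16.linearize A B B B D (Groth.Agent.Diff.Monomial.theta A z P) =
          Diff16.linearize A B B B (a.sum fun p c => c • Dp p.1)
            (Groth.Agent.Diff.Monomial.theta A z P) := by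
      intro P
      induction P using MvPolynomial.induction_on' with
      | add P Q hP hQ => simp only [map_add, hP, hQ]
      | monomial x c =>
        have hc : MvPolynomial.monomial x c = c • MvPolynomial.monomial x (1 : B) := by
          rw [MvPolynomial.smul_monomial, smul_eq_mul, mul_one]
        rw [hc, map_smul, Groth.Agent.Diff.Monomial.linearize_smul,
          Groth.Agent.Diff.Monomial.linearize_smul]
        congr 1
        rw [← Groth.Agent.Diff.Monomial.mi_coe x, key a (fun i => x i)]
        split_ifs with h
        · simp [a]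
        · refine (Groth.Agent.Diff.Basic.isDiffOpLE_iff_linearize m D).mp hDm _ ?_
          refine Groth.Agent.Diff.Monomial.theta_mem_pow ?_
          rw [MvPolynomial.mem_pow_idealOfVars_iff']
          intro y hy
          rw [MvPolynomial.coeff_monomial, if_neg]
          rintro rfl
          rw [Groth.Agent.Diff.Monomial.degree_mi] at hy
          omega
    have := hall (Groth.Agent.Diff.Monomial.shift z (MvPolynomial.monomial q (1 : B)))
    rwa [Groth.Agent.Diff.Monomial.theta_shift_monomial, Groth.Agent.Diff.Basic.linearize_tmul,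
      Groth.Agent.Diff.Basic.linearize_tmul, one_smul, one_smul] at this
  · ext p
    have h1 := key a' p.1
    rw [dif_pos p.2, ← ha'] at h1
    rw [← h1]
    simp [a]

end Groth.Agent.S3818
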