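-- Proof of S3820.
import Mathlib.RingTheory.Kaehler.Basic
import Mathlib.RingTheory.TensorProduct.Basic
import Groth.Prelude.Def_PP16
import Mathlib.RingTheory.Smooth.Basic
import Groth.Agent.Diff.SmoothSec

set_option autoImplicit false
universe u
open scoped TensorProduct
open PP16

namespace Groth.Agent.S3820

/-- Let B be an A-algebra which is formally smooth (for the discrete topologies). Then Spec B is
differentially smooth over Spec A: the module of differentials is projective and the canonical
surjections Sym^n(Ω_{B/A}) → I^n/I^(n+1) are bijective for all n. -/
theorem result (A B : Type u) [CommRing A] [CommRing B] [Algebra A B]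
    [Algebra.FormallySmooth A B] : PP16.IsDiffSmooth A B := by
  haveI : Module.Projective B (KaehlerDifferential A B) := inferInstance
  have hsurj : Function.Surjective
      (Finsupp.linearCombination B (fun i : B => KaehlerDifferential.D A B i)) := by
    intro x
    have hx : x ∈ Submodule.span B (Set.range (KaehlerDifferential.D A B)) := by
      rw [KaehlerDifferential.span_range_derivation]; trivial
    rw [Finsupp.mem_span_range_iff_exists_finsupp] at hx
    obtain ⟨c, hc⟩ := hx
    exact ⟨c, by rw [Finsupp.linearCombination_apply]; exact hc⟩
  obtain ⟨s, hs⟩ := Module.projective_lifting_property _ LinearMap.id hsurj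
  exact Groth.Agent.Diff.SmoothSec.isDiffSmooth_of_formallySmooth (z := fun b : B => b) s
    fun m => LinearMap.congr_fun hs m

end Groth.Agent.S3820
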