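import Groth.Statements.S3845
import Mathlib.AlgebraicGeometry.Morphisms.FormallyUnramified
-- import your own Groth.Agent.* helpers here

set_option autoImplicit false
open CategoryTheory.Limits
universe u
open CategoryTheory CategoryTheory.Limits AlgebraicGeometry TopologicalSpace
open Unram17

namespace Groth.Agent.S3845

/-- a) iff b): let f : X → Y be locally of finite presentation and x a point of X. Then f is unramified
on some open neighbourhood of x if and only if the diagonal X → X ×_Y X is a local isomorphism at x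
(its restriction to some open neighbourhood of x is an open immersion). -/
theorem result {X Y : Scheme.{u}} (f : X ⟶ Y)
    [LocallyOfFinitePresentation f] (x : ↥X) :
    (∃ U : X.Opens, x ∈ U ∧ FormallyUnramified (U.ι ≫ f)) ↔
      SchLoc.IsLocalIsoAt (pullback.diagonal f) x := by
  have key : ∀ U : X.Opens, pullback.diagonal (U.ι ≫ f) ≫
      pullback.map (U.ι ≫ f) (U.ι ≫ f) f f U.ι U.ι (𝟙 _) (by simp) (by simp) =
      U.ι ≫ pullback.diagonal f := fun U => by
    have e₁ : pullback.map (U.ι ≫ f) (U.ι ≫ f) f f U.ι U.ι (𝟙 _) (Category.comp_id _) (Category.comp_id _) ≫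
        pullback.fst f f = pullback.fst (U.ι ≫ f) (U.ι ≫ f) ≫ U.ι := pullback.lift_fst _ _ _
    have e₂ : pullback.map (U.ι ≫ f) (U.ι ≫ f) f f U.ι U.ι (𝟙 _) (Category.comp_id _) (Category.comp_id _) ≫
        pullback.snd f f = pullback.snd (U.ι ≫ f) (U.ι ≫ f) ≫ U.ι := pullback.lift_snd _ _ _
    apply pullback.hom_ext
    · refine (Category.assoc _ _ _).trans ((congrArg _ e₁).trans ?_)
      rw [pullback.diagonal_fst_assoc, Category.assoc, pullback.diagonal_fst, Category.comp_id]
    · refine (Category.assoc _ _ _).trans ((congrArg _ e₂).trans ?_)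
      rw [pullback.diagonal_snd_assoc, Category.assoc, pullback.diagonal_snd, Category.comp_id]
  constructor
  · rintro ⟨U, hxU, hU⟩
    refine ⟨U, hxU, ?_⟩
    rw [← key U]
    infer_instance
  · rintro ⟨U, hxU, hU⟩
    refine ⟨U, hxU, ?_⟩
    have : IsOpenImmersion (pullback.diagonal (U.ι ≫ f)) := by
      rw [← key U] at hU
      exact IsOpenImmersion.of_comp _ (pullback.map (U.ι ≫ f) (U.ι ≫ f) f f U.ι U.ι (𝟙 _) (Category.comp_id _) (Category.comp_id _))
    infer_instance

end Groth.Agent.S3845
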