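import Groth.Statements.S3848
import Groth.Agent.Lead.NormalExt.Scheme

set_option autoImplicit false
universe u
open CategoryTheory CategoryTheory.Limits AlgebraicGeometry TopologicalSpace
open Rat20

namespace Groth.Agent.S3848

/-- In the case S = X (valuative criterion for a rational map to be defined at a point): let X be a
locally Noetherian scheme, q : Y → X a morphism locally of finite type, U a dense open subset of X,
h : U → Y a section of q over U, x a point of X outside U whose local ring is an integrally closed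
domain, and y₀ a point of Y over x with trivial residue field extension (an X-morphism Spec k(x) →
Y). Then h extends to a section h' of q over an open subset U' containing U and x with h'(x) = y₀ if
and only if: for every discrete valuation ring R and every morphism u : Spec R → X sending the
closed point to x and the generic point into U, there is a morphism h₁ : Spec R → Y over X sending
the closed point to y₀ and agreeing with h at the generic point. -/
theorem result {X Y : Scheme.{u}} [IsLocallyNoetherian X] (q : Y ⟶ X)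
    [LocallyOfFiniteType q] (U : X.Opens) (hU : Dense (U : Set ↥X)) (h : (U : Scheme.{u}) ⟶ Y)
    (hh : h ≫ q = U.ι) (x : ↥X) (hxU : x ∉ U) [IsDomain ↑(X.presheaf.stalk x)]
    (hx : IsIntegrallyClosed ↑(X.presheaf.stalk x)) (y₀ : ↥Y) (hy₀ : q y₀ = x)
    (hk : Function.Bijective (q.residueFieldMap y₀)) :
    (∃ (U' : X.Opens) (hUU' : U ≤ U') (hxU' : x ∈ U') (h' : (U' : Scheme.{u}) ⟶ Y),
        h' ≫ q = U'.ι ∧ X.homOfLE hUU' ≫ h' = h ∧ h' ⟨x, hxU'⟩ = y₀) ↔
      ∀ (R : Type u) [CommRing R] [IsDomain R] [IsDiscreteValuationRing R]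
        (u : Spec (CommRingCat.of R) ⟶ X), u (IsLocalRing.closedPoint R) = x →
        ∀ ub : Spec (CommRingCat.of (FractionRing R)) ⟶ (U : Scheme.{u}),
          ub ≫ U.ι = Spec.map (CommRingCat.ofHom (algebraMap R (FractionRing R))) ≫ u →
          ∃ h₁ : Spec (CommRingCat.of R) ⟶ Y, h₁ ≫ q = u ∧ h₁ (IsLocalRing.closedPoint R) = y₀ ∧
            Spec.map (CommRingCat.ofHom (algebraMap R (FractionRing R))) ≫ h₁ = ub ≫ h := by
  classical
  haveI := hx
  constructor
  · rintro ⟨U', hUU', hxU', h', h'q, h'h, h'x⟩ R _ _ _ u hu ub hub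
    have hr : Set.range u ⊆ Set.range U'.ι := by
      rintro _ ⟨t, rfl⟩
      rw [Scheme.Opens.range_ι]
      exact LeadNormalExt.mem_of_closedPoint u U' (by rw [show u (IsLocalRing.closedPoint _) = x from hu]; exact hxU') t
    refine ⟨IsOpenImmersion.lift U'.ι u hr ≫ h', by rw [Category.assoc, h'q, IsOpenImmersion.lift_fac], ?_, ?_⟩
    · rw [Scheme.Hom.comp_apply, ← h'x]
      congr 1
      apply U'.ι.isOpenEmbedding.injective
      rw [← Scheme.Hom.comp_apply, IsOpenImmersion.lift_fac, hu]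
      rfl
    · rw [← h'h, ← Category.assoc, ← Category.assoc]
      congr 1
      rw [← cancel_mono U'.ι, Category.assoc, IsOpenImmersion.lift_fac, Category.assoc, Scheme.homOfLE_ι, hub]
  intro hcond
  obtain ⟨W, hW, hxW⟩ : ∃ W : X.Opens, IsAffineOpen W ∧ x ∈ W := by
    obtain ⟨_, ⟨W, hW, rfl⟩, hxW, -⟩ := X.isBasis_affineOpens.exists_subset_of_mem_open (Set.mem_univ x) isOpen_univ
    exact ⟨W, hW, hxW⟩
  obtain ⟨V, hV, hyV, e⟩ : ∃ V : Y.Opens, IsAffineOpen V ∧ y₀ ∈ V ∧ V ≤ q ⁻¹ᵁ W := by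
    obtain ⟨_, ⟨V, hV, rfl⟩, hyV, e⟩ := Y.isBasis_affineOpens.exists_subset_of_mem_open
      (show y₀ ∈ q ⁻¹ᵁ W by show q y₀ ∈ W; rw [hy₀]; exact hxW) (q ⁻¹ᵁ W).2
    exact ⟨V, hV, hyV, e⟩
  obtain ⟨gK, hgK⟩ := LeadNormalExt.exists_gK (x := x) hU
  -- the test along a local map to a DVR
  have test : ∀ (R : Type u) [CommRing R] [IsDomain R] [IsDiscreteValuationRing R]
      (ψ : X.presheaf.stalk x →+* R) [IsLocalHom ψ],
      X.fromSpecStalk x (⟨RingHom.ker ψ, RingHom.ker_isPrime ψ⟩ : PrimeSpectrum (X.presheaf.stalk x)) ∈ U →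
      ∃ (χR : Γ(Y, V) ⟶ CommRingCat.of R) (ub : Spec (CommRingCat.of (FractionRing R)) ⟶ (U : Scheme.{u})),
        ub ≫ U.ι = Spec.map (CommRingCat.ofHom (algebraMap R (FractionRing R))) ≫
          Spec.map (CommRingCat.ofHom ψ) ≫ X.fromSpecStalk x ∧
        (∀ t, U.ι (ub t) = X.fromSpecStalk x
          (⟨RingHom.ker ψ, RingHom.ker_isPrime ψ⟩ : PrimeSpectrum (X.presheaf.stalk x))) ∧
        (Spec.map χR ≫ hV.fromSpec) (IsLocalRing.closedPoint R) = y₀ ∧
        (∀ t, (ub ≫ h) t ∈ V) ∧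
        Spec.map (χR ≫ CommRingCat.ofHom (algebraMap R (FractionRing R))) ≫ hV.fromSpec = ub ≫ h := by
    intro R _ _ _ ψ _ hker
    obtain ⟨hc, ub, hub, hubpt⟩ := LeadNormalExt.exists_ub (U := U) ψ hker
    obtain ⟨h₁, -, h1c, h1g⟩ := hcond R _ hc ub hub
    obtain ⟨χR, hχR⟩ := LeadNormalExt.exists_factor h₁ hV
      (by rw [show h₁ (IsLocalRing.closedPoint _) = y₀ from h1c]; exact hyV)
    refine ⟨χR, ub, hub, hubpt, by rw [hχR]; exact h1c, fun t => ?_,
      by rw [Spec.map_comp, Category.assoc, hχR, h1g]⟩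
    rw [← h1g, Scheme.Hom.comp_apply]
    exact LeadNormalExt.mem_of_closedPoint h₁ V (by rw [show h₁ (IsLocalRing.closedPoint _) = y₀ from h1c]; exact hyV) _
  -- a first DVR
  obtain ⟨R₀, _, _, _, φ₀, hφ₀, hφ₀loc⟩ :=
    Flat.DominateDvr.exists_dvr_dominating (X.presheaf.stalk x) (LeadNormalExt.not_isField x hU hxU)
  haveI := hφ₀loc
  have hgenU : ∀ {R : Type u} [CommRing R] [IsDomain R] (ψ : X.presheaf.stalk x →+* R), Function.Injective ψ →
      X.fromSpecStalk x (⟨RingHom.ker ψ, RingHom.ker_isPrime ψ⟩ : PrimeSpectrum (X.presheaf.stalk x)) ∈ U :=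
    fun ψ hψ => by rw [LeadNormalExt.ker_eq_bot_point ψ hψ]; exact LeadNormalExt.gen_mem x hU
  obtain ⟨χ₀, ub₀, hub₀, hub₀pt, hc₀, hmem₀, hg₀⟩ := test R₀ φ₀ (hgenU φ₀ hφ₀)
  obtain ⟨χ, hχ⟩ := LeadNormalExt.exists_factor (gK ≫ h) hV (by
    have e1 : gK (IsLocalRing.closedPoint (FractionRing (X.presheaf.stalk x))) =
        ub₀ (IsLocalRing.closedPoint (FractionRing R₀)) := by
      apply U.ι.isOpenEmbedding.injective
      rw [← Scheme.Hom.comp_apply, hgK, LeadNormalExt.jK_apply, hub₀pt, LeadNormalExt.ker_eq_bot_point φ₀ hφ₀]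
    rw [Scheme.Hom.comp_apply, e1, ← Scheme.Hom.comp_apply]
    exact hmem₀ _)
  have hχq : Spec.map χ ≫ hV.fromSpec ≫ q = LeadNormalExt.jK x := by
    rw [← Category.assoc, hχ, Category.assoc, hh, hgK]
  -- compatibility at DVRs dominating the stalk
  have hcompat : ∀ (R : Type u) [CommRing R] [IsDomain R] (φ : X.presheaf.stalk x →+* R)
      (ι : FractionRing (X.presheaf.stalk x) →+* FractionRing R),
      (∀ a, ι (algebraMap _ _ a) = algebraMap R _ (φ a)) →
      ∀ (χR : Γ(Y, V) ⟶ CommRingCat.of R) (ub : Spec (CommRingCat.of (FractionRing R)) ⟶ (U : Scheme.{u})),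
      ub ≫ U.ι = Spec.map (CommRingCat.ofHom (algebraMap R (FractionRing R))) ≫
          Spec.map (CommRingCat.ofHom φ) ≫ X.fromSpecStalk x →
      Spec.map (χR ≫ CommRingCat.ofHom (algebraMap R (FractionRing R))) ≫ hV.fromSpec = ub ≫ h →
      ∀ c, algebraMap R (FractionRing R) (χR c) = ι (χ c) := by
    intro R _ _ φ ι hι χR ub hub hg c
    have hcomm : CommRingCat.ofHom (algebraMap _ (FractionRing (X.presheaf.stalk x))) ≫ CommRingCat.ofHom ι =
        CommRingCat.ofHom φ ≫ CommRingCat.ofHom (algebraMap R (FractionRing R)) := by ext a; exact hι a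
    have e1 : ub = Spec.map (CommRingCat.ofHom ι) ≫ gK := by
      rw [← cancel_mono U.ι, hub, Category.assoc, hgK, LeadNormalExt.jK, ← Category.assoc, ← Category.assoc,
        ← Spec.map_comp, ← Spec.map_comp, hcomm]
    have e2 : χR ≫ CommRingCat.ofHom (algebraMap R (FractionRing R)) = χ ≫ CommRingCat.ofHom ι := by
      apply Spec.map_injective
      rw [← cancel_mono hV.fromSpec, hg, e1, Spec.map_comp, Category.assoc, Category.assoc, hχ]
    exact congrArg (fun φ => φ.hom c) e2
  have hint : ∀ c, χ c ∈ Set.range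
      (algebraMap (X.presheaf.stalk x) (FractionRing (X.presheaf.stalk x))) := by
    intro c
    by_contra hc
    obtain ⟨R, _, _, _, φ, ι, hφ, hloc, hι, hnot⟩ := LeadNormalExt.exists_dvr_not_mem _ hc
    haveI := hloc
    obtain ⟨χR, ub, hub, -, -, -, hg⟩ := test R φ (hgenU φ hφ)
    exact hnot ⟨χR c, hcompat R φ ι hι χR ub hub hg c⟩
  obtain ⟨χA, hχA, hfq⟩ := LeadNormalExt.exists_stalk_section q hW hxW hV e χ hχq hint
  let f := Spec.map χA ≫ hV.fromSpec
  -- the closed point goes to `y₀`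
  let ι₀ : FractionRing (X.presheaf.stalk x) →+* FractionRing R₀ :=
    IsFractionRing.lift (g := (algebraMap R₀ (FractionRing R₀)).comp φ₀)
      ((IsFractionRing.injective R₀ _).comp hφ₀)
  have hι₀ : ∀ a, ι₀ (algebraMap _ _ a) = algebraMap R₀ _ (φ₀ a) := fun a => IsFractionRing.lift_algebraMap _ a
  have hfy : f (IsLocalRing.closedPoint (X.presheaf.stalk x)) = y₀ := by
    have e1 : χ₀ = χA ≫ CommRingCat.ofHom φ₀ := by
      ext c
      apply IsFractionRing.injective R₀ (FractionRing R₀)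
      rw [hcompat R₀ φ₀ ι₀ hι₀ χ₀ ub₀ hub₀ hg₀ c]
      show _ = algebraMap R₀ _ (φ₀ (χA c))
      rw [← hι₀, ← hχA]
      rfl
    rw [← hc₀, e1, Spec.map_comp, Category.assoc, Scheme.Hom.comp_apply]
    show f _ = f (Spec.map (CommRingCat.ofHom φ₀) (IsLocalRing.closedPoint R₀))
    congr 1
    exact (IsLocalRing.comap_closedPoint φ₀).symm
  obtain ⟨U', hUU', hxU', h', h'q, h'h, h'x⟩ :=
    LeadNormalExt.extend q h hh f (by rw [Category.assoc, hfq]) gK hgK
      (by rw [← Category.assoc, ← Spec.map_comp]; exact (congrArg (fun m => Spec.map m ≫ hV.fromSpec) hχA).trans hχ) (fun P hP => by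
        refine ⟨V, ?_, LeadNormalExt.mem_of_closedPoint f V (by rw [hfy]; exact hyV) P, ?_⟩
        · obtain ⟨P', rfl⟩ : ∃ P' : PrimeSpectrum (X.presheaf.stalk x), P' = P := ⟨P, rfl⟩
          have hPm : P' < IsLocalRing.closedPoint (X.presheaf.stalk x) := by
            refine lt_of_le_of_ne (IsLocalRing.le_maximalIdeal P'.isPrime.ne_top :
              P'.asIdeal ≤ (IsLocalRing.closedPoint (X.presheaf.stalk x)).asIdeal) ?_
            intro hP'
            subst hP'
            exact hxU (by rwa [Scheme.fromSpecStalk_closedPoint] at hP)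
          obtain ⟨R, _, _, _, φ, hker, hcm⟩ := Flat.DominateDvr.exists_dvr_of_lt _ P' _ hPm
          haveI : IsLocalHom φ := ((IsLocalRing.local_hom_TFAE φ).out 0 4).mpr hcm
          have hkP : (⟨RingHom.ker φ, RingHom.ker_isPrime φ⟩ : PrimeSpectrum (X.presheaf.stalk x)) = P' :=
            PrimeSpectrum.ext hker
          obtain ⟨χR, ub, -, hubpt, -, hmem, -⟩ := test R φ (by rw [hkP]; exact hP)
          have e1 : (⟨_, hP⟩ : (U : Scheme.{u})) = ub (IsLocalRing.closedPoint (FractionRing R)) := by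
            apply U.ι.isOpenEmbedding.injective
            rw [hubpt, hkP]
            rfl
          rw [e1, ← Scheme.Hom.comp_apply]
          exact hmem _
        · haveI : IsAffine (V : Scheme.{u}) := hV
          infer_instance)
  exact ⟨U', hUU', hxU', h', h'q, h'h, h'x.trans hfy⟩

end Groth.Agent.S3848
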