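import Groth.Statements.S3849
import Groth.Agent.Lead.NormalExt.Scheme

set_option autoImplicit false
universe u
open CategoryTheory CategoryTheory.Limits AlgebraicGeometry TopologicalSpace
open Rat20
open scoped TensorProduct

namespace Groth.Agent.S3849

/-- In the case S = X (sections of q : Y → X): let X be a locally Noetherian scheme, q : Y → X
separated, locally of finite type and locally quasi-finite, U a dense open subset of X, h : U → Y a
section of q over U, and x a point of X outside U whose local ring is an integrally closed domain.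
Then h extends to a section of q over an open subset containing U and x if and only if there exist a
discrete valuation ring R, a morphism u : Spec R → X sending the closed point to x and the generic
point into U, and a morphism Spec R → Y over X agreeing with h at the generic point. -/
theorem result {X Y : Scheme.{u}} [IsLocallyNoetherian X] (q : Y ⟶ X)
    [LocallyOfFiniteType q] [IsSeparated q] [LocallyQuasiFinite q] (U : X.Opens) (hU : Dense (U : Set ↥X))
    (h : (U : Scheme.{u}) ⟶ Y) (hh : h ≫ q = U.ι) (x : ↥X) (hxU : x ∉ U) [IsDomain ↑(X.presheaf.stalk x)]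
    (hx : IsIntegrallyClosed ↑(X.presheaf.stalk x)) :
    (∃ (U' : X.Opens) (hUU' : U ≤ U') (h' : (U' : Scheme.{u}) ⟶ Y),
        x ∈ U' ∧ h' ≫ q = U'.ι ∧ X.homOfLE hUU' ≫ h' = h) ↔
      ∃ (R : Type u) (_ : CommRing R) (_ : IsDomain R) (_ : IsDiscreteValuationRing R)
        (u : Spec (CommRingCat.of R) ⟶ X) (ub : Spec (CommRingCat.of (FractionRing R)) ⟶ (U : Scheme.{u}))
        (h₁ : Spec (CommRingCat.of R) ⟶ Y),
        u (IsLocalRing.closedPoint R) = x ∧
          ub ≫ U.ι = Spec.map (CommRingCat.ofHom (algebraMap R (FractionRing R))) ≫ u ∧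
          h₁ ≫ q = u ∧ Spec.map (CommRingCat.ofHom (algebraMap R (FractionRing R))) ≫ h₁ = ub ≫ h := by
  classical
  haveI := hx
  constructor
  · rintro ⟨U', hUU', h', hxU', h'q, h'h⟩
    obtain ⟨R, _, _, _, φ, hφ, hloc⟩ :=
      Flat.DominateDvr.exists_dvr_dominating (X.presheaf.stalk x) (LeadNormalExt.not_isField x hU hxU)
    haveI := hloc
    obtain ⟨hc, ub, hub, -⟩ := LeadNormalExt.exists_ub (U := U) φ
      (by rw [LeadNormalExt.ker_eq_bot_point φ hφ]; exact LeadNormalExt.gen_mem x hU)
    let u := Spec.map (CommRingCat.ofHom φ) ≫ X.fromSpecStalk x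
    have hr : Set.range u ⊆ Set.range U'.ι := by
      rintro _ ⟨t, rfl⟩
      rw [Scheme.Opens.range_ι]
      exact LeadNormalExt.mem_of_closedPoint u U' (by rw [show u (IsLocalRing.closedPoint _) = x from hc]; exact hxU') t
    refine ⟨R, inferInstance, inferInstance, inferInstance, u, ub, IsOpenImmersion.lift U'.ι u hr ≫ h', hc, hub,
      by rw [Category.assoc, h'q, IsOpenImmersion.lift_fac], ?_⟩
    rw [← h'h, ← Category.assoc, ← Category.assoc]
    congr 1
    rw [← cancel_mono U'.ι, Category.assoc, IsOpenImmersion.lift_fac, Category.assoc, Scheme.homOfLE_ι, hub]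
  rintro ⟨R, _, _, _, u, ub, h₁, huc, hub, h1q, h1g⟩
  subst huc
  generalize hxdef : u (IsLocalRing.closedPoint R) = x at *
  obtain ⟨ψ, hψloc, hψ⟩ : ∃ ψ : X.presheaf.stalk x →+* R, IsLocalHom ψ ∧
      Spec.map (CommRingCat.ofHom ψ) ≫ X.fromSpecStalk x = u := by
    subst hxdef
    exact ⟨(Scheme.stalkClosedPointTo u).hom, inferInstance, Scheme.Spec_stalkClosedPointTo_fromSpecStalk u⟩
  subst hψ
  haveI := hψloc
  obtain ⟨W, hW, hxW⟩ : ∃ W : X.Opens, IsAffineOpen W ∧ x ∈ W := by
    obtain ⟨_, ⟨W, hW, rfl⟩, hxW, -⟩ := X.isBasis_affineOpens.exists_subset_of_mem_open (Set.mem_univ x) isOpen_univ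
    exact ⟨W, hW, hxW⟩
  let y₀ := h₁ (IsLocalRing.closedPoint R)
  have hy : q y₀ = x := by
    show q (h₁ _) = x
    rw [← Scheme.Hom.comp_apply, h1q]
    exact hxdef
  obtain ⟨V, hV, hyV, e⟩ : ∃ V : Y.Opens, IsAffineOpen V ∧ y₀ ∈ V ∧ V ≤ q ⁻¹ᵁ W := by
    obtain ⟨_, ⟨V, hV, rfl⟩, hyV, e⟩ := Y.isBasis_affineOpens.exists_subset_of_mem_open
      (show y₀ ∈ q ⁻¹ᵁ W by show q y₀ ∈ W; rw [hy]; exact hxW) (q ⁻¹ᵁ W).2
    exact ⟨V, hV, hyV, e⟩
  obtain ⟨χR, hχR⟩ := LeadNormalExt.exists_factor h₁ hV hyV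
  -- the prime under the generic point of `R`
  haveI : (RingHom.ker ψ).IsPrime := RingHom.ker_isPrime ψ
  let P : PrimeSpectrum (X.presheaf.stalk x) := ⟨RingHom.ker ψ, inferInstance⟩
  let AP := Localization.AtPrime (RingHom.ker ψ)
  let K := FractionRing (X.presheaf.stalk x)
  have hP : ∀ t, (ub ≫ U.ι) t = X.fromSpecStalk x P := by
    intro t
    rw [hub, Scheme.Hom.comp_apply, Scheme.Hom.comp_apply]
    congr 1
    refine PrimeSpectrum.ext ?_
    show Ideal.comap ψ (Ideal.comap (algebraMap R _) (t : PrimeSpectrum (FractionRing R)).asIdeal) = RingHom.ker ψ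
    rw [Ideal.eq_bot_of_prime (t : PrimeSpectrum (FractionRing R)).asIdeal, ← RingHom.ker_eq_comap_bot,
      (RingHom.injective_iff_ker_eq_bot _).1 (IsFractionRing.injective R _), RingHom.ker_eq_comap_bot]
  let tR : Spec (CommRingCat.of (FractionRing R)) := IsLocalRing.closedPoint (FractionRing R)
  have hPU : X.fromSpecStalk x P ∈ U := by
    rw [← hP tR, Scheme.Hom.comp_apply]
    exact (ub tR).2
  let jP : Spec (CommRingCat.of AP) ⟶ X :=
    Spec.map (CommRingCat.ofHom (algebraMap (X.presheaf.stalk x) AP)) ≫ X.fromSpecStalk x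
  have hjPc : jP (IsLocalRing.closedPoint AP) = X.fromSpecStalk x P := by
    show X.fromSpecStalk x _ = _
    congr 1
    exact PrimeSpectrum.ext (IsLocalization.AtPrime.comap_maximalIdeal AP (RingHom.ker ψ))
  let gP := IsOpenImmersion.lift U.ι jP (by
    rintro _ ⟨t, rfl⟩
    rw [Scheme.Opens.range_ι]
    exact LeadNormalExt.mem_of_closedPoint jP U (by rw [show jP (IsLocalRing.closedPoint _) = _ from hjPc]; exact hPU) t)
  have hgP : gP ≫ U.ι = jP := IsOpenImmersion.lift_fac _ _ _
  obtain ⟨θ, hθ⟩ := LeadNormalExt.exists_factor (gP ≫ h) hV (by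
    have e1 : gP (IsLocalRing.closedPoint AP) = ub tR := by
      apply U.ι.isOpenEmbedding.injective
      rw [← Scheme.Hom.comp_apply, hgP, hjPc, ← Scheme.Hom.comp_apply, hP]
    rw [Scheme.Hom.comp_apply, e1, ← Scheme.Hom.comp_apply, ← h1g, Scheme.Hom.comp_apply]
    exact LeadNormalExt.mem_of_closedPoint h₁ V hyV _)
  -- to the two fraction fields
  let κ : AP →+* K := IsLocalization.lift (M := (RingHom.ker ψ).primeCompl)
    (g := algebraMap (X.presheaf.stalk x) K) (fun s => IsUnit.mk0 _
      ((map_ne_zero_iff _ (IsFractionRing.injective _ K)).2 fun h0 => s.2 (by rw [h0]; exact Ideal.zero_mem _)))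
  let σ : AP →+* FractionRing R := IsLocalization.lift (M := (RingHom.ker ψ).primeCompl)
    (g := (algebraMap R (FractionRing R)).comp ψ) (fun s => IsUnit.mk0 _
      ((map_ne_zero_iff _ (IsFractionRing.injective R (FractionRing R))).2 fun h0 => s.2 h0))
  have hκ : ∀ a, κ (algebraMap _ AP a) = algebraMap _ K a := fun a => IsLocalization.lift_eq _ a
  have hσ : ∀ a, σ (algebraMap _ AP a) = algebraMap R _ (ψ a) := fun a => IsLocalization.lift_eq _ a
  have hκinj : Function.Injective κ := by
    rw [RingHom.injective_iff_ker_eq_bot, eq_bot_iff]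
    intro z hz
    obtain ⟨⟨a, s⟩, rfl⟩ := IsLocalization.mk'_surjective (RingHom.ker ψ).primeCompl z
    rw [RingHom.mem_ker, IsLocalization.lift_mk'] at hz
    simp only [Units.mul_left_eq_zero] at hz
    simp only [Ideal.mem_bot, (map_eq_zero_iff _ (IsFractionRing.injective _ K)).1 hz, IsLocalization.mk'_zero]
  let gK := Spec.map (CommRingCat.ofHom κ) ≫ gP
  have hgK : gK ≫ U.ι = LeadNormalExt.jK x := by
    rw [Category.assoc, hgP, ← Category.assoc, ← Spec.map_comp, LeadNormalExt.jK]
    congr 2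
    ext a; exact hκ a
  let χ : Γ(Y, V) ⟶ CommRingCat.of K := θ ≫ CommRingCat.ofHom κ
  have hχ : Spec.map χ ≫ hV.fromSpec = gK ≫ h := by
    rw [Spec.map_comp, Category.assoc, hθ, Category.assoc]
  have hσθ : θ ≫ CommRingCat.ofHom σ = χR ≫ CommRingCat.ofHom (algebraMap R (FractionRing R)) := by
    apply Spec.map_injective
    rw [← cancel_mono hV.fromSpec, Spec.map_comp, Spec.map_comp, Category.assoc, Category.assoc, hθ, hχR, h1g,
      ← Category.assoc]
    congr 1
    rw [← cancel_mono U.ι, Category.assoc, hgP, hub, ← Category.assoc, ← Category.assoc, ← Spec.map_comp,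
      ← Spec.map_comp]
    congr 2
    ext a; exact hσ a
  -- ring maps over the base
  let μ := X.presheaf.germ W x hxW
  have hj : X.fromSpecStalk x = Spec.map μ ≫ hW.fromSpec := (hW.fromSpecStalk_eq_fromSpecStalk hxW).symm
  have hθq : q.appLE W V e ≫ θ = μ ≫ CommRingCat.ofHom (algebraMap (X.presheaf.stalk x) AP) := by
    rw [← LeadNormalExt.comp_ring q hW hV e, ← Category.assoc, hθ, Category.assoc, hh, hgP, Spec.map_comp,
      Category.assoc, ← hj]
    rfl
  have hRq : q.appLE W V e ≫ χR = μ ≫ CommRingCat.ofHom ψ := by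
    rw [← LeadNormalExt.comp_ring q hW hV e, ← Category.assoc, hχR, h1q, Spec.map_comp, Category.assoc, ← hj]; rfl
  have hint : ∀ c, χ c ∈ Set.range (algebraMap (X.presheaf.stalk x) K) := by
    intro c
    letI : Algebra Γ(X, W) Γ(Y, V) := (q.appLE W V e).hom.toAlgebra
    letI : Algebra Γ(X, W) (X.presheaf.stalk x) := μ.hom.toAlgebra
    haveI : Algebra.FiniteType Γ(X, W) Γ(Y, V) := q.finiteType_appLE hW hV e
    haveI : Algebra.QuasiFinite Γ(X, W) Γ(Y, V) := LocallyQuasiFinite.quasiFinite_appLE (f := q) hW hV e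
    let θ' : Γ(Y, V) →ₐ[Γ(X, W)] AP :=
      { θ.hom with
        commutes' := fun r => (congrArg (fun φ => φ.hom r) hθq : _).trans
          (IsScalarTower.algebraMap_apply Γ(X, W) (X.presheaf.stalk x) AP r).symm }
    let θB : TensorProduct Γ(X, W) (X.presheaf.stalk x) Γ(Y, V) →ₐ[X.presheaf.stalk x] AP :=
      Algebra.TensorProduct.lift (Algebra.ofId _ AP) θ' fun _ _ => Commute.all _ _
    let κ' : AP →ₐ[X.presheaf.stalk x] K := { κ with commutes' := hκ }
    letI : Algebra (X.presheaf.stalk x) R := ψ.toAlgebra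
    letI : Algebra Γ(X, W) R := (ψ.comp μ.hom).toAlgebra
    haveI : IsScalarTower Γ(X, W) (X.presheaf.stalk x) R := IsScalarTower.of_algebraMap_eq fun _ => rfl
    let χR' : Γ(Y, V) →ₐ[Γ(X, W)] R :=
      { χR.hom with commutes' := fun r => (congrArg (fun φ => φ.hom r) hRq : _) }
    let RB : TensorProduct Γ(X, W) (X.presheaf.stalk x) Γ(Y, V) →ₐ[X.presheaf.stalk x] R :=
      Algebra.TensorProduct.lift (Algebra.ofId _ R) χR' fun _ _ => Commute.all _ _
    have hcomm : ∀ b, σ (θB b) = algebraMap R (FractionRing R) (RB b) := by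
      intro b
      induction b using TensorProduct.induction_on with
      | zero => simp
      | tmul a c =>
        simp only [θB, RB, Algebra.TensorProduct.lift_tmul, map_mul]
        congr 1
        · exact hσ a
        · exact congrArg (fun φ => φ.hom c) hσθ
      | add a b ha hb => simp only [map_add, ha, hb]
    obtain ⟨a, ha⟩ := LeadNormalExt.mem_range_of_quasiFinite (κ'.comp θB)
      ((IsLocalRing.maximalIdeal R).comap RB.toRingHom) (by
        intro b hb
        have hb0 : θB b = 0 := hκinj (by rw [map_zero]; exact hb)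
        have : algebraMap R (FractionRing R) (RB b) = 0 := by rw [← hcomm, hb0, map_zero]
        show RB b ∈ IsLocalRing.maximalIdeal R
        rw [(map_eq_zero_iff _ (IsFractionRing.injective R (FractionRing R))).1 this]
        exact Ideal.zero_mem _)
      (by
        intro a ha
        show RB (algebraMap _ _ a) ∈ IsLocalRing.maximalIdeal R
        rw [AlgHom.commutes]
        exact (IsLocalRing.mem_maximalIdeal _).2 fun hu =>
          (IsLocalRing.mem_maximalIdeal a).1 ha (isUnit_of_map_unit ψ a hu))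
      (1 ⊗ₜ c)
    refine ⟨a, ha.trans ?_⟩
    show κ (θB (1 ⊗ₜ c)) = κ (θ c)
    simp only [θB, Algebra.TensorProduct.lift_tmul, map_one, one_mul]
    rfl
  obtain ⟨χA, hχA, hfq⟩ := LeadNormalExt.exists_stalk_section q hW hxW hV e χ
    (by rw [← Category.assoc, hχ, Category.assoc, hh, hgK]) hint
  obtain ⟨U', hUU', hxU', h', h'q, h'h, -⟩ :=
    LeadNormalExt.extend q h hh (Spec.map χA ≫ hV.fromSpec) (by rw [Category.assoc, hfq]) gK hgK
      (by rw [← Category.assoc, ← Spec.map_comp]; exact (congrArg (fun m => Spec.map m ≫ hV.fromSpec) hχA).trans hχ)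
      (fun _ _ => ⟨⊤, trivial, trivial, inferInstance⟩)
  exact ⟨U', hUU', h', hxU', h'q, h'h⟩

end Groth.Agent.S3849
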