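import Groth.Statements.S3852
import Mathlib

set_option autoImplicit false
universe u
open FCompl

namespace Groth.Agent.S3852

open AlgebraicGeometry CategoryTheory

open AlgebraicGeometry in
/-- Second assertion; stated for quasi-coherent ideal sheaves, with the condition on supports as an
inclusion, which is what the proof uses: Let X be a Noetherian scheme and I, J ideal sheaves such
that the zero locus of J is contained in the zero locus of I. Then I^n ≤ J for some n ≥ 1. -/
theorem result
    (X : Scheme.{u}) [IsNoetherian X] (I J : X.IdealSheafData)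
    (h : (J.support : Set X) ⊆ I.support) :
    ∃ n : ℕ, I ^ (n + 1) ≤ J := by
  classical
  have hle : I ≤ J.radical := by
    rw [← Scheme.IdealSheafData.vanishingIdeal_support, ← Scheme.IdealSheafData.le_support_iff_le_vanishingIdeal]
    exact h
  haveI : CompactSpace X := inferInstance
  obtain ⟨s, hsf, hs⟩ := (isCompact_univ (X := X)).elim_finite_subcover_image
    (b := (Set.univ : Set X.affineOpens)) (c := fun U => (U.1 : Set X)) (fun U _ => U.1.isOpen)
    (fun x _ => by
      obtain ⟨U, hU, hxU, -⟩ := exists_isAffineOpen_mem_and_subset (U := ⊤) (show x ∈ (⊤ : X.Opens) from trivial)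
      exact Set.mem_biUnion (x := (⟨U, hU⟩ : X.affineOpens)) (Set.mem_univ _) hxU) |>.imp fun s h => And.intro h.2.1 h.2.2
  have hn : ∀ U : X.affineOpens, ∃ n : ℕ, I.ideal U ^ n ≤ J.ideal U := fun U => by
    haveI : IsNoetherianRing Γ(X, U.1) := IsLocallyNoetherian.component_noetherian U
    exact Ideal.exists_pow_le_of_le_radical_of_fg (hle U) (IsNoetherian.noetherian _)
  choose n hn using hn
  refine ⟨hsf.toFinset.sup n, Scheme.IdealSheafData.le_of_iSup_eq_top (ι := s) (fun U => U.1) ?_ fun U => ?_⟩
  · refine top_le_iff.mp fun x _ => ?_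
    obtain ⟨U, hU, hxU⟩ := Set.mem_iUnion₂.mp (hs (Set.mem_univ x))
    exact TopologicalSpace.Opens.mem_iSup.mpr ⟨⟨U, hU⟩, hxU⟩
  · rw [Scheme.IdealSheafData.ideal_pow]
    exact (Ideal.pow_le_pow_right (Nat.le_succ_of_le (Finset.le_sup (hsf.mem_toFinset.mpr U.2)))).trans (hn U.1)

end Groth.Agent.S3852
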