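import Groth.Statements.S3856
import Groth.Agent.Adic.Noetherian

set_option autoImplicit false
universe u
open AdicRing Groth.Agent.Adic

namespace Groth.Agent.S3856

/-- Let A be a ring that is complete and separated for the J-adic topology of an ideal J. If A/J² is
Noetherian (equivalently, A/J is Noetherian and J/J² is a finitely generated A/J-module), then A is
Noetherian. The published statement is phrased for a formal spectrum Spf(A) all of whose levels
Spec(A/J^(n+1)) are Noetherian; it is stated here with the weaker hypothesis that A/J² is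
Noetherian. -/
theorem result (A : Type u) [CommRing A]
    (J : Ideal A) [IsAdicComplete J A] [IsNoetherianRing (A ⧸ J ^ 2)] : IsNoetherianRing A := by
  obtain ⟨r, g, hg⟩ := Submodule.fg_iff_exists_fin_generating_family.mp
    (IsNoetherian.noetherian (R := A ⧸ J ^ 2) (J.map (Ideal.Quotient.mk (J ^ 2))))
  choose a ha hag using fun i => (Ideal.mem_map_iff_of_surjective _ Ideal.Quotient.mk_surjective).mp
    (hg ▸ Submodule.subset_span (Set.mem_range_self i) : g i ∈ J.map (Ideal.Quotient.mk (J ^ 2)))
  have hmap : (Ideal.span (Set.range a)).map (Ideal.Quotient.mk (J ^ 2)) = J.map (Ideal.Quotient.mk (J ^ 2)) := by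
    rw [Ideal.map_span, ← Set.range_comp, show ⇑(Ideal.Quotient.mk (J ^ 2)) ∘ a = g from funext hag]
    exact hg
  have hle : J ≤ Ideal.span (Set.range a) ⊔ J ^ 2 := fun x hx => by
    have hx' : x ∈ ((Ideal.span (Set.range a)).map (Ideal.Quotient.mk (J ^ 2))).comap (Ideal.Quotient.mk (J ^ 2)) := by
      rw [hmap]; exact Ideal.mem_map_of_mem _ hx
    rwa [Ideal.comap_map_of_surjective _ Ideal.Quotient.mk_surjective, ← RingHom.ker_eq_comap_bot,
      Ideal.mk_ker] at hx'
  have h := Noetherian.eq_pow_of_fg_mod_two (Noetherian.good_pow (I := J) (L := A))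
    (fun n => le_sup_left) (J := Ideal.span (Set.range a))
    (Ideal.span_le.mpr (Set.range_subset_iff.mpr ha)) (Submodule.fg_span (Set.finite_range a))
    (by simpa [smul_eq_mul, Ideal.mul_top] using hle) 1
  have hJ : J.FG := by
    have h2 := h.1.symm.trans h.2
    rw [pow_one, pow_one] at h2
    exact h2 ▸ Submodule.fg_span (Set.finite_range a)
  have : IsNoetherianRing (A ⧸ J) := isNoetherianRing_of_surjective (A ⧸ J ^ 2) (A ⧸ J)
    (Ideal.Quotient.factor (Ideal.pow_le_self two_ne_zero))
    (Ideal.Quotient.factor_surjective _)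
  exact Noetherian.isNoetherianRing_of_isAdicComplete hJ

end Groth.Agent.S3856
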