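import Groth.Statements.S3857
import Groth.Agent.S5951
import Groth.Agent.Flat.CartierFibre
import Mathlib.AlgebraicGeometry.Noetherian
import Mathlib.RingTheory.Noetherian.OfPrime

set_option autoImplicit false
universe u
open FCompl

namespace Groth.Agent.S3857

open CategoryTheory CategoryTheory.Limits AlgebraicGeometry TopologicalSpace

theorem isNoetherianRing_of_quotient (R : Type u) [CommRing R] (I : Ideal R) (hfg : I.FG)
    (hI : ∀ p : Ideal R, p.IsPrime → I ≤ p) [IsNoetherianRing (R ⧸ I)] : IsNoetherianRing R := by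
  refine IsNoetherianRing.of_prime fun p hp => ?_
  refine Submodule.fg_of_fg_map_of_fg_inf_ker I.mkQ ?_ ?_
  · obtain ⟨s, hs⟩ := IsNoetherian.noetherian (p.map (Ideal.Quotient.mk I))
    classical
    choose r hr using fun x : R ⧸ I => Ideal.Quotient.mk_surjective x
    refine ⟨s, le_antisymm ?_ ?_⟩
    · rw [Submodule.span_le]
      intro x hx
      have : x ∈ p.map (Ideal.Quotient.mk I) := hs ▸ Submodule.subset_span hx
      obtain ⟨y, hy, rfl⟩ := (Ideal.mem_map_iff_of_surjective _ Ideal.Quotient.mk_surjective).1 this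
      exact ⟨y, hy, rfl⟩
    · rintro _ ⟨y, hy, rfl⟩
      have h1 : Ideal.Quotient.mk I y ∈ Submodule.span (R ⧸ I) (s : Set (R ⧸ I)) :=
        hs.symm ▸ Ideal.mem_map_of_mem _ hy
      rw [← Submodule.restrictScalars_mem R, Submodule.restrictScalars_span R (R ⧸ I) Ideal.Quotient.mk_surjective] at h1
      exact h1
  · rw [Submodule.ker_mkQ, inf_eq_right.2 (hI p hp)]
    exact hfg

variable {𝔛 𝔖 : FSch.Sys.{u}} (f : 𝔛 ⟶ 𝔖)

theorem isPullback_toX (hf : FSch.IsAdicHom f) (m : ℕ) :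
    IsPullback (𝔛.toX m) ((f : FSch.Hom 𝔛 𝔖).app 0) ((f : FSch.Hom 𝔛 𝔖).app m) (𝔖.toX m) := by
  induction m with
  | zero =>
    show IsPullback (𝟙 _) ((f : FSch.Hom 𝔛 𝔖).app 0) ((f : FSch.Hom 𝔛 𝔖).app 0) (𝟙 _)
    exact IsPullback.of_horiz_isIso ⟨(Category.id_comp _).trans (Category.comp_id _).symm⟩
  | succ m ih => exact ih.paste_horiz (hf m)

theorem isClosedImmersion_toX (h : 𝔖.IsFormal) (m : ℕ) : IsClosedImmersion (𝔖.toX m) := by
  induction m with
  | zero => show IsClosedImmersion (𝟙 _); infer_instance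
  | succ m ih =>
    haveI := ih
    haveI := (h m).1
    show IsClosedImmersion (𝔖.toX m ≫ 𝔖.ι m)
    infer_instance

theorem ker_eq_comap {P X Y Z : Scheme.{u}} {a : P ⟶ X} {b : P ⟶ Z} {c : X ⟶ Y} {d : Z ⟶ Y}
    (h : IsPullback a b c d) [IsClosedImmersion d] : a.ker = d.ker.comap c := by
  rw [← h.isoPullback_hom_fst, Scheme.Hom.ker_comp_of_isIso, Scheme.IdealSheafData.ker_fst_of_isClosedImmersion]

theorem isLocallyNoetherian_succ {Xn Xs Sn Ss : Scheme.{u}} {a : Xn ⟶ Xs} {b : Xn ⟶ Sn} {c : Xs ⟶ Ss} {d : Sn ⟶ Ss}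
    (h : IsPullback a b c d) [IsClosedImmersion d] [IsClosedImmersion a] (hs : Function.Surjective a.base)
    [IsLocallyNoetherian Xn] [IsLocallyNoetherian Ss] : IsLocallyNoetherian Xs := by
  have hcov : ∀ x : Xs, ∃ (U : Ss.affineOpens) (V : Xs.affineOpens), x ∈ V.1 ∧ V.1 ≤ c ⁻¹ᵁ U.1 := fun x => by
    obtain ⟨U, hU, hxU, -⟩ := exists_isAffineOpen_mem_and_subset (x := c x) (U := (⊤ : Ss.Opens)) trivial
    obtain ⟨V, hV, hxV, hVU⟩ := exists_isAffineOpen_mem_and_subset (x := x) (U := c ⁻¹ᵁ U) hxU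
    exact ⟨⟨U, hU⟩, ⟨V, hV⟩, hxV, hVU⟩
  choose U V hxV hle using hcov
  refine isLocallyNoetherian_of_affine_cover (S := V)
    (eq_top_iff.mpr fun x _ => Opens.mem_iSup.mpr ⟨x, hxV x⟩) fun x => ?_
  have hWaff : IsAffineOpen (a ⁻¹ᵁ (V x).1) := (V x).2.preimage a
  have hsurj : Function.Surjective (a.app (V x).1).hom := a.app_surjective _ (V x).2
  let k := RingHom.ker (a.app (V x).1).hom
  haveI : IsNoetherianRing Γ(Xn, a ⁻¹ᵁ (V x).1) := IsLocallyNoetherian.component_noetherian ⟨_, hWaff⟩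
  haveI : IsNoetherianRing (Γ(Xs, (V x).1) ⧸ k) :=
    isNoetherianRing_of_ringEquiv _ (RingHom.quotientKerEquivOfSurjective hsurj).symm
  have hkeq : a.ker.ideal (V x) = k := Scheme.Hom.ker_apply a (V x)
  have hfg : k.FG := by
    haveI : IsNoetherianRing Γ(Ss, (U x).1) := IsLocallyNoetherian.component_noetherian (U x)
    rw [← hkeq, ker_eq_comap h, Groth.Agent.Flat.CartierFibre.ideal_comap _ c (U x) (V x) (hle x)]
    exact Ideal.FG.map (IsNoetherian.noetherian (d.ker.ideal (U x))) _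
  refine isNoetherianRing_of_quotient _ k hfg fun p hp y hy => ?_
  let z : Spec Γ(Xs, (V x).1) := ⟨p, hp⟩
  obtain ⟨w, hw⟩ := hs ((V x).2.fromSpec z)
  have hzmem : (V x).2.fromSpec z ∈ (V x).1 := by
    rw [← SetLike.mem_coe, ← (V x).2.range_fromSpec]
    exact ⟨z, rfl⟩
  have hsupp : (V x).2.fromSpec z ∈ a.ker.support := by
    rw [← SetLike.mem_coe, Scheme.Hom.support_ker]
    exact subset_closure ⟨w, hw⟩
  have h3 : z ∈ (V x).2.fromSpec ⁻¹' (Xs.zeroLocus (U := (V x).1) (a.ker.ideal (V x) : Set Γ(Xs, (V x).1))) := by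
    exact (Scheme.IdealSheafData.coe_support_inter a.ker (V x)).le ⟨hsupp, hzmem⟩ |>.1
  rw [(V x).2.fromSpec_preimage_zeroLocus] at h3
  exact (show _ ⊆ (p : Set _) from h3) (hkeq.symm ▸ hy)

open AlgebraicGeometry in
/-- Here formal schemes are presented as systems of thickenings, an adic morphism being one all of whose
squares are cartesian. Let S_0 -> S_1 -> ... be a locally Noetherian adic formal system and (X_n ->
S_n) a compatible family of morphisms such that every square X_n -> X_(n+1), S_n -> S_(n+1) is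
cartesian. If X_0 is locally Noetherian, then (X_n) is a locally Noetherian adic formal system. -/
theorem result {𝔛 𝔖 : FSch.Sys.{u}} (f : 𝔛 ⟶ 𝔖)
    (h𝔖 : 𝔖.IsLocNoethFormal) (hf : FSch.IsAdicHom f) [IsLocallyNoetherian (𝔛.X 0)] :
    𝔛.IsLocNoethFormal := by
  obtain ⟨hF, hA, hN⟩ := h𝔖
  have hformal : 𝔛.IsFormal := fun n => by
    haveI := (hF n).1
    haveI : Surjective (𝔖.ι n) := ⟨(hF n).2⟩
    refine ⟨MorphismProperty.of_isPullback (hf n).flip inferInstance, ?_⟩
    exact (MorphismProperty.of_isPullback (P := @Surjective) (hf n).flip inferInstance).surj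
  refine ⟨hformal, fun n => ?_, ?_⟩
  · haveI := (hF n).1
    haveI := isClosedImmersion_toX hF (n + 1)
    rw [ker_eq_comap (hf n), ker_eq_comap (isPullback_toX f hf (n + 1)), hA n, Groth.Agent.S5951.comap_pow]
  · intro n
    induction n with
    | zero => infer_instance
    | succ n ih =>
      haveI := ih
      haveI := (hF n).1
      haveI := (hformal n).1
      haveI := hN (n + 1)
      exact isLocallyNoetherian_succ (hf n) (hformal n).2

end Groth.Agent.S3857
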