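import Groth.Statements.S3860
import Mathlib.RingTheory.AdicCompletion.RingHom

set_option autoImplicit false
universe u
open FCompl

namespace Groth.Agent.S3860

open AlgebraicGeometry in
/-- (Affine adic case; the formal spectra presented as the systems Spec(A/I^(n+1)) and Spec(B/K^(n+1)).)
Let I be an ideal of a ring A which is complete and separated for the I-adic topology, and K an
ideal of a ring B. Then φ ↦ (Spec of the induced maps B/K^(n+1) -> A/I^(n+1)) is a bijection from
the ring homomorphisms φ : B -> A with φ(K) ⊆ I onto the morphisms of systems from Spf(A) to Spf(B),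
i.e. the compatible families of morphisms Spec(A/I^(n+1)) -> Spec(B/K^(n+1)). -/
theorem result (A B : Type u) [CommRing A] [CommRing B] (I : Ideal A) (K : Ideal B)
    [IsAdicComplete I A] :
    Function.Bijective (fun φ : {φ : B →+* A // K ≤ I.comap φ} ↦ FSch.spfMap I K φ.1 φ.2) := by
  open CategoryTheory in
  refine ⟨fun φ ψ h => Subtype.ext ?_, fun F => ?_⟩
  · have h' : ∀ n, FSch.quotPowMap I K φ.1 φ.2 n = FSch.quotPowMap I K ψ.1 ψ.2 n := fun n => by
      have := congrArg (fun G => (G : FSch.Hom _ _).app n) h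
      simp only [FSch.spfMap_app] at this
      replace this := Spec.map_injective this
      exact congrArg CommRingCat.Hom.hom (this : CommRingCat.ofHom (FSch.quotPowMap I K φ.1 φ.2 n) = CommRingCat.ofHom (FSch.quotPowMap I K ψ.1 ψ.2 n))
    refine DFunLike.coe_injective (IsHausdorff.funext' I fun n b => ?_)
    cases n with
    | zero => exact Ideal.Quotient.eq.2 (by simp)
    | succ n => exact DFunLike.congr_fun (h' n) (Ideal.Quotient.mk _ b)
  · let g : ∀ n, B ⧸ K ^ (n + 1) →+* A ⧸ I ^ (n + 1) := fun n => (Spec.preimage ((F : FSch.Hom _ _).app n)).hom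
    have hg : ∀ n, Spec.map (CommRingCat.ofHom (g n)) = (F : FSch.Hom _ _).app n := fun n => Spec.map_preimage _
    have hc : ∀ n, (g n).comp (Ideal.Quotient.factor (Ideal.pow_le_pow_right (Nat.le_succ (n + 1)))) =
        (Ideal.Quotient.factor (Ideal.pow_le_pow_right (Nat.le_succ (n + 1)))).comp (g (n + 1)) := fun n => by
      have h : (F : FSch.Hom _ _).app n ≫ CohB1.specQuotTrans K n =
          CohB1.specQuotTrans I n ≫ (F : FSch.Hom _ _).app (n + 1) := (F : FSch.Hom _ _).comm n
      rw [← hg, ← hg, CohB1.specQuotTrans, CohB1.specQuotTrans] at h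
      erw [← Spec.map_comp, ← Spec.map_comp, Spec.map_inj] at h
      exact congrArg CommRingCat.Hom.hom h
    have sm : StrictMono (fun n : ℕ => n + 1) := fun a b hab => Nat.add_lt_add_right hab 1
    let f : (n : ℕ) → B →+* A ⧸ I ^ (n + 1) := fun n => (g n).comp (Ideal.Quotient.mk _)
    have hf : ∀ {m}, (Ideal.Quotient.factorPow I (sm.monotone m.le_succ)).comp (f (m + 1)) = f m := fun {m} => by
      show (Ideal.Quotient.factor _).comp ((g (m + 1)).comp _) = (g m).comp _
      rw [← RingHom.comp_assoc, ← hc, RingHom.comp_assoc, Ideal.Quotient.factor_comp_mk]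
    let φ := IsAdicComplete.StrictMono.liftRingHom I sm f hf
    have hφ : ∀ n, (Ideal.Quotient.mk (I ^ (n + 1))).comp φ = f n :=
      fun n => IsAdicComplete.StrictMono.mk_comp_liftRingHom I sm f hf
    have hK : K ≤ I.comap φ := fun b hb => by
      have h := DFunLike.congr_fun (hφ 0) b
      have hb0 : Ideal.Quotient.mk (K ^ (0 + 1)) b = 0 := Ideal.Quotient.eq_zero_iff_mem.2 (by simpa using hb)
      simp only [f, RingHom.comp_apply, hb0, map_zero, Ideal.Quotient.eq_zero_iff_mem] at h
      simpa using h
    refine ⟨⟨φ, hK⟩, FSch.Hom.ext (funext fun n => ?_)⟩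
    rw [FSch.spfMap_app, ← hg]
    congr 2
    exact Ideal.Quotient.ringHom_ext (hφ n)

end Groth.Agent.S3860
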