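import Groth.Statements.S3861
import Mathlib
import Groth.Agent.Flat.CartierFibre

set_option autoImplicit false
universe u
open FCompl

namespace Groth.Agent.S3861

open AlgebraicGeometry in
/-- For a morphism of schemes f : X -> Y and quasi-coherent ideal sheaves K₁, K₂ on Y, the inverse image
ideal sheaf of K₁K₂ is the product of the inverse image ideal sheaves of K₁ and K₂. -/
theorem result {X Y : Scheme.{u}} (f : X ⟶ Y) (K₁ K₂ : Y.IdealSheafData) :
    (K₁ * K₂).comap f = K₁.comap f * K₂.comap f := by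
  let ι := {p : Y.affineOpens × X.affineOpens // p.2.1 ≤ f ⁻¹ᵁ p.1.1}
  refine Scheme.IdealSheafData.ext_of_iSup_eq_top (fun p : ι => p.1.2) ?_ fun p => ?_
  · refine eq_top_iff.mpr fun x _ => ?_
    obtain ⟨U, hU, hxU, -⟩ := exists_isAffineOpen_mem_and_subset (x := f.base x) (U := ⊤) trivial
    obtain ⟨V, hV, hxV, hVU⟩ := exists_isAffineOpen_mem_and_subset (x := x) (U := f ⁻¹ᵁ U) hxU
    exact TopologicalSpace.Opens.mem_iSup.mpr ⟨⟨(⟨U, hU⟩, ⟨V, hV⟩), hVU⟩, hxV⟩
  · rw [Scheme.IdealSheafData.ideal_mul, Pi.mul_apply, Groth.Agent.Flat.CartierFibre.ideal_comap _ f p.1.1 p.1.2 p.2,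
      Groth.Agent.Flat.CartierFibre.ideal_comap _ f p.1.1 p.1.2 p.2,
      Groth.Agent.Flat.CartierFibre.ideal_comap _ f p.1.1 p.1.2 p.2,
      Scheme.IdealSheafData.ideal_mul, Pi.mul_apply, Ideal.map_mul]

end Groth.Agent.S3861
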