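import Groth.Statements.S3867
import Mathlib.RingTheory.Nakayama
import Mathlib.RingTheory.AdicCompletion.Basic
import Mathlib.AlgebraicGeometry.Pullbacks

set_option autoImplicit false
universe u
open FCompl

namespace Groth.Agent.S3867

open CategoryTheory AlgebraicGeometry

variable {A B : Type u} [CommRing A] [CommRing B] (I : Ideal A) (K : Ideal B) (φ : B →+* A) (h : K ≤ I.comap φ)

theorem le_of_isPullback (n : ℕ) (hp : IsPullback ((FSch.spf A I).ι n) ((FSch.spfMap I K φ h : FSch.Hom _ _).app n)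
      ((FSch.spfMap I K φ h : FSch.Hom _ _).app (n + 1)) ((FSch.spf B K).ι n)) :
    I ^ (n + 1) ≤ (K.map φ) ^ (n + 1) ⊔ I ^ (n + 2) := by
  let J := (K.map φ) ^ (n + 1) ⊔ I ^ (n + 2)
  let qA : A ⧸ I ^ (n + 1 + 1) →+* A ⧸ J := Ideal.Quotient.factor le_sup_right
  have hK : ∀ b ∈ K ^ (n + 1), ((Ideal.Quotient.mk J).comp φ) b = 0 := fun b hb => by
    rw [RingHom.comp_apply, Ideal.Quotient.eq_zero_iff_mem]
    refine Submodule.mem_sup_left ?_
    rw [← Ideal.map_pow]
    exact Ideal.mem_map_of_mem _ hb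
  let qB : B ⧸ K ^ (n + 1) →+* A ⧸ J := Ideal.Quotient.lift _ _ hK
  have hw : Spec.map (CommRingCat.ofHom qA) ≫ (FSch.spfMap I K φ h : FSch.Hom _ _).app (n + 1) =
      Spec.map (CommRingCat.ofHom qB) ≫ (FSch.spf B K).ι n := by
    rw [FSch.spfMap_app]
    show _ = _ ≫ Spec.map _
    erw [← Spec.map_comp, ← Spec.map_comp]
    congr 1
    exact CommRingCat.hom_ext (Ideal.Quotient.ringHom_ext (RingHom.ext fun b => rfl))
  obtain ⟨l, hl, -⟩ := hp.exists_lift (Spec.map (CommRingCat.ofHom qA)) (Spec.map (CommRingCat.ofHom qB)) hw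
  intro x hx
  rw [← Spec.map_preimage l] at hl
  have hl' : Spec.map (Spec.preimage l) ≫ Spec.map (CommRingCat.ofHom (Ideal.Quotient.factor (Ideal.pow_le_pow_right (Nat.le_succ (n + 1))))) =
      Spec.map (CommRingCat.ofHom qA) := hl
  rw [← Spec.map_comp] at hl'
  have h1 := congrArg (fun f => f (Ideal.Quotient.mk (I ^ (n + 2)) x)) (congrArg CommRingCat.Hom.hom (Spec.map_injective hl'))
  simp only [CommRingCat.hom_comp, RingHom.comp_apply, CommRingCat.hom_ofHom, Ideal.Quotient.factor_mk, qA,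
    Ideal.Quotient.eq_zero_iff_mem.2 hx, map_zero] at h1
  exact Ideal.Quotient.eq_zero_iff_mem.1 h1.symm

theorem isPullback_of_le (n : ℕ) (hle : I ^ (n + 1) ≤ (K.map φ) ^ (n + 1) ⊔ I ^ (n + 2)) :
    IsPullback ((FSch.spf A I).ι n) ((FSch.spfMap I K φ h : FSch.Hom _ _).app n)
      ((FSch.spfMap I K φ h : FSch.Hom _ _).app (n + 1)) ((FSch.spf B K).ι n) := by
  rw [FSch.spfMap_app, FSch.spfMap_app]
  let tA := CommRingCat.ofHom (Ideal.Quotient.factor (Ideal.pow_le_pow_right (Nat.le_succ (n + 1)) : I ^ (n + 2) ≤ I ^ (n + 1)))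
  let tB := CommRingCat.ofHom (Ideal.Quotient.factor (Ideal.pow_le_pow_right (Nat.le_succ (n + 1)) : K ^ (n + 2) ≤ K ^ (n + 1)))
  let g1 := CommRingCat.ofHom (FSch.quotPowMap I K φ h (n + 1))
  let g0 := CommRingCat.ofHom (FSch.quotPowMap I K φ h n)
  refine isPullback_SpecMap_of_isPushout g1 tB tA g0 ?_
  have w : g1 ≫ tA = tB ≫ g0 := CommRingCat.hom_ext (Ideal.Quotient.ringHom_ext (RingHom.ext fun b => rfl))
  refine ⟨⟨w⟩, ⟨Limits.PushoutCocone.IsColimit.mk w (fun s => CommRingCat.ofHom (Ideal.Quotient.lift (I ^ (n + 1))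
    (s.inl.hom.comp (Ideal.Quotient.mk _)) ?_)) ?_ ?_ ?_⟩⟩
  · intro x hx
    have hker : (K.map φ) ^ (n + 1) ⊔ I ^ (n + 2) ≤ RingHom.ker (s.inl.hom.comp (Ideal.Quotient.mk _)) := by
      refine sup_le ?_ (fun y hy => ?_)
      · rw [← Ideal.map_pow, Ideal.map_le_iff_le_comap]
        intro b hb
        rw [Ideal.mem_comap, RingHom.mem_ker, RingHom.comp_apply]
        have := congrArg (fun f => f (Ideal.Quotient.mk (K ^ (n + 2)) b)) (congrArg CommRingCat.Hom.hom s.condition)
        simp only [CommRingCat.hom_comp, RingHom.comp_apply, g1, tB, CommRingCat.hom_ofHom, Ideal.Quotient.factor_mk,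
          Ideal.Quotient.eq_zero_iff_mem.2 hb, map_zero] at this
        exact this
      · rw [RingHom.mem_ker, RingHom.comp_apply, Ideal.Quotient.eq_zero_iff_mem.2 hy, map_zero]
    exact RingHom.mem_ker.1 (hker (hle hx))
  · intro s
    exact CommRingCat.hom_ext (Ideal.Quotient.ringHom_ext (RingHom.ext fun a => rfl))
  · intro s
    refine CommRingCat.hom_ext (Ideal.Quotient.ringHom_ext (RingHom.ext fun b => ?_))
    exact congrArg (fun f => f (Ideal.Quotient.mk (K ^ (n + 2)) b)) (congrArg CommRingCat.Hom.hom s.condition)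
  · intro s m hm1 _
    refine CommRingCat.hom_ext (Ideal.Quotient.ringHom_ext (RingHom.ext fun a => ?_))
    exact congrArg (fun f => f (Ideal.Quotient.mk (I ^ (n + 2)) a)) (congrArg CommRingCat.Hom.hom hm1)

open AlgebraicGeometry in
/-- Formal spectra are presented as the systems Spec(A/I^(n+1)) and Spec(B/K^(n+1)), a morphism of
systems being adic when all its squares are cartesian. Let A be a Noetherian ring, complete and
separated for the I-adic topology of an ideal I, K an ideal of a ring B and φ : B → A a ring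
homomorphism with φ(K) ⊆ I. Then the induced morphism Spf(A) → Spf(B) is adic if and only if the
ideal of A generated by φ(K) is I. -/
theorem result (A B : Type u) [CommRing A] [CommRing B] [IsNoetherianRing A]
    (I : Ideal A) (K : Ideal B) [IsAdicComplete I A] (φ : B →+* A) (h : K ≤ I.comap φ) :
    FSch.IsAdicHom (FSch.spfMap I K φ h) ↔ K.map φ = I := by
  refine ⟨fun hf => le_antisymm (Ideal.map_le_iff_le_comap.2 h) ?_, fun hK n => isPullback_of_le I K φ h n ?_⟩
  · refine Submodule.le_of_le_smul_of_le_jacobson_bot (IsNoetherian.noetherian I) (IsAdicComplete.le_jacobson_bot I) ?_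
    have := le_of_isPullback I K φ h 0 (hf 0)
    simpa [pow_two] using this
  · rw [hK]
    exact le_sup_left

end Groth.Agent.S3867
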