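import Groth.Statements.S4065
import Mathlib
-- import your own Groth.Agent.* helpers here

set_option autoImplicit false
open CategoryTheory.Limits
universe w v
open CategoryTheory
open SGA7

namespace Groth.Agent.S4065

/-- Let P -> F -> R and R -> E -> Q be short exact sequences in an abelian category and X a blended
extension of E by F: i : F -> X and p : X -> E with i, p composing to F -> R -> E and with P -> X ->
E and F -> X -> Q short exact. Then u ↦ 1_X + (X -> E -> Q -> P -> F -> X) is a bijection from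
Hom(Q, P) onto the set of endomorphisms φ of X with i φ = i and φ p = p (the automorphisms of the
blended extension; every such φ is invertible), and it turns addition into composition (a group
isomorphism Hom(Q, P) ≅ Aut(X)). -/
theorem result {C : Type w} [Category.{v} C] [Abelian C]
    {P F R E Q X : C} (a : P ⟶ F) (b : F ⟶ R) (wF : a ≫ b = 0)
    (hF : (ShortComplex.mk a b wF).ShortExact) (c : R ⟶ E) (d : E ⟶ Q) (wE : c ≫ d = 0)
    (hE : (ShortComplex.mk c d wE).ShortExact) (i : F ⟶ X) (p : X ⟶ E) (hip : i ≫ p = b ≫ c)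
    (w₁ : (a ≫ i) ≫ p = 0) (h₁ : (ShortComplex.mk (a ≫ i) p w₁).ShortExact)
    (w₂ : i ≫ (p ≫ d) = 0) (h₂ : (ShortComplex.mk i (p ≫ d) w₂).ShortExact) :
    Set.BijOn (fun v : Q ⟶ P => 𝟙 X + p ≫ d ≫ v ≫ a ≫ i) Set.univ
      {φ : X ⟶ X | i ≫ φ = i ∧ φ ≫ p = p} ∧
      ∀ v v' : Q ⟶ P, 𝟙 X + p ≫ d ≫ (v + v') ≫ a ≫ i =
        (𝟙 X + p ≫ d ≫ v ≫ a ≫ i) ≫ (𝟙 X + p ≫ d ≫ v' ≫ a ≫ i) := by
  haveI := h₁.mono_f
  haveI : Epi (p ≫ d) := h₂.epi_g
  have w3 : a ≫ i ≫ p = 0 := by rw [← Category.assoc]; exact w₁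
  refine ⟨⟨?_, ?_, ?_⟩, ?_⟩
  · intro v _
    refine ⟨?_, ?_⟩
    · simp only [Preadditive.comp_add, Category.comp_id, add_eq_left]
      have := w₂ =≫ (v ≫ a ≫ i)
      simpa using this
    · simp [Preadditive.add_comp, w3]
  · intro v _ v' _ hv
    simp only [add_right_inj] at hv
    rw [← Category.assoc, ← Category.assoc p d, cancel_epi (p ≫ d)] at hv
    exact (cancel_mono (a ≫ i)).mp hv
  · rintro φ ⟨hi, hp⟩
    have e1 : i ≫ (φ - 𝟙 X) = 0 := by simp [Preadditive.comp_sub, hi]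
    obtain ⟨w, hw⟩ := CokernelCofork.IsColimit.desc' h₂.gIsCokernel (φ - 𝟙 X) e1
    change (p ≫ d) ≫ w = φ - 𝟙 X at hw
    have e2 : w ≫ p = 0 := by
      apply (cancel_epi (p ≫ d)).mp
      rw [← Category.assoc, hw, Preadditive.sub_comp, hp, Category.id_comp, sub_self, comp_zero]
    obtain ⟨v, hv⟩ := KernelFork.IsLimit.lift' h₁.fIsKernel w e2
    change v ≫ a ≫ i = w at hv
    refine ⟨v, trivial, ?_⟩
    change 𝟙 X + p ≫ d ≫ v ≫ a ≫ i = φ
    rw [hv, ← Category.assoc, hw, add_sub_cancel]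
  · intro v v'
    have := w₂ =≫ (v' ≫ a ≫ i)
    simp only [Category.assoc, zero_comp] at this
    simp [Preadditive.add_comp, Preadditive.comp_add, this]
    abel

end Groth.Agent.S4065
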