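import Groth.Statements.S4087
import Groth.Agent.Coeq6.Main
import Groth.Agent.Coeq6.Along
import Groth.Agent.Locus.EtaleCriterion
import Mathlib.AlgebraicGeometry.Sites.Fpqc

set_option autoImplicit false
set_option linter.style.haveILetI false
universe u
open CategoryTheory MonoidalCategory CartesianMonoidalCategory MonObj GrpObj AlgebraicGeometry CategoryTheory.Limits
open GrpQ

namespace Groth.Agent.S4087

/-- Let (U, R, s, t, c) be a groupoid scheme over S and u : U' → U an immersion which is a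
quasi-section: writing V = R ×_{t, U} U' for the arrows with target in U', the morphism V → U
induced by s is finite locally free and surjective, and every subset of U' whose points are pairwise
equivalent (any two are the target and the source of one arrow) lies in an affine open of U'. Then
(t, s) has a coequalizer p : U → Y in schemes; p is surjective, open if t is open, universally
closed if t is; R → U ×_Y U is surjective; and if j = (t, s) is a monomorphism, R ≅ U ×_Y U, and p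
is flat when t is flat. -/
theorem result (S : Scheme.{u}) (G : Grpd.GroupoidScheme S)
    (U' : Scheme.{u}) (u : U' ⟶ G.U) [IsImmersion u]
    (h1 : Mor2.IsFinLocFree (pullback.fst G.t u ≫ G.s) ∧ Surjective (pullback.fst G.t u ≫ G.s))
    (h2 : ∀ E : Set U', (∀ x ∈ E, ∀ y ∈ E, ∃ r : G.R, G.t.base r = u.base x ∧ G.s.base r = u.base y) →
      ∃ W : U'.Opens, IsAffineOpen W ∧ E ⊆ (W : Set U')) :
    ∃ (Y : Scheme.{u}) (p : G.U ⟶ Y) (w : G.t ≫ p = G.s ≫ p),
      Nonempty (IsColimit (Cofork.ofπ p w)) ∧ Surjective p ∧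
      (IsOpenMap G.t.base → IsOpenMap p.base) ∧ (UniversallyClosed G.t → UniversallyClosed p) ∧
      Function.Surjective (pullback.lift G.t G.s w).base ∧
      (Mono G.j → IsPullback G.t G.s p p ∧ (Flat G.t → Flat p)) := by
  haveI hsc : MorphismProperty.IsStableUnderComposition @Surjective.{u} := ⟨fun f g hf hg => by haveI := hf; haveI := hg; infer_instance⟩
  obtain ⟨⟨hf1, hf2, hf3⟩, hfs⟩ := h1
  let H : Grpd.GroupoidScheme S := Coeq6.Along.restrAlong G u
  let sV : pullback G.t u ⟶ G.U := pullback.fst G.t u ≫ G.s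
  let tV : pullback G.t u ⟶ U' := pullback.snd G.t u
  haveI : IsFinite sV := hf1
  haveI : Flat sV := hf2
  haveI : LocallyOfFinitePresentation sV := hf3
  haveI : Surjective sV := hfs
  have bc : IsPullback (pullback.fst sV u) H.s sV u := IsPullback.of_hasPullback sV u
  haveI : IsFinite H.s := MorphismProperty.of_isPullback bc ‹IsFinite sV›
  haveI : Flat H.s := MorphismProperty.of_isPullback bc ‹Flat sV›
  haveI : LocallyOfFinitePresentation H.s := MorphismProperty.of_isPullback bc ‹LocallyOfFinitePresentation sV›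
  let ιR : H.R ⟶ G.R := Coeq6.Along.ιR G u
  have ιt : ιR ≫ G.t = H.t ≫ u := Coeq6.Along.ιR_t G u
  have ιs : ιR ≫ G.s = H.s ≫ u := Coeq6.Along.ιR_s G u
  have hb : ∀ x : H.U, ∃ V : H.U.Opens, IsAffineOpen V ∧ H.t.base '' (H.s.base ⁻¹' {x}) ⊆ (V : Set H.U) := by
    intro x
    refine h2 _ fun a ha b hb => ?_
    obtain ⟨ra, hra, rfl⟩ := ha
    obtain ⟨rb, hrb, rfl⟩ := hb
    have key : ∀ r : H.R, H.s r = x → Coeq6.Invariant.Rel G (u (H.t r)) (u x) := fun r hr =>
      ⟨ιR r, congrArg (fun f => f r) ιt, (congrArg (fun f => f r) ιs).trans (congrArg u hr)⟩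
    exact Coeq6.Invariant.rel_trans (key ra hra) (Coeq6.Invariant.rel_symm (key rb hrb))
  obtain ⟨Y, p₀, w₀, ⟨hc₀⟩, hint, hsurj, hopen, hrel, hlift, -⟩ := Coeq6.Main.coequalizer H hb
  let sH : Coeq6.Along.R' G u ⟶ U' := Coeq6.Along.s' G u
  let tH : Coeq6.Along.R' G u ⟶ U' := Coeq6.Along.t' G u
  let ιR : Coeq6.Along.R' G u ⟶ G.R := Coeq6.Along.ιR G u
  have ιt : ιR ≫ G.t = tH ≫ u := Coeq6.Along.ιR_t G u
  have ιs : ιR ≫ G.s = sH ≫ u := Coeq6.Along.ιR_s G u
  let p' : U' ⟶ Y := p₀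
  have w' : tH ≫ p' = sH ≫ p' := w₀
  let hc' : IsColimit (Cofork.ofπ p' w') := hc₀
  haveI : IsIntegralHom p' := hint
  haveI : Surjective p' := hsurj
  have compat : ∀ {T : Scheme.{u}} (v₁ v₂ : T ⟶ pullback G.t u), v₁ ≫ sV = v₂ ≫ sV →
      v₁ ≫ tV ≫ p' = v₂ ≫ tV ≫ p' := by
    intro T v₁ v₂ h
    let α := v₁ ≫ pullback.fst G.t u
    let β := v₂ ≫ pullback.fst G.t u
    have hab : α ≫ G.s = (β ≫ G.i) ≫ G.t := by
      simpa [α, β, sV, G.i_t, Category.assoc] using h
    let r : T ⟶ Coeq6.Along.R' G u := Coeq6.Along.mk G u (Grpd6.Basic.comp G α (β ≫ G.i) hab) (v₁ ≫ tV) (v₂ ≫ tV)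
      (by rw [Grpd6.Basic.comp_t']; simp only [α, tV, Category.assoc, pullback.condition])
      (by rw [Grpd6.Basic.comp_s']; simp only [β, tV, Category.assoc, G.i_s, pullback.condition])
    have e1 : r ≫ tH = v₁ ≫ tV := Coeq6.Along.mk_t ..
    have e2 : r ≫ sH = v₂ ≫ tV := Coeq6.Along.mk_s ..
    rw [← Category.assoc, ← e1, Category.assoc, w', ← Category.assoc, e2, Category.assoc]
  let p : G.U ⟶ Y := EffectiveEpi.desc sV (tV ≫ p') fun g₁ g₂ h => compat g₁ g₂ h
  have hp : sV ≫ p = tV ≫ p' := EffectiveEpi.fac sV (tV ≫ p') _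
  have w : G.t ≫ p = G.s ≫ p := by
    let π : pullback G.t sV ⟶ G.R := pullback.fst G.t sV
    rw [← cancel_epi π]
    let v := pullback.snd G.t sV
    let α := v ≫ pullback.fst G.t u
    have hα : α ≫ G.s = π ≫ G.t := by
      simp only [α, v, π, Category.assoc]; exact pullback.condition.symm
    let v₂ : pullback G.t sV ⟶ pullback G.t u := pullback.lift (Grpd6.Basic.comp G α π hα) (v ≫ tV)
      (by rw [Grpd6.Basic.comp_t']; simp only [α, tV, Category.assoc, pullback.condition])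
    have e1 : v₂ ≫ sV = π ≫ G.s := by
      simp only [v₂, sV, pullback.lift_fst_assoc, Grpd6.Basic.comp_s']
    have e2 : v ≫ sV = π ≫ G.t := pullback.condition.symm
    have e3 : v₂ ≫ tV = v ≫ tV := pullback.lift_snd _ _ _
    rw [← reassoc_of% e2, ← reassoc_of% e1, hp, reassoc_of% e3]
  have hup : u ≫ p = p' := by
    let σ : U' ⟶ pullback G.t u := pullback.lift (u ≫ G.e) (𝟙 U') (by simp [G.e_t])
    have e1 : σ ≫ sV = u := by simp [σ, sV, pullback.lift_fst_assoc, G.e_s]
    have e2 : σ ≫ tV = 𝟙 U' := pullback.lift_snd _ _ _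
    calc u ≫ p = σ ≫ sV ≫ p := by rw [reassoc_of% e1]
      _ = p' := by rw [hp, reassoc_of% e2]
  haveI : Surjective p := ⟨fun y => by
    obtain ⟨x, rfl⟩ := p'.surjective y
    exact ⟨u x, congrArg (fun f => f x) hup⟩⟩
  have hImage : ∀ W : G.U.Opens, p '' (W : Set G.U) = p' '' (u ⁻¹' (G.t '' (G.s ⁻¹' (W : Set G.U)))) := by
    intro W
    apply Set.Subset.antisymm
    · rintro _ ⟨y, hy, rfl⟩
      obtain ⟨v, rfl⟩ := sV.surjective y
      refine ⟨tV v, ⟨pullback.fst G.t u v, hy, ?_⟩, (congrArg (fun f => f v) hp).symm⟩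
      exact congrArg (fun f => f v) (pullback.condition (f := G.t) (g := u))
    · rintro _ ⟨x, ⟨r, hr, hrx⟩, rfl⟩
      refine ⟨G.s r, hr, ?_⟩
      rw [← Scheme.Hom.comp_apply, ← w, Scheme.Hom.comp_apply, hrx, ← Scheme.Hom.comp_apply, hup]
  refine ⟨Y, p, w, ⟨?_⟩, ‹_›, fun ht W hW => ?_, fun ht => ?_, ?_, fun hj => ?_⟩
  · refine Cofork.IsColimit.mk _ (fun c => (Cofork.IsColimit.desc' hc' (u ≫ c.π) ?_).1) (fun c => ?_) fun c m hm => ?_
    · rw [← reassoc_of% ιt, c.condition, reassoc_of% ιs]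
    · show p ≫ _ = c.π
      have e : p' ≫ (Cofork.IsColimit.desc' hc' (u ≫ c.π) (by rw [← reassoc_of% ιt, c.condition, reassoc_of% ιs])).1 =
          u ≫ c.π := (Cofork.IsColimit.desc' hc' (u ≫ c.π) _).2
      rw [← cancel_epi sV, reassoc_of% hp, e]
      simp only [sV, tV, Category.assoc, ← pullback.condition_assoc]
      rw [c.condition]
    · refine Cofork.IsColimit.hom_ext hc' (Eq.trans ?_ (Cofork.IsColimit.desc' hc' (u ≫ c.π) _).2.symm)
      show p' ≫ m = u ≫ c.π
      rw [← hup, Category.assoc]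
      exact congrArg (u ≫ ·) hm
  · have := hImage ⟨W, hW⟩
    change p '' W = _ at this
    rw [this]
    exact hopen _ ((ht _ (hW.preimage G.s.continuous)).preimage u.continuous)
  · haveI : UniversallyClosed tV := MorphismProperty.of_isPullback (P := @UniversallyClosed) (IsPullback.of_hasPullback G.t u) ht
    haveI : UniversallyClosed (sV ≫ p) := by rw [hp]; infer_instance
    exact UniversallyClosed.of_comp_surjective sV p
  · intro z
    let Φ : pullback (sV ≫ p) (sV ≫ p) ⟶ pullback p p :=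
      pullback.map (sV ≫ p) (sV ≫ p) p p sV sV (𝟙 Y) (Category.comp_id _) (Category.comp_id _)
    haveI : Surjective Φ := MorphismProperty.pullbackMap (P := @Surjective) ‹Surjective sV› ‹Surjective sV› rfl rfl
    obtain ⟨z₂, rfl⟩ := Φ.surjective z
    let a := pullback.fst (sV ≫ p) (sV ≫ p)
    let b := pullback.snd (sV ≫ p) (sV ≫ p)
    have hab : a ≫ tV ≫ p' = b ≫ tV ≫ p' := by
      rw [← hp]; simp only [a, b]; exact pullback.condition
    let Ψ : pullback (sV ≫ p) (sV ≫ p) ⟶ pullback p' p' := pullback.lift (a ≫ tV) (b ≫ tV) (by simpa using hab)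
    let L : Coeq6.Along.R' G u ⟶ pullback p' p' := pullback.lift tH sH w'
    have hL : Function.Surjective L := hlift
    obtain ⟨r', hr'⟩ := hL (Ψ z₂)
    obtain ⟨q, hq₁, hq₂⟩ := Scheme.Pullback.exists_preimage_pullback (f := L) (g := Ψ) r' z₂ hr'
    let T := pullback L Ψ
    have eT := pullback.condition (f := L) (g := Ψ)
    let ρ : T ⟶ G.R := pullback.fst L Ψ ≫ ιR
    let v₁ : T ⟶ pullback G.t u := pullback.snd L Ψ ≫ a
    let v₂ : T ⟶ pullback G.t u := pullback.snd L Ψ ≫ b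
    have f1 : pullback.fst L Ψ ≫ tH = v₁ ≫ tV := by
      simpa [L, Ψ, v₁, pullback.lift_fst] using congrArg (· ≫ pullback.fst p' p') eT
    have f2 : pullback.fst L Ψ ≫ sH = v₂ ≫ tV := by
      simpa [L, Ψ, v₂, pullback.lift_snd] using congrArg (· ≫ pullback.snd p' p') eT
    have g1 : ((v₁ ≫ pullback.fst G.t u) ≫ G.i) ≫ G.s = ρ ≫ G.t := by
      simp only [ρ, Category.assoc, G.i_s, ιt, pullback.condition]
      rw [reassoc_of% f1]
    let ρ₁ := Grpd6.Basic.comp G ((v₁ ≫ pullback.fst G.t u) ≫ G.i) ρ g1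
    have g2 : ρ₁ ≫ G.s = (v₂ ≫ pullback.fst G.t u) ≫ G.t := by
      simp only [ρ₁, Grpd6.Basic.comp_s', ρ, Category.assoc, ιs, pullback.condition]
      rw [reassoc_of% f2]
    let ρ₂ := Grpd6.Basic.comp G ρ₁ (v₂ ≫ pullback.fst G.t u) g2
    have hρ : ρ₂ ≫ pullback.lift G.t G.s w = pullback.snd L Ψ ≫ Φ := by
      apply pullback.hom_ext
      · simp only [ρ₂, ρ₁, Φ, Category.assoc, pullback.lift_fst, Grpd6.Basic.comp_t', pullback.map,
          pullback.lift_fst_assoc, G.i_t, v₁, a, sV]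
      · simp only [ρ₂, Φ, Category.assoc, pullback.lift_snd, Grpd6.Basic.comp_s', pullback.map,
          pullback.lift_snd_assoc, v₂, b, sV]
    refine ⟨ρ₂ q, ?_⟩
    rw [← Scheme.Hom.comp_apply, hρ, Scheme.Hom.comp_apply, hq₂]
  · haveI : Mono H.j := Coeq6.Along.mono_j G u
    obtain ⟨hpb₀, hfin₀, hflat₀, -⟩ := Coeq6.Main.isPullback_finLocFree H hb Y p₀ w₀ hc₀
    have hpb : IsPullback tH sH p' p' := hpb₀
    haveI : Flat p' := hflat₀
    let Φ : pullback (sV ≫ p) (sV ≫ p) ⟶ pullback p p :=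
      pullback.map (sV ≫ p) (sV ≫ p) p p sV sV (𝟙 Y) (Category.comp_id _) (Category.comp_id _)
    haveI : Surjective Φ := MorphismProperty.pullbackMap (P := @Surjective) ‹Surjective sV› ‹Surjective sV› rfl rfl
    haveI : Flat Φ := MorphismProperty.pullbackMap (P := @Flat) ‹Flat sV› ‹Flat sV› rfl rfl
    haveI : IsFinite Φ := MorphismProperty.pullbackMap (P := @IsFinite) ‹IsFinite sV› ‹IsFinite sV› rfl rfl
    let L := pullback.lift G.t G.s w
    haveI : Mono L := ⟨fun {T} x y h => by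
      rw [← cancel_mono G.j]
      apply pullback.hom_ext
      · simpa [L, Grpd.GroupoidScheme.j, pullback.lift_fst] using congrArg (· ≫ pullback.fst p p) h
      · simpa [L, Grpd.GroupoidScheme.j, pullback.lift_snd] using congrArg (· ≫ pullback.snd p p) h⟩
    let v₁ := pullback.fst (sV ≫ p) (sV ≫ p)
    let v₂ := pullback.snd (sV ≫ p) (sV ≫ p)
    have hab : (v₁ ≫ tV) ≫ p' = (v₂ ≫ tV) ≫ p' := by
      simp only [Category.assoc]; rw [← hp]; exact pullback.condition
    let r' : pullback (sV ≫ p) (sV ≫ p) ⟶ Coeq6.Along.R' G u := hpb.lift _ _ hab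
    have f1 : r' ≫ tH = v₁ ≫ tV := hpb.lift_fst _ _ hab
    have f2 : r' ≫ sH = v₂ ≫ tV := hpb.lift_snd _ _ hab
    have g1 : ((v₁ ≫ pullback.fst G.t u) ≫ G.i) ≫ G.s = (r' ≫ ιR) ≫ G.t := by
      simp only [Category.assoc, G.i_s, ιt, pullback.condition]
      rw [reassoc_of% f1]
    let ρ₁ := Grpd6.Basic.comp G ((v₁ ≫ pullback.fst G.t u) ≫ G.i) (r' ≫ ιR) g1
    have g2 : ρ₁ ≫ G.s = (v₂ ≫ pullback.fst G.t u) ≫ G.t := by
      simp only [ρ₁, Grpd6.Basic.comp_s', Category.assoc, ιs, pullback.condition]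
      rw [reassoc_of% f2]
    let g := Grpd6.Basic.comp G ρ₁ (v₂ ≫ pullback.fst G.t u) g2
    have hg : g ≫ L = Φ := by
      apply pullback.hom_ext
      · simp only [g, ρ₁, L, Φ, Category.assoc, pullback.lift_fst, Grpd6.Basic.comp_t', pullback.map,
          G.i_t, v₁, sV]
      · simp only [g, L, Φ, Category.assoc, pullback.lift_snd, Grpd6.Basic.comp_s', pullback.map, v₂, sV]
    let d : pullback p p ⟶ G.R := EffectiveEpi.desc Φ g fun g₁ g₂ h => by
      rw [← cancel_mono L]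
      exact (Category.assoc _ _ _).trans ((congrArg (g₁ ≫ ·) hg).trans (h.trans ((congrArg (g₂ ≫ ·) hg).symm.trans (Category.assoc _ _ _).symm)))
    have hd : d ≫ L = 𝟙 _ := by
      rw [← cancel_epi Φ, EffectiveEpi.fac_assoc, hg, Category.comp_id]
    haveI : IsIso L := ⟨d, by rw [← cancel_mono L, Category.assoc, hd, Category.comp_id, Category.id_comp], hd⟩
    refine ⟨IsPullback.of_iso_pullback ⟨w⟩ (asIso L) (pullback.lift_fst _ _ _) (pullback.lift_snd _ _ _), fun ht => ?_⟩
    haveI : Flat tV := MorphismProperty.of_isPullback (P := @Flat) (IsPullback.of_hasPullback G.t u) ht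
    haveI : Flat (sV ≫ p) := by rw [hp]; infer_instance
    refine Flat.of_stalkMap _ fun y => ?_
    obtain ⟨v, rfl⟩ := sV.surjective y
    exact Locus.EtaleCriterion.flat_stalkMap_of_comp p sV v (Flat.stalkMap sV v) (Flat.stalkMap (sV ≫ p) v)

end Groth.Agent.S4087
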