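import Groth.Statements.S4101
import Groth.Agent.HopfRep.EssFreeSGA

set_option autoImplicit false
universe u
open CategoryTheory MonoidalCategory CartesianMonoidalCategory MonObj GrpObj AlgebraicGeometry CategoryTheory.Limits
open SGA3

namespace Groth.Agent.S4101

/-- Let f : Z → S be essentially free (every point of S has an affine open neighbourhood U and a flat
surjective morphism S' → U from an affine scheme S' such that Z ×_S S' is covered by affine opens
whose rings of sections are projective Γ(S')-modules) and j : Y → Z a closed immersion. Then there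
is a closed immersion t : T → S such that a morphism g : S' → S factors through T exactly when the
closed immersion Y ×_Z Z_{S'} → Z_{S'} deduced from j by base change is an isomorphism; if moreover
Z is quasi-compact over S and j is of finite presentation, then t is of finite presentation. (The
published statement omits the quasi-compactness of Z over S in the last clause; it is stated here
with it.) -/
theorem result (S Z Y : Scheme.{u}) (f : Z ⟶ S)
    (hf : SGA3x.IsEssentiallyFree f) (j : Y ⟶ Z) [IsClosedImmersion j] :
    ∃ (T : Scheme.{u}) (t : T ⟶ S), IsClosedImmersion t ∧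
      (∀ (S' : Scheme.{u}) (g : S' ⟶ S),
        (∃ g' : S' ⟶ T, g' ≫ t = g) ↔ IsIso (pullback.snd j (pullback.fst f g))) ∧
      (QuasiCompact f → LocallyOfFinitePresentation j → LocallyOfFinitePresentation t) := by
  obtain ⟨T, t, ht, h, hfp⟩ := HopfRep.EssFree.exists_closed (p := f) (q := 𝟙 Z) (h := 𝟙 S) (f := f)
    (IsPullback.of_horiz_isIso ⟨by simp⟩) (HopfRep.EssFreeSGA.isEssFree_of_isEssentiallyFree hf) j
  refine ⟨T, t, ht, fun S' g => (h g).trans ⟨fun hc => ?_, fun hiso W s q hq => ?_⟩, hfp⟩
  · obtain ⟨e, he⟩ := hc (pullback.snd f g) (pullback.fst f g) pullback.condition.symm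
    let c := pullback.snd j (pullback.fst f g)
    let σ := pullback.lift e (𝟙 _) (by rw [he, Category.id_comp])
    have h1 : σ ≫ c = 𝟙 _ := pullback.lift_snd _ _ _
    refine ⟨σ, ?_, h1⟩
    rw [← cancel_mono c, Category.assoc, h1, Category.comp_id, Category.id_comp]
  · refine ⟨pullback.lift q s hq.symm ≫ inv (pullback.snd j (pullback.fst f g)) ≫ pullback.fst _ _, ?_⟩
    rw [Category.assoc, Category.assoc, pullback.condition, IsIso.inv_hom_id_assoc, pullback.lift_fst]

end Groth.Agent.S4101
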