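import Groth.Statements.S4104
import Groth.Agent.HopfRep.FaithFlat

set_option autoImplicit false
universe u
open CategoryTheory MonoidalCategory CartesianMonoidalCategory MonObj GrpObj AlgebraicGeometry CategoryTheory.Limits
open SGA3

namespace Groth.Agent.S4104

/-- Let φ : A' → A be a bialgebra map between commutative Hopf algebras over a field k (a homomorphism
of affine k-groups Spec A → Spec A', not necessarily of finite type). If the corresponding morphism
of schemes is a monomorphism, i.e. φ is an epimorphism in the category of commutative rings, then φ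
is surjective (the homomorphism is a closed immersion). -/
theorem result (k : Type u) [Field k] (A' A : Type u) [CommRing A'] [HopfAlgebra k A']
    [CommRing A] [HopfAlgebra k A] (φ : A' →ₐc[k] A)
    (hepi : ∀ (R : Type u) [CommRing R] (f g : A →+* R), f.comp (φ : A' →+* A) = g.comp (φ : A' →+* A) → f = g) :
    Function.Surjective φ := by
  let S := (φ : A' →ₐ[k] A).range
  have hS := Groth.Agent.HopfRep.FaithFlat.faithfullyFlat S (Groth.Agent.HopfRep.FaithFlat.isHopfSub_range φ)
  have heq : ∀ a : A, a ⊗ₜ[S] (1 : A) = (1 : A) ⊗ₜ[S] a := by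
    intro a
    have h := hepi (TensorProduct S A A) (Algebra.TensorProduct.includeLeftRingHom)
      ((Algebra.TensorProduct.includeRight : A →ₐ[S] TensorProduct S A A).toRingHom) ?_
    · exact RingHom.congr_fun h a
    · refine RingHom.ext fun x => ?_
      show algebraMap S A ⟨φ x, ⟨x, rfl⟩⟩ ⊗ₜ[S] (1 : A) = (1 : A) ⊗ₜ[S] algebraMap S A ⟨φ x, ⟨x, rfl⟩⟩
      exact Algebra.TensorProduct.tmul_one_eq_one_tmul _
  intro a
  let Q := LinearMap.range (Algebra.linearMap S A)
  have h1 : (1 : A) ⊗ₜ[S] Q.mkQ a = 0 := by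
    have h2 := congrArg (LinearMap.lTensor A Q.mkQ) (heq a)
    rw [LinearMap.lTensor_tmul, LinearMap.lTensor_tmul] at h2
    rw [← h2, show Q.mkQ (1 : A) = 0 from (Submodule.Quotient.mk_eq_zero Q).2 ⟨1, map_one (algebraMap S A)⟩,
      TensorProduct.tmul_zero]
  have h3 := Module.FaithfullyFlat.tensorProduct_mk_injective (A := S) (B := A) (A ⧸ Q) (h1.trans (map_zero _).symm)
  obtain ⟨⟨_, x, rfl⟩, hx⟩ := (Submodule.Quotient.mk_eq_zero Q).1 h3
  exact ⟨x, hx⟩

end Groth.Agent.S4104
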