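import Groth.Statements.S4135
import Groth.Agent.HopfRep.ConnBialg
import Groth.Agent.Lead.PBW

set_option autoImplicit false
universe u
open TensorProduct
attribute [local instance] LieRing.ofAssociativeRing
open SGA3y

namespace Groth.Agent.S4135

attribute [local instance 100] LieRing.ofAssociativeRing

/-- Let k be a field of characteristic zero and H a cocommutative bialgebra over k which is connected
(every nonzero subcoalgebra contains 1). Then the canonical algebra homomorphism from the universal
enveloping algebra of the Lie algebra of primitive elements of H to H is bijective. -/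
theorem result (k : Type u) [Field k] [CharZero k] (H : Type u) [Ring H]
    [Bialgebra k H] [Coalgebra.IsCocomm k H] (hconn : SGA3y.IsConnectedCoalg k H) :
    Function.Bijective (UniversalEnvelopingAlgebra.lift k (SGA3y.primLie k H).incl) := by
  open Groth.Agent.HopfRep in
  classical
  let L := SGA3y.primLie k H
  let b := Module.Free.chooseBasis k L
  let _ : LinearOrder (Module.Free.ChooseBasisIndex k L) := IsWellOrder.linearOrder WellOrderingRel
  obtain ⟨B, hB⟩ := Groth.Agent.Lead.PBW.exists_basis b
  let x : Module.Free.ChooseBasisIndex k L → H := fun i => (b i : H)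
  have hx : ∀ i, Coalgebra.comul (R := k) (x i) = x i ⊗ₜ[k] 1 + 1 ⊗ₜ[k] x i := fun i => (b i).2
  have hli : LinearIndependent k x :=
    b.linearIndependent.map' L.toSubmodule.subtype (Submodule.ker_subtype _)
  let F := UniversalEnvelopingAlgebra.lift k L.incl
  have hmon : ∀ M, F (B M) = ConnBialg.z x M.1 := by
    intro M
    rw [hB, Groth.Agent.Lead.PBW.mon, map_list_prod, List.map_map]
    refine congrArg List.prod (List.map_congr_left fun i _ => ?_)
    show UniversalEnvelopingAlgebra.lift k L.incl (UniversalEnvelopingAlgebra.ι k (b i)) = _
    rw [UniversalEnvelopingAlgebra.lift_ι_apply]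
    rfl
  constructor
  · refine (injective_iff_map_eq_zero F).2 fun u hu => ?_
    have h0 : Finsupp.linearCombination k (fun M => ConnBialg.z x M.1) (B.repr u) = 0 := by
      have h1 := congrArg F (B.linearCombination_repr u)
      rw [hu, Finsupp.linearCombination_apply, map_finsuppSum] at h1
      rw [Finsupp.linearCombination_apply]
      simp only [map_smul, hmon] at h1
      exact h1
    exact B.repr.injective ((linearIndependent_iff.1 (ConnBialg.linearIndependent_z hx hli) _ h0).trans
      (map_zero B.repr).symm)
  · have hle : Algebra.adjoin k (L : Set H) ≤ F.range := by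
      refine Algebra.adjoin_le fun h hh => ⟨UniversalEnvelopingAlgebra.ι k (⟨h, hh⟩ : L), ?_⟩
      show UniversalEnvelopingAlgebra.lift k L.incl _ = h
      rw [UniversalEnvelopingAlgebra.lift_ι_apply]
      rfl
    rw [ConnBialg.adjoin_prim_eq_top hconn] at hle
    exact fun h => hle Algebra.mem_top

end Groth.Agent.S4135
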