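import Groth.Statements.S4243
import Mathlib
-- import your own Groth.Agent.* helpers here

set_option autoImplicit false
open SGA4h

namespace Groth.Agent.S4243

/-- Let k be a finite field with q elements and P a nonzero homogeneous polynomial of degree d in r+1
variables over k. If P vanishes at every point of k^{r+1} (that is, the hypersurface P = 0 in
projective r-space passes through every rational point), then d ≥ q + 1. -/
theorem result (k : Type) [Field k] [Fintype k] (r d : ℕ)
    (P : MvPolynomial (Fin (r + 1)) k) (hP : P.IsHomogeneous d) (hP0 : P ≠ 0)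
    (hvan : ∀ x : Fin (r + 1) → k, MvPolynomial.eval x P = 0) :
    Fintype.card k + 1 ≤ d := by
  classical
  by_contra hlt
  push Not at hlt
  refine hP0 (MvPolynomial.eq_zero_of_eval_eq_zero (Fin (r + 1)) k P hvan ?_)
  rw [MvPolynomial.mem_restrictDegree]
  intro s hs i
  have hdeg : ∑ j, s j = d := by
    have := hP (MvPolynomial.mem_support_iff.mp hs)
    rw [Finsupp.weight_apply, Finsupp.sum_fintype _ _ (by simp)] at this
    simpa using this
  have hle : s i ≤ d := hdeg ▸ Finset.single_le_sum (fun j _ => Nat.zero_le _) (Finset.mem_univ i)
  by_contra hbig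
  push Not at hbig
  have hsi : s i = d := by omega
  have hs' : s = Finsupp.single i d := by
    ext j
    by_cases hj : j = i
    · subst hj; simp [hsi]
    · rw [Finsupp.single_eq_of_ne hj]
      have h1 : s i + s j ≤ ∑ l, s l := by
        rw [← Finset.sum_pair (Ne.symm hj)]
        exact Finset.sum_le_sum_of_subset (Finset.subset_univ _)
      omega
  refine MvPolynomial.mem_support_iff.mp hs ?_
  have hd : 0 < d := by
    have : 0 < Fintype.card k := Fintype.card_pos
    omega
  have h := hvan (Pi.single i 1)
  rw [MvPolynomial.eval_eq', Finset.sum_eq_single s] at h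
  · have h2 : ∏ j, (Pi.single i (1 : k) : Fin (r + 1) → k) j ^ s j = 1 := Finset.prod_eq_one fun j _ => by
      by_cases hj : j = i
      · subst hj; simp
      · simp [hs', Finsupp.single_eq_of_ne hj]
    rw [h2, mul_one] at h; exact h
  · intro t ht hts
    have htd : ∑ j, t j = d := by
      have := hP (MvPolynomial.mem_support_iff.mp ht)
      rw [Finsupp.weight_apply, Finsupp.sum_fintype _ _ (by simp)] at this
      simpa using this
    obtain ⟨j, hj, htj⟩ : ∃ j, j ≠ i ∧ t j ≠ 0 := by
      by_contra hn
      push Not at hn
      apply hts
      rw [hs']; ext j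
      by_cases hj : j = i
      · subst hj
        rw [Finsupp.single_eq_same, ← htd, Finset.sum_eq_single j (fun l _ hl => hn l hl) (by simp)]
      · rw [Finsupp.single_eq_of_ne hj]; exact hn j hj
    rw [Finset.prod_eq_zero (Finset.mem_univ j) (by simp [hj, htj]), mul_zero]
  · intro hn; exact absurd hs hn

end Groth.Agent.S4243
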