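import Groth.Statements.S4337
import Groth.Agent.LinTop.Basic
import Mathlib.LinearAlgebra.TensorProduct.Quotient
import Mathlib.LinearAlgebra.TensorProduct.RightExactness
import Mathlib.RingTheory.Nakayama

set_option autoImplicit false
universe u
open LinTop

namespace Groth.Agent.S4337
open Groth.Agent.LinTop.Basic
open scoped TensorProduct

/-- Let A be an admissible ring, J an ideal of definition, and u : M -> N a homomorphism of A-modules
with N of finite type. Then u is surjective if and only if u tensored with A/J is surjective. -/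
theorem result
    (A : Type u) [CommRing A] [UniformSpace A] [IsUniformAddGroup A] [IsTopologicalRing A]
    (hA : LinTop.IsAdmissible A) (J : Ideal A) (hJ : LinTop.IsIdealOfDefinition A J)
    (M N : Type u) [AddCommGroup M] [Module A M] [AddCommGroup N] [Module A N] [Module.Finite A N]
    (u : M →ₗ[A] N) :
    Function.Surjective u ↔ Function.Surjective (u.rTensor (A ⧸ J)) := by
  refine ⟨fun h => LinearMap.rTensor_surjective _ h, fun h => ?_⟩
  refine LinearMap.range_eq_top.mp (eq_top_iff.mpr
    (Submodule.le_of_le_smul_of_le_jacobson_bot Module.Finite.fg_top (le_jacobson hA hJ) ?_))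
  intro y _
  obtain ⟨z, hz⟩ := h (y ⊗ₜ[A] (1 : A ⧸ J))
  obtain ⟨m, rfl⟩ : ∃ m, z = m ⊗ₜ[A] (1 : A ⧸ J) := by
    obtain ⟨m, hm⟩ := Submodule.mkQ_surjective _ (TensorProduct.tensorQuotEquivQuotSMul M J z)
    refine ⟨m, (TensorProduct.tensorQuotEquivQuotSMul M J).injective ?_⟩
    rw [← hm, ← map_one (Ideal.Quotient.mk J), TensorProduct.tensorQuotEquivQuotSMul_tmul_mk, one_smul]
    rfl
  have h2 := congrArg (TensorProduct.tensorQuotEquivQuotSMul N J) hz
  rw [LinearMap.rTensor_tmul, ← map_one (Ideal.Quotient.mk J), TensorProduct.tensorQuotEquivQuotSMul_tmul_mk,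
    TensorProduct.tensorQuotEquivQuotSMul_tmul_mk, one_smul, one_smul, Submodule.Quotient.eq] at h2
  refine Submodule.mem_sup.mpr ⟨u m, LinearMap.mem_range_self u m, y - u m, ?_, by abel⟩
  rw [← neg_sub]; exact neg_mem h2

end Groth.Agent.S4337
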