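import Groth.Statements.S4343
import Groth.Agent.RatMap.Basic
-- import your own Groth.Agent.* helpers here

set_option autoImplicit false
set_option backward.defeqAttrib.useBackward true
set_option backward.isDefEq.respectTransparency false
universe u
open RatMapD

namespace Groth.Agent.S4343

open AlgebraicGeometry in
open CategoryTheory in
/-- Let X, Y be S-schemes with X irreducible and Y locally of finite type over S. Two S-rational maps
from X to Y to which corresponds the same morphism Spec(O_x) -> Y, x the generic point of X, are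
equal. (The published statement has Y of finite type over S; only local finite type is used. X is
not assumed reduced.) -/
theorem result
    (S X Y : Scheme.{u}) [X.Over S] [Y.Over S] [IrreducibleSpace X]
    [LocallyOfFiniteType (Y ↘ S)] (f g : X ⤏ Y) [f.IsOver S] [g.IsOver S]
    (h : f.fromFunctionField = g.fromFunctionField) : f = g := by
  obtain ⟨f, hf, rfl⟩ := f.exists_partialMap_over S
  obtain ⟨g, hg, rfl⟩ := g.exists_partialMap_over S
  refine Scheme.PartialMap.toRationalMap_eq_iff.mpr ?_
  have hd : Dense ((f.domain ⊓ g.domain : X.Opens) : Set X) :=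
    f.dense_domain.inter_of_isOpen_left g.dense_domain f.domain.2
  let f' := f.restrict _ hd inf_le_left
  let g' := g.restrict _ hd inf_le_right
  have hη : genericPoint X ∈ f.domain ⊓ g.domain :=
    (genericPoint_specializes _).mem_open (f.domain ⊓ g.domain).2 hd.nonempty.choose_spec
  have h' : f'.fromSpecStalkOfMem hη = g'.fromSpecStalkOfMem hη := by
    rw [Scheme.PartialMap.fromSpecStalkOfMem_restrict, Scheme.PartialMap.fromSpecStalkOfMem_restrict]
    exact h
  have hf' : f.hom ≫ (Y ↘ S) = f.domain.ι ≫ (X ↘ S) := Scheme.PartialMap.isOver_iff.mp hf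
  have hg' : g.hom ≫ (Y ↘ S) = g.domain.ι ≫ (X ↘ S) := Scheme.PartialMap.isOver_iff.mp hg
  let a : ((f.domain ⊓ g.domain : X.Opens) : Scheme) ⟶ Y := X.homOfLE inf_le_left ≫ f.hom
  let b : ((f.domain ⊓ g.domain : X.Opens) : Scheme) ⟶ Y := X.homOfLE inf_le_right ≫ g.hom
  have hS : a ≫ (Y ↘ S) = b ≫ (Y ↘ S) := by simp [a, b, hf', hg']
  have h'' : (f.domain ⊓ g.domain).fromSpecStalkOfMem _ hη ≫ a =
      (f.domain ⊓ g.domain).fromSpecStalkOfMem _ hη ≫ b := h'
  obtain ⟨U, hU, e⟩ := Groth.Agent.RatMap.Basic.spread_out_unique (Y ↘ S) a b hS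
    (x := ⟨genericPoint X, hη⟩) (by
      simpa only [Scheme.Opens.fromSpecStalkOfMem, Spec.map_inv, Category.assoc,
        IsIso.eq_inv_comp, IsIso.hom_inv_id_assoc] using h'')
  refine ⟨(f.domain ⊓ g.domain).ι ''ᵁ U, ((f.domain ⊓ g.domain).ι ''ᵁ U).2.dense
      ⟨_, ⟨_, hU, rfl⟩⟩,
      ((Set.image_subset_range _ _).trans_eq (Subtype.range_val)).trans inf_le_left,
      ((Set.image_subset_range _ _).trans_eq (Subtype.range_val)).trans inf_le_right, ?_⟩
  rw [← cancel_epi (Scheme.Hom.isoImage _ _).hom]
  simp only [a, b, Scheme.PartialMap.restrict_hom, ← Category.assoc] at e ⊢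
  convert! e using 2 <;> rw [← cancel_mono (Scheme.Opens.ι _)] <;> simp

end Groth.Agent.S4343
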