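import Groth.Statements.S4344
-- import your own Groth.Agent.* helpers here

set_option autoImplicit false
universe u
open RatMapD

namespace Groth.Agent.S4344

open AlgebraicGeometry in
open CategoryTheory in
/-- Let X be a reduced S-scheme, Y an S-scheme separated over S and f an S-rational map from X to Y.
There is a representative g of f which is an S-morphism and of which every S-morphism representing f
is a restriction; in particular g is the unique S-morphism of the class of f defined on the largest
open where some S-representative is defined. (The published statement speaks of the domain of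
definition among all representatives; over a base that is not separated that domain can be larger
than the one on which an S-representative exists, and this row takes the latter.) -/
theorem result
    (S X Y : Scheme.{u}) [X.Over S] [Y.Over S] [IsReduced X] [IsSeparated (Y ↘ S)]
    (f : X ⤏ Y) [f.IsOver S] :
    ∃ g : X.PartialMap Y, g.IsOver S ∧ g.toRationalMap = f ∧
      ∀ h : X.PartialMap Y, h.IsOver S → h.toRationalMap = f →
        ∃ hle : h.domain ≤ g.domain, h = g.restrict h.domain h.dense_domain hle := by
  let I := {h : X.PartialMap Y // h.IsOver S ∧ h.toRationalMap = f}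
  obtain ⟨g₀, hg₀, hg₀'⟩ := f.exists_partialMap_over S
  let U : I → X.Opens := fun i => i.1.domain
  let 𝒰 := Scheme.Opens.iSupOpenCover U
  have compat : ∀ i j : I, Limits.pullback.fst (𝒰.f i) (𝒰.f j) ≫ i.1.hom =
      Limits.pullback.snd (𝒰.f i) (𝒰.f j) ≫ j.1.hom := by
    intro i j
    have := i.2.1
    have := j.2.1
    have e := (Scheme.PartialMap.equiv_iff_of_isSeparated (S := S) (f := i.1) (g := j.1)).mp
      (Scheme.PartialMap.toRationalMap_eq_iff.mp (i.2.2.trans j.2.2.symm))
    refine (cancel_epi (isPullback_opens_inf_le (le_iSup U i) (le_iSup U j)).isoPullback.hom).mp ?_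
    simp only [𝒰, Scheme.Opens.iSupOpenCover, IsPullback.isoPullback_hom_fst_assoc,
      IsPullback.isoPullback_hom_snd_assoc]
    simpa [U] using! e
  let φ := 𝒰.glueMorphisms (fun i => i.1.hom) compat
  have hφ : ∀ i : I, X.homOfLE (le_iSup U i) ≫ φ = i.1.hom :=
    fun i => 𝒰.ι_glueMorphisms _ compat i
  have hd : Dense ((⨆ i, U i : X.Opens) : Set X) :=
    g₀.dense_domain.mono (le_iSup U ⟨g₀, hg₀, hg₀'⟩)
  let g : X.PartialMap Y := ⟨⨆ i, U i, hd, φ⟩
  have hr : ∀ i : I, g.restrict i.1.domain i.1.dense_domain (le_iSup U i) = i.1 := fun i =>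
    Scheme.PartialMap.ext _ _ rfl (by exact (hφ i).trans (by erw [Scheme.isoOfEq_rfl, Iso.refl_hom, Category.id_comp]))
  refine ⟨g, ?_, ?_, fun h h₁ h₂ => ⟨le_iSup U ⟨h, h₁, h₂⟩, (hr ⟨h, h₁, h₂⟩).symm⟩⟩
  · rw [Scheme.PartialMap.isOver_iff]
    refine Scheme.Cover.hom_ext 𝒰 _ _ fun i => ?_
    have := i.2.1
    show X.homOfLE (le_iSup U i) ≫ φ ≫ (Y ↘ S) = X.homOfLE (le_iSup U i) ≫ _
    rw [reassoc_of% (hφ i)]
    simp [g, U]
  · rw [← g.restrict_toRationalMap _ g₀.dense_domain (le_iSup U ⟨g₀, hg₀, hg₀'⟩),
      hr ⟨g₀, hg₀, hg₀'⟩, hg₀']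

end Groth.Agent.S4344
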