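import Groth.Statements.S4345
import Groth.Agent.Lead.DVR.LocSub
-- import your own Groth.Agent.* helpers here

set_option autoImplicit false
universe u
open SchLoc

namespace Groth.Agent.S4345

/-- Let A and B be subrings of a field R, C the subring generated by A and B, and for a subring E let
L(E) be the set of local subrings E_p of R, p a prime ideal of E. The following are equivalent: (i)
for every local subring Q of R containing A and B, the localizations of A and of B at the traces of
the maximal ideal of Q coincide; (ii) for every prime ideal r of C the localizations of A and B at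
the traces of r coincide; (iii) two members of L(A) and L(B) dominated by a common local subring of
R are equal; (iv) the intersection of L(A) and L(B) is L(C). -/
theorem result
    (R : Type u) [Field R] (A B : Subring R) :
    [ ∀ (Q : LocalSubring R) (hA : A ≤ Q.toSubring) (hB : B ≤ Q.toSubring),
        LocalSubring.ofPrime A ((IsLocalRing.maximalIdeal Q.toSubring).comap (Subring.inclusion hA)) =
          LocalSubring.ofPrime B ((IsLocalRing.maximalIdeal Q.toSubring).comap (Subring.inclusion hB)),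
      ∀ r : PrimeSpectrum ↥(A ⊔ B),
        LocalSubring.ofPrime A (r.asIdeal.comap (Subring.inclusion (le_sup_left : A ≤ A ⊔ B))) =
          LocalSubring.ofPrime B (r.asIdeal.comap (Subring.inclusion (le_sup_right : B ≤ A ⊔ B))),
      ∀ (p : PrimeSpectrum A) (q : PrimeSpectrum B),
        (∃ Q : LocalSubring R, LocalSubring.ofPrime A p.asIdeal ≤ Q ∧ LocalSubring.ofPrime B q.asIdeal ≤ Q) →
          LocalSubring.ofPrime A p.asIdeal = LocalSubring.ofPrime B q.asIdeal,
      Set.range (fun p : PrimeSpectrum A ↦ LocalSubring.ofPrime A p.asIdeal) ∩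
          Set.range (fun q : PrimeSpectrum B ↦ LocalSubring.ofPrime B q.asIdeal) =
        Set.range (fun r : PrimeSpectrum ↥(A ⊔ B) ↦ LocalSubring.ofPrime (A ⊔ B) r.asIdeal) ].TFAE := by
  have hcomap : ∀ (Q : LocalSubring R) (hA : A ≤ Q.toSubring) (hB : B ≤ Q.toSubring),
      ((IsLocalRing.maximalIdeal Q.toSubring).comap (Subring.inclusion (sup_le hA hB))).comap
        (Subring.inclusion (le_sup_left : A ≤ A ⊔ B)) =
      (IsLocalRing.maximalIdeal Q.toSubring).comap (Subring.inclusion hA) ∧
      ((IsLocalRing.maximalIdeal Q.toSubring).comap (Subring.inclusion (sup_le hA hB))).comap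
        (Subring.inclusion (le_sup_right : B ≤ A ⊔ B)) =
      (IsLocalRing.maximalIdeal Q.toSubring).comap (Subring.inclusion hB) := fun Q hA hB =>
    ⟨(Ideal.comap_comap _ _).trans rfl, (Ideal.comap_comap _ _).trans rfl⟩
  have hcongr : ∀ (S : Subring R) (I J : Ideal S) [I.IsPrime] [J.IsPrime], I = J →
      LocalSubring.ofPrime S I = LocalSubring.ofPrime S J := by
    intro S I J _ _ h; subst h; rfl
  tfae_have 1 → 2 := by
    intro h r
    let Q := LocalSubring.ofPrime (A ⊔ B) r.asIdeal
    have hC := LocalSubring.le_ofPrime (A ⊔ B) r.asIdeal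
    have hr : r.asIdeal = (IsLocalRing.maximalIdeal Q.toSubring).comap (Subring.inclusion hC) :=
      (Groth.Agent.Lead.DVR.LocSub.ofPrime_le_iff.mp (le_refl Q)).2
    have h1 := h Q (le_sup_left.trans hC) (le_sup_right.trans hC)
    rw [hcongr A _ _ ((congrArg (Ideal.comap _) hr).trans (hcomap Q (le_sup_left.trans hC) (le_sup_right.trans hC)).1),
      hcongr B _ _ ((congrArg (Ideal.comap _) hr).trans (hcomap Q (le_sup_left.trans hC) (le_sup_right.trans hC)).2)]
    exact h1
  tfae_have 2 → 3 := by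
    rintro h p q ⟨Q, hp, hq⟩
    obtain ⟨hA, hp'⟩ := Groth.Agent.Lead.DVR.LocSub.ofPrime_le_iff.mp hp
    obtain ⟨hB, hq'⟩ := Groth.Agent.Lead.DVR.LocSub.ofPrime_le_iff.mp hq
    have h1 := h ⟨(IsLocalRing.maximalIdeal Q.toSubring).comap (Subring.inclusion (sup_le hA hB)), inferInstance⟩
    rw [hcongr A _ _ (hp'.trans (hcomap Q hA hB).1.symm), hcongr B _ _ (hq'.trans (hcomap Q hA hB).2.symm)]
    exact h1
  tfae_have 3 → 1 := by
    intro h Q hA hB
    exact h ⟨_, Ideal.comap_isPrime (Subring.inclusion hA) _⟩ ⟨_, Ideal.comap_isPrime (Subring.inclusion hB) _⟩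
      ⟨Q, Groth.Agent.Lead.DVR.LocSub.exists_prime hA, Groth.Agent.Lead.DVR.LocSub.exists_prime hB⟩
  tfae_have 3 → 4 := by
    intro h
    have key : ∀ (E : LocalSubring R) (p : PrimeSpectrum A) (q : PrimeSpectrum B),
        LocalSubring.ofPrime A p.asIdeal = E → LocalSubring.ofPrime B q.asIdeal = E →
        ∀ r : PrimeSpectrum ↥(A ⊔ B), LocalSubring.ofPrime (A ⊔ B) r.asIdeal ≤ E →
          LocalSubring.ofPrime (A ⊔ B) r.asIdeal = E := by
      intro E p q hp hq r hr
      refine le_antisymm hr ?_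
      obtain ⟨hC, hr'⟩ := Groth.Agent.Lead.DVR.LocSub.ofPrime_le_iff.mp hr
      obtain ⟨hA, hp'⟩ := Groth.Agent.Lead.DVR.LocSub.ofPrime_le_iff.mp hp.le
      rw [← hp]
      refine Groth.Agent.Lead.DVR.LocSub.ofPrime_le_iff.mpr ⟨le_sup_left.trans (LocalSubring.le_ofPrime _ _), ?_⟩
      have h2 := (Groth.Agent.Lead.DVR.LocSub.ofPrime_le_iff.mp (le_refl (LocalSubring.ofPrime (A ⊔ B) r.asIdeal))).2
      rw [hp']
      calc (IsLocalRing.maximalIdeal E.toSubring).comap (Subring.inclusion hA)
          = ((IsLocalRing.maximalIdeal E.toSubring).comap (Subring.inclusion hC)).comap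
              (Subring.inclusion (le_sup_left : A ≤ A ⊔ B)) := rfl
        _ = r.asIdeal.comap (Subring.inclusion (le_sup_left : A ≤ A ⊔ B)) := by rw [← hr']
        _ = _ := (congrArg (Ideal.comap (Subring.inclusion (le_sup_left : A ≤ A ⊔ B))) h2).trans rfl
    refine Set.Subset.antisymm ?_ ?_
    · rintro E ⟨⟨p, hp⟩, q, hq⟩
      have hA : A ≤ E.toSubring := (LocalSubring.le_ofPrime A p.asIdeal).trans hp.le.1
      have hB : B ≤ E.toSubring := (LocalSubring.le_ofPrime B q.asIdeal).trans hq.le.1
      exact ⟨⟨_, Ideal.comap_isPrime (Subring.inclusion (sup_le hA hB)) _⟩,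
        key E p q hp hq _ (Groth.Agent.Lead.DVR.LocSub.exists_prime (sup_le hA hB))⟩
    · rintro _ ⟨r, rfl⟩
      have hC := LocalSubring.le_ofPrime (A ⊔ B) r.asIdeal
      let E := LocalSubring.ofPrime (A ⊔ B) r.asIdeal
      let p : PrimeSpectrum A := ⟨_, Ideal.comap_isPrime (Subring.inclusion (le_sup_left.trans hC : A ≤ E.toSubring)) (IsLocalRing.maximalIdeal _)⟩
      let q : PrimeSpectrum B := ⟨_, Ideal.comap_isPrime (Subring.inclusion (le_sup_right.trans hC : B ≤ E.toSubring)) (IsLocalRing.maximalIdeal _)⟩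
      have hp : LocalSubring.ofPrime A p.asIdeal ≤ E := Groth.Agent.Lead.DVR.LocSub.exists_prime _
      have hq : LocalSubring.ofPrime B q.asIdeal ≤ E := Groth.Agent.Lead.DVR.LocSub.exists_prime _
      have he := h p q ⟨E, hp, hq⟩
      let F := LocalSubring.ofPrime A p.asIdeal
      have hFA : A ≤ F.toSubring := LocalSubring.le_ofPrime A p.asIdeal
      have hFB : B ≤ F.toSubring := (LocalSubring.le_ofPrime B q.asIdeal).trans he.ge.1
      have hEF : E ≤ F := by
        refine Groth.Agent.Lead.DVR.LocSub.ofPrime_le_iff.mpr ⟨sup_le hFA hFB, ?_⟩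
        have h2 := (Groth.Agent.Lead.DVR.LocSub.ofPrime_le_iff.mp (le_refl E)).2
        have h4 : (IsLocalRing.maximalIdeal E.toSubring).comap (Subring.inclusion hp.1) = IsLocalRing.maximalIdeal F.toSubring :=
          ((IsLocalRing.local_hom_TFAE (Subring.inclusion hp.1)).out 0 4).mp hp.2
        have h3 := h4.symm
        rw [h3]
        exact h2.trans rfl
      exact ⟨⟨p, le_antisymm hp hEF⟩, q, he.symm.trans (le_antisymm hp hEF)⟩
  tfae_have 4 → 2 := by
    intro h r
    obtain ⟨⟨p, hp⟩, q, hq⟩ := h.ge ⟨r, rfl⟩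
    obtain ⟨hA, hp'⟩ := Groth.Agent.Lead.DVR.LocSub.ofPrime_le_iff.mp hp.le
    obtain ⟨hB, hq'⟩ := Groth.Agent.Lead.DVR.LocSub.ofPrime_le_iff.mp hq.le
    have hr := (Groth.Agent.Lead.DVR.LocSub.ofPrime_le_iff.mp (le_refl (LocalSubring.ofPrime (A ⊔ B) r.asIdeal))).2
    rw [hcongr A _ p.asIdeal ((congrArg (Ideal.comap _) hr).trans hp'.symm),
      hcongr B _ q.asIdeal ((congrArg (Ideal.comap _) hr).trans hq'.symm)]
    exact hp.trans hq.symm
  tfae_finish

end Groth.Agent.S4345
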