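import Groth.Statements.S4346
import Groth.Agent.Lead.DVR.SchLoc
-- import your own Groth.Agent.* helpers here

set_option autoImplicit false
universe u
open SchLoc

namespace Groth.Agent.S4346

open AlgebraicGeometry in
/-- On an integral separated scheme distinct points have distinct local rings inside the function field. -/
theorem result (X : Scheme.{u}) [IsIntegral X] [X.IsSeparated] :
    Function.Injective (fun x : X ↦ (algebraMap (X.presheaf.stalk x) X.functionField).range) := by
  intro x y h
  exact ((Groth.Agent.Lead.DVR.SchLoc.specializes_of_range_le (x := y) (y := x) h.ge).antisymm
    (Groth.Agent.Lead.DVR.SchLoc.specializes_of_range_le (x := x) (y := y) h.le)).eq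

end Groth.Agent.S4346
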