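import Groth.Statements.S4347
import Groth.Agent.Adic.Rig.Permanence
import Mathlib.RingTheory.Localization.Basic
import Mathlib.RingTheory.Flat.Localization

set_option autoImplicit false
universe u
open AdicRing

namespace Groth.Agent.S4347

/-- The completed ring of fractions of A with denominators in a multiplicative subset being the J-adic
completion of the localization of A at that subset: Let A be a Noetherian ring with the J-adic
topology and S' a multiplicative subset contained in the multiplicative subset S. Then the canonical
map from the completed ring of fractions of A with denominators in S' to the one with denominators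
in S is flat. (The published statement assumes A adic, i.e. also separated and complete; that is not
needed for this assertion.) -/
theorem result
    (A : Type u) [CommRing A] [IsNoetherianRing A] (J : Ideal A) (S' S : Submonoid A) (hS : S' ≤ S)
    (g : Localization S' →+* Localization S)
    (hg : g.comp (algebraMap A (Localization S')) = algebraMap A (Localization S))
    (hJ : (J.map (algebraMap A (Localization S'))).map g ≤ J.map (algebraMap A (Localization S))) :
    (FSch.complMap (J.map (algebraMap A (Localization S'))) (J.map (algebraMap A (Localization S)))
      g hJ).Flat := by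
  let L := Localization S'
  let R := Localization S
  let JL := J.map (algebraMap A L)
  let JR := J.map (algebraMap A R)
  let Lh := AdicCompletion JL L
  let Rh := AdicCompletion JR R
  let θ : Lh →+* Rh := FSch.complMap JL JR g hJ
  have hLn : IsNoetherianRing L := IsLocalization.isNoetherianRing S' _ inferInstance
  have hRn : IsNoetherianRing R := IsLocalization.isNoetherianRing S _ inferInstance
  have hLhn : IsNoetherianRing Lh :=
    Completion.NoetherianComplete.isNoetherianRing_adicCompletion JL (IsNoetherian.noetherian JL)
  have hRhn : IsNoetherianRing Rh :=
    Completion.NoetherianComplete.isNoetherianRing_adicCompletion JR (IsNoetherian.noetherian JR)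
  have hcomm : θ.comp (algebraMap L Lh) = (algebraMap R Rh).comp g := RingHom.ext fun x => by
    refine AdicCompletion.ext_evalₐ fun n => ?_
    show AdicCompletion.evalₐ JR n (FSch.complMap JL JR g hJ (algebraMap L Lh x)) = _
    simp only [FSch.complMap, AdicCompletion.evalₐ_liftRingHom]
    rfl
  have hgflat : g.Flat := by
    let _ : Algebra L R := g.toAlgebra
    have : IsScalarTower A L R := IsScalarTower.of_algebraMap_eq' hg.symm
    have : Module.Flat A R := IsLocalization.flat R S
    exact (Module.flat_iff_of_isLocalization L S' R).mpr this
  have hRh : IsAdicComplete (JR.map (algebraMap R Rh)) Rh := by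
    have h := Adic.Base.Trunc.isAdicComplete_completion (R := A) (C := R) (I := J) (IsNoetherian.noetherian J)
    rwa [← Adic.Base.Trunc.completion_map] at h
  have hflat : (θ.comp (algebraMap L Lh)).Flat :=
    hcomm ▸ hgflat.comp (RingHom.flat_algebraMap_iff.mpr (AdicCompletion.flat_of_isNoetherian JR))
  let _ : Algebra Lh Rh := θ.toAlgebra
  let _ : Algebra L Rh := (θ.comp (algebraMap L Lh)).toAlgebra
  have : IsScalarTower L Lh Rh := IsScalarTower.of_algebraMap_eq' rfl
  have : Module.Flat L Rh := hflat
  refine Adic.Rig.Permanence.flat_of_base JL (fun s => ?_) ?_
  · obtain ⟨c, hc⟩ := Adic.Base.Trunc.exists_sub_mem (IsNoetherian.noetherian JL) 1 s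
    exact ⟨c, by rwa [pow_one] at hc⟩
  · refine le_trans ?_ (IsAdicComplete.le_jacobson_bot (JR.map (algebraMap R Rh)))
    show (JL.map (algebraMap L Lh)).map θ ≤ _
    rw [Ideal.map_map, hcomm, ← Ideal.map_map]
    exact Ideal.map_mono hJ

end Groth.Agent.S4347
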