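import Groth.Statements.S4350
import Groth.Agent.ModStalk.Lift
import Mathlib.AlgebraicGeometry.FunctionField
import Mathlib.LinearAlgebra.Dimension.Free

set_option autoImplicit false
universe u
open TorSh

namespace Groth.Agent.S4350

open AlgebraicGeometry CategoryTheory Opposite in
theorem preimage_eq_bot {X : Scheme.{u}} [IsIntegral X] {V : X.Opens} (h : genericPoint X ∉ V) : V = ⊥ := by
  ext x
  simp only [TopologicalSpace.Opens.coe_bot, Set.mem_empty_iff_false, iff_false]
  exact fun hx => h ((genericPoint_specializes x).mem_open V.isOpen hx)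

open AlgebraicGeometry CategoryTheory Opposite in
theorem subsingleton_push {X Y : Scheme.{u}} (j : Y ⟶ X) {V : X.Opens} (hV : V = ⊥) :
    Subsingleton Γ(Y, j ⁻¹ᵁ V) := by
  subst hV
  exact CommRingCat.subsingleton_of_isTerminal Y.sheaf.isTerminalOfEmpty

open AlgebraicGeometry CategoryTheory Opposite in
/-- The value at the generic point, as a section. -/
noncomputable def val (X : Scheme.{u}) [IsIntegral X] (F : X.Modules)
    (ψ : F.presheaf.stalk (genericPoint X) →ₗ[X.presheaf.stalk (genericPoint X)] X.presheaf.stalk (genericPoint X))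
    (V : X.Opens) : Γ(F, V) →+ Γ(Spec (X.presheaf.stalk (genericPoint X)), X.fromSpecStalk (genericPoint X) ⁻¹ᵁ V) :=
  open Classical in if h : genericPoint X ∈ V then
    (((Scheme.ΓSpecIso (X.presheaf.stalk (genericPoint X))).inv ≫
      (Spec (X.presheaf.stalk (genericPoint X))).presheaf.map (homOfLE le_top).op).hom.toAddMonoidHom).comp
      (ψ.toAddMonoidHom.comp (F.presheaf.germ V (genericPoint X) h).hom)
  else 0

open AlgebraicGeometry CategoryTheory Opposite in
theorem val_of_mem (X : Scheme.{u}) [IsIntegral X] (F : X.Modules)
    (ψ : F.presheaf.stalk (genericPoint X) →ₗ[X.presheaf.stalk (genericPoint X)] X.presheaf.stalk (genericPoint X))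
    (V : X.Opens) (h : genericPoint X ∈ V) (s : Γ(F, V)) :
    val X F ψ V s = (Spec (X.presheaf.stalk (genericPoint X))).presheaf.map (homOfLE le_top).op
      ((Scheme.ΓSpecIso (X.presheaf.stalk (genericPoint X))).inv (ψ (F.presheaf.germ V (genericPoint X) h s))) := by
  rw [val, dif_pos h]
  rfl

open AlgebraicGeometry CategoryTheory Opposite in
theorem val_res (X : Scheme.{u}) [IsIntegral X] (F : X.Modules)
    (ψ : F.presheaf.stalk (genericPoint X) →ₗ[X.presheaf.stalk (genericPoint X)] X.presheaf.stalk (genericPoint X))
    {V W : X.Opens} (i : W ≤ V) (s : Γ(F, V)) :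
    val X F ψ W (F.presheaf.map (homOfLE i).op s) =
      (Spec (X.presheaf.stalk (genericPoint X))).presheaf.map
        (homOfLE (Scheme.Hom.preimage_mono (X.fromSpecStalk (genericPoint X)) i)).op (val X F ψ V s) := by
  by_cases h : genericPoint X ∈ W
  · rw [val_of_mem X F ψ W h, val_of_mem X F ψ V (i h), TopCat.Presheaf.germ_res_apply]
    exact (Groth.Agent.ModStalk.res_resX _ _ _).symm
  · exact (subsingleton_push _ (preimage_eq_bot h)).elim _ _

open AlgebraicGeometry CategoryTheory Opposite in
theorem val_smul (X : Scheme.{u}) [IsIntegral X] (F : X.Modules)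
    (ψ : F.presheaf.stalk (genericPoint X) →ₗ[X.presheaf.stalk (genericPoint X)] X.presheaf.stalk (genericPoint X))
    (V : X.Opens) (r : Γ(X, V)) (s : Γ(F, V)) :
    val X F ψ V (r • s) = (X.fromSpecStalk (genericPoint X)).app V r * val X F ψ V s := by
  by_cases h : genericPoint X ∈ V
  · rw [val_of_mem X F ψ V h, val_of_mem X F ψ V h, Groth.Agent.ModStalk.germ_smul, map_smul, smul_eq_mul,
      map_mul, map_mul, Scheme.fromSpecStalk_app h]
    rfl
  · exact (subsingleton_push _ (preimage_eq_bot h)).elim _ _

open AlgebraicGeometry CategoryTheory Opposite in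
theorem germ_generic_injective (X : Scheme.{u}) [IsIntegral X] (F : X.Modules) [F.IsQuasicoherent]
    (hF : TorSh.IsTorsionFree F) {V : X.Opens} (h : genericPoint X ∈ V) (s : Γ(F, V))
    (hs : F.presheaf.germ V (genericPoint X) h s = 0) : s = 0 := by
  refine Groth.Agent.ModStalk.section_eq_zero F s fun x hx => ?_
  obtain ⟨_, ⟨U, hU, rfl⟩, hxU, hUV⟩ :=
    X.isBasis_affineOpens.exists_subset_of_mem_open hx V.isOpen
  have hη : genericPoint X ∈ U := (genericPoint_specializes x).mem_open U.isOpen hxU
  have h0 : F.presheaf.germ U (genericPoint X) hη (F.presheaf.map (homOfLE hUV).op s) = 0 :=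
    (TopCat.Presheaf.germ_res_apply ..).trans hs
  obtain ⟨c, hc, hc0⟩ := Groth.Agent.ModStalk.exists_smul_eq_zero_of_germ F hU (genericPoint X) hη _ h0
  have h1 := congrArg (F.presheaf.germ U x hxU) hc0
  rw [Groth.Agent.ModStalk.germ_smul, map_zero] at h1
  erw [TopCat.Presheaf.germ_res_apply] at h1
  have hne : X.presheaf.germ U x hxU c ≠ 0 := by
    intro h2
    have h3 := germ_injective_of_isIntegral X x hxU (h2.trans (map_zero _).symm)
    rw [h3, Scheme.basicOpen_zero] at hc
    exact hc
  have := hF x
  exact smul_right_injective _ hne (h1.trans (smul_zero _).symm)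

open AlgebraicGeometry in
open CategoryTheory in
/-- Direct assertion (the sheaf of rational functions of the integral scheme X being the direct image of
the structure sheaf of Spec of the function field under its canonical morphism to X). On an integral
scheme, a quasi-coherent torsion-free O_X-module of rank 1, i.e. whose stalk at the generic point is
one-dimensional over the function field (for instance an invertible module), is isomorphic to a
sub-O_X-module of the sheaf of rational functions. (The published statement adds a converse, which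
for the zero submodule does not hold as stated; it is not included here.) -/
theorem result
    (X : Scheme.{u}) [IsIntegral X] (F : X.Modules) [Coh.IsQCoh F] (hF : TorSh.IsTorsionFree F)
    (h1 : Module.finrank (X.presheaf.stalk (genericPoint X)) (F.presheaf.stalk (genericPoint X)) = 1) :
    ∃ i : F ⟶ (Scheme.Modules.pushforward (X.fromSpecStalk (genericPoint X))).obj
        (Coh.structureModule (Spec (X.presheaf.stalk (genericPoint X)))), Mono i := by
  let η := genericPoint X
  let K := X.presheaf.stalk η
  obtain ⟨ψ⟩ : Nonempty (F.presheaf.stalk η ≃ₗ[K] K) := by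
    have : Module.finrank X.functionField (F.presheaf.stalk η) = 1 := h1
    have hfd : FiniteDimensional X.functionField (F.presheaf.stalk η) :=
      FiniteDimensional.of_finrank_eq_succ this
    exact ⟨(LinearEquiv.ofFinrankEq (R := X.functionField) _ _ (this.trans (Module.finrank_self _).symm))⟩
  let N := (AlgebraicGeometry.Scheme.Modules.pushforward (X.fromSpecStalk η)).obj (Coh.structureModule (Spec K))
  let φ : F.val ⟶ N.val := PresheafOfModules.homMk
    { app := fun V => AddCommGrpCat.ofHom (val X F ψ.toLinearMap V.unop)
      naturality := fun V W i => by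
        ext s
        exact val_res X F ψ.toLinearMap i.unop.le s }
    (fun V r s => val_smul X F ψ.toLinearMap V.unop r s)
  let i : F ⟶ N := ⟨φ⟩
  have hinj : ∀ V : X.Opens, Function.Injective (i.app V) := by
    intro V
    rw [injective_iff_map_eq_zero]
    intro s hs
    by_cases h : η ∈ V
    · refine germ_generic_injective X F hF h s (ψ.injective ?_)
      rw [map_zero]
      have h2 : val X F ψ.toLinearMap V s = 0 := hs
      rw [val_of_mem X F _ V h] at h2
      have htop : X.fromSpecStalk η ⁻¹ᵁ V = ⊤ :=
        AlgebraicGeometry.Scheme.preimage_eq_top_of_closedPoint_mem _ (by rw [AlgebraicGeometry.Scheme.fromSpecStalk_closedPoint]; exact h)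
      have h3 := congrArg ((Spec K).presheaf.map (homOfLE htop.ge).op) h2
      rw [map_zero, Groth.Agent.ModStalk.res_resX, show (homOfLE _).op = 𝟙 (Opposite.op (⊤ : (Spec K).Opens)) from rfl,
        CategoryTheory.Functor.map_id] at h3
      exact (AlgebraicGeometry.Scheme.ΓSpecIso K).commRingCatIsoToRingEquiv.symm.injective (h3.trans (map_zero _).symm)
    · refine Groth.Agent.ModStalk.section_eq_zero F s fun x hx => ?_
      rw [preimage_eq_bot h] at hx
      exact hx.elim
  refine ⟨i, ⟨fun g g' e => AlgebraicGeometry.Scheme.Modules.hom_ext g g' fun V => ?_⟩⟩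
  ext s
  exact hinj V (congrArg (fun k => AlgebraicGeometry.Scheme.Modules.Hom.app k V s) e)

end Groth.Agent.S4350
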