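import Groth.Statements.S4361
import Mathlib.AlgebraicGeometry.Morphisms.UniversallyClosed
import Mathlib.AlgebraicGeometry.Morphisms.Separated
import Mathlib.AlgebraicGeometry.Morphisms.Immersion
import Mathlib.AlgebraicGeometry.Morphisms.FiniteType
import Mathlib.AlgebraicGeometry.Morphisms.QuasiSeparated
import Mathlib.AlgebraicGeometry.Noetherian
import Mathlib.AlgebraicGeometry.Limits
import Mathlib.AlgebraicGeometry.ValuativeCriterion
import Mathlib.AlgebraicGeometry.PullbackCarrier
import Mathlib.AlgebraicGeometry.FunctionField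
import Mathlib.Topology.Algebra.ClopenNhdofOne
import Mathlib.RingTheory.Ideal.Height
import Mathlib.RingTheory.Ideal.KrullsHeightTheorem

set_option autoImplicit false
universe u
open FinCond

namespace Groth.Agent.S4361
open CategoryTheory CategoryTheory.Limits AlgebraicGeometry TopologicalSpace

open AlgebraicGeometry in
open CategoryTheory in
/-- Let f : X -> Y and g : Y -> Z be morphisms whose composite is quasi-compact, and suppose the
underlying space of X is locally Noetherian (every point has an open neighbourhood which is a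
Noetherian topological space). Then f is quasi-compact. (The published statement also covers the
case g separated, which is the standard cancellation property; this row states only the case of a
locally Noetherian source.) -/
theorem result
    {X Y Z : Scheme.{u}} (f : X ⟶ Y) (g : Y ⟶ Z) [QuasiCompact (f ≫ g)]
    (hX : ∀ x : X, ∃ U : X.Opens, x ∈ U ∧ TopologicalSpace.NoetherianSpace U) :
    QuasiCompact f := by
  refine ⟨fun V hV hVc => ?_⟩
  obtain ⟨s, hs⟩ := (hVc.image g.continuous).elim_finite_subcover (fun W : Z.affineOpens => ((W : Z.Opens) : Set Z)) (fun W => W.1.2) (fun z _ => by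
    obtain ⟨_, ⟨W, hW, rfl⟩, hzW, -⟩ := Z.isBasis_affineOpens.exists_subset_of_mem_open (Set.mem_univ z) isOpen_univ
    exact Set.mem_iUnion.mpr ⟨⟨W, hW⟩, hzW⟩)
  have hC : IsCompact (⋃ W ∈ s, (f ≫ g) ⁻¹' ((W : Z.Opens) : Set Z)) :=
    s.isCompact_biUnion fun W _ => (f ≫ g).isCompact_preimage W.2.isCompact
  choose O hO hON using hX
  obtain ⟨t, ht⟩ := hC.elim_finite_subcover (fun x => (O x : Set X)) (fun x => (O x).2) (fun x _ => Set.mem_iUnion.mpr ⟨x, hO x⟩)
  have heq : f ⁻¹' V = ⋃ x ∈ t, ((O x : Set X) ∩ f ⁻¹' V) := by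
    ext p; simp only [Set.mem_iUnion, Set.mem_inter_iff, exists_prop]
    refine ⟨fun hp => ?_, fun ⟨x, _, _, h⟩ => h⟩
    have hp' : (f ≫ g) p ∈ g '' V := ⟨f p, hp, (Scheme.Hom.comp_apply f g p).symm⟩
    have : p ∈ ⋃ W ∈ s, (f ≫ g) ⁻¹' ((W : Z.Opens) : Set Z) := by
      simpa using hs hp'
    obtain ⟨x, hx, hpx⟩ := Set.mem_iUnion₂.mp (ht this)
    exact ⟨x, hx, hpx, hp⟩
  rw [heq]
  refine t.isCompact_biUnion fun x _ => ?_
  have := hON x
  have h1 := (NoetherianSpace.isCompact (Subtype.val ⁻¹' (f ⁻¹' V) : Set (O x))).image continuous_subtype_val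
  exact (Subtype.image_preimage_coe (SetLike.coe (O x)) _) ▸ h1

end Groth.Agent.S4361
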