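import Groth.Statements.S4360
import Mathlib.AlgebraicGeometry.Morphisms.UniversallyClosed
import Mathlib.AlgebraicGeometry.Morphisms.Separated
import Mathlib.AlgebraicGeometry.Morphisms.Immersion
import Mathlib.AlgebraicGeometry.Morphisms.FiniteType
import Mathlib.AlgebraicGeometry.Morphisms.QuasiSeparated
import Mathlib.AlgebraicGeometry.Noetherian
import Mathlib.AlgebraicGeometry.Limits
import Mathlib.AlgebraicGeometry.ValuativeCriterion
import Mathlib.AlgebraicGeometry.PullbackCarrier
import Mathlib.AlgebraicGeometry.FunctionField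
import Mathlib.Topology.Algebra.ClopenNhdofOne
import Mathlib.RingTheory.Ideal.Height
import Mathlib.RingTheory.Ideal.KrullsHeightTheorem

set_option autoImplicit false
universe u
open FinCond

namespace Groth.Agent.S4360
open CategoryTheory CategoryTheory.Limits AlgebraicGeometry TopologicalSpace

open AlgebraicGeometry in
open CategoryTheory in
/-- Let f : X -> Y be an immersion and suppose that the underlying space of Y is locally Noetherian,
i.e. every point of Y has an open neighbourhood which is a Noetherian topological space. Then f is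
quasi-compact (and hence of finite type, an immersion being locally of finite type). -/
theorem result
    {X Y : Scheme.{u}} (f : X ⟶ Y) [IsImmersion f]
    (hY : ∀ y : Y, ∃ U : Y.Opens, y ∈ U ∧ TopologicalSpace.NoetherianSpace U) :
    QuasiCompact f := by
  refine ⟨fun V hV hVc => ?_⟩
  choose O hO hON using hY
  obtain ⟨t, ht⟩ := hVc.elim_finite_subcover (fun x => (O x : Set Y)) (fun x => (O x).2) (fun x _ => Set.mem_iUnion.mpr ⟨x, hO x⟩)
  rw [f.isEmbedding.isInducing.isCompact_iff, Set.image_preimage_eq_inter_range]
  have heq : V ∩ Set.range f = ⋃ x ∈ t, ((O x : Set Y) ∩ (V ∩ Set.range f)) := by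
    ext p; simp only [Set.mem_iUnion, Set.mem_inter_iff, exists_prop]
    refine ⟨fun hp => ?_, fun ⟨x, _, _, h⟩ => h⟩
    obtain ⟨x, hx, hpx⟩ := Set.mem_iUnion₂.mp (ht hp.1)
    exact ⟨x, hx, hpx, hp⟩
  rw [heq]
  refine t.isCompact_biUnion fun x _ => ?_
  have := hON x
  have h1 := (NoetherianSpace.isCompact (Subtype.val ⁻¹' (V ∩ Set.range f) : Set (O x))).image continuous_subtype_val
  exact (Subtype.image_preimage_coe (SetLike.coe (O x)) _) ▸ h1

end Groth.Agent.S4360
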