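import Groth.Statements.S4362
import Mathlib
-- import your own Groth.Agent.* helpers here

set_option autoImplicit false
universe u
open FinCond

namespace Groth.Agent.S4362

open AlgebraicGeometry in
open CategoryTheory in
/-- If X is a Noetherian scheme, every increasing sequence of quasi-coherent sheaves of ideals of the
structure sheaf is eventually constant; equivalently the ordered set of quasi-coherent ideal sheaves
of X is well-founded for the reverse order. (On a locally Noetherian scheme quasi-coherent and
coherent ideal sheaves coincide.) -/
theorem result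
    (X : Scheme.{u}) [IsNoetherian X] : WellFoundedGT X.IdealSheafData := by
  obtain ⟨s, hs, hcov'⟩ := (isCompact_iff_finite_and_eq_biUnion_affineOpens (U := (⊤ : X.Opens))).mp isCompact_univ
  have hcov : ⨆ U : s, (U.1 : X.Opens) = ⊤ := by rw [iSup_subtype]; exact hcov'.symm
  haveI : Finite s := hs.to_subtype
  haveI : ∀ U : s, IsNoetherianRing Γ(X, U.1) := fun U => IsLocallyNoetherian.component_noetherian U.1
  haveI : ∀ U : s, WellFoundedGT (Ideal Γ(X, U.1)) := fun U => inferInstance
  let F : X.IdealSheafData → ∀ U : s, Ideal Γ(X, U.1) := fun I U => I.ideal U.1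
  have hF : StrictMono F := Monotone.strictMono_of_injective
    (fun I J h U => Scheme.IdealSheafData.ideal_mono h U.1)
    (fun I J h => Scheme.IdealSheafData.ext_of_iSup_eq_top (fun U : s => U.1) hcov fun U => congrFun h U)
  haveI : WellFoundedGT (∀ U : s, Ideal Γ(X, U.1)) := by
    rw [wellFoundedGT_iff_monotone_chain_condition]
    intro a
    have h : ∀ U : s, ∃ n, ∀ m, n ≤ m → a n U = a m U := fun U =>
      WellFoundedGT.monotone_chain_condition ⟨fun k => a k U, fun i j hij => a.monotone hij U⟩
    choose n hn using h
    haveI := Fintype.ofFinite s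
    refine ⟨Finset.univ.sup n, fun m hm => funext fun U => ?_⟩
    have h1 : n U ≤ Finset.univ.sup n := Finset.le_sup (Finset.mem_univ U)
    rw [← hn U _ h1, hn U m (h1.trans hm)]
  exact hF.wellFoundedGT

end Groth.Agent.S4362
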