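import Groth.Statements.S4366
import Mathlib.AlgebraicGeometry.Morphisms.UniversallyOpen
import Mathlib.AlgebraicGeometry.Morphisms.FinitePresentation
import Mathlib.AlgebraicGeometry.Morphisms.Etale
import Mathlib.AlgebraicGeometry.Morphisms.Flat
import Mathlib.AlgebraicGeometry.Fiber
import Mathlib.AlgebraicGeometry.Noetherian
import Mathlib.AlgebraicGeometry.Stalk
import Mathlib.RingTheory.Spectrum.Prime.Topology
import Mathlib.AlgebraicGeometry.Morphisms.Separated

set_option autoImplicit false
universe u
open SchMor

namespace Groth.Agent.S4366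

open AlgebraicGeometry in
open CategoryTheory in
open CategoryTheory.Limits in
/-- Let f : X -> Y be a morphism, y a point of Y and Z = Spec O_{Y,y} the local scheme of Y at y with
its canonical morphism to Y. Then the projection p : X x_Y Z -> X induces isomorphisms on all local
rings: for every point t of X x_Y Z the homomorphism O_{X, p t} -> O_{X x_Y Z, t} is bijective. (The
published statement also asserts that p is a homeomorphism onto the preimage of Z; that part is not
stated here.) -/
theorem result
    {X Y : Scheme.{u}} (f : X ⟶ Y) (y : Y) (t : ↑(pullback f (Y.fromSpecStalk y))) :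
    IsIso ((pullback.fst f (Y.fromSpecStalk y)).stalkMap t) := by
  have : Flat (Y.fromSpecStalk y) := by
    obtain ⟨_, ⟨U, hU, rfl⟩, hyU, -⟩ := Y.isBasis_affineOpens.exists_subset_of_mem_open (Set.mem_univ y) isOpen_univ
    rw [← hU.fromSpecStalk_eq_fromSpecStalk hyU]; unfold IsAffineOpen.fromSpecStalk
    have : Flat (Spec.map (Y.presheaf.germ _ y hyU)) := by
      rw [HasRingHomProperty.Spec_iff (P := @Flat)]
      algebraize [(Y.presheaf.germ _ y hyU).hom]
      have := hU.isLocalization_stalk ⟨y, hyU⟩
      exact IsLocalization.flat _ (hU.primeIdealOf ⟨y, hyU⟩).asIdeal.primeCompl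
    have hoi := hU.isOpenImmersion_fromSpec
    exact @Flat.comp _ _ _ _ _ this inferInstance
  let p := pullback.fst f (Y.fromSpecStalk y)
  have hs : Function.Surjective (p.stalkMap t).hom := p.stalkMap_surjective t
  algebraize [(p.stalkMap t).hom]
  have : Module.Flat (X.presheaf.stalk (p t)) ((pullback f (Y.fromSpecStalk y)).presheaf.stalk t) := Flat.stalkMap p t
  have : Module.FaithfullyFlat (X.presheaf.stalk (p t)) ((pullback f (Y.fromSpecStalk y)).presheaf.stalk t) :=
      @Module.FaithfullyFlat.of_flat_of_isLocalHom _ _ _ _ _ _ _ (Flat.stalkMap p t) (p.toLRSHom.prop t)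
  rw [ConcreteCategory.isIso_iff_bijective]
  exact ⟨‹RingHom.FaithfullyFlat _›.injective, hs⟩

end Groth.Agent.S4366
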