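import Groth.Statements.S4367
import Mathlib
-- import your own Groth.Agent.* helpers here

set_option autoImplicit false
universe u
open RedSep

namespace Groth.Agent.S4367

open AlgebraicGeometry in
open CategoryTheory in
/-- Let X be a reduced scheme, f : X -> Y a morphism and j : Z -> Y a closed immersion (a closed
subscheme of Y) such that the image of f is contained, as a set, in the image of j. Then f factors
as a morphism X -> Z followed by j. -/
theorem result
    {X Y Z : Scheme.{u}} [IsReduced X] (f : X ⟶ Y) (j : Z ⟶ Y) [IsClosedImmersion j]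
    (h : Set.range f ⊆ Set.range j) :
    ∃ g : X ⟶ Z, g ≫ j = f := by
  haveI : Surjective (CategoryTheory.Limits.pullback.fst f j) := ⟨fun x => by
    obtain ⟨z, hz⟩ := h ⟨x, rfl⟩
    obtain ⟨w, hw, -⟩ := Scheme.Pullback.exists_preimage_pullback (f := f) (g := j) x z hz.symm
    exact ⟨w, hw⟩⟩
  haveI : IsClosedImmersion (CategoryTheory.Limits.pullback.fst f j) := MorphismProperty.pullback_fst _ _ inferInstance
  haveI : IsIso (CategoryTheory.Limits.pullback.fst f j) := isIso_of_isClosedImmersion_of_surjective _
  refine ⟨inv (CategoryTheory.Limits.pullback.fst f j) ≫ CategoryTheory.Limits.pullback.snd f j, ?_⟩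
  rw [Category.assoc, IsIso.inv_comp_eq, CategoryTheory.Limits.pullback.condition]

end Groth.Agent.S4367
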