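import Groth.Statements.S4368
import Mathlib
-- import your own Groth.Agent.* helpers here

set_option autoImplicit false
universe u
open RedSep

namespace Groth.Agent.S4368

open AlgebraicGeometry in
open CategoryTheory in
/-- Let X be a scheme and I a quasi-coherent sheaf of ideals of O_X whose support is all of X, so that
the closed subscheme it defines has underlying space X. Then that closed subscheme is reduced if and
only if I is the nilradical of O_X. In particular the closed subscheme defined by the nilradical is
the unique reduced closed subscheme of X with underlying space X (and, the support condition being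
equivalent to I being contained in the nilradical, the smallest one). -/
theorem result
    (X : Scheme.{u}) (I : X.IdealSheafData) (hI : I.support = ⊤) :
    IsReduced I.subscheme ↔ I = X.nilradical := by
  have hrad : X.nilradical = I.radical := by
    rw [← Scheme.IdealSheafData.vanishingIdeal_support, hI, Scheme.IdealSheafData.vanishingIdeal_top]
  rw [hrad]
  constructor
  · intro h
    refine Scheme.IdealSheafData.ext (funext fun U => ?_)
    rw [Scheme.IdealSheafData.radical_ideal]
    refine (Ideal.IsRadical.radical ?_).symm
    rw [Ideal.isRadical_iff_quotient_reduced]
    haveI : IsReduced (I.subschemeCover.openCover.X U) := inferInstance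
    exact (affine_isReduced_iff (CommRingCat.of (Γ(X, U) ⧸ I.ideal U))).mp this
  · intro h
    haveI : ∀ U, IsReduced (I.subschemeCover.openCover.X U) := fun (U : X.affineOpens) => by
      have hU : I.ideal U = (I.ideal U).radical :=
        congrFun (congrArg Scheme.IdealSheafData.ideal h) U
      haveI : _root_.IsReduced (Γ(X, U.1) ⧸ I.ideal U) :=
        (Ideal.isRadical_iff_quotient_reduced _).mp fun x hx => hU.ge hx
      exact inferInstanceAs (IsReduced (Spec (CommRingCat.of (Γ(X, U.1) ⧸ I.ideal U))))
    exact IsReduced.of_openCover _ I.subschemeCover.openCover

end Groth.Agent.S4368
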