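import Groth.Statements.S4369
import Mathlib
-- import your own Groth.Agent.* helpers here

set_option autoImplicit false
universe u
open AffSch

namespace Groth.Agent.S4369

/-- Let φ : A' -> A be a ring homomorphism such that every f in A can be written f = h φ(f') with h
invertible in A (this holds in particular when φ is surjective). Then the associated continuous map
Spec A -> Spec A' is a homeomorphism onto its image. -/
theorem result
    {A' A : Type u} [CommRing A'] [CommRing A] (φ : A' →+* A)
    (h : ∀ f : A, ∃ (u : Aˣ) (f' : A'), f = (u : A) * φ f') :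
    Topology.IsEmbedding (PrimeSpectrum.comap φ) := by
  have hinj : Function.Injective (PrimeSpectrum.comap φ) := fun p q hpq => by
    ext f
    obtain ⟨u, f', rfl⟩ := h f
    rw [Ideal.unit_mul_mem_iff_mem _ u.isUnit, Ideal.unit_mul_mem_iff_mem _ u.isUnit]
    exact SetLike.ext_iff.mp (congrArg PrimeSpectrum.asIdeal hpq) f'
  refine ⟨⟨le_antisymm (PrimeSpectrum.continuous_comap φ).le_induced ?_⟩, hinj⟩
  conv_rhs => rw [(PrimeSpectrum.isTopologicalBasis_basic_opens (R := A)).eq_generateFrom]
  refine le_generateFrom ?_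
  rintro _ ⟨f, rfl⟩
  obtain ⟨u, f', rfl⟩ := h f
  refine isOpen_induced_iff.mpr ⟨PrimeSpectrum.basicOpen f', (PrimeSpectrum.basicOpen f').isOpen, ?_⟩
  ext p
  show φ f' ∉ p.asIdeal ↔ (u : A) * φ f' ∉ p.asIdeal
  rw [Ideal.unit_mul_mem_iff_mem _ u.isUnit]

end Groth.Agent.S4369
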