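import Groth.Statements.S4370
import Mathlib
-- import your own Groth.Agent.* helpers here

set_option autoImplicit false
set_option backward.isDefEq.respectTransparency false
universe u
open RedSep

open CategoryTheory CategoryTheory.Limits AlgebraicGeometry
namespace Groth.Agent.S4370

open AlgebraicGeometry in
open CategoryTheory in
/-- Let f : X -> Y be an open immersion and let g : X_red -> Y_red be the morphism of reduced schemes
induced by f, i.e. the morphism between the closed subschemes defined by the nilradicals whose
composite with the inclusion of Y_red in Y is the inclusion of X_red in X followed by f. Then g is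
an open immersion. -/
theorem result
    {X Y : Scheme.{u}} (f : X ⟶ Y) [IsOpenImmersion f]
    (g : X.nilradical.subscheme ⟶ Y.nilradical.subscheme)
    (hg : g ≫ Y.nilradical.subschemeι = X.nilradical.subschemeι ≫ f) :
    IsOpenImmersion g := by
  let i := pullback.snd Y.nilradical.subschemeι f
  haveI : IsReduced Y.nilradical.subscheme := by
    haveI : ∀ U, IsReduced ((Y.nilradical.subschemeCover.openCover).X U) := fun U => by
      haveI : _root_.IsReduced (Γ(Y, U.1) ⧸ Y.nilradical.ideal U) := by
        refine (Ideal.isRadical_iff_quotient_reduced _).1 ?_
        rw [← Scheme.IdealSheafData.vanishingIdeal_top, Scheme.IdealSheafData.vanishingIdeal_ideal]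
        exact PrimeSpectrum.isRadical_vanishingIdeal _
      exact inferInstanceAs (IsReduced (Spec (CommRingCat.of (Γ(Y, U.1) ⧸ Y.nilradical.ideal U))))
    exact IsReduced.of_openCover _ Y.nilradical.subschemeCover.openCover
  haveI : IsReduced (pullback Y.nilradical.subschemeι f) := isReduced_of_isOpenImmersion (pullback.fst Y.nilradical.subschemeι f)
  have hY : Set.range Y.nilradical.subschemeι = Set.univ := by
    rw [Scheme.IdealSheafData.range_subschemeι, ← Scheme.IdealSheafData.vanishingIdeal_top, Scheme.IdealSheafData.coe_support_vanishingIdeal]
    rfl
  have hi : Set.range i = Set.univ := by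
    rw [Scheme.Pullback.range_snd, hY, Set.preimage_univ]
  have hker : i.ker = X.nilradical := by
    rw [← Scheme.IdealSheafData.map_bot, ← Scheme.nilradical_eq_bot,
      ← Scheme.IdealSheafData.vanishingIdeal_top (X := pullback Y.nilradical.subschemeι f),
      Scheme.IdealSheafData.map_vanishingIdeal, ← Scheme.IdealSheafData.vanishingIdeal_top (X := X)]
    congr 1
    apply TopologicalSpace.Closeds.ext
    simp [hi]
  haveI := IsClosedImmersion.isIso_lift i X.nilradical.subschemeι (by rw [hker, Scheme.IdealSheafData.ker_subschemeι])
  have hu := IsClosedImmersion.lift_fac i X.nilradical.subschemeι (by rw [hker, Scheme.IdealSheafData.ker_subschemeι])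
  have hg' : g = IsClosedImmersion.lift i X.nilradical.subschemeι (by rw [hker, Scheme.IdealSheafData.ker_subschemeι]) ≫ pullback.fst Y.nilradical.subschemeι f := by
    rw [← cancel_mono Y.nilradical.subschemeι, hg, Category.assoc, pullback.condition, reassoc_of% hu]
  rw [hg']
  infer_instance

end Groth.Agent.S4370
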