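import Groth.Statements.S4378
import Groth.Agent.Lead.DVR.AffineTest
-- import your own Groth.Agent.* helpers here

set_option autoImplicit false
universe u
open CategoryTheory CategoryTheory.Limits AlgebraicGeometry
open EGA2

namespace Groth.Agent.S4378

/-- Let q : Y → S be separated and of finite type, and f : X → Y a morphism such that X is also
separated and of finite type over S through f ≫ q. Then f is proper if and only if for every scheme
S' over S the morphism X ×_S S' → Y ×_S S' induced by f is closed (as a map of topological spaces). -/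
theorem result {X Y S : Scheme.{u}} (q : Y ⟶ S) (f : X ⟶ Y)
    [IsSeparated q] [LocallyOfFiniteType q] [QuasiCompact q]
    [IsSeparated (f ≫ q)] [LocallyOfFiniteType (f ≫ q)] [QuasiCompact (f ≫ q)] :
    IsProper f ↔ ∀ (S' : Scheme.{u}) (g : S' ⟶ S),
      IsClosedMap (pullback.map (f ≫ q) g q g f (𝟙 S') (𝟙 S) (Category.comp_id (f ≫ q))
        ((Category.comp_id g).trans (Category.id_comp g).symm)).base := by
  haveI : IsSeparated f := IsSeparated.of_comp f q
  haveI : LocallyOfFiniteType f := locallyOfFiniteType_of_comp f q
  haveI : QuasiCompact f := QuasiCompact.of_comp f q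
  have hmap : ∀ (S' : Scheme.{u}) (g : S' ⟶ S), IsPullback (pullback.fst (f ≫ q) g)
      (pullback.map (f ≫ q) g q g f (𝟙 S') (𝟙 S) (Category.comp_id (f ≫ q))
        ((Category.comp_id g).trans (Category.id_comp g).symm)) f (pullback.fst q g) := fun S' g => by
    refine IsPullback.of_bot ?_ (pullback.lift_fst _ _ _).symm (IsPullback.of_hasPullback q g)
    rw [show pullback.map (f ≫ q) g q g f (𝟙 S') (𝟙 S) (Category.comp_id (f ≫ q))
      ((Category.comp_id g).trans (Category.id_comp g).symm) ≫ pullback.snd q g = pullback.snd (f ≫ q) g from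
      (pullback.lift_snd _ _ _).trans (Category.comp_id _)]
    exact IsPullback.of_hasPullback (f ≫ q) g
  constructor
  · intro _ S' g
    have hp := hmap S' g
    haveI : UniversallyClosed (pullback.map (f ≫ q) g q g f (𝟙 S') (𝟙 S) (Category.comp_id (f ≫ q))
        ((Category.comp_id g).trans (Category.id_comp g).symm)) :=
      MorphismProperty.of_isPullback (P := @UniversallyClosed) hp inferInstance
    exact Scheme.Hom.isClosedMap _
  · intro h
    haveI : UniversallyClosed f := Groth.Agent.Lead.DVR.universallyClosed_of_affineSpace f fun n => by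
      let g := (𝔸(ULift.{u} (Fin n); Y) ↘ Y)
      let Γg : 𝔸(ULift.{u} (Fin n); Y) ⟶ pullback q (g ≫ q) := pullback.lift g (𝟙 _) (Category.id_comp _).symm
      have hΓ : Γg ≫ pullback.fst q (g ≫ q) = g := pullback.lift_fst _ _ _
      haveI : IsPreimmersion Γg := by
        haveI : IsImmersion (Γg ≫ pullback.snd q (g ≫ q)) := by rw [pullback.lift_snd]; infer_instance
        haveI := IsImmersion.of_comp Γg (pullback.snd q (g ≫ q))
        infer_instance
      rw [show (𝔸(ULift.{u} (Fin n); Y) ↘ Y) = g from rfl, ← hΓ]
      refine Groth.Agent.Lead.DVR.isClosedMap_snd_comp f _ Γg ?_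
      have hp := (hmap _ (g ≫ q))
      intro C hC
      have e := hp.isoPullback_inv_snd
      rw [← e, Scheme.Hom.comp_base, TopCat.coe_comp, Set.image_comp]
      exact h _ (g ≫ q) _ ((TopCat.homeoOfIso (Scheme.forgetToTop.mapIso hp.isoPullback.symm)).isClosedMap C hC)
    exact ⟨⟩

end Groth.Agent.S4378
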