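import Groth.Statements.S4395
import Mathlib

set_option autoImplicit false
universe u
open EGA2

namespace Groth.Agent.S4395

open DirectSum

variable {R A : Type u} [CommRing R] [CommRing A] [Algebra R A] (𝒜 : ℕ → Submodule R A) [GradedAlgebra 𝒜]

theorem exists_big_notMem (n₀ : ℕ) (𝔭 : HomogeneousIdeal 𝒜) (hP : 𝔭.toIdeal.IsPrime)
    (hirr : ¬ HomogeneousIdeal.irrelevant 𝒜 ≤ 𝔭) :
    ∃ n, n₀ ≤ n ∧ ∃ f ∈ 𝒜 n, f ∉ 𝔭.toIdeal := by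
  classical
  by_contra h
  apply hirr
  intro x hx
  rw [← HomogeneousIdeal.mem_iff, ← DirectSum.sum_support_decompose 𝒜 x]
  refine Ideal.sum_mem _ fun i _ => ?_
  rcases Nat.eq_zero_or_pos i with rfl | hi
  · have : (DirectSum.decompose 𝒜 x 0 : A) = 0 := by
      have h0 := (HomogeneousIdeal.mem_irrelevant_iff 𝒜 x).1 hx
      rwa [GradedRing.proj_apply] at h0
    rw [this]; exact zero_mem _
  · by_contra hni
    have hmem : (DirectSum.decompose 𝒜 x i : A) ^ (n₀ + 1) ∈ 𝒜 ((n₀ + 1) * i) := by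
      simpa [smul_eq_mul] using SetLike.pow_mem_graded (n₀ + 1) (SetLike.coe_mem (DirectSum.decompose 𝒜 x i))
    have hge : n₀ ≤ (n₀ + 1) * i := by
      calc n₀ ≤ n₀ + 1 := Nat.le_succ _
        _ = (n₀ + 1) * 1 := (mul_one _).symm
        _ ≤ (n₀ + 1) * i := Nat.mul_le_mul_left _ hi
    exact h ⟨_, hge, _, hmem, fun hm => hni (hP.mem_of_pow_mem _ hm)⟩

theorem eq_of_tail (n₀ : ℕ) (p : ℕ → AddSubgroup A) (𝔭 𝔮 : HomogeneousIdeal 𝒜) (hP : 𝔭.toIdeal.IsPrime)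
    (hQ : 𝔮.toIdeal.IsPrime) (hq : ¬ HomogeneousIdeal.irrelevant 𝒜 ≤ 𝔮)
    (h1 : ∀ n : ℕ, n₀ ≤ n → (𝔭.toIdeal : Set A) ∩ 𝒜 n = p n) (h2 : ∀ n : ℕ, n₀ ≤ n → (𝔮.toIdeal : Set A) ∩ 𝒜 n = p n) :
    𝔭.toIdeal ≤ 𝔮.toIdeal := by
  classical
  obtain ⟨n, hn, f, hf, hfq⟩ := exists_big_notMem 𝒜 n₀ 𝔮 hQ hq
  intro x hx
  rw [← DirectSum.sum_support_decompose 𝒜 x]
  refine Ideal.sum_mem _ fun i _ => ?_
  have hmem : (DirectSum.decompose 𝒜 x i : A) * f ∈ 𝒜 (i + n) := SetLike.mul_mem_graded (SetLike.coe_mem _) hf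
  have hm : (DirectSum.decompose 𝒜 x i : A) * f ∈ (p (i + n) : Set A) :=
    (h1 (i + n) (by omega)) ▸ ⟨Ideal.mul_mem_right _ _ (𝔭.isHomogeneous i hx), hmem⟩
  rw [← h2 (i + n) (by omega)] at hm
  exact (hQ.mem_or_mem hm.1).resolve_right hfq

theorem exists_prime_of_tail (n₀ : ℕ) (hn₀ : 0 < n₀) (p : ℕ → AddSubgroup A) (hp : ∀ n : ℕ, n₀ ≤ n → (p n : Set A) ⊆ 𝒜 n)
    (h1 : ∀ m n : ℕ, n₀ ≤ n → ∀ a ∈ 𝒜 m, ∀ b ∈ p n, a * b ∈ p (m + n))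
    (h2 : ∀ m n : ℕ, n₀ ≤ m → n₀ ≤ n → ∀ f ∈ 𝒜 m, ∀ g ∈ 𝒜 n, f * g ∈ p (m + n) → f ∈ p m ∨ g ∈ p n)
    (h3 : ∃ n : ℕ, n₀ ≤ n ∧ (p n : Set A) ≠ 𝒜 n) :
    ∃ 𝔭 : HomogeneousIdeal 𝒜, 𝔭.toIdeal.IsPrime ∧ ¬ HomogeneousIdeal.irrelevant 𝒜 ≤ 𝔭 ∧
        ∀ n : ℕ, n₀ ≤ n → (𝔭.toIdeal : Set A) ∩ 𝒜 n = p n := by
  classical
  obtain ⟨N, hN, hNp⟩ := h3
  obtain ⟨f, hf, hfp⟩ : ∃ f ∈ 𝒜 N, f ∉ p N := by
    by_contra h
    push Not at h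
    exact hNp (Set.Subset.antisymm (hp N hN) h)
  let q : ℕ → A → Prop := fun m a => ∀ n, n₀ ≤ n → ∀ b ∈ 𝒜 n, a * b ∈ p (m + n)
  let S : Set A := {a | ∃ m, a ∈ 𝒜 m ∧ q m a}
  let I : Ideal A := Ideal.span S
  have hI : I.IsHomogeneous 𝒜 := Ideal.homogeneous_span 𝒜 S fun a ⟨m, ha, _⟩ => ⟨m, ha⟩
  have hmem : ∀ x ∈ I, ∀ m, q m (DirectSum.decompose 𝒜 x m) := by
    intro x hx
    induction hx using Submodule.span_induction with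
    | mem a ha =>
      obtain ⟨k, hk, hq⟩ := ha
      intro m
      by_cases hkm : k = m
      · subst hkm; rw [DirectSum.decompose_of_mem_same 𝒜 hk]; exact hq
      · rw [DirectSum.decompose_of_mem_ne 𝒜 hk hkm]
        intro n _ b _; rw [zero_mul]; exact zero_mem _
    | zero => intro m n _ b _; simp
    | add a b _ _ ha hb =>
      intro m n hn c hc
      rw [DirectSum.decompose_add, DirectSum.add_apply, AddMemClass.coe_add, add_mul]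
      exact add_mem (ha m n hn c hc) (hb m n hn c hc)
    | smul r a _ ha =>
      rw [smul_eq_mul]
      induction r using DirectSum.Decomposition.inductionOn 𝒜 with
      | zero => intro m n _ b _; simp
      | @homogeneous i r =>
        intro m n hn b hb
        rw [DirectSum.coe_decompose_mul_of_left_mem 𝒜 m r.2]
        split_ifs with him
        · have h := h1 i (m - i + n) (by omega) _ r.2 _ (ha (m - i) n hn b hb)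
          rw [show i + (m - i + n) = m + n by omega] at h
          rwa [mul_assoc]
        · rw [zero_mul]; exact zero_mem _
      | add s t hs ht =>
        intro m n hn b hb
        rw [add_mul, DirectSum.decompose_add, DirectSum.add_apply, AddMemClass.coe_add, add_mul]
        exact add_mem (hs m n hn b hb) (ht m n hn b hb)
  have hhom : ∀ m, ∀ a ∈ 𝒜 m, (a ∈ I ↔ q m a) := fun m a ha => by
    refine ⟨fun h => ?_, fun h => Ideal.subset_span ⟨m, ha, h⟩⟩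
    have := hmem a h m
    rwa [DirectSum.decompose_of_mem_same 𝒜 ha] at this
  have hfI : f ∉ I := fun h => by
    have := (hhom N f hf).1 h N hN f hf
    exact (h2 N N hN hN f hf f hf this).elim hfp hfp
  refine ⟨⟨I, hI⟩, hI.isPrime_of_homogeneous_mem_or_mem (fun h => hfI (h ▸ Submodule.mem_top)) ?_,
    fun h => hfI (h (HomogeneousIdeal.mem_irrelevant_of_mem 𝒜 (by omega : 0 < N) hf)), fun n hn => ?_⟩
  · rintro x y ⟨i, hx⟩ ⟨j, hy⟩ hxy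
    rw [hhom i x hx, hhom j y hy]
    by_contra hcon
    push Not at hcon
    obtain ⟨⟨n, hn, b, hb, hxb⟩, ⟨k, hk, c, hc, hyc⟩⟩ :
        (∃ n, n₀ ≤ n ∧ ∃ b ∈ 𝒜 n, x * b ∉ p (i + n)) ∧ ∃ k, n₀ ≤ k ∧ ∃ c ∈ 𝒜 k, y * c ∉ p (j + k) := by
      simpa [q] using hcon
    have h' := h1 k ((i + j) + n) (by omega) c hc _ ((hhom (i + j) _ (SetLike.mul_mem_graded hx hy)).1 hxy n hn b hb)
    rw [show k + (i + j + n) = (i + n) + (j + k) by omega, show c * (x * y * b) = (x * b) * (y * c) by ring] at h'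
    exact (h2 (i + n) (j + k) (by omega) (by omega) _ (SetLike.mul_mem_graded hx hb) _ (SetLike.mul_mem_graded hy hc) h').elim hxb hyc
  · ext a
    constructor
    · rintro ⟨haI, ha⟩
      have := (hhom n a ha).1 haI N hN f hf
      exact (h2 n N hn hN a ha f hf this).resolve_right hfp
    · intro ha
      refine ⟨(hhom n a (hp n hn ha)).2 fun k _ b hb => ?_, hp n hn ha⟩
      have := h1 k n hn b hb a ha
      rwa [mul_comm, Nat.add_comm] at this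


/-- Let S be a ring graded in nonnegative degrees, n₀ > 0 an integer and, for every n ≥ n₀, p_n an
additive subgroup of S_n. Then there is a graded prime ideal p of S not containing S_+ with p ∩ S_n
= p_n for all n ≥ n₀ if and only if: (1) S_m p_n ⊆ p_{m+n} for all m ≥ 0 and n ≥ n₀; (2) for m ≥ n₀,
n ≥ n₀, f ∈ S_m, g ∈ S_n, fg ∈ p_{m+n} implies f ∈ p_m or g ∈ p_n; (3) p_n ≠ S_n for at least one n
≥ n₀. Moreover such a graded prime ideal is unique. -/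
theorem result {R A : Type u} [CommRing R] [CommRing A] [Algebra R A] (𝒜 : ℕ → Submodule R A) [GradedAlgebra 𝒜]
    (n₀ : ℕ) (hn₀ : 0 < n₀) (p : ℕ → AddSubgroup A) (hp : ∀ n : ℕ, n₀ ≤ n → (p n : Set A) ⊆ 𝒜 n) :
    ((∃ 𝔭 : HomogeneousIdeal 𝒜, 𝔭.toIdeal.IsPrime ∧ ¬ HomogeneousIdeal.irrelevant 𝒜 ≤ 𝔭 ∧
        ∀ n : ℕ, n₀ ≤ n → (𝔭.toIdeal : Set A) ∩ 𝒜 n = p n) ↔
      ((∀ m n : ℕ, n₀ ≤ n → ∀ a ∈ 𝒜 m, ∀ b ∈ p n, a * b ∈ p (m + n)) ∧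
        (∀ m n : ℕ, n₀ ≤ m → n₀ ≤ n → ∀ f ∈ 𝒜 m, ∀ g ∈ 𝒜 n, f * g ∈ p (m + n) → f ∈ p m ∨ g ∈ p n) ∧
        ∃ n : ℕ, n₀ ≤ n ∧ (p n : Set A) ≠ 𝒜 n)) ∧
    ∀ 𝔭 𝔮 : HomogeneousIdeal 𝒜, 𝔭.toIdeal.IsPrime → 𝔮.toIdeal.IsPrime →
      ¬ HomogeneousIdeal.irrelevant 𝒜 ≤ 𝔭 → ¬ HomogeneousIdeal.irrelevant 𝒜 ≤ 𝔮 →
      (∀ n : ℕ, n₀ ≤ n → (𝔭.toIdeal : Set A) ∩ 𝒜 n = p n) → (∀ n : ℕ, n₀ ≤ n → (𝔮.toIdeal : Set A) ∩ 𝒜 n = p n) →
      𝔭 = 𝔮 := by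
  refine ⟨⟨?_, fun ⟨h1, h2, h3⟩ => exists_prime_of_tail 𝒜 n₀ hn₀ p hp h1 h2 h3⟩, fun 𝔭 𝔮 hP hQ hPi hQi h1 h2 =>
    HomogeneousIdeal.toIdeal_injective (le_antisymm (eq_of_tail 𝒜 n₀ p 𝔭 𝔮 hP hQ hQi h1 h2)
      (eq_of_tail 𝒜 n₀ p 𝔮 𝔭 hQ hP hPi h2 h1))⟩
  rintro ⟨𝔭, hP, hirr, he⟩
  refine ⟨fun m n hn a ha b hb => ?_, fun m n hm hn f hf g hg hfg => ?_, ?_⟩
  · have hb' : b ∈ (𝔭.toIdeal : Set A) ∩ 𝒜 n := (he n hn).symm ▸ hb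
    have : a * b ∈ (𝔭.toIdeal : Set A) ∩ 𝒜 (m + n) := ⟨Ideal.mul_mem_left _ _ hb'.1, SetLike.mul_mem_graded ha hb'.2⟩
    rwa [he (m + n) (by omega)] at this
  · have hfg' : f * g ∈ (𝔭.toIdeal : Set A) ∩ 𝒜 (m + n) := (he (m + n) (by omega)).symm ▸ hfg
    exact (hP.mem_or_mem hfg'.1).imp (fun h => (he m hm).subset ⟨h, hf⟩) (fun h => (he n hn).subset ⟨h, hg⟩)
  · obtain ⟨n, hn, f, hf, hfn⟩ := exists_big_notMem 𝒜 n₀ 𝔭 hP hirr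
    refine ⟨n, hn, fun h => hfn ?_⟩
    have : f ∈ (𝔭.toIdeal : Set A) ∩ 𝒜 n := by rw [he n hn, h]; exact hf
    exact this.1

end Groth.Agent.S4395
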