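import Groth.Statements.S4398
import Mathlib
-- import your own Groth.Agent.* helpers here

set_option autoImplicit false
universe u
open AlgebraicGeometry
open EGA2

namespace Groth.Agent.S4398

/-- Let φ : S' → S be a homomorphism of rings graded in nonnegative degrees which maps S'_n bijectively
onto S_n for every n > 0, so that S_+ lies in the ideal generated by φ(S'_+) (stated as a hypothesis
because the induced morphism is built from it). Then the induced morphism Proj S → Proj S' is an
isomorphism of schemes. (The published statement treats the cases S'_0 = ℤ and S'_0 = A with S'_n =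
S_n for n > 0; this row allows any graded φ that is bijective in positive degrees.) -/
theorem result {R A : Type u} [CommRing R] [CommRing A] [Algebra R A] (𝒜 : ℕ → Submodule R A) [GradedAlgebra 𝒜]
    {B : Type u} [CommRing B] [Algebra R B] (ℬ : ℕ → Submodule R B) [GradedAlgebra ℬ]
    (φ : ℬ →+*ᵍ 𝒜) (hbij : ∀ n : ℕ, 0 < n → Set.BijOn φ (ℬ n) (𝒜 n))
    (hφ : HomogeneousIdeal.irrelevant 𝒜 ≤ (HomogeneousIdeal.irrelevant ℬ).map φ) :
    CategoryTheory.IsIso (Proj.map φ hφ) := by
  have hA : ∀ (i : ℕ) (_ : 0 < i) (s : B) (hs : s ∈ ℬ i),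
      Function.Bijective (HomogeneousLocalization.Away.map φ s) := by
    intro i hi s hs
    have hpos : ∀ n : ℕ, 0 < (n + 1) • i := fun n => by rw [smul_eq_mul]; exact Nat.mul_pos n.succ_pos hi
    constructor
    · rw [injective_iff_map_eq_zero]
      intro x hx
      obtain ⟨n, b, hb, rfl⟩ := HomogeneousLocalization.Away.mk_surjective ℬ hs x
      rw [HomogeneousLocalization.Away.map_mk] at hx
      have h0 := congrArg HomogeneousLocalization.val hx
      rw [HomogeneousLocalization.Away.val_mk, HomogeneousLocalization.val_zero, Localization.mk_eq_mk',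
        IsLocalization.mk'_eq_zero_iff] at h0
      obtain ⟨⟨_, m, rfl⟩, hm⟩ := h0
      have hmem : s ^ (m + 1) * b ∈ ℬ ((m + 1) • i + n • i) :=
        SetLike.mul_mem_graded (SetLike.pow_mem_graded _ hs) hb
      have hp : 0 < (m + 1) • i + n • i := Nat.add_pos_left (hpos m) _
      have hz : s ^ (m + 1) * b = 0 := (hbij _ hp).injOn hmem (zero_mem _) (by
        rw [map_zero, map_mul, map_pow, pow_succ, mul_comm (φ s ^ m) (φ s), mul_assoc]
        simp only at hm
        rw [hm, mul_zero])
      apply HomogeneousLocalization.val_injective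
      rw [HomogeneousLocalization.Away.val_mk, HomogeneousLocalization.val_zero, Localization.mk_eq_mk',
        IsLocalization.mk'_eq_zero_iff]
      exact ⟨⟨_, m + 1, rfl⟩, hz⟩
    · intro y
      obtain ⟨n, a, ha, rfl⟩ := HomogeneousLocalization.Away.mk_surjective 𝒜 (φ.map_mem hs) y
      have hmem : a * φ s ∈ 𝒜 ((n + 1) • i) := by
        rw [succ_nsmul]; exact SetLike.mul_mem_graded ha (φ.map_mem hs)
      obtain ⟨b, hb, hba⟩ := (hbij _ (hpos n)).surjOn hmem
      refine ⟨HomogeneousLocalization.Away.mk ℬ hs (n + 1) b hb, ?_⟩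
      rw [HomogeneousLocalization.Away.map_mk]
      apply HomogeneousLocalization.val_injective
      rw [HomogeneousLocalization.Away.val_mk, HomogeneousLocalization.Away.val_mk, Localization.mk_eq_mk_iff,
        Localization.r_iff_exists]
      refine ⟨1, ?_⟩
      simp only [OneMemClass.coe_one, one_mul]
      rw [show φ b = a * φ s from hba, pow_succ]
      simp only [← GradedRingHom.coe_toRingHom]
      ring
  change CategoryTheory.MorphismProperty.isomorphisms Scheme (Proj.map φ hφ)
  refine AlgebraicGeometry.IsZariskiLocalAtTarget.of_openCover (P := CategoryTheory.MorphismProperty.isomorphisms Scheme)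
    (Proj.affineOpenCover ℬ).openCover fun d => ?_
  obtain ⟨⟨i, hi⟩, ⟨s, hs⟩⟩ := d
  have w := Proj.awayι_comp_map φ hφ hi s hs
  have hsq : CategoryTheory.IsPullback (Spec.map (CommRingCat.ofHom (HomogeneousLocalization.Away.map φ s)))
      (Proj.awayι 𝒜 (φ s) (φ.map_mem hs) hi) (Proj.awayι ℬ s hs hi) (Proj.map φ hφ) := by
    refine IsOpenImmersion.isPullback _ _ _ _ w ?_
    rw [Proj.opensRange_awayι, Proj.opensRange_awayι]
    rfl
  haveI : CategoryTheory.IsIso (CommRingCat.ofHom (HomogeneousLocalization.Away.map φ s)) :=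
    (CategoryTheory.ConcreteCategory.isIso_iff_bijective _).mpr (hA i hi s hs)
  show CategoryTheory.IsIso (CategoryTheory.Limits.pullback.snd (Proj.map φ hφ) (Proj.awayι ℬ s hs hi))
  rw [← hsq.flip.isoPullback_inv_snd]
  infer_instance

end Groth.Agent.S4398
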