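import Groth.Statements.S4405
import Groth.Agent.Lead.ProjL
-- import your own Groth.Agent.* helpers here

set_option autoImplicit false
universe u
open EGA2

namespace Groth.Agent.S4405

/-- Let S be a ring graded in nonnegative degrees and E any subset of the irrelevant ideal S_+. Then the
intersection of S_+ with the vanishing ideal of the closed subset V_+(E) of Proj S equals the
intersection of S_+ with the radical of the graded ideal generated by E (the smallest homogeneous
ideal containing E). -/
theorem result {R A : Type u} [CommRing R] [CommRing A] [Algebra R A] (𝒜 : ℕ → Submodule R A) [GradedAlgebra 𝒜]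
    (E : Set A) (hE : E ⊆ (HomogeneousIdeal.irrelevant 𝒜).toIdeal) :
    (HomogeneousIdeal.irrelevant 𝒜).toIdeal ⊓
        (ProjectiveSpectrum.vanishingIdeal (ProjectiveSpectrum.zeroLocus 𝒜 E)).toIdeal =
      (HomogeneousIdeal.irrelevant 𝒜).toIdeal ⊓ (Ideal.homogeneousHull 𝒜 (Ideal.span E)).toIdeal.radical := by
  classical
  ext f
  simp only [Submodule.mem_inf]
  refine and_congr_right fun hf => ?_
  constructor
  · intro hv
    rw [← DirectSum.sum_support_decompose 𝒜 f]
    refine Ideal.sum_mem _ fun j _ => ?_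
    rcases Nat.eq_zero_or_pos j with rfl | hj
    · rw [← GradedRing.proj_apply, (HomogeneousIdeal.mem_irrelevant_iff _ _).mp hf]
      exact zero_mem _
    by_contra hn
    rw [Ideal.radical_eq_sInf, Ideal.mem_sInf] at hn
    push Not at hn
    obtain ⟨Q, ⟨hle, hQ⟩, hfQ⟩ := hn
    obtain ⟨p, -, hp, hpm⟩ := Groth.Agent.Lead.ProjL.exists_point_le 𝒜 Q hj (DirectSum.decompose 𝒜 f j).2 hfQ
    refine Groth.Agent.Lead.ProjL.not_mem_of_component 𝒜 hp ((ProjectiveSpectrum.mem_vanishingIdeal _ _).mp hv p ?_)
    intro e he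
    show e ∈ p.asHomogeneousIdeal.toIdeal
    rw [← DirectSum.sum_support_decompose 𝒜 e]
    exact Ideal.sum_mem _ fun k _ => hpm k _ (SetLike.coe_mem _) (hle
      ((Ideal.homogeneousHull 𝒜 (Ideal.span E)).isHomogeneous k (Ideal.le_toIdeal_homogeneousHull 𝒜 _ (Ideal.subset_span he))))
  · intro h
    refine (ProjectiveSpectrum.mem_vanishingIdeal _ _).mpr fun p hp => p.isPrime.radical.le (Ideal.radical_mono ?_ h)
    exact (Ideal.homogeneousHull.gc 𝒜 _ p.asHomogeneousIdeal).mpr (Ideal.span_le.mpr hp)

end Groth.Agent.S4405
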