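import Groth.Statements.S4407
import Groth.Agent.ModStalk.AlgMod
import Groth.Agent.ModStalk.QCoh
import Mathlib.AlgebraicGeometry.QuasiAffine

set_option autoImplicit false
universe u
open CategoryTheory CategoryTheory.Limits AlgebraicGeometry
open EGA2

namespace Groth.Agent.S4407

open CategoryTheory CategoryTheory.Limits AlgebraicGeometry Groth.Agent.ModStalk


/-- (a) ⇒ (e): let X be a quasi-affine scheme. Then every quasi-coherent O_X-module is generated by its
global sections (it is a quotient of a free O_X-module on some index set). -/
theorem result (X : Scheme.{u}) [X.IsQuasiAffine] (F : X.Modules)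
    (hF : Coh.IsQCoh F) : Curv2.IsGloballyGenerated F := by
  haveI : F.IsQuasicoherent := hF
  let j := X.toSpecΓ
  let N := (Scheme.Modules.pushforward j).obj F
  haveI : N.IsQuasicoherent := isQuasicoherent_pushforward j F
  obtain ⟨P⟩ := AlgMod.exists_presentation N
  let P' := Scheme.Modules.presentationRestrict j P
  let e : N.restrict j ≅ F := (asIso (Scheme.Modules.restrictAdjunction j).counit).app F
  let P'' := presIso e P'
  exact ⟨_, P''.generators.π, P''.generators.epi⟩

end Groth.Agent.S4407
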