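import Groth.Statements.S4429
import Mathlib
-- import your own Groth.Agent.* helpers here

set_option autoImplicit false
universe u
open EGA2

namespace Groth.Agent.S4429

/-- For an integral domain A with fraction field K, a finitely generated A-module E and an endomorphism
u of E, the coefficients of the characteristic polynomial of u ⊗ 1 acting on the K-vector space K
⊗_A E (the elementary symmetric functions of u, among them its trace and determinant) are integral
over A. -/
theorem result (A : Type u) [CommRing A] [IsDomain A] (K : Type u) [Field K]
    [Algebra A K] [IsFractionRing A K] (E : Type u) [AddCommGroup E] [Module A E] [Module.Finite A E]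
    (u : E →ₗ[A] E) (i : ℕ) :
    IsIntegral A (((u.baseChange K).charpoly).coeff i) := by
  classical
  obtain ⟨p, hp, hp'⟩ := LinearMap.exists_monic_and_aeval_eq_zero A u
  let v := u.baseChange K
  have hv : Polynomial.aeval v (p.map (algebraMap A K)) = 0 := by
    rw [Polynomial.aeval_map_algebraMap]
    show Polynomial.aeval (Module.End.baseChangeHom A K E u) p = 0
    rw [Polynomial.aeval_algHom_apply, hp', map_zero]
  let L := AlgebraicClosure K
  let w := v.baseChange L
  have hw : Polynomial.aeval w ((p.map (algebraMap A K)).map (algebraMap K L)) = 0 := by
    rw [Polynomial.aeval_map_algebraMap]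
    show Polynomial.aeval (Module.End.baseChangeHom K L _ v) (p.map (algebraMap A K)) = 0
    rw [Polynomial.aeval_algHom_apply, hv, map_zero]
  rw [← isIntegral_algebraMap_iff (B := L) (algebraMap K L).injective, ← Polynomial.coeff_map,
    ← LinearMap.charpoly_baseChange]
  refine Polynomial.isIntegral_coeff_of_factors _ ?_ (IsAlgClosed.splits _) (fun x hx => ?_) i
  · rw [(LinearMap.charpoly_monic w).leadingCoeff]; exact isIntegral_one
  · obtain ⟨x₀, hx₀⟩ := ((Module.End.hasEigenvalue_iff_isRoot_charpoly w x).mpr hx).exists_hasEigenvector
    have h := Module.End.aeval_apply_of_hasEigenvector (p := (p.map (algebraMap A K)).map (algebraMap K L)) hx₀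
    rw [hw, LinearMap.zero_apply] at h
    have h0 : ((p.map (algebraMap A K)).map (algebraMap K L)).eval x = 0 := (smul_eq_zero.mp h.symm).resolve_right hx₀.2
    rw [Polynomial.map_map, ← IsScalarTower.algebraMap_eq, Polynomial.eval_map] at h0
    exact ⟨p, hp, h0⟩

end Groth.Agent.S4429
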