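import Groth.Statements.S4430
import Groth.Agent.S4429
import Mathlib
-- import your own Groth.Agent.* helpers here

set_option autoImplicit false
universe u
open EGA2

namespace Groth.Agent.S4430

/-- Let A be an integral domain with fraction field K, E a finitely generated A-module and u an
endomorphism of E whose characteristic-polynomial coefficients (those of u ⊗ 1 on K ⊗_A E) all lie
in A. If u is an automorphism of E, then its determinant, as an element of A, is invertible in A. -/
theorem result (A : Type u) [CommRing A] [IsDomain A] (K : Type u) [Field K]
    [Algebra A K] [IsFractionRing A K] (E : Type u) [AddCommGroup E] [Module A E] [Module.Finite A E]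
    (u : E →ₗ[A] E) (hcoeff : ∀ i : ℕ, ((u.baseChange K).charpoly).coeff i ∈ (algebraMap A K).range)
    (a : A) (ha : algebraMap A K a = LinearMap.det (u.baseChange K)) (hu : Function.Bijective u) :
    IsUnit a := by
  let e := LinearEquiv.ofBijective u hu
  let v := u.baseChange K
  let v' := (e.symm : E →ₗ[A] E).baseChange K
  have hvv : v * v' = 1 := by
    show v ∘ₗ v' = LinearMap.id
    rw [← LinearMap.baseChange_comp, show u ∘ₗ (e.symm : E →ₗ[A] E) = LinearMap.id from LinearMap.ext fun x => e.apply_symm_apply x,
      LinearMap.baseChange_id]
  have hab : algebraMap A K a * LinearMap.det v' = 1 := by rw [ha, ← map_mul, hvv, map_one]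
  have hint : IsIntegral A (LinearMap.det v') := by
    rw [LinearMap.det_eq_sign_charpoly_coeff]
    exact (((isIntegral_one (R := A) (B := K)).neg).pow _).mul (Groth.Agent.S4429.result A K E _ 0)
  haveI hloc : IsLocalHom (algebraMap A (integralClosure A K)) :=
    RingHom.IsIntegral.isLocalHom (Algebra.IsIntegral.isIntegral (R := A) (A := integralClosure A K))
      fun x y h => IsFractionRing.injective A K (congrArg Subtype.val h)
  exact isUnit_of_map_unit (algebraMap A (integralClosure A K)) a (IsUnit.of_mul_eq_one ⟨_, hint⟩ (Subtype.ext hab))

end Groth.Agent.S4430
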