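import Groth.Statements.S4431
import Mathlib
-- import your own Groth.Agent.* helpers here

set_option autoImplicit false
universe u
open EGA2

namespace Groth.Agent.S4431

/-- Let A be an integral domain with fraction field K, E a finitely generated torsion-free A-module and
u an endomorphism of E whose characteristic-polynomial coefficients (those of u ⊗ 1 on K ⊗_A E) all
lie in A. If the determinant of u is the image of a unit of A, then u is an automorphism of E. -/
theorem result (A : Type u) [CommRing A] [IsDomain A] (K : Type u) [Field K]
    [Algebra A K] [IsFractionRing A K] (E : Type u) [AddCommGroup E] [Module A E] [Module.Finite A E]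
    [Module.IsTorsionFree A E]
    (u : E →ₗ[A] E) (hcoeff : ∀ i : ℕ, ((u.baseChange K).charpoly).coeff i ∈ (algebraMap A K).range)
    (a : A) (ha : algebraMap A K a = LinearMap.det (u.baseChange K)) (hunit : IsUnit a) :
    Function.Bijective u := by
  classical
  let v := u.baseChange K
  obtain ⟨q, hq⟩ : ∃ q : Polynomial A, q.map (algebraMap A K) = v.charpoly :=
    (Polynomial.mem_lifts _).mp ((Polynomial.lifts_iff_coeff_lifts _).mpr fun i => RingHom.mem_range.mp (hcoeff i))
  have hinj : Function.Injective (TensorProduct.mk A K E 1) := by
    intro x y h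
    obtain ⟨s, hs⟩ := (IsLocalizedModule.eq_iff_exists (nonZeroDivisors A) (TensorProduct.mk A K E 1)).mp h
    exact smul_right_injective E (nonZeroDivisors.coe_ne_zero s) hs
  have hqu : Polynomial.aeval u q = 0 := by
    refine LinearMap.ext fun x => hinj ?_
    have h0 : Polynomial.aeval v (q.map (algebraMap A K)) = 0 := by rw [hq]; exact LinearMap.aeval_self_charpoly v
    rw [Polynomial.aeval_map_algebraMap] at h0
    change Polynomial.aeval (Module.End.baseChangeHom A K E u) q = 0 at h0
    rw [Polynomial.aeval_algHom_apply] at h0
    have h1 := LinearMap.congr_fun h0 (1 ⊗ₜ[A] x)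
    simpa [Module.End.baseChangeHom] using h1
  have hc : IsUnit (q.coeff 0) := by
    have e : algebraMap A K (q.coeff 0) = algebraMap A K ((-1) ^ Module.finrank K (TensorProduct A K E) * a) := by
      rw [← Polynomial.coeff_map, hq, map_mul, map_pow, map_neg, map_one, ha, LinearMap.det_eq_sign_charpoly_coeff,
        ← mul_assoc, ← mul_pow, neg_one_mul, neg_neg, one_pow, one_mul]
    rw [IsFractionRing.injective A K e]
    exact ((isUnit_one.neg).pow _).mul hunit
  obtain ⟨c, hc⟩ := hc
  have hdec : u * Polynomial.aeval u q.divX = -(algebraMap A (Module.End A E) (q.coeff 0)) := by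
    have h := congrArg (Polynomial.aeval u) (Polynomial.X_mul_divX_add q)
    rw [map_add, map_mul, Polynomial.aeval_X, Polynomial.aeval_C, hqu] at h
    exact eq_neg_of_add_eq_zero_left h
  have hcomm : Polynomial.aeval u q.divX * u = u * Polynomial.aeval u q.divX := by
    simpa using congrArg (Polynomial.aeval u) (mul_comm q.divX Polynomial.X)
  constructor
  · intro x y hxy
    have h := congrArg (Polynomial.aeval u q.divX) hxy
    rw [← Module.End.mul_apply, ← Module.End.mul_apply, hcomm, hdec] at h
    simp only [LinearMap.neg_apply, neg_inj, Module.algebraMap_end_apply, ← hc] at h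
    simpa using congrArg ((↑c⁻¹ : A) • ·) h
  · intro y
    refine ⟨Polynomial.aeval u q.divX (-((↑c⁻¹ : A) • y)), ?_⟩
    rw [← Module.End.mul_apply, hdec]
    simp [← hc, smul_smul]

end Groth.Agent.S4431
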