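import Groth.Statements.S4434
import Groth.Agent.Lead.DVR.Extend
-- import your own Groth.Agent.* helpers here

set_option autoImplicit false
universe u
open EGA2

namespace Groth.Agent.S4434

/-- Let A be a Noetherian domain with field of fractions K and L a finitely generated field extension of
K. The integral closure of A in L is the intersection of the discrete valuation subrings of L (with
fraction field L) containing the image of A: an element of L is integral over A exactly when it
belongs to all of them. -/
theorem result (A : Type u) [CommRing A] [IsDomain A] [IsNoetherianRing A]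
    (K : Type u) [Field K] [Algebra A K] [IsFractionRing A K]
    (L : Type u) [Field L] [Algebra K L] [Algebra A L] [IsScalarTower A K L] (hfg : (⊤ : IntermediateField K L).FG) (x : L) :
    IsIntegral A x ↔ ∀ R : ValuationSubring L, IsDiscreteValuationRing R → (∀ a : A, algebraMap A L a ∈ R) → x ∈ R := by
  constructor
  · intro hx R _ hR
    obtain ⟨p, hp, hpx⟩ := hx
    let ψ : A →+* R := (algebraMap A L).codRestrict R.toSubring hR
    have hi : IsIntegral R x := ⟨p.map ψ, hp.map ψ, by rw [Polynomial.eval₂_map]; exact hpx⟩
    obtain ⟨y, hy⟩ := (IsIntegrallyClosed.isIntegral_iff (R := R) (K := L)).mp hi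
    exact hy ▸ y.2
  · intro h
    by_contra hx
    have hx0 : x ≠ 0 := fun e => hx (e ▸ isIntegral_zero)
    let := invertibleOfNonzero (inv_ne_zero hx0)
    let B : Subalgebra A L := Algebra.adjoin A {x⁻¹}
    let xinv : B := ⟨x⁻¹, Algebra.subset_adjoin rfl⟩
    have hne : Ideal.span {xinv} ≠ ⊤ := fun eq => hx (by
      by_cases hA : (⊥ : Ideal A) = ⊤
      · exact (bot_ne_top hA).elim
      obtain ⟨p, hp, hpx⟩ := Algebra.exists_aeval_invOf_eq_zero_of_idealMap_adjoin_sup_span_eq_top x⁻¹
        (⊥ : Ideal A) bot_ne_top (top_unique <| eq.ge.trans le_sup_right)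
      exact ⟨p, by simpa [Polynomial.Monic, sub_eq_zero] using hp, by rw [invOf_eq_inv, inv_inv, Polynomial.aeval_def] at hpx; exact hpx⟩)
    obtain ⟨M, hM, hle⟩ := Ideal.exists_le_maximal _ hne
    haveI : IsNoetherianRing B := isNoetherianRing_of_fg (Subalgebra.fg_def.mpr ⟨_, Set.finite_singleton _, rfl⟩)
    let S := Localization.AtPrime M
    haveI : IsDomain S := IsLocalization.isDomain_localization M.primeCompl_le_nonZeroDivisors
    haveI : IsNoetherianRing S := IsLocalization.isNoetherianRing M.primeCompl S inferInstance
    have hu : ∀ y : M.primeCompl, IsUnit (B.val.toRingHom y) := fun y =>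
      isUnit_iff_ne_zero.mpr fun e => y.2 (by
        rw [show (y : B) = 0 from Subtype.ext e]; exact M.zero_mem)
    let ι : S →+* L := IsLocalization.lift hu
    have hι : Function.Injective ι := by
      rw [IsLocalization.lift_injective_iff]
      intro a b
      constructor
      · intro h; rw [IsLocalization.injective S M.primeCompl_le_nonZeroDivisors h]
      · intro h; rw [show a = b from Subtype.ext h]
    letI := ι.toAlgebra
    have hxS : algebraMap B S xinv ∈ IsLocalRing.maximalIdeal S := (IsLocalRing.mem_maximalIdeal _).mpr fun h =>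
      ((IsLocalization.AtPrime.isUnit_to_map_iff S M _).mp h) (hle (Ideal.mem_span_singleton_self _))
    have hS : ¬ IsField S := fun hf => by
      rw [IsLocalRing.isField_iff_maximalIdeal_eq.mp hf, Ideal.mem_bot] at hxS
      exact inv_ne_zero hx0 (((IsLocalization.lift_eq hu xinv).symm.trans (congrArg ι hxS)).trans (map_zero ι))
    obtain ⟨s, hs⟩ := hfg
    have htop : Subfield.closure (Set.range (algebraMap S L) ∪ ↑s) = ⊤ := by
      refine top_unique ((Groth.Agent.Lead.DVR.closure_eq_top A K L s hs).ge.trans (Subfield.closure_mono ?_))
      refine Set.union_subset_union_left _ ?_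
      rintro _ ⟨a, rfl⟩
      exact ⟨algebraMap B S (algebraMap A B a), IsLocalization.lift_eq hu _⟩
    obtain ⟨O, hO, hSO, hmO⟩ := Groth.Agent.Lead.DVR.exists_dvr S L hS hι s htop
    have hval : O.valuation x⁻¹ < 1 := by
      have := hmO _ hxS
      rwa [show algebraMap S L (algebraMap B S xinv) = x⁻¹ from IsLocalization.lift_eq hu xinv] at this
    have hxO := h O hO fun a => by
      have := hSO (algebraMap B S (algebraMap A B a))
      rwa [show algebraMap S L (algebraMap B S (algebraMap A B a)) = algebraMap A L a from IsLocalization.lift_eq hu _] at this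
    rw [← O.valuation_le_one_iff] at hxO
    have h1 : O.valuation x * O.valuation x⁻¹ < 1 :=
      lt_of_le_of_lt (mul_le_of_le_one_left zero_le' hxO) hval
    rw [← map_mul, mul_inv_cancel₀ hx0, map_one] at h1
    exact lt_irrefl _ h1

end Groth.Agent.S4434
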