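import Groth.Statements.S4441
import Mathlib.AlgebraicGeometry.ValuativeCriterion
import Mathlib.AlgebraicGeometry.FunctionField
-- import your own Groth.Agent.* helpers here

set_option autoImplicit false
set_option backward.isDefEq.respectTransparency false
universe u
open CategoryTheory CategoryTheory.Limits AlgebraicGeometry
open EGA2

namespace Groth.Agent.S4441

/-- Let X and Y be integral separated schemes and f : X ⟶ Y a dominant, quasi-compact, universally
closed morphism, ξ the generic point of X. Every valuation subring R of the function field K(X) of X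
which dominates the local ring of Y at a point y (via O_{Y,y} → O_{Y,f(ξ)} → K(X): image inside R,
maximal ideal into the maximal ideal of R) also dominates the local ring of X at some point x (via
O_{X,x} → K(X)). -/
theorem result {X Y : Scheme.{u}} [IsIntegral X] [IsIntegral Y]
    [X.IsSeparated] [Y.IsSeparated] (f : X ⟶ Y) [IsDominant f] [QuasiCompact f] [UniversallyClosed f]
    (R : ValuationSubring X.functionField) (y : Y) (hy : f.base (genericPoint X) ⤳ y)
    (hdom : (∀ a : Y.presheaf.stalk y, (Y.presheaf.stalkSpecializes hy ≫ f.stalkMap (genericPoint X)).hom a ∈ R) ∧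
      ∀ a ∈ IsLocalRing.maximalIdeal (Y.presheaf.stalk y),
        R.valuation ((Y.presheaf.stalkSpecializes hy ≫ f.stalkMap (genericPoint X)).hom a) < 1) :
    ∃ x : X, (∀ a : X.presheaf.stalk x, algebraMap (X.presheaf.stalk x) X.functionField a ∈ R) ∧
      ∀ a ∈ IsLocalRing.maximalIdeal (X.presheaf.stalk x), R.valuation (algebraMap (X.presheaf.stalk x) X.functionField a) < 1 := by
  haveI : IsLocalHom (CommRingCat.Hom.hom (𝟙 (CommRingCat.of R))) := ⟨fun a ha => by simpa using ha⟩
  let a := Y.presheaf.stalkSpecializes hy ≫ f.stalkMap (genericPoint X)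
  let b : Y.presheaf.stalk y ⟶ CommRingCat.of R := CommRingCat.ofHom (a.hom.codRestrict R.toSubring hdom.1)
  have hex : ValuativeCriterion.Existence f := by
    have h := ‹UniversallyClosed f›
    rw [UniversallyClosed.eq_valuativeCriterion] at h
    exact h.1
  have w : CategoryTheory.CommSq (X.fromSpecStalk (genericPoint X)) (Spec.map (CommRingCat.ofHom (algebraMap R X.functionField))) f (CategoryTheory.CategoryStruct.comp (Spec.map b) (Y.fromSpecStalk y)) := ⟨by
    rw [← Scheme.SpecMap_stalkMap_fromSpecStalk, ← Spec.map_comp_assoc,
      show b ≫ CommRingCat.ofHom (algebraMap R X.functionField) = a from rfl]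
    simp [a, Spec.map_comp, Scheme.SpecMap_stalkSpecializes_fromSpecStalk]⟩
  obtain ⟨⟨l, hl, -⟩⟩ := (hex { R := R, K := X.functionField, i₁ := X.fromSpecStalk (genericPoint X), i₂ := CategoryTheory.CategoryStruct.comp (Spec.map b) (Y.fromSpecStalk y), commSq := w }).exists_lift
  dsimp only at l hl
  let φ := Scheme.stalkClosedPointTo l
  have e : φ ≫ CommRingCat.ofHom (algebraMap R X.functionField) = X.presheaf.stalkSpecializes (genericPoint_specializes (l (IsLocalRing.closedPoint R))) := by
    apply Spec.map_injective
    rw [← CategoryTheory.cancel_mono (X.fromSpecStalk _), Spec.map_comp, CategoryTheory.Category.assoc,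
      Scheme.Spec_stalkClosedPointTo_fromSpecStalk, Scheme.SpecMap_stalkSpecializes_fromSpecStalk]
    exact hl
  refine ⟨l (IsLocalRing.closedPoint R), fun c => ?_, fun c hc => ?_⟩
  · have : algebraMap (X.presheaf.stalk (l (IsLocalRing.closedPoint R))) X.functionField c = ((φ c : R) : X.functionField) :=
      (congrArg (fun t => (CommRingCat.Hom.hom t) c) e).symm
    rw [this]
    exact (φ c : R).2
  · have : algebraMap (X.presheaf.stalk (l (IsLocalRing.closedPoint R))) X.functionField c = ((φ c : R) : X.functionField) :=
      (congrArg (fun t => (CommRingCat.Hom.hom t) c) e).symm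
    rw [this, ← ValuationSubring.valuation_lt_one_iff]
    intro hu
    exact hc (isUnit_of_map_unit φ.hom c hu)

end Groth.Agent.S4441
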