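import Groth.Statements.S4469
import Mathlib.RingTheory.ZariskisMainTheorem
-- import your own Groth.Agent.* helpers here

set_option autoImplicit false
universe u
open CAlg

namespace Groth.Agent.S4469

/-- Let A be an integrally closed Noetherian local domain with field of fractions K, B an A-algebra of
finite type which is a domain with the same field of fractions (A → B → K compatible with A → K),
and 𝔫 a maximal ideal of B lying over the maximal ideal 𝔪 of A and minimal among the prime ideals of
B lying over 𝔪. Then B = A: the structure map A → B is bijective. -/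
theorem result (A B K : Type u) [CommRing A]
    [IsDomain A] [IsNoetherianRing A] [IsLocalRing A] [IsIntegrallyClosed A] [CommRing B] [IsDomain B]
    [Field K] [Algebra A B] [Algebra B K] [Algebra A K] [IsScalarTower A B K] [IsFractionRing A K]
    [IsFractionRing B K] [Algebra.FiniteType A B] (n : Ideal B) [n.IsMaximal]
    (hn : n.comap (algebraMap A B) = IsLocalRing.maximalIdeal A)
    (hmin : ∀ q : Ideal B, q.IsPrime → q.comap (algebraMap A B) = IsLocalRing.maximalIdeal A → q ≤ n → q = n) :
    Function.Bijective (algebraMap A B) := by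
  classical
  have : IsNoetherianRing B := Algebra.FiniteType.isNoetherianRing A B
  let M : Ideal B := (IsLocalRing.maximalIdeal A).map (algebraMap A B)
  have hMn : M ≤ n := Ideal.map_le_iff_le_comap.mpr hn.ge
  have hfib : ∀ q : Ideal B, q.IsPrime → M ≤ q → q.comap (algebraMap A B) = IsLocalRing.maximalIdeal A := fun q hq hle ↦
    ((IsLocalRing.maximalIdeal.isMaximal A).eq_of_le (Ideal.IsPrime.comap _ (hK := hq)).ne_top (Ideal.map_le_iff_le_comap.mp hle)).symm
  let T := (M.finite_minimalPrimes_of_isNoetherianRing).toFinset.erase n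
  have hT : ∀ Q ∈ T, ∃ g ∈ Q, g ∉ n := fun Q hQ ↦ by
    obtain ⟨hne, hQ⟩ := Finset.mem_erase.mp hQ
    rw [Set.Finite.mem_toFinset] at hQ
    exact Set.not_subset.mp fun hle ↦ hne (hmin Q hQ.1.1 (hfib Q hQ.1.1 hQ.1.2) hle)
  choose! g hgQ hgn using hT
  let G := ∏ Q ∈ T, g Q
  have hG : G ∉ n := n.primeCompl.prod_mem fun Q hQ ↦ hgn Q hQ
  have : Algebra.QuasiFiniteAt A n := by
    refine Algebra.QuasiFiniteAt.of_isOpen_singleton_fiber (⟨n, inferInstance⟩ : PrimeSpectrum B) ?_
    refine ⟨PrimeSpectrum.basicOpen G, (PrimeSpectrum.basicOpen G).isOpen, ?_⟩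
    ext ⟨q, hq⟩
    simp only [Set.mem_preimage, SetLike.mem_coe, PrimeSpectrum.mem_basicOpen, Set.mem_singleton_iff, Subtype.mk.injEq]
    constructor
    · intro hGq
      have hqM : M ≤ q.asIdeal := Ideal.map_le_iff_le_comap.mpr (by
        have e : q.asIdeal.comap (algebraMap A B) = n.comap (algebraMap A B) := congrArg PrimeSpectrum.asIdeal hq
        rw [e, hn])
      obtain ⟨Q, hQ, hQq⟩ := Ideal.exists_minimalPrimes_le hqM
      by_cases hQn : Q = n
      · subst hQn
        exact PrimeSpectrum.ext ((Ideal.IsMaximal.eq_of_le inferInstance q.isPrime.ne_top hQq).symm)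
      · have hQT : Q ∈ T := Finset.mem_erase.mpr ⟨hQn, by rwa [Set.Finite.mem_toFinset]⟩
        exact absurd (hQq (Q.mem_of_dvd (Finset.dvd_prod_of_mem g hQT) (hgQ Q hQT))) hGq
    · intro e; rw [e]; exact hG
  obtain ⟨r, hrn, hr, hx⟩ := Algebra.zariskisMainProperty_iff.mp (Algebra.ZariskisMainProperty.of_finiteType (R := A) n)
  have hinjB : Function.Injective (algebraMap B K) := IsFractionRing.injective B K
  have key : ∀ b : B, IsIntegral A b → ∃ a, algebraMap A B a = b := fun b hb ↦ by
    obtain ⟨a, ha⟩ := IsIntegrallyClosed.algebraMap_eq_of_integral (hb.map (IsScalarTower.toAlgHom A B K))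
    exact ⟨a, hinjB ((IsScalarTower.algebraMap_apply A B K a).symm.trans ha)⟩
  refine ⟨fun a a' h ↦ IsFractionRing.injective A K (by
    rw [IsScalarTower.algebraMap_apply A B K, IsScalarTower.algebraMap_apply A B K, h]), fun b ↦ ?_⟩
  obtain ⟨a, ha⟩ := key r hr
  have hu : IsUnit a := by
    by_contra h
    exact hrn (ha ▸ (hn.ge ((IsLocalRing.mem_maximalIdeal _).mpr h) : a ∈ n.comap (algebraMap A B)))
  obtain ⟨m, hm⟩ := hx b
  obtain ⟨c, hc⟩ := key _ hm
  obtain ⟨v, hv⟩ := (hu.pow m).exists_left_inv
  refine ⟨v * c, ?_⟩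
  rw [map_mul, hc, ← ha, ← map_pow, ← mul_assoc, ← map_mul, hv, map_one, one_mul]

end Groth.Agent.S4469
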