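import Groth.Statements.S4486
import Groth.Agent.FlatCx.Homology

set_option autoImplicit false
universe u
open FlatCx

namespace Groth.Agent.S4486

open CategoryTheory CategoryTheory.Limits in
/-- For the homological functor T_p(M) = H_p(P ⊗_A M) of a chain complex P of flat modules over a
commutative ring A, which commutes with filtered colimits. Let A be a domain and suppose P_i = 0 for
i < i₀ and that every T_n(A) is a finitely presented A-module. Then for every integer N there is a
nonzero f ∈ A such that, for every p ≤ N, the functor of A_f-modules N ↦ H_p(P_f ⊗_{A_f} N), where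
P_f = P ⊗_A A_f, takes injections to injections and surjections to surjections. -/
theorem result {A : Type u} [CommRing A] [IsDomain A]
    (P : ChainComplex (ModuleCat.{u} A) ℤ) (hP : ∀ i, Module.Flat A (P.X i)) (i₀ : ℤ)
    (hb : ∀ i < i₀, IsZero (P.X i))
    (hfp : ∀ n : ℤ, Module.FinitePresentation A (CohIII.T P n (ModuleCat.of A A))) (N : ℤ) :
    ∃ f : A, f ≠ 0 ∧ ∀ p ≤ N,
      (CohIII.TFun (CohIII.bcCx (algebraMap A (Localization.Away f)) P) p).PreservesMonomorphisms ∧
        (CohIII.TFun (CohIII.bcCx (algebraMap A (Localization.Away f)) P) p).PreservesEpimorphisms := by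
  haveI : ∀ n, Module.FinitePresentation A (P.homology n) := fun n => by
    haveI := hfp n
    exact Module.FinitePresentation.of_equiv (FlatCx.unitIso P n).toLinearEquiv
  let y : PrimeSpectrum A := ⊥
  let U : Set (PrimeSpectrum A) := ⋂ q ∈ Finset.Icc i₀ N, Module.freeLocus A (P.homology q)
  have hU : IsOpen U := (Finset.finite_toSet _).isOpen_biInter fun q _ => Module.isOpen_freeLocus
  have hy : y ∈ U := by
    simp only [U, Set.mem_iInter]
    intro q _
    haveI : IsLocalization.AtPrime (FractionRing A) y.asIdeal := by
      show IsLocalization y.asIdeal.primeCompl (FractionRing A)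
      rw [show y.asIdeal.primeCompl = nonZeroDivisors A by
        ext x; simp [y, PrimeSpectrum.asIdeal_bot, Ideal.mem_primeCompl_iff, mem_nonZeroDivisors_iff_ne_zero]]
      infer_instance
    exact (Module.mem_freeLocus_iff_tensor y (FractionRing A)).mpr (Module.Free.of_divisionRing _ _)
  obtain ⟨_, ⟨f, rfl⟩, hyf, hfU⟩ :=
    PrimeSpectrum.isTopologicalBasis_basic_opens.exists_subset_of_mem_open hy hU
  refine ⟨f, by simpa [y, PrimeSpectrum.asIdeal_bot] using hyf, ?_⟩
  let B := Localization.Away f
  have hflat : ∀ q ≤ N, Module.Flat B ((CohIII.bcCx (algebraMap A B) P).homology q) := by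
    intro q hq
    by_cases hqi : q < i₀
    · haveI : Subsingleton (P.homology q) := by
        haveI := ModuleCat.subsingleton_of_isZero (hb q hqi)
        exact (FlatCx.cls_surjective P q).subsingleton
      exact Module.Flat.of_linearEquiv (FlatCx.homologyBaseChangeOfFlat P B q (q - 1) (by omega))
    · haveI : Module.Projective B (LocalizedModule (Submonoid.powers f) (P.homology q)) :=
        Module.basicOpen_subset_freeLocus_iff.mp (hfU.trans (Set.biInter_subset_of_mem
          (Finset.mem_coe.mpr (Finset.mem_Icc.mpr ⟨by omega, hq⟩))))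
      haveI hfl := Module.Flat.of_projective (R := B)
        (M := LocalizedModule (Submonoid.powers f) (P.homology q))
      exact Module.Flat.of_linearEquiv (FlatCx.homologyBaseChangeOfFlat P B q (q - 1) (by omega) ≪≫ₗ
        (LocalizedModule.equivTensorProduct (Submonoid.powers f) (P.homology q)).symm)
  have hb' : ∀ i < i₀, IsZero ((CohIII.bcCx (algebraMap A B) P).X i) := fun i hi =>
    (ModuleCat.extendScalars (algebraMap A B)).map_isZero (hb i hi)
  have hC := FlatCx.flat_op_of_below (FlatCx.bc_flat B P hP) i₀ hb' N hflat
  exact fun p hp => (FlatCx.exact_iff (FlatCx.bc_flat B P hP) p (p - 1) (by omega)).mpr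
    ⟨hC p hp, hC (p - 1) (by omega)⟩

end Groth.Agent.S4486
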