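import Groth.Statements.S4488
import Groth.Agent.FlatCx.Homology

set_option autoImplicit false
universe u
open FlatCx

namespace Groth.Agent.S4488

open CategoryTheory CategoryTheory.Limits in
/-- For the homological functor T_q(M) = H_q(P ⊗_A M) of a chain complex P of flat modules over a
commutative local ring A with residue field k. Suppose P_i = 0 for i < i₀ and that every T_n(A) is a
finitely presented A-module, and let p be an integer. If T_q takes injections to injections and
surjections to surjections for every q ≤ p, then dim_{k(x)} T_q(k(x)) = dim_k T_q(k) for every point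
x of Spec A and every q ≤ p. Conversely, if A is reduced and this equality holds at the generic
point of every irreducible component of Spec A (every minimal prime) for every q ≤ p, then T_q takes
injections to injections and surjections to surjections for every q ≤ p. No Noetherian hypothesis on
A. -/
theorem result {A : Type u} [CommRing A] [IsLocalRing A]
    (P : ChainComplex (ModuleCat.{u} A) ℤ) (hP : ∀ i, Module.Flat A (P.X i)) (i₀ : ℤ)
    (hb : ∀ i < i₀, IsZero (P.X i))
    (hfp : ∀ n : ℤ, Module.FinitePresentation A (CohIII.T P n (ModuleCat.of A A))) (p : ℤ) :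
    ((∀ q ≤ p, (CohIII.TFun P q).PreservesMonomorphisms ∧ (CohIII.TFun P q).PreservesEpimorphisms) →
        ∀ (x : PrimeSpectrum A), ∀ q ≤ p, CohIII.dRank P q x = CohIII.dRank P q (IsLocalRing.closedPoint A)) ∧
      (IsReduced A →
        (∀ x : PrimeSpectrum A, x.asIdeal ∈ minimalPrimes A →
          ∀ q ≤ p, CohIII.dRank P q x = CohIII.dRank P q (IsLocalRing.closedPoint A)) →
        ∀ q ≤ p, (CohIII.TFun P q).PreservesMonomorphisms ∧ (CohIII.TFun P q).PreservesEpimorphisms) := by
  haveI : ∀ n, Module.FinitePresentation A (P.homology n) := fun n => by
    haveI := hfp n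
    exact Module.FinitePresentation.of_equiv (FlatCx.unitIso P n).toLinearEquiv
  constructor
  · intro h x q hq
    obtain ⟨-, hC⟩ := (FlatCx.exact_iff hP q (q - 1) (by omega)).mp (h q hq)
    haveI := ((FlatCx.exact_iff_flat_homology hP q (q - 1) (by omega)).mp (h q hq)).2
    rw [FlatCx.dRank_eq_cDim_homology P hP q (q - 1) (by omega) hC,
      FlatCx.dRank_eq_cDim_homology P hP q (q - 1) (by omega) hC]
    exact FlatCx.cDim_const_of_flat _ x
  · intro hr h
    have key : ∀ k : ℕ, ∀ q ≤ p, q < i₀ + k → Module.Flat A (FlatCx.Op P q) := by
      intro k
      induction k with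
      | zero =>
        intro q _ hq
        haveI := ModuleCat.subsingleton_of_isZero (hb q (by simpa using hq))
        haveI : Subsingleton (FlatCx.Op P q) := (Submodule.mkQ_surjective _).subsingleton
        infer_instance
      | succ k ih =>
        intro q hqp hqk
        by_cases hq : q < i₀ + k
        · exact ih q hqp hq
        · have hC := ih (q - 1) (by omega) (by omega)
          haveI := FlatCx.free_of_cDim_minimal (A := A) (P.homology q) fun x hx => by
            rw [← FlatCx.dRank_eq_cDim_homology P hP q (q - 1) (by omega) hC,
              ← FlatCx.dRank_eq_cDim_homology P hP q (q - 1) (by omega) hC]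
            exact h x hx q hqp
          exact FlatCx.flat_op_of_flat_homology hP q (q - 1) (by omega) Module.Flat.of_free hC
    have hC : ∀ q ≤ p, Module.Flat A (FlatCx.Op P q) := fun q hq =>
      key ((q + 1 - i₀).toNat) q hq (by omega)
    exact fun q hq => (FlatCx.exact_iff hP q (q - 1) (by omega)).mpr ⟨hC q hq, hC (q - 1) (by omega)⟩

end Groth.Agent.S4488
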