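import Groth.Statements.S4490
import Groth.Agent.FlatCx.Locus

set_option autoImplicit false
universe u
open FlatCx

namespace Groth.Agent.S4490

open CategoryTheory CategoryTheory.Limits in
/-- The case of the functor T_p(M) = H_p(P ⊗_A M) of a chain complex P of finitely generated flat
modules over a Noetherian local ring A with maximal ideal m and residue field k. Then T_p takes
surjections to surjections if and only if the map T_p(A) → T_p(k) induced by A → k is surjective;
and also if and only if, for all sufficiently large n (there is n₀ such that for every n ≥ n₀), the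
map T_p(A/m^(n+1)) → T_p(A/m) induced by the projection is surjective. (Surjectivity at one n gives
it at every smaller n, so this is the same as asking it for every n; at n = 0 alone the map is an
isomorphism and the condition would be empty.) -/
theorem result {A : Type u} [CommRing A] [IsNoetherianRing A]
    [IsLocalRing A] (P : ChainComplex (ModuleCat.{u} A) ℤ)
    (hP : ∀ i, Module.Finite A (P.X i) ∧ Module.Flat A (P.X i)) (p : ℤ) :
    ((CohIII.TFun P p).PreservesEpimorphisms ↔
      Function.Surjective ((CohIII.TFun P p).map
        (ModuleCat.ofHom (Algebra.linearMap A (IsLocalRing.ResidueField A)))).hom) ∧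
    ((CohIII.TFun P p).PreservesEpimorphisms ↔
      ∃ n₀ : ℕ, ∀ n : ℕ, n₀ ≤ n → Function.Surjective ((CohIII.TFun P p).map (ModuleCat.ofHom
        (Ideal.Quotient.factorₐ A (Ideal.pow_le_self (I := IsLocalRing.maximalIdeal A)
          (Nat.succ_ne_zero n))).toLinearMap :
        ModuleCat.of A (A ⧸ IsLocalRing.maximalIdeal A ^ (n + 1)) ⟶
          ModuleCat.of A (A ⧸ IsLocalRing.maximalIdeal A))).hom) := by
  refine ⟨FlatCx.preservesEpimorphisms_iff_surjective_residue hP p, ?_⟩
  constructor
  · intro h
    exact ⟨0, fun n _ => FlatCx.surjective_of_preservesEpimorphisms p _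
      (Ideal.Quotient.factor_surjective (Ideal.pow_le_self (Nat.succ_ne_zero n)))⟩
  · rintro ⟨n₀, h⟩
    haveI := (hP p).1
    haveI := (hP (p - 1)).1
    haveI := (hP (p - 1)).2
    haveI : Module.Free A (P.X (p - 1)) := Module.free_of_flat_of_isLocalRing
    refine (FlatCx.preservesEpimorphisms_iff (fun i => (hP i).2) p (p - 1) (by omega)).mpr ?_
    haveI := FlatCx.ThreeTerm.free_of_inf_le (FlatCx.ThreeTerm.range_inf_le_of_surjOn_factor
      (FlatCx.d_hom_comp (P := P) (p + 1) p (p - 1)) (IsLocalRing.maximalIdeal A)
      ⟨n₀, fun n hn => (FlatCx.surjective_map_iff p (p - 1) (by omega) _).mp (h n hn)⟩)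
    exact (FlatCx.flat_quotient_range_iff (i := p - 1) (k := p) (by omega)).mp Module.Flat.of_free

end Groth.Agent.S4490
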