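import Groth.Statements.S4495
import Mathlib.Geometry.RingedSpace.LocallyRingedSpace
import Mathlib.Topology.Sheaves.SheafCondition.UniqueGluing
import Mathlib.RingTheory.LocalRing.Basic
import Mathlib.Topology.Connected.Clopen

set_option autoImplicit false
set_option backward.isDefEq.respectTransparency false
universe u
open FlatCx

namespace Groth.Agent.S4495
open CategoryTheory AlgebraicGeometry Opposite

open CategoryTheory AlgebraicGeometry Opposite in
/-- A locally ringed space Z is connected, in the sense that it is not the disjoint union of two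
nonempty open subsets (the empty space being allowed), if and only if every idempotent of the ring
of global sections Γ(Z, O_Z) is 0 or 1 (equivalently, Γ(Z, O_Z) is not isomorphic to a product of
two nonzero rings). -/
theorem result (Z : LocallyRingedSpace.{u}) :
    PreconnectedSpace Z ↔
      ∀ e : Z.presheaf.obj (op ⊤), IsIdempotentElem e → e = 0 ∨ e = 1 := by
  have hext : ∀ {U : TopologicalSpace.Opens Z} (s t : Z.presheaf.obj (op U)),
      (∀ (x : Z) (hx : x ∈ U), Z.presheaf.germ U x hx s = Z.presheaf.germ U x hx t) → s = t :=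
    fun s t h => TopCat.Presheaf.section_ext Z.sheaf _ s t h
  have hidem : ∀ (x : Z) (a : Z.presheaf.stalk x), IsIdempotentElem a → a = 0 ∨ a = 1 := by
    intro x a ha
    have h0 : a * (1 - a) = 0 := by rw [mul_sub, mul_one, ha.eq, sub_self]
    rcases IsLocalRing.isUnit_or_isUnit_one_sub_self a with h | h
    · right
      exact (sub_eq_zero.mp ((h.mul_right_eq_zero).mp h0)).symm
    · left
      exact (h.mul_left_eq_zero).mp h0
  constructor
  · intro hZ e he
    let A : Set Z := {x | Z.presheaf.germ ⊤ x trivial e = 1}
    have hA : A = SetLike.coe (Z.toRingedSpace.basicOpen (U := ⊤) e) := by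
      ext x
      constructor
      · intro hx
        exact (Z.toRingedSpace.mem_basicOpen (U := ⊤) e x trivial).mpr (by rw [show Z.presheaf.germ ⊤ x trivial e = 1 from hx]; exact isUnit_one)
      · intro hx
        have hu := (Z.toRingedSpace.mem_basicOpen (U := ⊤) e x trivial).mp hx
        refine (hidem x _ (he.map (Z.presheaf.germ ⊤ x trivial).hom)).resolve_left fun h0 => ?_
        exact not_isUnit_zero (h0 ▸ hu)
    have hAc : Aᶜ = SetLike.coe (Z.toRingedSpace.basicOpen (U := ⊤) (1 - e)) := by
      ext x
      have hm : Z.presheaf.germ ⊤ x trivial (1 - e) = 1 - Z.presheaf.germ ⊤ x trivial e :=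
        (map_sub (Z.presheaf.germ ⊤ x trivial).hom 1 e).trans (by rw [map_one])
      constructor
      · intro hx
        refine (Z.toRingedSpace.mem_basicOpen (U := ⊤) (1 - e) x trivial).mpr ?_
        have h0 := (hidem x _ (he.map (Z.presheaf.germ ⊤ x trivial).hom)).resolve_right hx
        show IsUnit (Z.presheaf.germ ⊤ x trivial (1 - e))
        rw [hm, show Z.presheaf.germ ⊤ x trivial e = 0 from h0, sub_zero]
        exact isUnit_one
      · intro hx h1
        have hu : IsUnit (Z.presheaf.germ ⊤ x trivial (1 - e)) := (Z.toRingedSpace.mem_basicOpen (U := ⊤) (1 - e) x trivial).mp hx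
        rw [hm, show Z.presheaf.germ ⊤ x trivial e = 1 from h1, sub_self] at hu
        exact not_isUnit_zero hu
    have hclopen : IsClopen A :=
      ⟨isOpen_compl_iff.mp (hAc ▸ (Z.toRingedSpace.basicOpen (U := ⊤) (1 - e)).isOpen), hA ▸ (Z.toRingedSpace.basicOpen (U := ⊤) e).isOpen⟩
    rcases isClopen_iff.mp hclopen with h | h
    · left
      refine hext e 0 fun x hx => ?_
      rw [map_zero]
      exact (hidem x _ (he.map (Z.presheaf.germ ⊤ x hx).hom)).resolve_right fun h1 => (h ▸ (show x ∈ A from h1) : x ∈ (∅ : Set Z))
    · right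
      refine hext e 1 fun x hx => ?_
      rw [map_one]
      exact (h.symm ▸ Set.mem_univ x : x ∈ A)
  · intro h
    rw [preconnectedSpace_iff_clopen]
    intro s hs
    let U : ULift.{u} Bool → TopologicalSpace.Opens Z := fun b => if b.down then ⟨s, hs.2⟩ else ⟨sᶜ, hs.1.isOpen_compl⟩
    let sf : ∀ b, Z.presheaf.obj (op (U b)) := fun b => if b.down then 1 else 0
    have hU : ⊤ ≤ iSup U := fun x _ => by
      rw [TopologicalSpace.Opens.mem_iSup]
      by_cases hx : x ∈ s
      · exact ⟨⟨true⟩, hx⟩
      · exact ⟨⟨false⟩, hx⟩
    obtain ⟨e, he, -⟩ := Z.sheaf.existsUnique_gluing' U ⊤ (fun b => homOfLE le_top) hU sf (by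
      rintro ⟨i⟩ ⟨j⟩
      refine hext _ _ fun x hx => ?_
      cases i <;> cases j
      · rfl
      · exact absurd hx.2 hx.1
      · exact absurd hx.1 hx.2
      · rfl)
    have hg : ∀ (b : ULift.{u} Bool) (x : Z) (hx : x ∈ U b), Z.presheaf.germ ⊤ x trivial e =
        Z.presheaf.germ (U b) x hx (sf b) := fun b x hx => by
      rw [← he b]
      exact (TopCat.Presheaf.germ_res_apply Z.presheaf (homOfLE le_top) x hx e).symm
    have hin : ∀ x ∈ s, Z.presheaf.germ ⊤ x trivial e = 1 := fun x hx =>
      (hg ⟨true⟩ x hx).trans (map_one _)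
    have hout : ∀ x ∉ s, Z.presheaf.germ ⊤ x trivial e = 0 := fun x hx =>
      (hg ⟨false⟩ x hx).trans (map_zero _)
    have hie : IsIdempotentElem e := by
      refine hext _ _ fun x hx => ?_
      rw [map_mul]
      by_cases hxs : x ∈ s
      · rw [hin x hxs, one_mul]
      · rw [hout x hxs, mul_zero]
    rcases h e hie with h0 | h1
    · left
      refine Set.eq_empty_of_forall_notMem fun x hx => ?_
      have := hin x hx
      rw [h0, map_zero] at this
      exact zero_ne_one this
    · right
      refine Set.eq_univ_of_forall fun x => ?_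
      by_contra hx
      have := hout x hx
      rw [h1, map_one] at this
      exact one_ne_zero this

end Groth.Agent.S4495
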