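import Groth.Statements.S4501
import Groth.Agent.FlatCx.Locus

set_option autoImplicit false
universe u
open FlatCx

namespace Groth.Agent.S4501

open CategoryTheory CategoryTheory.Limits in
/-- The case of finitely generated flat terms. Let A be a Noetherian domain, P a chain complex of
finitely generated flat A-modules, and for a prime y of A let P_y be the base change of P to the
local ring A_y. Then the set U of points y of Spec A such that the functor N ↦ H_p(P_y ⊗_{A_y} N) on
A_y-modules takes injections to injections and surjections to surjections is open and nonempty (it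
contains the generic point). -/
theorem result {A : Type u} [CommRing A] [IsNoetherianRing A] [IsDomain A]
    (P : ChainComplex (ModuleCat.{u} A) ℤ) (hP : ∀ i, Module.Finite A (P.X i) ∧ Module.Flat A (P.X i))
    (p : ℤ) :
    IsOpen {y : PrimeSpectrum A |
        (CohIII.TFun (CohIII.bcCx (algebraMap A (Localization.AtPrime y.asIdeal)) P) p).PreservesMonomorphisms ∧
          (CohIII.TFun (CohIII.bcCx (algebraMap A (Localization.AtPrime y.asIdeal)) P) p).PreservesEpimorphisms} ∧
      {y : PrimeSpectrum A |
        (CohIII.TFun (CohIII.bcCx (algebraMap A (Localization.AtPrime y.asIdeal)) P) p).PreservesMonomorphisms ∧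
          (CohIII.TFun (CohIII.bcCx (algebraMap A (Localization.AtPrime y.asIdeal)) P) p).PreservesEpimorphisms}.Nonempty := by
  refine ⟨(FlatCx.isOpen_preservesMonomorphisms_locus hP p).inter
    (FlatCx.isOpen_preservesEpimorphisms_locus hP p), ⊥, ?_⟩
  let y : PrimeSpectrum A := ⊥
  let K := Localization.AtPrime y.asIdeal
  haveI : IsFractionRing A K := by
    show IsLocalization (nonZeroDivisors A) K
    have e : y.asIdeal.primeCompl = nonZeroDivisors A := by
      ext x; simp [y, PrimeSpectrum.asIdeal_bot, Ideal.mem_primeCompl_iff, mem_nonZeroDivisors_iff_ne_zero]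
    rw [← e]
    infer_instance
  letI : Field K := IsFractionRing.toField A
  have hf : ∀ M : Type u, ∀ [AddCommGroup M] [Module K M], Module.Flat K M := fun M _ _ => inferInstance
  constructor
  · exact (FlatCx.preservesMonomorphisms_iff (FlatCx.bc_flat K P fun i => (hP i).2) p).mpr (hf _)
  · exact (FlatCx.preservesEpimorphisms_iff (FlatCx.bc_flat K P fun i => (hP i).2) p (p - 1)
      (by omega)).mpr (hf _)

end Groth.Agent.S4501
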