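import Groth.Statements.S4516
import Mathlib

set_option autoImplicit false
universe u
open EGA41

namespace Groth.Agent.S4516

/-- Let p be a prime, B an A-algebra of characteristic p and A' an A-subalgebra of B contained in
A[B^p]. Then the canonical map between Ω_{B/A} and Ω_{B/A'} is bijective (every A-derivation of B
vanishes on A[B^p]). -/
theorem result (p : ℕ) [Fact p.Prime] {A B : Type u}
    [CommRing A] [CommRing B] [Algebra A B] [CharP B p] (A' : Subalgebra A B)
    (hA' : A' ≤ EGA41.pPowerSubalgebra p A B) :
    Function.Bijective (KaehlerDifferential.map A A' B B) := by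
  have hzero : ∀ c ∈ A', KaehlerDifferential.D A B c = 0 := by
    intro c hc
    have hc' := hA' hc
    clear hc
    unfold EGA41.pPowerSubalgebra at hc'
    induction hc' using Algebra.adjoin_induction with
    | mem x hx =>
      obtain ⟨b, rfl⟩ := hx
      show KaehlerDifferential.D A B (b ^ p) = 0
      rw [Derivation.leibniz_pow, ← Nat.cast_smul_eq_nsmul B, CharP.cast_eq_zero, zero_smul]
    | algebraMap r => simp
    | add x y _ _ hx hy =>
      simp_all
    | mul x y _ _ hx hy => simp_all
  let l : B →ₗ[A'] Ω[B⁄A] :=
    { toFun := fun b => KaehlerDifferential.D A B b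
      map_add' := fun a b => map_add _ a b
      map_smul' := fun c b => by
        show KaehlerDifferential.D A B ((c : B) * b) = (c : B) • _
        simp [Derivation.leibniz, hzero _ c.2] }
  let D' : Derivation A' B (Ω[B⁄A]) :=
    { toLinearMap := l
      map_one_eq_zero' := Derivation.map_one_eq_zero _
      leibniz' := fun a b => Derivation.leibniz _ a b }
  refine ⟨?_, ?_⟩
  · intro x y hxy
    have key : ∀ z, D'.liftKaehlerDifferential (KaehlerDifferential.map A A' B B z) = z := by
      intro z
      have hz : z ∈ Submodule.span B (Set.range (KaehlerDifferential.D A B)) := by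
        rw [KaehlerDifferential.span_range_derivation]; trivial
      induction hz using Submodule.span_induction with
      | mem w hw =>
        obtain ⟨b, rfl⟩ := hw
        rw [KaehlerDifferential.map_D, Algebra.algebraMap_self, RingHom.id_apply]
        exact D'.liftKaehlerDifferential_comp_D b
      | zero => simp
      | add a b _ _ ha hb => simp [ha, hb]
      | smul c a _ ha => simp [ha]
    rw [← key x, hxy, key y]
  · exact KaehlerDifferential.map_surjective A A' B

end Groth.Agent.S4516
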