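import Groth.Statements.S4520
import Groth.Agent.Alg.PBasis.Basic
import Mathlib.RingTheory.Kaehler.Basic
import Mathlib.LinearAlgebra.Basis.Basic
import Mathlib.LinearAlgebra.Finsupp.Pi

set_option autoImplicit false
universe u
open EGA41

namespace Groth.Agent.S4520
open TensorProduct Groth.Agent.Alg.PBasis
set_option maxHeartbeats 800000

open TensorProduct in
/-- Let p be a prime, B a reduced ring of characteristic p, A a subring with B^p ⊆ A ⊆ B (here A → B
injective with all p-th powers in its image, and R → A → B with image in B the set of p-th powers, R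
standing for B^p). Suppose B has a p-basis (x_λ) over A and A has a p-basis over R, and let x'_λ ∈ A
map to x_λ^p. Then the elements 1 ⊗ d_{A/ℤ}(x'_λ) form a basis of the B-module Υ_{B/A}, the kernel
of B ⊗_A Ω_{A/ℤ} → Ω_{B/ℤ}. (The published statement also identifies Υ_{B/A} with the Frobenius
twist of Ω_{B/A}; this row states only the basis.) -/
theorem result (p : ℕ) [Fact p.Prime] {R A B : Type u} [CommRing R] [CommRing A]
    [CommRing B] [IsReduced B] [Algebra R A] [Algebra A B] [Algebra R B] [IsScalarTower R A B] [CharP B p]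
    (hinj : Function.Injective (algebraMap A B)) (hpow : ∀ b : B, b ^ p ∈ Set.range (algebraMap A B))
    (hR : Set.range (algebraMap R B) = Set.range fun b : B => b ^ p)
    {Λ M : Type u} (x : Λ → B) (hx : EGA41.IsPBasis p A x) (x' : Λ → A) (hx' : ∀ i, algebraMap A B (x' i) = x i ^ p)
    (y : M → A) (hy : EGA41.IsPBasis p R y) :
    ∃ b : Module.Basis Λ B (EGA41.imperfection ℤ A B),
      ∀ i, (b i : B ⊗[A] Ω[A⁄ℤ]) = (1 : B) ⊗ₜ[A] KaehlerDifferential.D ℤ A (x' i) := by
  classical
  have : CharP A p := (algebraMap A B).charP hinj p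
  choose f hf using hpow
  let F : B →+* A :=
    { toFun := f
      map_one' := hinj (by rw [hf, map_one, one_pow])
      map_zero' := hinj (by rw [hf, map_zero, zero_pow (Fact.out : p.Prime).ne_zero])
      map_add' := fun a b => hinj (by rw [hf, map_add, hf, hf, add_pow_char])
      map_mul' := fun a b => hinj (by rw [hf, map_mul, hf, hf, mul_pow]) }
  have hF : ∀ b, algebraMap A B (F b) = b ^ p := hf
  have hFinj : Function.Injective F := fun a b h => frobenius_inj B p (by
    rw [frobenius_def, frobenius_def, ← hF, ← hF, h])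
  have hFx : ∀ i, F (x i) = x' i := fun i => hinj (by rw [hF, hx'])
  have hFalg : ∀ a, F (algebraMap A B a) = a ^ p := fun a => hinj (by rw [hF, map_pow])
  have hA₀ : ∀ a : A, a ∈ EGA41.pPowerSubalgebra p R A → a ∈ F.range := fun a ha => by
    induction ha using Algebra.adjoin_induction with
    | mem c hc => obtain ⟨d, rfl⟩ := hc; exact ⟨algebraMap A B d, hFalg d⟩
    | algebraMap r =>
      obtain ⟨b, hb⟩ := hR.subset ⟨r, rfl⟩
      exact ⟨b, hinj (by rw [hF, ← IsScalarTower.algebraMap_apply]; exact hb)⟩
    | add a b _ _ ha hb => exact add_mem ha hb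
    | mul a b _ _ ha hb => exact mul_mem ha hb
  have hFmem : ∀ b, F b ∈ EGA41.pPowerSubalgebra p R A := fun b => by
    obtain ⟨r, hr⟩ := hR.symm.subset ⟨b, rfl⟩
    rw [show F b = algebraMap R A r from hinj (by rw [hF, ← IsScalarTower.algebraMap_apply]; exact hr.symm)]
    exact Subalgebra.algebraMap_mem _ r
  have hext : ∀ (N : Type u) [AddCommGroup N] [Module A N] (D D' : Derivation ℤ A N),
      (∀ j, D (y j) = D' (y j)) → (∀ i, D (x' i) = D' (x' i)) → D = D' := by
    intro N _ _ D D' h1 h2
    refine derivation_ext_of_generating p hy.2 D D' (fun a ha => ?_) h1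
    obtain ⟨b, rfl⟩ := hA₀ a ha
    letI : Module B N := Module.compHom N F
    letI : Algebra B A := F.toAlgebra
    let pull : Derivation ℤ A N → Derivation ℤ B N := fun E =>
      Derivation.mk' (E.toLinearMap.toAddMonoidHom.comp F.toAddMonoidHom).toIntLinearMap fun a b => by
        change E (F (a * b)) = F a • E (F b) + F b • E (F a)
        rw [map_mul, E.leibniz]
    refine DFunLike.congr_fun (f := pull D) (g := pull D') (derivation_ext_of_generating p hx.2 _ _ (fun c hc => ?_)
      fun i => ?_) b
    · obtain ⟨d, hd⟩ := exists_of_mem p (fun b => ⟨F b, hF b⟩) ⟨c, hc⟩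
      dsimp at hd
      change D (F c) = D' (F c)
      rw [← hd, hFalg, derivation_pow_eq_zero p D, derivation_pow_eq_zero p D']
    · change D (F (x i)) = D' (F (x i))
      rw [hFx, h2]
  let N := (Λ ⊕ M) →₀ B
  obtain ⟨D, hDy, hDx⟩ : ∃ D : Derivation ℤ A N, (∀ j, D (y j) = Finsupp.single (Sum.inr j) 1) ∧
      ∀ i, D (x' i) = Finsupp.single (Sum.inl i) 1 := by
    letI : Module Aᵐᵒᵖ N := Module.compHom N ((RingHom.id A).fromOpposite mul_comm)
    haveI : IsCentralScalar A N := ⟨fun _ _ => rfl⟩
    have : CharP (TrivSqZeroExt A N) p :=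
      charP_of_injective_ringHom (f := TrivSqZeroExt.inlHom A N) TrivSqZeroExt.inl_injective p
    have hp := (Fact.out : p.Prime)
    obtain ⟨Φ, hΦ, hΦx⟩ := exists_ringHom p hx
      (((TrivSqZeroExt.inlHom A N).comp F).comp (EGA41.pPowerSubalgebra p A B).val.toRingHom)
      (fun i => TrivSqZeroExt.inl (x' i) + TrivSqZeroExt.inr (Finsupp.single (Sum.inl i) 1 : N)) fun i => by
        rw [add_pow_char, show (TrivSqZeroExt.inr (Finsupp.single (Sum.inl i) 1) : TrivSqZeroExt A N) ^ p = 0
          from pow_eq_zero_of_le hp.two_le (by rw [sq, TrivSqZeroExt.inr_mul_inr]), add_zero]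
        change (TrivSqZeroExt.inlHom A N) (x' i) ^ p = TrivSqZeroExt.inlHom A N (F (x i ^ p))
        rw [← map_pow, map_pow F, hFx]
    have hfst : ∀ b, (Φ b).fst = F b := fun b => by
      refine DFunLike.congr_fun (f := (TrivSqZeroExt.fstHom A A N).toRingHom.comp Φ) (g := F) ?_ b
      refine ringHom_ext_of_generating p hx.2 _ _ (fun a ha => ?_) (fun i => ?_)
      · simp [hΦ ⟨a, ha⟩]
      · simp [hΦx, hFx]
    let A₀ := EGA41.pPowerSubalgebra p R A
    choose G hG using fun a : A₀ => hA₀ a a.2
    let δ : A₀ →+ N := AddMonoidHom.mk' (fun a => (Φ (G a)).snd) fun a b => by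
      rw [show G (a + b) = G a + G b from hFinj (by rw [map_add, hG, hG, hG]; rfl), map_add]
      rfl
    obtain ⟨D, hD, hDy⟩ := exists_derivation p hy δ (fun a b => by
        simp only [δ, AddMonoidHom.mk'_apply]
        rw [show G (a * b) = G a * G b from hFinj (by rw [map_mul, hG, hG, hG]; rfl), map_mul,
          TrivSqZeroExt.snd_mul, hfst, hfst, hG, hG, op_smul_eq_smul])
      (fun j => by
        simp only [δ, AddMonoidHom.mk'_apply]
        rw [show G ⟨y j ^ p, _⟩ = algebraMap A B (y j) from hFinj (by rw [hG, hFalg])]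
        have h := hΦ ⟨algebraMap A B (y j), Subalgebra.algebraMap_mem _ _⟩
        dsimp at h
        rw [h]
        simp) (fun j => (Finsupp.single (Sum.inr j) 1 : N))
    refine ⟨D, hDy, fun i => ?_⟩
    have h := hD ⟨x' i, hFx i ▸ hFmem (x i)⟩
    simp only [δ, AddMonoidHom.mk'_apply] at h
    rw [h, show G ⟨x' i, _⟩ = x i from hFinj ((hG _).trans (hFx i).symm), hΦx]
    simp
  let b₀ : Λ ⊕ M → B ⊗[A] Ω[A⁄ℤ] := Sum.elim (fun i => 1 ⊗ₜ KaehlerDifferential.D ℤ A (x' i))
    (fun j => 1 ⊗ₜ KaehlerDifferential.D ℤ A (y j))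
  let T : N →ₗ[B] B ⊗[A] Ω[A⁄ℤ] := Finsupp.linearCombination B b₀
  let S : B ⊗[A] Ω[A⁄ℤ] →ₗ[B] N := LinearMap.liftBaseChange B D.liftKaehlerDifferential
  have hST : S.comp T = LinearMap.id := Finsupp.lhom_ext fun k b => by
    rcases k with i | j <;> simp [S, T, b₀, hDx, hDy] <;> exact Finsupp.smul_single_one _ _
  have hTS : T.comp S = LinearMap.id := by
    refine LinearMap.restrictScalars_injective A (TensorProduct.ext' fun b ω => ?_)
    have h1 : ((T.comp S).restrictScalars A).comp (TensorProduct.mk A B Ω[A⁄ℤ] 1) =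
        TensorProduct.mk A B Ω[A⁄ℤ] 1 := by
      refine Derivation.liftKaehlerDifferential_unique _ _ (hext _ _ _ (fun j => ?_) fun i => ?_)
      · simp [S]
        rw [hDy]
        exact (Finsupp.linearCombination_single B _ _).trans (one_smul _ _)
      · simp [S]
        rw [hDx]
        exact (Finsupp.linearCombination_single B _ _).trans (one_smul _ _)
    have h2 := congrArg (b • ·) (DFunLike.congr_fun h1 ω)
    simp only [LinearMap.comp_apply, LinearMap.restrictScalars_apply, TensorProduct.mk_apply] at h2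
    rw [← map_smul, ← map_smul, TensorProduct.smul_tmul', smul_eq_mul, mul_one] at h2
    exact h2
  obtain ⟨DB, hDB⟩ : ∃ DB : Derivation ℤ B (M →₀ B),
      ∀ j, DB (algebraMap A B (y j)) = Finsupp.single j 1 := by
    obtain ⟨D1, hD1⟩ := exists_derivationOver p hy (L := M →₀ B) (fun j => Finsupp.single j 1)
    let D1Z : Derivation ℤ A (M →₀ B) :=
      Derivation.mk' D1.toLinearMap.toAddMonoidHom.toIntLinearMap fun a b => D1.leibniz a b
    choose G hG using fun a : EGA41.pPowerSubalgebra p A B => exists_of_mem p (fun b => ⟨F b, hF b⟩) a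
    let δ : EGA41.pPowerSubalgebra p A B →+ (M →₀ B) := AddMonoidHom.mk' (fun a => D1 (G a)) fun a b => by
      rw [show G (a + b) = G a + G b from hinj (by rw [map_add, hG, hG, hG]; rfl), map_add]
    obtain ⟨DB, h1, -⟩ := exists_derivation p hx δ (fun a b => by
        simp only [δ, AddMonoidHom.mk'_apply]
        rw [show G (a * b) = G a * G b from hinj (by rw [map_mul, hG, hG, hG]; rfl), D1.leibniz, ← hG a,
          ← hG b, algebraMap_smul, algebraMap_smul])
      (fun i => by
        simp only [δ, AddMonoidHom.mk'_apply]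
        rw [show G ⟨x i ^ p, _⟩ = x' i from hinj (by rw [hG, hx'])]
        exact derivation_eq_zero_on p D1Z (fun r => D1.map_algebraMap r) (hFx i ▸ hFmem (x i)))
      (fun _ => 0)
    refine ⟨DB, fun j => ?_⟩
    rw [h1 ⟨_, Subalgebra.algebraMap_mem _ (y j)⟩]
    simp only [δ, AddMonoidHom.mk'_apply]
    rw [show G ⟨_, Subalgebra.algebraMap_mem _ (y j)⟩ = y j from hinj (hG _), hD1]
  let g : B ⊗[A] Ω[A⁄ℤ] →ₗ[B] (M →₀ B) :=
    DB.liftKaehlerDifferential.comp (KaehlerDifferential.mapBaseChange ℤ A B)
  have hinl : ∀ i, KaehlerDifferential.mapBaseChange ℤ A B (b₀ (Sum.inl i)) = 0 := fun i => by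
    simp only [b₀, Sum.elim_inl, KaehlerDifferential.mapBaseChange_tmul, one_smul, KaehlerDifferential.map_D, hx']
    exact derivation_pow_eq_zero p _ _
  have hgT : ∀ l : N, g (T l) = (Finsupp.sumFinsuppLEquivProdFinsupp B l).2 := by
    intro l
    refine DFunLike.congr_fun (f := g.comp T) (g := (LinearMap.snd B _ _).comp
      (Finsupp.sumFinsuppLEquivProdFinsupp B).toLinearMap) (Finsupp.lhom_ext fun k b => ?_) l
    rcases k with i | j
    · simp only [LinearMap.comp_apply, T, Finsupp.linearCombination_single, map_smul, g, hinl, map_zero, smul_zero]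
      ext j
      simp
    · simp only [LinearMap.comp_apply, T, Finsupp.linearCombination_single, map_smul, g, b₀, Sum.elim_inr]
      simp [KaehlerDifferential.mapBaseChange_tmul, hDB]
  let c : Λ → EGA41.imperfection ℤ A B := fun i => ⟨b₀ (Sum.inl i), LinearMap.mem_ker.mpr (hinl i)⟩
  have hli : LinearIndependent B c := by
    refine LinearIndependent.of_comp (Submodule.subtype _) ?_
    have hT : Function.Injective T := Function.LeftInverse.injective (g := S) (DFunLike.congr_fun hST)
    exact (LinearIndependent.comp hT Sum.inl Sum.inl_injective : LinearIndependent B (b₀ ∘ Sum.inl))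
  have hsp : ⊤ ≤ Submodule.span B (Set.range c) := by
    rintro ⟨z, hz⟩ -
    rw [← Submodule.apply_mem_span_image_iff_mem_span (f := Submodule.subtype _) Subtype.val_injective,
      ← Set.range_comp]
    change z ∈ Submodule.span B (Set.range (b₀ ∘ Sum.inl))
    have h0 := hgT (S z)
    rw [show T (S z) = z from DFunLike.congr_fun hTS z] at h0
    simp only [g, LinearMap.comp_apply, LinearMap.mem_ker.mp hz, map_zero] at h0
    suffices T (S z) ∈ Submodule.span B (Set.range (b₀ ∘ Sum.inl)) by
      rwa [show T (S z) = z from DFunLike.congr_fun hTS z] at this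
    simp only [T, Finsupp.linearCombination_apply, Finsupp.sum]
    refine Submodule.sum_mem _ fun k hk => ?_
    rcases k with i | j
    · exact Submodule.smul_mem _ _ (Submodule.subset_span (Set.mem_range_self (f := b₀ ∘ Sum.inl) i))
    · have : S z (Sum.inr j) = 0 := by
        have := DFunLike.congr_fun h0 j
        simpa using this.symm
      exact absurd this (Finsupp.mem_support_iff.mp hk)
  exact ⟨Module.Basis.mk hli hsp, fun i => by rw [Module.Basis.mk_apply]; simp [c, b₀]⟩

end Groth.Agent.S4520
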