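import Groth.Statements.S4524
import Groth.Agent.S13153
import Mathlib.RingTheory.Unramified.Field
import Mathlib.FieldTheory.Separable

set_option autoImplicit false
universe u
open EGA41

namespace Groth.Agent.S4524

/-- Let k be a field of characteristic 0 and K an extension of k. Then Ω_{K/k} = 0 if and only if K is
an algebraic extension of k. -/
theorem result {k K : Type u} [Field k] [CharZero k] [Field K] [Algebra k K] :
    Subsingleton (Ω[K⁄k]) ↔ Algebra.IsAlgebraic k K := by
  constructor
  · intro h
    exact ⟨fun x => Groth.Agent.S13153.isAlgebraic_of_D_eq_zero x (Subsingleton.elim _ _)⟩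
  · intro h
    haveI := Algebra.FormallyUnramified.of_isSeparable k K
    infer_instance

end Groth.Agent.S4524
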