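import Groth.Statements.S4526
import Groth.Agent.Alg.Cartier.Field
import Mathlib.RingTheory.Finiteness.Descent
import Mathlib.RingTheory.Kaehler.Basic

set_option autoImplicit false
universe u
open EGA41

namespace Groth.Agent.S4526

/-- Let k ⊆ K ⊆ L be three fields with L an extension of finite type of k. Then Ω_{L/k} and Ω_{K/k} are
finite-dimensional and rank_L Ω_{L/k} − rank_K Ω_{K/k} ≥ trdeg_K L. (The published statement also
gives the exact value trdeg_K L + d(L/K, k) and an equality criterion; this row states only the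
inequality.) -/
theorem result {k K L : Type u} [Field k] [Field K] [Field L]
    [Algebra k K] [Algebra K L] [Algebra k L] [IsScalarTower k K L] [Algebra.EssFiniteType k L] :
    Module.Finite L (Ω[L⁄k]) ∧ Module.Finite K (Ω[K⁄k]) ∧
      (Cardinal.toNat (Algebra.trdeg K L) : ℤ) ≤ (Module.finrank L (Ω[L⁄k]) : ℤ) - Module.finrank K (Ω[K⁄k]) := by
  have : Algebra.EssFiniteType K L := Algebra.EssFiniteType.of_comp k K L
  obtain ⟨h1, h2, h3, -⟩ := Groth.Agent.Alg.Cartier.finrank_facts k K L
  let φ := KaehlerDifferential.mapBaseChange k K L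
  have hL : Module.Finite L (Ω[L⁄k]) := inferInstance
  have : Module.Finite L (TensorProduct K L (Ω[K⁄k]) ⧸ LinearMap.ker φ) := Module.Finite.equiv φ.quotKerEquivRange.symm
  have hT : Module.Finite L (TensorProduct K L (Ω[K⁄k])) := Module.Finite.of_submodule_quotient (LinearMap.ker φ)
  have hK : Module.Finite K (Ω[K⁄k]) := Module.Finite.of_finite_tensorProduct_of_faithfullyFlat L
  refine ⟨hL, hK, h3.trans (le_of_eq ?_)⟩
  have e1 := φ.finrank_range_add_finrank_ker
  rw [Module.finrank_baseChange] at e1
  have e2 := (LinearMap.range φ).finrank_quotient_add_finrank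
  have hex := KaehlerDifferential.exact_mapBaseChange_map k K L
  let e : (Ω[L⁄k] ⧸ LinearMap.range φ) ≃ₗ[L] Ω[L⁄K] :=
    (Submodule.quotEquivOfEq _ _ (LinearMap.exact_iff.mp hex).symm).trans
      (LinearMap.quotKerEquivOfSurjective _ (KaehlerDifferential.map_surjective k K L))
  rw [e.finrank_eq] at e2
  change (Module.finrank L (Ω[L⁄K]) : ℤ) - Module.finrank L (LinearMap.ker φ) = _
  omega

end Groth.Agent.S4526
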