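import Groth.Statements.S4529
import Mathlib.RingTheory.FiniteType
import Mathlib.RingTheory.Nakayama
import Mathlib.RingTheory.Nilpotent.Basic
-- import your own Groth.Agent.* helpers here

set_option autoImplicit false
universe u
open EGA41

namespace Groth.Agent.S4529

/-- Let A be a ring, M, N two A-modules with N projective, u : M → N a homomorphism and J an ideal of A;
suppose either (i) J is nilpotent, or (ii) J is contained in the Jacobson radical of A and M is of
finite type. Then u is left invertible if and only if the induced map u₀ : M/JM → N/JN is left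
invertible. (A left inverse of u₀ composed with N → N/JN is an A-linear map v : N → M/JM with v ∘ u
the projection, and conversely; the right-hand side is written in that form.) -/
theorem result {A : Type u} [CommRing A] {M N : Type u} [AddCommGroup M] [Module A M]
    [AddCommGroup N] [Module A N] [Module.Projective A N] (u : M →ₗ[A] N) (J : Ideal A)
    (hJ : IsNilpotent J ∨ (J ≤ (⊥ : Ideal A).jacobson ∧ Module.Finite A M)) :
    (∃ w : N →ₗ[A] M, w ∘ₗ u = LinearMap.id) ↔
      ∃ v : N →ₗ[A] M ⧸ (J • ⊤ : Submodule A M), v ∘ₗ u = (J • ⊤ : Submodule A M).mkQ := by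
  constructor
  · rintro ⟨w, hw⟩
    exact ⟨(J • ⊤ : Submodule A M).mkQ ∘ₗ w, by rw [LinearMap.comp_assoc, hw, LinearMap.comp_id]⟩
  rintro ⟨v, hv⟩
  obtain ⟨v', hv'⟩ := Module.projective_lifting_property (J • ⊤ : Submodule A M).mkQ v (Submodule.mkQ_surjective _)
  set e : M →ₗ[A] M := v' ∘ₗ u with he
  have hd : ∀ m, m - e m ∈ (J • ⊤ : Submodule A M) := by
    intro m
    refine (Submodule.Quotient.eq _).mp ?_
    have h1 := LinearMap.congr_fun hv m
    have h2 := LinearMap.congr_fun hv' (u m)
    simp only [LinearMap.comp_apply, Submodule.mkQ_apply] at h1 h2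
    exact h1.symm.trans h2.symm
  suffices hu : IsUnit e by
    obtain ⟨E, hE⟩ := hu
    refine ⟨(↑E⁻¹ : M →ₗ[A] M) ∘ₗ v', ?_⟩
    rw [LinearMap.comp_assoc, ← he, ← hE]
    exact E.inv_mul
  rcases hJ with ⟨n, hn⟩ | ⟨hj, hfin⟩
  · set d : M →ₗ[A] M := LinearMap.id - e with hd'
    have hmem : ∀ k, ∀ m, (d ^ k) m ∈ (J ^ k • ⊤ : Submodule A M) := by
      intro k
      induction k with
      | zero => intro m; rw [pow_zero, pow_zero, Ideal.one_eq_top, Submodule.top_smul]; exact Submodule.mem_top
      | succ k ih =>
        intro m
        rw [pow_succ, pow_succ, Module.End.mul_apply, Submodule.mul_smul]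
        have h1 : d m ∈ (J • ⊤ : Submodule A M) := hd m
        have h2 := Submodule.mem_map_of_mem (f := d ^ k) h1
        rw [Submodule.map_smul'', Submodule.map_top] at h2
        have h3 : (J • LinearMap.range (d ^ k) : Submodule A M) ≤ J ^ k • (J • ⊤ : Submodule A M) := by
          rw [← Submodule.mul_smul, mul_comm, Submodule.mul_smul]
          exact smul_mono_right _ (by rintro _ ⟨y, rfl⟩; exact ih y)
        exact h3 h2
    have hnil : IsNilpotent d := ⟨n, LinearMap.ext fun m => by
      have := hmem n m
      rw [hn, Ideal.zero_eq_bot, Submodule.bot_smul] at this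
      exact this⟩
    rw [show e = 1 - d by rw [hd', Module.End.one_eq_id, sub_sub_cancel]]
    exact IsNilpotent.isUnit_one_sub hnil
  · rw [Module.End.isUnit_iff]
    apply OrzechProperty.bijective_of_surjective_endomorphism
    rw [← LinearMap.range_eq_top, eq_top_iff]
    apply Submodule.le_of_le_smul_of_le_jacobson_bot Module.Finite.fg_top hj
    intro m _
    have := Submodule.add_mem_sup (LinearMap.mem_range_self e m) (hd m)
    rwa [add_sub_cancel] at this

end Groth.Agent.S4529
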