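import Groth.Statements.S4530
import Groth.Agent.Alg.SplitLocal
import Mathlib.LinearAlgebra.Basis.VectorSpace
import Mathlib.RingTheory.LocalRing.ResidueField.Ideal
import Mathlib.RingTheory.Spectrum.Prime.Topology
import Mathlib.RingTheory.Nakayama
import Mathlib.RingTheory.OrzechProperty
import Mathlib.RingTheory.FiniteType
import Mathlib.Tactic.TFAE
import Mathlib.RingTheory.Localization.Finiteness
import Mathlib.Algebra.Module.Torsion.Basic

set_option autoImplicit false
universe u
open EGA41

namespace Groth.Agent.S4530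
open TensorProduct

open TensorProduct in
theorem good_localized {A : Type u} [CommRing A] {M N : Type u} [AddCommGroup M] [Module A M]
    [AddCommGroup N] [Module A N] (u : M →ₗ[A] N) (S : Submonoid A) (c : A) (hc : c ∈ S)
    (W : N →ₗ[A] M) (hW : W ∘ₗ u = c • LinearMap.id) :
    ∃ w : LocalizedModule S N →ₗ[A] LocalizedModule S M,
      w ∘ₗ LocalizedModule.map S u = LinearMap.id := by
  obtain ⟨i, hi⟩ : ∃ i : Localization S, algebraMap A _ c * i = 1 :=
    ⟨IsLocalization.mk' _ 1 ⟨c, hc⟩, by rw [mul_comm, IsLocalization.mk'_spec, map_one]⟩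
  refine ⟨(i • LocalizedModule.map S W).restrictScalars A, ?_⟩
  refine IsLocalizedModule.ext S (LocalizedModule.mkLinearMap S M)
    (fun s => IsLocalizedModule.map_units (LocalizedModule.mkLinearMap S M) s) (LinearMap.ext fun x => ?_)
  have h1 : LocalizedModule.map S u (LocalizedModule.mkLinearMap S M x) = LocalizedModule.mkLinearMap S N (u x) := by
    simp
  have h2 : LocalizedModule.map S W (LocalizedModule.mkLinearMap S N (u x)) = LocalizedModule.mkLinearMap S M (W (u x)) := by
    simp
  change i • LocalizedModule.map S W (LocalizedModule.map S u (LocalizedModule.mkLinearMap S M x)) = LocalizedModule.mkLinearMap S M x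
  rw [h1, h2, show W (u x) = c • x from DFunLike.congr_fun hW x, map_smul, ← algebraMap_smul (Localization S) c,
    smul_smul, mul_comm, hi, one_smul]

theorem good_of_localized {A : Type u} [CommRing A] {M N : Type u} [AddCommGroup M] [Module A M] [Module.Finite A M]
    [AddCommGroup N] [Module A N] [Module.Projective A N] (u : M →ₗ[A] N) (S : Submonoid A)
    (w : LocalizedModule S N →ₗ[A] LocalizedModule S M) (hw : w ∘ₗ LocalizedModule.map S u = LinearMap.id) :
    ∃ c ∈ S, ∃ W : N →ₗ[A] M, W ∘ₗ u = c • LinearMap.id := by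
  refine Groth.Agent.Alg.SplitLocal.exists_smul_retraction u S (w ∘ₗ LocalizedModule.mkLinearMap S N) ?_
  refine LinearMap.ext fun x => ?_
  have h1 : LocalizedModule.map S u (LocalizedModule.mkLinearMap S M x) = LocalizedModule.mkLinearMap S N (u x) := by
    simp
  change w (LocalizedModule.mkLinearMap S N (u x)) = _
  rw [← h1]
  exact DFunLike.congr_fun hw _

set_option maxHeartbeats 2000000 in
theorem good_of_residue {A : Type u} [CommRing A] {M N : Type u} [AddCommGroup M] [Module A M] [Module.Finite A M]
    [AddCommGroup N] [Module A N] [Module.Projective A N] (u : M →ₗ[A] N) (p : Ideal A) [p.IsPrime]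
    (h : Function.Injective (u.lTensor p.ResidueField)) :
    ∃ c ∈ p.primeCompl, ∃ W : N →ₗ[A] M, W ∘ₗ u = c • LinearMap.id := by
  let S := p.primeCompl
  let m := IsLocalRing.maximalIdeal (Localization.AtPrime p)
  let Mp := LocalizedModule S M
  let Q := Mp ⧸ (m • ⊤ : Submodule (Localization.AtPrime p) Mp)
  letI : Module p.ResidueField Q := (Module.isTorsionBySet_quotient_ideal_smul (LocalizedModule S M) m).module
  haveI : IsScalarTower A p.ResidueField Q := IsScalarTower.of_algebraMap_smul fun a z => by
    obtain ⟨z, rfl⟩ := Submodule.Quotient.mk_surjective _ z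
    exact (congrArg (Submodule.Quotient.mk (p := (m • ⊤ : Submodule (Localization.AtPrime p) Mp))) (IsScalarTower.algebraMap_smul (Localization.AtPrime p) a z) :)
  let q : Mp →ₗ[A] Q := (Submodule.mkQ (m • ⊤ : Submodule (Localization.AtPrime p) Mp)).restrictScalars A
  let φ : p.ResidueField ⊗[A] M →ₗ[p.ResidueField] Q := (q ∘ₗ LocalizedModule.mkLinearMap S M).liftBaseChange _
  obtain ⟨r, hr⟩ := LinearMap.exists_leftInverse_of_injective (u.baseChange p.ResidueField) (LinearMap.ker_eq_bot.mpr h)
  obtain ⟨g, hg⟩ := Module.projective_lifting_property q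
    (((φ ∘ₗ r).restrictScalars A) ∘ₗ TensorProduct.mk A p.ResidueField N 1) (Submodule.mkQ_surjective _)
  let E : Mp →ₗ[Localization.AtPrime p] Mp :=
    (IsLocalizedModule.lift S (LocalizedModule.mkLinearMap S M) (g ∘ₗ u)
      (fun s => IsLocalizedModule.map_units (LocalizedModule.mkLinearMap S M) s)).extendScalarsOfIsLocalization S _
  have hE : ∀ x, E (LocalizedModule.mkLinearMap S M x) = g (u x) := fun x =>
    IsLocalizedModule.lift_apply S (LocalizedModule.mkLinearMap S M) (g ∘ₗ u)
      (fun s => IsLocalizedModule.map_units (LocalizedModule.mkLinearMap S M) s) x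
  have hq : ∀ x, q (g (u x)) = q (LocalizedModule.mkLinearMap S M x) := fun x => by
    have h1 : q (g (u x)) = φ (r (1 ⊗ₜ u x)) := DFunLike.congr_fun hg (u x)
    rw [h1, show (1 : p.ResidueField) ⊗ₜ[A] u x = u.baseChange p.ResidueField (1 ⊗ₜ x) by rw [LinearMap.baseChange_tmul],
      show r (u.baseChange p.ResidueField (1 ⊗ₜ x)) = 1 ⊗ₜ x from DFunLike.congr_fun hr _]
    simp [φ]
    rfl
  haveI : Module.Finite (Localization.AtPrime p) Mp := Module.Finite.of_isLocalizedModule S (Rₚ := Localization.AtPrime p) (LocalizedModule.mkLinearMap S M)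
  have hsurj : Function.Surjective E := by
    rw [← LinearMap.range_eq_top, eq_top_iff]
    refine Submodule.le_of_le_smul_of_le_jacobson_bot (I := m) (Module.Finite.fg_top) (IsLocalRing.maximalIdeal_le_jacobson _) ?_
    intro z _
    obtain ⟨⟨x, s⟩, hxs⟩ := IsLocalizedModule.surj S (LocalizedModule.mkLinearMap S M) z
    have h1 : LocalizedModule.mkLinearMap S M x - E (LocalizedModule.mkLinearMap S M x) ∈ (m • ⊤ : Submodule (Localization.AtPrime p) Mp) := by
      rw [hE]
      exact (Submodule.Quotient.eq _).mp (hq x).symm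
    have h2 : LocalizedModule.mkLinearMap S M x ∈ LinearMap.range E ⊔ (m • ⊤ : Submodule (Localization.AtPrime p) Mp) :=
      Submodule.mem_sup.mpr ⟨_, ⟨_, rfl⟩, _, h1, add_sub_cancel _ _⟩
    rw [← hxs] at h2
    have hu : IsUnit (algebraMap A (Localization.AtPrime p) s) := IsLocalization.map_units _ s
    rw [Submonoid.smul_def, ← algebraMap_smul (Localization.AtPrime p) (s : A) z] at h2
    exact (Submodule.smul_mem_iff_of_isUnit _ hu).mp h2
  let e := LinearEquiv.ofBijective E (OrzechProperty.bijective_of_surjective_endomorphism E hsurj)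
  refine Groth.Agent.Alg.SplitLocal.exists_smul_retraction u S ((e.symm.toLinearMap.restrictScalars A) ∘ₗ g) (LinearMap.ext fun x => ?_)
  change e.symm (g (u x)) = _
  rw [LinearEquiv.symm_apply_eq]
  exact (hE x).symm


/-- Let A be a ring, M an A-module of finite type, N a projective A-module, u : M → N a homomorphism.
For a prime ideal 𝔭 the following are equivalent: (a) u_𝔭 : M_𝔭 → N_𝔭 is left invertible; (b) u ⊗ 1
: M ⊗ k(𝔭) → N ⊗ k(𝔭) is injective; (d) there is f ∉ 𝔭 with u_f : M_f → N_f left invertible.
Moreover the set of such 𝔭 is open in Spec A. (The published statement also has a determinant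
criterion (c); this row omits it.) -/
theorem result {A : Type u} [CommRing A] {M N : Type u} [AddCommGroup M] [Module A M]
    [Module.Finite A M] [AddCommGroup N] [Module A N] [Module.Projective A N] (u : M →ₗ[A] N) :
    (∀ p : PrimeSpectrum A,
      [∃ w : LocalizedModule p.asIdeal.primeCompl N →ₗ[A] LocalizedModule p.asIdeal.primeCompl M,
          w ∘ₗ LocalizedModule.map p.asIdeal.primeCompl u = LinearMap.id,
       Function.Injective (u.lTensor p.asIdeal.ResidueField),
       ∃ f : A, f ∉ p.asIdeal ∧
          ∃ w : LocalizedModule (Submonoid.powers f) N →ₗ[A] LocalizedModule (Submonoid.powers f) M,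
            w ∘ₗ LocalizedModule.map (Submonoid.powers f) u = LinearMap.id].TFAE) ∧
    IsOpen {p : PrimeSpectrum A |
      ∃ w : LocalizedModule p.asIdeal.primeCompl N →ₗ[A] LocalizedModule p.asIdeal.primeCompl M,
        w ∘ₗ LocalizedModule.map p.asIdeal.primeCompl u = LinearMap.id} := by
  refine ⟨fun p => ?_, ?_⟩
  · tfae_have 1 → 3 := fun ⟨w, hw⟩ => by
      obtain ⟨c, hc, W, hW⟩ := good_of_localized u _ w hw
      exact ⟨c, hc, good_localized u _ c (Submonoid.mem_powers c) W hW⟩
    tfae_have 3 → 2 := fun ⟨f, hf, w, hw⟩ => by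
      obtain ⟨c, ⟨n, rfl⟩, W, hW⟩ := good_of_localized u _ w hw
      have hu : IsUnit (algebraMap A p.asIdeal.ResidueField (f ^ n)) :=
        isUnit_iff_ne_zero.mpr (by rw [map_pow]; exact pow_ne_zero _ (by simpa [Ideal.algebraMap_residueField_eq_zero] using hf))
      intro a b hab
      have h1 := congrArg (W.lTensor p.asIdeal.ResidueField) hab
      rw [← LinearMap.comp_apply, ← LinearMap.comp_apply (W.lTensor _), ← LinearMap.lTensor_comp, hW,
        LinearMap.lTensor_smul, LinearMap.lTensor_id, LinearMap.smul_apply, LinearMap.smul_apply] at h1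
      simp only [LinearMap.id_apply, ← algebraMap_smul p.asIdeal.ResidueField (f ^ n)] at h1
      exact hu.smul_left_cancel.mp h1
    tfae_have 2 → 1 := fun h => by
      obtain ⟨c, hc, W, hW⟩ := good_of_residue u p.asIdeal h
      exact good_localized u _ c hc W hW
    tfae_finish
  · rw [isOpen_iff_forall_mem_open]
    rintro p ⟨w, hw⟩
    obtain ⟨c, hc, W, hW⟩ := good_of_localized u _ w hw
    exact ⟨PrimeSpectrum.basicOpen c, fun q hq => good_localized u _ c hq W hW, (PrimeSpectrum.basicOpen c).isOpen, hc⟩

end Groth.Agent.S4530
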