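import Groth.Statements.S4544
import Groth.Statements.S4544
import Mathlib.RingTheory.Kaehler.Basic
import Mathlib.Algebra.TrivSqZeroExt.Basic
import Mathlib.RingTheory.Ideal.Quotient.Operations

set_option autoImplicit false
universe u
open EGA41

namespace Groth.Agent.S4544
open IsLocalRing TensorProduct

open TensorProduct in
theorem exists_lift_derivation {A B : Type u} [CommRing A] [CommRing B] [Algebra A B] {𝔞 : Ideal A} {𝔟 : Ideal B}
    (hAB : ∃ k : ℕ, (𝔞 ^ k).map (algebraMap A B) ≤ 𝔟) (h : EGA41.IsFormallySmoothAdic A 𝔞 B 𝔟) {R : Type u}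
    [CommRing R] [Algebra B R] (hR : ∃ n : ℕ, ∀ x ∈ 𝔟 ^ n, algebraMap B R x = 0) {M N : Type u} [AddCommGroup M]
    [AddCommGroup N] [Module R M] [Module R N] (f : M →ₗ[R] N) (hf : Function.Surjective f) (δ : B →+ N)
    (hδ : ∀ a b, δ (a * b) = algebraMap B R a • δ b + algebraMap B R b • δ a)
    (hδA : ∀ a : A, δ (algebraMap A B a) = 0) :
    ∃ δ' : B →+ M, (∀ a b, δ' (a * b) = algebraMap B R a • δ' b + algebraMap B R b • δ' a) ∧
      (∀ a : A, δ' (algebraMap A B a) = 0) ∧ ∀ b, f (δ' b) = δ b := by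
  letI : Module Rᵐᵒᵖ M := Module.compHom M ((RingHom.id R).fromOpposite mul_comm)
  haveI : IsCentralScalar R M := ⟨fun _ _ => rfl⟩
  letI : Algebra A (TrivSqZeroExt R M) :=
    ((TrivSqZeroExt.inlHom R M).comp ((algebraMap B R).comp (algebraMap A B))).toAlgebra
  have hAC : ∀ a, algebraMap A (TrivSqZeroExt R M) a = TrivSqZeroExt.inl (algebraMap B R (algebraMap A B a)) :=
    fun a => rfl
  let J : Ideal (TrivSqZeroExt R M) :=
    { carrier := {z | z.fst = 0 ∧ f z.snd = 0}
      add_mem' := fun {x y} hx hy => ⟨by simp [hx.1, hy.1], by simp [hx.2, hy.2]⟩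
      zero_mem' := ⟨rfl, map_zero f⟩
      smul_mem' := fun c z hz => ⟨by simp [hz.1], by simp [TrivSqZeroExt.snd_mul, hz.1, hz.2]⟩ }
  have hJ : IsNilpotent J := by
    refine ⟨2, ?_⟩
    rw [sq, Submodule.zero_eq_bot, eq_bot_iff, Ideal.mul_le]
    intro x hx y hy
    rw [Ideal.mem_bot]
    ext <;> simp [hx.1, hy.1]
  choose s hs using hf
  have hmem : ∀ z w : TrivSqZeroExt R M, z.fst = w.fst → f z.snd = f w.snd →
      Ideal.Quotient.mk J z = Ideal.Quotient.mk J w := fun z w h1 h2 =>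
    Ideal.Quotient.eq.mpr ⟨by simp [h1], by simp [h2]⟩
  let T : B → TrivSqZeroExt R M := fun b => TrivSqZeroExt.inl (algebraMap B R b) + TrivSqZeroExt.inr (s (δ b))
  have hT1 : ∀ b, (T b).fst = algebraMap B R b := fun b => by simp [T]
  have hT2 : ∀ b, f (T b).snd = δ b := fun b => by simp [T, hs]
  have hδ1 : δ 1 = 0 := by simpa using hδA 1
  let u : B →ₐ[A] TrivSqZeroExt R M ⧸ J :=
    { toFun := fun b => Ideal.Quotient.mk J (T b)
      map_one' := by
        rw [← map_one (Ideal.Quotient.mk J)]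
        exact hmem _ _ (by simp [hT1]) (by rw [hT2, hδ1]; simp)
      map_mul' := fun x y => by
        rw [← map_mul]
        exact hmem _ _ (by simp [hT1]) (by rw [hT2, hδ]; simp [TrivSqZeroExt.snd_mul, hT1, hT2])
      map_zero' := by
        rw [← map_zero (Ideal.Quotient.mk J)]
        exact hmem _ _ (by simp [hT1]) (by rw [hT2, map_zero]; simp)
      map_add' := fun x y => by
        rw [← map_add]
        exact hmem _ _ (by simp [hT1]) (by rw [hT2, map_add]; simp [hT2])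
      commutes' := fun a => by
        rw [← Ideal.Quotient.mk_algebraMap, hAC]
        exact hmem _ _ (by simp [hT1]) (by rw [hT2, hδA]; simp) }
  obtain ⟨n, hn⟩ := hR
  obtain ⟨k, hk⟩ := hAB
  have hδn : ∀ x ∈ 𝔟 ^ (n + n), δ x = 0 := fun x hx => by
    rw [pow_add] at hx
    refine Submodule.mul_induction_on hx (fun p hp q hq => by simp [hδ, hn p hp, hn q hq]) fun p q hp hq => by simp [hp, hq]
  obtain ⟨v, hv⟩ := h (TrivSqZeroExt R M) J hJ
    ⟨k * n, by
      rw [eq_bot_iff, Ideal.map_le_iff_le_comap]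
      intro a ha
      have h1 : algebraMap A B a ∈ 𝔟 ^ n := by
        rw [pow_mul] at ha
        exact Ideal.pow_right_mono hk n (by rw [← Ideal.map_pow]; exact Ideal.mem_map_of_mem _ ha)
      rw [Ideal.mem_comap, hAC, hn _ h1, TrivSqZeroExt.inl_zero]
      exact Ideal.zero_mem _⟩
    u ⟨n + n, fun x hx => by
      change Ideal.Quotient.mk J (T x) = 0
      rw [← map_zero (Ideal.Quotient.mk J)]
      exact hmem _ _ (by rw [hT1]; simp [hn x (Ideal.pow_le_pow_right (by omega) hx)]) (by rw [hT2, hδn x hx]; simp)⟩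
  have hv' : ∀ b, (v b).fst = algebraMap B R b ∧ f (v b).snd = δ b := fun b => by
    have h1 : v b - T b ∈ J := Ideal.Quotient.eq.mp (DFunLike.congr_fun hv b)
    obtain ⟨h2, h3⟩ := h1
    simp only [TrivSqZeroExt.fst_sub, TrivSqZeroExt.snd_sub, map_sub, hT1, hT2, sub_eq_zero] at h2 h3
    exact ⟨h2, h3⟩
  refine ⟨AddMonoidHom.mk' (fun b => (v b).snd) (fun a b => by simp), fun a b => ?_, fun a => ?_, fun b => (hv' b).2⟩
  · change (v (a * b)).snd = _
    simp [TrivSqZeroExt.snd_mul, (hv' a).1, (hv' b).1]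
  · change (v (algebraMap A B a)).snd = _
    rw [AlgHom.commutes, hAC]
    simp


/-- Let B (𝔟-adic) be a formally smooth topological A-algebra over A (𝔞-adic), the structure map being
continuous (a power of 𝔞 maps into 𝔟); squares of open ideals of B are then open. For every open
ideal 𝔄 of B (an ideal containing a power of 𝔟), Ω_{B/A} ⊗_B (B/𝔄) = Ω_{B/A}/𝔄Ω_{B/A} is a
projective (B/𝔄)-module. -/
theorem result {A B : Type u} [CommRing A] [CommRing B] [Algebra A B]
    (𝔞 : Ideal A) (𝔟 : Ideal B) (hAB : ∃ k : ℕ, (𝔞 ^ k).map (algebraMap A B) ≤ 𝔟)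
    (h : EGA41.IsFormallySmoothAdic A 𝔞 B 𝔟) (𝔄 : Ideal B) (h𝔄 : ∃ n : ℕ, 𝔟 ^ n ≤ 𝔄) :
    Module.Projective (B ⧸ 𝔄) ((B ⧸ 𝔄) ⊗[B] Ω[B⁄A]) := by
  refine Module.Projective.of_lifting_property fun {M N} _ _ _ _ f g hf => ?_
  letI : Module B M := Module.compHom M (algebraMap B (B ⧸ 𝔄))
  haveI : IsScalarTower B (B ⧸ 𝔄) M := IsScalarTower.of_algebraMap_smul fun b m => rfl
  letI : Module A M := Module.compHom M (algebraMap A B)
  haveI : IsScalarTower A B M := IsScalarTower.of_algebraMap_smul fun b m => rfl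
  letI : Module B N := Module.compHom N (algebraMap B (B ⧸ 𝔄))
  haveI : IsScalarTower B (B ⧸ 𝔄) N := IsScalarTower.of_algebraMap_smul fun b m => rfl
  let δ : B →+ N := g.toAddMonoidHom.comp ((TensorProduct.mk B (B ⧸ 𝔄) Ω[B⁄A] 1).toAddMonoidHom.comp (KaehlerDifferential.D A B).toLinearMap.toAddMonoidHom)
  have hb : ∀ (b : B) (ω : Ω[B⁄A]), (1 : B ⧸ 𝔄) ⊗ₜ[B] (b • ω) = algebraMap B (B ⧸ 𝔄) b • ((1 : B ⧸ 𝔄) ⊗ₜ[B] ω) := fun b ω => by
    rw [IsScalarTower.algebraMap_smul, TensorProduct.tmul_smul]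
  obtain ⟨n, hn⟩ := h𝔄
  obtain ⟨δ', h1, h2, h3⟩ := exists_lift_derivation hAB h (R := B ⧸ 𝔄)
    ⟨n, fun x hx => Ideal.Quotient.eq_zero_iff_mem.mpr (hn hx)⟩ f hf δ
    (fun a b => by simp [δ, Derivation.leibniz, TensorProduct.tmul_add, hb]) (fun a => by simp [δ])
  let d : Derivation A B M := Derivation.mk'
    { toFun := δ', map_add' := δ'.map_add,
      map_smul' := fun a b => by
        rw [Algebra.smul_def, h1, h2, smul_zero, add_zero]
        rfl }
    (fun a b => h1 a b)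
  refine ⟨d.liftKaehlerDifferential.liftBaseChange (B ⧸ 𝔄), ?_⟩
  refine TensorProduct.AlgebraTensorModule.ext fun r ω => ?_
  rw [show r ⊗ₜ[B] ω = r • ((1 : B ⧸ 𝔄) ⊗ₜ[B] ω) by rw [TensorProduct.smul_tmul', smul_eq_mul, mul_one], map_smul, map_smul]
  congr 1
  induction (KaehlerDifferential.span_range_derivation A B).ge (Submodule.mem_top (x := ω))
    using Submodule.span_induction with
  | mem x hx =>
    obtain ⟨b, rfl⟩ := hx
    rw [LinearMap.comp_apply, LinearMap.liftBaseChange_tmul, one_smul, Derivation.liftKaehlerDifferential_comp_D]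
    exact h3 b
  | zero => simp
  | add x y _ _ hx hy => simp only [TensorProduct.tmul_add, map_add, hx, hy]
  | smul b x _ hx => rw [hb, map_smul, map_smul, hx]

end Groth.Agent.S4544
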