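import Groth.Statements.S4540
import Groth.Statements.S4540
import Groth.Agent.Misc9.ArtinFam
import Groth.Agent.S4544
import Mathlib.RingTheory.Kaehler.Basic
import Mathlib.Algebra.TrivSqZeroExt.Basic
import Mathlib.RingTheory.Ideal.Quotient.Operations
import Mathlib.RingTheory.HopkinsLevitzki

set_option autoImplicit false
universe u
open EGA41

namespace Groth.Agent.S4540
open IsLocalRing TensorProduct

open IsLocalRing TensorProduct in
/-- Let A, B be Noetherian local rings and A → B a local homomorphism making B a formally smooth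
A-algebra for the adic topologies of the maximal ideals. Then for every ideal of definition 𝔟 of B,
the (B/𝔟)-module Ω_{B/A} ⊗_B (B/𝔟) is free. -/
theorem result {A B : Type u} [CommRing A] [IsLocalRing A]
    [IsNoetherianRing A] [CommRing B] [IsLocalRing B] [IsNoetherianRing B] [Algebra A B] [IsLocalHom (algebraMap A B)]
    (h : EGA41.IsFormallySmoothAdic A (maximalIdeal A) B (maximalIdeal B))
    (𝔟 : Ideal B) (hle : 𝔟 ≤ maximalIdeal B) (hpow : ∃ k : ℕ, maximalIdeal B ^ k ≤ 𝔟) :
    Module.Free (B ⧸ 𝔟) ((B ⧸ 𝔟) ⊗[B] Ω[B⁄A]) := by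
  have hAB : ∃ k : ℕ, (maximalIdeal A ^ k).map (algebraMap A B) ≤ maximalIdeal B :=
    ⟨1, by rw [pow_one]; exact ((IsLocalRing.local_hom_TFAE (algebraMap A B)).out 0 2 rfl rfl).mp inferInstance⟩
  haveI := Groth.Agent.S4544.result (maximalIdeal A) (maximalIdeal B) hAB h 𝔟 hpow
  haveI : Nontrivial (B ⧸ 𝔟) := Ideal.Quotient.nontrivial_iff.mpr
    (ne_top_of_le_ne_top (maximalIdeal.isMaximal B).ne_top hle)
  haveI : IsLocalRing (B ⧸ 𝔟) := IsLocalRing.of_surjective' (Ideal.Quotient.mk 𝔟) Ideal.Quotient.mk_surjective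
  haveI : IsArtinianRing (B ⧸ 𝔟) := by
    rw [isArtinianRing_iff_isNilpotent_maximalIdeal]
    obtain ⟨k, hk⟩ := hpow
    refine ⟨k, ?_⟩
    rw [show maximalIdeal (B ⧸ 𝔟) = (maximalIdeal B).map (Ideal.Quotient.mk 𝔟) from
      ((Ideal.map_eq_top_or_isMaximal_of_surjective _ Ideal.Quotient.mk_surjective (maximalIdeal.isMaximal B)).resolve_left
        (fun h1 => by
          have h2 := Ideal.comap_map_of_surjective' (Ideal.Quotient.mk 𝔟) Ideal.Quotient.mk_surjective (maximalIdeal B)
          rw [h1, Ideal.comap_top, Ideal.mk_ker, sup_eq_left.mpr hle] at h2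
          exact (maximalIdeal.isMaximal B).ne_top h2.symm) |> fun h1 => (IsLocalRing.eq_maximalIdeal h1).symm),
      ← Ideal.map_pow, Submodule.zero_eq_bot, Ideal.map_eq_bot_iff_le_ker, Ideal.mk_ker]
    exact hk
  exact Misc9.ArtinFam.free_of_flat

end Groth.Agent.S4540
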