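import Groth.Statements.S4541
import Groth.Agent.Alg.PBasis.Basic
import Mathlib.FieldTheory.Perfect
import Mathlib.RingTheory.Smooth.Basic

set_option autoImplicit false
universe u
open EGA41

namespace Groth.Agent.S4541
open Groth.Agent.Alg.PBasis

/-- Let p be a prime, A a perfect ring of characteristic p and B a reduced A-algebra of characteristic p
which admits a p-basis (x_α) over A. Then B is a formally smooth A-algebra (discrete topologies);
more precisely, for every A-algebra E, every nilpotent ideal R of E, every A-algebra homomorphism v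
: B → E/R and every family (z_α) of elements of E lifting the v(x_α), there is a unique A-algebra
homomorphism w : B → E lifting v with w(x_α) = z_α for all α. (The published statement assumes,
instead of A perfect and B reduced, that the canonical map A^(p) ⊗_A B → B^(p), a ⊗ b ↦ a b^p with
Frobenius-twisted structures, is injective; when A is perfect that condition says exactly that B is
reduced, which is the case stated here. The published statement also treats admissible topological
E; only discrete E is stated.) -/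
theorem result (p : ℕ) [Fact p.Prime] {A B : Type u} [CommRing A] [CharP A p]
    [PerfectRing A p] [CommRing B] [Algebra A B] [CharP B p] [IsReduced B]
    {ι : Type u} (x : ι → B) (hx : EGA41.IsPBasis p A x) :
    Algebra.FormallySmooth A B ∧
    ∀ (E : Type u) [CommRing E] [Algebra A E] (R : Ideal E), IsNilpotent R →
      ∀ (v : B →ₐ[A] E ⧸ R) (z : ι → E), (∀ i, Ideal.Quotient.mk R (z i) = v (x i)) →
        ∃! w : B →ₐ[A] E, (Ideal.Quotient.mkₐ A R).comp w = v ∧ ∀ i, w (x i) = z i := by
  classical
  have hp := (Fact.out : p.Prime)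
  have hroot : ∀ a : A, ∃ c, c ^ p = a := fun a => (PerfectRing.bijective_frobenius (R := A) (p := p)).2 a
  have hA₀ : ∀ a ∈ EGA41.pPowerSubalgebra p A B, a ∈ (frobenius B p).range := fun a ha => by
    induction ha using Algebra.adjoin_induction with
    | mem y hy => obtain ⟨b, rfl⟩ := hy; exact ⟨b, by rw [frobenius_def]⟩
    | algebraMap a => obtain ⟨c, rfl⟩ := hroot a; exact ⟨algebraMap A B c, by rw [frobenius_def, map_pow]⟩
    | add a b _ _ ha hb => exact add_mem ha hb
    | mul a b _ _ ha hb => exact mul_mem ha hb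
  let eF := RingEquiv.ofBijective (frobenius B p).rangeRestrict
    ⟨fun a b h => frobenius_inj B p (congrArg Subtype.val h), RingHom.rangeRestrict_surjective _⟩
  let inc : EGA41.pPowerSubalgebra p A B →+* (frobenius B p).range :=
    { toFun := fun a => ⟨a, hA₀ a a.2⟩, map_one' := rfl, map_zero' := rfl, map_add' := fun _ _ => rfl
      map_mul' := fun _ _ => rfl }
  have hinc : ∀ a, (eF.symm (inc a)) ^ p = (a : B) := fun a => by
    rw [← frobenius_def]
    exact congrArg Subtype.val (eF.apply_symm_apply (inc a))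
  have hz0 : ∀ {E : Type u} [CommRing E] [Algebra A E], (p : E) = 0 := fun {E} _ _ => by
    rw [← map_natCast (algebraMap A E), CharP.cast_eq_zero, map_zero]
  have main : ∀ (n : ℕ) {E F : Type u} [CommRing E] [CommRing F] [Algebra A E] [Algebra A F]
      (π : E →ₐ[A] F), Function.Surjective π → RingHom.ker π.toRingHom ^ n = ⊥ →
      ∀ (v : B →ₐ[A] F) (z : ι → E), (∀ i, π (z i) = v (x i)) →
      ∃! w : B →ₐ[A] E, π.comp w = v ∧ ∀ i, w (x i) = z i := by
    intro n
    induction n using Nat.strong_induction_on with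
    | _ n ih =>
    intro E F _ _ _ _ π hπ hn v z hz
    by_cases hnp : n ≤ p
    · have hn' : RingHom.ker π.toRingHom ^ p = ⊥ := by
        rw [eq_bot_iff, ← hn]; exact Ideal.pow_le_pow_right hnp
      have hpow : ∀ c c' : E, π c = π c' → c ^ p = c' ^ p := fun c c' h => by
        have hk : c - c' ∈ RingHom.ker π.toRingHom := by change π (c - c') = 0; rw [map_sub, h, sub_self]
        have hk0 : (c - c') ^ p = 0 := by
          have := Ideal.pow_mem_pow hk p
          rwa [hn', Ideal.mem_bot] at this
        obtain ⟨r, hr⟩ := exists_add_pow_prime_eq hp c' (c - c')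
        rw [add_sub_cancel, hk0, add_zero, hz0, zero_mul, zero_mul, zero_mul, add_zero] at hr
        exact hr
      choose l hl using fun b => hπ (v b)
      let φ₀ : B →+* E :=
        { toFun := fun b => l b ^ p
          map_one' := (hpow _ 1 (by rw [hl, map_one, map_one])).trans (one_pow p)
          map_zero' := (hpow _ 0 (by rw [hl, map_zero, map_zero])).trans (zero_pow hp.ne_zero)
          map_add' := fun a b => by
            have h1 := hpow (l (a + b)) (l a + l b) (by rw [hl, map_add, map_add, hl, hl])
            obtain ⟨r, hr⟩ := exists_add_pow_prime_eq hp (l a) (l b)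
            rw [h1, hr, hz0, zero_mul, zero_mul, zero_mul, add_zero]
          map_mul' := fun a b => by
            rw [← mul_pow]; exact hpow _ _ (by rw [hl, map_mul, map_mul, hl, hl]) }
      let φ : EGA41.pPowerSubalgebra p A B →+* E := φ₀.comp (eF.symm.toRingHom.comp inc)
      have hφ : ∀ (b : B) (a : EGA41.pPowerSubalgebra p A B), b ^ p = (a : B) → φ a = l b ^ p := fun b a h => by
        have : eF.symm (inc a) = b := frobenius_inj B p (by rw [frobenius_def, frobenius_def, hinc, h])
        change l (eF.symm (inc a)) ^ p = _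
        rw [this]
      obtain ⟨Φ, h1, h2⟩ := exists_ringHom p hx φ z fun i => by
        rw [hφ (x i) _ rfl]
        exact hpow _ _ (by rw [hz, hl])
      let w : B →ₐ[A] E := { Φ with
        commutes' := fun a => by
          have := h1 (algebraMap A _ a)
          obtain ⟨c, rfl⟩ := hroot a
          change Φ (algebraMap A B (c ^ p)) = algebraMap A E (c ^ p)
          refine this.trans ((hφ (algebraMap A B c) _ (map_pow (algebraMap A B) c p).symm).trans ?_)
          rw [map_pow]
          exact hpow _ _ (by rw [hl, v.commutes, π.commutes]) }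
      have hw0 : ∀ (u : B →ₐ[A] E), π.comp u = v → ∀ a ∈ EGA41.pPowerSubalgebra p A B, u a = w a := by
        intro u hu a ha
        obtain ⟨b, hb⟩ := hA₀ a ha
        rw [frobenius_def] at hb
        change u a = Φ a
        rw [show Φ a = φ ⟨a, ha⟩ from h1 ⟨a, ha⟩, hφ b ⟨a, ha⟩ hb, ← hb, map_pow]
        exact hpow _ _ (by rw [hl, ← hu]; rfl)
      refine ⟨w, ⟨?_, h2⟩, fun u hu => AlgHom.coe_ringHom_injective
        (ringHom_ext_of_generating p hx.2 _ _ (hw0 u hu.1) fun i => (hu.2 i).trans (h2 i).symm)⟩
      refine AlgHom.coe_ringHom_injective (ringHom_ext_of_generating p hx.2 _ _ (fun a ha => ?_) fun i => ?_)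
      · obtain ⟨b, hb⟩ := hA₀ a ha
        rw [frobenius_def] at hb
        change π (Φ a) = v a
        rw [show Φ a = φ ⟨a, ha⟩ from h1 ⟨a, ha⟩, hφ b ⟨a, ha⟩ hb, map_pow, hl, ← map_pow, hb]
      · exact (congrArg π (h2 i)).trans (hz i)
    · let K := RingHom.ker π.toRingHom
      let π₁ : E →ₐ[A] E ⧸ K ^ p := Ideal.Quotient.mkₐ A _
      let π₂ : E ⧸ K ^ p →ₐ[A] F := Ideal.Quotient.liftₐ _ π fun a ha => Ideal.pow_le_self hp.ne_zero ha
      have hπ₂ : Function.Surjective π₂ := fun b => (hπ b).imp' π₁ fun a h => h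
      have hk₂ : RingHom.ker π₂.toRingHom ^ p = ⊥ := by
        have : RingHom.ker π₂.toRingHom ≤ K.map (Ideal.Quotient.mk (K ^ p)) := fun a ha => by
          obtain ⟨a, rfl⟩ := Ideal.Quotient.mk_surjective a
          exact Ideal.mem_map_of_mem _ ha
        rw [eq_bot_iff]
        refine (Ideal.pow_right_mono this p).trans ?_
        rw [← Ideal.map_pow, Ideal.map_quotient_self]
      obtain ⟨w₁, ⟨hw₁, hw₁x⟩, hu₁⟩ := ih p (by omega) π₂ hπ₂ hk₂ v (fun i => π₁ (z i)) hz
      let m := n / p + 1
      have hm : RingHom.ker π₁.toRingHom ^ m = ⊥ := by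
        rw [show RingHom.ker π₁.toRingHom = K ^ p from Ideal.mk_ker, ← pow_mul, eq_bot_iff, ← hn]
        exact Ideal.pow_le_pow_right (Nat.lt_mul_div_succ n hp.pos).le
      have hmn : m < n := by
        have h2 := hp.two_le
        have : n / p ≤ n / 2 := Nat.div_le_div_left h2 (by omega)
        omega
      obtain ⟨w, ⟨hw, hwx⟩, hu⟩ := ih m hmn π₁ Ideal.Quotient.mk_surjective hm w₁ z fun i => (hw₁x i).symm
      refine ⟨w, ⟨?_, hwx⟩, fun u ⟨hu', hux⟩ => hu u ⟨hu₁ _ ⟨?_, fun i => congrArg π₁ (hux i)⟩, hux⟩⟩
      · rw [← hw₁, ← hw]; rfl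
      · rw [← hu']; rfl
  have second : ∀ (E : Type u) [CommRing E] [Algebra A E] (R : Ideal E), IsNilpotent R →
      ∀ (v : B →ₐ[A] E ⧸ R) (z : ι → E), (∀ i, Ideal.Quotient.mk R (z i) = v (x i)) →
      ∃! w : B →ₐ[A] E, (Ideal.Quotient.mkₐ A R).comp w = v ∧ ∀ i, w (x i) = z i := by
    intro E _ _ R ⟨n, hn⟩ v z hz
    exact main n (Ideal.Quotient.mkₐ A R) Ideal.Quotient.mk_surjective
      (by rw [show RingHom.ker (Ideal.Quotient.mkₐ A R).toRingHom = R from Ideal.mk_ker]; exact hn) v z hz
  refine ⟨Algebra.FormallySmooth.of_comp_surjective fun E _ _ I hI v => ?_, second⟩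
  choose z hz using fun i => Ideal.Quotient.mk_surjective (I := I) (v (x i))
  obtain ⟨w, ⟨hw, -⟩, -⟩ := second E I ⟨2, hI⟩ v z hz
  exact ⟨w, hw⟩

end Groth.Agent.S4541
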