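import Groth.Statements.S4543
import Groth.Statements.S4543
import Groth.Agent.Alg.AdicLift
import Mathlib.RingTheory.AdicCompletion.Functoriality
import Mathlib.RingTheory.Flat.Equalizer
import Mathlib.LinearAlgebra.TensorProduct.Quotient
import Mathlib.RingTheory.Nakayama

set_option autoImplicit false
universe u
open EGA41

namespace Groth.Agent.S4543
open IsLocalRing TensorProduct

open IsLocalRing in
theorem ker_le_smul {A B B' : Type u} [CommRing A] [CommRing B] [CommRing B'] [Algebra A B] [Algebra A B']
    [Module.Flat A B'] (v : B →ₐ[A] B') (hsurj : Function.Surjective v) (J : Ideal A)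
    (hker : RingHom.ker v.toRingHom ≤ J.map (algebraMap A B)) :
    RingHom.ker v.toRingHom ≤ J.map (algebraMap A B) * RingHom.ker v.toRingHom := by
  intro x hx
  have hinjT := LinearMap.lTensor_injective_of_exact_of_flat v.toLinearMap hsurj
    (LinearMap.ker v.toLinearMap).subtype Subtype.val_injective (LinearMap.exact_subtype_ker_map _) (A ⧸ J)
  have h2 : (1 : A ⧸ J) ⊗ₜ[A] (⟨x, hx⟩ : LinearMap.ker v.toLinearMap) = 0 := by
    apply hinjT
    rw [map_zero, LinearMap.lTensor_tmul]
    apply (TensorProduct.quotTensorEquivQuotSMul B J).injective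
    rw [map_zero, ← map_one (Ideal.Quotient.mk J), TensorProduct.quotTensorEquivQuotSMul_mk_tmul, one_smul,
      Submodule.Quotient.mk_eq_zero, Ideal.smul_top_eq_map]
    exact hker hx
  have h3 := congrArg (TensorProduct.quotTensorEquivQuotSMul (LinearMap.ker v.toLinearMap) J) h2
  rw [map_zero, ← map_one (Ideal.Quotient.mk J), TensorProduct.quotTensorEquivQuotSMul_mk_tmul, one_smul,
    Submodule.Quotient.mk_eq_zero] at h3
  refine Submodule.smul_induction_on (p := fun (z : LinearMap.ker v.toLinearMap) =>
    (z : B) ∈ J.map (algebraMap A B) * RingHom.ker v.toRingHom) h3 (fun a ha n _ => ?_) (fun a b ha hb => ?_)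
  · have hn : v (n : B) = 0 := LinearMap.mem_ker.mp n.2
    have hn' : (n : B) ∈ RingHom.ker v.toRingHom := RingHom.mem_ker.mpr hn
    rw [Submodule.coe_smul, Algebra.smul_def]
    exact Ideal.mul_mem_mul (Ideal.mem_map_of_mem _ ha) hn'
  · exact Submodule.add_mem _ ha hb


/-- Let A be a Noetherian ring, J an ideal of A, B and B' two A-algebras which are Noetherian local
rings, the structure maps being continuous for the J-adic topology on A (JB and JB' lie in the
maximal ideals); suppose B and B' are complete for the J-adic topologies, B is a formally smooth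
A-algebra for the J-adic topology on A and the JB-adic topology on B (nilpotent test ideals, test
algebras killed by a power of J, test maps killing a power of JB), and B' is a flat A-module. Then
every (A/J)-algebra isomorphism u₀ : B/JB ≅ B'/JB' comes from an A-algebra isomorphism u : B ≅ B' by
passing to quotients. (B is taken formally smooth for the JB-adic topology, the topology along which
the argument lifts B → B'/JB' to B'; read with the convention that a local ring carries the adic
topology of its maximal ideal, the published hypothesis would be formal smoothness for the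
maximal-ideal topology on B, a weaker condition when JB is strictly smaller than the maximal ideal,
and that reading is not what the argument establishes.) -/
theorem result {A B B' : Type u} [CommRing A] [IsNoetherianRing A] (J : Ideal A)
    [CommRing B] [IsLocalRing B] [IsNoetherianRing B] [Algebra A B]
    [CommRing B'] [IsLocalRing B'] [IsNoetherianRing B'] [Algebra A B']
    (hB : J.map (algebraMap A B) ≤ maximalIdeal B) (hB' : J.map (algebraMap A B') ≤ maximalIdeal B')
    [IsAdicComplete (J.map (algebraMap A B)) B] [IsAdicComplete (J.map (algebraMap A B')) B']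
    (hfs : EGA41.IsFormallySmoothAdic A J B (J.map (algebraMap A B))) [Module.Flat A B']
    (u₀ : (B ⧸ J.map (algebraMap A B)) ≃ₐ[A ⧸ J] (B' ⧸ J.map (algebraMap A B'))) :
    ∃ u : B ≃ₐ[A] B', ∀ b : B,
      Ideal.Quotient.mk (J.map (algebraMap A B')) (u b) = u₀ (Ideal.Quotient.mk (J.map (algebraMap A B)) b) := by
  let 𝔠 := J.map (algebraMap A B')
  let 𝔟 := J.map (algebraMap A B)
  let w : B →ₐ[A] B' ⧸ 𝔠 :=
    { u₀.toRingEquiv.toRingHom.comp (Ideal.Quotient.mk 𝔟) with
      commutes' := fun a => by
        change u₀ (Ideal.Quotient.mk 𝔟 (algebraMap A B a)) = Ideal.Quotient.mk 𝔠 (algebraMap A B' a)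
        exact u₀.commutes (Ideal.Quotient.mk J a) }
  haveI : IsHausdorff (𝔠.map (Ideal.Quotient.mk 𝔠)) (B' ⧸ 𝔠) :=
    ⟨fun x hx => by
      have := hx 1
      rw [pow_one, Ideal.map_quotient_self, Submodule.bot_smul, SModEq.bot] at this
      exact this⟩
  obtain ⟨v, -, hv⟩ := Groth.Agent.Alg.AdicLift.exists_lift (𝔠 := 𝔠) 𝔠 hfs ⟨1, by rw [pow_one]⟩ ⟨1, by rw [pow_one]⟩ w
    ⟨1, by
      rw [pow_one, Ideal.map_le_iff_le_comap]
      intro x hx
      rw [Ideal.mem_comap]
      change u₀ (Ideal.Quotient.mk 𝔟 x) ∈ _
      rw [Ideal.Quotient.eq_zero_iff_mem.mpr hx, map_zero]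
      exact Ideal.zero_mem _⟩
  have hv' : ∀ b, Ideal.Quotient.mk 𝔠 (v b) = u₀ (Ideal.Quotient.mk 𝔟 b) := fun b => DFunLike.congr_fun hv b
  have hmap : 𝔟.map v.toRingHom = 𝔠 := by
    simp only [𝔟, 𝔠, Ideal.map_map]
    congr 1
    exact RingHom.ext v.commutes
  haveI : IsHausdorff (𝔟.map v.toRingHom) B' := by rw [hmap]; infer_instance
  have hsurj : Function.Surjective v.toRingHom := by
    refine surjective_of_mk_map_comp_surjective (I := 𝔟) v.toRingHom fun z => ?_
    obtain ⟨z, rfl⟩ := Ideal.Quotient.mk_surjective z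
    obtain ⟨y, hy⟩ := u₀.surjective (Ideal.Quotient.mk 𝔠 z)
    obtain ⟨b, rfl⟩ := Ideal.Quotient.mk_surjective y
    refine ⟨b, Ideal.Quotient.eq.mpr ?_⟩
    rw [hmap]
    exact Ideal.Quotient.eq.mp ((hv' b).trans hy)
  let I : Ideal B := RingHom.ker v.toRingHom
  have hI : I ≤ 𝔟 * I := ker_le_smul v hsurj J fun x hx => by
    rw [← Ideal.Quotient.eq_zero_iff_mem]
    apply u₀.injective
    rw [← hv', show v x = 0 from hx, map_zero, map_zero]
  have hI0 : I = ⊥ := Submodule.eq_bot_of_le_smul_of_le_jacobson_bot 𝔟 I (IsNoetherian.noetherian I) hI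
    (hB.trans (IsLocalRing.maximalIdeal_le_jacobson _))
  have hinj : Function.Injective v := (RingHom.injective_iff_ker_eq_bot v.toRingHom).mpr hI0
  exact ⟨AlgEquiv.ofBijective v ⟨hinj, hsurj⟩, hv'⟩

end Groth.Agent.S4543
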