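import Groth.Statements.S4553
import Mathlib.RingTheory.Ideal.Quotient.Operations
import Mathlib.RingTheory.Nilpotent.Basic
import Mathlib.Algebra.Algebra.Subalgebra.Lattice
import Mathlib.LinearAlgebra.Quotient.Basic

set_option autoImplicit false
universe u
open EGA41

namespace Groth.Agent.S4553

namespace Aux

theorem lift_aux {A B E : Type u} [CommRing A] [CommRing B] [Algebra A B] [CommRing E] [Algebra A E] (𝔞 : Ideal A) (𝔟 : Ideal B)
    (H : EGA41.IsFormallySmoothAdic (A ⧸ 𝔞) ⊥ (B ⧸ 𝔞.map (algebraMap A B)) (𝔟.map (Ideal.Quotient.mk (𝔞.map (algebraMap A B)))))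
    (Ek : Ideal E) (hEk2 : ∀ x ∈ Ek, ∀ y ∈ Ek, x * y = 0) (s : B → E) (h1 : s 1 - 1 ∈ Ek)
    (hadd : ∀ x y, s (x + y) - (s x + s y) ∈ Ek) (hmul : ∀ x y, s (x * y) - s x * s y ∈ Ek)
    (halg : ∀ a, s (algebraMap A B a) - algebraMap A E a ∈ Ek) (m : ℕ) (hm : ∀ b ∈ 𝔟 ^ m, s b = 0) :
    ∃ t : B →+* E ⧸ 𝔞.map (algebraMap A E), (∀ a, t (algebraMap A B a) = Ideal.Quotient.mk _ (algebraMap A E a)) ∧
      ∀ b, ∃ e : E, e - s b ∈ Ek ∧ Ideal.Quotient.mk _ e = t b := by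
  let aE : Ideal E := 𝔞.map (algebraMap A E)
  let Jt : Ideal (E ⧸ aE) := Ek.map (Ideal.Quotient.mk aE)
  have hJt : IsNilpotent Jt := by
    refine ⟨2, ?_⟩
    rw [Submodule.zero_eq_bot, eq_bot_iff, sq, Ideal.mul_le]
    intro x hx y hy
    obtain ⟨x', hx', rfl⟩ := (Ideal.mem_map_iff_of_surjective _ Ideal.Quotient.mk_surjective).mp hx
    obtain ⟨y', hy', rfl⟩ := (Ideal.mem_map_iff_of_surjective _ Ideal.Quotient.mk_surjective).mp hy
    rw [Ideal.mem_bot, ← map_mul, hEk2 x' hx' y' hy', map_zero]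
  let q : E →+* (E ⧸ aE) ⧸ Jt := (Ideal.Quotient.mk Jt).comp (Ideal.Quotient.mk aE)
  have hq : ∀ x y : E, x - y ∈ Ek → q x = q y := fun x y h =>
    Ideal.Quotient.eq.mpr (by rw [← map_sub]; exact Ideal.mem_map_of_mem _ h)
  let ψ : B →+* (E ⧸ aE) ⧸ Jt :=
    { toFun := fun b => q (s b)
      map_one' := (hq _ _ h1).trans (map_one q)
      map_mul' := fun x y => (hq _ _ (hmul x y)).trans (map_mul q _ _)
      map_zero' := by rw [hm 0 (Ideal.zero_mem _), map_zero]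
      map_add' := fun x y => (hq _ _ (hadd x y)).trans (map_add q _ _) }
  have hψa : ∀ a, ψ (algebraMap A B a) = q (algebraMap A E a) := fun a => hq _ _ (halg a)
  have hψker : ∀ x ∈ 𝔞.map (algebraMap A B), ψ x = 0 := fun x hx => by
    refine (Ideal.map_le_iff_le_comap.mpr (fun a ha => ?_) : 𝔞.map (algebraMap A B) ≤ RingHom.ker ψ) hx
    rw [Ideal.mem_comap, RingHom.mem_ker, hψa, RingHom.comp_apply, Ideal.Quotient.eq_zero_iff_mem.mpr (Ideal.mem_map_of_mem _ ha), map_zero]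
  let ut : (B ⧸ 𝔞.map (algebraMap A B)) →ₐ[A ⧸ 𝔞] (E ⧸ aE) ⧸ Jt :=
    { Ideal.Quotient.lift _ ψ hψker with
      commutes' := fun a => by
        obtain ⟨a, rfl⟩ := Ideal.Quotient.mk_surjective a
        exact hψa a }
  obtain ⟨t, ht⟩ := H (E ⧸ aE) Jt hJt ⟨1, by rw [pow_one, Ideal.map_bot]⟩ ut ⟨m, fun x hx => by
    rw [← Ideal.map_pow] at hx
    obtain ⟨b, hb, rfl⟩ := (Ideal.mem_map_iff_of_surjective _ Ideal.Quotient.mk_surjective).mp hx
    change q (s b) = 0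
    rw [hm b hb, map_zero]⟩
  refine ⟨t.toRingHom.comp (Ideal.Quotient.mk _), fun a => t.commutes (Ideal.Quotient.mk 𝔞 a), fun b => ?_⟩
  obtain ⟨e₀, he₀⟩ := Ideal.Quotient.mk_surjective (t (Ideal.Quotient.mk _ b))
  have h1 : q e₀ = q (s b) := by
    change Ideal.Quotient.mk Jt (Ideal.Quotient.mk aE e₀) = _
    rw [he₀]
    exact DFunLike.congr_fun ht (Ideal.Quotient.mk _ b)
  have h2 : Ideal.Quotient.mk aE (e₀ - s b) ∈ Jt := by rw [map_sub]; exact Ideal.Quotient.eq.mp h1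
  rw [← Ideal.mem_comap, Ideal.comap_map_quotientMk] at h2
  obtain ⟨x, hx, j, hj, hxj⟩ := Submodule.mem_sup.mp h2
  refine ⟨s b + j, by rw [add_sub_cancel_left]; exact hj, ?_⟩
  change _ = t (Ideal.Quotient.mk _ b)
  rw [← he₀, Ideal.Quotient.eq, show s b + j - e₀ = -x by linear_combination hxj]
  exact neg_mem hx

theorem step {A B : Type u} [CommRing A] [CommRing B] [Algebra A B] (𝔞 : Ideal A) (𝔟 : Ideal B)
    (hproj : ∀ (n : ℕ) (P Q : Type u) [AddCommGroup P] [Module A P] [AddCommGroup Q] [Module A Q], (∀ a ∈ 𝔞 ^ n, ∀ y : P, a • y = 0) → (∀ a ∈ 𝔞 ^ n, ∀ y : Q, a • y = 0) → ∀ f : P →ₗ[A] Q, Function.Surjective f → ∀ v : B →ₗ[A] Q, (∃ m : ℕ, ∀ x ∈ 𝔟 ^ m, v x = 0) → ∃ w : B →ₗ[A] P, (∃ m : ℕ, ∀ x ∈ 𝔟 ^ m, w x = 0) ∧ f ∘ₗ w = v)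
    (H : EGA41.IsFormallySmoothAdic (A ⧸ 𝔞) ⊥ (B ⧸ 𝔞.map (algebraMap A B)) (𝔟.map (Ideal.Quotient.mk (𝔞.map (algebraMap A B)))))
    {C : Type u} [CommRing C] [Algebra A C] (J : Ideal C) (hJ2 : ∀ x ∈ J, ∀ y ∈ J, x * y = 0)
    (hJa : ∀ a ∈ 𝔞, ∀ x ∈ J, algebraMap A C a * x = 0) (hC : ∃ k : ℕ, (𝔞 ^ k).map (algebraMap A C) = ⊥)
    (u : B →ₐ[A] C ⧸ J) (hu : ∃ k : ℕ, ∀ x ∈ 𝔟 ^ k, u x = 0) :
    ∃ v : B →ₐ[A] C, (Ideal.Quotient.mkₐ A J).comp v = u ∧ ∃ k : ℕ, ∀ x ∈ 𝔟 ^ k, v x = 0 := by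
  classical
  obtain ⟨k, hk⟩ := hC
  obtain ⟨m₁, hm₁⟩ := hu
  have hkC : ∀ a ∈ 𝔞 ^ k, algebraMap A C a = 0 := fun a ha =>
    (Submodule.mem_bot C).mp (hk ▸ Ideal.mem_map_of_mem _ ha)
  obtain ⟨w, ⟨m₂, hm₂⟩, hw⟩ := hproj k C (C ⧸ J)
    (fun a ha y => by rw [Algebra.smul_def, hkC a ha, zero_mul])
    (fun a ha y => by
      obtain ⟨y, rfl⟩ := Ideal.Quotient.mk_surjective y
      rw [Algebra.smul_def, ← Ideal.Quotient.mk_algebraMap, hkC a ha, map_zero, zero_mul])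
    (Ideal.Quotient.mkₐ A J).toLinearMap (Ideal.Quotient.mkₐ_surjective A J) u.toLinearMap ⟨m₁, hm₁⟩
  let m := max m₁ m₂
  have hm_u : ∀ x ∈ 𝔟 ^ m, u x = 0 := fun x hx => hm₁ x (Ideal.pow_le_pow_right (le_max_left _ _) hx)
  have hm_w : ∀ x ∈ 𝔟 ^ m, w x = 0 := fun x hx => hm₂ x (Ideal.pow_le_pow_right (le_max_right _ _) hx)
  let B' := B ⧸ 𝔟 ^ m
  let u' : B' →ₐ[A] C ⧸ J := Ideal.Quotient.liftₐ (𝔟 ^ m) u hm_u
  let w' : B' →ₗ[A] C :=
    (Submodule.liftQ ((𝔟 ^ m).restrictScalars A) w fun x hx => LinearMap.mem_ker.mpr (hm_w x hx)) ∘ₗ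
      (Submodule.Quotient.restrictScalarsEquiv A (𝔟 ^ m)).symm.toLinearMap
  have hw' : ∀ b : B, w' (Ideal.Quotient.mk _ b) = w b := fun b => rfl
  have hwu : ∀ b : B, Ideal.Quotient.mk J (w b) = u b := fun b => DFunLike.congr_fun hw b
  let E := AlgHom.equalizer (u'.comp (AlgHom.fst A B' C)) ((Ideal.Quotient.mkₐ A J).comp (AlgHom.snd A B' C))
  let Ek : Ideal E := RingHom.ker ((AlgHom.fst A B' C).comp E.val)
  have hEk : ∀ z ∈ Ek, (z.1.2 : C) ∈ J := fun z hz => by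
    rw [← Ideal.Quotient.eq_zero_iff_mem]
    have h1 : u' z.1.1 = Ideal.Quotient.mk J z.1.2 := z.2
    rw [← h1, show z.1.1 = 0 from hz, map_zero]
  let lam : E →ₗ[A] C := (LinearMap.snd A B' C - w' ∘ₗ LinearMap.fst A B' C) ∘ₗ E.val.toLinearMap
  have hlamJ : ∀ z, lam z ∈ J := fun z => by
    rw [← Ideal.Quotient.eq_zero_iff_mem]
    have h1 : u' z.1.1 = Ideal.Quotient.mk J z.1.2 := z.2
    change Ideal.Quotient.mk J (z.1.2 - w' z.1.1) = 0
    obtain ⟨b, hb⟩ := Ideal.Quotient.mk_surjective z.1.1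
    rw [map_sub, ← h1, ← hb, hw', hwu]
    exact sub_self _
  let aE : Ideal E := 𝔞.map (algebraMap A E)
  have hlam : ∀ z ∈ aE, lam z = 0 := fun z hz => by
    have hz' : z ∈ (𝔞 • ⊤ : Submodule A E) := by rw [Ideal.smul_top_eq_map]; exact hz
    refine Submodule.smul_induction_on hz' (fun a ha x _ => ?_) fun x y hx hy => by rw [map_add, hx, hy, add_zero]
    rw [map_smul, Algebra.smul_def]
    exact hJa a ha _ (hlamJ x)
  let s : B → E := fun b => ⟨(Ideal.Quotient.mk _ b, w b), (hwu b).symm⟩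
  have hs0 : ∀ x y : E, x.1.1 = y.1.1 → x - y ∈ Ek := fun x y h => by
    change x.1.1 - y.1.1 = 0
    rw [h, sub_self]
  have hEk2 : ∀ x ∈ Ek, ∀ y ∈ Ek, x * y = 0 := fun x hx y hy => by
    refine Subtype.ext (Prod.ext ?_ ?_)
    · change x.1.1 * y.1.1 = 0
      rw [show x.1.1 = 0 from hx, zero_mul]
    · exact hJ2 _ (hEk x hx) _ (hEk y hy)
  obtain ⟨t, hta, htb⟩ := lift_aux 𝔞 𝔟 H Ek hEk2 s (hs0 _ _ rfl) (fun x y => hs0 _ _ rfl) (fun x y => hs0 _ _ rfl)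
    (fun a => hs0 _ _ rfl) m (fun b hb => Subtype.ext (Prod.ext (Ideal.Quotient.eq_zero_iff_mem.mpr hb) (hm_w b hb)))
  have hex : ∀ b : B, ∃ e : E, e.1.1 = Ideal.Quotient.mk _ b ∧ Ideal.Quotient.mk aE e = t b := fun b => by
    obtain ⟨e, h1, h2⟩ := htb b
    exact ⟨e, sub_eq_zero.mp h1, h2⟩
  choose e he1 he2 using hex
  have huniq : ∀ x y : E, x.1.1 = y.1.1 → Ideal.Quotient.mk aE x = Ideal.Quotient.mk aE y → x.1.2 = y.1.2 := fun x y h1 h2 => by
    have h3 := hlam _ (Ideal.Quotient.eq.mp h2)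
    change (x.1.2 - y.1.2) - w' (x.1.1 - y.1.1) = 0 at h3
    rwa [h1, sub_self, map_zero, sub_zero, sub_eq_zero] at h3
  let v : B →ₐ[A] C :=
    { toFun := fun b => (e b).1.2
      map_one' := (huniq (e 1) 1 ((he1 1).trans (map_one _)) (by rw [he2, map_one, map_one]))
      map_mul' := fun x y => huniq (e (x * y)) (e x * e y)
        (by change _ = (e x).1.1 * (e y).1.1; rw [he1, he1, he1, map_mul])
        (by rw [map_mul, he2, he2, he2, map_mul])
      map_zero' := (huniq (e 0) 0 ((he1 0).trans (map_zero _)) (by rw [he2, map_zero, map_zero]))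
      map_add' := fun x y => huniq (e (x + y)) (e x + e y)
        (by change _ = (e x).1.1 + (e y).1.1; rw [he1, he1, he1, map_add])
        (by rw [map_add, he2, he2, he2, map_add])
      commutes' := fun a => huniq (e (algebraMap A B a)) (algebraMap A E a) (he1 _)
        (by rw [he2]; exact hta a) }
  have hv : ∀ b, Ideal.Quotient.mk J (v b) = u b := fun b => by
    have h1 : u' (e b).1.1 = Ideal.Quotient.mk J (v b) := (e b).2
    rw [← h1, he1]
    rfl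
  refine ⟨v, AlgHom.ext hv, m + m, fun x hx => ?_⟩
  rw [pow_add] at hx
  refine Submodule.mul_induction_on hx (fun p hp q hq => ?_) fun p q hp hq => by rw [map_add, hp, hq, add_zero]
  rw [map_mul]
  exact hJ2 _ (Ideal.Quotient.eq_zero_iff_mem.mp ((hv p).trans (hm_u p hp))) _
    (Ideal.Quotient.eq_zero_iff_mem.mp ((hv q).trans (hm_u q hq)))

end Aux

/-- Let A be 𝔞-adic (a preadmissible ring with ideal of definition 𝔞), B a topological A-algebra for the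
𝔟-adic topology (a power of 𝔞 maps into 𝔟) which is a formally projective topological A-module, and
put A₀ = A/𝔞, B₀ = B/𝔞B with the quotient topologies (A₀ discrete). Then B is a formally smooth
A-algebra if and only if B₀ is a formally smooth A₀-algebra. -/
theorem result {A B : Type u} [CommRing A] [CommRing B] [Algebra A B]
    (𝔞 : Ideal A) (𝔟 : Ideal B) (hAB : ∃ k : ℕ, (𝔞 ^ k).map (algebraMap A B) ≤ 𝔟)
    (hproj : ∀ (n : ℕ) (P Q : Type u) [AddCommGroup P] [Module A P] [AddCommGroup Q] [Module A Q],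
      (∀ a ∈ 𝔞 ^ n, ∀ y : P, a • y = 0) → (∀ a ∈ 𝔞 ^ n, ∀ y : Q, a • y = 0) →
      ∀ f : P →ₗ[A] Q, Function.Surjective f → ∀ v : B →ₗ[A] Q, (∃ m : ℕ, ∀ x ∈ 𝔟 ^ m, v x = 0) →
        ∃ w : B →ₗ[A] P, (∃ m : ℕ, ∀ x ∈ 𝔟 ^ m, w x = 0) ∧ f ∘ₗ w = v) :
    EGA41.IsFormallySmoothAdic A 𝔞 B 𝔟 ↔
      EGA41.IsFormallySmoothAdic (A ⧸ 𝔞) ⊥ (B ⧸ 𝔞.map (algebraMap A B))
        (𝔟.map (Ideal.Quotient.mk (𝔞.map (algebraMap A B)))) := by
  constructor
  · intro h C _ _ J hJ _ u hu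
    letI : Algebra A C := ((algebraMap (A ⧸ 𝔞) C).comp (Ideal.Quotient.mk 𝔞)).toAlgebra
    let π := Ideal.Quotient.mk (𝔞.map (algebraMap A B))
    let u₀ : B →ₐ[A] C ⧸ J := { u.toRingHom.comp π with commutes' := fun a => u.commutes (Ideal.Quotient.mk 𝔞 a) }
    have hzero : ∀ a ∈ 𝔞, algebraMap A C a = 0 := fun a ha => by
      change algebraMap (A ⧸ 𝔞) C (Ideal.Quotient.mk 𝔞 a) = 0
      rw [Ideal.Quotient.eq_zero_iff_mem.mpr ha, map_zero]
    obtain ⟨k, hk⟩ := hu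
    obtain ⟨v, hv⟩ := h C J hJ ⟨1, by
      rw [pow_one, eq_bot_iff, Ideal.map_le_iff_le_comap]
      exact fun a ha => by rw [Ideal.mem_comap, hzero a ha]; exact Ideal.zero_mem _⟩
      u₀ ⟨k, fun x hx => hk (π x) (by rw [← Ideal.map_pow]; exact Ideal.mem_map_of_mem π hx)⟩
    have hker : ∀ x ∈ 𝔞.map (algebraMap A B), v x = 0 := fun x hx => by
      refine (Ideal.map_le_iff_le_comap.mpr (fun a ha => ?_) : 𝔞.map (algebraMap A B) ≤ RingHom.ker v.toRingHom) hx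
      rw [Ideal.mem_comap, RingHom.mem_ker]
      exact (v.commutes a).trans (hzero a ha)
    refine ⟨{ Ideal.Quotient.lift _ v.toRingHom hker with commutes' := fun a => ?_ }, AlgHom.ext fun z => ?_⟩
    · obtain ⟨a, rfl⟩ := Ideal.Quotient.mk_surjective a
      exact v.commutes a
    · obtain ⟨b, rfl⟩ := Ideal.Quotient.mk_surjective z
      exact DFunLike.congr_fun hv b
  · intro H C _ _ J hJ hC u hu
    let I : Ideal C := J ⊔ 𝔞.map (algebraMap A C)
    have hI : IsNilpotent I := by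
      obtain ⟨k, hk⟩ := hC
      have : IsNilpotent (𝔞.map (algebraMap A C)) := ⟨k, by rw [← Ideal.map_pow, hk]; rfl⟩
      exact (Commute.all J _).isNilpotent_add hJ this
    have main : ∀ n : ℕ, ∃ v : B →ₐ[A] C ⧸ (I ^ n * J), (∃ k, ∀ x ∈ 𝔟 ^ k, v x = 0) ∧
        ∀ b, Ideal.Quotient.factor (Ideal.mul_le_right : I ^ n * J ≤ J) (v b) = u b := by
      intro n
      induction n with
      | zero =>
        have e : I ^ 0 * J = J := by rw [pow_zero, one_mul]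
        refine ⟨(Ideal.Quotient.factorₐ A e.ge).comp u, hu.imp fun k hk x hx => by simp [hk x hx], fun b => ?_⟩
        obtain ⟨c, hc⟩ := Ideal.Quotient.mk_surjective (u b)
        simp [← hc]
      | succ n ih =>
        obtain ⟨v, hvk, hv⟩ := ih
        have hle : I ^ (n + 1) * J ≤ I ^ n * J := Ideal.mul_mono_left (Ideal.pow_le_pow_right n.le_succ)
        let π := Ideal.Quotient.mk (I ^ (n + 1) * J)
        let K := (I ^ n * J).map π
        let e : ((C ⧸ I ^ (n + 1) * J) ⧸ K) ≃ₐ[A] C ⧸ I ^ n * J := DoubleQuot.quotQuotEquivQuotOfLEₐ A hle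
        have hIK : ∀ i ∈ I, ∀ y ∈ I ^ n * J, π (i * y) = 0 := fun i hi y hy => by
          rw [Ideal.Quotient.eq_zero_iff_mem, pow_succ', mul_assoc]
          exact Ideal.mul_mem_mul hi hy
        obtain ⟨v', hv', hk'⟩ := Aux.step 𝔞 𝔟 hproj H K (fun x hx y hy => by
            obtain ⟨x', hx', rfl⟩ := (Ideal.mem_map_iff_of_surjective _ Ideal.Quotient.mk_surjective).mp hx
            obtain ⟨y', hy', rfl⟩ := (Ideal.mem_map_iff_of_surjective _ Ideal.Quotient.mk_surjective).mp hy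
            rw [← map_mul]
            exact hIK x' (Ideal.mem_sup_left (Ideal.mul_le_right hx')) y' hy')
          (fun a ha x hx => by
            obtain ⟨x', hx', rfl⟩ := (Ideal.mem_map_iff_of_surjective _ Ideal.Quotient.mk_surjective).mp hx
            rw [← Ideal.Quotient.mk_algebraMap, ← map_mul]
            exact hIK _ (Ideal.mem_sup_right (Ideal.mem_map_of_mem _ ha)) x' hx')
          (hC.imp fun k hk => by rw [IsScalarTower.algebraMap_eq A C (C ⧸ I ^ (n + 1) * J), ← Ideal.map_map, hk, Ideal.map_bot])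
          (e.symm.toAlgHom.comp v) (hvk.imp fun k hk x hx => by simp [hk x hx])
        refine ⟨v', hk', fun b => ?_⟩
        have h1 : Ideal.Quotient.mk K (v' b) = e.symm (v b) := DFunLike.congr_fun hv' b
        rw [← hv b, ← e.apply_symm_apply (v b), ← h1]
        obtain ⟨c, hc⟩ := Ideal.Quotient.mk_surjective (v' b)
        rw [← hc]
        rfl
    obtain ⟨N, hN⟩ := hI
    obtain ⟨v, -, hv⟩ := main N
    have hbot : I ^ N * J = ⊥ := by rw [hN, zero_mul]; rfl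
    let e : (C ⧸ I ^ N * J) ≃ₐ[A] C := (Ideal.quotientEquivAlgOfEq A hbot).trans (AlgEquiv.quotientBot A C)
    refine ⟨e.toAlgHom.comp v, AlgHom.ext fun b => ?_⟩
    obtain ⟨c, hc⟩ := Ideal.Quotient.mk_surjective (v b)
    have h1 := hv b
    rw [← hc] at h1
    change Ideal.Quotient.mk J (e (v b)) = u b
    rw [← hc]
    exact h1

end Groth.Agent.S4553
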