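import Groth.Statements.S4562
import Mathlib.FieldTheory.Normal.Closure
import Mathlib.FieldTheory.IsAlgClosed.AlgebraicClosure
import Mathlib.FieldTheory.PurelyInseparable.Basic
import Mathlib.RingTheory.DedekindDomain.IntegralClosure
import Mathlib.FieldTheory.Galois.Basic

set_option autoImplicit false
universe u
open CAlg

namespace Groth.Agent.S4562

lemma finite_step (A : Type u) [CommRing A] [IsDomain A] [IsNoetherianRing A]
    (K' N : Type u) [Field K'] [Field N] [Algebra A K'] [Algebra (FractionRing A) K']
    [IsScalarTower A (FractionRing A) K'] [FiniteDimensional (FractionRing A) K']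
    [Algebra K' N] [Algebra A N] [IsScalarTower A K' N] [FiniteDimensional K' N]
    [Algebra.IsSeparable K' N] (hB : Module.Finite A (integralClosure A K')) :
    Module.Finite A (integralClosure A N) := by
  haveI := hB
  haveI : Algebra.IsAlgebraic A K' :=
    haveI := IsLocalization.isAlgebraic (FractionRing A) (nonZeroDivisors A)
    Algebra.IsAlgebraic.trans A (FractionRing A) K'
  haveI : IsFractionRing (integralClosure A K') K' :=
    IsIntegralClosure.isFractionRing_of_finite_extension A (FractionRing A) K' (integralClosure A K')
  haveI : IsIntegrallyClosed (integralClosure A K') :=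
    integralClosure.isIntegrallyClosedOfFiniteExtension (FractionRing A)
  haveI : IsNoetherianRing (integralClosure A K') := IsNoetherianRing.of_finite A _
  haveI : Module.Finite (integralClosure A K') (integralClosure (integralClosure A K') N) :=
    IsIntegralClosure.finite (integralClosure A K') K' N _
  haveI : Module.Finite A (integralClosure (integralClosure A K') N) :=
    Module.Finite.trans (integralClosure A K') _
  let f : integralClosure A N →ₗ[A] integralClosure (integralClosure A K') N :=
    { toFun := fun y => ⟨y, y.2.tower_top⟩
      map_add' := fun a b => rfl
      map_smul' := fun a b => rfl }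
  exact Module.Finite.of_injective f fun a b hab =>
    Subtype.ext (congrArg (fun z : integralClosure (integralClosure A K') N => (z : N)) hab)

/-- Let A be a Noetherian domain with fraction field K. If the integral closure of A in every finite
purely inseparable extension of K is a finitely generated A-module, then A is Japanese (N-2). -/
theorem result (A : Type u) [CommRing A] [IsDomain A]
    [IsNoetherianRing A]
    (h : ∀ (K' : Type u) [Field K'] [Algebra A K'] [Algebra (FractionRing A) K']
      [IsScalarTower A (FractionRing A) K'], FiniteDimensional (FractionRing A) K' →
      IsPurelyInseparable (FractionRing A) K' → Module.Finite A (integralClosure A K')) :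
    CAlg.IsN2 A := by
  intro L _ _ _ _ hfd
  haveI := hfd
  let N := IntermediateField.normalClosure (FractionRing A) L (AlgebraicClosure L)
  haveI hN : FiniteDimensional (FractionRing A) N := inferInstance
  haveI : Normal (FractionRing A) N := normalClosure.normal _ _ _
  let K' : IntermediateField (FractionRing A) N := IntermediateField.fixedField (⊤ : Subgroup Gal(N/FractionRing A))
  haveI hALN : IsScalarTower A L N :=
    IsScalarTower.of_algebraMap_eq fun a => Subtype.ext (IsScalarTower.algebraMap_apply A L (AlgebraicClosure L) a)
  haveI : IsScalarTower A (FractionRing A) N :=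
    IsScalarTower.of_algebraMap_eq fun a => Subtype.ext (IsScalarTower.algebraMap_apply A (FractionRing A) (AlgebraicClosure L) a)
  haveI : IsScalarTower A K' N :=
    IsScalarTower.of_algebraMap_eq fun a => by
      rw [IsScalarTower.algebraMap_apply A (FractionRing A) N, IsScalarTower.algebraMap_apply A (FractionRing A) K']
      exact IsScalarTower.algebraMap_apply (FractionRing A) K' N _
  haveI : IsGalois K' N := IsGalois.of_fixed_field N (⊤ : Subgroup Gal(N/FractionRing A))
  haveI : IsPurelyInseparable (FractionRing A) K' := by
    rw [isPurelyInseparable_iff]
    intro x
    refine ⟨Algebra.IsIntegral.isIntegral x, fun hx => ?_⟩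
    have hmin : minpoly (FractionRing A) (x : N) = minpoly (FractionRing A) x :=
      minpoly.algebraMap_eq (algebraMap K' N).injective x
    have hsub : (minpoly (FractionRing A) (x : N)).rootSet N ⊆ {(x : N)} := by
      intro y hy
      have hy0 := (Polynomial.mem_rootSet.1 hy).2
      obtain ⟨σ, hσ⟩ := (Normal.minpoly_eq_iff_mem_orbit (F := FractionRing A) (E := N) (x := y) (y := (x : N))).1
        (minpoly.eq_of_irreducible_of_monic (minpoly.irreducible (Algebra.IsIntegral.isIntegral (x : N)))
          hy0 (minpoly.monic (Algebra.IsIntegral.isIntegral (x : N)))).symm
      exact hσ.symm.trans ((IntermediateField.mem_fixedField_iff _ _).1 x.2 σ trivial)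
    have hcard : (minpoly (FractionRing A) (x : N)).natDegree ≤ 1 := by
      rw [← Polynomial.card_rootSet_eq_natDegree (K := N) (hmin ▸ hx)
        (Normal.splits (inferInstance : Normal (FractionRing A) N) (x : N)),
        ← Fintype.card_unique (α := ({(x : N)} : Set N))]
      exact Set.card_le_card hsub
    have := minpoly.natDegree_pos (Algebra.IsIntegral.isIntegral (R := FractionRing A) x)
    exact minpoly.mem_range_of_degree_eq_one _ x (by
      rw [Polynomial.degree_eq_natDegree (minpoly.ne_zero (Algebra.IsIntegral.isIntegral x))]
      rw [hmin] at hcard
      norm_cast
      omega)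
  have hB : Module.Finite A (integralClosure A K') := h K' (inferInstance) (inferInstance)
  haveI : Module.Finite A (integralClosure A N) :=
    finite_step A K' N hB
  let f : integralClosure A L →ₗ[A] integralClosure A N :=
    { toFun := fun y => ⟨algebraMap L N y, y.2.map (IsScalarTower.toAlgHom A L N)⟩
      map_add' := fun a b => Subtype.ext (map_add _ _ _)
      map_smul' := fun a b => Subtype.ext ((IsScalarTower.toAlgHom A L N).toLinearMap.map_smul a (b : L)) }
  refine Module.Finite.of_injective f fun a b hab => Subtype.ext ?_
  exact (algebraMap L N).injective (congrArg (fun z : integralClosure A N => (z : N)) hab)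

end Groth.Agent.S4562
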