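import Groth.Statements.S4569
import Mathlib.RingTheory.Localization.AtPrime.Basic
import Mathlib.RingTheory.Ideal.Operations

set_option autoImplicit false
universe u
open CAlg

namespace Groth.Agent.S4569

/-- Let A be a ring, x a non-zero-divisor of A with p = xA prime. For every n > 0 the inverse image in A
of x^n A_p is x^n A. -/
theorem result {A : Type u} [CommRing A] (x : A)
    (hx : x ∈ nonZeroDivisors A) [(Ideal.span ({x} : Set A)).IsPrime] (n : ℕ) (hn : 0 < n) :
    Ideal.comap (algebraMap A (Localization.AtPrime (Ideal.span ({x} : Set A))))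
      (Ideal.map (algebraMap A (Localization.AtPrime (Ideal.span ({x} : Set A)))) (Ideal.span ({x ^ n} : Set A))) =
      Ideal.span ({x ^ n} : Set A) := by
  refine le_antisymm (fun y hy => ?_) Ideal.le_comap_map
  rw [Ideal.mem_comap, IsLocalization.algebraMap_mem_map_algebraMap_iff (Ideal.span ({x} : Set A)).primeCompl] at hy
  obtain ⟨s, hs, hsy⟩ := hy
  clear hn
  induction n generalizing y with
  | zero => simp
  | succ n ih =>
    rw [Ideal.mem_span_singleton] at hsy
    obtain ⟨c, hc⟩ := hsy
    have hx1 : y ∈ Ideal.span ({x} : Set A) :=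
      ((inferInstance : (Ideal.span ({x} : Set A)).IsPrime).mem_or_mem
        (Ideal.mem_span_singleton.2 ⟨x ^ n * c, by rw [hc]; ring⟩)).resolve_left hs
    obtain ⟨z, rfl⟩ := Ideal.mem_span_singleton.1 hx1
    have := ih z (Ideal.mem_span_singleton.2 ⟨c, (mul_cancel_left_mem_nonZeroDivisors hx).1 (by
      rw [← mul_assoc, mul_comm x s, mul_assoc, hc]; ring)⟩)
    obtain ⟨w, rfl⟩ := Ideal.mem_span_singleton.1 this
    exact Ideal.mem_span_singleton.2 ⟨w, by ring⟩

end Groth.Agent.S4569
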