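import Groth.Statements.S4575
import Groth.Agent.RegularLocal.Basic
import Mathlib.RingTheory.RegularLocalRing.Defs
import Mathlib.RingTheory.Ideal.Cotangent
import Mathlib.LinearAlgebra.FiniteDimensional.Lemmas

set_option autoImplicit false
universe u
open IsLocalRing
open EGA41

namespace Groth.Agent.S4575
open IsLocalRing

/-- Let R be a regular local ring with maximal ideal m and n a proper ideal with R/n regular. Then
(n/n²) ⊗_R K → (m/m²) ⊗_R K is injective, K the residue field; stated in the equivalent form n ∩ m²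
= m·n (the kernel of n/mn → m/m² is (n ∩ m²)/mn). -/
theorem result {R : Type u} [CommRing R] [IsRegularLocalRing R]
    (n : Ideal R) (hn : n ≠ ⊤) (hreg : IsRegularRing (R ⧸ n)) :
    n ⊓ maximalIdeal R ^ 2 = maximalIdeal R * n := by
  haveI : IsLocalRing (R ⧸ n) := Groth.Agent.RegularLocal.Basic.isLocalRing_quotient hn
  haveI : IsRegularLocalRing (R ⧸ n) := IsRegularLocalRing.of_isRegularRing_of_isLocalRing _
  obtain ⟨l₁, l₂, hlen, hgen, hI⟩ := Groth.Agent.RegularLocal.Basic.exists_generators_of_quotient_aux _ R n rfl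
  have hnm : n ≤ maximalIdeal R := le_maximalIdeal hn
  refine le_antisymm ?_ (le_inf Ideal.mul_le_right (by rw [sq]; exact Ideal.mul_mono_right hnm))
  intro z hz
  obtain ⟨hz1, hz2⟩ := Submodule.mem_inf.mp hz
  let l := l₁ ++ l₂
  let y : Fin l.length → R := fun i => l[i.1]
  have hrange : Set.range y = {r | r ∈ l} := by
    ext r
    exact ⟨fun ⟨i, hi⟩ => hi ▸ List.getElem_mem i.2, fun hr => let ⟨i, hi, e⟩ := List.mem_iff_getElem.mp hr; ⟨⟨i, hi⟩, e⟩⟩
  have hspan : Ideal.span (Set.range y) = maximalIdeal R := by rw [hrange]; exact hgen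
  have hy : ∀ i, y i ∈ maximalIdeal R := fun i => hspan ▸ Ideal.subset_span ⟨i, rfl⟩
  let v : Fin l.length → CotangentSpace R := fun i => (maximalIdeal R).toCotangent ⟨y i, hy i⟩
  have hv : LinearIndependent (ResidueField R) v := by
    refine linearIndependent_of_top_le_span_of_card_eq_finrank (fun w _ => ?_) ?_
    · obtain ⟨⟨a, ha⟩, rfl⟩ := Ideal.toCotangent_surjective _ w
      obtain ⟨c, hc⟩ := Ideal.mem_span_range_iff_exists_fun.mp (hspan.ge ha)
      rw [show (⟨a, ha⟩ : maximalIdeal R) = ∑ i, c i • ⟨y i, hy i⟩ from Subtype.ext (by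
        simp [AddSubmonoidClass.coe_finsetSum, hc]), map_sum]
      refine Submodule.sum_mem _ fun i _ => ?_
      rw [map_smul]
      exact Submodule.smul_of_tower_mem _ (c i) (Submodule.subset_span (Set.mem_range_self i))
    · rw [Fintype.card_fin, ← spanFinrank_maximalIdeal_eq_finrank_cotangentSpace, ← hlen, List.length_append]
  rw [hI] at hz1
  let z₁ : Fin l₁.length → R := fun i => l₁[i.1]
  have hz1' : z ∈ Ideal.span (Set.range z₁) := by
    refine (Ideal.span_mono ?_ : Ideal.ofList l₁ ≤ Ideal.span (Set.range z₁)) hz1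
    intro r hr
    obtain ⟨i, hi, e⟩ := List.mem_iff_getElem.mp hr
    exact ⟨⟨i, hi⟩, e⟩
  obtain ⟨c, hc⟩ := Ideal.mem_span_range_iff_exists_fun.mp hz1'
  let ι : Fin l₁.length → Fin l.length := fun i => ⟨i.1, by simp [l]; omega⟩
  have hy1 : ∀ i, y (ι i) = z₁ i := fun i => List.getElem_append_left i.2
  have h0 : ∑ i, residue R (c i) • v (ι i) = 0 := by
    have e : ∀ i, residue R (c i) • v (ι i) = (maximalIdeal R).toCotangent (c i • ⟨y (ι i), hy (ι i)⟩) := fun i => by
      rw [map_smul]; rfl
    simp only [e]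
    rw [← map_sum, Ideal.toCotangent_eq_zero]
    simpa [AddSubmonoidClass.coe_finsetSum, hy1, hc] using hz2
  have hli := hv.comp ι (fun a b h => Fin.ext (congrArg Fin.val h :))
  have hcm := fun i => (residue_eq_zero_iff (c i)).mp (Fintype.linearIndependent_iff.mp hli _ h0 i)
  rw [← hc]
  refine Ideal.sum_mem _ fun i _ => Ideal.mul_mem_mul (hcm i) ?_
  rw [hI]
  exact Ideal.subset_span (List.getElem_mem i.2)

end Groth.Agent.S4575
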