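import Groth.Statements.S4577
import Groth.Agent.Alg.SplitLocal
import Mathlib.RingTheory.Etale.Kaehler
import Mathlib.RingTheory.Smooth.Basic
import Mathlib.RingTheory.Smooth.Kaehler
import Mathlib.Algebra.Module.LocalizedModule.Exact
import Mathlib.Algebra.Exact.Basic
import Mathlib.RingTheory.LocalProperties.Basic

set_option autoImplicit false
universe u
open EGA41

namespace Groth.Agent.S4577
open TensorProduct

set_option backward.isDefEq.respectTransparency false in
theorem finite_cotangent {A C : Type u} [CommRing A] [CommRing C] [Algebra A C] (P : Algebra.Extension.{u} A C)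
    [Module.Finite P.Ring P.ker.Cotangent] : Module.Finite C P.Cotangent := by
  let e : P.ker.Cotangent ≃ₗ[P.Ring] P.Cotangent :=
    { __ := AddEquiv.refl _, map_smul' := fun r m => by ext1; simp; rfl }
  haveI : Module.Finite P.Ring P.Cotangent := Module.Finite.equiv e
  exact Module.Finite.of_restrictScalars_finite P.Ring C _


/-- Let B be a formally smooth A-algebra (discrete topologies) and C = B/J a quotient with J/J² finitely
generated. Then C is formally smooth over A if and only if C_m is formally smooth over A for every
maximal ideal m of C (hence also if and only if every C_p, p prime, is). (Not stated: the variant of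
the localised condition with C_m formally smooth over A_q, q the contraction of m to A, and the
further assertion that for B Noetherian the discrete topologies in the localised condition may be
replaced by the adic ones.) -/
theorem result {A B C : Type u} [CommRing A] [CommRing B] [CommRing C]
    [Algebra A B] [Algebra B C] [Algebra A C] [IsScalarTower A B C] [Algebra.FormallySmooth A B]
    (hsurj : Function.Surjective (algebraMap B C)) [Module.Finite B (RingHom.ker (algebraMap B C)).Cotangent] :
    Algebra.FormallySmooth A C ↔
      ∀ (m : Ideal C) [m.IsMaximal], Algebra.FormallySmooth A (Localization.AtPrime m) := by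
  constructor
  · intro h m _
    haveI : Algebra.FormallySmooth C (Localization.AtPrime m) := .of_isLocalization m.primeCompl
    exact .comp A C _
  intro h
  let P : Algebra.Extension A C := ⟨B, fun x => (hsurj x).choose, fun x => (hsurj x).choose_spec⟩
  haveI : Algebra.FormallySmooth A P.Ring := ‹Algebra.FormallySmooth A B›
  have hH : Subsingleton (Algebra.H1Cotangent A C) := by
    refine subsingleton_of_forall_eq 0 fun x => ?_
    by_contra hx
    obtain ⟨m, hm, hle⟩ := Ideal.exists_le_maximal (LinearMap.ker (LinearMap.toSpanSingleton C _ x))
      (fun h => hx (by simpa using (Ideal.eq_top_iff_one _).mp h))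
    have := h m
    have hsub : Subsingleton (Localization.AtPrime m ⊗[C] Algebra.H1Cotangent A C) :=
      (Algebra.tensorH1CotangentOfIsLocalization A (Localization.AtPrime m) m.primeCompl).subsingleton
    have hloc : IsLocalizedModule m.primeCompl (TensorProduct.mk C (Localization.AtPrime m) (Algebra.H1Cotangent A C) 1) :=
      (isLocalizedModule_iff_isBaseChange m.primeCompl (Localization.AtPrime m) _).mpr (TensorProduct.isBaseChange C _ _)
    obtain ⟨c, hc⟩ := (IsLocalizedModule.eq_zero_iff m.primeCompl
      (TensorProduct.mk C (Localization.AtPrime m) (Algebra.H1Cotangent A C) 1)).mp (Subsingleton.elim _ 0 : (TensorProduct.mk C (Localization.AtPrime m) (Algebra.H1Cotangent A C) 1) x = 0)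
    exact c.2 (hle hc)
  have hinj : Function.Injective P.cotangentComplex :=
    (Algebra.Extension.cotangentComplex_injective_iff P).mpr hH
  haveI : Module.Finite P.Ring P.ker.Cotangent := ‹Module.Finite B (RingHom.ker (algebraMap B C)).Cotangent›
  haveI : Module.Finite C P.Cotangent := finite_cotangent P
  haveI : Module.Projective C P.CotangentSpace := inferInstanceAs (Module.Projective C (C ⊗[P.Ring] Ω[P.Ring⁄A]))
  refine (Algebra.Extension.formallySmooth_iff_split_injection P).mpr
    (Groth.Agent.Alg.SplitLocal.exists_retraction P.cotangentComplex fun m _ => ?_)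
  have := h m
  let S := m.primeCompl
  let Cm := Localization.AtPrime m
  let f := LocalizedModule.map S P.cotangentComplex
  let g := LocalizedModule.map S P.toKaehler
  have hfg : Function.Exact f g := LocalizedModule.map_exact S _ _ P.exact_cotangentComplex_toKaehler
  have hf : Function.Injective f := LocalizedModule.map_injective S _ hinj
  have hg : Function.Surjective g := LocalizedModule.map_surjective S _ P.toKaehler_surjective
  let e' : LocalizedModule S (Ω[C⁄A]) ≃ₗ[C] Ω[Cm⁄A] := IsLocalizedModule.iso S (KaehlerDifferential.map A A C Cm)
  haveI : Module.Projective (Localization S) (LocalizedModule S (Ω[C⁄A])) :=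
    Module.Projective.of_equiv (e'.extendScalarsOfIsLocalization S (Localization S)).symm
  obtain ⟨s, hs⟩ := Module.projective_lifting_property g LinearMap.id hg
  have h01 : (∃ l, g ∘ₗ l = LinearMap.id) ↔ (∃ l, l ∘ₗ f = LinearMap.id) :=
    (Function.Exact.split_tfae (R := Localization S) (M := LocalizedModule S P.Cotangent)
    (N := LocalizedModule S P.CotangentSpace) (P := LocalizedModule S (Ω[C⁄A])) (f := f) (g := g) hfg hf hg).out 0 1 rfl rfl
  obtain ⟨r, hr⟩ := h01.mp ⟨s, hs⟩
  refine ⟨(r.restrictScalars C) ∘ₗ LocalizedModule.mkLinearMap S P.CotangentSpace, LinearMap.ext fun x => ?_⟩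
  have h1 : LocalizedModule.mkLinearMap S P.CotangentSpace (P.cotangentComplex x) =
      f (LocalizedModule.mkLinearMap S P.Cotangent x) := by simp [f]
  change r (LocalizedModule.mkLinearMap S P.CotangentSpace (P.cotangentComplex x)) = _
  rw [h1]
  exact DFunLike.congr_fun hr _

end Groth.Agent.S4577
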