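import Groth.Statements.S4584
import Groth.Agent.Lim.Flat
import Groth.Agent.Cons.FinPres
import Mathlib.AlgebraicGeometry.Morphisms.UnderlyingMap
import Mathlib.AlgebraicGeometry.Morphisms.Flat
import Mathlib.AlgebraicGeometry.Morphisms.FinitePresentation
import Mathlib.Topology.Connected.TotallyDisconnected
import Mathlib.RingTheory.Spectrum.Prime.ConstructibleSet

set_option autoImplicit false
universe u
open AlgebraicGeometry CategoryTheory Topology
open EGA41

namespace Groth.Agent.S4584
open CategoryTheory CategoryTheory.Limits AlgebraicGeometry TopologicalSpace Topology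
open Groth.Agent.Lim.Topo Groth.Agent.Cons.Basic Groth.Agent.Lim.Flat

/-- Given a scheme X that is quasi-compact and quasi-separated, together with a constructible subset Z
of X, one can find an affine scheme X' with a morphism X' → X of finite presentation whose image
equals Z. -/
theorem result (X : Scheme.{u}) [CompactSpace X]
    [QuasiSeparatedSpace X] (Z : Set X) (hZ : IsConstructible Z) :
    ∃ (X' : Scheme.{u}) (f : X' ⟶ X), IsAffine X' ∧ LocallyOfFinitePresentation f ∧ QuasiCompact f ∧
      QuasiSeparated f ∧ Set.range f.base = Z := by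
  classical
  let 𝒰 := X.affineCover.finiteSubcover
  have hfin : Finite 𝒰.I₀ := inferInstance
  choose S hS using fun k : 𝒰.I₀ => PrimeSpectrum.exists_constructibleSetData_iff.mpr ((𝒰.f k).isConstructible_preimage hZ)
  let J := Σ k : 𝒰.I₀, S k
  have : Finite J := inferInstance
  choose R' hR φ hφ hr using fun a : J => Groth.Agent.Cons.FinPres.exists_finitePresentation_range_eq a.2.1
  let R : J → CommRingCat.{u} := fun a => @CommRingCat.of (R' a) (hR a)
  let g : ∀ a : J, Spec (R a) ⟶ X := fun a => Spec.map (CommRingCat.ofHom (φ a)) ≫ 𝒰.f a.1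
  have hg : ∀ a, LocallyOfFinitePresentation (g a) := fun a => by
    have h0 : LocallyOfFinitePresentation (Spec.map (CommRingCat.ofHom (φ a))) :=
      (HasRingHomProperty.Spec_iff (P := @LocallyOfFinitePresentation)).mpr (hφ a)
    have h1 : LocallyOfFinitePresentation (𝒰.f a.1) := @locallyOfFinitePresentation_of_isOpenImmersion _ _ _ (𝒰.map_prop a.1)
    exact MorphismProperty.comp_mem @LocallyOfFinitePresentation _ _ h0 h1
  have hlfp : LocallyOfFinitePresentation (Sigma.desc g) := by
    haveI : IsZariskiLocalAtSource @LocallyOfFinitePresentation := HasRingHomProperty.instIsZariskiLocalAtSource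
    rw [IsZariskiLocalAtSource.iff_of_openCover (P := @LocallyOfFinitePresentation) (sigmaOpenCover fun a => Spec (R a))]
    intro a
    have : (sigmaOpenCover fun a => Spec (R a)).f a ≫ Sigma.desc g = g a := Sigma.ι_desc _ _
    rw [this]; exact hg a
  refine ⟨∐ fun a => Spec (R a), Sigma.desc g, inferInstance, hlfp, inferInstance, inferInstance, subset_antisymm ?_ fun x hx => ?_⟩
  · rintro _ ⟨z, rfl⟩
    obtain ⟨a, w, rfl⟩ := (sigmaOpenCover _).exists_eq z
    rw [← Scheme.Hom.comp_apply]
    have : (sigmaOpenCover fun a => Spec (R a)).f a ≫ Sigma.desc g = g a := Sigma.ι_desc _ _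
    rw [this]
    have h2 := (hr a).le ⟨w, rfl⟩
    exact (Set.ext_iff.mp (hS a.1) _).mp (Set.mem_iUnion₂.mpr ⟨a.2.1, a.2.2, h2⟩)
  · obtain ⟨w, hw⟩ := 𝒰.covers x
    obtain ⟨D, hD, hwD⟩ := Set.mem_iUnion₂.mp ((Set.ext_iff.mp (hS _) w).mpr (show 𝒰.f _ w ∈ Z from hw.symm ▸ hx))
    obtain ⟨v, hv⟩ := (hr ⟨_, D, hD⟩).ge hwD
    refine ⟨Sigma.ι (fun a => Spec (R a)) ⟨_, D, hD⟩ v, ?_⟩
    exact (congr($(Sigma.ι_desc g _) v)).trans ((congrArg (𝒰.f _) hv).trans hw)

end Groth.Agent.S4584
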