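import Groth.Statements.S4586
import Groth.Agent.Cons.Basic
import Mathlib.AlgebraicGeometry.Morphisms.FinitePresentation

set_option autoImplicit false
universe u
open AlgebraicGeometry CategoryTheory Topology
open EGA41

namespace Groth.Agent.S4586

section helpers

open CategoryTheory CategoryTheory.Limits AlgebraicGeometry Topology Groth.Agent.Cons.Basic

theorem exists_finite_affine_cover {X Y : Scheme.{u}} (f : X ⟶ Y) [Surjective f]
    (hf : QuasiCompact f ∨ LocallyOfFinitePresentation f) (R : CommRingCat.{u}) (t : Spec R ⟶ Y) :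
    ∃ (ι : Type u) (_ : Finite ι) (A : ι → CommRingCat.{u}) (a : ∀ k, Spec (A k) ⟶ pullback f t),
      ∀ q : Spec R, ∃ k w, (a k ≫ pullback.snd f t) w = q := by
  let 𝒰 := (pullback f t).affineCover
  have hs : Surjective (pullback.snd f t) := inferInstance
  have hcov : ∀ q : Spec R, ∃ k w, (𝒰.f k ≫ pullback.snd f t) w = q := fun q => by
    obtain ⟨z, hz⟩ := hs.surj q
    obtain ⟨w, hw⟩ := 𝒰.covers z
    exact ⟨_, w, by rw [Scheme.Hom.comp_apply, hw, hz]⟩
  rcases hf with hf | hf
  · haveI : CompactSpace ↑(pullback f t) := inferInstance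
    let 𝒱 := 𝒰.finiteSubcover
    refine ⟨𝒱.I₀, inferInstance, _, fun k => 𝒱.f k, fun q => ?_⟩
    obtain ⟨z, hz⟩ := hs.surj q
    obtain ⟨w, hw⟩ := 𝒱.covers z
    exact ⟨_, w, (congrArg (pullback.snd f t) hw).trans hz⟩
  · haveI : LocallyOfFinitePresentation (pullback.snd f t) := MorphismProperty.pullback_snd _ _ hf
    obtain ⟨J, hJ⟩ := exists_finite_subcover (X := Spec R) isProConstructible_univ
      (fun k => Set.range (𝒰.f k ≫ pullback.snd f t)) (fun k => by
        haveI : IsAffineHom (𝒰.f k ≫ pullback.snd f t) := by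
          haveI : IsAffine (𝒰.X k) := inferInstance
          infer_instance
        haveI : LocallyOfFinitePresentation (𝒰.f k ≫ pullback.snd f t) := inferInstance
        have h := Scheme.Hom.isLocallyConstructible_image (𝒰.f k ≫ pullback.snd f t)
          (s := Set.univ) IsLocallyConstructible.univ
        rw [Set.image_univ] at h
        exact (isLocallyConstructible_iff.mp h).1)
      (fun q _ => by
        obtain ⟨k, w, hw⟩ := hcov q
        exact Set.mem_iUnion.2 ⟨k, w, hw⟩)
    refine ⟨J, inferInstance, _, fun k => 𝒰.f k.1, fun q => ?_⟩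
    obtain ⟨k, hk, w, hw⟩ := Set.mem_iUnion₂.1 (hJ (Set.mem_univ q))
    exact ⟨⟨k, hk⟩, w, hw⟩

theorem isProConstructible_of_preimage {X Y : Scheme.{u}} (f : X ⟶ Y) [Surjective f]
    (hf : QuasiCompact f ∨ LocallyOfFinitePresentation f) {E : Set Y}
    (h : ProCons.IsProConstructible (f.base ⁻¹' E)) : ProCons.IsProConstructible E := by
  refine isProConstructible_iff.mpr fun R t => ?_
  obtain ⟨ι, hι, A, a, ha⟩ := exists_finite_affine_cover f hf R t
  have heq : t ⁻¹' E = ⋃ k, (a k ≫ pullback.snd f t) '' ((a k ≫ pullback.fst f t) ⁻¹' (f.base ⁻¹' E)) := by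
    have hc : ∀ k w, f ((a k ≫ pullback.fst f t) w) = t ((a k ≫ pullback.snd f t) w) := fun k w => by
      simp only [← Scheme.Hom.comp_apply, Category.assoc, pullback.condition]
    ext q
    constructor
    · intro hq
      obtain ⟨k, w, rfl⟩ := ha q
      exact Set.mem_iUnion.2 ⟨k, w, show f ((a k ≫ pullback.fst f t) w) ∈ E from hc k w ▸ hq, rfl⟩
    · intro hq
      obtain ⟨k, w, hw, rfl⟩ := Set.mem_iUnion.1 hq
      exact (show t ((a k ≫ pullback.snd f t) w) ∈ E from hc k w ▸ hw)
  rw [heq]
  refine @isClosed_iUnion_of_finite _ _ (constructibleTopology (Spec R)) _ _ fun k => ?_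
  have hcl := isProConstructible_iff.mp h _ (a k ≫ pullback.fst f t)
  have hc : @IsCompact _ (constructibleTopology (Spec (A k))) ((a k ≫ pullback.fst f t) ⁻¹' (f.base ⁻¹' E)) :=
    @IsClosed.isCompact _ (constructibleTopology _) _ (compactSpace_constructible _) hcl
  exact @IsCompact.isClosed _ (constructibleTopology (Spec R)) (t2_constructible _) _
    (@IsCompact.image _ _ (constructibleTopology _) (constructibleTopology (Spec R)) _ _ hc
      (continuous_constructible (a k ≫ pullback.snd f t)))

end helpers

/-- Let f : X → Y be surjective and either quasi-compact or locally of finite presentation, E ⊆ Y. Then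
E is locally constructible (resp. pro-constructible, resp. ind-constructible) if and only if f⁻¹(E)
is. -/
theorem result {X Y : Scheme.{u}} (f : X ⟶ Y) [Surjective f]
    (hf : QuasiCompact f ∨ LocallyOfFinitePresentation f) (E : Set Y) :
    (IsLocallyConstructible E ↔ IsLocallyConstructible (f.base ⁻¹' E)) ∧
    (ProCons.IsProConstructible E ↔ ProCons.IsProConstructible (f.base ⁻¹' E)) ∧
    (ProCons.IsIndConstructible E ↔ ProCons.IsIndConstructible (f.base ⁻¹' E)) := by
  have hp : ProCons.IsProConstructible E ↔ ProCons.IsProConstructible (f.base ⁻¹' E) :=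
    ⟨fun h => Groth.Agent.Cons.Basic.isProConstructible_preimage f h, isProConstructible_of_preimage f hf⟩
  have hi : ProCons.IsIndConstructible E ↔ ProCons.IsIndConstructible (f.base ⁻¹' E) := by
    refine ⟨fun h => Groth.Agent.Cons.Basic.isIndConstructible_preimage f h, fun h => ?_⟩
    have h1 : ProCons.IsProConstructible (f.base ⁻¹' Eᶜ) := by
      rw [Groth.Agent.Cons.Basic.isProConstructible_iff_compl, Set.preimage_compl, compl_compl]
      exact h
    have h2 := Groth.Agent.Cons.Basic.isProConstructible_iff_compl.mp (isProConstructible_of_preimage f hf h1)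
    rwa [compl_compl] at h2
  exact ⟨by rw [Groth.Agent.Cons.Basic.isLocallyConstructible_iff, Groth.Agent.Cons.Basic.isLocallyConstructible_iff, hi, hp], hp, hi⟩

end Groth.Agent.S4586
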