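import Groth.Statements.S4587
import Mathlib.AlgebraicGeometry.Morphisms.UniversallyClosed
import Mathlib.AlgebraicGeometry.Morphisms.Separated
import Mathlib.AlgebraicGeometry.Morphisms.Immersion
import Mathlib.AlgebraicGeometry.Morphisms.FiniteType
import Mathlib.AlgebraicGeometry.Morphisms.QuasiSeparated
import Mathlib.AlgebraicGeometry.Noetherian
import Mathlib.AlgebraicGeometry.Limits
import Mathlib.AlgebraicGeometry.ValuativeCriterion
import Mathlib.AlgebraicGeometry.PullbackCarrier
import Mathlib.AlgebraicGeometry.FunctionField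
import Mathlib.Topology.Algebra.ClopenNhdofOne
import Mathlib.RingTheory.Ideal.Height
import Mathlib.RingTheory.Ideal.KrullsHeightTheorem

set_option autoImplicit false
universe u
open AlgebraicGeometry CategoryTheory
open EGA41

namespace Groth.Agent.S4587
open CategoryTheory CategoryTheory.Limits AlgebraicGeometry TopologicalSpace

/-- A morphism of schemes f : X → Y is generizing if and only if, for every irreducible closed subset Y'
of Y, each irreducible component of f⁻¹(Y') has dense image in Y'. -/
theorem result {X Y : Scheme.{u}} (f : X ⟶ Y) :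
    GeneralizingMap f.base ↔
      ∀ Y' : Set Y, IsClosed Y' → IsIrreducible Y' →
        ∀ Z ∈ irreducibleComponents ↥(f.base ⁻¹' Y'), closure (f.base '' (Subtype.val '' Z)) = Y' := by
  constructor
  · intro hf Y' hc hi Z hZ
    obtain ⟨y', hy'⟩ := QuasiSober.sober hi hc
    have hp : IsClosed (f.base ⁻¹' Y') := hc.preimage f.continuous
    have hZi : IsIrreducible (Subtype.val '' Z) := hZ.1.image _ continuous_subtype_val.continuousOn
    have hZc : IsClosed (Subtype.val '' Z) := hp.isClosedEmbedding_subtypeVal.isClosedMap _ (isClosed_of_mem_irreducibleComponents Z hZ)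
    obtain ⟨η, hη⟩ := QuasiSober.sober hZi hZc
    obtain ⟨z, hz, rfl⟩ := hη.mem
    have hsp : y' ⤳ f.base z.1 := hy'.specializes z.2
    obtain ⟨x', hx', hfx'⟩ := hf hsp
    let x'' : ↥(f.base ⁻¹' Y') := ⟨x', by change f.base x' ∈ Y'; rw [hfx']; exact hy'.mem⟩
    have hle : Z ⊆ closure {x''} := fun w hw =>
      ((subtype_specializes_iff (x := x'') (y := w)).mpr (hx'.trans (hη.specializes ⟨w, hw, rfl⟩))).mem_closure
    have hx'Z : x'' ∈ Z := (hZ.2 isIrreducible_singleton.closure hle) (subset_closure rfl)
    have heq : x' = z.1 := (hx'.antisymm (hη.specializes ⟨x'', hx'Z, rfl⟩)).eq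
    refine subset_antisymm (closure_minimal (by rintro _ ⟨_, ⟨w, _, rfl⟩, rfl⟩; exact w.2) hc) ?_
    refine hy'.def.symm.subset.trans ?_
    exact closure_mono (Set.singleton_subset_iff.mpr ⟨z.1, ⟨z, hz, rfl⟩, heq ▸ hfx'⟩)
  · intro h x y' hy
    have hx : x ∈ f.base ⁻¹' closure {y'} := hy.mem_closure
    let x₀ : ↥(f.base ⁻¹' closure {y'}) := ⟨x, hx⟩
    obtain ⟨Z, hZ, hxZ⟩ := exists_mem_irreducibleComponents_subset_of_isIrreducible ({x₀} : Set _) isIrreducible_singleton
    have hp : IsClosed (f.base ⁻¹' closure {y'}) := isClosed_closure.preimage f.continuous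
    obtain ⟨η, hη⟩ := QuasiSober.sober (hZ.1.image _ continuous_subtype_val.continuousOn)
      (hp.isClosedEmbedding_subtypeVal.isClosedMap _ (isClosed_of_mem_irreducibleComponents Z hZ))
    refine ⟨η, hη.specializes ⟨x₀, hxZ rfl, rfl⟩, ?_⟩
    have h1 := h _ isClosed_closure isIrreducible_singleton.closure Z hZ
    have h2 : IsGenericPoint (f.base η) (closure {y'}) := h1 ▸ hη.image f.continuous
    exact h2.eq (isGenericPoint_closure)

end Groth.Agent.S4587
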