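import Groth.Statements.S4588
import Groth.Agent.Alg.Eisenstein

set_option autoImplicit false
universe u
open IsLocalRing
open EGA41

namespace Groth.Agent.S4588
open IsLocalRing

/-- Let A be a regular local ring with maximal ideal m and residue field K, and F_i(T_i) = T_i^{d_i} +
Σ_{k<d_i} c_{ik} T_i^k (1 ≤ i ≤ r) monic one-variable polynomials of degrees d_i ≥ 2 with all
non-leading coefficients in m; put A' = A[T_1, …, T_r]/(F_1, …, F_r). Then (i) A' is local with
residue field K, and (ii) A' is regular if and only if the classes in m/m² of the constant terms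
c_{i0} are linearly independent over K. -/
theorem result {A : Type u} [CommRing A]
    [IsRegularLocalRing A] {r : ℕ} (d : Fin r → ℕ) (hd : ∀ i, 2 ≤ d i) (c : Fin r → ℕ → A)
    (hc : ∀ i k, c i k ∈ maximalIdeal A) :
    let F : Fin r → MvPolynomial (Fin r) A := fun i =>
      MvPolynomial.X i ^ d i + (Finset.range (d i)).sum fun k => MvPolynomial.C (c i k) * MvPolynomial.X i ^ k
    IsLocalRing (MvPolynomial (Fin r) A ⧸ Ideal.span (Set.range F)) ∧
    (∀ (M : Ideal (MvPolynomial (Fin r) A ⧸ Ideal.span (Set.range F))) [M.IsMaximal],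
      Function.Surjective ((Ideal.Quotient.mk M).comp (algebraMap A _))) ∧
    (IsRegularRing (MvPolynomial (Fin r) A ⧸ Ideal.span (Set.range F)) ↔
      LinearIndependent (ResidueField A) (fun i => (maximalIdeal A).toCotangent ⟨c i 0, hc i 0⟩)) := by
  intro F
  have hl : IsLocalRing (Groth.Agent.Alg.Eisenstein.R d c) := Groth.Agent.Alg.Eisenstein.isLocalRing_R hd hc
  refine ⟨hl, fun M _ => Groth.Agent.Alg.Eisenstein.surjective_quotient hd hc M, ?_⟩
  have hint := Groth.Agent.Alg.Eisenstein.isIntegral_R d c
  have hfin := Groth.Agent.Alg.Eisenstein.finite_R d c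
  have : IsNoetherianRing (Groth.Agent.Alg.Eisenstein.R d c) := IsNoetherianRing.of_finite A _
  have hinj : Function.Injective (algebraMap A (Groth.Agent.Alg.Eisenstein.R d c)) := by
    refine Groth.Agent.Alg.MonicQuot.injective_algebraMap
      (fun i => Polynomial.X ^ d i + ∑ k ∈ Finset.range (d i), Polynomial.C (c i k) * Polynomial.X ^ k)
      (fun i => ?_) (fun i => ?_) _ (fun i => by simp [Groth.Agent.Alg.Eisenstein.F])
    · exact Polynomial.monic_X_pow_add ((Polynomial.degree_sum_le _ _).trans_lt
        ((Finset.sup_lt_iff (WithBot.bot_lt_coe _)).mpr fun k hk =>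
          (Polynomial.degree_C_mul_X_pow_le k _).trans_lt (WithBot.coe_lt_coe.mpr (Finset.mem_range.mp hk))))
    · have := hd i
      rw [Polynomial.natDegree_add_eq_left_of_degree_lt, Polynomial.natDegree_X_pow]
      · omega
      · rw [Polynomial.degree_X_pow]
        exact (Polynomial.degree_sum_le _ _).trans_lt ((Finset.sup_lt_iff (WithBot.bot_lt_coe _)).mpr fun k hk =>
          (Polynomial.degree_C_mul_X_pow_le k _).trans_lt (WithBot.coe_lt_coe.mpr (Finset.mem_range.mp hk)))
  refine (Groth.Agent.Alg.MonicQuot.isRegularRing_iff_finrank hinj).trans ?_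
  have key := Groth.Agent.Alg.Eisenstein.finrank_cotangent hd hc
  rw [linearIndependent_iff_card_eq_finrank_span, Fintype.card_fin, Set.finrank]
  omega

end Groth.Agent.S4588
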