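import Groth.Statements.S4590
import Mathlib.RingTheory.Localization.BaseChange
import Mathlib.RingTheory.Finiteness.Descent
import Mathlib.RingTheory.Flat.FaithfullyFlat.Algebra
import Mathlib.RingTheory.Flat.TorsionFree
import Mathlib.RingTheory.IntegralClosure.IsIntegralClosure.Basic

set_option autoImplicit false
universe u
open CAlg

namespace Groth.Agent.S4590

open scoped TensorProduct

/-- Let A be a domain with fraction field K, B a faithfully flat A-algebra, C = B_red and R the total
ring of fractions of C. Then A → C is injective with nonzero elements going to non-zero-divisors, so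
that K embeds in R, and an element of K is integral over C in R if and only if it is integral over
A. -/
theorem result {A B : Type u} [CommRing A] [IsDomain A]
    [CommRing B] [Algebra A B] [Module.FaithfullyFlat A B] :
    Function.Injective (algebraMap A (B ⧸ nilradical B)) ∧
    (∀ a : A, a ≠ 0 → algebraMap A (B ⧸ nilradical B) a ∈ nonZeroDivisors (B ⧸ nilradical B)) ∧
    ∀ (R : Type u) [CommRing R] [Algebra (B ⧸ nilradical B) R] [IsFractionRing (B ⧸ nilradical B) R]
      [Algebra A R] [IsScalarTower A (B ⧸ nilradical B) R] [Algebra (FractionRing A) R]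
      [IsScalarTower A (FractionRing A) R] (x : FractionRing A),
      IsIntegral (B ⧸ nilradical B) (algebraMap (FractionRing A) R x) ↔ IsIntegral A x := by
  have hreg : ∀ a : A, a ≠ 0 → ∀ b : B, IsNilpotent (algebraMap A B a * b) → IsNilpotent b := by
    rintro a ha b ⟨n, hn⟩
    refine ⟨n, ?_⟩
    rw [mul_pow, ← map_pow, ← Algebra.smul_def] at hn
    exact (Module.Flat.isSMulRegular_of_nonZeroDivisors (M := B) (mem_nonZeroDivisors_of_ne_zero (pow_ne_zero n ha)))
      (hn.trans (smul_zero _).symm)
  have hinj : Function.Injective (algebraMap A (B ⧸ nilradical B)) := (injective_iff_map_eq_zero _).2 fun a ha => by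
    by_contra hne
    rw [IsScalarTower.algebraMap_apply A B, Ideal.Quotient.algebraMap_eq, Ideal.Quotient.eq_zero_iff_mem] at ha
    obtain ⟨n, hn⟩ := ha
    rw [← map_pow] at hn
    exact pow_ne_zero n hne (FaithfulSMul.algebraMap_injective A B (hn.trans (map_zero _).symm))
  refine ⟨hinj, fun a ha => mem_nonZeroDivisors_iff_right.2 fun z hz => ?_, ?_⟩
  · obtain ⟨b, rfl⟩ := Ideal.Quotient.mk_surjective z
    rw [IsScalarTower.algebraMap_apply A B, Ideal.Quotient.algebraMap_eq, ← map_mul, Ideal.Quotient.eq_zero_iff_mem, mul_comm] at hz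
    exact Ideal.Quotient.eq_zero_iff_mem.2 (hreg a ha b hz)
  intro R _ _ _ _ _ _ _ x
  refine ⟨fun hx => ?_, fun hx => (hx.map (IsScalarTower.toAlgHom A (FractionRing A) R)).tower_top⟩
  let K := FractionRing A
  letI : Algebra B R := ((algebraMap (B ⧸ nilradical B) R).comp (Ideal.Quotient.mk _)).toAlgebra
  haveI : IsScalarTower B (B ⧸ nilradical B) R := IsScalarTower.of_algebraMap_eq fun _ => rfl
  haveI : IsScalarTower A B R := IsScalarTower.of_algebraMap_eq fun a => by
    rw [IsScalarTower.algebraMap_apply A (B ⧸ nilradical B) R]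
    rfl
  let π : B ⊗[A] K →ₐ[B] R :=
    Algebra.TensorProduct.lift (Algebra.ofId B R) (IsScalarTower.toAlgHom A K R) fun _ _ => Commute.all _ _
  letI : Algebra K (B ⊗[A] K) := Algebra.TensorProduct.rightAlgebra
  haveI : IsLocalization (Algebra.algebraMapSubmonoid B (nonZeroDivisors A)) (B ⊗[A] K) :=
    (Algebra.isLocalization_iff_isPushout (nonZeroDivisors A) K).2 inferInstance
  have hker : ∀ z, π z = 0 → IsNilpotent z := by
    intro z hz
    obtain ⟨⟨b, ⟨_, s, hs, rfl⟩⟩, hbs⟩ := IsLocalization.surj (Algebra.algebraMapSubmonoid B (nonZeroDivisors A)) z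
    have hb : algebraMap B R b = 0 := by
      rw [← π.commutes, ← hbs, map_mul, hz, zero_mul]
    have hb' : IsNilpotent b := by
      have : Ideal.Quotient.mk (nilradical B) b = 0 :=
        IsFractionRing.injective (B ⧸ nilradical B) R (hb.trans (map_zero _).symm)
      exact Ideal.Quotient.eq_zero_iff_mem.1 this
    obtain ⟨n, hn⟩ := hb'.map (algebraMap B (B ⊗[A] K))
    refine ⟨n, ?_⟩
    rw [← hbs, mul_pow] at hn
    exact (((IsLocalization.map_units (M := Algebra.algebraMapSubmonoid B (nonZeroDivisors A)) (B ⊗[A] K)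
      ⟨_, s, hs, rfl⟩).pow n).mul_left_eq_zero).1 hn
  haveI : Nontrivial (B ⧸ nilradical B) := hinj.nontrivial
  obtain ⟨p, hp, hpx⟩ := hx
  obtain ⟨P, hPmap, -, hPm⟩ := Polynomial.lifts_and_degree_eq_and_monic
    (Polynomial.map_surjective (Ideal.Quotient.mk (nilradical B)) Ideal.Quotient.mk_surjective p) hp
  obtain ⟨n, hn⟩ := hker (Polynomial.aeval ((1 : B) ⊗ₜ[A] x) P) (by
    rw [← Polynomial.aeval_algHom_apply]
    simp only [π, Algebra.TensorProduct.lift_tmul, map_one, one_mul]
    rw [← hPmap, Polynomial.eval₂_map] at hpx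
    exact hpx)
  have hxB : IsIntegral B ((1 : B) ⊗ₜ[A] x) := ⟨P ^ n, hPm.pow n, by rwa [← Polynomial.aeval_def, map_pow]⟩
  -- the subalgebra generated by `x`
  let Ax : Subalgebra A K := Algebra.adjoin A {x}
  let ι : B ⊗[A] Ax →ₐ[B] B ⊗[A] K := Algebra.TensorProduct.map (AlgHom.id B B) Ax.val
  have hι : Function.Injective ι := by
    have h := Module.Flat.lTensor_preserves_injective_linearMap (M := B) Ax.val.toLinearMap Subtype.val_injective
    have e : ∀ z, ι z = Ax.val.toLinearMap.lTensor B z := by
      intro z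
      induction z using TensorProduct.induction_on with
      | zero => simp
      | tmul a b => simp [ι]
      | add a b ha hb => simp [ha, hb]
    intro a b hab
    exact h (by rw [← e, ← e, hab])
  let g : B ⊗[A] Ax := (1 : B) ⊗ₜ[A] (⟨x, Algebra.self_mem_adjoin_singleton A x⟩ : Ax)
  have hg : IsIntegral B g := (isIntegral_algHom_iff ι hι).1 (by simpa [ι, g] using hxB)
  have htop : Algebra.adjoin B {g} = ⊤ := by
    refine eq_top_iff.2 fun z _ => ?_
    induction z using TensorProduct.induction_on with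
    | zero => exact Subalgebra.zero_mem _
    | tmul b y =>
      obtain ⟨y, hy⟩ := y
      rw [show (b ⊗ₜ[A] (⟨y, hy⟩ : Ax) : B ⊗[A] Ax) = b • ((1 : B) ⊗ₜ[A] (⟨y, hy⟩ : Ax)) by
        rw [TensorProduct.smul_tmul', smul_eq_mul, mul_one]]
      refine Subalgebra.smul_mem _ ?_ b
      have : ∀ w (hw : w ∈ Ax), (1 : B) ⊗ₜ[A] (⟨w, hw⟩ : Ax) ∈ Algebra.adjoin B {g} := by
        intro w hw
        induction hw using Algebra.adjoin_induction with
        | mem w hw => obtain rfl := hw; exact Algebra.subset_adjoin rfl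
        | algebraMap a =>
          rw [show (⟨algebraMap A K a, Subalgebra.algebraMap_mem Ax a⟩ : Ax) = a • 1 from
            Subtype.ext (Algebra.algebraMap_eq_smul_one a), TensorProduct.tmul_smul, ← algebraMap_smul B a]
          exact Subalgebra.smul_mem _ (Subalgebra.one_mem _) (algebraMap A B a)
        | add a b ha hb iha ihb =>
          rw [show (⟨a + b, Subalgebra.add_mem _ ha hb⟩ : Ax) = ⟨a, ha⟩ + ⟨b, hb⟩ from rfl, TensorProduct.tmul_add]
          exact Subalgebra.add_mem _ iha ihb
        | mul a b ha hb iha ihb =>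
          rw [show (⟨a * b, Subalgebra.mul_mem _ ha hb⟩ : Ax) = ⟨a, ha⟩ * ⟨b, hb⟩ from rfl,
            show (1 : B) ⊗ₜ[A] ((⟨a, ha⟩ : Ax) * ⟨b, hb⟩) = (1 ⊗ₜ ⟨a, ha⟩) * (1 ⊗ₜ ⟨b, hb⟩) by
              rw [Algebra.TensorProduct.tmul_mul_tmul, mul_one]]
          exact Subalgebra.mul_mem _ iha ihb
      exact this y hy
    | add a b ha hb => exact Subalgebra.add_mem _ (ha trivial) (hb trivial)
  haveI : Module.Finite B (B ⊗[A] Ax) := by
    have := hg.fg_adjoin_singleton
    rw [htop, Algebra.top_toSubmodule] at this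
    exact ⟨this⟩
  haveI : Module.Finite A Ax := Module.Finite.of_finite_tensorProduct_of_faithfullyFlat B
  exact (IsIntegral.of_finite A (⟨x, Algebra.self_mem_adjoin_singleton A x⟩ : Ax)).map Ax.val

end Groth.Agent.S4590
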