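import Groth.Statements.S4592
import Mathlib.AlgebraicGeometry.Morphisms.FlatDescent
import Mathlib.AlgebraicGeometry.Morphisms.QuasiSeparated
import Mathlib.AlgebraicGeometry.Geometrically.Irreducible
import Mathlib.AlgebraicGeometry.Geometrically.Connected
import Mathlib.AlgebraicGeometry.Limits
import Mathlib.AlgebraicGeometry.IdealSheaf.Basic
import Mathlib.AlgebraicGeometry.Noetherian
import Mathlib.Algebra.Category.Ring.FilteredColimits
import Mathlib.RingTheory.Regular.IsSMulRegular
import Mathlib.Algebra.Module.Submodule.Pointwise

set_option autoImplicit false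
universe u
open CategoryTheory CategoryTheory.Limits
open EGA41

namespace Groth.Agent.S4592

/-- A filtered colimit of commutative rings is the zero ring if and only if some ring of the system is
zero (the clause that all later rings of the system are then zero is not restated). -/
theorem result {I : Type u} [SmallCategory I] [IsFiltered I]
    (D : I ⥤ CommRingCat.{u}) (c : Cocone D) (hc : IsColimit c) :
    Subsingleton c.pt ↔ ∃ i : I, Subsingleton (D.obj i) := by
  constructor
  · intro h
    obtain ⟨j⟩ : Nonempty I := IsFiltered.nonempty
    have h1 : (c.ι.app j) (1 : D.obj j) = (c.ι.app j) (0 : D.obj j) := Subsingleton.elim (α := c.pt) _ _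
    obtain ⟨k, a, b, hab⟩ := (Types.FilteredColimit.isColimit_eq_iff _ (isColimitOfPreserves (forget CommRingCat) hc)).mp h1
    refine ⟨k, ⟨fun x y => ?_⟩⟩
    change (D.map a) 1 = (D.map b) 0 at hab
    rw [map_one, map_zero] at hab
    rw [← mul_one x, ← mul_one y, hab, mul_zero, mul_zero]
  · rintro ⟨i, hi⟩
    refine subsingleton_of_zero_eq_one (M₀ := c.pt) ?_
    rw [← map_one (c.ι.app i).hom, ← map_zero (c.ι.app i).hom, Subsingleton.elim (1 : D.obj i) 0]

end Groth.Agent.S4592
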