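import Groth.Statements.S4593
import Mathlib.AlgebraicGeometry.Scheme
import Mathlib.Algebra.Category.Ring.FilteredColimits
import Mathlib.CategoryTheory.Limits.ConcreteCategory.Basic
import Mathlib.RingTheory.Spectrum.Prime.Topology

set_option autoImplicit false
universe u
open CategoryTheory CategoryTheory.Limits AlgebraicGeometry
open EGA41

namespace Groth.Agent.S4593
open CategoryTheory CategoryTheory.Limits AlgebraicGeometry

/-- Let B be a ring, (A_i) a filtered system of B-algebras with colimit A. The image of Spec A in Spec B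
is the intersection of the images of the Spec A_i. -/
theorem result {I : Type u} [SmallCategory I] [IsFiltered I]
    (B : CommRingCat.{u}) (D : I ⥤ CommRingCat.{u}) (s : (Functor.const I).obj B ⟶ D) (c : Cocone D)
    (hc : IsColimit c) (i₀ : I) :
    Set.range (Spec.map (s.app i₀ ≫ c.ι.app i₀)).base = ⋂ i : I, Set.range (Spec.map (s.app i)).base := by
  have hs : ∀ {i j : I} (f : i ⟶ j), s.app i ≫ D.map f = s.app j := fun f =>
    (s.naturality f).symm.trans (Category.id_comp _)
  have hφ : ∀ i, s.app i ≫ c.ι.app i = s.app i₀ ≫ c.ι.app i₀ := fun i => by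
    obtain ⟨k, a, b, -⟩ := IsFilteredOrEmpty.cocone_objs i i₀
    rw [← c.w a, ← c.w b, reassoc_of% (hs a), reassoc_of% (hs b)]
  have key : ∀ {R S : CommRingCat.{u}} (g : R ⟶ S) (p : PrimeSpectrum R),
      p ∈ Set.range (Spec.map g).base ↔ (p.asIdeal.map g.hom).comap g.hom = p.asIdeal := fun g p => by
    rw [Ideal.comap_map_eq_self_iff_of_isPrime]
    exact ⟨fun ⟨q, hq⟩ => ⟨q.asIdeal, q.2, congrArg PrimeSpectrum.asIdeal hq⟩,
      fun ⟨q, hq, e⟩ => ⟨⟨q, hq⟩, PrimeSpectrum.ext e⟩⟩
  ext p
  rw [Set.mem_iInter]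
  refine (key _ p).trans ⟨fun h i => (key _ p).mpr (le_antisymm (fun b hb => ?_) Ideal.le_comap_map), fun h =>
    le_antisymm (fun b hb => ?_) Ideal.le_comap_map⟩
  · rw [← h]
    rw [Ideal.mem_comap] at hb ⊢
    rw [← hφ i, CommRingCat.hom_comp, ← Ideal.map_map]
    exact Ideal.mem_map_of_mem _ hb
  · rw [Ideal.mem_comap] at hb
    let hc' := isColimitOfPreserves (forget CommRingCat) hc
    have hlift : ∀ x ∈ p.asIdeal.map (s.app i₀ ≫ c.ι.app i₀).hom,
        ∃ i, ∃ y ∈ p.asIdeal.map (s.app i).hom, c.ι.app i y = x := by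
      intro x hx
      induction hx using Submodule.span_induction with
      | mem x hx =>
        obtain ⟨b, hb, rfl⟩ := hx
        exact ⟨i₀, _, Ideal.mem_map_of_mem _ hb, rfl⟩
      | zero => exact ⟨i₀, 0, zero_mem _, map_zero _⟩
      | add x x' _ _ hx hx' =>
        obtain ⟨i, y, hy, rfl⟩ := hx
        obtain ⟨i', y', hy', rfl⟩ := hx'
        obtain ⟨k, a, a', -⟩ := IsFilteredOrEmpty.cocone_objs i i'
        refine ⟨k, D.map a y + D.map a' y', add_mem ?_ ?_, ?_⟩
        · rw [← hs a, CommRingCat.hom_comp, ← Ideal.map_map]; exact Ideal.mem_map_of_mem _ hy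
        · rw [← hs a', CommRingCat.hom_comp, ← Ideal.map_map]; exact Ideal.mem_map_of_mem _ hy'
        · rw [map_add, ← CommRingCat.comp_apply, ← CommRingCat.comp_apply, c.w, c.w]
      | smul r x _ hx =>
        obtain ⟨i, y, hy, rfl⟩ := hx
        obtain ⟨i', r', hr⟩ := Types.jointly_surjective_of_isColimit hc' r
        obtain rfl : c.ι.app i' r' = r := hr
        obtain ⟨k, a, a', -⟩ := IsFilteredOrEmpty.cocone_objs i i'
        refine ⟨k, D.map a' r' * D.map a y, Ideal.mul_mem_left _ _ ?_, ?_⟩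
        · rw [← hs a, CommRingCat.hom_comp, ← Ideal.map_map]; exact Ideal.mem_map_of_mem _ hy
        · rw [smul_eq_mul, map_mul, ← CommRingCat.comp_apply, ← CommRingCat.comp_apply, c.w, c.w]
    obtain ⟨i, y, hy, e⟩ := hlift _ hb
    have e' : c.ι.app i y = c.ι.app i (s.app i b) := by
      rw [e, ← CommRingCat.comp_apply (s.app i), hφ i]
    obtain ⟨k, a, a', hk⟩ := (Types.FilteredColimit.isColimit_eq_iff _ hc').mp e'
    replace hk : D.map a y = D.map a' (s.app i b) := hk
    rw [← (key _ p).mp (h k), Ideal.mem_comap]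
    have : (s.app k).hom b = D.map a y := by
      rw [hk, ← CommRingCat.comp_apply, hs a']
    rw [this, ← hs a, CommRingCat.hom_comp, ← Ideal.map_map]
    exact Ideal.mem_map_of_mem _ hy

end Groth.Agent.S4593
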