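import Groth.Statements.S4594
import Mathlib.RingTheory.Kaehler.Basic
import Mathlib.RingTheory.Smooth.Basic
import Mathlib.LinearAlgebra.TensorProduct.RightExactness
import Mathlib.Algebra.CharP.Basic

set_option autoImplicit false
universe u
open TensorProduct KaehlerDifferential
open EGA41

namespace Groth.Agent.S4594

/-- Let Λ be a ring, A → C a surjection of Λ-algebras with kernel J, C of characteristic p > 0, and π
the class of p·1 in J/J². If C is formally smooth over Λ/pΛ for the discrete topologies, then 0 →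
(J/J²)/Cπ → Ω_{A/Λ} ⊗_A C → Ω_{C/Λ} → 0 is exact: the kernel of the conormal map J/J² → Ω_{A/Λ} ⊗_A
C is the span of π, and the base-change map to Ω_{C/Λ} is surjective with kernel the image of J/J². -/
theorem result {Λ A C : Type u} [CommRing Λ] [CommRing A]
    [CommRing C] [Algebra Λ A] [Algebra A C] [Algebra Λ C] [IsScalarTower Λ A C]
    (hsurj : Function.Surjective (algebraMap A C)) (p : ℕ) [Fact p.Prime] [CharP C p]
    [Algebra (Λ ⧸ Ideal.span {(p : Λ)}) C] [IsScalarTower Λ (Λ ⧸ Ideal.span {(p : Λ)}) C]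
    [Algebra.FormallySmooth (Λ ⧸ Ideal.span {(p : Λ)}) C]
    (hp : (p : A) ∈ RingHom.ker (algebraMap A C)) :
    LinearMap.ker (kerCotangentToTensor Λ A C) =
        Submodule.span A {(RingHom.ker (algebraMap A C)).toCotangent ⟨(p : A), hp⟩} ∧
      LinearMap.range (kerCotangentToTensor Λ A C) = (LinearMap.ker (mapBaseChange Λ A C)).restrictScalars A ∧
      Function.Surjective (mapBaseChange Λ A C) := by
  classical
  refine ⟨le_antisymm ?_ ?_, range_kerCotangentToTensor Λ A C hsurj, mapBaseChange_surjective Λ A C hsurj⟩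
  swap
  · rw [Submodule.span_le, Set.singleton_subset_iff, SetLike.mem_coe, LinearMap.mem_ker,
      kerCotangentToTensor_toCotangent]
    simp [Derivation.map_natCast]
  let J := RingHom.ker (algebraMap A C)
  let π := J.toCotangent ⟨(p : A), hp⟩
  let P : Submodule A J.Cotangent := Submodule.span A {π}
  let I : Ideal A := J * J ⊔ Ideal.span {(p : A)}
  have hIJ : I ≤ J := sup_le Ideal.mul_le_right ((Ideal.span_singleton_le_iff_mem _).mpr hp)
  let Λb := Λ ⧸ Ideal.span {(p : Λ)}
  letI : Algebra Λb (A ⧸ I) := (Ideal.Quotient.lift (Ideal.span {(p : Λ)}) (algebraMap Λ (A ⧸ I)) (fun a ha => by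
    obtain ⟨b, rfl⟩ := Ideal.mem_span_singleton'.mp ha
    rw [map_mul, map_natCast, ← map_natCast (Ideal.Quotient.mk I), (Ideal.Quotient.eq_zero_iff_mem (I := I) (a := (p : A))).mpr
      (Ideal.mem_sup_right (Ideal.mem_span_singleton_self _)), mul_zero])).toAlgebra
  let pr : A ⧸ I →ₐ[Λb] C :=
    { Ideal.Quotient.lift I (algebraMap A C) (fun a ha => hIJ ha) with
      commutes' := fun c => by
        obtain ⟨c, rfl⟩ := Ideal.Quotient.mk_surjective c
        change algebraMap A C (algebraMap Λ A c) = algebraMap Λb C (algebraMap Λ Λb c)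
        rw [← IsScalarTower.algebraMap_apply, ← IsScalarTower.algebraMap_apply] }
  have hpr : Function.Surjective pr := fun c => (hsurj c).imp' (Ideal.Quotient.mk I) fun a h => h
  have hker : IsNilpotent (RingHom.ker (pr : A ⧸ I →+* C)) := ⟨2, by
    rw [Ideal.zero_eq_bot, eq_bot_iff, sq, Ideal.mul_le]
    intro a ha b hb
    obtain ⟨a, rfl⟩ := Ideal.Quotient.mk_surjective a
    obtain ⟨b, rfl⟩ := Ideal.Quotient.mk_surjective b
    rw [Ideal.mem_bot, ← map_mul, Ideal.Quotient.eq_zero_iff_mem]
    exact Ideal.mem_sup_left (Ideal.mul_mem_mul ha hb)⟩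
  let s := Algebra.FormallySmooth.liftOfSurjective (AlgHom.id Λb C) pr hpr hker
  have hs : ∀ c, pr (s c) = c := fun c =>
    DFunLike.congr_fun (Algebra.FormallySmooth.comp_liftOfSurjective (AlgHom.id Λb C) pr hpr hker) c
  choose t ht using fun a : A => Ideal.Quotient.mk_surjective (I := I) (s (algebraMap A C a))
  have htJ : ∀ a, a - t a ∈ J := fun a => by
    have := congrArg pr (ht a)
    rw [hs] at this
    rw [RingHom.mem_ker, map_sub, sub_eq_zero]
    exact this.symm
  have hzero : ∀ j (hj : j ∈ J), j ∈ I → P.mkQ (J.toCotangent ⟨j, hj⟩) = 0 := fun j hj hjI => by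
    rw [Submodule.mkQ_apply, Submodule.Quotient.mk_eq_zero]
    obtain ⟨u, hu, v, hv, rfl⟩ := Submodule.mem_sup.mp hjI
    obtain ⟨a, rfl⟩ := Ideal.mem_span_singleton'.mp hv
    refine Submodule.mem_span_singleton.mpr ⟨a, ?_⟩
    rw [← map_smul, Ideal.toCotangent_eq, sq]
    simpa using neg_mem hu
  have heq : ∀ x y (hx : x ∈ J) (hy : y ∈ J), x - y ∈ I →
      P.mkQ (J.toCotangent ⟨x, hx⟩) = P.mkQ (J.toCotangent ⟨y, hy⟩) := fun x y hx hy h => by
    rw [← sub_eq_zero, ← map_sub, ← map_sub]
    exact hzero _ (sub_mem hx hy) h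
  have hmk : ∀ a b, Ideal.Quotient.mk I a = Ideal.Quotient.mk I b → a - b ∈ I := fun a b =>
    Ideal.Quotient.eq.mp
  let d : A →ₗ[Λ] J.Cotangent ⧸ P :=
    { toFun := fun a => P.mkQ (J.toCotangent ⟨a - t a, htJ a⟩)
      map_add' := fun a b => by
        rw [← map_add, ← map_add]
        refine heq _ _ _ (add_mem (htJ a) (htJ b)) ?_
        rw [show a + b - t (a + b) - (a - t a + (b - t b)) = (t a + t b) - t (a + b) by ring]
        exact hmk _ _ (by rw [map_add, ht, ht, ht, ← map_add, ← map_add])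
      map_smul' := fun c a => by
        simp only [RingHom.id_apply]
        rw [← algebraMap_smul A c (P.mkQ _), ← map_smul, ← map_smul]
        refine heq _ _ _ (J.mul_mem_left _ (htJ a)) ?_
        rw [Algebra.smul_def,
          show algebraMap Λ A c * a - t (algebraMap Λ A c * a) - algebraMap Λ A c * (a - t a) =
            algebraMap Λ A c * t a - t (algebraMap Λ A c * a) by ring]
        refine hmk _ _ ?_
        have e : algebraMap A C (algebraMap Λ A c) = algebraMap Λb C (algebraMap Λ Λb c) := by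
          rw [← IsScalarTower.algebraMap_apply, ← IsScalarTower.algebraMap_apply]
        rw [map_mul, ht, ht, map_mul, e, map_mul, AlgHom.commutes]
        rfl }
  let D : Derivation Λ A (J.Cotangent ⧸ P) := Derivation.mk' d fun a b => by
    change P.mkQ _ = a • P.mkQ _ + b • P.mkQ _
    rw [← map_smul, ← map_smul, ← map_smul, ← map_smul, ← map_add, ← map_add]
    refine heq _ _ _ (add_mem (J.mul_mem_left _ (htJ b)) (J.mul_mem_left _ (htJ a))) ?_
    rw [show a * b - t (a * b) - (a * (b - t b) + b * (a - t a)) =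
      -((a - t a) * (b - t b)) + (t a * t b - t (a * b)) by ring]
    exact add_mem (neg_mem (Ideal.mem_sup_left (Ideal.mul_mem_mul (htJ a) (htJ b))))
      (hmk _ _ (by rw [map_mul, ht, ht, ht, map_mul, map_mul]))
  intro x hx
  obtain ⟨⟨j, hj⟩, rfl⟩ := Ideal.toCotangent_surjective _ x
  rw [← Submodule.Quotient.mk_eq_zero, ← Submodule.mkQ_apply]
  have hDj : D j = P.mkQ (J.toCotangent ⟨j, hj⟩) := by
    refine heq _ _ _ hj ?_
    rw [sub_sub_cancel_left]
    refine neg_mem (Ideal.Quotient.eq_zero_iff_mem.mp ?_)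
    rw [ht, RingHom.mem_ker.mp hj, map_zero]
  rw [← hDj, ← D.liftKaehlerDifferential_comp_D]
  have hJsmul : ∀ a ∈ J, ∀ m : J.Cotangent ⧸ P, a • m = 0 := fun a ha m => by
    obtain ⟨m, rfl⟩ := P.mkQ_surjective m
    obtain ⟨⟨y, hy⟩, rfl⟩ := Ideal.toCotangent_surjective _ m
    rw [← map_smul, ← map_smul]
    exact hzero _ (J.mul_mem_left a hy) (Ideal.mem_sup_left (Ideal.mul_mem_mul ha hy))
  rw [LinearMap.mem_ker, kerCotangentToTensor_toCotangent] at hx
  have hex := rTensor_exact Ω[A⁄Λ] (f := J.subtype) (g := Algebra.linearMap A C) (fun a => by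
    simp [J, RingHom.mem_ker, Algebra.linearMap_apply]) hsurj
  obtain ⟨w, hw⟩ := (hex (1 ⊗ₜ KaehlerDifferential.D Λ A j)).mp (by simpa [Algebra.linearMap_apply] using hx)
  let ev : A ⊗[A] Ω[A⁄Λ] →ₗ[A] J.Cotangent ⧸ P :=
    D.liftKaehlerDifferential.comp (TensorProduct.lid A Ω[A⁄Λ]).toLinearMap
  have h0 : ∀ w, ev (J.subtype.rTensor _ w) = 0 := fun w => by
    induction w using TensorProduct.induction_on with
    | zero => simp
    | tmul a ω => simp [ev, hJsmul _ a.2]
    | add u v hu hv => rw [map_add, map_add, hu, hv, add_zero]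
  have h1 := h0 w
  rw [hw] at h1
  simpa [ev] using h1

end Groth.Agent.S4594
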