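import Groth.Statements.S4597
import Mathlib.AlgebraicGeometry.Morphisms.FlatDescent
import Mathlib.AlgebraicGeometry.Morphisms.QuasiSeparated
import Mathlib.AlgebraicGeometry.Geometrically.Irreducible
import Mathlib.AlgebraicGeometry.Geometrically.Connected
import Mathlib.AlgebraicGeometry.Limits
import Mathlib.AlgebraicGeometry.IdealSheaf.Basic
import Mathlib.AlgebraicGeometry.Noetherian
import Mathlib.Algebra.Category.Ring.FilteredColimits
import Mathlib.RingTheory.Regular.IsSMulRegular
import Mathlib.Algebra.Module.Submodule.Pointwise
import Groth.Agent.S4596

set_option autoImplicit false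
universe u
open AlgebraicGeometry CategoryTheory CategoryTheory.Limits
open EGA41

namespace Groth.Agent.S4597

open CategoryTheory CategoryTheory.Limits AlgebraicGeometry

/-- Let f : X → Y, g : Y' → Y and f' : X ×_Y Y' → Y' the base change. If g is quasi-compact surjective
and f' quasi-compact, f is quasi-compact; if g is surjective and f' dominant, f is dominant. -/
theorem result {X Y Y' : Scheme.{u}} (f : X ⟶ Y)
    (g : Y' ⟶ Y) [Surjective g] :
    (QuasiCompact g → QuasiCompact (pullback.snd f g) → QuasiCompact f) ∧
    (IsDominant (pullback.snd f g) → IsDominant f) := by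
  constructor
  · intro hg h
    have : QuasiCompact (pullback.fst f g ≫ f) := by rw [pullback.condition]; infer_instance
    have : Surjective (pullback.fst f g) := inferInstance
    exact Groth.Agent.S4596.result (pullback.fst f g) f
  · intro h
    refine ⟨Dense.mono (Set.range_comp_subset_range (pullback.fst f g) f) ?_⟩
    have hc : (f ∘ pullback.fst f g : _ → Y) = g ∘ pullback.snd f g := by
      ext z
      simp only [Function.comp_apply]
      rw [← Scheme.Hom.comp_apply, pullback.condition, Scheme.Hom.comp_apply]
    rw [hc]
    exact g.surjective.denseRange.comp h.denseRange g.continuous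

end Groth.Agent.S4597
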