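import Groth.Statements.S4598
import Mathlib.AlgebraicGeometry.Morphisms.FlatDescent
import Mathlib.AlgebraicGeometry.Morphisms.QuasiSeparated
import Mathlib.AlgebraicGeometry.Geometrically.Irreducible
import Mathlib.AlgebraicGeometry.Geometrically.Connected
import Mathlib.AlgebraicGeometry.Limits
import Mathlib.AlgebraicGeometry.IdealSheaf.Basic
import Mathlib.AlgebraicGeometry.Noetherian
import Mathlib.Algebra.Category.Ring.FilteredColimits
import Mathlib.RingTheory.Regular.IsSMulRegular
import Mathlib.Algebra.Module.Submodule.Pointwise
import Groth.Agent.S5132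

set_option autoImplicit false
set_option backward.isDefEq.respectTransparency.types false
universe u
open AlgebraicGeometry CategoryTheory CategoryTheory.Limits
open EGA41

namespace Groth.Agent.S4598

open CategoryTheory CategoryTheory.Limits AlgebraicGeometry

/-- If g : Y' → Y is quasi-compact and surjective and the base change X ×_Y Y' → Y' of f : X → Y is
quasi-separated, then f is quasi-separated. -/
theorem result {X Y Y' : Scheme.{u}} (f : X ⟶ Y)
    (g : Y' ⟶ Y) [QuasiCompact g] [Surjective g] [QuasiSeparated (pullback.snd f g)] :
    QuasiSeparated f := by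
  have : MorphismProperty.RespectsIso (@QuasiCompact : MorphismProperty Scheme.{u}) := MorphismProperty.IsStableUnderBaseChange.respectsIso
  have : MorphismProperty.IsStableUnderBaseChange (@Surjective ⊓ @QuasiCompact : MorphismProperty Scheme.{u}) := MorphismProperty.IsStableUnderBaseChange.inf
  have := Groth.Agent.S5132.result.{u}
  have : MorphismProperty.DescendsAlong @QuasiSeparated (@Surjective ⊓ @QuasiCompact : MorphismProperty Scheme.{u}) := by
    rw [quasiSeparated_eq_diagonal_is_quasiCompact]; infer_instance
  exact MorphismProperty.of_pullback_snd_of_descendsAlong (P := @QuasiSeparated) (Q := (@Surjective ⊓ @QuasiCompact : MorphismProperty Scheme.{u})) (f := f) (g := g) ⟨‹_›, ‹_›⟩ ‹_›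

end Groth.Agent.S4598
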