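import Groth.Statements.S4599
import Groth.Agent.Mor.Cancel

set_option autoImplicit false
universe u
open AlgebraicGeometry CategoryTheory CategoryTheory.Limits
open EGA41

namespace Groth.Agent.S4599

/-- The diagonal of a morphism locally of finite type is locally of finite presentation. -/
theorem result {Y Z : Scheme.{u}} (g : Y ⟶ Z)
    [LocallyOfFiniteType g] : LocallyOfFinitePresentation (pullback.diagonal g) := by
  exact Groth.Agent.Mor.Cancel.locallyOfFinitePresentation_diagonal g

end Groth.Agent.S4599
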