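import Groth.Statements.S4603
import Groth.Agent.Topo.QCImage
import Mathlib.AlgebraicGeometry.Morphisms.UniversallyOpen
import Mathlib.AlgebraicGeometry.Morphisms.FinitePresentation
import Mathlib.AlgebraicGeometry.Morphisms.Etale
import Mathlib.AlgebraicGeometry.Morphisms.Flat
import Mathlib.AlgebraicGeometry.Fiber
import Mathlib.AlgebraicGeometry.Noetherian
import Mathlib.AlgebraicGeometry.Stalk
import Mathlib.RingTheory.Spectrum.Prime.Topology
import Mathlib.AlgebraicGeometry.Morphisms.Separated

set_option autoImplicit false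
universe u
open AlgebraicGeometry CategoryTheory
open EGA41

namespace Groth.Agent.S4603
open Groth.Agent.Topo

/-- Let f : X → Y be quasi-compact. The following are equivalent: f is dominant; the fibre of f over
every maximal point of Y (a point with no proper generization, i.e. the generic point of an
irreducible component) is nonempty; every maximal point of Y is the image of a maximal point of X. -/
theorem result {X Y : Scheme.{u}} (f : X ⟶ Y) [QuasiCompact f] :
    [IsDominant f,
     ∀ y : Y, (∀ y' : Y, y' ⤳ y → y' = y) → y ∈ Set.range f.base,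
     ∀ y : Y, (∀ y' : Y, y' ⤳ y → y' = y) → ∃ x : X, (∀ x' : X, x' ⤳ x → x' = x) ∧ f.base x = y].TFAE := by
  tfae_have 1 → 2 := fun h y hy => by
    obtain ⟨x, hx⟩ := QCImage.exists_specializes_of_mem_closure_range f (h.denseRange y)
    exact ⟨x, hy _ hx⟩
  tfae_have 2 → 3 := fun h y hy => by
    obtain ⟨x, rfl⟩ := h y hy
    obtain ⟨η, hη, -, hmax⟩ := QCImage.exists_maximal_specializes x
    exact ⟨η, hmax, hy _ (hη.map f.continuous)⟩
  tfae_have 3 → 1 := fun h => ⟨fun y => by
    obtain ⟨η, hη, -, hmax⟩ := QCImage.exists_maximal_specializes y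
    obtain ⟨x, -, rfl⟩ := h η hmax
    exact closure_mono (Set.singleton_subset_iff.mpr (show _ ∈ Set.range f from ⟨x, rfl⟩)) hη.mem_closure⟩
  tfae_finish

end Groth.Agent.S4603
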