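import Groth.Statements.S4607
import Mathlib.AlgebraicGeometry.Morphisms.Integral
import Mathlib.AlgebraicGeometry.Morphisms.QuasiCompact
import Mathlib.AlgebraicGeometry.Geometrically.Irreducible
import Mathlib.AlgebraicGeometry.IdealSheaf.Basic
import Mathlib.RingTheory.Ideal.GoingUp
import Mathlib.Topology.KrullDimension
import Mathlib.RingTheory.KrullDimension.Basic
import Mathlib.RingTheory.Spectrum.Prime.RingHom
import Mathlib.RingTheory.TensorProduct.Maps

set_option autoImplicit false
universe u
open TensorProduct
open EGA41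

namespace Groth.Agent.S4607

/-- First assertion, case of two factors: for A-algebras A' and A'' the image of Spec(A' ⊗_A A'') in
Spec A is the intersection of the images of Spec A' and Spec A''. -/
theorem result {A A' A'' : Type u} [CommRing A] [CommRing A'] [CommRing A'']
    [Algebra A A'] [Algebra A A''] :
    Set.range (PrimeSpectrum.comap (algebraMap A (A' ⊗[A] A''))) =
      Set.range (PrimeSpectrum.comap (algebraMap A A')) ∩ Set.range (PrimeSpectrum.comap (algebraMap A A'')) := by
  ext p
  simp only [Set.mem_inter_iff, ← PrimeSpectrum.nontrivial_iff_mem_rangeComap]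
  let k := p.asIdeal.ResidueField
  let e : k ⊗[A] (A' ⊗[A] A'') ≃ₗ[A] (k ⊗[A] A') ⊗[k] (k ⊗[A] A'') :=
    (TensorProduct.assoc A k A' A'').symm ≪≫ₗ ((TensorProduct.AlgebraTensorModule.cancelBaseChange A k k (k ⊗[A] A') A'').symm.restrictScalars A)
  rw [e.toEquiv.nontrivial_congr]
  constructor
  · intro h
    refine ⟨?_, ?_⟩ <;>
    · by_contra hn
      rw [not_nontrivial_iff_subsingleton] at hn
      exact false_of_nontrivial_of_subsingleton ((k ⊗[A] A') ⊗[k] (k ⊗[A] A''))
  · rintro ⟨_, _⟩
    infer_instance

end Groth.Agent.S4607
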