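import Groth.Statements.S4608
import Mathlib.AlgebraicGeometry.Morphisms.FlatDescent
import Mathlib.AlgebraicGeometry.Morphisms.QuasiSeparated
import Mathlib.AlgebraicGeometry.Geometrically.Irreducible
import Mathlib.AlgebraicGeometry.Geometrically.Connected
import Mathlib.AlgebraicGeometry.Limits
import Mathlib.AlgebraicGeometry.IdealSheaf.Basic
import Mathlib.AlgebraicGeometry.Noetherian
import Mathlib.Algebra.Category.Ring.FilteredColimits
import Mathlib.RingTheory.Regular.IsSMulRegular
import Mathlib.Algebra.Module.Submodule.Pointwise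

set_option autoImplicit false
universe u
open AlgebraicGeometry CategoryTheory CategoryTheory.Limits
open EGA41

namespace Groth.Agent.S4608

open CategoryTheory CategoryTheory.Limits AlgebraicGeometry

/-- A morphism from a disjoint union X' ⨿ X'' → Y is quasi-compact if and only if its two components
are. -/
theorem result {X' X'' Y : Scheme.{u}} (f' : X' ⟶ Y) (f'' : X'' ⟶ Y) :
    QuasiCompact (coprod.desc f' f'') ↔ QuasiCompact f' ∧ QuasiCompact f'' := by
  let H := coprod.desc f' f''
  constructor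
  · intro h
    have key : ∀ {W : Scheme.{u}} (i : W ⟶ X' ⨿ X''), IsOpenImmersion i → IsClosed (Set.range i) → QuasiCompact (i ≫ H) := by
      intro W i hi hcl
      refine ⟨fun U hU hc => ?_⟩
      exact (Topology.IsClosedEmbedding.mk i.isOpenEmbedding.isEmbedding hcl).isCompact_preimage (h.1 U hU hc)
    have hc1 : IsClosed (Set.range (coprod.inl : X' ⟶ X' ⨿ X'')) := by
      rw [← isOpen_compl_iff]
      have : (Set.range (coprod.inl : X' ⟶ X' ⨿ X''))ᶜ = Set.range (coprod.inr : X'' ⟶ X' ⨿ X'') := (isCompl_range_inl_inr X' X'').compl_eq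
      rw [this]; exact (coprod.inr : X'' ⟶ X' ⨿ X'').isOpenEmbedding.isOpen_range
    have hc2 : IsClosed (Set.range (coprod.inr : X'' ⟶ X' ⨿ X'')) := by
      rw [← isOpen_compl_iff]
      have : (Set.range (coprod.inr : X'' ⟶ X' ⨿ X''))ᶜ = Set.range (coprod.inl : X' ⟶ X' ⨿ X'') := (isCompl_range_inl_inr X' X'').symm.compl_eq
      rw [this]; exact (coprod.inl : X' ⟶ X' ⨿ X'').isOpenEmbedding.isOpen_range
    refine ⟨?_, ?_⟩
    · have := key coprod.inl inferInstance hc1; rwa [coprod.inl_desc] at this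
    · have := key coprod.inr inferInstance hc2; rwa [coprod.inr_desc] at this
  · rintro ⟨h1, h2⟩
    refine ⟨fun U hU hc => ?_⟩
    have : (H : (X' ⨿ X'' : Scheme.{u}) → Y) ⁻¹' U = (coprod.inl : X' ⟶ X' ⨿ X'') '' (f' ⁻¹' U) ∪ (coprod.inr : X'' ⟶ X' ⨿ X'') '' (f'' ⁻¹' U) := by
      ext z
      obtain ⟨x, rfl⟩ := (coprodMk X' X'').surjective z
      have e1 : ∀ a, H ((coprod.inl : X' ⟶ X' ⨿ X'') a) = f' a := fun a => by rw [← Scheme.Hom.comp_apply, coprod.inl_desc]
      have e2 : ∀ a, H ((coprod.inr : X'' ⟶ X' ⨿ X'') a) = f'' a := fun a => by rw [← Scheme.Hom.comp_apply, coprod.inr_desc]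
      rcases x with a | a
      · simp [e1, (coprod.inl : X' ⟶ X' ⨿ X'').injective.eq_iff, (AlgebraicGeometry.inr_ne_inl _ _ _ _)]
      · simp [e2, (coprod.inr : X'' ⟶ X' ⨿ X'').injective.eq_iff, (AlgebraicGeometry.inl_ne_inr _ _ _ _)]
    rw [this]
    exact ((h1.1 U hU hc).image (Scheme.Hom.continuous _)).union ((h2.1 U hU hc).image (Scheme.Hom.continuous _))

end Groth.Agent.S4608
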