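import Groth.Statements.S4609
import Mathlib
-- import your own Groth.Agent.* helpers here

set_option autoImplicit false
universe u
open AlgebraicGeometry CategoryTheory CategoryTheory.Limits
open EGA41

namespace Groth.Agent.S4609

/-- A morphism from a disjoint union X' ⨿ X'' → Y is quasi-separated if and only if its two components
are. -/
theorem result {X' X'' Y : Scheme.{u}} (f' : X' ⟶ Y) (f'' : X'' ⟶ Y) :
    QuasiSeparated (coprod.desc f' f'') ↔ QuasiSeparated f' ∧ QuasiSeparated f'' := by
  constructor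
  · intro h
    have e1 : f' = coprod.inl ≫ coprod.desc f' f'' := (coprod.inl_desc _ _).symm
    have e2 : f'' = coprod.inr ≫ coprod.desc f' f'' := (coprod.inr_desc _ _).symm
    exact ⟨by rw [e1]; infer_instance, by rw [e2]; infer_instance⟩
  · rintro ⟨h1, h2⟩
    rw [HasAffineProperty.eq_targetAffineLocally @QuasiSeparated]
    intro W
    change QuasiSeparatedSpace ↥((coprod.desc f' f'') ⁻¹ᵁ W.1)
    refine (isQuasiSeparated_iff_quasiSeparatedSpace _ ((coprod.desc f' f'') ⁻¹ᵁ W.1).2).mp ?_
    have hcl : IsCompl (Set.range (coprod.inl : X' ⟶ X' ⨿ X'').base) (Set.range (coprod.inr : X'' ⟶ X' ⨿ X'').base) := isCompl_range_inl_inr X' X''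
    intro U V hU hUo hUc hV hVo hVc
    have hin : ∀ {Z : Scheme.{u}} (j : Z ⟶ X' ⨿ X'') [IsOpenImmersion j], IsClosed (Set.range j.base) →
        QuasiSeparated (j ≫ coprod.desc f' f'') → IsCompact (U ∩ V ∩ Set.range j.base) := by
      intro Z j _ hcl hq
      have hce : Topology.IsClosedEmbedding j.base := ⟨j.isOpenEmbedding.isEmbedding, hcl⟩
      have hsq := (j ≫ coprod.desc f' f'').isQuasiSeparated_preimage W.2.isQuasiSeparated
      have hc := hsq (j.base ⁻¹' U) (j.base ⁻¹' V) (fun z hz => hU hz) (hUo.preimage j.base.hom.2) (hce.isCompact_preimage hUc)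
        (fun z hz => hV hz) (hVo.preimage j.base.hom.2) (hce.isCompact_preimage hVc)
      have := hc.image hce.continuous
      rw [← Set.preimage_inter, Set.image_preimage_eq_inter_range] at this
      exact this
    have e : U ∩ V = (U ∩ V ∩ Set.range (coprod.inl : X' ⟶ X' ⨿ X'').base) ∪ (U ∩ V ∩ Set.range (coprod.inr : X'' ⟶ X' ⨿ X'').base) := by
      rw [← Set.inter_union_distrib_left]; refine (Set.inter_univ _).symm.trans ?_; congr 1; exact hcl.sup_eq_top.symm
    rw [e]
    refine (hin _ ?_ ?_).union (hin _ ?_ ?_)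
    · rw [hcl.eq_compl]; exact (coprod.inr : X'' ⟶ X' ⨿ X'').isOpenEmbedding.isOpen_range.isClosed_compl
    · rw [coprod.inl_desc]; exact h1
    · rw [hcl.symm.eq_compl]; exact (coprod.inl : X' ⟶ X' ⨿ X'').isOpenEmbedding.isOpen_range.isClosed_compl
    · rw [coprod.inr_desc]; exact h2

end Groth.Agent.S4609
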