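import Groth.Statements.S4611
import Mathlib.RingTheory.EssentialFiniteness
import Mathlib.RingTheory.Localization.AtPrime.Basic

set_option autoImplicit false
set_option linter.style.haveILetI false
universe u
open EGA41

namespace Groth.Agent.S4611

/-- A local algebra essentially of finite type over a ring A is A-isomorphic to a quotient of a
localization A[T_1, …, T_n]_q of a polynomial algebra at a prime ideal q; stated as the existence of
a surjective A-algebra map from such a localization. -/
theorem result {A B : Type u} [CommRing A]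
    [CommRing B] [IsLocalRing B] [Algebra A B] [Algebra.EssFiniteType A B] :
    ∃ (n : ℕ) (q : Ideal (MvPolynomial (Fin n) A)) (_ : q.IsPrime)
      (φ : Localization.AtPrime q →ₐ[A] B), Function.Surjective φ := by
  obtain ⟨σ, hσ⟩ := (Algebra.essFiniteType_iff A B).mp ‹Algebra.EssFiniteType A B›
  classical
  let e := σ.equivFin
  let ψ : MvPolynomial (Fin σ.card) A →ₐ[A] B := MvPolynomial.aeval fun i => ((e.symm i : σ) : B)
  have hrange : Algebra.adjoin A (σ : Set B) ≤ ψ.range := by
    refine Algebra.adjoin_le fun b hb => ⟨MvPolynomial.X (e ⟨b, hb⟩), ?_⟩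
    show MvPolynomial.aeval _ (MvPolynomial.X (e ⟨b, hb⟩)) = b
    rw [MvPolynomial.aeval_X, Equiv.symm_apply_apply]
  let q := (IsLocalRing.maximalIdeal B).comap ψ.toRingHom
  haveI hq : q.IsPrime := Ideal.IsPrime.comap _
  have hu : ∀ y : q.primeCompl, IsUnit (ψ y) := fun y => by
    by_contra h
    exact y.2 h
  refine ⟨σ.card, q, hq, IsLocalization.liftAlgHom (M := q.primeCompl) (f := ψ) hu, fun b => ?_⟩
  obtain ⟨t, ht, htu, hbt⟩ := hσ b
  obtain ⟨P, (hP : ψ P = b * t)⟩ := hrange hbt
  obtain ⟨D, (hD : ψ D = t)⟩ := hrange ht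
  have hDq : D ∉ q := fun h => by
    have h' : ψ D ∈ IsLocalRing.maximalIdeal B := h
    rw [hD] at h'
    exact h' htu
  refine ⟨IsLocalization.mk' _ P (⟨D, hDq⟩ : q.primeCompl), ?_⟩
  rw [IsLocalization.liftAlgHom_apply, IsLocalization.lift_mk'_spec]
  show ψ P = ψ D * b
  rw [hP, hD, mul_comm]

end Groth.Agent.S4611
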