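import Groth.Statements.S4622
import Groth.Agent.Misc9.RadicialExt
import Mathlib.FieldTheory.PurelyInseparable.Basic
import Mathlib.RingTheory.DiscreteValuationRing.Basic
-- import your own Groth.Agent.* helpers here

set_option autoImplicit false
open CategoryTheory AlgebraicGeometry
universe u
open FBase

namespace Groth.Agent.S4622

/-- Let k be a separably closed field, k' an algebraic closure of k and X a scheme over k. Then the
projection X ⊗_k k' → X is a universal homeomorphism. -/
theorem result {k k' : Type u} [Field k] [IsSepClosed k] [Field k'] [Algebra k k']
    [IsAlgClosure k k'] {X : Scheme.{u}} (f : X ⟶ Spec (CommRingCat.of k)) :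
    FlatMor.IsUnivHomeo (FBase.bcπ f k') := by
  have h : FlatMor.IsUnivHomeo (Spec.map (CommRingCat.ofHom (algebraMap k k'))) := by
    have hdisj : ringExpChar k = 1 ∨ ((ringExpChar k).Prime ∧ (ringExpChar k : k) = 0) := by
      rcases expChar_is_prime_or_one k (ringExpChar k) with hp | h1
      · have hc : ringExpChar k = ringChar k := by
          rcases max_choice (ringChar k) 1 with h | h
          · exact h
          · exact absurd (show (ringExpChar k).Prime from hp) (by rw [ringExpChar, h]; exact Nat.not_prime_one)
        refine Or.inr ⟨hp, ?_⟩
        rw [hc]; exact ringChar.Nat.cast_ringChar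
      · exact Or.inl h1
    refine Groth.Agent.Misc9.RadicialExt.univHomeo_of_pow _ (ringExpChar k) hdisj (algebraMap k k').injective fun b ↦ ?_
    have : Algebra.IsAlgebraic k k' := IsAlgClosure.isAlgebraic
    exact IsPurelyInseparable.pow_mem k (ringExpChar k) b
  exact MorphismProperty.of_isPullback (P := MorphismProperty.universally (topologically fun f => IsHomeomorph f))
    (IsPullback.of_hasPullback f (Spec.map (CommRingCat.ofHom (algebraMap k k')))).flip h

end Groth.Agent.S4622
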