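import Groth.Statements.S4623
import Mathlib.AlgebraicGeometry.Morphisms.Integral
import Mathlib.AlgebraicGeometry.Morphisms.QuasiCompact
import Mathlib.AlgebraicGeometry.Geometrically.Irreducible
import Mathlib.AlgebraicGeometry.IdealSheaf.Basic
import Mathlib.RingTheory.Ideal.GoingUp
import Mathlib.Topology.KrullDimension
import Mathlib.RingTheory.KrullDimension.Basic
import Mathlib.RingTheory.Spectrum.Prime.RingHom
import Mathlib.RingTheory.TensorProduct.Maps

set_option autoImplicit false
open CategoryTheory AlgebraicGeometry
universe u
open FBase

namespace Groth.Agent.S4623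

open CategoryTheory.Limits

/-- Let h : X → Y be a surjective morphism of schemes over a field k. If X is geometrically irreducible
over k, then Y is geometrically irreducible over k. -/
theorem result {k : Type u} [Field k] {X Y : Scheme.{u}}
    (f : X ⟶ Spec (CommRingCat.of k)) (g : Y ⟶ Spec (CommRingCat.of k)) (h : X ⟶ Y) (w : h ≫ g = f)
    [Surjective h] [GeometricallyIrreducible f] : GeometricallyIrreducible g := by
  rw [geometricallyIrreducible_iff]
  intro K _ y Z fst snd hZ
  let q : pullback h fst ⟶ Z := pullback.snd _ _
  have : IrreducibleSpace ↥(pullback h fst) := by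
    refine GeometricallyIrreducible.geometrically_irreducibleSpace (f := f) y (pullback.fst h fst) (q ≫ snd) ?_
    rw [← w]
    exact (IsPullback.of_hasPullback h fst).paste_vert hZ
  rw [irreducibleSpace_def]
  rw [Set.top_eq_univ, ← Set.image_univ_of_surjective q.surjective]
  exact (IrreducibleSpace.isIrreducible_univ _).image _ q.continuous.continuousOn

end Groth.Agent.S4623
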