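import Groth.Statements.S4624
import Mathlib.AlgebraicGeometry.Morphisms.FlatDescent
import Mathlib.AlgebraicGeometry.Morphisms.QuasiSeparated
import Mathlib.AlgebraicGeometry.Geometrically.Irreducible
import Mathlib.AlgebraicGeometry.Geometrically.Connected
import Mathlib.AlgebraicGeometry.Limits
import Mathlib.AlgebraicGeometry.IdealSheaf.Basic
import Mathlib.AlgebraicGeometry.Noetherian
import Mathlib.Algebra.Category.Ring.FilteredColimits
import Mathlib.RingTheory.Regular.IsSMulRegular
import Mathlib.Algebra.Module.Submodule.Pointwise

set_option autoImplicit false
open CategoryTheory AlgebraicGeometry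
universe u
open FBase

namespace Groth.Agent.S4624

open CategoryTheory CategoryTheory.Limits AlgebraicGeometry

/-- Let h : X → Y be a surjective morphism of schemes over a field k. If X is geometrically connected
over k, then Y is geometrically connected over k. -/
theorem result {k : Type u} [Field k] {X Y : Scheme.{u}}
    (f : X ⟶ Spec (CommRingCat.of k)) (g : Y ⟶ Spec (CommRingCat.of k)) (h : X ⟶ Y) (w : h ≫ g = f)
    [Surjective h] [GeometricallyConnected f] : GeometricallyConnected g := by
  rw [geometricallyConnected_iff]
  intro K _ y Z fst snd hZ
  let q : pullback h fst ⟶ Z := pullback.snd _ _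
  have : ConnectedSpace ↥(pullback h fst) := by
    refine GeometricallyConnected.geometrically_connectedSpace (f := f) y (pullback.fst h fst) (q ≫ snd) ?_
    rw [← w]
    exact (IsPullback.of_hasPullback h fst).paste_vert hZ
  exact q.surjective.connectedSpace q.continuous

end Groth.Agent.S4624
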