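import Groth.Statements.S4628
import Mathlib.AlgebraicGeometry.Geometrically.Reduced
import Mathlib.LinearAlgebra.TensorProduct.Finiteness
import Mathlib.RingTheory.Flat.Basic

set_option autoImplicit false
open CategoryTheory AlgebraicGeometry
universe u
open FBase

namespace Groth.Agent.S4628

section helpers

open CategoryTheory CategoryTheory.Limits AlgebraicGeometry TensorProduct

theorem isReduced_tensor_of_fg (k B A : Type u) [Field k] [CommRing B] [CommRing A] [Algebra k B] [Algebra k A]
    (h : ∀ A₀ : Subalgebra k A, A₀.FG → _root_.IsReduced (B ⊗[k] A₀)) : _root_.IsReduced (B ⊗[k] A) := by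
  classical
  refine ⟨fun z hz => ?_⟩
  obtain ⟨n, hn⟩ := hz
  obtain ⟨T, hT⟩ := TensorProduct.exists_finset (R := k) z
  let A₀ := Algebra.adjoin k ((T.image Prod.snd : Finset A) : Set A)
  let m := Algebra.TensorProduct.map (AlgHom.id k B) A₀.val
  have hm : Function.Injective m :=
    Module.Flat.lTensor_preserves_injective_linearMap A₀.val.toLinearMap Subtype.val_injective
  obtain ⟨z₀, rfl⟩ : z ∈ m.range := by
    rw [hT]
    refine Subalgebra.sum_mem _ fun p hp => ?_
    exact ⟨p.1 ⊗ₜ ⟨p.2, Algebra.subset_adjoin (Finset.mem_image.2 ⟨p, hp, rfl⟩)⟩, by simp [m]⟩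
  haveI := h A₀ (Subalgebra.fg_adjoin_finset _)
  have h0 : z₀ = 0 := IsNilpotent.eq_zero ⟨n, hm ((map_pow m z₀ n).trans (hn.trans (map_zero m).symm))⟩
  rw [h0]
  exact map_zero m

theorem isReduced_pullback_affine {k : Type u} [Field k] {X : Scheme.{u}} (f : X ⟶ Spec (CommRingCat.of k))
    [GeometricallyReduced f] {B : CommRingCat.{u}} (i : Spec B ⟶ X) [IsOpenImmersion i]
    (A : CommRingCat.{u}) [AlgebraicGeometry.IsReduced (Spec A)] (g : Spec A ⟶ Spec (CommRingCat.of k)) :
    AlgebraicGeometry.IsReduced (pullback (i ≫ f) g) := by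
  obtain ⟨φ, hφ⟩ := Spec.map_surjective (i ≫ f)
  obtain ⟨ψ, rfl⟩ := Spec.map_surjective g
  letI : Algebra k B := φ.hom.toAlgebra
  letI : Algebra k A := ψ.hom.toAlgebra
  haveI : _root_.IsReduced A := (affine_isReduced_iff A).mp ‹_›
  haveI : _root_.IsReduced (B ⊗[k] A) := by
    refine isReduced_tensor_of_fg k B A fun A₀ hA₀ => ?_
    haveI : Algebra.FiniteType k A₀ := ⟨A₀.fg_top.2 hA₀⟩
    haveI : IsNoetherianRing A₀ := Algebra.FiniteType.isNoetherianRing k A₀
    haveI : _root_.IsReduced A₀ := isReduced_of_injective A₀.val Subtype.val_injective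
    let g₀ : Spec (CommRingCat.of A₀) ⟶ Spec (CommRingCat.of k) := Spec.map (CommRingCat.ofHom (algebraMap k A₀))
    haveI : Flat f := inferInstance
    haveI : AlgebraicGeometry.IsReduced (pullback f g₀) := inferInstance
    haveI : IsOpenImmersion (pullback.map (i ≫ f) g₀ f g₀ i (𝟙 _) (𝟙 _) (by simp) (by simp)) :=
      MorphismProperty.pullback_map (P := @IsOpenImmersion.{u}) (i₁ := i) (i₂ := 𝟙 _) (by assumption)
        (by infer_instance) (by simp) (by simp)
    haveI h1 : AlgebraicGeometry.IsReduced (pullback (i ≫ f) g₀) :=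
      isReduced_of_isOpenImmersion (pullback.map (i ≫ f) g₀ f g₀ i (𝟙 _) (𝟙 _) _ _)
    rw [← hφ] at h1
    exact (affine_isReduced_iff (CommRingCat.of (B ⊗[k] A₀))).mp (isReduced_of_isOpenImmersion (pullbackSpecIso k B A₀).inv)
  rw [← hφ]
  exact isReduced_of_isOpenImmersion (pullbackSpecIso k B A).hom

end helpers

open CategoryTheory.Limits in
/-- Let X be a scheme over a field k which is geometrically reduced (X ⊗_k K is reduced for every
extension field K of k), and let S be any reduced scheme over k. Then the product X ×_k S is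
reduced. (No Noetherian or finiteness assumption on S.) -/
theorem result {k : Type u} [Field k] {X S : Scheme.{u}}
    (f : X ⟶ Spec (CommRingCat.of k)) (g : S ⟶ Spec (CommRingCat.of k)) [GeometricallyReduced f]
    [AlgebraicGeometry.IsReduced S] : AlgebraicGeometry.IsReduced (pullback f g) := by
  apply +allowSynthFailures @AlgebraicGeometry.IsReduced.of_openCover
    (𝒰 := Scheme.Pullback.openCoverOfLeftRight X.affineCover S.affineCover f g)
  rintro ⟨i, j⟩
  haveI := isReduced_of_isOpenImmersion (S.affineCover.f j)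
  haveI hi : IsOpenImmersion (X.affineCover.f i) := X.affineCover.map_prop i
  exact @isReduced_pullback_affine k _ X f _ _ (X.affineCover.f i) hi _ ‹_› (S.affineCover.f j ≫ g)

end Groth.Agent.S4628
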