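import Groth.Statements.S4638
import Groth.Agent.ModStalk.AssPoint

set_option autoImplicit false
set_option backward.isDefEq.respectTransparency false
set_option linter.style.haveILetI false
open CategoryTheory AlgebraicGeometry
universe u
open AssSch

namespace Groth.Agent.S4638

/-- Let X be a locally Noetherian scheme, F a quasi-coherent O_X-module and f a global section of O_X.
Then f is F-regular, i.e. multiplication by the germ of f is injective on every stalk of F, if and
only if every associated point of F lies in the open subset X_f where f does not vanish. -/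
theorem result {X : Scheme.{u}} [IsLocallyNoetherian X] (F : X.Modules)
    (hF : Coh.IsQCoh F) (f : Γ(X, ⊤)) :
    (∀ x : X, IsSMulRegular ↑(F.presheaf.stalk x) (X.presheaf.germ ⊤ x trivial f)) ↔
      AssSch.Ass F ⊆ (X.basicOpen f : Set ↥X) := by
  haveI : F.IsQuasicoherent := hF
  constructor
  · intro h x hx
    show x ∈ X.basicOpen f
    rw [Scheme.mem_basicOpen X f x trivial]
    by_contra hnu
    obtain ⟨hp, m, hm⟩ := isAssociatedPrime_iff.mp (hx : Curv2.IsAssPoint F x)
    have h1 : X.presheaf.germ ⊤ x trivial f ∈ IsLocalRing.maximalIdeal (X.presheaf.stalk x) := hnu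
    rw [hm, Submodule.mem_colon_singleton, Submodule.mem_bot] at h1
    have h2 : m = 0 := h x (show _ • m = _ • (0 : F.presheaf.stalk x) by rw [smul_zero]; exact h1)
    refine hp.ne_top ?_
    rw [hm, Ideal.eq_top_iff_one, Submodule.mem_colon_singleton, h2, smul_zero]
    exact zero_mem _
  · intro h x
    rw [isSMulRegular_iff_right_eq_zero_of_smul]
    intro v hv
    by_contra hv0
    obtain ⟨W, hxW, t, rfl⟩ := F.presheaf.exists_germ_eq (x := x) v
    rw [← X.presheaf.germ_res_apply (homOfLE (le_top : W ≤ ⊤)) x hxW f,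
      ← Groth.Agent.ModStalk.germ_smul] at hv
    obtain ⟨W', hxW', i₁, i₂, hW'⟩ := F.presheaf.germ_eq x hxW hxW _ 0 (hv.trans (map_zero _).symm)
    rw [map_zero] at hW'
    obtain ⟨_, ⟨V, hV, rfl⟩, hxV, hVW⟩ := X.isBasis_affineOpens.exists_subset_of_mem_open hxW' W'.isOpen
    replace hVW : V ≤ W' := hVW
    let j : V ⟶ W := homOfLE (hVW.trans i₁.le)
    obtain ⟨y, hyx, hy0, hyw⟩ := Groth.Agent.ModStalk.exists_isWeakAssPoint hV F ⟨x, hxV⟩
      (F.presheaf.map j.op t) (by rw [TopCat.Presheaf.germ_res_apply]; exact hv0)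
    have hyA : y.1 ∈ X.basicOpen f := h ((Groth.Agent.ModStalk.isAssPoint_iff_isWeakAssPoint F y.1).mpr hyw)
    rw [Scheme.mem_basicOpen X f y.1 trivial] at hyA
    rw [TopCat.Presheaf.germ_res_apply] at hy0
    refine hy0 (hyA.smul_eq_zero.mp ?_)
    rw [← X.presheaf.germ_res_apply (homOfLE (le_top : W ≤ ⊤)) y.1 (j.le y.2) f,
      ← Groth.Agent.ModStalk.germ_smul, ← F.presheaf.germ_res_apply i₁ y.1 (hVW y.2), hW', map_zero]

end Groth.Agent.S4638
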