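import Groth.Statements.S4639
import Groth.Agent.Fpqc.Descent
import Groth.Agent.Fpqc.Embedding
import Groth.Agent.UnivHomeo.Basic
import Groth.Agent.Cons.Basic
import Groth.Agent.S2489
import Groth.Prelude.Def_Mor2
import Mathlib.AlgebraicGeometry.Morphisms.FlatRank
import Mathlib.AlgebraicGeometry.Sites.Fpqc
import Mathlib.RingTheory.RingHom.Flat

set_option autoImplicit false
open CategoryTheory AlgebraicGeometry
universe u
open FDesc

namespace Groth.Agent.S4639
open CategoryTheory CategoryTheory.Limits AlgebraicGeometry MorphismProperty TopologicalSpace
open Groth.Agent.Fpqc.Descent Groth.Agent.Cons.Basic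
set_option backward.isDefEq.respectTransparency.types false

/-- The property of being quasi-compact and universally bicontinuous (every base change is a
homeomorphism onto its image) descends along a surjective, flat and quasi-compact base change. -/
theorem result :
    MorphismProperty.DescendsAlong
      (MorphismProperty.universally (topologically (fun f => Topology.IsEmbedding f)) ⊓ @QuasiCompact : MorphismProperty Scheme.{u})
      (@Surjective ⊓ @Flat ⊓ @QuasiCompact : MorphismProperty Scheme.{u}) := by
  have := Groth.Agent.S0079.result.{u}
  have : (MorphismProperty.universally (topologically (fun f => Topology.IsEmbedding f)) : MorphismProperty Scheme.{u}).RespectsIso := universally_respectsIso _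
  refine DescendsAlong.mk' fun {X Y Z f g _} hf hg => ?_
  have : QuasiCompact g := of_pullback_fst_of_descendsAlong (Q := (@Surjective ⊓ @Flat ⊓ @QuasiCompact : MorphismProperty Scheme.{u})) hf hg.2
  refine ⟨fun P T i₁ i₂ g' hsq => ?_, this⟩
  have := hf.1.1
  have := hf.1.2
  have hsq' : IsPullback g' i₁ i₂ g := hsq
  have : QuasiCompact g' := MorphismProperty.of_isPullback (P := @QuasiCompact) hsq'.flip ‹QuasiCompact g›
  refine Groth.Agent.Fpqc.Embedding.isEmbedding_of_pullback (pullback.snd f i₂) g' ?_
  have hbig := (IsPullback.of_hasPullback (pullback.snd f i₂) g').paste_vert hsq'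
  have hl : (pullback.snd (pullback.snd f i₂) g' ≫ i₁) ≫ g =
      (pullback.fst (pullback.snd f i₂) g' ≫ pullback.fst f i₂) ≫ f := by
    rw [Category.assoc, Category.assoc, ← hsq'.w, ← Category.assoc, ← pullback.condition,
      Category.assoc, pullback.condition]
  let l := pullback.lift _ _ hl.symm
  have H : IsPullback (pullback.fst (pullback.snd f i₂) g') l (pullback.fst f i₂) (pullback.fst f g) := by
    refine IsPullback.of_bot ?_ (pullback.lift_fst _ _ _).symm (IsPullback.of_hasPullback f g)
    rw [pullback.lift_snd]
    have h2 := hbig
    rw [← pullback.condition] at h2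
    exact h2
  exact hg.1 _ _ _ H

end Groth.Agent.S4639
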