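import Groth.Statements.S4640
import Mathlib.RingTheory.Flat.TorsionFree
import Mathlib.RingTheory.Localization.BaseChange

set_option autoImplicit false
set_option linter.style.haveILetI false
universe u
open FDesc

namespace Groth.Agent.S4640

open TensorProduct in
/-- Let A be a Dedekind domain with fraction field K, M an A-module and P' a K-submodule of K ⊗_A M. Let
φ : M → (K ⊗_A M)/P' be m ↦ class of 1 ⊗ m. Then a submodule Q of M equals ker φ if and only if M/Q
is a flat A-module and the kernel of the induced surjection K ⊗_A M → K ⊗_A (M/Q) is P'. Thus M/ker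
φ is the unique flat quotient of M with generic fibre (K ⊗_A M)/P'. (The published statement takes A
Noetherian, regular and of dimension 1; a field is allowed here, where the statement is immediate.) -/
theorem result {A K : Type u} [CommRing A] [IsDedekindDomain A] [Field K]
    [Algebra A K] [IsFractionRing A K] {M : Type u} [AddCommGroup M] [Module A M]
    (P' : Submodule K (K ⊗[A] M)) (Q : Submodule A M) :
    Q = LinearMap.ker ((P'.restrictScalars A).mkQ ∘ₗ TensorProduct.mk A K M 1) ↔
      (Module.Flat A (M ⧸ Q) ∧ LinearMap.ker (Q.mkQ.baseChange K) = P') := by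
  let ι := TensorProduct.mk A K M 1
  let ιQ := TensorProduct.mk A K (M ⧸ Q) 1
  have hsc : ∀ (s : nonZeroDivisors A) {N : Submodule K (K ⊗[A] M)} {y : K ⊗[A] M},
      (s : A) • y ∈ N → y ∈ N := by
    intro s N y h
    rw [← algebraMap_smul K] at h
    exact (Submodule.smul_mem_iff_of_isUnit _ (IsLocalization.map_units K s)).mp h
  have hbc : ∀ m, Q.mkQ.baseChange K (ι m) = ιQ (Q.mkQ m) := fun m => rfl
  constructor
  · intro hQ
    have hQ' : ∀ m, m ∈ Q ↔ ι m ∈ P' := fun m => by
      rw [hQ, LinearMap.mem_ker, LinearMap.comp_apply, Submodule.mkQ_apply, Submodule.Quotient.mk_eq_zero]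
      rfl
    refine ⟨?_, ?_⟩
    · rw [IsDedekindDomain.flat_iff_torsion_eq_bot, eq_bot_iff]
      rintro z ⟨s, hs⟩
      obtain ⟨m, rfl⟩ := Q.mkQ_surjective z
      rw [Submonoid.smul_def, ← map_smul, Submodule.mkQ_apply, Submodule.Quotient.mk_eq_zero,
        hQ', map_smul] at hs
      rw [Submodule.mem_bot, Submodule.mkQ_apply, Submodule.Quotient.mk_eq_zero, hQ']
      exact hsc s hs
    · refine Submodule.ext fun y => ?_
      obtain ⟨⟨m, s⟩, hs⟩ := IsLocalizedModule.surj (nonZeroDivisors A) ι y
      rw [LinearMap.mem_ker]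
      constructor
      · intro hy
        have h1 : ιQ (Q.mkQ m) = 0 := by
          rw [← hbc, ← hs, Submonoid.smul_def, LinearMap.map_smul_of_tower, hy, smul_zero]
        obtain ⟨t, ht⟩ := (IsLocalizedModule.eq_zero_iff (nonZeroDivisors A) (f := ιQ)).mp h1
        rw [Submonoid.smul_def, ← map_smul, Submodule.mkQ_apply, Submodule.Quotient.mk_eq_zero, hQ',
          map_smul] at ht
        have h2 := hsc t ht
        rw [← hs, Submonoid.smul_def] at h2
        exact hsc s h2
      · intro hy
        have h1 : m ∈ Q := by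
          rw [hQ', ← hs, Submonoid.smul_def, ← algebraMap_smul K]
          exact P'.smul_mem _ hy
        have h2 : (s : A) • Q.mkQ.baseChange K y = 0 := by
          rw [← LinearMap.map_smul_of_tower, ← Submonoid.smul_def, hs, hbc, Submodule.mkQ_apply,
            (Submodule.Quotient.mk_eq_zero Q).mpr h1, map_zero]
        rw [← algebraMap_smul K, (IsLocalization.map_units K s).smul_eq_zero] at h2
        exact h2
  · rintro ⟨hflat, hker⟩
    ext m
    rw [LinearMap.mem_ker, LinearMap.comp_apply, Submodule.mkQ_apply, Submodule.Quotient.mk_eq_zero,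
      Submodule.restrictScalars_mem, ← hker, LinearMap.mem_ker, show Q.mkQ.baseChange K (ι m) = ιQ (Q.mkQ m) from rfl]
    constructor
    · intro hm
      rw [Submodule.mkQ_apply, (Submodule.Quotient.mk_eq_zero Q).mpr hm, map_zero]
    · intro hm
      obtain ⟨t, ht⟩ := (IsLocalizedModule.eq_zero_iff (nonZeroDivisors A) (f := ιQ)).mp hm
      have h1 : Q.mkQ m ∈ Submodule.torsion A (M ⧸ Q) := ⟨t, ht⟩
      rw [IsDedekindDomain.flat_iff_torsion_eq_bot.mp hflat, Submodule.mem_bot,
        Submodule.mkQ_apply, Submodule.Quotient.mk_eq_zero] at h1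
      exact h1

end Groth.Agent.S4640
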