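import Groth.Statements.S4641
import Groth.Agent.ModStalk.AssGen
import Mathlib.RingTheory.Flat.TorsionFree

set_option autoImplicit false
set_option backward.isDefEq.respectTransparency false
set_option linter.style.haveILetI false
open CategoryTheory AlgebraicGeometry
universe u
open AssSch

namespace Groth.Agent.S4641

/-- Let f : X → Y be a morphism of locally Noetherian schemes such that Y has no embedded associated
points, and let F be a quasi-coherent O_X-module which is flat over Y. Then for every associated
point x of F, f(x) is a maximal point of Y (every point of Y specialising to f(x) equals f(x)). (The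
published statement assumes only Y locally Noetherian; X is taken locally Noetherian here so that
associated points are those whose maximal ideal is an annihilator.) -/
theorem result {X Y : Scheme.{u}} (f : X ⟶ Y) [IsLocallyNoetherian X]
    [IsLocallyNoetherian Y] (hY : AssSch.NoEmbedded (Coh.structureModule Y)) (F : X.Modules) (hF : Coh.IsQCoh F)
    (hfl : FlatMod.IsFlatOver f F) (x : X) (hx : x ∈ AssSch.Ass F) (y : Y) (hy : y ⤳ f x) : y = f x := by
  haveI : F.IsQuasicoherent := hF
  haveI : (Coh.structureModule Y).IsQuasicoherent := inferInstance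
  let A := Y.presheaf.stalk (f x)
  have hfx : Curv2.IsAssPoint (Coh.structureModule Y) (f x) := by
    rw [Groth.Agent.ModStalk.isAssPoint_unit_iff]
    have hsub : (IsLocalRing.maximalIdeal A : Set A) ⊆ ⋃ p ∈ associatedPrimes A A, (p : Set A) := by
      rw [biUnion_associatedPrimes_eq_compl_nonZeroDivisors]
      intro a ha hreg
      letI := FlatMod.moduleStalkOver f F x
      haveI : Module.Flat A (F.presheaf.stalk x) := hfl x
      have hra : IsSMulRegular (F.presheaf.stalk x) a :=
        Module.Flat.isSMulRegular_of_isRegular (M := F.presheaf.stalk x) (isRegular_iff_mem_nonZeroDivisors.mpr hreg)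
      obtain ⟨hp, m, hm⟩ := isAssociatedPrime_iff.mp (hx : Curv2.IsAssPoint F x)
      have h1 : (f.stalkMap x).hom a ∈ IsLocalRing.maximalIdeal (X.presheaf.stalk x) :=
        map_nonunit (f.stalkMap x).hom a ha
      rw [hm, Submodule.mem_colon_singleton, Submodule.mem_bot] at h1
      have h2 : m = 0 := hra (show a • m = a • (0 : F.presheaf.stalk x) by rw [smul_zero]; exact h1)
      refine hp.ne_top ?_
      rw [hm, Ideal.eq_top_iff_one, Submodule.mem_colon_singleton, h2, smul_zero]
      exact zero_mem _
    obtain ⟨p, hp, hle⟩ := (Ideal.subset_union_prime_finite (associatedPrimes.finite A A) ⊤ ⊤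
      (fun p hp _ _ => hp.isPrime)).mp hsub
    rw [← (IsLocalRing.maximalIdeal.isMaximal A).eq_of_le hp.isPrime.ne_top hle] at hp
    exact hp
  have hy' : Nontrivial ((Coh.structureModule Y).presheaf.stalk y) :=
    (Groth.Agent.ModStalk.unitStalkEquiv y).symm.toEquiv.nontrivial
  obtain ⟨z, hzy, hz⟩ := Groth.Agent.ModStalk.exists_ass_generization (Coh.structureModule Y) y hy'
  have hzx := hY _ hfx _ hz (hzy.trans hy)
  exact (hy.antisymm (hzx ▸ hzy)).eq

end Groth.Agent.S4641
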