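import Groth.Statements.S4647
import Groth.Agent.Misc9.DomainStalk
import Groth.Agent.Misc9.NormalSections
-- import your own Groth.Agent.* helpers here

set_option autoImplicit false
set_option backward.isDefEq.respectTransparency false
open CategoryTheory AlgebraicGeometry
universe u
open FDesc

namespace Groth.Agent.S4647

/-- Let f : X → Y be a faithfully flat (flat and surjective) morphism. If all local rings of X are
domains (in particular if X is locally integral) and the underlying space of Y is locally
Noetherian, then Y is locally integral: every point of Y has an open neighbourhood which is an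
integral scheme. -/
theorem result {X Y : Scheme.{u}} (f : X ⟶ Y) [Flat f] [Surjective f]
    (hX : ∀ x : X, IsDomain ↑(X.presheaf.stalk x))
    (hY : ∀ y : Y, ∃ U : Y.Opens, y ∈ U ∧ TopologicalSpace.NoetherianSpace ↥U) (y : Y) :
    ∃ U : Y.Opens, y ∈ U ∧ IsIntegral (U : Scheme.{u}) := by
  have hdom : ∀ z : Y, IsDomain (Y.presheaf.stalk z) := fun z => by
    obtain ⟨x, rfl⟩ := f.surjective z
    haveI := hX x
    algebraize [(f.stalkMap x).hom]
    haveI : Module.Flat (Y.presheaf.stalk (f x)) (X.presheaf.stalk x) := Flat.stalkMap f x
    haveI : IsLocalHom (algebraMap (Y.presheaf.stalk (f x)) (X.presheaf.stalk x)) :=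
      inferInstanceAs (IsLocalHom (f.stalkMap x).hom)
    haveI : Module.FaithfullyFlat (Y.presheaf.stalk (f x)) (X.presheaf.stalk x) :=
      Module.FaithfullyFlat.of_flat_of_isLocalHom
    exact (FaithfulSMul.algebraMap_injective (Y.presheaf.stalk (f x)) (X.presheaf.stalk x)).isDomain _
  haveI : ∀ z : Y, _root_.IsReduced (Y.presheaf.stalk z) := fun z => by
    haveI := hdom z
    infer_instance
  haveI := isReduced_of_isReduced_stalk Y
  obtain ⟨U, hyU, hU⟩ := hY y
  haveI : TopologicalSpace.NoetherianSpace (U : Set Y) := hU
  obtain ⟨V, hyV, hV⟩ := Misc9.DomainStalk.exists_irreducible_nhd' y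
    (haveI := hdom y; Misc9.DomainStalk.nilradical_prime_of_isDomain _) U hyU
  haveI : IrreducibleSpace (V : Scheme.{u}) := (Subtype.irreducibleSpace hV : IrreducibleSpace (V : Set Y))
  haveI : IsReduced (V : Scheme.{u}) := isReduced_of_isOpenImmersion V.ι
  exact ⟨V, hyV, isIntegral_of_irreducibleSpace_of_isReduced _⟩

end Groth.Agent.S4647
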