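import Groth.Statements.S4650
import Mathlib.AlgebraicGeometry.Morphisms.FlatDescent
import Mathlib.AlgebraicGeometry.Morphisms.QuasiSeparated
import Mathlib.AlgebraicGeometry.Geometrically.Irreducible
import Mathlib.AlgebraicGeometry.Geometrically.Connected
import Mathlib.AlgebraicGeometry.Limits
import Mathlib.AlgebraicGeometry.IdealSheaf.Basic
import Mathlib.AlgebraicGeometry.Noetherian
import Mathlib.Algebra.Category.Ring.FilteredColimits
import Mathlib.RingTheory.Regular.IsSMulRegular
import Mathlib.Algebra.Module.Submodule.Pointwise

set_option autoImplicit false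
open CategoryTheory AlgebraicGeometry
universe u
open FDesc

namespace Groth.Agent.S4650

/-- Let f : X → Y be a morphism of schemes along which generizations lift (this holds for flat,
quasi-flat or open morphisms). Then every irreducible component of X dominates an irreducible
component of Y: the closure of its image is an irreducible component of Y. -/
theorem result {X Y : Scheme.{u}} (f : X ⟶ Y)
    (hf : GeneralizingMap ⇑f) (T : Set ↥X) (hT : T ∈ irreducibleComponents ↥X) :
    closure (⇑f '' T) ∈ irreducibleComponents ↥Y := by
  refine ⟨(hT.1.image _ f.continuous.continuousOn).closure, fun Z hZ hle => ?_⟩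
  have hg := hT.1.isGenericPoint_genericPoint_closure
  rw [(isClosed_of_mem_irreducibleComponents T hT).closure_eq] at hg
  set ξ := hT.1.genericPoint
  have hz := hZ.isGenericPoint_genericPoint_closure
  set ζ := hZ.genericPoint
  have hsp : ζ ⤳ f ξ := hz.specializes (subset_closure (hle (subset_closure ⟨ξ, hg.mem, rfl⟩)))
  obtain ⟨x, hx, hxe⟩ := hf hsp
  have hxT : x ∈ T := by
    have hle' : T ⊆ closure {x} := hg.def.ge.trans (isClosed_closure.closure_subset_iff.mpr (Set.singleton_subset_iff.mpr hx.mem_closure))
    exact hT.2 isIrreducible_singleton.closure hle' (subset_closure rfl)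
  refine subset_closure.trans (hz.def.ge.trans (closure_mono ?_))
  rintro _ rfl
  exact ⟨x, hxT, hxe⟩

end Groth.Agent.S4650
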