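import Groth.Statements.S4652
import Groth.Agent.FibreDepth.FlatLocusModule
import Groth.Agent.FibreDepth.FibreFinLocFree

set_option autoImplicit false
set_option backward.isDefEq.respectTransparency false
set_option linter.style.haveILetI false
open CategoryTheory AlgebraicGeometry
universe u
open FDesc

namespace Groth.Agent.S4652

/-- Let X be a scheme, F a finitely presented O_X-module and x a point of X. Then F_x is a flat module
over the local ring O_{X,x} if and only if x has an open neighbourhood U such that the restriction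
of F to U is finite locally free. -/
theorem result {X : Scheme.{u}} (F : X.Modules) (hF : CohB1.IsFP F) (x : X) :
    FlatMod.IsFlatAt F x ↔ ∃ U : X.Opens, x ∈ U ∧ FlatMod.IsFinLocFree ((Scheme.Modules.pullback U.ι).obj F) := by
  have key : ∀ y : X, FlatMod.IsFlatOverAt (𝟙 X) F y ↔ FlatMod.IsFlatAt F y := by
    intro y
    have h : FlatMod.moduleStalkOver (𝟙 X) F y =
        (inferInstance : Module (X.presheaf.stalk y) (F.presheaf.stalk y)) := by
      refine Module.ext (funext fun a => funext fun m => ?_)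
      show ((𝟙 X : X ⟶ X).stalkMap y).hom a • m = (show X.presheaf.stalk y from a) • m
      rw [Scheme.Hom.stalkMap_id]
      rfl
    show @Module.Flat _ _ _ _ (FlatMod.moduleStalkOver (𝟙 X) F y) ↔ _
    rw [h]
    rfl
  haveI : SheafOfModules.IsFinitePresentation (R := X.ringCatSheaf) F := hF
  haveI := FibreDepth.Sections.isQuasicoherent_of_isFP F hF
  constructor
  · intro hx
    let U : X.Opens :=
      ⟨{y | FlatMod.IsFlatOverAt (𝟙 X) F y}, FibreDepth.FlatLocusModule.isOpen_flatOverAt (𝟙 X) F hF⟩
    have hxU : x ∈ U := (key x).mpr hx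
    refine ⟨U, hxU, ?_⟩
    have hG : CohB1.IsFP ((Scheme.Modules.pullback U.ι).obj F) := ModStalk.isFinitePresentation_pullback U.ι F
    refine (FibreDepth.FibreFinLocFree.isFinLocFree_iff _ hG).mpr fun u => ?_
    letI := (U.ι.stalkMap u).hom.toAlgebra
    haveI : Module.Flat (X.presheaf.stalk (U.ι u)) (F.presheaf.stalk (U.ι u)) := (key (U.ι u)).mp u.2
    obtain ⟨e, -⟩ := ModStalk.exists_pullStalk_equiv U.ι F u
    haveI : Module.Flat ((U : Scheme).presheaf.stalk u)
        (((Scheme.Modules.pullback U.ι).obj F).presheaf.stalk u) := Module.Flat.of_linearEquiv e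
    letI := FlatMod.moduleStalkOver (𝟙 (U : Scheme)) ((Scheme.Modules.pullback U.ι).obj F) u
    letI := ((𝟙 (U : Scheme) : (U : Scheme) ⟶ U).stalkMap u).hom.toAlgebra
    haveI : IsScalarTower ((U : Scheme).presheaf.stalk ((𝟙 (U : Scheme) : (U : Scheme) ⟶ U).base u))
        ((U : Scheme).presheaf.stalk u) (((Scheme.Modules.pullback U.ι).obj F).presheaf.stalk u) :=
      IsScalarTower.of_algebraMap_smul fun _ _ => rfl
    haveI : Module.Flat ((U : Scheme).presheaf.stalk ((𝟙 (U : Scheme) : (U : Scheme) ⟶ U).base u))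
        ((U : Scheme).presheaf.stalk u) :=
      RingHom.Flat.of_bijective (ConcreteCategory.bijective_of_isIso ((𝟙 (U : Scheme) : (U : Scheme) ⟶ U).stalkMap u))
    exact Module.Flat.trans _ ((U : Scheme).presheaf.stalk u) _
  · rintro ⟨U, hxU, hU⟩
    haveI : Module.Free ((U : Scheme).presheaf.stalk ⟨x, hxU⟩)
        (((Scheme.Modules.pullback U.ι).obj F).presheaf.stalk ⟨x, hxU⟩) :=
      (ModStalk.free_stalk_of_isFinLocFree _ hU).1 ⟨x, hxU⟩
    let u : (U : Scheme) := ⟨x, hxU⟩
    letI := (U.ι.stalkMap u).hom.toAlgebra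
    obtain ⟨e, -⟩ := ModStalk.exists_pullStalk_equiv U.ι F u
    haveI : Module.Free ((U : Scheme).presheaf.stalk u)
        (TensorProduct (X.presheaf.stalk (U.ι u)) ((U : Scheme).presheaf.stalk u) (F.presheaf.stalk (U.ι u))) :=
      Module.Free.of_equiv e
    let l := LinearEquiv.ofBijective (Algebra.linearMap (X.presheaf.stalk (U.ι u)) ((U : Scheme).presheaf.stalk u))
      (ConcreteCategory.bijective_of_isIso (U.ι.stalkMap u))
    let t := (TensorProduct.lid (X.presheaf.stalk (U.ι u)) (F.presheaf.stalk (U.ι u))).symm ≪≫ₗ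
      TensorProduct.congr l (LinearEquiv.refl _ _)
    haveI : Module.Flat (X.presheaf.stalk (U.ι u)) ((U : Scheme).presheaf.stalk u) :=
      Module.Flat.of_linearEquiv l.symm
    haveI : Module.Flat (X.presheaf.stalk (U.ι u))
        (TensorProduct (X.presheaf.stalk (U.ι u)) ((U : Scheme).presheaf.stalk u) (F.presheaf.stalk (U.ι u))) :=
      Module.Flat.trans _ ((U : Scheme).presheaf.stalk u) _
    exact (Module.Flat.of_linearEquiv t : Module.Flat (X.presheaf.stalk (U.ι u)) (F.presheaf.stalk (U.ι u)))

end Groth.Agent.S4652
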