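import Groth.Statements.S4654
import Groth.Agent.ModStalk.AssPoint
import Groth.Agent.ModStalk.Pullback
import Groth.Agent.S6304

set_option autoImplicit false
set_option backward.isDefEq.respectTransparency false
set_option linter.style.haveILetI false
open CategoryTheory AlgebraicGeometry
universe u
open FDesc

namespace Groth.Agent.S4654

/-- Let f : X → Y be a morphism of schemes and 0 → F' → F → F'' → 0 a short exact sequence of
quasi-coherent O_X-modules such that F'' is flat over Y. Then F is flat over Y if and only if F' is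
flat over Y. -/
theorem result {X Y : Scheme.{u}} (f : X ⟶ Y) (S : ShortComplex X.Modules)
    (hS : S.ShortExact) (h₁ : Coh.IsQCoh S.X₁) (h₂ : Coh.IsQCoh S.X₂) (h₃ : Coh.IsQCoh S.X₃)
    (hflat : FlatMod.IsFlatOver f S.X₃) :
    FlatMod.IsFlatOver f S.X₂ ↔ FlatMod.IsFlatOver f S.X₁ := by
  haveI := hS.mono_f
  haveI := hS.epi_g
  have key : ∀ x : X, FlatMod.IsFlatOverAt f S.X₂ x ↔ FlatMod.IsFlatOverAt f S.X₁ x := by
    intro x
    let O := Y.presheaf.stalk (f.base x)
    let O' := X.presheaf.stalk x
    letI : Algebra O O' := (f.stalkMap x).hom.toAlgebra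
    letI := FlatMod.moduleStalkOver f S.X₁ x
    letI := FlatMod.moduleStalkOver f S.X₂ x
    letI := FlatMod.moduleStalkOver f S.X₃ x
    haveI : IsScalarTower O O' (S.X₁.presheaf.stalk x) := IsScalarTower.of_algebraMap_smul fun _ _ => rfl
    haveI : IsScalarTower O O' (S.X₂.presheaf.stalk x) := IsScalarTower.of_algebraMap_smul fun _ _ => rfl
    haveI : IsScalarTower O O' (S.X₃.presheaf.stalk x) := IsScalarTower.of_algebraMap_smul fun _ _ => rfl
    haveI : Module.Flat O (S.X₃.presheaf.stalk x) := hflat x
    have h := Groth.Agent.S6304.result (R := O) ((RefHull.stalkMapₗ S.f x).restrictScalars O)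
      ((RefHull.stalkMapₗ S.g x).restrictScalars O) (Groth.Agent.ModStalk.stalkMap_injective_of_mono S.f x)
      (Groth.Agent.ModStalk.stalkMap_exact S hS.exact x) (Groth.Agent.ModStalk.stalkMap_surjective_of_epi S.g x)
    exact ⟨h.2, h.1⟩
  exact forall_congr' key

end Groth.Agent.S4654
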