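import Groth.Statements.S4655
import Groth.Agent.ModStalk.PullbackBC

set_option autoImplicit false
set_option backward.isDefEq.respectTransparency false
set_option linter.style.haveILetI false
set_option maxHeartbeats 800000
open CategoryTheory AlgebraicGeometry
universe u
open FDesc

namespace Groth.Agent.S4655
open scoped TensorProduct

/-- Let f : X → Y be a faithfully flat morphism (flat and surjective), g : Y → Z a morphism and G a
quasi-coherent O_Y-module. Then G is flat over Z if and only if the inverse image f^*G is flat over
Z with respect to the composite morphism X → Z. -/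
theorem result {X Y Z : Scheme.{u}} (f : X ⟶ Y) (g : Y ⟶ Z) [Flat f] [Surjective f]
    (G : Y.Modules) (hG : Coh.IsQCoh G) :
    FlatMod.IsFlatOver g G ↔ FlatMod.IsFlatOver (f ≫ g) ((Scheme.Modules.pullback f).obj G) := by
  have key : ∀ x : X, FlatMod.IsFlatOverAt g G (f.base x) ↔
      FlatMod.IsFlatOverAt (f ≫ g) ((Scheme.Modules.pullback f).obj G) x := by
    intro x
    let R := Z.presheaf.stalk (g.base (f.base x))
    let A := Y.presheaf.stalk (f.base x)
    let K := X.presheaf.stalk x
    letI : Algebra R A := (g.stalkMap (f.base x)).hom.toAlgebra
    letI : Algebra A K := (f.stalkMap x).hom.toAlgebra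
    letI : Algebra R K := ((f ≫ g).stalkMap x).hom.toAlgebra
    haveI : IsScalarTower R A K := IsScalarTower.of_algebraMap_eq fun r =>
      congrArg (fun φ : R ⟶ K => φ.hom r) (Scheme.Hom.stalkMap_comp f g x)
    letI := FlatMod.moduleStalkOver g G (f.base x)
    haveI : IsScalarTower R A (G.presheaf.stalk (f.base x)) := IsScalarTower.of_algebraMap_smul fun _ _ => rfl
    haveI : Module.Flat A K := Flat.stalkMap f x
    haveI : IsLocalHom (algebraMap A K) := inferInstanceAs (IsLocalHom (f.stalkMap x).hom)
    haveI : Module.FaithfullyFlat A K := Module.FaithfullyFlat.of_flat_of_isLocalHom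
    obtain ⟨e, -⟩ := Groth.Agent.ModStalk.exists_pullStalk_equiv f G x
    letI hmod : Module R (((Scheme.Modules.pullback f).obj G).presheaf.stalk x) :=
      FlatMod.moduleStalkOver (f ≫ g) ((Scheme.Modules.pullback f).obj G) x
    let F := G.presheaf.stalk (f.base x)
    let e' : ((Scheme.Modules.pullback f).obj G).presheaf.stalk x ≃ₗ[R] (K ⊗[A] F) :=
      { e.toAddEquiv with
        map_smul' := fun r v => by
          refine (map_smul e (((f ≫ g).stalkMap x).hom r) v).trans ?_
          exact IsScalarTower.algebraMap_smul K r (e v) }
    constructor
    · intro hF
      haveI : Module.Flat R F := hF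
      haveI : Module.Flat R (K ⊗[A] F) := by
        rw [Module.Flat.iff_lTensor_injective']
        intro I
        let j := TensorProduct.AlgebraTensorModule.lTensor A F (I.subtype : I →ₗ[R] R)
        have hj : Function.Injective j :=
          Module.Flat.lTensor_preserves_injective_linearMap (M := F) I.subtype (Submodule.injective_subtype I)
        have h1 : Function.Injective (j.lTensor K) :=
          Module.Flat.lTensor_preserves_injective_linearMap (M := K) j hj
        let a₁ := TensorProduct.AlgebraTensorModule.assoc R A A K F I
        let a₂ := TensorProduct.AlgebraTensorModule.assoc R A A K F R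
        have h2 : ∀ z, a₂ (I.subtype.lTensor (K ⊗[A] F) z) = j.lTensor K (a₁ z) := by
          intro z
          induction z using TensorProduct.induction_on with
          | zero => simp
          | add a b ha hb => simp only [map_add, ha, hb]
          | tmul w i =>
            induction w using TensorProduct.induction_on with
            | zero => simp
            | add a b ha hb => simp only [TensorProduct.add_tmul, map_add, ha, hb]
            | tmul k v => rfl
        intro a b hab
        exact a₁.injective (h1 ((h2 a).symm.trans ((congrArg a₂ hab).trans (h2 b))))
      show Module.Flat R (((Scheme.Modules.pullback f).obj G).presheaf.stalk x)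
      exact Module.Flat.of_linearEquiv e'
    · intro hF
      haveI : Module.Flat R (((Scheme.Modules.pullback f).obj G).presheaf.stalk x) := hF
      haveI : Module.Flat R (K ⊗[A] F) := Module.Flat.of_linearEquiv e'.symm
      exact Groth.Agent.ModStalk.flat_of_flat_tensor (R := R) (A := A) (R' := R) (K := K)
  constructor
  · exact fun h x => (key x).mp (h _)
  · intro h y
    obtain ⟨x, rfl⟩ := f.surjective y
    exact (key x).mpr (h x)

end Groth.Agent.S4655
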