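import Groth.Statements.S4664
import Mathlib.AlgebraicGeometry.Morphisms.FlatDescent
import Mathlib.AlgebraicGeometry.Morphisms.QuasiSeparated
import Mathlib.AlgebraicGeometry.Geometrically.Irreducible
import Mathlib.AlgebraicGeometry.Geometrically.Connected
import Mathlib.AlgebraicGeometry.Limits
import Mathlib.AlgebraicGeometry.IdealSheaf.Basic
import Mathlib.AlgebraicGeometry.Noetherian
import Mathlib.Algebra.Category.Ring.FilteredColimits
import Mathlib.RingTheory.Regular.IsSMulRegular
import Mathlib.Algebra.Module.Submodule.Pointwise

set_option autoImplicit false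
open CategoryTheory AlgebraicGeometry
universe u
open FBase

namespace Groth.Agent.S4664

open CategoryTheory CategoryTheory.Limits AlgebraicGeometry

open CategoryTheory.Limits in
/-- Let f : X → Y and g : Y' → Y be morphisms of schemes with g surjective, and let f' : X ×_Y Y' → Y'
be the base change of f. If every fibre of f' is geometrically irreducible, then every fibre of f is
geometrically irreducible. -/
theorem result {X Y Y' : Scheme.{u}} (f : X ⟶ Y)
    (g : Y' ⟶ Y) [Surjective g] [GeometricallyIrreducible (pullback.snd f g)] : GeometricallyIrreducible f := by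
  rw [geometricallyIrreducible_iff]
  intro K _ y Z fst snd hZ
  obtain ⟨y', hy'⟩ := g.surjective (y default)
  obtain ⟨w, -, -⟩ := Scheme.Pullback.exists_preimage_pullback (f := g) (g := y) y' default hy'
  let W := pullback g y
  let L := W.residueField w
  let a : Spec L ⟶ W := W.fromSpecResidueField w
  have h1 : IrreducibleSpace ↥(pullback (pullback.snd f g) (a ≫ pullback.fst g y)) :=
    GeometricallyIrreducible.geometrically_irreducibleSpace (f := pullback.snd f g) _ _ _ (.of_hasPullback _ _)
  let P := pullback (pullback.snd f g) (a ≫ pullback.fst g y)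
  have hP : IsPullback (pullback.fst _ _ ≫ pullback.fst f g : P ⟶ X) (pullback.snd _ _) f ((a ≫ pullback.snd g y) ≫ y) := by
    have := (IsPullback.of_hasPullback (pullback.snd f g) (a ≫ pullback.fst g y)).paste_horiz (IsPullback.of_hasPullback f g)
    simpa [pullback.condition] using this
  let π : P ⟶ Z := hZ.lift (pullback.fst _ _ ≫ pullback.fst f g) (pullback.snd _ _ ≫ a ≫ pullback.snd g y) (by simpa using hP.w)
  have hQ : IsPullback π (pullback.snd _ _) snd (a ≫ pullback.snd g y) := by
    refine IsPullback.of_right ?_ (hZ.lift_snd _ _ _) hZ
    simpa [π] using hP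
  have : Surjective (a ≫ pullback.snd g y) := ⟨fun x => ⟨default, Subsingleton.elim _ _⟩⟩
  have : Surjective π := MorphismProperty.of_isPullback (P := @Surjective) hQ.flip inferInstance
  rw [irreducibleSpace_def, Set.top_eq_univ, ← Set.image_univ_of_surjective π.surjective]
  exact (h1.isIrreducible_univ _).image _ π.continuous.continuousOn

end Groth.Agent.S4664
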