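import Groth.Statements.S4672
import Mathlib

set_option autoImplicit false
open CategoryTheory AlgebraicGeometry
universe u
open FBase

namespace Groth.Agent.S4672

open AlgebraicGeometry CategoryTheory CategoryTheory.Limits

theorem exists_generalization {k : Type u} [Field k] {X Y : Scheme.{u}} (f : X ⟶ Spec (CommRingCat.of k))
    (g : Y ⟶ Spec (CommRingCat.of k)) (η : ↥(pullback f g)) (ξ : X) (hξ : ξ ⤳ pullback.fst f g η) :
    ∃ η' : ↥(pullback f g), η' ⤳ η ∧ pullback.fst f g η' = ξ ∧ pullback.snd f g η' = pullback.snd f g η := by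
  set y := pullback.snd f g η with hy
  let h : Spec (Y.residueField y) ⟶ Spec (CommRingCat.of k) := Y.fromSpecResidueField y ≫ g
  haveI : Flat h := by
    obtain ⟨φ, hφ⟩ := Spec.map_surjective h
    rw [← hφ, HasRingHomProperty.Spec_iff (P := @Flat)]
    letI := φ.hom.toAlgebra
    exact (inferInstance : Module.Flat k (Y.residueField y))
  let m : pullback f h ⟶ pullback f g := pullback.lift (pullback.fst f h) (pullback.snd f h ≫ Y.fromSpecResidueField y)
    (by rw [pullback.condition, Category.assoc])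
  let Ω := (pullback f g).residueField η
  let z : Spec Ω ⟶ pullback f h := pullback.lift ((pullback f g).fromSpecResidueField η ≫ pullback.fst f g)
    (Spec.map ((pullback.snd f g).residueFieldMap η))
    (by rw [Category.assoc, pullback.condition, ← Category.assoc, ← Scheme.Hom.SpecMap_residueFieldMap_fromSpecResidueField,
      Category.assoc])
  obtain ⟨s⟩ : Nonempty ↥(Spec Ω) := inferInstance
  have hzm : z ≫ m = (pullback f g).fromSpecResidueField η := by
    apply pullback.hom_ext
    · rw [Category.assoc, show m ≫ pullback.fst f g = pullback.fst f h from pullback.lift_fst _ _ _]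
      exact pullback.lift_fst _ _ _
    · rw [Category.assoc, show m ≫ pullback.snd f g = pullback.snd f h ≫ Y.fromSpecResidueField y from
        pullback.lift_snd _ _ _, ← Category.assoc, show z ≫ pullback.snd f h = _ from pullback.lift_snd _ _ _]
      exact Scheme.Hom.SpecMap_residueFieldMap_fromSpecResidueField _ _
  have hmz : m (z s) = η := by
    rw [← Scheme.Hom.comp_apply, hzm, Scheme.fromSpecResidueField_apply]
  have hfst : pullback.fst f h (z s) = pullback.fst f g η := by
    conv_rhs => rw [← hmz, ← Scheme.Hom.comp_apply m, show m ≫ pullback.fst f g = pullback.fst f h from pullback.lift_fst _ _ _]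
  obtain ⟨z', hz', hz'ξ⟩ := Flat.generalizingMap (pullback.fst f h) (hfst.symm ▸ hξ : ξ ⤳ pullback.fst f h (z s))
  refine ⟨m z', hmz ▸ hz'.map m.continuous, ?_, ?_⟩
  · rw [← hz'ξ, ← Scheme.Hom.comp_apply, show m ≫ pullback.fst f g = pullback.fst f h from pullback.lift_fst _ _ _]
  · rw [← Scheme.Hom.comp_apply, show m ≫ pullback.snd f g = pullback.snd f h ≫ Y.fromSpecResidueField y from
      pullback.lift_snd _ _ _, Scheme.Hom.comp_apply, Scheme.fromSpecResidueField_apply]

theorem le_component {k : Type u} [Field k] {X Y : Scheme.{u}} (f : X ⟶ Spec (CommRingCat.of k))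
    (g : Y ⟶ Spec (CommRingCat.of k)) {W W' : Set ↥(pullback f g)}
    {X' : Set X} (hX : X' ∈ irreducibleComponents ↥X) {Y' : Set Y} (hY : IsClosed Y')
    (hW : Maximal (fun V : Set ↥(pullback f g) => IsIrreducible V ∧
      V ⊆ ⇑(pullback.fst f g) ⁻¹' X' ∩ ⇑(pullback.snd f g) ⁻¹' Y') W)
    (hW' : IsIrreducible W') (hle : W ⊆ W') : W' ⊆ ⇑(pullback.fst f g) ⁻¹' X' := by
  have hXc := isClosed_of_mem_irreducibleComponents X' hX
  have hSc : IsClosed (⇑(pullback.fst f g) ⁻¹' X' ∩ ⇑(pullback.snd f g) ⁻¹' Y') :=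
    (hXc.preimage (pullback.fst f g).continuous).inter (hY.preimage (pullback.snd f g).continuous)
  have hWc : IsClosed W := by
    have := hW.2 (y := closure W) ⟨hW.1.1.closure, hSc.closure_subset_iff.2 hW.1.2⟩ subset_closure
    exact isClosed_of_closure_subset this
  obtain ⟨η, hη⟩ := QuasiSober.sober hW.1.1 hWc
  obtain ⟨ξ, hξ⟩ := QuasiSober.sober hX.1 hXc
  have hηW : η ∈ W := hη.mem
  obtain ⟨η', hη', h1, h2⟩ := exists_generalization f g η ξ (hξ.specializes (hW.1.2 hηW).1)
  have hsub : closure {η'} ⊆ ⇑(pullback.fst f g) ⁻¹' X' ∩ ⇑(pullback.snd f g) ⁻¹' Y' :=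
    hSc.closure_subset_iff.2 (Set.singleton_subset_iff.2 ⟨by rw [Set.mem_preimage, h1]; exact hξ.mem,
      by rw [Set.mem_preimage, h2]; exact (hW.1.2 hηW).2⟩)
  have hWle : W ⊆ closure {η'} := by
    rw [← hη.def]
    exact isClosed_closure.closure_subset_iff.2 (Set.singleton_subset_iff.2 (specializes_iff_mem_closure.1 hη'))
  have heq : closure {η'} ⊆ W := hW.2 ⟨isIrreducible_singleton.closure, hsub⟩ hWle
  have hη'η : η ⤳ η' := hη.specializes (heq (subset_closure rfl))
  obtain rfl : η = η' := (hη'η.antisymm hη').eq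
  obtain ⟨η₂, hη₂⟩ := QuasiSober.sober hW'.closure isClosed_closure
  have h₂ : η₂ ⤳ η := hη₂.specializes (subset_closure (hle hηW))
  have h3 : pullback.fst f g η₂ ∈ X' := by
    have hir : IsIrreducible (closure {pullback.fst f g η₂}) := isIrreducible_singleton.closure
    have hXle : X' ⊆ closure {pullback.fst f g η₂} := by
      rw [← hξ.def]
      exact isClosed_closure.closure_subset_iff.2 (Set.singleton_subset_iff.2
        (specializes_iff_mem_closure.1 (h1 ▸ h₂.map (pullback.fst f g).continuous)))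
    exact hX.2 hir hXle (subset_closure rfl)
  intro w hw
  exact (hη₂.specializes (subset_closure hw)).map (pullback.fst f g).continuous |>.mem_closed hXc h3

theorem le_component' {k : Type u} [Field k] {X Y : Scheme.{u}} (f : X ⟶ Spec (CommRingCat.of k))
    (g : Y ⟶ Spec (CommRingCat.of k)) {W W' : Set ↥(pullback f g)}
    {X' : Set X} (hX : IsClosed X') {Y' : Set Y} (hY : Y' ∈ irreducibleComponents ↥Y)
    (hW : Maximal (fun V : Set ↥(pullback f g) => IsIrreducible V ∧
      V ⊆ ⇑(pullback.fst f g) ⁻¹' X' ∩ ⇑(pullback.snd f g) ⁻¹' Y') W)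
    (hW' : IsIrreducible W') (hle : W ⊆ W') : W' ⊆ ⇑(pullback.snd f g) ⁻¹' Y' := by
  let e := pullbackSymmetry f g
  have hinv : ∀ p, e.inv (e.hom p) = p := fun p => by rw [← Scheme.Hom.comp_apply, e.hom_inv_id]; rfl
  have hhom : ∀ q, e.hom (e.inv q) = q := fun q => by rw [← Scheme.Hom.comp_apply, e.inv_hom_id]; rfl
  have hf : ∀ q, pullback.fst g f q = pullback.snd f g (e.inv q) := fun q => by
    rw [← Scheme.Hom.comp_apply, pullbackSymmetry_inv_comp_snd]
  have hs : ∀ q, pullback.snd g f q = pullback.fst f g (e.inv q) := fun q => by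
    rw [← Scheme.Hom.comp_apply, pullbackSymmetry_inv_comp_fst]
  have hmax : Maximal (fun V : Set ↥(pullback g f) => IsIrreducible V ∧
      V ⊆ ⇑(pullback.fst g f) ⁻¹' Y' ∩ ⇑(pullback.snd g f) ⁻¹' X') (⇑e.hom '' W) := by
    refine ⟨⟨hW.1.1.image _ e.hom.continuous.continuousOn, ?_⟩, fun V hV hle' q hq => ?_⟩
    · rintro _ ⟨p, hp, rfl⟩
      simp only [Set.mem_inter_iff, Set.mem_preimage, hf, hs, hinv]
      exact ⟨(hW.1.2 hp).2, (hW.1.2 hp).1⟩
    · refine ⟨e.inv q, hW.2 (y := ⇑e.inv '' V) ⟨hV.1.image _ e.inv.continuous.continuousOn, ?_⟩ ?_ ⟨q, hq, rfl⟩, hhom q⟩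
      · rintro _ ⟨r, hr, rfl⟩
        exact ⟨by rw [Set.mem_preimage, ← hs]; exact (hV.2 hr).2, by rw [Set.mem_preimage, ← hf]; exact (hV.2 hr).1⟩
      · exact fun p hp => ⟨e.hom p, hle' ⟨p, hp, rfl⟩, hinv p⟩
  intro p hp
  have := le_component g f hY hX hmax (hW'.image _ e.hom.continuous.continuousOn) (Set.image_mono hle) ⟨p, hp, rfl⟩
  simpa [hf, hinv] using this


open CategoryTheory.Limits in
/-- Let X and Y be locally Noetherian schemes over a field k such that X ×_k Y is locally Noetherian,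
with projections p and q. Then a subset W of X ×_k Y is an irreducible component of X ×_k Y if and
only if there exist an irreducible component X' of X and an irreducible component Y' of Y such that
W is a maximal irreducible subset of p⁻¹(X') ∩ q⁻¹(Y') (that is, an irreducible component of the
space underlying X' ×_k Y' for the reduced structures on X' and Y'). -/
theorem result {k : Type u} [Field k] {X Y : Scheme.{u}}
    (f : X ⟶ Spec (CommRingCat.of k)) (g : Y ⟶ Spec (CommRingCat.of k)) [IsLocallyNoetherian X]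
    [IsLocallyNoetherian Y] [IsLocallyNoetherian (pullback f g)] (W : Set ↥(pullback f g)) :
    W ∈ irreducibleComponents ↥(pullback f g) ↔
      ∃ X' ∈ irreducibleComponents ↥X, ∃ Y' ∈ irreducibleComponents ↥Y,
        Maximal (fun V : Set ↥(pullback f g) => IsIrreducible V ∧ V ⊆ ⇑(pullback.fst f g) ⁻¹' X' ∩ ⇑(pullback.snd f g) ⁻¹' Y') W := by
  have key : ∀ (Z : Set ↥(pullback f g)), IsIrreducible Z →
      ∃ X' ∈ irreducibleComponents ↥X, ∃ Y' ∈ irreducibleComponents ↥Y,
        Z ⊆ ⇑(pullback.fst f g) ⁻¹' X' ∩ ⇑(pullback.snd f g) ⁻¹' Y' := fun Z hZ => by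
    obtain ⟨X', hX', hle⟩ := exists_mem_irreducibleComponents_subset_of_isIrreducible _
      (hZ.image _ (pullback.fst f g).continuous.continuousOn)
    obtain ⟨Y', hY', hle'⟩ := exists_mem_irreducibleComponents_subset_of_isIrreducible _
      (hZ.image _ (pullback.snd f g).continuous.continuousOn)
    exact ⟨X', hX', Y', hY', fun z hz => ⟨hle ⟨z, hz, rfl⟩, hle' ⟨z, hz, rfl⟩⟩⟩
  constructor
  · intro hW
    obtain ⟨X', hX', Y', hY', hle⟩ := key W hW.1
    exact ⟨X', hX', Y', hY', ⟨hW.1, hle⟩, fun V hV hWV => hW.2 hV.1 hWV⟩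
  · rintro ⟨X', hX', Y', hY', hW⟩
    refine ⟨hW.1.1, fun W' hW' hle => hW.2 ⟨hW', Set.subset_inter ?_ ?_⟩ hle⟩
    · exact le_component f g hX' (isClosed_of_mem_irreducibleComponents Y' hY') hW hW' hle
    · exact le_component' f g (isClosed_of_mem_irreducibleComponents X' hX') hY' hW hW' hle

end Groth.Agent.S4672
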