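import Groth.Statements.S4674
import Mathlib.RingTheory.Flat.Basic
import Mathlib.LinearAlgebra.TensorProduct.Pi
import Mathlib.RingTheory.Finiteness.Basic

set_option autoImplicit false
open scoped TensorProduct
universe u v w
open FDesc

namespace Groth.Agent.S4674

/-- Let B be a flat A-algebra and M a finitely presented A-module. Then the annihilator of the B-module
B ⊗_A M is the ideal of B generated by the image of the annihilator of M. -/
theorem result {A : Type u} {B : Type v} [CommRing A] [CommRing B] [Algebra A B]
    [Module.Flat A B] (M : Type w) [AddCommGroup M] [Module A M] [Module.FinitePresentation A M] :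
    Module.annihilator B (B ⊗[A] M) = (Module.annihilator A M).map (algebraMap A B) := by
  classical
  obtain ⟨n, m, hm⟩ := Module.Finite.exists_fin (R := A) (M := M)
  refine le_antisymm (fun b hb => ?_) ?_
  · let ψ : A →ₗ[A] (Fin n → M) := LinearMap.pi fun i => LinearMap.toSpanSingleton A M (m i)
    have hker : ∀ a : A, a ∈ LinearMap.ker ψ → a ∈ Module.annihilator A M := by
      intro a ha
      rw [Module.mem_annihilator]
      intro x
      have hx : x ∈ Submodule.span A (Set.range m) := hm ▸ trivial
      induction hx using Submodule.span_induction with
      | mem y hy => obtain ⟨i, rfl⟩ := hy; exact congrFun (LinearMap.mem_ker.1 ha) i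
      | zero => rw [smul_zero]
      | add y z _ _ hy hz => rw [smul_add, hy, hz, add_zero]
      | smul c y _ hy => rw [smul_comm, hy, smul_zero]
    have hex : Function.Exact (LinearMap.ker ψ).subtype ψ := LinearMap.exact_subtype_ker_map ψ
    have hflat := Module.Flat.lTensor_exact B hex
    have hzero : ψ.lTensor B (b ⊗ₜ 1) = 0 := by
      apply (TensorProduct.piRight A A B fun _ : Fin n => M).injective
      ext i
      have := Module.mem_annihilator.1 hb ((1 : B) ⊗ₜ m i)
      rw [TensorProduct.smul_tmul', smul_eq_mul, mul_one] at this
      simpa [ψ] using this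
    obtain ⟨t, ht⟩ := (hflat _).1 hzero
    have hb' : b = TensorProduct.rid A B ((LinearMap.ker ψ).subtype.lTensor B t) := by rw [ht]; simp
    rw [hb']
    clear ht hb'
    induction t using TensorProduct.induction_on with
    | zero => simp
    | tmul c a =>
      simp only [LinearMap.lTensor_tmul, TensorProduct.rid_tmul, Submodule.subtype_apply, Algebra.smul_def]
      exact Ideal.mul_mem_right _ _ (Ideal.mem_map_of_mem _ (hker _ a.2))
    | add x y hx hy => rw [map_add, map_add]; exact Ideal.add_mem _ hx hy
  · rw [Ideal.map_le_iff_le_comap]
    intro a ha
    rw [Ideal.mem_comap, Module.mem_annihilator]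
    intro x
    rw [algebraMap_smul]
    induction x using TensorProduct.induction_on with
    | zero => rw [smul_zero]
    | tmul c y => rw [← TensorProduct.tmul_smul, Module.mem_annihilator.1 ha, TensorProduct.tmul_zero]
    | add x y hx hy => rw [smul_add, hx, hy, add_zero]

end Groth.Agent.S4674
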