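import Groth.Statements.S4675

import Mathlib.LinearAlgebra.Basis.VectorSpace
set_option autoImplicit false
universe u v
open FDesc

namespace Groth.Agent.S4675

/-- Let B be a ring, not necessarily commutative, and V, W two left B-modules which are isomorphic. For
a B-linear map u : V → W the following are equivalent: every B-linear map V → W can be written
uniquely as u ∘ c with c a B-linear endomorphism of V (that is, u is a basis of Hom_B(V, W) for its
right module structure over End_B(V)); u is bijective. -/
theorem result {B : Type u} [Ring B] {V W : Type v} [AddCommGroup V] [AddCommGroup W]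
    [Module B V] [Module B W] (e : V ≃ₗ[B] W) (u : V →ₗ[B] W) :
    (∀ v : V →ₗ[B] W, ∃! c : V →ₗ[B] V, v = u ∘ₗ c) ↔ Function.Bijective u := by
  constructor
  · intro h
    obtain ⟨c, hc, -⟩ := h e.toLinearMap
    have hs : Function.Surjective u := fun w => ⟨c (e.symm w), by
      have := LinearMap.congr_fun hc (e.symm w)
      simp only [LinearMap.comp_apply, LinearEquiv.coe_coe, LinearEquiv.apply_symm_apply] at this
      exact this.symm⟩
    refine ⟨?_, hs⟩
    rw [← LinearMap.ker_eq_bot, eq_bot_iff]
    intro x hx
    rw [LinearMap.mem_ker] at hx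
    obtain ⟨y, hy⟩ := hs (e x)
    -- the composite c ∘ e⁻¹ ∘ u
    obtain ⟨d, hd, huniq⟩ := h u
    have h1 := huniq LinearMap.id (by simp)
    have h2 := huniq (c ∘ₗ e.symm.toLinearMap ∘ₗ u) (by
      ext v
      have := LinearMap.congr_fun hc (e.symm (u v))
      simp only [LinearMap.comp_apply, LinearEquiv.coe_coe, LinearEquiv.apply_symm_apply] at this
      simpa using this)
    have := LinearMap.congr_fun (h1.trans h2.symm) x
    simpa [hx] using this
  · intro h v
    let E := LinearEquiv.ofBijective u h
    refine ⟨E.symm.toLinearMap ∘ₗ v, ?_, ?_⟩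
    · ext x; simp [E]
    · intro c hc; subst hc; ext x; simp [E]

end Groth.Agent.S4675
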