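import Groth.Statements.S4690
import Groth.Agent.HensPair.DimMore

set_option autoImplicit false
universe u
open EGA4

namespace Groth.Agent.S4690

open AlgebraicGeometry CategoryTheory in
/-- Let Y be an irreducible locally Noetherian scheme, X an irreducible scheme and f : X → Y a dominant
morphism locally of finite type; let e be the dimension of the generic fibre of f. Then dim X ≤ dim
Y + e. If moreover every local ring of Y is universally catenary, the two sides are equal if and
only if dim Y equals the supremum of the dimensions of the local rings of Y at the points of f(X). -/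
theorem result {X Y : Scheme.{u}} (f : X ⟶ Y) [IsLocallyNoetherian Y]
    [LocallyOfFiniteType f] [IrreducibleSpace X] [IrreducibleSpace Y] (hf : DenseRange f.base) :
    topologicalKrullDim X ≤ topologicalKrullDim Y + topologicalKrullDim (f.fiber (genericPoint Y)) ∧
      ((∀ y : Y, CAlg.IsUniversallyCatenary (Y.presheaf.stalk y)) →
        (topologicalKrullDim X = topologicalKrullDim Y + topologicalKrullDim (f.fiber (genericPoint Y)) ↔
          topologicalKrullDim Y = ⨆ y ∈ Set.range f.base, ringKrullDim (Y.presheaf.stalk y))) := by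
  rw [Groth.Agent.HensPair.DimMore.generic_fibre_dim f hf]
  refine ⟨Groth.Agent.HensPair.DimMore.dim_le_add f hf, fun hY => ?_⟩
  rw [Groth.Agent.HensPair.DimMore.dim_eq_iSup f hf hY]
  generalize (⨆ y ∈ Set.range f.base, ringKrullDim (Y.presheaf.stalk y)) = a
  generalize Groth.Agent.HensPair.FibreTrdeg.T f (genericPoint X) = n
  generalize topologicalKrullDim ↥Y = b
  refine ⟨fun h => ?_, fun h => by rw [h]⟩
  match a, b with
  | ⊥, ⊥ => rfl
  | ⊥, (c : ℕ∞) => rw [WithBot.bot_add] at h; exact absurd h.symm (by rw [WithBot.add_eq_bot]; simp)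
  | (c : ℕ∞), ⊥ => rw [WithBot.bot_add] at h; exact absurd h (by rw [WithBot.add_eq_bot]; simp)
  | (c : ℕ∞), (c' : ℕ∞) =>
    have h1 : c + (n : ℕ∞) = c' + (n : ℕ∞) := by exact_mod_cast h
    have h2 : c = c' := le_antisymm ((ENat.add_le_add_iff_right (ENat.natCast_ne_top n)).mp h1.le)
      ((ENat.add_le_add_iff_right (ENat.natCast_ne_top n)).mp h1.ge)
    rw [h2]

end Groth.Agent.S4690
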