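import Groth.Statements.S4691
import Groth.Agent.DimFibre.Basic

set_option autoImplicit false
universe u
open EGA4

namespace Groth.Agent.S4691

open AlgebraicGeometry CategoryTheory in
/-- Let Y be a locally Noetherian scheme, f : X → Y a morphism locally of finite type and n a natural
number such that every fibre of f has dimension at most n. Then dim X ≤ dim Y + n. -/
theorem result {X Y : Scheme.{u}} (f : X ⟶ Y) [IsLocallyNoetherian Y]
    [LocallyOfFiniteType f] (n : ℕ) (h : ∀ y : Y, topologicalKrullDim (f.fiber y) ≤ n) :
    topologicalKrullDim X ≤ topologicalKrullDim Y + n := by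
  haveI : IsLocallyNoetherian X := LocallyOfFiniteType.isLocallyNoetherian f
  have hX : topologicalKrullDim X = Order.krullDim X := by
    rw [topologicalKrullDim]
    exact Order.krullDim_eq_of_orderIso irreducibleSetEquivPoints
  have hY : topologicalKrullDim Y = Order.krullDim Y := by
    rw [topologicalKrullDim]
    exact Order.krullDim_eq_of_orderIso irreducibleSetEquivPoints
  rw [hX]
  rcases isEmpty_or_nonempty X with he | he
  · rw [Order.krullDim_eq_bot]; exact bot_le
  rw [Order.krullDim_eq_iSup_coheight_of_nonempty, WithBot.coe_iSup (OrderTop.bddAbove _)]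
  refine iSup_le fun x => ?_
  rw [← ringKrullDim_stalk_eq_coheight, hY]
  refine (DimFibre.ringKrullDim_le_add f x ((DimFibre.fibre_dim_le f x).trans (h (f x)))).trans ?_
  refine add_le_add ?_ le_rfl
  rw [ringKrullDim_stalk_eq_coheight]
  exact Order.coheight_le_krullDim (f x)

end Groth.Agent.S4691
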