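import Groth.Statements.S4692
import Groth.Agent.HensPair.FieldDim

set_option autoImplicit false
universe u
open EGA4

namespace Groth.Agent.S4692

open AlgebraicGeometry CategoryTheory in
/-- Let Y be a locally Noetherian scheme all of whose local rings are universally catenary, X an
irreducible scheme, f : X → Y a morphism locally of finite type and n a natural number. If every
fibre of f has dimension at least n then dim X ≥ dim Y + n; if every fibre has dimension exactly n
then dim X = dim Y + n. (The empty scheme has dimension ⊥, so either hypothesis forces f to be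
surjective.) -/
theorem result {X Y : Scheme.{u}} (f : X ⟶ Y) [IsLocallyNoetherian Y]
    [LocallyOfFiniteType f] [IrreducibleSpace X] (hY : ∀ y : Y, CAlg.IsUniversallyCatenary (Y.presheaf.stalk y))
    (n : ℕ) :
    ((∀ y : Y, (n : WithBot ℕ∞) ≤ topologicalKrullDim (f.fiber y)) →
        topologicalKrullDim Y + n ≤ topologicalKrullDim X) ∧
      ((∀ y : Y, topologicalKrullDim (f.fiber y) = n) →
        topologicalKrullDim X = topologicalKrullDim Y + n) := by
  open Groth.Agent.HensPair in
  have key : (∀ y : Y, (n : WithBot ℕ∞) ≤ topologicalKrullDim (f.fiber y)) →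
      ∃ e : ℕ, n ≤ e ∧ topologicalKrullDim X = topologicalKrullDim Y + e ∧
        ((∀ y : Y, topologicalKrullDim (f.fiber y) = n) → e = n) := by
    intro h
    have hsurj : Function.Surjective f.base := fun y => by
      obtain ⟨s, -⟩ := Order.le_krullDim_iff.mp (h y)
      obtain ⟨c, -⟩ := s.head.isIrreducible.nonempty
      exact ⟨f.fiberι y c, (f.range_fiberι y).subset ⟨c, rfl⟩⟩
    haveI : IrreducibleSpace Y := { toPreirreducibleSpace := ⟨by
        rw [← hsurj.range_eq, ← Set.image_univ]
        exact (PreirreducibleSpace.isPreirreducible_univ).image f.base f.continuous.continuousOn⟩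
                                    toNonempty := ⟨f (genericPoint X)⟩ }
    have hd : DenseRange f.base := hsurj.denseRange
    refine ⟨FibreTrdeg.T f (genericPoint X), ?_, ?_, fun h' => ?_⟩
    · have h1 := h (genericPoint Y)
      rw [DimMore.generic_fibre_dim f hd] at h1
      exact_mod_cast h1
    · rw [DimMore.dim_eq_iSup f hd hY, FieldDim.dim_eq_iSup_stalk Y, hsurj.range_eq]
      simp
    · have h1 := h' (genericPoint Y)
      rw [DimMore.generic_fibre_dim f hd] at h1
      exact_mod_cast h1
  refine ⟨fun h => ?_, fun h => ?_⟩
  · obtain ⟨e, hne, he, -⟩ := key h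
    rw [he]
    exact add_le_add le_rfl (by exact_mod_cast hne)
  · obtain ⟨e, -, he, hen⟩ := key fun y => (h y).ge
    rw [he, hen h]

end Groth.Agent.S4692
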