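import Groth.Statements.S4711
import Groth.Agent.EGA43.LocClosed
import Groth.Agent.ConstrTop.Basic

set_option autoImplicit false
universe u
open EGA4

namespace Groth.Agent.S4711

open AlgebraicGeometry Topology in
/-- In any scheme X, every nonempty locally constructible subset E contains a point x such that the
one-point set {x} is locally closed in X (equivalently x is isolated in its closure). -/
theorem result (X : Scheme.{u}) (E : Set X)
    (hE : Topology.IsLocallyConstructible E) (hne : E.Nonempty) :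
    ∃ x ∈ E, IsLocallyClosed ({x} : Set X) := by
  obtain ⟨z, hz⟩ := hne
  obtain ⟨U, hzU, hUo, hU⟩ := hE z
  obtain ⟨n, Z, hZ, hZe⟩ := Groth.Agent.ConstrTop.Basic.exists_lc hU
  have hz' : (⟨z, mem_of_mem_nhds hzU⟩ : ↥U) ∈ ⋃ i, Z i := hZe ▸ hz
  obtain ⟨i, hi⟩ := Set.mem_iUnion.mp hz'
  obtain ⟨x, ⟨w, hw, hwx⟩, hx⟩ := Groth.Agent.EGA43.LocClosed.exists_locallyClosed_singleton X
    ((hZ i).image Topology.IsInducing.subtypeVal (by rw [Subtype.range_coe]; exact hUo.isLocallyClosed))
    ⟨z, _, hi, rfl⟩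
  refine ⟨x, ?_, hx⟩
  have : w ∈ (Subtype.val ⁻¹' E : Set U) := hZe.symm ▸ Set.mem_iUnion.mpr ⟨i, hw⟩
  exact hwx ▸ this

end Groth.Agent.S4711
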