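import Groth.Statements.S4712
import Groth.Agent.EGA43.LocClosed
import Groth.Agent.ConstrTop.Basic

set_option autoImplicit false
universe u
open EGA4

namespace Groth.Agent.S4712

open AlgebraicGeometry in
/-- Let X be a locally Noetherian scheme and x a point such that {x} is locally closed in X. Then the
closure of {x} has dimension at most 1, and every point of that closure other than x is a closed
point of X. -/
theorem result (X : Scheme.{u}) [IsLocallyNoetherian X] (x : X)
    (hx : IsLocallyClosed ({x} : Set X)) :
    topologicalKrullDim (closure ({x} : Set X)) ≤ 1 ∧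
      ∀ y ∈ closure ({x} : Set X), y ≠ x → IsClosed ({y} : Set X) := by
  refine ⟨?_, fun y hy hne => Groth.Agent.EGA43.LocClosed.isClosed_of_mem_closure hx hy hne⟩
  refine iSup_le fun s => ?_
  by_contra hlen
  have hl : 2 ≤ s.length := by
    by_contra hc
    exact hlen (by exact_mod_cast (by omega : s.length ≤ 1))
  have hge : Topology.IsClosedEmbedding (Subtype.val : closure ({x} : Set X) → X) :=
    isClosed_closure.isClosedEmbedding_subtypeVal
  let W : Fin (s.length + 1) → TopologicalSpace.IrreducibleCloseds X := fun i =>
    ⟨Subtype.val '' (s i : Set _), (s i).isIrreducible.image _ continuous_subtype_val.continuousOn,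
      hge.isClosedMap _ (s i).isClosed⟩
  let η : Fin (s.length + 1) → X := fun i => (W i).isIrreducible.genericPoint
  have hη : ∀ i, IsGenericPoint (η i) (W i : Set X) := fun i => by
    have := (W i).isIrreducible.isGenericPoint_genericPoint_closure
    rwa [(W i).isClosed.closure_eq] at this
  have hsp : ∀ i j, i ≤ j → η j ⤳ η i := fun i j hij =>
    (hη j).specializes (Set.image_mono (s.monotone hij) (hη i).mem)
  have hinj : ∀ i j, η i = η j → i = j := fun i j h => s.strictMono.injective <| by
    apply SetLike.coe_injective
    apply Set.image_injective.mpr Subtype.val_injective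
    show (W i : Set X) = W j
    rw [← (hη i).def, ← (hη j).def, h]
  have hxs : ∀ i, x ⤳ η i := fun i => by
    rw [specializes_iff_mem_closure]
    obtain ⟨w, -, hw⟩ := (hη i).mem
    exact hw ▸ w.2
  let i0 : Fin (s.length + 1) := ⟨0, by omega⟩
  let i1 : Fin (s.length + 1) := ⟨1, by omega⟩
  let i2 : Fin (s.length + 1) := ⟨2, by omega⟩
  have h01 := hsp i0 i1 (by simp [i0, i1, Fin.le_def])
  have h12 := hsp i1 i2 (by simp [i1, i2, Fin.le_def])
  by_cases h : η i1 = x
  · have := hinj i2 i1 ((h12.trans (h ▸ specializes_rfl)).antisymm (h ▸ hxs i2) |>.eq.trans h.symm)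
    simp [i1, i2] at this
  · have := hinj i0 i1 (Groth.Agent.EGA43.LocClosed.eq_of_chain hx (hxs i1) h01 h)
    simp [i0, i1] at this

end Groth.Agent.S4712
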