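import Groth.Statements.S4715

set_option autoImplicit false
universe u
open EGA4

namespace Groth.Agent.S4715

open AlgebraicGeometry CategoryTheory in
/-- Let f : X → Y be a quasi-finite morphism (of finite type with discrete fibres) of locally Noetherian
schemes. Then dim X is at most the dimension of the closure of f(X), which is at most dim Y. -/
theorem result {X Y : Scheme.{u}} (f : X ⟶ Y) [IsLocallyNoetherian X] [IsLocallyNoetherian Y]
    [LocallyQuasiFinite f] [LocallyOfFiniteType f] [QuasiCompact f] :
    topologicalKrullDim X ≤ topologicalKrullDim (closure (Set.range f.base)) ∧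
      topologicalKrullDim (closure (Set.range f.base)) ≤ topologicalKrullDim Y := by
  refine ⟨?_, (Topology.IsInducing.subtypeVal).topologicalKrullDim_le⟩
  let g : X → ↥(closure (Set.range f.base)) := fun x => ⟨f.base x, subset_closure ⟨x, rfl⟩⟩
  have hg : Continuous g := f.continuous.subtype_mk _
  refine Order.krullDim_le_of_strictMono (TopologicalSpace.IrreducibleCloseds.map g hg) ?_
  intro Z W h
  refine lt_of_le_of_ne (fun y hy => closure_mono (Set.image_mono h.le) hy) fun he => h.ne ?_
  obtain ⟨z, hz⟩ := QuasiSober.sober Z.isIrreducible Z.isClosed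
  obtain ⟨w, hw⟩ := QuasiSober.sober W.isIrreducible W.isClosed
  have e : closure (g '' (Z : Set X)) = closure (g '' (W : Set X)) :=
    congrArg ((↑) : TopologicalSpace.IrreducibleCloseds ↥(closure (Set.range f.base)) → Set ↥(closure (Set.range f.base))) he
  have h1 := hz.image hg
  have h2 := hw.image hg
  rw [e] at h1
  have hzw : f.base z = f.base w := congrArg Subtype.val (h1.eq h2)
  have hsp : w ⤳ z := hw.specializes (h.le hz.mem)
  haveI : DiscreteTopology ↥(f.base ⁻¹' {f.base z}) :=
    (f.isDiscrete_preimage_singleton (f.base z)).to_subtype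
  have hdisc : (⟨w, hzw.symm⟩ : ↥(f.base ⁻¹' {f.base z})) = ⟨z, rfl⟩ :=
    (Specializes.eq (Topology.IsInducing.subtypeVal.specializes_iff.mp hsp))
  have hwz : w = z := congrArg Subtype.val hdisc
  exact TopologicalSpace.IrreducibleCloseds.ext (hz.def.symm.trans (hwz ▸ hw.def))

end Groth.Agent.S4715
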