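import Groth.Statements.S4717
import Groth.Agent.Topo.IntegralDim
import Groth.Agent.Mor.OpenGen
import Mathlib

set_option autoImplicit false
universe u
open EGA4

namespace Groth.Agent.S4717

open AlgebraicGeometry CategoryTheory in
/-- Let f : X → Y be a finite morphism of locally Noetherian schemes. Then dim X equals the dimension of
the image f(X); in particular if f is surjective then dim X = dim Y. -/
theorem result {X Y : Scheme.{u}} (f : X ⟶ Y) [IsLocallyNoetherian X] [IsLocallyNoetherian Y]
    [IsFinite f] :
    topologicalKrullDim X = topologicalKrullDim (Set.range f.base) ∧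
      (Function.Surjective f.base → topologicalKrullDim X = topologicalKrullDim Y) := by
  have hcl : IsClosedMap f.base := f.isClosedMap
  haveI : QuasiSober (Set.range f.base) :=
    hcl.isClosed_range.isClosedEmbedding_subtypeVal.quasiSober
  have h1 : topologicalKrullDim X = topologicalKrullDim (Set.range f.base) := by
    refine le_antisymm ?_ ?_
    · refine Groth.Agent.Topo.IntegralDim.dim_le (Set.rangeFactorization f.base) (f.continuous.subtype_mk _) ?_ ?_
      · intro C hC
        rw [isClosed_induced_iff]
        exact ⟨f.base '' C, hcl C hC, by ext ⟨y, hy⟩; simp [Set.rangeFactorization, Subtype.ext_iff]⟩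
      · intro x y hxy he
        exact Groth.Agent.Topo.IntegralDim.fib f x y hxy (congrArg Subtype.val he)
    · refine Groth.Agent.Topo.IntegralDim.dim_ge (Set.rangeFactorization f.base) ?_ (f.continuous.subtype_mk _)
        Set.rangeFactorization_surjective
      intro C hC
      rw [isClosed_induced_iff]
      exact ⟨f.base '' C, hcl C hC, by ext ⟨y, hy⟩; simp [Set.rangeFactorization, Subtype.ext_iff]⟩
  refine ⟨h1, fun hs => h1.trans ?_⟩
  rw [Set.range_eq_univ.mpr hs]
  exact IsHomeomorph.topologicalKrullDim_eq _ (Homeomorph.Set.univ Y).isHomeomorph

end Groth.Agent.S4717
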