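import Groth.Statements.S4724
import Mathlib
-- import your own Groth.Agent.* helpers here

set_option autoImplicit false
set_option backward.isDefEq.respectTransparency false
universe u
open EGA4

open CategoryTheory CategoryTheory.Limits AlgebraicGeometry
namespace Groth.Agent.S4724

/-- Let (A_i) be a directed system of commutative rings with direct limit A. Then the nilradical of A is
the supremum of the extensions to A of the nilradicals of the A_i; in particular, if every A_i is
reduced then A is reduced. -/
theorem result (ι : Type u) [Preorder ι] [Nonempty ι] [IsDirectedOrder ι] (G : ι → Type u)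
    [∀ i, CommRing (G i)] (f : ∀ i j, i ≤ j → G i →+* G j) [DirectedSystem G (fun i j h ↦ f i j h)] :
    nilradical (Ring.DirectLimit G (fun i j h ↦ f i j h)) =
        ⨆ i, (nilradical (G i)).map (Ring.DirectLimit.of G (fun i j h ↦ f i j h) i) ∧
      ((∀ i, IsReduced (G i)) → IsReduced (Ring.DirectLimit G (fun i j h ↦ f i j h))) := by
  have key : nilradical (Ring.DirectLimit G (fun i j h ↦ f i j h)) =
      ⨆ i, (nilradical (G i)).map (Ring.DirectLimit.of G (fun i j h ↦ f i j h) i) := by
    refine le_antisymm (fun z hz => ?_) (iSup_le fun i => Ideal.map_le_iff_le_comap.2 fun a ha =>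
      mem_nilradical.2 (IsNilpotent.map (mem_nilradical.1 ha) _))
    obtain ⟨n, hn⟩ := mem_nilradical.1 hz
    obtain ⟨i, x, rfl⟩ := Ring.DirectLimit.exists_of z
    rw [← map_pow] at hn
    obtain ⟨j, hij, hj⟩ := Ring.DirectLimit.of.zero_exact hn
    rw [← Ring.DirectLimit.of_f (G := G) (f := fun i j h ↦ f i j h) hij]
    exact Ideal.mem_iSup_of_mem j (Ideal.mem_map_of_mem _ (mem_nilradical.2 ⟨n, by rw [← map_pow]; exact hj⟩))
  refine ⟨key, fun h => ⟨fun z hz => ?_⟩⟩
  have := mem_nilradical.2 hz
  rw [key, show (⨆ i, (nilradical (G i)).map (Ring.DirectLimit.of G (fun i j h ↦ f i j h) i)) = ⊥ from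
    iSup_eq_bot.2 fun i => by haveI := h i; rw [nilradical_eq_zero]; exact Ideal.map_bot] at this
  exact this

end Groth.Agent.S4724
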