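import Groth.Statements.S4725
import Mathlib.Algebra.Colimit.Ring

set_option autoImplicit false
set_option linter.style.haveILetI false
universe u
open EGA4

namespace Groth.Agent.S4725

/-- The direct limit of a nonempty directed system of commutative integral domains is an integral domain
(no injectivity of the transition maps is assumed). -/
theorem result (ι : Type u) [Preorder ι] [Nonempty ι] [IsDirectedOrder ι] (G : ι → Type u)
    [∀ i, CommRing (G i)] (f : ∀ i j, i ≤ j → G i →+* G j) [DirectedSystem G (fun i j h ↦ f i j h)]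
    [∀ i, IsDomain (G i)] : IsDomain (Ring.DirectLimit G (fun i j h ↦ f i j h)) := by
  have hnt : Nontrivial (Ring.DirectLimit G fun i j h ↦ f i j h) := by
    obtain ⟨i⟩ := ‹Nonempty ι›
    refine ⟨0, 1, fun h => ?_⟩
    obtain ⟨k, hik, hk⟩ := Ring.DirectLimit.of.zero_exact (f' := f) (i := i) (x := (1 : G i))
      (by rw [map_one]; exact h.symm)
    rw [map_one] at hk
    exact one_ne_zero hk
  suffices NoZeroDivisors (Ring.DirectLimit G fun i j h ↦ f i j h) from NoZeroDivisors.to_isDomain _
  refine ⟨fun {a b} hab => ?_⟩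
  obtain ⟨i, x, rfl⟩ := Ring.DirectLimit.exists_of a
  obtain ⟨j, y, rfl⟩ := Ring.DirectLimit.exists_of b
  obtain ⟨k, hik, hjk⟩ := exists_ge_ge i j
  rw [← Ring.DirectLimit.of_f hik x, ← Ring.DirectLimit.of_f hjk y, ← map_mul] at hab
  obtain ⟨l, hkl, h0⟩ := Ring.DirectLimit.of.zero_exact hab
  rw [map_mul] at h0
  rcases mul_eq_zero.mp h0 with h | h
  · left
    rw [← Ring.DirectLimit.of_f hik x, ← Ring.DirectLimit.of_f hkl, h, map_zero]
  · right
    rw [← Ring.DirectLimit.of_f hjk y, ← Ring.DirectLimit.of_f hkl, h, map_zero]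

end Groth.Agent.S4725
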