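import Groth.Statements.S4727
import Mathlib

set_option autoImplicit false
set_option backward.isDefEq.respectTransparency false
set_option backward.isDefEq.respectTransparency.types false
universe u
open EGA4

namespace Groth.Agent.S4727

/-- Let A be a commutative ring, B an A-algebra and N an ideal of B all of whose elements are nilpotent.
Then the integral closure of A in B is the inverse image, under the canonical map B → B/N, of the
integral closure of A in B/N: an element of B whose image in B/N is integral over A is itself
integral over A. -/
theorem result (A B : Type u) [CommRing A] [CommRing B] [Algebra A B]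
    (N : Ideal B) (hN : ∀ x ∈ N, IsNilpotent x) :
    (integralClosure A B).toSubring =
      (integralClosure A (B ⧸ N)).toSubring.comap (Ideal.Quotient.mk N) := by
  ext x
  refine ⟨fun h => (show IsIntegral A x from h).map (Ideal.Quotient.mkₐ A N), fun h => ?_⟩
  obtain ⟨p, hp, hp0⟩ := (show IsIntegral A (Ideal.Quotient.mkₐ A N x) from h)
  have : Polynomial.aeval x p ∈ N := by
    rw [← Ideal.Quotient.eq_zero_iff_mem]
    exact (Polynomial.aeval_algHom_apply (Ideal.Quotient.mkₐ A N) x p).symm.trans hp0
  obtain ⟨k, hk⟩ := hN _ this
  exact ⟨p ^ k, hp.pow k, by rw [Polynomial.eval₂_pow]; exact hk⟩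

end Groth.Agent.S4727
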