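import Groth.Statements.S4729
import Mathlib

set_option autoImplicit false
set_option linter.style.haveILetI false
universe u
open EGA4

namespace Groth.Agent.S4729

/-- Let A be a commutative ring, M a finite A-module and p ⊆ q prime ideals of A (so that p is a
generization of q). Then the dimension of the A_p-module M_p is at most the dimension of the
A_q-module M_q. -/
theorem result (A : Type u) [CommRing A] (M : Type u) [AddCommGroup M] [Module A M]
    [Module.Finite A M] (p q : Ideal A) [p.IsPrime] [q.IsPrime] (hpq : p ≤ q) :
    Module.supportDim (Localization.AtPrime p) (LocalizedModule p.primeCompl M) ≤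
      Module.supportDim (Localization.AtPrime q) (LocalizedModule q.primeCompl M) := by
  classical
  have hP : ∀ r : PrimeSpectrum (Localization.AtPrime p),
      r.asIdeal.comap (algebraMap A (Localization.AtPrime p)) ≤ q := fun r =>
    le_trans (by
      have h : Disjoint (p.primeCompl : Set A) (r.asIdeal.comap (algebraMap A (Localization.AtPrime p))) :=
        ((IsLocalization.isPrime_iff_isPrime_disjoint p.primeCompl (Localization.AtPrime p) r.asIdeal).mp r.2).2
      intro a ha
      by_contra hap
      exact Set.disjoint_left.mp h hap ha) hpq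
  let φ : PrimeSpectrum (Localization.AtPrime p) → PrimeSpectrum (Localization.AtPrime q) := fun r =>
    ⟨(r.asIdeal.comap (algebraMap A (Localization.AtPrime p))).map (algebraMap A (Localization.AtPrime q)),
      IsLocalization.isPrime_of_isPrime_disjoint q.primeCompl _ _ inferInstance
        (Set.disjoint_left.mpr fun a ha hr => ha (hP r hr))⟩
  have hφc : ∀ r, (φ r).asIdeal.comap (algebraMap A (Localization.AtPrime q)) =
      r.asIdeal.comap (algebraMap A (Localization.AtPrime p)) := fun r =>
    IsLocalization.comap_map_of_isPrime_disjoint q.primeCompl _ inferInstance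
      (Set.disjoint_left.mpr fun a ha hr => ha (hP r hr))
  have hsupp : ∀ r, r ∈ Module.support (Localization.AtPrime p) (LocalizedModule p.primeCompl M) →
      φ r ∈ Module.support (Localization.AtPrime q) (LocalizedModule q.primeCompl M) := by
    intro r hr
    have h1 : Module.annihilator A M ≤ r.asIdeal.comap (algebraMap A (Localization.AtPrime p)) := by
      intro a ha
      refine Module.annihilator_le_of_mem_support hr (Module.mem_annihilator.mpr fun z => ?_)
      induction z using LocalizedModule.induction_on with
      | h m s =>
        rw [algebraMap_smul, LocalizedModule.smul'_mk, Module.mem_annihilator.mp ha m, LocalizedModule.zero_mk]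
    rw [Module.mem_support_iff_of_finite]
    intro x hx
    obtain ⟨a, s, rfl⟩ := IsLocalization.exists_mk'_eq q.primeCompl x
    obtain ⟨g, hg⟩ := (Module.finite_def.mp ‹Module.Finite A M›)
    have ha : ∀ m : M, ∃ t ∈ q.primeCompl, t • (a • m) = 0 := by
      intro m
      have h := Module.mem_annihilator.mp hx (LocalizedModule.mk m 1)
      have h2 : algebraMap A (Localization.AtPrime q) a • LocalizedModule.mk m (1 : q.primeCompl) = 0 := by
        rw [← IsLocalization.mk'_spec (Localization.AtPrime q) a s, mul_comm, mul_smul, h, smul_zero]
      rw [algebraMap_smul, LocalizedModule.smul'_mk] at h2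
      obtain ⟨t, ht⟩ := (IsLocalizedModule.eq_zero_iff q.primeCompl (f := LocalizedModule.mkLinearMap q.primeCompl M)).mp h2
      exact ⟨t, t.2, ht⟩
    choose t ht ht0 using ha
    let T := ∏ m ∈ g, t m
    have hTq : T ∈ q.primeCompl := Submonoid.prod_mem _ fun m _ => ht m
    have hTa : T * a ∈ Module.annihilator A M := by
      rw [← Submodule.annihilator_top, ← hg, Submodule.mem_annihilator_span]
      intro m
      obtain ⟨c, hc⟩ := Finset.dvd_prod_of_mem t (show m.1 ∈ g from m.2)
      rw [show T = t m.1 * c from hc, mul_comm (t m.1) c, mul_assoc, mul_smul, mul_smul, ht0, smul_zero]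
    have hP' := h1 hTa
    have : a ∈ r.asIdeal.comap (algebraMap A (Localization.AtPrime p)) :=
      ((Ideal.IsPrime.comap _).mem_or_mem hP').resolve_left fun h => hTq (hP r h)
    exact Ideal.mem_of_dvd _ ⟨IsLocalization.mk' _ (1 : A) s, IsLocalization.mk'_eq_mul_mk'_one a s⟩
      (Ideal.mem_map_of_mem _ this)
  refine Order.krullDim_le_of_strictMono (fun r => ⟨φ r.1, hsupp r.1 r.2⟩) fun r r' h => ?_
  have hlt : r.1.asIdeal < r'.1.asIdeal := h
  refine lt_of_le_of_ne (Ideal.map_mono (Ideal.comap_mono hlt.le)) fun he => hlt.ne ?_
  have h2 : r.1.asIdeal.comap (algebraMap A (Localization.AtPrime p)) = r'.1.asIdeal.comap (algebraMap A (Localization.AtPrime p)) := by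
    rw [← hφc r.1, ← hφc r'.1]
    exact congrArg (fun z => z.1.asIdeal.comap (algebraMap A (Localization.AtPrime q))) he
  exact (IsLocalization.map_comap p.primeCompl (Localization.AtPrime p) r.1.asIdeal).symm.trans
    ((congrArg (Ideal.map (algebraMap A (Localization.AtPrime p))) h2).trans
      (IsLocalization.map_comap p.primeCompl (Localization.AtPrime p) r'.1.asIdeal))

end Groth.Agent.S4729
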