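import Groth.Statements.S4762
import Groth.Agent.Lim.Topo
import Mathlib.AlgebraicGeometry.Morphisms.UniversallyOpen
import Mathlib.AlgebraicGeometry.AffineTransitionLimit
import Mathlib.Topology.Constructible
import Mathlib.Topology.LocallyClosed

set_option autoImplicit false
universe u
open CategoryTheory AlgebraicGeometry
open Lim8

namespace Groth.Agent.S4762
open CategoryTheory.Limits TopologicalSpace Topology Groth.Agent.Lim.Topo

/-- Let S = lim S_i be a cofiltered limit of schemes with affine transition maps, let S_{i₁} be a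
quasi-compact stage and Z₁ a constructible subset of S_{i₁}. Then the preimage of Z₁ in S is locally
closed if and only if, for some index j over i₁, the preimage of Z₁ in S_j is locally closed. -/
theorem result {I : Type u} [SmallCategory I] [IsCofiltered I]
    (D : I ⥤ Scheme.{u}) (c : Limits.Cone D) (hc : Limits.IsLimit c)
    [∀ (i j : I) (f : i ⟶ j), IsAffineHom (D.map f)] (i₁ : I)
    [CompactSpace (D.obj i₁)] (Z₁ : Set (D.obj i₁)) (hZ : Topology.IsConstructible Z₁) :
    IsLocallyClosed (⇑(c.π.app i₁) ⁻¹' Z₁ : Set c.pt) ↔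
      ∃ (j : I) (φ : j ⟶ i₁), IsLocallyClosed (⇑(D.map φ) ⁻¹' Z₁) := by
  constructor
  · rintro ⟨U, F, hU, hF, he⟩
    have hK : IsCompact (c.π.app i₁ ⁻¹' Z₁) := by
      simpa using isCompact_preimage_inter D c hc (W := ⊤) (by simpa using isCompact_univ) hZ.isLocallyConstructible
    choose! O hO hOx hOU using fun x (hx : x ∈ c.π.app i₁ ⁻¹' Z₁) =>
      c.pt.isBasis_affineOpens.exists_subset_of_mem_open (he.subset hx).1 hU
    obtain ⟨t, htK, ht⟩ := hK.elim_nhds_subcover O fun x hx =>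
      (c.pt.isBasis_affineOpens.isOpen (hO x hx)).mem_nhds (hOx x hx)
    let U₁ : c.pt.Opens := ⟨⋃ x ∈ t, O x, isOpen_biUnion fun x hx => c.pt.isBasis_affineOpens.isOpen (hO x (htK x hx))⟩
    have hU₁ : IsCompact (U₁ : Set c.pt) := t.isCompact_biUnion fun x hx => by
      obtain ⟨A, hA, hAO⟩ := hO x (htK x hx)
      exact hAO ▸ IsAffineOpen.isCompact hA
    obtain ⟨k, V, hV, hVU⟩ := exists_preimage_eq D c hc U₁ hU₁
    obtain ⟨l, a, b, -⟩ := IsCofilteredOrEmpty.cone_objs i₁ k
    have : CompactSpace (D.obj l) := QuasiCompact.compactSpace_of_compactSpace (D.map a)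
    have hx : ∀ x : c.pt, D.map a (c.π.app l x) = c.π.app i₁ x ∧ D.map b (c.π.app l x) = c.π.app k x :=
      fun x => by simp [← Scheme.Hom.comp_apply]
    have hW : IsCompact ((D.map b ⁻¹ᵁ V : (D.obj l).Opens) : Set (D.obj l)) := (D.map b).isCompact_preimage hV
    have hZl : IsLocallyConstructible (D.map a ⁻¹' Z₁) := isLocallyConstructible_preimage _ hZ.isLocallyConstructible
    have hmem : ∀ x : c.pt, c.π.app l x ∈ D.map b ⁻¹ᵁ V ↔ x ∈ ⋃ x ∈ t, O x := fun x => by
      have := SetLike.ext_iff.mp hVU x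
      simpa [(hx x).2, U₁] using this
    obtain ⟨j₁, φ₁, h₁⟩ := eventually_isOpen D c hc hW (eventually_subset.isLocallyConstructible_compl hZl) (by
      have h1 : c.π.app l ⁻¹' ((D.map b ⁻¹ᵁ V : (D.obj l).Opens) ∩ (D.map a ⁻¹' Z₁)ᶜ) = (⋃ x ∈ t, O x) ∩ Fᶜ := by
        ext x
        simp only [Set.mem_preimage, Set.mem_inter_iff, SetLike.mem_coe, hmem, Set.mem_compl_iff, (hx x).1]
        refine and_congr_right fun hxO => not_congr ?_
        have hxU : x ∈ U := by
          obtain ⟨y, hy, hxy⟩ := Set.mem_iUnion₂.mp hxO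
          exact hOU y (htK y hy) hxy
        exact ⟨fun h => (he.subset h).2, fun h => he.superset ⟨hxU, h⟩⟩
      rw [h1]
      exact U₁.2.inter hF.isOpen_compl)
    obtain ⟨j₂, φ₂, h₂⟩ := eventually_empty D c hc (W := ⊤) (by simpa using isCompact_univ) hZl
      (D.map b ⁻¹ᵁ V).2.isClosed_compl fun x _ hxZ hxC => hxC ((hmem x).mpr (ht (by simpa [(hx x).1] using hxZ)))
    obtain ⟨j, p, q, hpq⟩ := IsCofiltered.cospan φ₁ φ₂
    refine ⟨j, p ≫ φ₁ ≫ a, ?_⟩
    refine ⟨D.map (p ≫ φ₁) ⁻¹' (D.map b ⁻¹ᵁ V : (D.obj l).Opens),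
      (D.map p ⁻¹' (D.map φ₁ ⁻¹' ((D.map b ⁻¹ᵁ V : (D.obj l).Opens) ∩ (D.map a ⁻¹' Z₁)ᶜ)))ᶜ,
      (D.map b ⁻¹ᵁ V).2.preimage (D.map _).continuous, (h₁.preimage (D.map p).continuous).isClosed_compl, ?_⟩
    ext y
    simp only [Set.mem_preimage, D.map_comp, Scheme.Hom.comp_apply, Set.mem_inter_iff, Set.mem_compl_iff, SetLike.mem_coe]
    constructor
    · intro hy
      refine ⟨?_, fun h => h.2 hy⟩
      by_contra hn
      have e : D.map φ₂ (D.map q y) = D.map φ₁ (D.map p y) := by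
        rw [← Scheme.Hom.comp_apply, ← Scheme.Hom.comp_apply, ← D.map_comp, ← D.map_comp, hpq]
      exact h₂ (D.map q y) trivial (by rw [e]; exact hy) (by rw [e]; exact hn)
    · rintro ⟨hy, hn⟩
      exact by_contra fun hz => hn ⟨hy, hz⟩
  · rintro ⟨j, φ, hφ⟩
    have := hφ.preimage (c.π.app j).continuous
    rwa [← Set.preimage_comp, ← TopCat.coe_comp, ← Scheme.Hom.comp_base, c.w] at this

end Groth.Agent.S4762
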