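import Groth.Statements.S4766
import Groth.Agent.Lim.Topo
import Mathlib.AlgebraicGeometry.Morphisms.UniversallyOpen
import Mathlib.AlgebraicGeometry.AffineTransitionLimit
import Mathlib.Topology.Constructible
import Mathlib.Topology.LocallyClosed

set_option autoImplicit false
universe u
open CategoryTheory AlgebraicGeometry
open Lim8

namespace Groth.Agent.S4766
open CategoryTheory.Limits TopologicalSpace Topology Groth.Agent.Lim.Topo

/-- Let S = lim S_i be a cofiltered limit of schemes with affine transition maps and let i be an index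
such that the projection S ⟶ S_j is surjective for every j over i. Then the projection S ⟶ S_i is
universally open if and only if every transition map S_j ⟶ S_i is universally open. This is the case
of universally open morphisms. -/
theorem result {I : Type u} [SmallCategory I] [IsCofiltered I]
    (D : I ⥤ Scheme.{u}) (c : Limits.Cone D) (hc : Limits.IsLimit c)
    [∀ (i j : I) (f : i ⟶ j), IsAffineHom (D.map f)] (i : I)
    (hs : ∀ (j : I) (φ : j ⟶ i), Surjective (c.π.app j)) :
    UniversallyOpen (c.π.app i) ↔ ∀ (j : I) (φ : j ⟶ i), UniversallyOpen (D.map φ) := by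
  haveI : MorphismProperty.IsStableUnderComposition @Surjective := ⟨fun f g hf hg => ⟨by rw [Scheme.Hom.comp_base, TopCat.coe_comp]; exact hg.surj.comp hf.surj⟩⟩
  constructor
  · intro h j φ
    have := hs j φ
    refine ⟨MorphismProperty.universally_mk' _ _ fun {T} g _ => ?_⟩
    have e : pullback.map g (c.π.app i) g (D.map φ) (𝟙 _) (c.π.app j) (𝟙 _) (by simp) (by simp) ≫ pullback.fst g (D.map φ) = pullback.fst g (c.π.app i) := (pullback.lift_fst _ _ _).trans (Category.comp_id _)
    have hm : Surjective (pullback.map g (c.π.app i) g (D.map φ) (𝟙 _) (c.π.app j) (𝟙 _) (by simp) (by simp)) :=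
      MorphismProperty.pullbackMap (P := @Surjective) (i₁ := 𝟙 _) (i₂ := c.π.app j) inferInstance inferInstance (by simp) (by simp)
    intro W hW
    have : (pullback.fst g (D.map φ)) '' W = (pullback.fst g (c.π.app i)) '' ((pullback.map g (c.π.app i) g (D.map φ) (𝟙 _) (c.π.app j) (𝟙 _) (by simp) (by simp)) ⁻¹' W) := by
      rw [← e]; ext t; constructor
      · rintro ⟨w, hw, rfl⟩; obtain ⟨v, rfl⟩ := hm.surj w; exact ⟨v, hw, rfl⟩
      · rintro ⟨v, hv, rfl⟩; exact ⟨_, hv, rfl⟩
    exact this ▸ Scheme.Hom.isOpenMap _ _ (hW.preimage (Scheme.Hom.continuous _))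
  · intro h
    refine ⟨MorphismProperty.universally_mk' _ _ fun {T} t _ => ?_⟩
    have haff : ∀ {a b : Over i} (f : a ⟶ b), IsAffineHom ((bcDiagram D t).map f) :=
      fun f => isAffineHom_bcDiagram_map D t f
    intro W hW
    rw [isOpen_iff_forall_mem_open]
    rintro _ ⟨p₀, hpW, rfl⟩
    obtain ⟨p, rfl⟩ : ∃ p : ↥(pullback (c.π.app i) t), (pullbackSymmetry (c.π.app i) t).hom p = p₀ :=
      ⟨(pullbackSymmetry (c.π.app i) t).inv p₀, by simp [← Scheme.Hom.comp_apply]⟩
    obtain ⟨_, ⟨a, A, hA, rfl⟩, hpA, hAW⟩ :=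
      Opens.isBasis_iff_nbhd.mp (isBasis_preimage_isAffineOpen (bcDiagram D t) (bcCone D c t) (isLimitBcCone D c hc t))
        (U := ⟨(pullbackSymmetry (c.π.app i) t).hom ⁻¹' W, hW.preimage (Scheme.Hom.continuous _)⟩) (x := p) hpW
    let π' : pullback (c.π.app i) t ⟶ pullback (D.map a.hom) t := (bcCone D c t).π.app a
    have hπ' : π' ≫ pullback.snd (D.map a.hom) t = (pullbackSymmetry (c.π.app i) t).hom ≫ pullback.fst t (c.π.app i) := by
      exact ((pullback.lift_snd _ _ _).trans (Category.comp_id _)).trans (by simp)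
    have := hs a.left a.hom
    have hsur : Surjective π' :=
      MorphismProperty.pullbackMap (P := @Surjective) (i₁ := c.π.app a.left) (i₂ := 𝟙 _) inferInstance inferInstance (c.w a.hom).symm (Category.id_comp t).symm
    have hop : IsOpenMap ((pullback.snd (D.map a.hom) t) : _ → _) :=
      have := h a.left a.hom
      Scheme.Hom.isOpenMap _
    refine ⟨(pullback.snd (D.map a.hom) t) '' (SetLike.coe A), ?_, hop _ A.2, ?_⟩
    · rintro _ ⟨z, hz, rfl⟩
      obtain ⟨w, rfl⟩ := hsur.surj z
      refine ⟨(pullbackSymmetry (c.π.app i) t).hom w, hAW hz, ?_⟩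
      rw [← Scheme.Hom.comp_apply, ← Scheme.Hom.comp_apply, hπ']
    · refine ⟨π' p, hpA, ?_⟩
      rw [← Scheme.Hom.comp_apply, ← Scheme.Hom.comp_apply, hπ']

end Groth.Agent.S4766
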