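import Groth.Statements.S4767
import Groth.Agent.Lim.Topo
import Mathlib.AlgebraicGeometry.Morphisms.UniversallyOpen
import Mathlib.AlgebraicGeometry.AffineTransitionLimit
import Mathlib.Topology.Constructible
import Mathlib.Topology.LocallyClosed

set_option autoImplicit false
universe u
open CategoryTheory AlgebraicGeometry
open Lim8

namespace Groth.Agent.S4767
open CategoryTheory.Limits TopologicalSpace Topology Groth.Agent.Lim.Topo

/-- Let S = lim S_i be a cofiltered limit of schemes with affine transition maps, some stage S_{i₀}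
being quasi-compact and quasi-separated, and assume that the underlying topological space of S is
Noetherian. If S is not irreducible, then there is an index i over i₀ such that S_j is not
irreducible for every index j over i. -/
theorem result {I : Type u} [SmallCategory I] [IsCofiltered I]
    (D : I ⥤ Scheme.{u}) (c : Limits.Cone D) (hc : Limits.IsLimit c)
    [∀ (i j : I) (f : i ⟶ j), IsAffineHom (D.map f)] (i₀ : I)
    [CompactSpace (D.obj i₀)] [QuasiSeparatedSpace (D.obj i₀)]
    [TopologicalSpace.NoetherianSpace c.pt] (h : ¬ IrreducibleSpace c.pt) :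
    ∃ (i : I) (_ : i ⟶ i₀), ∀ (j : I) (_ : j ⟶ i), ¬ IrreducibleSpace (D.obj j) := by
  rcases isEmpty_or_nonempty c.pt with hemp | hne
  · obtain ⟨j, φ, hφ⟩ := eventually_empty D c hc (i := i₀) (W := ⊤) (by simpa using isCompact_univ)
      IsLocallyConstructible.univ isClosed_univ fun x => isEmptyElim x
    refine ⟨j, φ, fun k ψ hk => ?_⟩
    obtain ⟨y⟩ := hk.toNonempty
    exact hφ (D.map ψ y) trivial trivial trivial
  · have hp : ¬ IsPreirreducible (Set.univ : Set c.pt) := fun hp =>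
      h { toPreirreducibleSpace := ⟨hp⟩, toNonempty := hne }
    simp only [IsPreirreducible, not_forall] at hp
    obtain ⟨U, V, hU, hV, hUne, hVne, hUV⟩ := hp
    rw [Set.univ_inter] at hUne hVne
    obtain ⟨iU, A, hA, hAU⟩ := exists_preimage_eq D c hc ⟨U, hU⟩ (NoetherianSpace.isCompact U)
    obtain ⟨iV, B, hB, hBV⟩ := exists_preimage_eq D c hc ⟨V, hV⟩ (NoetherianSpace.isCompact V)
    obtain ⟨m, a, b, -⟩ := IsCofilteredOrEmpty.cone_objs iU iV
    obtain ⟨l, p, q, -⟩ := IsCofilteredOrEmpty.cone_objs i₀ m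
    have : QuasiSeparatedSpace (D.obj l) := quasiSeparatedSpace_of_quasiSeparated (D.map p)
    let A' := D.map (q ≫ a) ⁻¹ᵁ A
    let B' := D.map (q ≫ b) ⁻¹ᵁ B
    have hmA : ∀ x, c.π.app l x ∈ A' ↔ x ∈ U := fun x => by
      have := SetLike.ext_iff.mp hAU x
      simpa [A', ← Scheme.Hom.comp_apply] using this
    have hmB : ∀ x, c.π.app l x ∈ B' ↔ x ∈ V := fun x => by
      have := SetLike.ext_iff.mp hBV x
      simpa [B', ← Scheme.Hom.comp_apply] using this
    obtain ⟨j, φ, hφ⟩ := eventually_empty D c hc (i := l) (W := A' ⊓ B')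
      (((D.map (q ≫ a)).isCompact_preimage hA).inter_of_isOpen ((D.map (q ≫ b)).isCompact_preimage hB) A'.2 B'.2)
      IsLocallyConstructible.univ isClosed_univ fun x hx _ _ => hUV ⟨x, trivial, (hmA x).mp hx.1, (hmB x).mp hx.2⟩
    refine ⟨j, φ ≫ p, fun k ψ hk => ?_⟩
    obtain ⟨xU, hxU⟩ := hUne
    obtain ⟨xV, hxV⟩ := hVne
    have hw : ∀ x, D.map (ψ ≫ φ) (c.π.app k x) = c.π.app l x := fun x => by
      rw [← Scheme.Hom.comp_apply, c.w]
    obtain ⟨y, hy⟩ := hk.toPreirreducibleSpace.isPreirreducible_univ _ _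
      ((D.map (ψ ≫ φ) ⁻¹ᵁ A').2) ((D.map (ψ ≫ φ) ⁻¹ᵁ B').2)
      ⟨c.π.app k xU, trivial, (congrArg (· ∈ A') (hw xU)).mpr ((hmA xU).mpr hxU)⟩
      ⟨c.π.app k xV, trivial, (congrArg (· ∈ B') (hw xV)).mpr ((hmB xV).mpr hxV)⟩
    have hy' : D.map φ (D.map ψ y) ∈ A' ⊓ B' := by
      rw [← Scheme.Hom.comp_apply, ← D.map_comp]; exact hy.2
    exact hφ (D.map ψ y) hy' trivial trivial

end Groth.Agent.S4767
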