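import Groth.Statements.S4768
import Groth.Agent.Lim.Topo
import Mathlib.AlgebraicGeometry.Morphisms.UniversallyOpen
import Mathlib.AlgebraicGeometry.AffineTransitionLimit
import Mathlib.Topology.Constructible
import Mathlib.Topology.LocallyClosed

set_option autoImplicit false
universe u
open CategoryTheory AlgebraicGeometry
open Lim8

namespace Groth.Agent.S4768
open CategoryTheory.Limits TopologicalSpace Topology Groth.Agent.Lim.Topo

/-- Let S = lim S_i be a cofiltered limit of schemes with affine transition maps, some stage S_{i₀}
being quasi-compact and quasi-separated. If S is not preconnected (that is, S is the disjoint union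
of two nonempty open subsets), then there is an index i over i₀ such that S_j is not preconnected
for every index j over i. (The published statement assumes the stage only quasi-compact, which is
not enough: over the affine space in infinitely many variables with a doubled origin, the closed
subschemes cut out by the first n coordinates form a system with affine transition maps in which
every stage is connected while the limit consists of two disjoint points. The published proof
descends the two pieces of S to quasi-compact open subsets of a stage and needs their intersection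
to become empty at a later stage, which uses that quasi-compact open subsets of the stage are
constructible; so the stage is taken quasi-separated here, as in part (i).) -/
theorem result {I : Type u} [SmallCategory I] [IsCofiltered I]
    (D : I ⥤ Scheme.{u}) (c : Limits.Cone D) (hc : Limits.IsLimit c)
    [∀ (i j : I) (f : i ⟶ j), IsAffineHom (D.map f)] (i₀ : I)
    [CompactSpace (D.obj i₀)] [QuasiSeparatedSpace (D.obj i₀)] (h : ¬ PreconnectedSpace c.pt) :
    ∃ (i : I) (_ : i ⟶ i₀), ∀ (j : I) (_ : j ⟶ i), ¬ PreconnectedSpace (D.obj j) := by
  rw [preconnectedSpace_iff_clopen] at h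
  push Not at h
  obtain ⟨U, hU, hne, hnu⟩ := h
  have := isAffineHom_π_app D c hc i₀
  have : CompactSpace c.pt := QuasiCompact.compactSpace_of_compactSpace (c.π.app i₀)
  have : QuasiSeparatedSpace c.pt := quasiSeparatedSpace_of_quasiSeparated (c.π.app i₀)
  obtain ⟨i, a, A, hA, rfl⟩ := exists_isConstructible_preimage_eq D c hc (i₀ := i₀)
    (hU.1.isCompact.isConstructible hU.2)
  have : CompactSpace (D.obj i) := QuasiCompact.compactSpace_of_compactSpace (D.map a)
  obtain ⟨j₁, φ₁, h₁⟩ := eventually_isOpen D c hc (W := ⊤) (by simpa using isCompact_univ)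
    hA.isLocallyConstructible (by simpa using hU.2)
  obtain ⟨j₂, φ₂, h₂⟩ := eventually_isOpen D c hc (W := ⊤) (by simpa using isCompact_univ)
    hA.compl.isLocallyConstructible (by simpa using hU.1.isOpen_compl)
  simp only [Opens.coe_top, Set.univ_inter] at h₁ h₂
  obtain ⟨k, p, q, hpq⟩ := IsCofiltered.cospan φ₁ φ₂
  refine ⟨k, p ≫ φ₁ ≫ a, fun j r hj => ?_⟩
  have e : ∀ y : D.obj j, D.map φ₁ (D.map (r ≫ p) y) = D.map φ₂ (D.map (r ≫ q) y) := fun y => by
    simp only [← Scheme.Hom.comp_apply, ← D.map_comp, Category.assoc, hpq]
  let B := D.map (r ≫ p ≫ φ₁) ⁻¹' A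
  have hB : IsClopen B := by
    constructor
    · rw [← isOpen_compl_iff]
      convert h₂.preimage (D.map (r ≫ q)).continuous using 1
      ext y
      simp only [B, Set.mem_preimage, Set.mem_compl_iff]
      rw [← e y, ← Scheme.Hom.comp_apply (D.map (r ≫ p)) (D.map φ₁), ← D.map_comp, Category.assoc]
    · convert h₁.preimage (D.map (r ≫ p)).continuous using 1
      ext y
      simp [B, Scheme.Hom.comp_apply]
  have hx : ∀ x : c.pt, c.π.app j x ∈ B ↔ c.π.app i x ∈ A := fun x => by
    rw [Set.mem_preimage, ← Scheme.Hom.comp_apply, c.w]
  obtain h | h := isClopen_iff.mp hB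
  · obtain ⟨x, hx'⟩ := hne
    exact (h ▸ (hx x).mpr hx' : c.π.app j x ∈ (∅ : Set (D.obj j)))
  · exact hnu (Set.eq_univ_of_forall fun x => (hx x).mp (h ▸ Set.mem_univ _))

end Groth.Agent.S4768
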