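import Groth.Statements.S4769
import Groth.Agent.Lim.Topo
import Mathlib.AlgebraicGeometry.Morphisms.UniversallyOpen
import Mathlib.AlgebraicGeometry.AffineTransitionLimit
import Mathlib.Topology.Constructible
import Mathlib.Topology.LocallyClosed

set_option autoImplicit false
universe u
open CategoryTheory AlgebraicGeometry
open Lim8

namespace Groth.Agent.S4769
open CategoryTheory.Limits TopologicalSpace Topology Groth.Agent.Lim.Topo

/-- Let S = lim S_i be a cofiltered limit of schemes whose transition maps are affine and dominant, some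
stage S_{i₀} being quasi-compact, and assume that the underlying topological space of S is
Noetherian. Then there is an index i over i₀ such that, for every j over i, the map sending an
irreducible component Y of S to the closure of its image under S ⟶ S_j is a bijection from the set
of irreducible components of S onto the set of irreducible components of S_j. -/
theorem result {I : Type u} [SmallCategory I] [IsCofiltered I]
    (D : I ⥤ Scheme.{u}) (c : Limits.Cone D) (hc : Limits.IsLimit c)
    [∀ (i j : I) (f : i ⟶ j), IsAffineHom (D.map f)] (i₀ : I)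
    [CompactSpace (D.obj i₀)] [TopologicalSpace.NoetherianSpace c.pt]
    (hd : ∀ (i j : I) (φ : i ⟶ j), IsDominant (D.map φ)) :
    ∃ (i : I) (_ : i ⟶ i₀), ∀ (j : I) (_ : j ⟶ i),
      Set.BijOn (fun Y : Set c.pt => closure (⇑(c.π.app j) '' (Y : Set c.pt) : Set (D.obj j)))
        (irreducibleComponents c.pt) (irreducibleComponents (D.obj j)) := by
  classical
  have hdd : ∀ j, DenseRange (c.π.app j) := denseRange_π D c hc (fun φ => (hd _ _ φ).denseRange)
  have hfin := NoetherianSpace.finite_irreducibleComponents (α := c.pt)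
  have := hfin.to_subtype
  have hgp : ∀ Z : irreducibleComponents c.pt, ∃ η, IsGenericPoint η (Z : Set c.pt) := fun Z =>
    QuasiSober.sober Z.2.1 (isClosed_of_mem_irreducibleComponents _ Z.2)
  choose η hη using hgp
  obtain ⟨i, a, ha⟩ := exists_common (i := i₀) (ι := irreducibleComponents c.pt × irreducibleComponents c.pt)
    (P := fun P j _ => P.1 = P.2 ∨ ¬ c.π.app j (η P.2) ⤳ c.π.app j (η P.1))
    (fun P j k φ ψ h => h.imp_right fun hn hs => hn (by
      simpa [← Scheme.Hom.comp_apply] using hs.map (D.map ψ).continuous))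
    (fun ⟨P, Q⟩ => by
      rcases eq_or_ne P Q with h | h
      · exact ⟨i₀, 𝟙 _, Or.inl h⟩
      have hns : ¬ η Q ⤳ η P := fun hs => h (Subtype.ext (P.2.eq_of_subset Q.2.1 (by
        rw [← (hη P).def, ← (hη Q).def]
        exact closure_minimal (Set.singleton_subset_iff.mpr hs.mem_closure) isClosed_closure)))
      obtain ⟨U, hU, hPU, hQU⟩ : ∃ U, IsOpen U ∧ η P ∈ U ∧ η Q ∉ U := by
        rw [specializes_iff_forall_open] at hns
        simpa using hns
      obtain ⟨_, ⟨k, A, hA, rfl⟩, hPA, hAU⟩ :=
        Opens.isBasis_iff_nbhd.mp (isBasis_preimage_isAffineOpen D c hc) (U := ⟨U, hU⟩) hPU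
      obtain ⟨l, p, q, -⟩ := IsCofilteredOrEmpty.cone_objs i₀ k
      refine ⟨l, p, Or.inr fun hs => hQU (hAU ?_)⟩
      have hw : ∀ x, D.map q (c.π.app l x) = c.π.app k x := fun x => by rw [← Scheme.Hom.comp_apply, c.w]
      have := (hs.map (D.map q).continuous)
      rw [hw, hw] at this
      exact this.mem_open A.2 hPA)
  refine ⟨i, a, fun j b => ?_⟩
  have hsep : ∀ P Q, P ≠ Q → ¬ c.π.app j (η Q) ⤳ c.π.app j (η P) := fun P Q h hs => by
    rcases ha (P, Q) with h' | h'
    · exact h h'
    · exact h' (by simpa [← Scheme.Hom.comp_apply] using hs.map (D.map b).continuous)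
  have himg : ∀ P : irreducibleComponents c.pt, closure (c.π.app j '' (P : Set c.pt)) = closure {c.π.app j (η P)} :=
    fun P => ((hη P).image (c.π.app j).continuous).def.symm
  have hcov : ∀ y : D.obj j, ∃ P, c.π.app j (η P) ⤳ y := fun y => by
    have hcl : IsClosed (⋃ P, closure {c.π.app j (η P)}) := isClosed_iUnion_of_finite fun P => isClosed_closure
    have hsub : Set.range (c.π.app j) ⊆ ⋃ P, closure {c.π.app j (η P)} := by
      rintro _ ⟨x, rfl⟩
      refine Set.mem_iUnion.mpr ⟨⟨_, irreducibleComponent_mem_irreducibleComponents x⟩, ?_⟩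
      exact (((hη _).specializes mem_irreducibleComponent).map (c.π.app j).continuous).mem_closure
    obtain ⟨P, hP⟩ := Set.mem_iUnion.mp (hcl.closure_subset_iff.mpr hsub ((hdd j).closure_range.symm ▸ Set.mem_univ y))
    exact ⟨P, specializes_iff_mem_closure.mpr hP⟩
  have hmem : ∀ P : irreducibleComponents c.pt, closure {c.π.app j (η P)} ∈ irreducibleComponents (D.obj j) := fun P => by
    refine ⟨isIrreducible_singleton.closure, fun T hT hle => ?_⟩
    obtain ⟨z, hz⟩ := QuasiSober.sober hT.closure isClosed_closure
    obtain ⟨Q, hQ⟩ := hcov z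
    have : c.π.app j (η Q) ⤳ c.π.app j (η P) :=
      hQ.trans (hz.specializes (subset_closure (hle (subset_closure rfl))))
    obtain rfl : P = Q := by_contra fun h => hsep P Q h this
    exact (subset_closure.trans hz.def.symm.subset).trans (closure_minimal (Set.singleton_subset_iff.mpr hQ.mem_closure) isClosed_closure)
  refine ⟨fun P hP => (congrArg (· ∈ irreducibleComponents (D.obj j)) (himg ⟨P, hP⟩)).mpr (hmem _), fun P hP Q hQ he => ?_, fun T hT => ?_⟩
  · replace he := (himg ⟨P, hP⟩).symm.trans (he.trans (himg ⟨Q, hQ⟩))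
    refine congrArg Subtype.val (by_contra fun h => hsep ⟨P, hP⟩ ⟨Q, hQ⟩ h ?_)
    rw [specializes_iff_closure_subset, he]
  · obtain ⟨z, hz⟩ := QuasiSober.sober hT.1 (isClosed_of_mem_irreducibleComponents T hT)
    obtain ⟨P, hP⟩ := hcov z
    refine ⟨P, P.2, (himg P).trans ?_⟩
    exact (hT.eq_of_subset (hmem P).1 (hz.def.symm.subset.trans
      (closure_minimal (Set.singleton_subset_iff.mpr hP.mem_closure) isClosed_closure))).symm

end Groth.Agent.S4769
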