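import Groth.Statements.S4770
import Groth.Agent.Lim.Flat
import Groth.Agent.Cons.FinPres
import Mathlib.AlgebraicGeometry.Morphisms.UnderlyingMap
import Mathlib.AlgebraicGeometry.Morphisms.Flat
import Mathlib.AlgebraicGeometry.Morphisms.FinitePresentation
import Mathlib.Topology.Connected.TotallyDisconnected
import Mathlib.RingTheory.Spectrum.Prime.ConstructibleSet

set_option autoImplicit false
universe u
open CategoryTheory AlgebraicGeometry
open Lim8

namespace Groth.Agent.S4770
open CategoryTheory CategoryTheory.Limits AlgebraicGeometry TopologicalSpace Topology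
open Groth.Agent.Lim.Topo Groth.Agent.Cons.Basic Groth.Agent.Lim.Flat

/-- Let S = lim S_i be a cofiltered limit of schemes whose transition maps are affine and dominant, some
stage S_{i₀} being quasi-compact, and assume that the underlying topological space of S is
Noetherian. Then there is an index i over i₀ such that, for every j over i, the map sending a
connected component C of S to the closure of its image under S ⟶ S_j is a bijection from the set of
connected components of S onto the set of connected components of S_j. -/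
theorem result {I : Type u} [SmallCategory I] [IsCofiltered I]
    (D : I ⥤ Scheme.{u}) (c : Limits.Cone D) (hc : Limits.IsLimit c)
    [∀ (i j : I) (f : i ⟶ j), IsAffineHom (D.map f)] (i₀ : I)
    [CompactSpace (D.obj i₀)] [TopologicalSpace.NoetherianSpace c.pt]
    (hd : ∀ (i j : I) (φ : i ⟶ j), IsDominant (D.map φ)) :
    ∃ (i : I) (_ : i ⟶ i₀), ∀ (j : I) (_ : j ⟶ i),
      Set.BijOn (fun C : Set c.pt => closure (⇑(c.π.app j) '' (C : Set c.pt) : Set (D.obj j)))
        (Set.range (connectedComponent : c.pt → Set c.pt))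
        (Set.range (connectedComponent : D.obj j → Set (D.obj j))) := by
  classical
  have hdd : ∀ j, DenseRange (c.π.app j) := denseRange_π D c hc (fun φ => (hd _ _ φ).denseRange)
  have hfin : (Set.range (connectedComponent : c.pt → Set c.pt)).Finite := by
    refine (NoetherianSpace.finite_irreducibleComponents (α := c.pt)).dependent_image
      (fun Z hZ => connectedComponent (hZ.1.nonempty.some)) |>.subset ?_
    rintro _ ⟨x, rfl⟩
    refine ⟨_, irreducibleComponent_mem_irreducibleComponents x, ?_⟩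
    exact (connectedComponent_eq (((irreducibleComponent_mem_irreducibleComponents x).1.isPreirreducible.isPreconnected).subset_connectedComponent mem_irreducibleComponent (irreducibleComponent_mem_irreducibleComponents x).1.nonempty.some_mem)).symm
  have hopen : ∀ x : c.pt, IsOpen (connectedComponent x) := fun x => by
    have he : connectedComponent x = (⋃ C ∈ (Set.range (connectedComponent : c.pt → Set c.pt)) \ {connectedComponent x}, C)ᶜ := by
      ext y
      simp only [Set.mem_compl_iff, Set.mem_iUnion, Set.mem_sdiff, Set.mem_range, Set.mem_singleton_iff, exists_prop, not_exists, not_and]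
      refine ⟨fun hy C ⟨⟨z, hz⟩, hne⟩ hyC => hne ?_, fun h => ?_⟩
      · rw [← hz] at hyC ⊢; rw [connectedComponent_eq hy, connectedComponent_eq hyC]
      · by_contra hy
        exact h (connectedComponent y) ⟨⟨y, rfl⟩, fun e => hy (e ▸ mem_connectedComponent)⟩ mem_connectedComponent
    rw [he, isOpen_compl_iff]
    exact (hfin.subset Set.sdiff_subset).isClosed_biUnion fun C ⟨⟨z, hz⟩, _⟩ => hz ▸ isClosed_connectedComponent
  have := hfin.to_subtype
  let K := Set.range (connectedComponent : c.pt → Set c.pt)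
  have hKo : ∀ C : K, IsOpen (C : Set c.pt) := fun ⟨C, x, hx⟩ => hx ▸ hopen x
  choose k A hA hAC using fun C : K => exists_preimage_eq D c hc ⟨C, hKo C⟩ (NoetherianSpace.isCompact _)
  cases nonempty_fintype K
  obtain ⟨l, hl⟩ := IsCofiltered.inf_objs_exists (insert i₀ (Finset.univ.image k))
  have a : l ⟶ i₀ := (hl (Finset.mem_insert_self _ _)).some
  have b : ∀ C : K, l ⟶ k C := fun C => (hl (Finset.mem_insert_of_mem (Finset.mem_image.mpr ⟨C, Finset.mem_univ _, rfl⟩))).some
  have : CompactSpace (D.obj l) := QuasiCompact.compactSpace_of_compactSpace (D.map a)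
  let A' : K → (D.obj l).Opens := fun C => D.map (b C) ⁻¹ᵁ A C
  have hm : ∀ C x, c.π.app l x ∈ A' C ↔ x ∈ (C : Set c.pt) := fun C x => by
    have := SetLike.ext_iff.mp (hAC C) x
    simpa [A', ← Scheme.Hom.comp_apply] using this
  obtain ⟨i, φ, hφ⟩ := eventually_empty D c hc (i := l) (W := ⊤) (by simpa using isCompact_univ)
    IsLocallyConstructible.univ (C := (⋃ C, (A' C : Set (D.obj l)))ᶜ) (isOpen_iUnion fun C => (A' C).2).isClosed_compl
    fun x _ _ hx => hx (Set.mem_iUnion.mpr ⟨⟨_, x, rfl⟩, (hm _ x).mpr mem_connectedComponent⟩)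
  refine ⟨i, φ ≫ a, fun j ψ => ?_⟩
  let B : K → Set (D.obj j) := fun C => D.map (ψ ≫ φ) ⁻¹' (A' C : Set (D.obj l))
  have hBm : ∀ C x, c.π.app j x ∈ B C ↔ x ∈ (C : Set c.pt) := fun C x => by
    rw [← hm C x, Set.mem_preimage, ← Scheme.Hom.comp_apply, c.w]; rfl
  have hBo : ∀ C, IsOpen (B C) := fun C => (A' C).2.preimage (D.map (ψ ≫ φ)).continuous
  have hcov : ∀ y, ∃ C, y ∈ B C := fun y => by
    have := hφ (D.map ψ y) trivial trivial
    simp only [Set.mem_compl_iff, not_not, Set.mem_iUnion] at this
    obtain ⟨C, hC⟩ := this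
    exact ⟨C, by simpa [B, Scheme.Hom.comp_apply] using hC⟩
  have hdisj : ∀ C C' y, y ∈ B C → y ∈ B C' → C = C' := fun C C' y hy hy' => by
    obtain ⟨w, hw, hw'⟩ := (hdd j).exists_mem_open ((hBo C).inter (hBo C')) ⟨y, hy, hy'⟩
    obtain ⟨⟨_, x, rfl⟩, ⟨_, x', rfl⟩⟩ := C, C'
    refine Subtype.ext ?_
    exact (connectedComponent_eq ((hBm _ w).mp hw)).trans (connectedComponent_eq ((hBm _ w).mp hw')).symm
  have hBc : ∀ C, IsClosed (B C) := fun C => by
    rw [← isOpen_compl_iff]
    have he : (B C)ᶜ = ⋃ C' : {C' // C' ≠ C}, B C'.1 := by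
      ext y; simp only [Set.mem_compl_iff, Set.mem_iUnion]
      refine ⟨fun hy => ?_, fun ⟨⟨C', hne⟩, hy'⟩ hy => hne (hdisj _ _ y hy' hy)⟩
      obtain ⟨C', hC'⟩ := hcov y
      exact ⟨⟨C', fun e => hy (e ▸ hC')⟩, hC'⟩
    rw [he]; exact isOpen_iUnion fun _ => hBo _
  have himg : ∀ C : K, closure (c.π.app j '' (C : Set c.pt)) = B C := fun C => by
    refine subset_antisymm (closure_minimal (by rintro _ ⟨x, hx, rfl⟩; exact (hBm C x).mpr hx) (hBc C)) fun y hy => ?_
    have hy' := (hBo C).inter_closure ⟨hy, (hdd j).closure_range.symm ▸ Set.mem_univ y⟩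
    refine closure_mono ?_ hy'
    rintro _ ⟨hz, x, rfl⟩
    exact ⟨x, (hBm C x).mp hz, rfl⟩
  have hcc : ∀ C y, y ∈ B C → connectedComponent y = B C := fun C y hy => by
    refine subset_antisymm (IsClopen.connectedComponent_subset ⟨hBc C, hBo C⟩ hy) ?_
    refine IsPreconnected.subset_connectedComponent ?_ hy
    rw [← himg C]
    obtain ⟨_, x, rfl⟩ := C
    exact (isPreconnected_connectedComponent.image _ (c.π.app j).continuous.continuousOn).closure
  refine ⟨fun C hC => ?_, fun C hC C' hC' he => ?_, fun T hT => ?_⟩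
  · obtain ⟨x, rfl⟩ := hC
    exact ⟨c.π.app j x, (hcc ⟨_, x, rfl⟩ _ ((hBm _ x).mpr mem_connectedComponent)).trans (himg _).symm⟩
  · replace he := (himg ⟨C, hC⟩).symm.trans (he.trans (himg ⟨C', hC'⟩))
    obtain ⟨x, rfl⟩ := hC
    exact congrArg Subtype.val (hdisj ⟨_, x, rfl⟩ ⟨C', hC'⟩ _ ((hBm _ x).mpr mem_connectedComponent) (he ▸ (hBm _ x).mpr mem_connectedComponent))
  · obtain ⟨y, rfl⟩ := hT
    obtain ⟨C, hC⟩ := hcov y
    exact ⟨C, C.2, (himg C).trans (hcc C y hC).symm⟩

end Groth.Agent.S4770
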