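import Groth.Statements.S4771
import Groth.Agent.Lim.Topo
import Mathlib.AlgebraicGeometry.Morphisms.UniversallyOpen
import Mathlib.AlgebraicGeometry.AffineTransitionLimit
import Mathlib.Topology.Constructible
import Mathlib.Topology.LocallyClosed

set_option autoImplicit false
universe u
open CategoryTheory AlgebraicGeometry
open Lim8

namespace Groth.Agent.S4771
open CategoryTheory.Limits TopologicalSpace Topology Groth.Agent.Lim.Topo

/-- Let S = lim S_i be a cofiltered limit of schemes whose transition maps are affine and dominant, some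
stage S_{i₀} being quasi-compact, and assume that the underlying topological space of S is
Noetherian. Then S is irreducible if and only if there is an index i over i₀ such that S_j is
irreducible for every j over i. -/
theorem result {I : Type u} [SmallCategory I] [IsCofiltered I]
    (D : I ⥤ Scheme.{u}) (c : Limits.Cone D) (hc : Limits.IsLimit c)
    [∀ (i j : I) (f : i ⟶ j), IsAffineHom (D.map f)] (i₀ : I)
    [CompactSpace (D.obj i₀)] [TopologicalSpace.NoetherianSpace c.pt]
    (hd : ∀ (i j : I) (φ : i ⟶ j), IsDominant (D.map φ)) :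
    IrreducibleSpace c.pt ↔ ∃ (i : I) (_ : i ⟶ i₀), ∀ (j : I) (_ : j ⟶ i), IrreducibleSpace (D.obj j) := by
  have hdd : ∀ j, DenseRange (c.π.app j) := denseRange_π D c hc (fun φ => (hd _ _ φ).denseRange)
  constructor
  · intro h
    refine ⟨i₀, 𝟙 _, fun j _ => ?_⟩
    have h1 := ((IrreducibleSpace.isIrreducible_univ c.pt).image _ (c.π.app j).continuous.continuousOn).closure
    rw [Set.image_univ, (hdd j).closure_range] at h1
    exact (irreducibleSpace_def _).mpr h1
  · rintro ⟨i, a, h⟩
    have hne : Nonempty c.pt := by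
      by_contra hemp
      rw [not_nonempty_iff] at hemp
      have : CompactSpace (D.obj i) := QuasiCompact.compactSpace_of_compactSpace (D.map a)
      obtain ⟨j, φ, hφ⟩ := eventually_empty D c hc (i := i) (W := ⊤) (by simpa using isCompact_univ)
        IsLocallyConstructible.univ isClosed_univ fun x => isEmptyElim x
      obtain ⟨y⟩ := (h j φ).toNonempty
      exact hφ y trivial trivial trivial
    have : PreirreducibleSpace c.pt := by
      refine ⟨fun U V hU hV ⟨x, _, hxU⟩ ⟨y, _, hyV⟩ => ?_⟩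
      obtain ⟨_, ⟨iU, A, hA, rfl⟩, hxA, hAU⟩ :=
        Opens.isBasis_iff_nbhd.mp (isBasis_preimage_isAffineOpen D c hc) (U := ⟨U, hU⟩) hxU
      obtain ⟨_, ⟨iV, B, hB, rfl⟩, hyB, hBV⟩ :=
        Opens.isBasis_iff_nbhd.mp (isBasis_preimage_isAffineOpen D c hc) (U := ⟨V, hV⟩) hyV
      obtain ⟨m, a', b', -⟩ := IsCofilteredOrEmpty.cone_objs iU iV
      obtain ⟨l, p, q, -⟩ := IsCofilteredOrEmpty.cone_objs i m
      have hw : ∀ x, D.map (q ≫ a') (c.π.app l x) = c.π.app iU x ∧ D.map (q ≫ b') (c.π.app l x) = c.π.app iV x :=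
        fun x => by simp [← Scheme.Hom.comp_apply]
      obtain ⟨z, -, hzA, hzB⟩ := (h l p).toPreirreducibleSpace.isPreirreducible_univ _ _
        (D.map (q ≫ a') ⁻¹ᵁ A).2 (D.map (q ≫ b') ⁻¹ᵁ B).2
        ⟨c.π.app l x, trivial, (congrArg (· ∈ A) (hw x).1).mpr hxA⟩
        ⟨c.π.app l y, trivial, (congrArg (· ∈ B) (hw y).2).mpr hyB⟩
      obtain ⟨w, hwA, hwB⟩ := (hdd l).exists_mem_open
        ((D.map (q ≫ a') ⁻¹ᵁ A).2.inter (D.map (q ≫ b') ⁻¹ᵁ B).2) ⟨z, hzA, hzB⟩
      exact ⟨w, trivial, hAU ((congrArg (· ∈ A) (hw w).1).mp hwA), hBV ((congrArg (· ∈ B) (hw w).2).mp hwB)⟩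
    exact { this with toNonempty := hne }

end Groth.Agent.S4771
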