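import Groth.Statements.S4772
import Groth.Agent.Lim.Topo
import Mathlib.AlgebraicGeometry.Morphisms.UniversallyOpen
import Mathlib.AlgebraicGeometry.AffineTransitionLimit
import Mathlib.Topology.Constructible
import Mathlib.Topology.LocallyClosed

set_option autoImplicit false
universe u
open CategoryTheory AlgebraicGeometry
open Lim8

namespace Groth.Agent.S4772
open CategoryTheory.Limits TopologicalSpace Topology Groth.Agent.Lim.Topo

/-- Let S = lim S_i be a cofiltered limit of schemes whose transition maps are affine and dominant, some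
stage S_{i₀} being quasi-compact. Then S is connected (in particular nonempty) if and only if there
is an index i over i₀ such that S_j is connected for every j over i. -/
theorem result {I : Type u} [SmallCategory I] [IsCofiltered I]
    (D : I ⥤ Scheme.{u}) (c : Limits.Cone D) (hc : Limits.IsLimit c)
    [∀ (i j : I) (f : i ⟶ j), IsAffineHom (D.map f)] (i₀ : I)
    [CompactSpace (D.obj i₀)] (hd : ∀ (i j : I) (φ : i ⟶ j), IsDominant (D.map φ)) :
    ConnectedSpace c.pt ↔ ∃ (i : I) (_ : i ⟶ i₀), ∀ (j : I) (_ : j ⟶ i), ConnectedSpace (D.obj j) := by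
  have hdd : ∀ j, DenseRange (c.π.app j) := denseRange_π D c hc (fun φ => (hd _ _ φ).denseRange)
  constructor
  · intro h
    refine ⟨i₀, 𝟙 _, fun j _ => ?_⟩
    have h1 := ((connectedSpace_iff_univ.mp h).image _ (c.π.app j).continuous.continuousOn).closure
    rw [Set.image_univ, (hdd j).closure_range] at h1
    exact connectedSpace_iff_univ.mpr h1
  · rintro ⟨i, a, h⟩
    have : CompactSpace (D.obj i) := QuasiCompact.compactSpace_of_compactSpace (D.map a)
    have hne : Nonempty c.pt := by
      by_contra hemp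
      rw [not_nonempty_iff] at hemp
      obtain ⟨j, φ, hφ⟩ := eventually_empty D c hc (i := i) (W := ⊤) (by simpa using isCompact_univ)
        IsLocallyConstructible.univ isClosed_univ fun x => isEmptyElim x
      obtain ⟨y⟩ := (h j φ).toNonempty
      exact hφ y trivial trivial trivial
    have := isAffineHom_π_app D c hc i
    have : CompactSpace c.pt := QuasiCompact.compactSpace_of_compactSpace (c.π.app i)
    have : PreconnectedSpace c.pt := by
      rw [preconnectedSpace_iff_clopen]
      intro U hU
      obtain ⟨iU, A, hA, hAU⟩ := exists_preimage_eq D c hc ⟨U, hU.2⟩ hU.1.isCompact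
      obtain ⟨iV, B, hB, hBV⟩ := exists_preimage_eq D c hc ⟨Uᶜ, hU.1.isOpen_compl⟩ hU.2.isClosed_compl.isCompact
      obtain ⟨m, a', b', -⟩ := IsCofilteredOrEmpty.cone_objs iU iV
      obtain ⟨l, p, q, -⟩ := IsCofilteredOrEmpty.cone_objs i m
      let A' := D.map (q ≫ a') ⁻¹ᵁ A
      let B' := D.map (q ≫ b') ⁻¹ᵁ B
      have hmA : ∀ x, c.π.app l x ∈ A' ↔ x ∈ U := fun x => by
        have := SetLike.ext_iff.mp hAU x
        simpa [A', ← Scheme.Hom.comp_apply] using this
      have hmB : ∀ x, c.π.app l x ∈ B' ↔ x ∉ U := fun x => by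
        have := SetLike.ext_iff.mp hBV x
        simpa [B', ← Scheme.Hom.comp_apply] using this
      have : CompactSpace (D.obj l) := QuasiCompact.compactSpace_of_compactSpace (D.map p)
      obtain ⟨j, φ, hφ⟩ := eventually_empty D c hc (i := l) (W := ⊤) (by simpa using isCompact_univ)
        IsLocallyConstructible.univ (A' ⊔ B').2.isClosed_compl fun x _ _ hx => hx (by
          rcases em (x ∈ U) with hx' | hx'
          · exact Or.inl ((hmA x).mpr hx')
          · exact Or.inr ((hmB x).mpr hx'))
      have hconn := h j (φ ≫ p)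
      have hw : ∀ x, D.map φ (c.π.app j x) = c.π.app l x := fun x => by rw [← Scheme.Hom.comp_apply, c.w]
      have hdisj : ∀ y, D.map φ y ∈ A' → D.map φ y ∈ B' → False := fun y hy hy' => by
        obtain ⟨w, hwA, hwB⟩ := (hdd j).exists_mem_open
          ((D.map φ ⁻¹ᵁ A').2.inter (D.map φ ⁻¹ᵁ B').2) ⟨y, hy, hy'⟩
        exact (hmB w).mp ((congrArg (· ∈ B') (hw w)).mp hwB) ((hmA w).mp ((congrArg (· ∈ A') (hw w)).mp hwA))
      have hcl : IsClopen ((D.map φ ⁻¹ᵁ A' : (D.obj j).Opens) : Set (D.obj j)) := by
        refine ⟨?_, (D.map φ ⁻¹ᵁ A').2⟩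
        rw [← isOpen_compl_iff]
        convert (D.map φ ⁻¹ᵁ B').2 using 1
        ext y
        refine ⟨fun hy => ?_, fun hy hy' => hdisj y hy' hy⟩
        exact (not_not.mp (hφ y trivial trivial)).resolve_left hy
      obtain he | he := isClopen_iff.mp hcl
      · exact Or.inl (Set.eq_empty_of_forall_notMem fun x hx =>
          (he ▸ (congrArg (· ∈ A') (hw x)).mpr ((hmA x).mpr hx) : c.π.app j x ∈ (∅ : Set (D.obj j))))
      · exact Or.inr (Set.eq_univ_of_forall fun x => (hmA x).mp ((congrArg (· ∈ A') (hw x)).mp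
          (he ▸ Set.mem_univ _ : c.π.app j x ∈ ((D.map φ ⁻¹ᵁ A' : (D.obj j).Opens) : Set (D.obj j)))))
    exact { this with toNonempty := hne }

end Groth.Agent.S4772
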