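import Groth.Statements.S4779
import Groth.Agent.Lim.Topo
import Mathlib.AlgebraicGeometry.Morphisms.UniversallyOpen
import Mathlib.AlgebraicGeometry.AffineTransitionLimit
import Mathlib.Topology.Constructible
import Mathlib.Topology.LocallyClosed

set_option autoImplicit false
universe u
open CategoryTheory AlgebraicGeometry
open Lim8

namespace Groth.Agent.S4779
open CategoryTheory.Limits TopologicalSpace Topology Groth.Agent.Lim.Topo

/-- Let S = lim S_i be a cofiltered limit of schemes with affine transition maps, let f₀ : X₀ ⟶ Y₀ be a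
morphism of schemes over a stage S_{i₀}, and let f : X ⟶ Y be its base change along S ⟶ S_{i₀} (all
base changes are expressed by pullback squares). If there is an index i over i₀ such that, for every
j over i, the base change f_j : X_j ⟶ Y_j of f₀ along S_j ⟶ S_{i₀} is an open map, then f is an open
map. (The corresponding statement for universally open morphisms follows from this one by base
change.) -/
theorem result {I : Type u} [SmallCategory I] [IsCofiltered I]
    (D : I ⥤ Scheme.{u}) (c : Limits.Cone D) (hc : Limits.IsLimit c)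
    [∀ (i j : I) (f : i ⟶ j), IsAffineHom (D.map f)] (i₀ : I)
    {X₀ Y₀ : Scheme.{u}} (f₀ : X₀ ⟶ Y₀) (g₀ : Y₀ ⟶ D.obj i₀)
    {X Y : Scheme.{u}} (f : X ⟶ Y) (g : Y ⟶ c.pt) (qY : Y ⟶ Y₀) (qX : X ⟶ X₀)
    (hY : IsPullback qY g g₀ (c.π.app i₀)) (hX : IsPullback qX f f₀ qY)
    (h : ∃ (i : I) (φ : i ⟶ i₀), ∀ (j : I) (ψ : j ⟶ i) (Xj Yj : Scheme.{u}) (fj : Xj ⟶ Yj)
      (gj : Yj ⟶ D.obj j) (pY : Yj ⟶ Y₀) (pX : Xj ⟶ X₀),
      IsPullback pY gj g₀ (D.map (ψ ≫ φ)) → IsPullback pX fj f₀ pY → IsOpenMap ⇑fj) :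
    IsOpenMap ⇑f := by
  obtain ⟨i, φ, h⟩ := h
  let t := pullback.snd (f₀ ≫ g₀) (D.map φ)
  have haff : ∀ {a b : Over i} (f : a ⟶ b), IsAffineHom ((bcDiagram D t).map f) :=
    fun f => isAffineHom_bcDiagram_map D t f
  have hXc : IsPullback qX (f ≫ g) (f₀ ≫ g₀) (c.π.app i₀) := hX.paste_vert hY
  have hXi : IsPullback (f ≫ g) (pullback.lift qX (f ≫ g ≫ c.π.app i) (by
      rw [hXc.w, Category.assoc, Category.assoc, Category.assoc, c.w]) : X ⟶ pullback (f₀ ≫ g₀) (D.map φ))
      (c.π.app i) t := by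
    refine IsPullback.flip (IsPullback.of_right ?_ ?_ (IsPullback.of_hasPullback (f₀ ≫ g₀) (D.map φ)))
    · rw [pullback.lift_fst, c.w]; exact hXc
    · rw [pullback.lift_snd]; simp [t]
  intro W hW
  rw [isOpen_iff_forall_mem_open]
  rintro _ ⟨x, hxW, rfl⟩
  let e := hXi.isoPullback
  obtain ⟨_, ⟨a, A, hA, rfl⟩, hpA, hAW⟩ :=
    Opens.isBasis_iff_nbhd.mp (isBasis_preimage_isAffineOpen (bcDiagram D t) (bcCone D c t) (isLimitBcCone D c hc t))
      (U := ⟨e.inv ⁻¹' W, hW.preimage (Scheme.Hom.continuous _)⟩) (x := e.hom x)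
      (by change e.inv (e.hom x) ∈ W; simpa [← Scheme.Hom.comp_apply] using hxW)
  let Yj := pullback g₀ (D.map (a.hom ≫ φ))
  let Xj := pullback (D.map a.hom) t
  have hbig : IsPullback (pullback.snd (D.map a.hom) t ≫ pullback.fst _ _) (pullback.fst (D.map a.hom) t)
      (f₀ ≫ g₀) (D.map (a.hom ≫ φ)) := by
    have := (IsPullback.of_hasPullback (D.map a.hom) t).flip.paste_horiz (IsPullback.of_hasPullback (f₀ ≫ g₀) (D.map φ))
    simpa using this
  let pY : Yj ⟶ Y₀ := pullback.fst _ _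
  let gj : Yj ⟶ D.obj a.left := pullback.snd _ _
  let fj : Xj ⟶ Yj := pullback.lift (pullback.snd (D.map a.hom) t ≫ pullback.fst _ _ ≫ f₀) (pullback.fst (D.map a.hom) t) (by
    simpa using hbig.w)
  have hfj : IsPullback (pullback.snd (D.map a.hom) t ≫ pullback.fst _ _) fj f₀ pY :=
    IsPullback.of_bot (by simp only [fj, gj]; rw [pullback.lift_snd]; exact hbig)
      (by simp only [fj, pY]; rw [pullback.lift_fst, Category.assoc]) (IsPullback.of_hasPullback _ _)
  have hopen := h a.left a.hom Xj Yj fj gj pY _ (IsPullback.of_hasPullback _ _) hfj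
  let πY : Y ⟶ Yj := pullback.lift qY (g ≫ c.π.app a.left) (by rw [hY.w, Category.assoc, c.w])
  let πX : X ⟶ Xj := e.hom ≫ (bcCone D c t).π.app a
  have hπ₁ : πX ≫ pullback.fst (D.map a.hom) t = f ≫ g ≫ c.π.app a.left :=
    (Category.assoc _ _ _).trans ((congrArg (e.hom ≫ ·) (pullback.lift_fst _ _ _)).trans
      ((Category.assoc _ _ _).symm.trans ((congrArg (· ≫ c.π.app a.left) hXi.isoPullback_hom_fst).trans (Category.assoc _ _ _))))
  have hπ₂ : πX ≫ pullback.snd (D.map a.hom) t ≫ pullback.fst _ _ = qX :=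
    (Category.assoc _ _ _).trans ((congrArg (e.hom ≫ ·) ((Category.assoc _ _ _).symm.trans (congrArg (· ≫ pullback.fst _ _)
      ((pullback.lift_snd _ _ _).trans (Category.comp_id _))))).trans (by
      dsimp only [e]; rw [← Category.assoc, hXi.isoPullback_hom_snd, pullback.lift_fst]))
  have hπ : IsPullback πX f fj πY := by
    refine IsPullback.of_right ?_ ?_ hfj
    · convert! hX using 1
      simp only [πY, pY, pullback.lift_fst]
    · apply pullback.hom_ext
      · simp only [fj, πY, Category.assoc, pullback.lift_fst]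
        exact ((reassoc_of% hπ₂) f₀).trans hX.w
      · simp only [fj, πY, Category.assoc, pullback.lift_snd]
        exact hπ₁
  refine ⟨πY ⁻¹' (fj '' (SetLike.coe A)), ?_, (hopen _ A.2).preimage πY.continuous, ?_⟩
  · rintro y ⟨z, hz, hzy⟩
    obtain ⟨w, hw₁, hw₂⟩ := Scheme.exists_preimage_of_isPullback hπ z y hzy
    refine ⟨w, ?_, hw₂⟩
    have : e.hom w ∈ (bcCone D c t).π.app a ⁻¹ᵁ A := by
      change (bcCone D c t).π.app a (e.hom w) ∈ A
      exact (congrArg (· ∈ A) hw₁).mpr hz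
    have := hAW this
    change e.inv (e.hom w) ∈ W at this
    simpa [← Scheme.Hom.comp_apply] using this
  · refine ⟨πX x, hpA, ?_⟩
    rw [← Scheme.Hom.comp_apply, ← Scheme.Hom.comp_apply, hπ.w]

end Groth.Agent.S4779
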