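import Groth.Statements.S4781
import Groth.Agent.FibreDepth.GenericNhd
import Groth.Agent.FibreDepth.ComponentDims

set_option autoImplicit false
set_option backward.isDefEq.respectTransparency false
set_option linter.style.haveILetI false
universe u
open CategoryTheory AlgebraicGeometry
open Cons9

namespace Groth.Agent.S4781

/-- Let S be a Noetherian irreducible scheme with generic point η, let X be an irreducible scheme and f
: X ⟶ S a dominant morphism of finite type. Then there is an open neighbourhood U of η in S such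
that, for every s ∈ U, all irreducible components of the fibre f⁻¹(s) have dimension equal to dim
f⁻¹(η). Fibres are taken as subspaces of X and dimensions are topological Krull dimensions. -/
theorem result {X S : Scheme.{u}} (f : X ⟶ S)
    [IsNoetherian S] [IrreducibleSpace S] [IrreducibleSpace X] [IsDominant f]
    [LocallyOfFiniteType f] [QuasiCompact f] :
    ∃ U : S.Opens, genericPoint S ∈ U ∧ ∀ s ∈ U, ∀ T ∈ irreducibleComponents ↥(⇑f ⁻¹' {s}),
      topologicalKrullDim ↥T = topologicalKrullDim ↥(⇑f ⁻¹' {genericPoint S}) := by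
  haveI : LocallyOfFinitePresentation f := inferInstance
  haveI := LocallyOfFiniteType.isLocallyNoetherian f
  haveI : QuasiSeparated f := inferInstance
  let η : S := genericPoint S
  have hgen : ∀ U : Set S, IsOpen U → U.Nonempty → η ∈ U :=
    fun U hU h => ((genericPoint_spec S).mem_open_set_iff hU).mpr (by simpa using h)
  let ξ : X := genericPoint X
  have hξ : f ξ = η := by
    refine (((genericPoint_spec X).image f.continuous).eq ?_).trans rfl
    rw [show closure (f '' Set.univ) = Set.univ by rw [Set.image_univ]; exact f.denseRange.closure_range]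
    exact genericPoint_spec S
  haveI : IrreducibleSpace ↥(Set.univ ∩ ⇑f ⁻¹' {η}) := by
    haveI : Nonempty ↥(Set.univ ∩ ⇑f ⁻¹' {η}) := ⟨⟨ξ, trivial, hξ⟩⟩
    refine IrreducibleSpace.mk (toPreirreducibleSpace := ⟨?_⟩) inferInstance
    rintro u v hu hv ⟨a, -, ha⟩ ⟨b, -, hb⟩
    obtain ⟨u', hu', rfl⟩ := isOpen_induced_iff.mp hu
    obtain ⟨v', hv', rfl⟩ := isOpen_induced_iff.mp hv
    have h1 : ξ ∈ u' := ((genericPoint_spec X).mem_open_set_iff hu').mpr ⟨a.1, trivial, ha⟩
    have h2 : ξ ∈ v' := ((genericPoint_spec X).mem_open_set_iff hv').mpr ⟨b.1, trivial, hb⟩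
    exact ⟨⟨ξ, trivial, hξ⟩, trivial, h1, h2⟩
  let d := topologicalKrullDim ↥(Set.univ ∩ ⇑f ⁻¹' {η})
  have hlc := Groth.Agent.FibreDepth.ComponentDims.lc_dims f Set.univ Topology.IsLocallyConstructible.univ
    (fun s => IsOpen.isLocallyClosed (by simp)) {d}
  obtain ⟨U, hηU, hU⟩ := Groth.Agent.FibreDepth.GenericNhd.exists_open_subset hgen hlc (by
    show _ '' _ = _
    rw [irreducibleComponents_eq_singleton, Set.image_singleton, Set.singleton_eq_singleton_iff]
    exact (Homeomorph.Set.univ _).isHomeomorph.topologicalKrullDim_eq)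
  refine ⟨U, hηU, fun s hs T hT => ?_⟩
  have key : ∀ (A : Set X), A = ⇑f ⁻¹' {s} →
      (fun T : Set ↥A => topologicalKrullDim ↥T) '' irreducibleComponents ↥A = {d} →
      topologicalKrullDim ↥T = d := by
    rintro A rfl h
    exact Set.mem_singleton_iff.mp (h.subset ⟨T, hT, rfl⟩)
  rw [key _ (Set.univ_inter _) (hU s hs)]
  exact congrArg (fun A : Set X => topologicalKrullDim ↥A) (Set.univ_inter _)

end Groth.Agent.S4781
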