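import Groth.Statements.S4786
import Groth.Agent.Lim.Flat
import Groth.Agent.Cons.FinPres
import Mathlib.AlgebraicGeometry.Morphisms.UnderlyingMap
import Mathlib.AlgebraicGeometry.Morphisms.Flat
import Mathlib.AlgebraicGeometry.Morphisms.FinitePresentation
import Mathlib.Topology.Connected.TotallyDisconnected
import Mathlib.RingTheory.Spectrum.Prime.ConstructibleSet

set_option autoImplicit false
universe u
open CategoryTheory AlgebraicGeometry
open Lim8

namespace Groth.Agent.S4786
open CategoryTheory CategoryTheory.Limits AlgebraicGeometry TopologicalSpace Topology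
open Groth.Agent.Lim.Topo Groth.Agent.Cons.Basic Groth.Agent.Lim.Flat

/-- Let S = lim S_i be a cofiltered limit of schemes whose transition maps are affine and flat, let
S_{i₁} be a quasi-compact stage, and let Z' and Z'' be pro-constructible subsets of S_{i₁} such that
the closure of Z' is constructible. Then the preimage of Z'' in S is contained in the closure of the
preimage of Z' in S if and only if there is an index j over i₁ such that the preimage of Z'' in S_j
is contained in the closure of the preimage of Z' in S_j. -/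
theorem result {I : Type u} [SmallCategory I] [IsCofiltered I]
    (D : I ⥤ Scheme.{u}) (c : Limits.Cone D) (hc : Limits.IsLimit c)
    [∀ (i j : I) (f : i ⟶ j), IsAffineHom (D.map f)] (i₁ : I) [CompactSpace (D.obj i₁)]
    (hfl : ∀ (i j : I) (φ : i ⟶ j), Flat (D.map φ))
    (Z' Z'' : Set (D.obj i₁)) (hZ' : ProCons.IsProConstructible Z') (hZ'' : ProCons.IsProConstructible Z'')
    (hcl : Topology.IsConstructible (closure Z')) :
    (⇑(c.π.app i₁) ⁻¹' Z'' : Set c.pt) ⊆ closure (⇑(c.π.app i₁) ⁻¹' Z' : Set c.pt) ↔
      ∃ (j : I) (φ : j ⟶ i₁), ⇑(D.map φ) ⁻¹' Z'' ⊆ closure (⇑(D.map φ) ⁻¹' Z') := by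
  constructor
  · intro h
    have hK : ProCons.IsProConstructible (Z'' ∩ (closure Z')ᶜ) := isProConstructible_iff.mpr fun R t => by
      rw [Set.preimage_inter]
      exact @IsClosed.inter _ _ _ (constructibleTopology (Spec R)) (isProConstructible_iff.mp hZ'' R t)
        (isProConstructible_iff.mp (isLocallyConstructible_iff.mp hcl.compl.isLocallyConstructible).2 R t)
    obtain ⟨j, φ, hφ⟩ := eventually_notMem D c hc hK fun x ⟨h1, h2⟩ =>
      h2 ((c.π.app i₁).continuous.closure_preimage_subset Z' (h h1))
    refine ⟨j, φ, fun y hy => ?_⟩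
    have := hfl _ _ φ
    rw [closure_preimage_of_generalizingMap _ (Flat.generalizingMap _) hZ']
    exact by_contra fun hn => hφ y ⟨hy, hn⟩
  · rintro ⟨j, φ, h⟩ x hx
    rw [closure_preimage_of_generalizingMap _ (generalizingMap_π D c hc (fun φ => hfl _ _ φ) i₁) hZ']
    have hw : D.map φ (c.π.app j x) = c.π.app i₁ x := by rw [← Scheme.Hom.comp_apply, c.w]
    have h2 := (D.map φ).continuous.closure_preimage_subset Z' (h (show D.map φ (c.π.app j x) ∈ Z'' from hw ▸ hx))
    rwa [Set.mem_preimage, hw] at h2

end Groth.Agent.S4786
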