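import Groth.Statements.S4787
import Groth.Agent.Lim.Flat
import Groth.Agent.Cons.FinPres
import Mathlib.AlgebraicGeometry.Morphisms.UnderlyingMap
import Mathlib.AlgebraicGeometry.Morphisms.Flat
import Mathlib.AlgebraicGeometry.Morphisms.FinitePresentation
import Mathlib.Topology.Connected.TotallyDisconnected
import Mathlib.RingTheory.Spectrum.Prime.ConstructibleSet

set_option autoImplicit false
universe u
open CategoryTheory AlgebraicGeometry
open Lim8

namespace Groth.Agent.S4787
open CategoryTheory CategoryTheory.Limits AlgebraicGeometry TopologicalSpace Topology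
open Groth.Agent.Lim.Topo Groth.Agent.Cons.Basic Groth.Agent.Lim.Flat

/-- Let S = lim S_i be a cofiltered limit of schemes with affine transition maps, some stage S_{i₀}
being quasi-compact. For every index let E_i be a pro-constructible and F_i an ind-constructible
subset of S_i such that, for every transition map S_i ⟶ S_j, E_i lies in the preimage of E_j and F_i
contains the preimage of F_j. Put E = ⋂ (preimage of E_i in S) and F = ⋃ (preimage of F_i in S).
Then E ⊆ F if and only if there is an index i over i₀ such that E_j ⊆ F_j for every j over i. -/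
theorem result {I : Type u} [SmallCategory I] [IsCofiltered I]
    (D : I ⥤ Scheme.{u}) (c : Limits.Cone D) (hc : Limits.IsLimit c)
    [∀ (i j : I) (f : i ⟶ j), IsAffineHom (D.map f)] (i₀ : I)
    [CompactSpace (D.obj i₀)] (E F : ∀ i : I, Set (D.obj i))
    (hE : ∀ i, ProCons.IsProConstructible (E i)) (hF : ∀ i, ProCons.IsIndConstructible (F i))
    (hEm : ∀ (i j : I) (φ : i ⟶ j), E i ⊆ ⇑(D.map φ) ⁻¹' E j)
    (hFm : ∀ (i j : I) (φ : i ⟶ j), ⇑(D.map φ) ⁻¹' F j ⊆ F i) :
    (⋂ i, ⇑(c.π.app i) ⁻¹' E i : Set c.pt) ⊆ (⋃ i, ⇑(c.π.app i) ⁻¹' F i : Set c.pt) ↔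
      ∃ (i : I) (_ : i ⟶ i₀), ∀ (j : I) (_ : j ⟶ i), E j ⊆ F j := by
  classical
  constructor
  · intro h
    have := isAffineHom_π_app D c hc i₀
    have : CompactSpace c.pt := QuasiCompact.compactSpace_of_compactSpace (c.π.app i₀)
    obtain ⟨s, hs⟩ := exists_finite_subcover (X := c.pt) isProConstructible_univ
      (fun i => if i.2 then (c.π.app i.1 ⁻¹' E i.1)ᶜ else c.π.app i.1 ⁻¹' F i.1) (fun i : I × Bool => by
        cases i.2
        · exact isIndConstructible_preimage _ (hF _)
        · exact isProConstructible_iff_compl.mp (isProConstructible_preimage _ (hE _)))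
      (fun x _ => by
        by_cases hx : x ∈ ⋂ i, c.π.app i ⁻¹' E i
        · obtain ⟨i, hi⟩ := Set.mem_iUnion.mp (h hx)
          exact Set.mem_iUnion.mpr ⟨(i, false), hi⟩
        · simp only [Set.mem_iInter, not_forall] at hx
          obtain ⟨i, hi⟩ := hx
          exact Set.mem_iUnion.mpr ⟨(i, true), hi⟩)
    obtain ⟨k, hk⟩ := IsCofiltered.inf_objs_exists (insert i₀ (s.image Prod.fst))
    obtain ⟨a⟩ := hk (Finset.mem_insert_self _ _)
    have : CompactSpace (D.obj k) := QuasiCompact.compactSpace_of_compactSpace (D.map a)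
    have hK : ProCons.IsProConstructible (E k ∩ (F k)ᶜ) := isProConstructible_iff.mpr fun R t => by
      rw [Set.preimage_inter]
      exact @IsClosed.inter _ _ _ (constructibleTopology (Spec R)) (isProConstructible_iff.mp (hE k) R t)
        (isProConstructible_iff.mp (isProConstructible_iff_compl.mpr (by rw [compl_compl]; exact hF k)) R t)
    obtain ⟨j, φ, hφ⟩ := eventually_notMem D c hc hK fun x ⟨hxE, hxF⟩ => by
      obtain ⟨⟨i, bl⟩, hi, hxi⟩ := Set.mem_iUnion₂.mp (hs (Set.mem_univ x))
      obtain ⟨ψ⟩ := hk (Finset.mem_insert_of_mem (Finset.mem_image.mpr ⟨_, hi, rfl⟩))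
      have hw : D.map ψ (c.π.app k x) = c.π.app i x := by rw [← Scheme.Hom.comp_apply, c.w]
      cases bl
      · exact hxF (hFm k i ψ (by rw [Set.mem_preimage, hw]; exact hxi))
      · exact hxi (by rw [Set.mem_preimage, ← hw]; exact hEm k i ψ hxE)
    refine ⟨j, φ ≫ a, fun l ψ y hy => ?_⟩
    by_contra hyF
    refine hφ (D.map ψ y) ⟨?_, fun hF' => hyF (hFm l k (ψ ≫ φ) ?_)⟩
    · rw [← Scheme.Hom.comp_apply, ← D.map_comp]; exact hEm l k (ψ ≫ φ) hy
    · rw [Set.mem_preimage, D.map_comp, Scheme.Hom.comp_apply]; exact hF'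
  · rintro ⟨i, -, h⟩ x hx
    exact Set.mem_iUnion.mpr ⟨i, h i (𝟙 i) (Set.mem_iInter.mp hx i)⟩

end Groth.Agent.S4787
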