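import Groth.Statements.S4800
import Groth.Agent.Lim.Flat
import Groth.Agent.Cons.FinPres
import Mathlib.AlgebraicGeometry.Morphisms.UnderlyingMap
import Mathlib.AlgebraicGeometry.Morphisms.Flat
import Mathlib.AlgebraicGeometry.Morphisms.FinitePresentation
import Mathlib.Topology.Connected.TotallyDisconnected
import Mathlib.RingTheory.Spectrum.Prime.ConstructibleSet

set_option autoImplicit false
universe u
open CategoryTheory AlgebraicGeometry
open Lim8

namespace Groth.Agent.S4800
open CategoryTheory CategoryTheory.Limits AlgebraicGeometry TopologicalSpace Topology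
open Groth.Agent.Lim.Topo Groth.Agent.Cons.Basic Groth.Agent.Lim.Flat

/-- Let S = lim S_i be a cofiltered limit of schemes whose transition maps are affine and flat, and
S_{i₀} a quasi-compact stage; let X₀ ⟶ S_{i₀} be quasi-compact, Y₀ ⟶ S_{i₀} quasi-compact and
quasi-separated, and f₀ : X₀ ⟶ Y₀ a morphism over S_{i₀} such that the closure of its image f₀(X₀)
is a constructible subset of Y₀. Let f : X ⟶ Y be the base change of f₀ along S ⟶ S_{i₀} (base
changes are expressed by pullback squares). Then f is dominant if and only if, for some index j over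
i₀ and the base change f_j : X_j ⟶ Y_j of f₀ along S_j ⟶ S_{i₀}, f_j is dominant. (The published
statement asks instead that the image f₀(X₀) itself be constructible, which is not enough: let R be
the ring of locally constant functions from the Cantor set to a field, take for stages the spectra
of the rings of locally constant functions on the clopen neighbourhoods of a point p, so that the
limit is the spectrum of the residue field at p, and take Y₀ = Spec R[t]/(m_p t) and X₀ its basic
open subset where t is invertible; the image of X₀ is constructible, the limit morphism is the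
inclusion of the punctured affine line into the affine line, which is dominant, and no stage
morphism is dominant. The published proof applies the criterion for a preimage to lie in the closure
of the preimage of a pro-constructible subset along a flat limit, whose hypothesis is that the
closure of that subset is constructible; the image f₀(X₀) is pro-constructible because f₀ is
quasi-compact, so constructibility of its closure is the hypothesis taken here.) -/
theorem result {I : Type u} [SmallCategory I] [IsCofiltered I]
    (D : I ⥤ Scheme.{u}) (c : Limits.Cone D) (hc : Limits.IsLimit c)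
    [∀ (i j : I) (f : i ⟶ j), IsAffineHom (D.map f)] (i₀ : I) [CompactSpace (D.obj i₀)]
    (hfl : ∀ (i j : I) (φ : i ⟶ j), Flat (D.map φ))
    {X₀ Y₀ : Scheme.{u}} (f₀ : X₀ ⟶ Y₀) (g₀ : Y₀ ⟶ D.obj i₀)
    [QuasiCompact (f₀ ≫ g₀)] [QuasiCompact g₀] [QuasiSeparated g₀]
    (hcl : Topology.IsConstructible (closure (Set.range ⇑f₀)))
    {X Y : Scheme.{u}} (f : X ⟶ Y) (g : Y ⟶ c.pt) (qY : Y ⟶ Y₀) (qX : X ⟶ X₀)
    (hY : IsPullback qY g g₀ (c.π.app i₀)) (hX : IsPullback qX f f₀ qY) :
    IsDominant f ↔ ∃ (j : I) (φ : j ⟶ i₀) (Xj Yj : Scheme.{u}) (fj : Xj ⟶ Yj) (gj : Yj ⟶ D.obj j)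
      (pY : Yj ⟶ Y₀) (pX : Xj ⟶ X₀), IsPullback pY gj g₀ (D.map φ) ∧ IsPullback pX fj f₀ pY ∧
      IsDominant fj := by
  have : QuasiCompact f₀ := QuasiCompact.of_comp f₀ g₀
  have hZ : ProCons.IsProConstructible (Set.range f₀) := isProConstructible_range f₀
  have key : ∀ {A B : Scheme.{u}} {h : A ⟶ B} {q : B ⟶ Y₀} {p : A ⟶ X₀}, IsPullback p h f₀ q →
      GeneralizingMap q → (IsDominant h ↔ ∀ b : B, q b ∈ closure (Set.range f₀)) := by
    intro A B h q p hsq hq
    have hr : Set.range h = q ⁻¹' Set.range f₀ := by
      ext b; constructor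
      · rintro ⟨a, rfl⟩
        exact ⟨p a, by rw [← Scheme.Hom.comp_apply, ← Scheme.Hom.comp_apply, hsq.w]⟩
      · rintro ⟨a, ha⟩
        obtain ⟨z, -, hz⟩ := Scheme.exists_preimage_of_isPullback hsq a b ha
        exact ⟨z, hz⟩
    rw [isDominant_iff, denseRange_iff_closure_range, hr,
      closure_preimage_of_generalizingMap q hq hZ, Set.eq_univ_iff_forall]
    rfl
  have hgen : GeneralizingMap qY := by
    have haff : ∀ {a b : Over i₀} (f : a ⟶ b), IsAffineHom ((bcDiagram D g₀).map f) :=
      fun f => isAffineHom_bcDiagram_map D g₀ f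
    have h1 := generalizingMap_π (bcDiagram D g₀) (bcCone D c g₀) (isLimitBcCone D c hc g₀)
      (fun {a b} f => MorphismProperty.of_isPullback (P := @Flat) (isPullback_bcDiagram_map D g₀ f).flip
        (hfl _ _ f.left)) (Over.mk (𝟙 i₀))
    have h2 : GeneralizingMap (pullback.snd (D.map (Over.mk (𝟙 i₀)).hom) g₀) := by
      have := hfl _ _ (Over.mk (𝟙 i₀)).hom
      exact Flat.generalizingMap _
    have h3 : GeneralizingMap hY.flip.isoPullback.hom :=
      Flat.generalizingMap _
    have e : qY = hY.flip.isoPullback.hom ≫ (bcCone D c g₀).π.app (Over.mk (𝟙 i₀)) ≫ pullback.snd (D.map (Over.mk (𝟙 i₀)).hom) g₀ :=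
      (((congrArg (hY.flip.isoPullback.hom ≫ ·) ((pullback.lift_snd _ _ _).trans (Category.comp_id _))).trans hY.flip.isoPullback_hom_snd)).symm
    have h4 := (h3.comp h1).comp h2
    rw [e]
    exact h4
  constructor
  · intro h
    have hall := (key hX hgen).mp h
    have hK : ProCons.IsProConstructible (g₀ '' (closure (Set.range f₀))ᶜ) :=
      isProConstructible_image g₀ (isLocallyConstructible_iff.mp hcl.compl.isLocallyConstructible).2
    obtain ⟨j, φ, hφ⟩ := eventually_notMem D c hc hK fun x ⟨y, hy, hyx⟩ => by
      obtain ⟨z, hz, -⟩ := Scheme.exists_preimage_of_isPullback hY y x hyx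
      exact hy (hz ▸ hall z)
    let Yj := pullback g₀ (D.map φ)
    let pY : Yj ⟶ Y₀ := pullback.fst _ _
    have := hfl _ _ φ
    refine ⟨j, φ, pullback f₀ pY, Yj, pullback.snd _ _, pullback.snd _ _, pY, pullback.fst _ _,
      IsPullback.of_hasPullback _ _, IsPullback.of_hasPullback _ _,
      (key (IsPullback.of_hasPullback _ _) (Flat.generalizingMap _)).mpr fun b => ?_⟩
    by_contra hb
    exact hφ (pullback.snd g₀ (D.map φ) b) ⟨pY b, hb, by
      rw [← Scheme.Hom.comp_apply, ← Scheme.Hom.comp_apply, pullback.condition]⟩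
  · rintro ⟨j, φ, Xj, Yj, fj, gj, pY, pX, hYj, hXj, hd⟩
    have := hfl _ _ φ
    have : Flat pY := MorphismProperty.of_isPullback (P := @Flat) hYj.flip inferInstance
    have hall := (key hXj (Flat.generalizingMap _)).mp hd
    refine (key hX hgen).mpr fun b => ?_
    have e : hYj.lift qY (g ≫ c.π.app j) (by rw [Category.assoc, c.w, hY.w]) ≫ pY = qY := hYj.lift_fst _ _ _
    rw [← e, Scheme.Hom.comp_apply]
    exact hall _

end Groth.Agent.S4800
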