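import Groth.Statements.S4808
import Groth.Agent.Misc9.BiratFinite
-- import your own Groth.Agent.* helpers here

set_option autoImplicit false
universe u
open CategoryTheory AlgebraicGeometry
open Lim8

namespace Groth.Agent.S4808

/-- Let Y' and Y be integral schemes, Y normal (every local ring of Y is integrally closed), and u : Y'
⟶ Y a finite morphism which is birational: u maps the generic point of Y' to the generic point of Y
and the stalk map of u at the generic point of Y', which is the induced homomorphism of function
fields, is an isomorphism. Then u is an isomorphism. -/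
theorem result {Y' Y : Scheme.{u}} [IsIntegral Y'] [IsIntegral Y]
    (hN : ∀ y : Y, IsIntegrallyClosed (Y.presheaf.stalk y)) (u : Y' ⟶ Y) [IsFinite u]
    (hgen : u (genericPoint Y') = genericPoint Y)
    (hbir : IsIso (u.stalkMap (genericPoint Y'))) : IsIso u := by
  have hN' : Pi1.IsNormalScheme Y := fun y ↦ ⟨inferInstance, hN y⟩
  have hr : IsIso (u.residueFieldMap (genericPoint Y')) :=
    haveI := hbir
    (IsLocalRing.ResidueField.mapEquiv
      (asIso (u.stalkMap (genericPoint Y'))).commRingCatIsoToRingEquiv).toCommRingCatIso.isIso_hom
  exact Groth.Agent.Misc9.BiratFinite.isIso_of hN' u hgen ((ConcreteCategory.isIso_iff_bijective _).mp hr)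

end Groth.Agent.S4808
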