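import Groth.Statements.S4821
import Mathlib

set_option autoImplicit false
set_option backward.isDefEq.respectTransparency false
universe u
open Cons9

namespace Groth.Agent.S4821

/-- Let A be an integral domain with fraction field K, and (P_i) a finite family of polynomials in
A[T_1, …, T_m], generating an ideal 𝔞; for a point s of Spec A write 𝔞_s for the ideal of κ(s)[T_1,
…, T_m] generated by the images of the P_i. If the zero locus of 𝔞_η in affine m-space over K = κ(η)
is empty, that is if 𝔞_η is the unit ideal, then there is an open neighbourhood D(f) (f ≠ 0) of the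
generic point such that 𝔞_s is the unit ideal (its zero locus is empty) for every s in D(f). -/
theorem result {A : Type u} [CommRing A] [IsDomain A] {m : ℕ}
    (P : Finset (MvPolynomial (Fin m) A))
    (hη : Ideal.span ((MvPolynomial.map (algebraMap A (FractionRing A))) '' (P : Set (MvPolynomial (Fin m) A))) = ⊤) :
    ∃ f : A, f ≠ 0 ∧ ∀ p : PrimeSpectrum A, f ∉ p.asIdeal →
      Ideal.span ((MvPolynomial.map (algebraMap A p.asIdeal.ResidueField)) '' (P : Set (MvPolynomial (Fin m) A))) = ⊤ := by
  classical
  obtain ⟨⟨f, hf0⟩, hfmem⟩ : ∃ f : nonZeroDivisors A, MvPolynomial.C (f : A) ∈ Ideal.span (P : Set (MvPolynomial (Fin m) A)) := by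
    letI : Algebra (MvPolynomial (Fin m) A) (MvPolynomial (Fin m) (FractionRing A)) := (MvPolynomial.map (algebraMap A (FractionRing A))).toAlgebra
    have : IsLocalization ((nonZeroDivisors A).map (MvPolynomial.C : A →+* MvPolynomial (Fin m) A)) (MvPolynomial (Fin m) (FractionRing A)) :=
      MvPolynomial.isLocalization (nonZeroDivisors A) (FractionRing A)
    have h1 : (1 : MvPolynomial (Fin m) (FractionRing A)) ∈ Ideal.map (algebraMap (MvPolynomial (Fin m) A) (MvPolynomial (Fin m) (FractionRing A))) (Ideal.span (P : Set (MvPolynomial (Fin m) A))) := by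
      rw [Ideal.map_span]
      exact hη ▸ Submodule.mem_top
    obtain ⟨⟨⟨a, ha⟩, ⟨_, s, hs, rfl⟩⟩, hx⟩ := (IsLocalization.mem_map_algebraMap_iff ((nonZeroDivisors A).map (MvPolynomial.C : A →+* MvPolynomial (Fin m) A)) _).1 h1
    refine ⟨⟨s, hs⟩, ?_⟩
    simp only [one_mul] at hx
    have inj : Function.Injective (MvPolynomial.map (σ := Fin m) (algebraMap A (FractionRing A))) :=
      MvPolynomial.map_injective _ (IsFractionRing.injective A (FractionRing A))
    exact (inj hx) ▸ ha
  refine ⟨f, nonZeroDivisors.ne_zero hf0, fun p hp => ?_⟩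
  have h := Ideal.mem_map_of_mem (MvPolynomial.map (algebraMap A p.asIdeal.ResidueField)) hfmem
  rw [Ideal.map_span, MvPolynomial.map_C] at h
  refine Ideal.eq_top_of_isUnit_mem _ h ((isUnit_iff_ne_zero.2 ?_).map MvPolynomial.C)
  simpa [Ideal.algebraMap_residueField_eq_zero] using hp

end Groth.Agent.S4821
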