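import Groth.Statements.S4833
import Groth.Agent.FibreDepth.GenericNhd
import Groth.Agent.FibreDepth.ConstrStatements
import Groth.Agent.FibreDepth.FibreFlatMaps
import Groth.Agent.FibreDepth.FibreFlatLocus

set_option autoImplicit false
set_option backward.isDefEq.respectTransparency false
set_option linter.style.haveILetI false
open CategoryTheory AlgebraicGeometry
universe u
open Cons9

namespace Groth.Agent.S4833

open CategoryTheory.Limits in
/-- Let S be an integral Noetherian scheme with generic point η, let g : X ⟶ Y be an S-morphism between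
schemes of finite type over S (structure morphisms h : Y ⟶ S and g ≫ h), and let F be a coherent
O_X-module. For s in S write g_s : X_s ⟶ Y_s for the morphism induced on the fibres over s and F_s
for the pullback of F to X_s. If F_η is not flat relative to g_η (not flat over O_{Y_η, g_η(x)} at
some point x of X_η), then there is an open neighbourhood U of η such that for every s in U the
module F_s is not flat relative to g_s. -/
theorem result {X Y S : Scheme.{u}} [IsIntegral S] [IsNoetherian S]
    (g : X ⟶ Y) (h : Y ⟶ S) [LocallyOfFiniteType h] [QuasiCompact h]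
    [LocallyOfFiniteType (g ≫ h)] [QuasiCompact (g ≫ h)]
    (F : X.Modules) [Coh.IsQCoh F] (hF : CohB1.IsFP F)
    (hη : ¬ FlatMod.IsFlatOver
      (pullback.lift (pullback.fst (g ≫ h) (S.fromSpecResidueField (genericPoint S)) ≫ g)
          (pullback.snd (g ≫ h) (S.fromSpecResidueField (genericPoint S)))
          ((Category.assoc _ _ _).trans pullback.condition) :
        pullback (g ≫ h) (S.fromSpecResidueField (genericPoint S)) ⟶ pullback h (S.fromSpecResidueField (genericPoint S)))
      ((Scheme.Modules.pullback (pullback.fst (g ≫ h) (S.fromSpecResidueField (genericPoint S)))).obj F)) :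
    ∃ U : S.Opens, genericPoint S ∈ U ∧ ∀ s ∈ U, ¬ FlatMod.IsFlatOver
      (pullback.lift (pullback.fst (g ≫ h) (S.fromSpecResidueField s) ≫ g) (pullback.snd (g ≫ h) (S.fromSpecResidueField s))
          ((Category.assoc _ _ _).trans pullback.condition) :
        pullback (g ≫ h) (S.fromSpecResidueField s) ⟶ pullback h (S.fromSpecResidueField s))
      ((Scheme.Modules.pullback (pullback.fst (g ≫ h) (S.fromSpecResidueField s))).obj F) := by
  haveI : LocallyOfFinitePresentation (g ≫ h) := inferInstance
  haveI : LocallyOfFinitePresentation h := inferInstance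
  haveI := LocallyOfFiniteType.isLocallyNoetherian (g ≫ h)
  haveI := LocallyOfFiniteType.isLocallyNoetherian h
  haveI : QuasiSeparated (g ≫ h) := inferInstance
  haveI : QuasiSeparated h := inferInstance
  have hiff : ∀ s : S, FlatMod.IsFlatOver
      (pullback.lift (pullback.fst (g ≫ h) (S.fromSpecResidueField s) ≫ g) (pullback.snd (g ≫ h) (S.fromSpecResidueField s))
          ((Category.assoc _ _ _).trans pullback.condition) :
        pullback (g ≫ h) (S.fromSpecResidueField s) ⟶ pullback h (S.fromSpecResidueField s))
      ((Scheme.Modules.pullback (pullback.fst (g ≫ h) (S.fromSpecResidueField s))).obj F) ↔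
      s ∉ (g ≫ h).base '' {x | Groth.Agent.FibreDepth.FibreFlatStalk.K g h F x}ᶜ := by
    intro s
    let fs : pullback (g ≫ h) (S.fromSpecResidueField s) ⟶ pullback h (S.fromSpecResidueField s) :=
      pullback.lift (pullback.fst (g ≫ h) (S.fromSpecResidueField s) ≫ g) (pullback.snd (g ≫ h) (S.fromSpecResidueField s))
        ((Category.assoc _ _ _).trans pullback.condition)
    have hY := IsPullback.of_hasPullback h (S.fromSpecResidueField s)
    have hX : IsPullback (pullback.fst (g ≫ h) (S.fromSpecResidueField s)) fs g (pullback.fst h (S.fromSpecResidueField s)) := by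
      refine IsPullback.of_bot ?_ (pullback.lift_fst _ _ _).symm hY
      have := IsPullback.of_hasPullback (g ≫ h) (S.fromSpecResidueField s)
      rwa [show fs ≫ pullback.snd h (S.fromSpecResidueField s) = pullback.snd _ _ from pullback.lift_snd _ _ _]
    have hiff' := fun x' => Groth.Agent.FibreDepth.FibreFlatStalk.isFlatOverAt_iff g h F s _ _ fs _ hY hX x'
    constructor
    · rintro hall ⟨x, hx, hxs⟩
      obtain ⟨x', hx'⟩ : x ∈ Set.range (pullback.fst (g ≫ h) (S.fromSpecResidueField s)) :=
        ((g ≫ h).range_fiberι s).symm.subset hxs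
      exact hx (hx' ▸ (hiff' x').mp (hall x'))
    · intro hn x'
      refine (hiff' x').mpr (by_contra fun hv => hn ⟨_, hv, ?_⟩)
      exact ((g ≫ h).range_fiberι s).subset ⟨x', rfl⟩
  obtain ⟨U, hηU, hU⟩ := Groth.Agent.FibreDepth.GenericNhd.exists_open_subset
    (fun U hU h => ((genericPoint_spec S).mem_open_set_iff hU).mpr (by simpa using h))
    ((g ≫ h).isLocallyConstructible_image (Groth.Agent.FibreDepth.ConstrStatements.lc_compl
      (Groth.Agent.FibreDepth.FibreFlatLocus.isLC g h F hF)))
    (by_contra fun hc => hη ((hiff _).mpr hc))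
  exact ⟨U, hηU, fun s hs hflat => (hiff s).mp hflat (hU s hs)⟩

end Groth.Agent.S4833
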