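import Groth.Statements.S4834
import Mathlib

set_option autoImplicit false
open CategoryTheory CategoryTheory.Limits
universe u
open Lim8

namespace Groth.Agent.S4834

open CategoryTheory CategoryTheory.Limits CategoryTheory.Pretriangulated ZeroObject

/-- Let A be a commutative ring, M an A-module of finite type and (N_λ) an inductive system of A-modules
indexed by a nonempty directed preordered set. Then the canonical map colim_λ Hom_A(M, N_λ) →
Hom_A(M, colim_λ N_λ), sending a compatible system of homomorphisms to its inductive limit, is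
injective. This is the finite type case, in the form its proof gives. -/
theorem result {A : Type u} [CommRing A] (M : ModuleCat.{u} A)
    [Module.Finite A M] {J : Type u} [Preorder J] [IsDirected J (· ≤ ·)] [Nonempty J]
    (N : J ⥤ ModuleCat.{u} A) :
    Function.Injective (colimit.post N (coyoneda.obj (Opposite.op M))) := by
  intro x y hxy
  obtain ⟨i, f, rfl⟩ := Types.jointly_surjective' x
  obtain ⟨j, g, rfl⟩ := Types.jointly_surjective' y
  rw [← ConcreteCategory.comp_apply, ← ConcreteCategory.comp_apply, colimit.ι_post, colimit.ι_post] at hxy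
  change f ≫ colimit.ι N i = g ≫ colimit.ι N j at hxy
  obtain ⟨k, hik, hjk⟩ := exists_ge_ge i j
  obtain ⟨t, ht⟩ := (Module.Finite.fg_top : (⊤ : Submodule A M).FG)
  have key : ∀ m : M, ∃ (l : J) (h : k ≤ l), (N.map (homOfLE (hik.trans h))).hom (f.hom m) = (N.map (homOfLE (hjk.trans h))).hom (g.hom m) := by
    intro m
    obtain ⟨l, a, b, h⟩ := (Concrete.colimit_exists_of_rep_eq N (f.hom m) (g.hom m)) (ConcreteCategory.congr_hom hxy m)
    obtain ⟨l', hkl, hll⟩ := exists_ge_ge k l
    refine ⟨l', hkl, ?_⟩
    have h' := congrArg (N.map (homOfLE hll)).hom h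
    rw [show homOfLE (hik.trans hkl) = a ≫ homOfLE hll from Subsingleton.elim _ _,
      show homOfLE (hjk.trans hkl) = b ≫ homOfLE hll from Subsingleton.elim _ _, N.map_comp, N.map_comp]
    exact h'
  choose l hl hlm using key
  obtain ⟨L, hL⟩ := Finite.exists_le (fun m : t => l m)
  obtain ⟨L', hL', hkL'⟩ := exists_ge_ge L k
  have heq : f ≫ N.map (homOfLE (hik.trans hkL')) = g ≫ N.map (homOfLE (hjk.trans hkL')) := by
    ext : 1
    refine LinearMap.ext_on_range (v := fun m : t => (m : M)) (by rw [Subtype.range_coe_subtype]; simpa using ht) fun m => ?_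
    have h' := congrArg (N.map (homOfLE ((hL m).trans hL'))).hom (hlm m)
    have hN : ∀ {a b c : J} (u : a ⟶ b) (v : b ⟶ c) (w : a ⟶ c) (z : N.obj a), (N.map v).hom ((N.map u).hom z) = (N.map w).hom z := fun u v w z => by
      rw [Subsingleton.elim w (u ≫ v), N.map_comp]; rfl
    exact (hN _ _ _ _).symm.trans (h'.trans (hN _ _ _ _))
  rw [← Types.Colimit.w_apply (F := N ⋙ coyoneda.obj (Opposite.op M)) (x := f) (homOfLE (hik.trans hkL')),
    ← Types.Colimit.w_apply (F := N ⋙ coyoneda.obj (Opposite.op M)) (x := g) (homOfLE (hjk.trans hkL'))]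
  exact congrArg _ heq

end Groth.Agent.S4834
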