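import Groth.Statements.S4835
import Mathlib
import Groth.Agent.S4834

set_option autoImplicit false
open CategoryTheory CategoryTheory.Limits
universe u
open Lim8

namespace Groth.Agent.S4835

open CategoryTheory CategoryTheory.Limits CategoryTheory.Pretriangulated

/-- Let A be a commutative ring, M an A-module of finite presentation and (N_λ) an inductive system of
A-modules indexed by a nonempty directed preordered set. Then the canonical map colim_λ Hom_A(M,
N_λ) → Hom_A(M, colim_λ N_λ), sending a compatible system of homomorphisms to its inductive limit,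
is bijective. This is the form established in the source's proof (finite presentation case). -/
theorem result {A : Type u} [CommRing A] (M : ModuleCat.{u} A)
    [Module.FinitePresentation A M] {J : Type u} [Preorder J] [IsDirected J (· ≤ ·)] [Nonempty J]
    (N : J ⥤ ModuleCat.{u} A) :
    Function.Bijective (colimit.post N (coyoneda.obj (Opposite.op M))) := by
  haveI : Module.Finite A M := inferInstance
  refine ⟨Groth.Agent.S4834.result M N, fun x => ?_⟩
  change M ⟶ colimit N at x
  obtain ⟨n, π, hπ⟩ := Module.Finite.exists_fin' A M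
  obtain ⟨t, ht⟩ := Module.FinitePresentation.fg_ker π hπ
  have hrep : ∀ i : Fin n, ∃ (j : J) (y : N.obj j), (colimit.ι N j).hom y = x.hom (π (Pi.single i 1)) :=
    fun i => Concrete.colimit_exists_rep N _
  choose j y hy using hrep
  obtain ⟨k, hk⟩ := Finite.exists_le j
  let g : (Fin n → A) →ₗ[A] N.obj k := (Pi.basisFun A (Fin n)).constr A fun i => (N.map (homOfLE (hk i))).hom (y i)
  have hg : ((colimit.ι N k).hom.comp g) = x.hom.comp π := by
    refine (Pi.basisFun A (Fin n)).ext fun i => ?_
    rw [LinearMap.comp_apply, LinearMap.comp_apply, Pi.basisFun_apply, ← hy]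
    simp only [g, ← Pi.basisFun_apply, Module.Basis.constr_basis]
    rw [← ModuleCat.comp_apply, colimit.w]
  have hvan : ∀ z : t, ∃ (l : J) (h : k ≤ l), (N.map (homOfLE h)).hom (g z) = 0 := by
    intro z
    have hz : π z = 0 := LinearMap.mem_ker.mp (ht ▸ Submodule.subset_span z.2)
    have h0 : (colimit.ι N k).hom (g z) = (colimit.ι N k).hom 0 := by
      rw [map_zero, ← LinearMap.comp_apply, hg, LinearMap.comp_apply, hz, map_zero]
    obtain ⟨l, a, b, h⟩ := Concrete.colimit_exists_of_rep_eq N _ _ h0
    refine ⟨l, leOfHom a, ?_⟩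
    rw [show homOfLE (leOfHom a) = a from Subsingleton.elim _ _]
    exact h.trans (map_zero _)
  choose l hl hl0 using hvan
  obtain ⟨L, hL⟩ := Finite.exists_le (fun z : t => l z)
  obtain ⟨L', hL', hkL'⟩ := exists_ge_ge L k
  let g' : (Fin n → A) →ₗ[A] N.obj L' := (N.map (homOfLE hkL')).hom.comp g
  have hker : LinearMap.ker π ≤ LinearMap.ker g' := by
    rw [← ht, Submodule.span_le]
    intro z hz
    have h' := congrArg (N.map (homOfLE ((hL ⟨z, hz⟩).trans hL'))).hom (hl0 ⟨z, hz⟩)
    rw [map_zero, ← ModuleCat.comp_apply, ← N.map_comp] at h'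
    exact h'
  let e := π.quotKerEquivOfSurjective hπ
  let f : M →ₗ[A] N.obj L' := ((LinearMap.ker π).liftQ g' hker).comp e.symm.toLinearMap
  have hf : f.comp π = g' := LinearMap.ext fun z => by
    show (LinearMap.ker π).liftQ g' hker (e.symm (π z)) = g' z
    rw [show e.symm (π z) = Submodule.Quotient.mk z from e.symm_apply_eq.mpr rfl]
    rfl
  refine ⟨colimit.ι (N ⋙ coyoneda.obj (Opposite.op M)) L' (ModuleCat.ofHom f), ?_⟩
  rw [← ConcreteCategory.comp_apply, colimit.ι_post]
  show ModuleCat.ofHom f ≫ colimit.ι N L' = x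
  ext m
  obtain ⟨z, rfl⟩ := hπ m
  show (colimit.ι N L').hom (f.comp π z) = _
  rw [hf]
  show _ = x.hom.comp π z
  rw [← hg]
  show (colimit.ι N L').hom ((N.map (homOfLE hkL')).hom (g z)) = (colimit.ι N k).hom (g z)
  rw [← ModuleCat.comp_apply, colimit.w]

end Groth.Agent.S4835
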