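import Groth.Statements.S4836
import Mathlib

set_option autoImplicit false
set_option backward.isDefEq.respectTransparency false
universe u
open Cons9

namespace Groth.Agent.S4836

/-- Principle of finite extension. Let k be a field and C a property of extension fields of k (in a
fixed universe) satisfying: (i) if K has C and there is a k-homomorphism K → K', then K' has C; (ii)
if K has C, some subextension K' of K finitely generated over k has C; (iii) if K has C and K is the
field of fractions of an integral k-algebra of finite type A, then there is a nonzero f in A such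
that every field quotient of A_f (as a k-algebra) has C. If some extension of k has C, then some
finite extension of k has C (and then, by (i), so does every algebraically closed extension). -/
theorem result {k : Type u} [Field k]
    (C : ∀ (K : Type u) [Field K] [Algebra k K], Prop)
    (h₁ : ∀ (K K' : Type u) [Field K] [Algebra k K] [Field K'] [Algebra k K'],
      Nonempty (K →ₐ[k] K') → C K → C K')
    (h₂ : ∀ (K : Type u) [Field K] [Algebra k K], C K →
      ∃ K' : IntermediateField k K, K'.FG ∧ C K')
    (h₃ : ∀ (A K : Type u) [CommRing A] [IsDomain A] [Algebra k A] [Algebra.FiniteType k A]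
      [Field K] [Algebra k K] [Algebra A K] [IsScalarTower k A K] [IsFractionRing A K], C K →
      ∃ f : A, f ≠ 0 ∧ ∀ (K' : Type u) [Field K'] [Algebra k K'] (φ : Localization.Away f →ₐ[k] K'),
        Function.Surjective φ → C K')
    (hC : ∃ (K : Type u) (_ : Field K) (_ : Algebra k K), C K) :
    ∃ (K' : Type u) (_ : Field K') (_ : Algebra k K'), Module.Finite k K' ∧ C K' := by
  classical
  obtain ⟨K, i1, i2, hCK⟩ := hC
  obtain ⟨L, hL, hCL⟩ := h₂ K hCK
  obtain ⟨s, hs⟩ := hL
  let A := Algebra.adjoin k (s : Set K)
  haveI : Algebra.FiniteType k A := (Subalgebra.fg_iff_finiteType _).1 ⟨s, rfl⟩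
  have hAL : A ≤ L.toSubalgebra := hs ▸ IntermediateField.algebra_adjoin_le_adjoin k (s : Set K)
  letI : Algebra A L := (Subalgebra.inclusion hAL).toRingHom.toAlgebra
  haveI : IsScalarTower k A L := IsScalarTower.of_algebraMap_eq fun x => (AlgHom.commutes (Subalgebra.inclusion hAL) x).symm
  haveI : FaithfulSMul A L :=
    (faithfulSMul_iff_algebraMap_injective A L).2 (Subalgebra.inclusion_injective hAL)
  haveI : IsFractionRing A L := by
    refine IsFractionRing.of_field A L ?_
    rintro ⟨z, hz⟩
    have hz' : z ∈ IntermediateField.adjoin k (s : Set K) := hs.symm ▸ hz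
    obtain ⟨r, hr, q, hq, rfl⟩ := IntermediateField.mem_adjoin_iff_div.1 hz'
    exact ⟨⟨r, hr⟩, ⟨q, hq⟩, Subtype.ext rfl⟩
  obtain ⟨f, hf, hq⟩ := h₃ A L hCL
  haveI : Nontrivial (Localization.Away f) := (IsLocalization.injective (Localization.Away f) (powers_le_nonZeroDivisors_of_noZeroDivisors hf)).nontrivial
  haveI : Algebra.FiniteType A (Localization.Away f) := (inferInstanceAs (Algebra.FiniteType A (Localization.Away f)))
  haveI : Algebra.FiniteType k (Localization.Away f) := Algebra.FiniteType.trans (S := A) inferInstance inferInstance
  obtain ⟨m, hm⟩ := Ideal.exists_maximal (Localization.Away f)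
  letI : Field (Localization.Away f ⧸ m) := Ideal.Quotient.field m
  haveI : Algebra.FiniteType k (Localization.Away f ⧸ m) := Algebra.FiniteType.of_surjective (Ideal.Quotient.mkₐ k m) Ideal.Quotient.mk_surjective
  exact ⟨Localization.Away f ⧸ m, Ideal.Quotient.field m, inferInstance, finite_of_finite_type_of_isJacobsonRing k _,
    hq _ (Ideal.Quotient.mkₐ k m) Ideal.Quotient.mk_surjective⟩

end Groth.Agent.S4836
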