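import Groth.Statements.S4842
import Groth.Agent.Lead.Lim.Components
-- import your own Groth.Agent.* helpers here

set_option autoImplicit false
universe u
open CategoryTheory AlgebraicGeometry
open Lim8

namespace Groth.Agent.S4842

/-- Let S = lim S_i be a cofiltered limit of schemes whose transition maps are affine and topological
embeddings (homeomorphisms onto subspaces), some stage S_{i₀} having Noetherian underlying space,
and assume that the underlying space of S is Noetherian. Then there is an index i over i₀ such that,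
for every j over i, the map sending a connected component C of S to the closure of its image under S
⟶ S_j is a bijection from the set of connected components of S onto the set of connected components
of S_j. -/
theorem result {I : Type u} [SmallCategory I] [IsCofiltered I]
    (D : I ⥤ Scheme.{u}) (c : Limits.Cone D) (hc : Limits.IsLimit c)
    [∀ (i j : I) (f : i ⟶ j), IsAffineHom (D.map f)] (i₀ : I)
    [TopologicalSpace.NoetherianSpace (D.obj i₀)] [TopologicalSpace.NoetherianSpace c.pt]
    (he : ∀ (i j : I) (φ : i ⟶ j), Topology.IsEmbedding ⇑(D.map φ)) :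
    ∃ (i : I) (_ : i ⟶ i₀), ∀ (j : I) (_ : j ⟶ i),
      Set.BijOn (fun C : Set c.pt => closure (⇑(c.π.app j) '' (C : Set c.pt) : Set (D.obj j)))
        (Set.range (connectedComponent : c.pt → Set c.pt)) (Set.range (connectedComponent : D.obj j → Set (D.obj j))) := by
  classical
  haveI : ∀ {i j : I} (f : i ⟶ j), IsAffineHom (D.map f) := fun f => ‹∀ (i j : I) (f : i ⟶ j), IsAffineHom (D.map f)› _ _ f
  have hfin := Groth.Agent.Lead.Lim.finite_range_connectedComponent (A := c.pt)
  obtain ⟨i, φ, h⟩ := Groth.Agent.Lead.Lim.eventually_cover D c hc he i₀ (Set.range connectedComponent) hfin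
    fun x => ⟨_, ⟨x, rfl⟩, mem_connectedComponent⟩
  let S : Set (Set c.pt) := Set.range connectedComponent
  have hcl : ∀ C ∈ S, IsClosed C := by rintro _ ⟨x, rfl⟩; exact isClosed_connectedComponent
  have hdis : ∀ C ∈ S, ∀ C' ∈ S, C ≠ C' → Disjoint C C' := by
    rintro _ ⟨x, rfl⟩ _ ⟨y, rfl⟩ hne
    refine Set.disjoint_left.2 fun z hz hz' => hne ?_
    rw [connectedComponent_eq hz, connectedComponent_eq hz']
  let Idx := {p : S × S // p.1.1 ≠ p.2.1}
  haveI : Finite S := hfin
  choose J ψ hJ using fun p : Idx => Groth.Agent.Lead.Lim.eventually_disjoint_closure D c hc he i₀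
    (hcl _ p.1.1.2) (hcl _ p.1.2.2) (hdis _ p.1.1.2 _ p.1.2.2 p.2)
  obtain ⟨k, fk, gk, hk⟩ := IsCofiltered.wideCospan (I := Option Idx)
    (fun o => Option.rec (motive := fun o => (Option.rec i J o : I) ⟶ i₀) φ ψ o)
  refine ⟨k, fk, fun j g => Groth.Agent.Lead.Lim.bijOn_connectedComponents
    (Groth.Agent.Lead.Lim.isEmbedding_π_of_isEmbedding D c hc he j) (h j (g ≫ gk none))
    fun C hC C' hC' hne => ?_⟩
  exact hJ ⟨(⟨C, hC⟩, ⟨C', hC'⟩), hne⟩ j (g ≫ gk (some ⟨(⟨C, hC⟩, ⟨C', hC'⟩), hne⟩))

end Groth.Agent.S4842
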