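-- Proof of S4852.
import Mathlib.RingTheory.Flat.Basic
import Mathlib.RingTheory.Jacobson.Radical
import Mathlib.RingTheory.Spectrum.Maximal.Basic
import Mathlib.RingTheory.Nilpotent.Defs
import Mathlib.RingTheory.TensorProduct.Basic
import Groth.Agent.Flat.FreeLift

set_option autoImplicit false
universe u
open TensorProduct
namespace EGA43
end EGA43
open EGA43

namespace Groth.Agent.S4852

/-- Let A be a semi-local ring (finitely many maximal ideals) whose Jacobson radical is nilpotent, for
instance an Artinian ring, and let (u_i : A → B_i) be a family of ring homomorphisms whose kernels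
have zero intersection. Then an A-module M is flat if and only if, for every i, the B_i-module B_i
⊗_A M is flat. -/
theorem result {A : Type u} [CommRing A]
    [Finite (MaximalSpectrum A)] (hnil : IsNilpotent (Ring.jacobson A))
    {ι : Type u} (B : ι → Type u) [∀ i, CommRing (B i)] [∀ i, Algebra A (B i)]
    (hB : ∀ a : A, (∀ i, algebraMap A (B i) a = 0) → a = 0)
    (M : Type u) [AddCommGroup M] [Module A M] :
    Module.Flat A M ↔ ∀ i, Module.Flat (B i) (B i ⊗[A] M) := by
  refine ⟨fun h i => ?_, Groth.Agent.Flat.FreeLift.flat_of_family hnil B hB M⟩
  haveI := h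
  infer_instance

end Groth.Agent.S4852
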