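import Groth.Statements.S4858
import Groth.Agent.EGA43.QHomeo

set_option autoImplicit false
universe u
open EGA43

namespace Groth.Agent.S4858
open Groth.Agent.EGA43.QHomeo

/-- Conditions a), a′), c), c′) (very dense subsets): for a subset X₀ of a topological space X the
following are equivalent: every nonempty locally closed subset of X meets X₀; every closed subset Z
of X equals the closure of Z ∩ X₀; the map U ↦ U ∩ X₀ is injective on open subsets of X; the map F ↦
F ∩ X₀ is injective on closed subsets of X. -/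
theorem result {X : Type u} [TopologicalSpace X] (X₀ : Set X) :
    [∀ Z : Set X, IsLocallyClosed Z → Z.Nonempty → (Z ∩ X₀).Nonempty,
      ∀ Z : Set X, IsClosed Z → closure (Z ∩ X₀) = Z,
      ∀ U V : Set X, IsOpen U → IsOpen V → U ∩ X₀ = V ∩ X₀ → U = V,
      ∀ F F' : Set X, IsClosed F → IsClosed F' → F ∩ X₀ = F' ∩ X₀ → F = F'].TFAE := by
  tfae_have 1 → 3 := fun h U V hU hV e => hU.lqc.eq_of_inter_eq h hV.lqc e
  tfae_have 3 → 4 := fun h F F' hF hF' e => compl_injective (h Fᶜ F'ᶜ hF.isOpen_compl hF'.isOpen_compl (by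
    ext x
    simp only [Set.mem_inter_iff, Set.mem_compl_iff]
    have := Set.ext_iff.mp e x
    simp only [Set.mem_inter_iff] at this
    tauto))
  tfae_have 4 → 2 := fun h Z hZ => h _ _ isClosed_closure hZ (Set.Subset.antisymm
    (Set.inter_subset_inter_left _ (closure_minimal Set.inter_subset_left hZ))
    fun x hx => ⟨subset_closure hx, hx.2⟩)
  tfae_have 2 → 1 := fun h Z hZ hne => by
    obtain ⟨U, C, hU, hC, rfl⟩ := hZ
    obtain ⟨x, hxU, hxC⟩ := hne
    obtain ⟨y, hyU, hy⟩ := mem_closure_iff.mp ((h C hC).ge hxC) U hU hxU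
    exact ⟨y, ⟨hyU, hy.1⟩, hy.2⟩
  tfae_finish

end Groth.Agent.S4858
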