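import Groth.Statements.S4859
import Groth.Agent.EGA43.QHomeo

set_option autoImplicit false
universe u
open EGA43

namespace Groth.Agent.S4859
open Groth.Agent.EGA43.QHomeo

/-- Conditions a), a′), b) (quasi-homeomorphisms): for a continuous map f : X₀ → X the following are
equivalent: taking preimages is a bijection from the open subsets of X onto the open subsets of X₀;
taking preimages is a bijection from the closed subsets of X onto the closed subsets of X₀; the
topology of X₀ is induced from X through f and the image f(X₀) is very dense in X, in the sense that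
two open subsets of X with the same trace on f(X₀) coincide. -/
theorem result {X₀ X : Type u} [TopologicalSpace X₀] [TopologicalSpace X]
    (f : X₀ → X) (hf : Continuous f) :
    [Function.Bijective (fun U : TopologicalSpace.Opens X =>
        (⟨f ⁻¹' (U : Set X), U.isOpen.preimage hf⟩ : TopologicalSpace.Opens X₀)),
      Function.Bijective (fun F : TopologicalSpace.Closeds X =>
        (⟨f ⁻¹' (F : Set X), F.isClosed.preimage hf⟩ : TopologicalSpace.Closeds X₀)),
      Topology.IsInducing f ∧
        ∀ U V : Set X, IsOpen U → IsOpen V → U ∩ Set.range f = V ∩ Set.range f → U = V].TFAE := by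
  tfae_have 1 → 3 := fun h => by
    have q := (qh_iff_bijective hf).mpr h
    exact ⟨q.inducing, fun U V hU hV e => hU.lqc.eq_of_inter_eq (fun _ => q.meets) hV.lqc e⟩
  tfae_have 3 → 1 := fun ⟨hi, hm⟩ => (qh_iff_bijective hf).mp (.of_meets_of_inducing hi hm)
  tfae_have 1 → 2 := fun h => by
    refine ⟨fun F G e => TopologicalSpace.Closeds.ext (compl_injective ?_), fun F => ?_⟩
    · exact ((qh_iff_bijective hf).mpr h).inj _ _ F.isClosed.isOpen_compl G.isClosed.isOpen_compl
        (congrArg compl (congrArg SetLike.coe e : f ⁻¹' (F : Set X) = f ⁻¹' (G : Set X)))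
    · obtain ⟨U, hU, e⟩ := ((qh_iff_bijective hf).mpr h).surj _ F.isClosed.isOpen_compl
      refine ⟨⟨Uᶜ, hU.isClosed_compl⟩, TopologicalSpace.Closeds.ext ?_⟩
      show (f ⁻¹' U)ᶜ = _
      rw [e, compl_compl]
  tfae_have 2 → 1 := fun h => by
    refine (qh_iff_bijective hf).mp ⟨hf, fun U V hU hV e => compl_injective ?_, fun V hV => ?_⟩
    · exact congrArg SetLike.coe (@h.1 ⟨Uᶜ, hU.isClosed_compl⟩ ⟨Vᶜ, hV.isClosed_compl⟩
        (TopologicalSpace.Closeds.ext (congrArg compl e)))
    · obtain ⟨F, hF⟩ := h.2 ⟨Vᶜ, hV.isClosed_compl⟩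
      refine ⟨(F : Set X)ᶜ, F.isClosed.isOpen_compl, compl_injective ?_⟩
      rw [Set.preimage_compl, compl_compl]
      exact congrArg SetLike.coe hF
  tfae_finish

end Groth.Agent.S4859
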