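import Groth.Statements.S4860
import Groth.Agent.EGA43.AwayField
import Groth.Agent.Alg.ImageBasicOpen
import Mathlib

set_option autoImplicit false
universe u
open EGA43

namespace Groth.Agent.S4860

/-- For an integral domain B the following are equivalent: a) the localization B_f is a field for some
nonzero f; b) the fraction field of B is a finitely generated B-algebra; c) there is a field
containing B (an injective algebra map from B) which is a finitely generated B-algebra; d) the
generic point of Spec B is open. -/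
theorem result (B : Type u) [CommRing B] [IsDomain B] :
    [∃ f : B, f ≠ 0 ∧ IsField (Localization.Away f),
      Algebra.FiniteType B (FractionRing B),
      ∃ (K : Type u) (_ : Field K) (_ : Algebra B K), Function.Injective (algebraMap B K) ∧ Algebra.FiniteType B K,
      IsOpen ({⟨⊥, Ideal.bot_prime⟩} : Set (PrimeSpectrum B))].TFAE := by
  tfae_have 1 → 2 := fun ⟨f, hf, h⟩ => Groth.Agent.EGA43.AwayField.fraction_finiteType hf h
  tfae_have 2 → 3 := fun h => ⟨FractionRing B, inferInstance, inferInstance, IsFractionRing.injective B _, h⟩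
  tfae_have 3 → 4 := fun ⟨K, _, _, hinj, hft⟩ => by
    obtain ⟨a, ha, h⟩ := Groth.Agent.Alg.ImageBasicOpen.exists_of_finiteType hinj
      (g := (1 : K)) one_ne_zero
    suffices h' : ({⟨⊥, Ideal.bot_prime⟩} : Set (PrimeSpectrum B)) = (PrimeSpectrum.basicOpen a : Set (PrimeSpectrum B)) by
      rw [h']; exact (PrimeSpectrum.basicOpen a).2
    ext q
    refine ⟨fun hq => ?_, fun hq => ?_⟩
    · rw [Set.mem_singleton_iff.mp hq]
      exact fun e => ha (Ideal.mem_bot.mp e)
    · obtain ⟨Q, hQ, -, hQq⟩ := h q.asIdeal q.2 hq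
      refine Set.mem_singleton_iff.mpr (PrimeSpectrum.ext ?_)
      rw [← hQq]
      rcases Ideal.eq_bot_or_top Q with rfl | rfl
      · exact (RingHom.ker_eq_comap_bot _).symm.trans ((RingHom.injective_iff_ker_eq_bot _).mp hinj)
      · exact absurd rfl hQ.ne_top
  tfae_have 4 → 1 := fun h => by
    obtain ⟨_, ⟨f, rfl⟩, hfp, hfs⟩ :=
      PrimeSpectrum.isTopologicalBasis_basic_opens.exists_subset_of_mem_open
        (Set.mem_singleton (⟨⊥, Ideal.bot_prime⟩ : PrimeSpectrum B)) h
    have hf : f ≠ 0 := fun e => hfp (by simp [e])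
    refine ⟨f, hf, Groth.Agent.EGA43.AwayField.isField_away hf fun q hq hne => ?_⟩
    by_contra hfq
    exact hne (congrArg PrimeSpectrum.asIdeal (Set.mem_singleton_iff.mp (hfs (a := ⟨q, hq⟩) hfq)))
  tfae_finish

end Groth.Agent.S4860
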