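import Groth.Statements.S4861
import Mathlib.RingTheory.Ideal.KrullsHeightTheorem
import Mathlib.RingTheory.Ideal.MinimalPrime.Noetherian

set_option autoImplicit false
universe u
open EGA43

namespace Groth.Agent.S4861

theorem two_le_height {B : Type u} [CommRing B] [IsDomain B] {p q : Ideal B} [p.IsPrime] [q.IsPrime]
    (hp : p ≠ ⊥) (hlt : p < q) : ¬ q.height ≤ 1 := by
  intro h
  let l : LTSeries (PrimeSpectrum B) :=
    (RelSeries.singleton _ (⟨⊥, Ideal.isPrime_bot⟩ : PrimeSpectrum B)).snoc ⟨p, inferInstance⟩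
      ((PrimeSpectrum.asIdeal_lt_asIdeal _ _).1 (bot_lt_iff_ne_bot.2 hp : (⊥ : Ideal B) < p))
  let l' : LTSeries (PrimeSpectrum B) := l.snoc ⟨q, inferInstance⟩ (by show l.last < _; simp only [l, RelSeries.last_snoc]; exact (PrimeSpectrum.asIdeal_lt_asIdeal _ _).1 hlt)
  have h1 : (l'.length : ℕ∞) ≤ Order.height (⟨q, inferInstance⟩ : PrimeSpectrum B) :=
    Order.length_le_height (by simp [l'])
  rw [← PrimeSpectrum.height_eq_orderHeight] at h1
  have := h1.trans h
  simp [l', l] at this

/-- For a Noetherian integral domain B the following are equivalent (and hence equivalent to: the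
fraction field of B is a finitely generated B-algebra; the generic point of Spec B is open): a) the
localization B_f is a field for some nonzero f; e) Spec B is finite; f) B is semi-local (finitely
many maximal ideals) of Krull dimension at most 1. -/
theorem result (B : Type u) [CommRing B] [IsDomain B]
    [IsNoetherianRing B] :
    [∃ f : B, f ≠ 0 ∧ IsField (Localization.Away f),
      Finite (PrimeSpectrum B),
      Finite (MaximalSpectrum B) ∧ ringKrullDim B ≤ 1].TFAE := by
  classical
  have cover : ∀ (q : Ideal B), q.IsPrime → ∀ (S : Finset (Ideal B)), (∀ p ∈ S, p.IsPrime) →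
      (∀ p : Ideal B, p.IsPrime → p ≤ q → p ≠ ⊥ → p.height ≤ 1 → p ∈ S) →
      q = ⊥ ∨ ∃ p ∈ S, q ≤ p := by
    intro q hq S hS h
    by_cases hq0 : q = ⊥
    · exact Or.inl hq0
    refine Or.inr ((Ideal.subset_union_prime (f := fun p => p) ⊥ ⊥ (fun i hi _ _ => hS i hi)).1 fun x hx => ?_)
    obtain ⟨x₀, hx₀, hx₀0⟩ := Submodule.exists_mem_ne_zero_of_ne_bot hq0
    have key : ∀ y ∈ q, y ≠ 0 → ∃ p ∈ S, y ∈ p := fun y hy hy0 => by
      obtain ⟨p, hp, hpq⟩ := Ideal.exists_minimalPrimes_le ((Ideal.span_singleton_le_iff_mem (I := q)).2 hy)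
      haveI := hp.1.1
      have hyp : y ∈ p := hp.1.2 (Ideal.mem_span_singleton_self y)
      exact ⟨p, h p hp.1.1 hpq (fun e => hy0 (by simpa [e] using hyp))
        (Ideal.height_le_one_of_isPrincipal_of_mem_minimalPrimes (Ideal.span {y}) p hp), hyp⟩
    simp only [Set.mem_iUnion, SetLike.mem_coe, Finset.mem_coe, exists_prop]
    by_cases hx0 : x = 0
    · obtain ⟨p, hp, -⟩ := key x₀ hx₀ hx₀0
      exact ⟨p, hp, hx0 ▸ p.zero_mem⟩
    · exact key x hx hx0
  tfae_have 1 → 2 := by
    rintro ⟨f, hf0, hf⟩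
    have hfmem : ∀ p : Ideal B, p.IsPrime → p ≠ ⊥ → f ∈ p := fun p hp hp0 => by
      by_contra hfp
      have hdisj : Disjoint (Submonoid.powers f : Set B) (p : Set B) := Set.disjoint_left.2 fun y hy hyp => by
        obtain ⟨n, rfl⟩ := hy
        exact hfp (hp.mem_of_pow_mem n hyp)
      have h1 := IsLocalization.under_map_of_isPrime_disjoint (Submonoid.powers f) (Localization.Away f) hp hdisj
      haveI := IsLocalization.isPrime_of_isPrime_disjoint (Submonoid.powers f) (Localization.Away f) p hp hdisj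
      letI := hf.toField
      have h2 : Ideal.map (algebraMap B (Localization.Away f)) p = ⊥ :=
        (Ideal.eq_bot_or_top _).resolve_right (Ideal.IsPrime.ne_top inferInstance)
      rw [h2] at h1
      apply hp0
      rw [← h1, Ideal.under, ← RingHom.ker, RingHom.ker_eq_bot_iff_eq_zero]
      intro y hy
      exact (IsLocalization.injective (Localization.Away f)
        (powers_le_nonZeroDivisors_of_noZeroDivisors hf0)) (by rw [hy, map_zero])
    have hfin : (Ideal.span {f}).minimalPrimes.Finite := Ideal.finite_minimalPrimes_of_isNoetherianRing B _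
    refine @Finite.of_finite_univ _ ((((hfin.insert ⊥).preimage (fun _ _ _ _ h => PrimeSpectrum.ext h)).subset
      fun q _ => ?_))
    show q.asIdeal ∈ insert ⊥ (Ideal.span {f}).minimalPrimes
    rcases cover q.asIdeal q.isPrime hfin.toFinset (fun p hp => ((Set.Finite.mem_toFinset _).1 hp).1.1)
      (fun p hp _ hp0 hp1 => (Set.Finite.mem_toFinset _).2 (by
        obtain ⟨p'', hp'', hle⟩ := Ideal.exists_minimalPrimes_le
          ((Ideal.span_singleton_le_iff_mem (I := p)).2 (hfmem p hp hp0))
        haveI := hp''.1.1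
        rcases eq_or_lt_of_le hle with h | h
        · exact h ▸ hp''
        · exact absurd hp1 (two_le_height (fun e => hf0 (by simpa [e] using hp''.1.2 (Ideal.mem_span_singleton_self f))) h))) with h | ⟨p, hp, hle⟩
    · exact Set.mem_insert_iff.2 (Or.inl h)
    · rcases eq_or_ne q.asIdeal ⊥ with h | h
      · exact Set.mem_insert_iff.2 (Or.inl h)
      refine Set.mem_insert_iff.2 (Or.inr ?_)
      have hp' := (Set.Finite.mem_toFinset _).1 hp
      rwa [le_antisymm hle (hp'.2 ⟨q.isPrime, (Ideal.span_singleton_le_iff_mem _).2 (hfmem _ q.isPrime h)⟩ hle)]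
  tfae_have 2 → 3 := by
    intro hfin
    refine ⟨Finite.of_injective MaximalSpectrum.toPrimeSpectrum MaximalSpectrum.toPrimeSpectrum_injective, ?_⟩
    haveI : Fintype (PrimeSpectrum B) := Fintype.ofFinite _
    refine (ringKrullDim_le_iff_height_le (R := B) (n := 1)).2 fun q hq => ?_
    rcases cover q hq ((Finset.univ.filter fun p : PrimeSpectrum B => p.asIdeal.height ≤ 1).image (·.asIdeal))
      (fun p hp => by obtain ⟨p', -, rfl⟩ := Finset.mem_image.1 hp; exact p'.isPrime)
      (fun p hp _ _ hp1 => Finset.mem_image.2 ⟨⟨p, hp⟩, by simpa using hp1, rfl⟩) with h | ⟨p, hp, hle⟩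
    · subst h; simp
    · obtain ⟨p', hp', rfl⟩ := Finset.mem_image.1 hp
      exact WithBot.coe_le_coe.2 ((Ideal.height_mono hle).trans (Finset.mem_filter.1 hp').2)
  tfae_have 3 → 1 := by
    rintro ⟨hfin, hdim⟩
    haveI : Fintype (MaximalSpectrum B) := Fintype.ofFinite _
    have hmax : ∀ p : Ideal B, p.IsPrime → p ≠ ⊥ → p.IsMaximal := fun p hp hp0 => by
      obtain ⟨m, hm, hle⟩ := Ideal.exists_le_maximal p hp.ne_top
      haveI := hm.isPrime
      rcases eq_or_lt_of_le hle with h | h
      · exact h ▸ hm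
      · exact absurd (by exact_mod_cast ((ringKrullDim_le_iff_height_le (R := B) (n := 1)).1 hdim hm.isPrime)) (two_le_height hp0 h)
    by_cases hB : IsField B
    · refine ⟨1, one_ne_zero, ?_⟩
      exact MulEquiv.isField hB (IsLocalization.atOne B (Localization.Away (1 : B))).toRingEquiv.symm.toMulEquiv
    have hne : ∀ m : MaximalSpectrum B, ∃ x ∈ m.asIdeal, x ≠ 0 := fun m => by
      refine Submodule.exists_mem_ne_zero_of_ne_bot fun e => hB ?_
      by_contra hB'
      exact Ring.ne_bot_of_isMaximal_of_not_isField m.isMaximal hB' e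
    choose x hx hx0 using hne
    obtain ⟨g, hg⟩ : ∃ g, g = ∏ m, x m := ⟨_, rfl⟩
    have hg0 : g ≠ 0 := hg ▸ Finset.prod_ne_zero_iff.2 fun m _ => hx0 m
    refine ⟨g, hg0, ?_⟩
    haveI : IsDomain (Localization.Away g) := IsLocalization.isDomain_of_le_nonZeroDivisors (M := Submonoid.powers g) (Localization.Away g)
      (powers_le_nonZeroDivisors_of_noZeroDivisors hg0)
    by_contra hnf
    obtain ⟨P, hP0, hP⟩ := Ring.not_isField_iff_exists_prime.1 hnf
    let p := P.comap (algebraMap B (Localization.Away g))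
    have hp0 : p ≠ ⊥ := fun e => hP0 (by
      rw [← IsLocalization.map_comap (Submonoid.powers g) (Localization.Away g) P]
      show Ideal.map _ p = ⊥
      rw [e, Ideal.map_bot])
    have hpm := hmax p inferInstance hp0
    have hmem : g ∈ p := hg ▸
      Ideal.mem_of_dvd p (Finset.dvd_prod_of_mem _ (Finset.mem_univ (⟨p, hpm⟩ : MaximalSpectrum B))) (hx ⟨p, hpm⟩)
    exact hP.ne_top (Ideal.eq_top_of_isUnit_mem _ hmem (IsLocalization.map_units _ ⟨_, Submonoid.mem_powers _⟩))
  tfae_finish

end Groth.Agent.S4861
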