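import Groth.Statements.S4862
import Groth.Agent.EGA43.AwayField
import Mathlib

set_option autoImplicit false
universe u
open EGA43

namespace Groth.Agent.S4862

/-- For a commutative ring A the following are equivalent: a) A is a Jacobson ring; b) for every prime
ideal p of A which is not maximal and every nonzero f of B = A/p, the localization B_f is not a
field; b′) every finitely generated A-algebra which is a field is a finite A-module. -/
theorem result (A : Type u) [CommRing A] :
    [IsJacobsonRing A,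
      ∀ (p : Ideal A) [p.IsPrime], ¬ p.IsMaximal → ∀ f : A ⧸ p, f ≠ 0 → ¬ IsField (Localization.Away f),
      ∀ (K : Type u) [Field K] [Algebra A K], Algebra.FiniteType A K → Module.Finite A K].TFAE := by
  tfae_have 1 → 3 := fun h K _ _ hft => finite_of_finite_type_of_isJacobsonRing A K
  tfae_have 3 → 2 := fun h p _ hp f hf hfield => hp <| by
    letI := hfield.toField
    haveI : Algebra.FiniteType A (Localization.Away f) :=
      Algebra.FiniteType.trans (S := A ⧸ p) inferInstance inferInstance
    haveI := h (Localization.Away f) inferInstance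
    haveI : Algebra.IsIntegral (A ⧸ p) (Localization.Away f) := Algebra.IsIntegral.tower_top (R := A)
    exact Ideal.Quotient.maximal_of_isField p
      (isField_of_isIntegral_of_isField (IsLocalization.injective (Localization.Away f)
        (powers_le_nonZeroDivisors_of_noZeroDivisors hf)) (Field.toIsField _))
  tfae_have 2 → 1 := fun h => by
    rw [isJacobsonRing_iff_prime_eq]
    intro P hP
    refine le_antisymm (fun f hf => ?_) Ideal.le_jacobson
    by_contra hfP
    obtain ⟨q, ⟨hPq, hfq, hq⟩, hmax⟩ : ∃ q : Ideal A, (P ≤ q ∧ f ∉ q ∧ q.IsPrime) ∧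
        ∀ q' : Ideal A, q'.IsPrime → q ≤ q' → f ∉ q' → q' = q := by
      let S : Set (Ideal A) := {q | P ≤ q ∧ Disjoint (q : Set A) (Submonoid.powers f : Set A)}
      have hd : Disjoint (P : Set A) (Submonoid.powers f : Set A) := Set.disjoint_left.mpr fun x hx hxp => by
        obtain ⟨n, rfl⟩ := hxp
        exact hfP (hP.mem_of_pow_mem n hx)
      obtain ⟨q, hPq, hq⟩ := zorn_le_nonempty₀ S (fun c hc hcc I hI => ⟨sSup c,
        ⟨le_trans (hc hI).1 (le_sSup hI), Set.disjoint_left.mpr fun x hx => by
          obtain ⟨J, hJ, hxJ⟩ := (Submodule.mem_sSup_of_directed ⟨I, hI⟩ hcc.directedOn).mp hx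
          exact Set.disjoint_left.mp (hc hJ).2 hxJ⟩, fun J hJ => le_sSup hJ⟩) P ⟨le_rfl, hd⟩
      have hfq : f ∉ q := fun e => Set.disjoint_left.mp hq.prop.2 e (Submonoid.mem_powers f)
      refine ⟨q, ⟨hPq, hfq, Ideal.isPrime_of_maximally_disjoint q _ hq.prop.2
        fun J hJ hJd => hJ.not_ge (hq.le_of_ge ⟨hPq.trans hJ.le, hJd⟩ hJ.le)⟩, fun q' hq' hle hf' => ?_⟩
      refine le_antisymm (hq.le_of_ge ⟨hPq.trans hle, Set.disjoint_left.mpr fun x hx hxp => ?_⟩ hle) hle
      obtain ⟨n, rfl⟩ := hxp
      exact hf' (hq'.mem_of_pow_mem n hx)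
    have hnm : ¬ q.IsMaximal := fun hm => hfq (Ideal.mem_sInf.mp hf ⟨hPq, hm⟩)
    have hf0 : Ideal.Quotient.mk q f ≠ 0 := fun e => hfq (Ideal.Quotient.eq_zero_iff_mem.mp e)
    refine h q hnm _ hf0 (Groth.Agent.EGA43.AwayField.isField_away hf0 fun Q hQ hne => ?_)
    by_contra hfQ
    apply hne
    have := hmax _ (Ideal.comap_isPrime (Ideal.Quotient.mk q) Q)
      (fun x hx => by
        rw [Ideal.mem_comap, Ideal.Quotient.eq_zero_iff_mem.mpr hx]; exact zero_mem _) hfQ
    rw [← Ideal.map_comap_of_surjective _ Ideal.Quotient.mk_surjective Q, this, Ideal.map_quotient_self]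
  tfae_finish

end Groth.Agent.S4862
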