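import Groth.Statements.S4864
import Groth.Agent.FibreDepth.FlatLocusModule

set_option autoImplicit false
set_option backward.isDefEq.respectTransparency false
universe u
open EGA43

namespace Groth.Agent.S4864

open AlgebraicGeometry CategoryTheory Limits in
/-- Let f : X ⟶ Y and g : Y ⟶ Z be morphisms of finite presentation and F a quasi-coherent O_X-module of
finite presentation. Then the set U of points y of Y such that, for every generization y' of y, F is
(f ≫ g)-flat at every point of X above y', is open in Y. -/
theorem result {X Y Z : Scheme.{u}} (f : X ⟶ Y) (g : Y ⟶ Z)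
    [LocallyOfFinitePresentation f] [QuasiCompact f] [QuasiSeparated f]
    [LocallyOfFinitePresentation g] [QuasiCompact g] [QuasiSeparated g]
    (F : X.Modules) [Coh.IsQCoh F] (hF : CohB1.IsFP F) :
    IsOpen {y : Y | ∀ y' : Y, y' ⤳ y → ∀ x : X, f x = y' → FlatMod.IsFlatOverAt (f ≫ g) F x} := by
  have hopen := Groth.Agent.FibreDepth.FlatLocusModule.isOpen_flatOverAt (f ≫ g) F hF
  let Z : Set X := {x | FlatMod.IsFlatOverAt (f ≫ g) F x}ᶜ
  refine isOpen_iff_forall_mem_open.mpr fun y hy => ⟨(closure (f '' Z))ᶜ, fun z hz y' hy' x hx => ?_,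
    isClosed_closure.isOpen_compl, fun hc => ?_⟩
  · by_contra hn
    exact hz (closure_mono (Set.singleton_subset_iff.mpr (show y' ∈ f '' Z from ⟨x, hn, hx⟩)) hy'.mem_closure)
  · obtain ⟨x, hn, hx⟩ := Groth.Agent.FibreDepth.FlatLocusModule.exists_specializes_image f hopen.isClosed_compl hc
    exact hn (hy _ hx x rfl)

end Groth.Agent.S4864
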