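import Groth.Statements.S4873
import Mathlib

set_option autoImplicit false
set_option backward.isDefEq.respectTransparency false
set_option backward.isDefEq.respectTransparency.types false
universe u
open CategoryTheory AlgebraicGeometry
open EGA43

namespace Groth.Agent.S4873
open TensorProduct

/-- Let (f_i : Z_i ⟶ X) be a family of morphisms. If the family is schematically dominant, i.e. a
section of O_X over an open V whose pullback to every f_i⁻¹(V) vanishes is zero, then the union of
the images f_i(Z_i) is dense in X. Conversely, if X is reduced and this union is dense, the family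
is schematically dominant. -/
theorem result {X : Scheme.{u}} {ι : Type u} (Z : ι → Scheme.{u})
    (f : ∀ i, Z i ⟶ X) :
    ((∀ (V : (X).Opens) (t : Γ(X, V)), (∀ i, (f i).app V t = 0) → t = 0) → Dense (⋃ i, Set.range (f i))) ∧
    (IsReduced X → Dense (⋃ i, Set.range (f i)) → (∀ (V : (X).Opens) (t : Γ(X, V)), (∀ i, (f i).app V t = 0) → t = 0)) := by
  refine ⟨fun h => ?_, fun hred hd V t ht => ?_⟩
  · rw [dense_iff_inter_open]
    rintro W hW ⟨x, hx⟩
    by_contra hc
    have h0 : (1 : Γ(X, ⟨W, hW⟩)) = 0 := h ⟨W, hW⟩ 1 fun i => by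
      have hbot : (f i) ⁻¹ᵁ (⟨W, hW⟩ : X.Opens) = ⊥ := by
        refine eq_bot_iff.mpr fun z hz => hc ⟨f i z, hz, Set.mem_iUnion.mpr ⟨i, ⟨z, rfl⟩⟩⟩
      haveI : Subsingleton Γ(Z i, (f i) ⁻¹ᵁ (⟨W, hW⟩ : X.Opens)) := by
        rw [hbot]; infer_instance
      exact Subsingleton.elim _ _
    have h1 := congrArg (X.presheaf.germ ⟨W, hW⟩ x hx).hom h0
    rw [map_one, map_zero] at h1
    exact one_ne_zero h1
  · haveI := hred
    have hempty : (X.basicOpen t : Set X) = ∅ := by
      by_contra hne
      obtain ⟨x, hx, hx'⟩ := hd.inter_open_nonempty _ (X.basicOpen t).2 (Set.nonempty_iff_ne_empty.mpr hne)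
      obtain ⟨i, z, rfl⟩ := Set.mem_iUnion.mp hx'
      have hz : z ∈ (f i) ⁻¹ᵁ X.basicOpen t := hx
      rw [Scheme.preimage_basicOpen, ht i, Scheme.basicOpen_zero] at hz
      exact hz
    exact (basicOpen_eq_bot_iff t).mp (SetLike.coe_injective hempty)

end Groth.Agent.S4873
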