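import Groth.Statements.S4874
import Mathlib

set_option autoImplicit false
set_option backward.isDefEq.respectTransparency false
set_option backward.isDefEq.respectTransparency.types false
universe u
open CategoryTheory AlgebraicGeometry
open EGA43

namespace Groth.Agent.S4874

/-- Let (f_i : Z_i ⟶ X) be a family of morphisms, g : X' ⟶ X a faithfully flat morphism and f'_i : Z_i
×_X X' ⟶ X' the base changes. If the family (f'_i) is schematically dominant, then so is the family
(f_i). (Schematically dominant: a section of the structure sheaf over an open whose pullback along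
every member of the family vanishes is zero.) -/
theorem result {X X' : Scheme.{u}} {ι : Type u} (Z : ι → Scheme.{u})
    (f : ∀ i, Z i ⟶ X) (g : X' ⟶ X) [Flat g] [Surjective g]
    (h : (∀ (V : (X').Opens) (t : Γ(X', V)), (∀ i, (Limits.pullback.snd (f i) g).app V t = 0) → t = 0)) :
    (∀ (V : (X).Opens) (t : Γ(X, V)), (∀ i, (f i).app V t = 0) → t = 0) := by
  intro V t ht
  have h1 : g.app V t = 0 := h _ _ fun i => by
    have e := Scheme.Hom.congr_app (Limits.pullback.condition (f := f i) (g := g)) V
    rw [Scheme.Hom.comp_app, Scheme.Hom.comp_app] at e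
    have e' := congrArg (fun m => m.hom t) e
    simp only [CommRingCat.hom_comp, RingHom.comp_apply] at e'
    rw [ht i, map_zero] at e'
    exact (map_eq_zero_iff _ ((ConcreteCategory.isIso_iff_bijective _).mp inferInstance).1).mp e'.symm
  refine TopCat.Presheaf.section_ext X.sheaf V t 0 fun x hx => ?_
  obtain ⟨x', rfl⟩ := g.surjective x
  have hf := Flat.stalkMap g x'
  algebraize [(g.stalkMap x').hom]
  haveI : IsLocalHom (algebraMap ↑(X.presheaf.stalk (g x')) ↑(X'.presheaf.stalk x')) :=
    inferInstanceAs (IsLocalHom (g.stalkMap x').hom)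
  haveI := Module.FaithfullyFlat.of_flat_of_isLocalHom (A := ↑(X.presheaf.stalk (g x')))
    (B := ↑(X'.presheaf.stalk x'))
  apply FaithfulSMul.algebraMap_injective ↑(X.presheaf.stalk (g x')) ↑(X'.presheaf.stalk x')
  show (g.stalkMap x').hom _ = (g.stalkMap x').hom _
  rw [map_zero, map_zero]
  exact ((Scheme.Hom.germ_stalkMap_apply g V x' hx t).trans (congrArg _ h1)).trans (map_zero _)

end Groth.Agent.S4874
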