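import Groth.Statements.S4878
import Mathlib

set_option autoImplicit false
universe u
open TensorProduct
open EGA43

namespace Groth.Agent.S4878

/-- Let A be a commutative ring, (u_i : M → M_i) a family of A-linear maps whose kernels have zero
intersection, and N a projective A-module. Then the kernels of the maps u_i ⊗ 1 : M ⊗_A N → M_i ⊗_A
N have zero intersection. -/
theorem result {A : Type u} [CommRing A]
    {M : Type u} [AddCommGroup M] [Module A M] {ι : Type u} (M' : ι → Type u)
    [∀ i, AddCommGroup (M' i)] [∀ i, Module A (M' i)] (u : ∀ i, M →ₗ[A] M' i)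
    (hu : ⨅ i, LinearMap.ker (u i) = ⊥)
    (N : Type u) [AddCommGroup N] [Module A N] [Module.Projective A N] :
    ⨅ i, LinearMap.ker ((u i).rTensor N) = ⊥ := by
  classical
  obtain ⟨s, hs⟩ := Module.projective_def'.mp ‹Module.Projective A N›
  let E := TensorProduct.finsuppScalarRight A A M N
  have hnat : ∀ i (w : M ⊗[A] (N →₀ A)) (n : N),
      (TensorProduct.finsuppScalarRight A A (M' i) N) ((u i).rTensor (N →₀ A) w) n = u i (E w n) := by
    intro i w n
    induction w using TensorProduct.induction_on with
    | zero => simp
    | add a b ha hb => simp [ha, hb]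
    | tmul m f => simp [E]
  rw [eq_bot_iff]
  intro z hz
  rw [Submodule.mem_iInf] at hz
  have h1 : ∀ i, (u i).rTensor (N →₀ A) (s.lTensor M z) = 0 := by
    intro i
    rw [← LinearMap.comp_apply, LinearMap.rTensor_comp_lTensor, ← LinearMap.lTensor_comp_rTensor,
      LinearMap.comp_apply, show (u i).rTensor N z = 0 from hz i, map_zero]
  have h2 : E (s.lTensor M z) = 0 := by
    ext n
    have : E (s.lTensor M z) n ∈ ⨅ i, LinearMap.ker (u i) := Submodule.mem_iInf _ |>.mpr fun i => by
      rw [LinearMap.mem_ker, ← hnat, h1 i, map_zero, Finsupp.zero_apply]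
    rw [hu] at this
    simpa using this
  have h3 : s.lTensor M z = 0 := by
    apply E.injective
    rw [h2, map_zero]
  have h4 := congrArg ((Finsupp.linearCombination A id).lTensor M) h3
  rw [← LinearMap.comp_apply, ← LinearMap.lTensor_comp, hs, LinearMap.lTensor_id, map_zero] at h4
  exact h4

end Groth.Agent.S4878
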