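import Groth.Statements.S4880
import Groth.Agent.EGA43.LocClosed
import Groth.Agent.S4712
import Mathlib

set_option autoImplicit false
universe u
open CategoryTheory AlgebraicGeometry
open EGA43

namespace Groth.Agent.S4880

/-- For a Noetherian irreducible scheme X the following are equivalent: a) the generic point of X is an
isolated point; b) the underlying set of X is finite; c) X has dimension at most 1 and finitely many
closed points. -/
theorem result (X : Scheme.{u}) [IsNoetherian X]
    [IrreducibleSpace X] :
    [IsOpen ({genericPoint X} : Set X),
      Finite X,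
      topologicalKrullDim X ≤ 1 ∧ {x : X | IsClosed ({x} : Set X)}.Finite].TFAE := by
  have hcl : closure ({genericPoint X} : Set X) = Set.univ := genericPoint_spec X
  tfae_have 1 → 2 := fun h => by
    have := Groth.Agent.EGA43.LocClosed.finite_closure (x := genericPoint X) h.isLocallyClosed
    rw [hcl] at this
    exact Set.finite_univ_iff.mp this
  tfae_have 2 → 1 := fun h => by
    have e : ({genericPoint X} : Set X) = (⋃ y : {y : X // y ≠ genericPoint X}, closure {y.1})ᶜ := by
      ext z
      simp only [Set.mem_singleton_iff, Set.mem_compl_iff, Set.mem_iUnion, not_exists]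
      refine ⟨fun hz y hy => y.2 ?_, fun h' => ?_⟩
      · exact ((specializes_iff_mem_closure.mpr (hz ▸ hy)).antisymm (genericPoint_specializes _)).eq
      · by_contra hne
        exact h' ⟨z, hne⟩ (subset_closure rfl)
    rw [e]
    exact (isClosed_iUnion_of_finite fun _ => isClosed_closure).isOpen_compl
  tfae_have 1 → 3 := fun h => by
    refine ⟨?_, ?_⟩
    · have := (Groth.Agent.S4712.result X (genericPoint X) h.isLocallyClosed).1
      rw [hcl] at this
      rwa [IsHomeomorph.topologicalKrullDim_eq _ (Homeomorph.Set.univ X).isHomeomorph] at this
    · haveI := tfae_1_to_2 h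
      exact Set.toFinite _
  tfae_have 3 → 2 := fun ⟨hd, hfin⟩ => by
    have hsub : (Set.univ : Set X) ⊆ {x : X | IsClosed ({x} : Set X)} ∪ {genericPoint X} := by
      intro y _
      by_contra hy
      simp only [Set.mem_union, Set.mem_setOf_eq, Set.mem_singleton_iff, not_or] at hy
      obtain ⟨hy1, hy2⟩ := hy
      obtain ⟨z, hz, hzy⟩ : ∃ z ∈ closure ({y} : Set X), z ≠ y := by
        by_contra hc
        push_neg at hc
        exact hy1 (isClosed_of_closure_subset fun z hz => hc z hz)
      let W : X → TopologicalSpace.IrreducibleCloseds X := fun w =>
        ⟨closure {w}, isIrreducible_singleton.closure, isClosed_closure⟩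
      have hlt : ∀ a b : X, b ⤳ a → a ≠ b → W a < W b := fun a b hab hne => by
        refine lt_of_le_of_ne ?_ fun e => hne ?_
        · exact isClosed_closure.closure_subset_iff.mpr
            (Set.singleton_subset_iff.mpr (specializes_iff_mem_closure.mp hab))
        · have ha : b ∈ closure ({a} : Set X) :=
            (show closure ({b} : Set X) ⊆ closure {a} from (congrArg SetLike.coe e).ge) (subset_closure rfl)
          exact ((specializes_iff_mem_closure.mpr ha).antisymm hab).eq
      let S1 : LTSeries (TopologicalSpace.IrreducibleCloseds X) :=
        (RelSeries.singleton _ (W (genericPoint X))).cons (W y)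
          (hlt y _ (genericPoint_specializes y) hy2)
      have hS1 : S1.head = W y := RelSeries.head_cons _ _ _
      let S2 : LTSeries (TopologicalSpace.IrreducibleCloseds X) := S1.cons (W z)
        (show W z < S1.head by rw [hS1]; exact hlt z y (specializes_iff_mem_closure.mpr hz) hzy)
      have h2 : ((S2.length : ℕ) : WithBot ℕ∞) ≤ topologicalKrullDim X :=
        Order.LTSeries.length_le_krullDim S2
      have := h2.trans hd
      have hlen : S2.length = 2 := rfl
      rw [hlen] at this
      norm_cast at this
    exact Set.finite_univ_iff.mp ((hfin.union (Set.finite_singleton _)).subset hsub)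
  tfae_finish

end Groth.Agent.S4880
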