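import Groth.Statements.S4881
import Groth.Agent.HensPair.ClosedDim

set_option autoImplicit false
universe u
open CategoryTheory AlgebraicGeometry
open EGA43

namespace Groth.Agent.S4881

/-- Let X be a locally Noetherian scheme which is Jacobson, whose local rings are universally catenary,
and whose irreducible components X' are equidimensional in the sense that for every closed point x
of X' the dimension of X' equals the dimension of the set of generizations of x in X'. Then for
every dense open subset U of X, dim U = dim X. -/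
theorem result (X : Scheme.{u}) [IsLocallyNoetherian X] [JacobsonSpace X]
    (h2 : ∀ x : X, CAlg.IsUniversallyCatenary (X.presheaf.stalk x))
    (h3 : ∀ X' ∈ irreducibleComponents (X : Type u), ∀ x ∈ X', IsClosed ({x} : Set X) →
      topologicalKrullDim (↥X' : Type u) = topologicalKrullDim ↥{t : X | t ∈ X' ∧ t ⤳ x})
    (U : Set X) (hU : IsOpen U) (hd : Dense U) :
    topologicalKrullDim ↥U = topologicalKrullDim X := by
  open Groth.Agent.HensPair in
  refine le_antisymm (Topology.IsInducing.topologicalKrullDim_le Topology.IsInducing.subtypeVal) ?_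
  refine Groth.Agent.Equidim.dim_le_of_components fun C hC => ?_
  let η := hC.1.genericPoint
  have hc : closure ({η} : Set X) = C := by
    rw [hC.1.genericPoint_closure_eq, (isClosed_of_mem_irreducibleComponents C hC).closure_eq]
  have hηmax : ∀ z : X, z ⤳ η → z = η := Groth.Agent.Equidim.AffineCrit.genericPoint_maximal hC
  have hηU : η ∈ U := by
    obtain ⟨O, hηO, hO⟩ := Groth.Agent.Equidim.AffineParam.exists_nhd_gen η
    obtain ⟨t, htO, htU⟩ := hd.inter_open_nonempty O O.2 ⟨η, hηO⟩
    obtain ⟨g, hgt, hgmax⟩ := Groth.Agent.Equidim.AffineCrit.exists_maximal_above t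
    have hgO : g ∈ O := hgt.mem_open O.2 htO
    have hge : g = η := hηmax g (hO g hgO hgmax)
    exact hge ▸ hgt.mem_open hU htU
  obtain ⟨s, ⟨hs, hsU⟩, hsc⟩ := nonempty_inter_closedPoints (Z := closure ({η} : Set X) ∩ U)
    ⟨η, subset_closure rfl, hηU⟩ (isClosed_closure.isLocallyClosed.inter hU.isLocallyClosed)
  have hηs := specializes_iff_mem_closure.mpr hs
  rw [← hc, ClosedDim.dim_closure h2 h3 η s hηs hsc, ← CatAdd.topDim_gen η s hηs]
  exact Groth.Agent.Equidim.dim_le_of_range (φ := fun t : ↥{t : X | t ∈ closure ({η} : Set X) ∧ t ⤳ s} => t.1)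
    Topology.IsInducing.subtypeVal Topology.IsEmbedding.subtypeVal fun t => ⟨⟨t.1, t.2.2.mem_open hU hsU⟩, rfl⟩

end Groth.Agent.S4881
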