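import Groth.Statements.S4882
import Groth.Agent.EGA43.QHomeo

set_option autoImplicit false
universe u
open EGA43

namespace Groth.Agent.S4882
open Groth.Agent.EGA43.QHomeo

/-- Let X be a Jacobson space and Z a locally quasi-constructible subset of X, i.e. every point of X has
an open neighbourhood U such that U ∩ Z is a finite union of locally closed subsets of X. Then the
subspace Z is a Jacobson space, and a point of Z is closed in Z if and only if it is closed in X. -/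
theorem result {X : Type u} [TopologicalSpace X] [JacobsonSpace X]
    (Z : Set X)
    (hZ : ∀ x : X, ∃ U : Set X, IsOpen U ∧ x ∈ U ∧
      ∃ T : Set (Set X), T.Finite ∧ (∀ t ∈ T, IsLocallyClosed t) ∧ U ∩ Z = ⋃₀ T) :
    JacobsonSpace ↥Z ∧ ∀ z : ↥Z, IsClosed ({z} : Set ↥Z) ↔ IsClosed ({(z : X)} : Set X) := by
  have hS : ∀ W : Set X, IsLocallyClosed W → W.Nonempty → (W ∩ closedPoints X).Nonempty :=
    fun W hW hne => jacobsonSpace_iff_locallyClosed.mp inferInstance W hne hW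
  have key : ∀ W : Set ↥Z, IsLocallyClosed W → W.Nonempty → ∃ w ∈ W, IsClosed ({(w : X)} : Set X) := by
    rintro W ⟨O, C, hO, hC, rfl⟩ ⟨w, hwO, hwC⟩
    obtain ⟨O', hO', rfl⟩ := isOpen_induced_iff.mp hO
    obtain ⟨C', hC', rfl⟩ := isClosed_induced_iff.mp hC
    have hl : LQC (Z ∩ (O' ∩ C')) :=
      LQC.inter hZ (hO'.isLocallyClosed.inter hC'.isLocallyClosed).qc.lqc
    obtain ⟨x, ⟨hxZ, hxO, hxC⟩, hx⟩ := hl.meets hS ⟨w, w.2, hwO, hwC⟩
    exact ⟨⟨x, hxZ⟩, ⟨hxO, hxC⟩, hx⟩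
  have hpre : ∀ z : ↥Z, IsClosed ({(z : X)} : Set X) → IsClosed ({z} : Set ↥Z) := fun z hz => by
    convert hz.preimage continuous_subtype_val using 1
    ext w
    simp [Subtype.ext_iff]
  refine ⟨jacobsonSpace_iff_locallyClosed.mpr fun W hne hW => ?_, fun z => ⟨fun hz => ?_, hpre z⟩⟩
  · obtain ⟨w, hw, hwc⟩ := key W hW hne
    exact ⟨w, hw, hpre w hwc⟩
  · obtain ⟨w, hw, hwc⟩ := key {z} hz.isLocallyClosed (Set.singleton_nonempty z)
    exact Set.mem_singleton_iff.mp hw ▸ hwc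

end Groth.Agent.S4882
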