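import Groth.Statements.S4894
import Groth.Agent.EGA43.QHomeo

set_option autoImplicit false
universe u
open EGA43

namespace Groth.Agent.S4894
open Groth.Agent.EGA43.QHomeo

/-- Let f : X → Y be continuous and (W_i) an open covering of Y such that every restriction f⁻¹(W_i) →
W_i is a quasi-homeomorphism (taking preimages is a bijection on open subsets). Then f is a
quasi-homeomorphism. -/
theorem result {X Y : Type u} [TopologicalSpace X]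
    [TopologicalSpace Y] (f : X → Y) (hf : Continuous f) {ι : Type u} (W : ι → Set Y)
    (hWo : ∀ i, IsOpen (W i)) (hWc : ⋃ i, W i = Set.univ)
    (h : ∀ i, ((∀ U₁ U₂ : Set ↥(W i), IsOpen U₁ → IsOpen U₂ → ((W i).restrictPreimage f) ⁻¹' U₁ = ((W i).restrictPreimage f) ⁻¹' U₂ → U₁ = U₂) ∧ (∀ V : Set ↥(f ⁻¹' W i), IsOpen V → ∃ U : Set ↥(W i), IsOpen U ∧ ((W i).restrictPreimage f) ⁻¹' U = V))) :
    ((∀ U₁ U₂ : Set Y, IsOpen U₁ → IsOpen U₂ → (f) ⁻¹' U₁ = (f) ⁻¹' U₂ → U₁ = U₂) ∧ (∀ V : Set X, IsOpen V → ∃ U : Set Y, IsOpen U ∧ (f) ⁻¹' U = V)) := by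
  refine ⟨fun U₁ U₂ h₁ h₂ e => ?_, fun V hV => ?_⟩
  · ext y
    obtain ⟨i, hi⟩ := Set.mem_iUnion.mp (hWc.ge (Set.mem_univ y))
    have := (h i).1 (Subtype.val ⁻¹' U₁) (Subtype.val ⁻¹' U₂) (h₁.preimage continuous_subtype_val)
      (h₂.preimage continuous_subtype_val) (by ext x; exact Set.ext_iff.mp e x.1)
    exact Set.ext_iff.mp this ⟨y, hi⟩
  · have hsub : ∀ i, ∃ O : Set Y, IsOpen O ∧ O ⊆ W i ∧ f ⁻¹' O = f ⁻¹' (W i) ∩ V := fun i => by
      obtain ⟨U, hU, e⟩ := (h i).2 (Subtype.val ⁻¹' V) (hV.preimage continuous_subtype_val)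
      refine ⟨Subtype.val '' U, (hWo i).isOpenMap_subtype_val U hU, Subtype.coe_image_subset _ U, ?_⟩
      ext x
      constructor
      · rintro ⟨z, hz, hzx⟩
        have hx : f x ∈ W i := hzx ▸ z.2
        have hz' : (⟨f x, hx⟩ : W i) ∈ U := (Subtype.ext hzx : z = ⟨f x, hx⟩) ▸ hz
        exact ⟨hx, (Set.ext_iff.mp e ⟨x, hx⟩).mp hz'⟩
      · rintro ⟨hx, hxV⟩
        exact ⟨⟨f x, hx⟩, (Set.ext_iff.mp e ⟨x, hx⟩).mpr hxV, rfl⟩
    choose O hO hOW hOe using hsub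
    refine ⟨⋃ i, O i, isOpen_iUnion hO, ?_⟩
    ext x
    simp only [Set.preimage_iUnion, Set.mem_iUnion, hOe, Set.mem_inter_iff]
    refine ⟨fun ⟨_, _, hx⟩ => hx, fun hx => ?_⟩
    obtain ⟨i, hi⟩ := Set.mem_iUnion.mp (hWc.ge (Set.mem_univ (f x)))
    exact ⟨i, hi, hx⟩

end Groth.Agent.S4894
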