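import Groth.Statements.S4897
import Groth.Agent.EGA43.QHomeo

set_option autoImplicit false
universe u
open EGA43

namespace Groth.Agent.S4897
open Groth.Agent.EGA43.QHomeo

/-- Let f : X → Y be a quasi-homeomorphism, i.e. a continuous map such that U ↦ f⁻¹(U) is a bijection
from the open subsets of Y onto the open subsets of X. Then Z ↦ f⁻¹(Z) induces bijections from the
locally closed (resp. constructible, resp. locally constructible) subsets of Y onto those of X. -/
theorem result {X Y : Type u}
    [TopologicalSpace X] [TopologicalSpace Y] (f : X → Y) (hf : Continuous f)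
    (hq : Function.Bijective (fun U : TopologicalSpace.Opens Y =>
      (⟨f ⁻¹' (U : Set Y), U.isOpen.preimage hf⟩ : TopologicalSpace.Opens X))) :
    Function.Bijective (fun Z : {Z : Set Y // IsLocallyClosed Z} =>
        (⟨f ⁻¹' Z.1, Z.2.preimage hf⟩ : {Z : Set X // IsLocallyClosed Z})) ∧
      Set.BijOn (fun Z : Set Y => f ⁻¹' Z) {Z | Topology.IsConstructible Z} {Z | Topology.IsConstructible Z} ∧
      Set.BijOn (fun Z : Set Y => f ⁻¹' Z) {Z | Topology.IsLocallyConstructible Z}
        {Z | Topology.IsLocallyConstructible Z} := by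
  have h := (qh_iff_bijective hf).mpr hq
  refine ⟨⟨fun A B e => ?_, fun Z => ?_⟩,
    ⟨fun S hS => h.constructible_preimage hS, fun A hA B hB e => ?_, fun S hS => h.surj_constructible hS⟩,
    ⟨fun S hS => h.locallyConstructible_preimage hS, fun A hA B hB e => ?_,
      fun S hS => h.surj_locallyConstructible hS⟩⟩
  · exact Subtype.ext (h.eq_of_preimage_eq A.2.qc.lqc B.2.qc.lqc (congrArg Subtype.val e))
  · obtain ⟨Z', hZ', e⟩ := h.surj_lc Z.2
    exact ⟨⟨Z', hZ'⟩, Subtype.ext e⟩
  · exact h.eq_of_preimage_eq (qc_of_constructible hA).lqc (qc_of_constructible hB).lqc e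
  · exact h.eq_of_preimage_eq (lqc_of_locallyConstructible hA) (lqc_of_locallyConstructible hB) e

end Groth.Agent.S4897
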