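import Groth.Statements.S4914
import Mathlib

set_option autoImplicit false
open CategoryTheory AlgebraicGeometry
set_option backward.isDefEq.respectTransparency false
set_option backward.isDefEq.respectTransparency.types false
universe u v w
open EGA43

namespace Groth.Agent.S4914

/-- Let ψ : X → Y be a continuous map, x a point of X, and (Y_i) a locally finite covering of Y by
closed subsets. If for every index i with ψ x ∈ Y_i the restriction ψ⁻¹(Y_i) → Y_i of ψ is open at
x, then ψ is open at x. -/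
theorem result {α : Type u} {β : Type v} {ι : Type w} [TopologicalSpace α]
    [TopologicalSpace β] (ψ : α → β) (hψ : Continuous ψ) (x : α) (Y : ι → Set β) (hY : LocallyFinite Y)
    (hcl : ∀ i, IsClosed (Y i)) (hcov : ⋃ i, Y i = Set.univ)
    (h : ∀ i, ∀ hi : ψ x ∈ Y i, EGA43.IsOpenAt ((Y i).restrictPreimage ψ) ⟨x, hi⟩) :
    EGA43.IsOpenAt ψ x := by
  intro U hU
  have hW := hY.iInter_compl_mem_nhds hcl (ψ x)
  have hfin : {i | ψ x ∈ Y i}.Finite := hY.point_finite (ψ x)
  have hA : ∀ i ∈ {i | ψ x ∈ Y i}, (Y i)ᶜ ∪ ψ '' U ∈ nhds (ψ x) := by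
    intro i hi
    have h1 := h i hi (Subtype.val ⁻¹' U) (continuousAt_subtype_val hU)
    rw [nhds_subtype] at h1
    obtain ⟨V, hV, hVU⟩ := h1
    refine Filter.mem_of_superset hV fun b hb => ?_
    by_cases hbY : b ∈ Y i
    · obtain ⟨a, ha, hab⟩ := hVU (show (⟨b, hbY⟩ : Y i) ∈ Subtype.val ⁻¹' V from hb)
      exact Or.inr ⟨a.1, ha, congrArg Subtype.val hab⟩
    · exact Or.inl hbY
  refine Filter.mem_of_superset (Filter.inter_mem hW ((Filter.biInter_mem hfin).mpr hA)) ?_
  rintro b ⟨hb, hb'⟩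
  obtain ⟨i, hi⟩ := Set.mem_iUnion.mp (hcov.symm ▸ Set.mem_univ b : b ∈ ⋃ i, Y i)
  have hxi : ψ x ∈ Y i := by
    by_contra hc
    exact Set.mem_iInter₂.mp hb i hc hi
  exact (Set.mem_iInter₂.mp hb' i hxi).resolve_left (fun h => h hi)

end Groth.Agent.S4914
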