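import Groth.Statements.S4917
import Groth.Agent.HensPair.FibreComp

set_option autoImplicit false
open CategoryTheory AlgebraicGeometry
universe u v w
open EGA43

namespace Groth.Agent.S4917

/-- Assume Y is a locally Noetherian scheme and X is an irreducible scheme, and consider a dominant
morphism f : X ⟶ Y that is locally of finite type. Fix a point x of X and write y = f x. If, for
every irreducible component of the fibre X_y that contains x, the morphism f is open at the generic
point of that component, then f is equidimensional at x. -/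
theorem result {X Y : Scheme.{u}} [IsLocallyNoetherian Y]
    [IrreducibleSpace X] (f : X ⟶ Y) [LocallyOfFiniteType f] [IsDominant f] (x : X)
    (h : ∀ z : ↥(f.fiber (f.base x)), f.asFiber x ∈ closure {z} →
      (∀ z' : ↥(f.fiber (f.base x)), z ∈ closure {z'} → z' = z) →
      EGA43.IsOpenAt f.base ((f.fiberι (f.base x)).base z)) :
    EGA43.IsEquidimAt f x := by
  have hrange : IrreducibleSpace Y := by
    have h1 := ((IrreducibleSpace.isIrreducible_univ X).image f.base f.continuous.continuousOn).closure
    rw [Set.image_univ, f.denseRange.closure_range] at h1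
    exact { toPreirreducibleSpace := ⟨h1.2⟩, toNonempty := ⟨f.base x⟩ }
  refine HensPair.ChevalleyTfae.isEquidimAt_of_dim f f.denseRange x ?_
  have : LocallyOfFiniteType (f.fiberToSpecResidueField (f.base x)) :=
    MorphismProperty.pullback_snd (P := @LocallyOfFiniteType) _ _ inferInstance
  have : IsLocallyNoetherian (f.fiber (f.base x)) :=
    LocallyOfFiniteType.isLocallyNoetherian (f.fiberToSpecResidueField (f.base x))
  obtain ⟨O, hxO, hO⟩ := Groth.Agent.Equidim.AffineParam.exists_nhd_gen (f.asFiber x)
  have : QuasiSober ↥(O : Set ↥(f.fiber (f.base x))) := O.2.isOpenEmbedding_subtypeVal.quasiSober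
  refine (TopDim.Basic.localDim_le (f.asFiber x) O hxO).trans (Groth.Agent.Equidim.dim_le_of_components fun C hC => ?_)
  let d := hC.1.genericPoint
  have hd : closure ({d} : Set ↥(O : Set ↥(f.fiber (f.base x)))) = C := by
    rw [hC.1.genericPoint_closure_eq, (isClosed_of_mem_irreducibleComponents C hC).closure_eq]
  have hmax : ∀ p, p ⤳ d.1 → p = d.1 := fun p hp =>
    congrArg Subtype.val (Groth.Agent.Equidim.AffineCrit.genericPoint_maximal hC ⟨p, hp.mem_open O.2 d.2⟩
      (Topology.IsInducing.subtypeVal.specializes_iff.mp hp))
  obtain ⟨Z, -, -, -, -, h2⟩ := HensPair.FibreComp.exists_component_of_openAt f (f.base x) d.1 hmax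
    (h d.1 (hO d.1 d.2 hmax).mem_closure fun z' hz' => hmax z' (specializes_iff_mem_closure.mpr hz'))
  refine le_trans (Groth.Agent.Equidim.dim_le_of_range (φ := fun s : C => (s.1.1 : ↥(f.fiber (f.base x))))
    (Topology.IsInducing.subtypeVal.comp Topology.IsInducing.subtypeVal) (Topology.IsEmbedding.subtypeVal (p := fun z => z ∈ closure ({d.1} : Set ↥(f.fiber (f.base x))))) fun s => ⟨⟨s.1.1, ?_⟩, rfl⟩)
    (h2.le.trans ?_)
  · exact specializes_iff_mem_closure.mp
      ((specializes_iff_mem_closure.mpr (hd.ge s.2)).map continuous_subtype_val)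
  · exact Groth.Agent.Equidim.dim_le_of_range (φ := fun s : ↥(Z ∩ f.base ⁻¹' {genericPoint Y}) => (s : X))
      Topology.IsInducing.subtypeVal (f.fiberι (genericPoint Y)).isEmbedding fun s => (f.range_fiberι _).ge s.2.2

end Groth.Agent.S4917
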