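import Groth.Statements.S4919
import Groth.Agent.HensPair.FibreComp

set_option autoImplicit false
open CategoryTheory AlgebraicGeometry
universe u v w
open EGA43

namespace Groth.Agent.S4919

/-- Let Y be an irreducible locally Noetherian scheme with generic point η, f : X ⟶ Y a morphism locally
of finite type, y a point of Y and Z an irreducible component of the fibre f⁻¹(y) (a maximal
irreducible subset of f⁻¹(y), with the topology induced from X) such that f is open at the generic
point ζ of Z. Then there is an irreducible component X' of X containing Z and dominating Y such that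
the local dimension of X' ∩ f⁻¹(y) at ζ equals dim Z, and dim Z = dim (X' ∩ f⁻¹(η)). (The published
statement writes the middle term as the dimension of the whole of X' ∩ f⁻¹(y); its proof yields only
the local dimension at the generic point of Z, and the global equality can fail: for the
endomorphism (a, b) ↦ (ab, b² − b) of the affine plane over a field, the fibre over the origin is
the line b = 0 together with the isolated point (0, 1), at which the map is étale, hence open; with
Z that point, X' is the whole plane, X' ∩ f⁻¹(y) has dimension 1 and dim Z = 0. So the local form is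
stated here.) -/
theorem result {X Y : Scheme.{u}} [IrreducibleSpace Y]
    [IsLocallyNoetherian Y] (f : X ⟶ Y) [LocallyOfFiniteType f] (y : Y) (Z : Set X)
    (hZy : Z ⊆ f.base ⁻¹' {y}) (hZ : IsIrreducible Z)
    (hZmax : ∀ Z' : Set X, IsIrreducible Z' → Z' ⊆ f.base ⁻¹' {y} → Z ⊆ Z' → Z' = Z)
    (hopen : ∀ ζ ∈ Z, Z ⊆ closure {ζ} → EGA43.IsOpenAt f.base ζ) :
    ∃ X' ∈ irreducibleComponents (X : Type u), Z ⊆ X' ∧ Dense (f.base '' X') ∧
      (∀ ζ ∈ Z, Z ⊆ closure {ζ} → ∀ hζ : ζ ∈ X' ∩ f.base ⁻¹' {y},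
        FlatMor.localDim ↥(X' ∩ f.base ⁻¹' {y}) ⟨ζ, hζ⟩ = topologicalKrullDim ↥Z) ∧
      topologicalKrullDim ↥Z = topologicalKrullDim ↥(X' ∩ f.base ⁻¹' {genericPoint Y}) := by
  let ι := f.fiberι y
  have hir : IsIrreducible (ι ⁻¹' Z) := by
    refine ⟨?_, fun u v hu hv ⟨a, ha, hau⟩ ⟨b, hb, hbv⟩ => ?_⟩
    · obtain ⟨z, hz⟩ := hZ.1
      obtain ⟨t, ht⟩ := (f.range_fiberι y).ge (hZy hz)
      exact ⟨t, show f.fiberι y t ∈ Z by rw [ht]; exact hz⟩
    · obtain ⟨u', hu', rfl⟩ := ι.isEmbedding.isInducing.isOpen_iff.mp hu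
      obtain ⟨v', hv', rfl⟩ := ι.isEmbedding.isInducing.isOpen_iff.mp hv
      obtain ⟨z, hz, hzu, hzv⟩ := hZ.2 u' v' hu' hv' ⟨_, ha, hau⟩ ⟨_, hb, hbv⟩
      obtain ⟨t, rfl⟩ := (f.range_fiberι y).ge (hZy hz)
      exact ⟨t, hz, hzu, hzv⟩
  obtain ⟨W, hW, hWsub⟩ := exists_preirreducible (s := ι ⁻¹' Z) hir.2
  have hWc : W ∈ irreducibleComponents ↥(f.fiber y) :=
    ⟨⟨hir.1.mono hWsub.1, hW⟩, fun W' hW' hle => (hWsub.2 W' hW'.2 hle).le⟩
  have hZW : Z = ι '' W := by
    refine (hZmax _ (hWc.1.image _ ι.continuous.continuousOn) ?_ fun z hz => ?_).symm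
    · rintro _ ⟨t, -, rfl⟩
      exact (f.range_fiberι y).subset ⟨t, rfl⟩
    · obtain ⟨t, rfl⟩ := (f.range_fiberι y).ge (hZy hz)
      exact ⟨t, hWsub.1 hz, rfl⟩
  let c := hWc.1.genericPoint
  have hc : closure ({c} : Set ↥(f.fiber y)) = W := by
    rw [hWc.1.genericPoint_closure_eq, (isClosed_of_mem_irreducibleComponents W hWc).closure_eq]
  have hcZ : ι c ∈ Z := hZW.ge ⟨c, hc.le (subset_closure rfl), rfl⟩
  have hZc : Z ⊆ closure {ι c} := by
    rw [hZW, ← hc]
    exact (image_closure_subset_closure_image ι.continuous).trans (by rw [Set.image_singleton])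
  have hdim : topologicalKrullDim ↥Z = topologicalKrullDim ↥(closure ({c} : Set ↥(f.fiber y))) := by
    rw [hc]
    refine (IsHomeomorph.topologicalKrullDim_eq _
      (((ι.isEmbedding.comp Topology.IsEmbedding.subtypeVal).toHomeomorph (f := fun s : W => ι s.1)).trans
        (Homeomorph.setCongr ?_)).isHomeomorph).symm
    rw [hZW, Set.image_eq_range]
  obtain ⟨X', hX', hx, hd, h1, h2⟩ := HensPair.FibreComp.exists_component_of_openAt f y c
    (Groth.Agent.Equidim.AffineCrit.genericPoint_maximal hWc) (hopen _ hcZ hZc)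
  refine ⟨X', hX', hZc.trans (closure_minimal (Set.singleton_subset_iff.mpr hx.1)
    (isClosed_of_mem_irreducibleComponents X' hX')), dense_iff_closure_eq.mpr hd, fun ζ hζZ hζ hmem => ?_,
    hdim.trans h2⟩
  obtain rfl : ζ = ι c := ((specializes_iff_mem_closure.mpr (hζ hcZ)).antisymm
    (specializes_iff_mem_closure.mpr (hZc hζZ))).eq
  exact h1.trans hdim.symm

end Groth.Agent.S4919
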