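import Groth.Statements.S4920
import Groth.Agent.HensPair.FibreComp

set_option autoImplicit false
open CategoryTheory AlgebraicGeometry
universe u v w
open EGA43

namespace Groth.Agent.S4920

/-- Let Y be an irreducible locally Noetherian scheme with generic point η, f : X ⟶ Y a morphism locally
of finite type and y a point of Y such that f is open at every point of the fibre over y. For z in Y
write E(z) for the set of dimensions of the irreducible components of the fibre X_z. Then E(y) ⊆
E(η), and consequently dim X_y ≤ dim X_η. -/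
theorem result {X Y : Scheme.{u}} [IrreducibleSpace Y] [IsLocallyNoetherian Y]
    (f : X ⟶ Y) [LocallyOfFiniteType f] (y : Y) (h : ∀ x : X, f.base x = y → EGA43.IsOpenAt f.base x) :
    letI E : Y → Set (WithBot ℕ∞) := fun z =>
      (fun Z : Set ↥(f.fiber z) => topologicalKrullDim ↥Z) '' irreducibleComponents ↥(f.fiber z)
    E y ⊆ E (genericPoint Y) ∧
      topologicalKrullDim ↥(f.fiber y) ≤ topologicalKrullDim ↥(f.fiber (genericPoint Y)) := by
  have key : ∀ C ∈ irreducibleComponents ↥(f.fiber y), ∃ C' ∈ irreducibleComponents ↥(f.fiber (genericPoint Y)),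
      topologicalKrullDim ↥C = topologicalKrullDim ↥C' := by
    intro C hC
    have hcl : closure ({hC.1.genericPoint} : Set ↥(f.fiber y)) = C := by
      rw [hC.1.genericPoint_closure_eq, (isClosed_of_mem_irreducibleComponents C hC).closure_eq]
    obtain ⟨Z, hZ, hx, hd, -, h2⟩ := HensPair.FibreComp.exists_component_of_openAt f y hC.1.genericPoint
      (Groth.Agent.Equidim.AffineCrit.genericPoint_maximal hC) (h _ ((f.range_fiberι y).subset ⟨_, rfl⟩))
    obtain ⟨c', hc', h3⟩ := HensPair.FibreComp.exists_fibre_component f Z hZ hd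
    exact ⟨_, Groth.Agent.Equidim.closure_mem_irreducibleComponents c' hc', by rw [h3, ← h2, hcl]⟩
  refine ⟨?_, Groth.Agent.Equidim.dim_le_of_components fun C hC => ?_⟩
  · rintro _ ⟨C, hC, rfl⟩
    obtain ⟨C', hC', he⟩ := key C hC
    exact ⟨C', hC', he.symm⟩
  · obtain ⟨C', hC', he⟩ := key C hC
    exact he.le.trans (topologicalKrullDim_subspace_le _ _)

end Groth.Agent.S4920
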