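import Groth.Statements.S4921
import Groth.Agent.HensPair.FibreDimConst

set_option autoImplicit false
open CategoryTheory AlgebraicGeometry
universe u v w
open EGA43

namespace Groth.Agent.S4921

/-- Let Y be a locally Noetherian scheme, f : X ⟶ Y a proper morphism and y a point of Y such that f is
open at every point of the fibre over y. Then the function z ↦ dim X_z is constant on a
neighbourhood of y. -/
theorem result {X Y : Scheme.{u}} [IsLocallyNoetherian Y] (f : X ⟶ Y)
    [IsProper f] (y : Y) (h : ∀ x : X, f.base x = y → EGA43.IsOpenAt f.base x) :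
    ∃ V ∈ nhds y, ∀ z ∈ V, topologicalKrullDim ↥(f.fiber z) = topologicalKrullDim ↥(f.fiber y) := by
  have : IsLocallyNoetherian X := LocallyOfFiniteType.isLocallyNoetherian f
  simp only [HensPair.FibreDimConst.dim_fiber_eq]
  refine HensPair.FibreDimConst.const_nhds f y ⊤ (fun y' hy' => ?_)
    (fun y' hy' => HensPair.ChevalleyTfae.dims_of_openAt f y ⊤ (fun g hg _ _ => h g hg) y' hy')
  refine HensPair.FibreDimConst.dim_inter_le f y' ⊤ _ fun a ha _ => by_contra fun hgt => ?_
  obtain ⟨b, hb, hby⟩ := hy'.mem_closed (f.isClosedMap _ (Groth.Agent.Equidim.isOpen_fibreDimAt_le f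
    (topologicalKrullDim ↥(((⊤ : X.Opens) : Set X) ∩ f.base ⁻¹' {y}))).isClosed_compl) ⟨a, hgt, ha⟩
  refine hb ?_
  subst hby
  exact HensPair.ChevalleyTfae.fibreDimAt_le_inter f b ⊤ trivial

end Groth.Agent.S4921
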