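import Groth.Statements.S4924
import Groth.Agent.HensPair.FibreDimConst

set_option autoImplicit false
open CategoryTheory AlgebraicGeometry
universe u v w
open EGA43

namespace Groth.Agent.S4924

/-- Let Y be a locally Noetherian scheme, f : X ⟶ Y an open morphism of finite type and y a point of Y.
Then there is an open neighbourhood U of the fibre f⁻¹(y) in X such that the function z ↦ dim (U ∩
f⁻¹(z)) is constant on a neighbourhood of y. -/
theorem result {X Y : Scheme.{u}} [IsLocallyNoetherian Y]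
    (f : X ⟶ Y) [LocallyOfFiniteType f] [QuasiCompact f] (hf : IsOpenMap f.base) (y : Y) :
    ∃ U : X.Opens, f.base ⁻¹' {y} ⊆ (U : Set X) ∧ ∃ V ∈ nhds y, ∀ z ∈ V,
      topologicalKrullDim ↥((U : Set X) ∩ f.base ⁻¹' {z}) = topologicalKrullDim ↥((U : Set X) ∩ f.base ⁻¹' {y}) := by
  let d := topologicalKrullDim ↥(((⊤ : X.Opens) : Set X) ∩ f.base ⁻¹' {y})
  let U : X.Opens := ⟨{a | FlatMor.fibreDimAt f a ≤ d}, Groth.Agent.Equidim.isOpen_fibreDimAt_le f d⟩
  have hU : f.base ⁻¹' {y} ⊆ (U : Set X) := fun a ha => by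
    show FlatMor.fibreDimAt f a ≤ topologicalKrullDim ↥(((⊤ : X.Opens) : Set X) ∩ f.base ⁻¹' {y})
    have ha' : f.base a = y := ha
    subst ha'
    exact HensPair.ChevalleyTfae.fibreDimAt_le_inter f a ⊤ trivial
  have he : topologicalKrullDim ↥((U : Set X) ∩ f.base ⁻¹' {y}) = d :=
    IsHomeomorph.topologicalKrullDim_eq _ (Homeomorph.setCongr (by
      rw [Set.inter_eq_right.mpr hU, show ((⊤ : X.Opens) : Set X) = Set.univ from rfl, Set.univ_inter])).isHomeomorph
  exact ⟨U, hU, HensPair.FibreDimConst.const_nhds f y U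
    (fun y' _ => (HensPair.FibreDimConst.dim_inter_le f y' U d fun a _ ha => ha).trans he.ge)
    (fun y' hy' => HensPair.ChevalleyTfae.dims_of_openAt f y U (fun g _ _ _ W hW => hf.image_mem_nhds hW) y' hy')⟩

end Groth.Agent.S4924
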