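import Groth.Statements.S4932
import Groth.Agent.HensPair.FibreChart
import Groth.Agent.HensPair.FibreComp

set_option autoImplicit false
open CategoryTheory AlgebraicGeometry
universe u v w
open EGA43

namespace Groth.Agent.S4932

/-- Let A be a valuation ring (not necessarily discrete), X an irreducible scheme and f : X ⟶ Spec A a
dominant morphism of finite type. If the fibre X_0 of f over the closed point is nonempty, then dim
X_0 = dim X_1, where X_1 is the fibre over the generic point. -/
theorem result {A : Type u} [CommRing A] [IsDomain A]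
    [ValuationRing A] {X : Scheme.{u}} [IrreducibleSpace X] (f : X ⟶ Spec (CommRingCat.of A))
    [LocallyOfFiniteType f] [QuasiCompact f] [IsDominant f]
    (h0 : Nonempty ↥(f.fiber (IsLocalRing.closedPoint A))) :
    topologicalKrullDim ↥(f.fiber (IsLocalRing.closedPoint A)) =
      topologicalKrullDim ↥(f.fiber (genericPoint (Spec (CommRingCat.of A)))) := by
  have hU₀ := isAffineOpen_top (Spec (CommRingCat.of A))
  let e := (Scheme.ΓSpecIso (CommRingCat.of A)).commRingCatIsoToRingEquiv
  have hdomA : IsDomain Γ(Spec (CommRingCat.of A), ⊤) := e.toMulEquiv.isDomain A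
  have : ValuationRing Γ(Spec (CommRingCat.of A), ⊤) :=
    Function.Surjective.valuationRing e.symm.toRingHom e.symm.surjective
  have : IsIntegral (Spec (CommRingCat.of A)) := inferInstance
  let s := IsLocalRing.closedPoint A
  refine le_antisymm ?_ ?_
  · refine Groth.Agent.Equidim.dim_le_of_components fun C hC => ?_
    have hcl : closure ({hC.1.genericPoint} : Set ↥(f.fiber s)) = C := by
      rw [hC.1.genericPoint_closure_eq, (isClosed_of_mem_irreducibleComponents C hC).closure_eq]
    have hmax := Groth.Agent.Equidim.AffineCrit.genericPoint_maximal hC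
    rw [← hcl, HensPair.FibreComp.dim_closure_eq f s _ hmax]
    have hgy : f.base (f.fiberι s hC.1.genericPoint) = s := (f.range_fiberι s).subset ⟨_, rfl⟩
    refine (HensPair.FibreChart.fibreDimAt_le_of_valuationRing f hU₀ _ (genericPoint X) trivial
      (fun x' hx' => HensPair.FibreComp.maximal_image f s _ hmax x' (hx'.trans hgy))
      ((genericPoint_spec X).specializes trivial) ?_).trans ?_
    · rw [HensPair.Chevalley.map_genericPoint f f.denseRange]
      refine (HensPair.Chevalley.eq_genericPoint fun z => ?_).symm
      obtain ⟨q, rfl⟩ := hU₀.range_fromSpec.superset (show z ∈ ((⊤ : (Spec (CommRingCat.of A)).Opens) : Set _) from trivial)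
      exact ((PrimeSpectrum.le_iff_specializes _ _).mp bot_le).map hU₀.fromSpec.continuous
    · have h1 := Groth.Agent.Equidim.fibreDimAt_le_dim f (genericPoint X)
      rw [HensPair.Chevalley.map_genericPoint f f.denseRange] at h1
      exact h1
  · obtain ⟨c⟩ := h0
    have hgy : f.base (f.fiberι s c) = s := (f.range_fiberι s).subset ⟨c, rfl⟩
    refine (Groth.Agent.Equidim.generic_fibre_dim_le f (f.fiberι s c)).trans ?_
    refine (Groth.Agent.Equidim.fibreDimAt_le_dim f _).trans ?_
    rw [hgy]

end Groth.Agent.S4932
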