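import Groth.Statements.S4938
import Groth.Agent.HensPair.ChevalleyTfae

set_option autoImplicit false
open CategoryTheory AlgebraicGeometry
universe u v w
open EGA43

namespace Groth.Agent.S4938

/-- Let Y be a locally Noetherian scheme, f : X ⟶ Y a morphism locally of finite type, and y a
geometrically unibranch point of Y, lying on the unique irreducible component Y₀ of Y with generic
point η. The following are equivalent: a) f is universally open at every point of X_y; b) every
point x of X_y lies on an irreducible component Z of X dominating Y₀ with dim_x(Z ∩ X_y) = dim(Z ∩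
X_η); b'') for every open subset U of X, dim(U ∩ X_η) ≥ dim(U ∩ X_y); c) f is open at every point of
X_y. (The published statement assumes Y locally Noetherian only for c) and also lists b′), the
pointwise form of b″) (for every x in X_y and every open U ∋ x, dim(U ∩ X_η) ≥ dim_x(U ∩ X_y)); over
the spectrum of an infinite product of copies of a field, the inclusion of a non-open closed point
satisfies b) and b″) but not a), so this row takes Y locally Noetherian throughout, and b′) is not
listed.) -/
theorem result {X Y : Scheme.{u}} [IsLocallyNoetherian Y] (f : X ⟶ Y)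
    [LocallyOfFiniteType f] (y : Y) (hy : CAlg2.IsGeomUnibranch (Y.presheaf.stalk y)) :
    List.TFAE [∀ x : X, f.base x = y → EGA43.IsUnivOpenAt f x,
      ∀ x : X, f.base x = y → ∀ Y₀ ∈ irreducibleComponents (Y : Type u), y ∈ Y₀ →
        ∃ Z ∈ irreducibleComponents (X : Type u), ∃ hx : x ∈ Z, closure (f.base '' Z) = Y₀ ∧
          ∀ η : Y, closure ({η} : Set Y) = Y₀ →
            FlatMor.localDim ↥(Z ∩ f.base ⁻¹' {f.base x}) ⟨x, ⟨hx, rfl⟩⟩ = topologicalKrullDim ↥(Z ∩ f.base ⁻¹' {η}),
      ∀ U : X.Opens, ∀ Y₀ ∈ irreducibleComponents (Y : Type u), y ∈ Y₀ → ∀ η : Y, closure ({η} : Set Y) = Y₀ →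
        topologicalKrullDim ↥((U : Set X) ∩ f.base ⁻¹' {y}) ≤ topologicalKrullDim ↥((U : Set X) ∩ f.base ⁻¹' {η}),
      ∀ x : X, f.base x = y → EGA43.IsOpenAt f.base x] := by
  tfae_have 1 → 4 := fun h x hx => HensPair.ChevalleyTfae.isOpenAt_of_univOpenAt f (h x hx)
  tfae_have 4 → 3 := fun h U Y₀ _ hy₀ η hη => HensPair.ChevalleyTfae.dims_of_openAt f y U
    (fun g hg _ _ => h g hg) η (specializes_iff_mem_closure.mpr (hη.ge hy₀))
  tfae_have 3 → 2 := fun h x hx Y₀ hY₀ hy₀ => by
    subst hx
    obtain ⟨Z, hZ, hxZ, hcl, heq⟩ := HensPair.ChevalleyTfae.b_of_dims f x (fun U hU η hη hmax =>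
      (HensPair.ChevalleyTfae.fibreDimAt_le_inter f x U hU).trans
        (h U (closure {η}) (Groth.Agent.Equidim.closure_mem_irreducibleComponents η hmax) hη.mem_closure η rfl)) Y₀ hY₀ hy₀
    exact ⟨Z, hZ, hxZ, hcl, fun η hη => (heq η hη).2⟩
  tfae_have 2 → 1 := fun h x hx => by
    subst hx
    exact HensPair.ChevalleyTfae.univOpenAt_of_b f x hy (h x rfl)
  tfae_finish

end Groth.Agent.S4938
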