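import Groth.Statements.S4939
import Groth.Agent.HensPair.EquidimStalk
import Groth.Agent.S2559

set_option autoImplicit false
open CategoryTheory AlgebraicGeometry
universe u v w
open EGA43

namespace Groth.Agent.S4939

/-- Suppose Y is a locally Noetherian scheme and f : X ⟶ Y is locally of finite type; take a point x of
X whose image y = f x is geometrically unibranch on Y. Then these three conditions are equivalent:
a) f is equidimensional at x; b) O_{X,x} is an equidimensional local ring, and f is open at every
generic point of an irreducible component of the fibre X_y that contains x; c) O_{X,x} is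
equidimensional, and f is universally open at every such generic point of an irreducible component
of X_y passing through x. (Not formalized here is the additional claim that, when these hold,
restricting f to any reduced irreducible component of X through x gives a morphism equidimensional
at x and universally open at the points of the components of its fibre through x.) -/
theorem result {X Y : Scheme.{u}} [IsLocallyNoetherian Y] (f : X ⟶ Y)
    [LocallyOfFiniteType f] (x : X) (hy : CAlg2.IsGeomUnibranch (Y.presheaf.stalk (f.base x))) :
    List.TFAE [EGA43.IsEquidimAt f x,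
      EGA4.IsEquidim (X.presheaf.stalk x) ∧ (∀ z : ↥(f.fiber (f.base x)), f.asFiber x ∈ closure {z} →
        (∀ z' : ↥(f.fiber (f.base x)), z ∈ closure {z'} → z' = z) → EGA43.IsOpenAt f.base ((f.fiberι (f.base x)).base z)),
      EGA4.IsEquidim (X.presheaf.stalk x) ∧ (∀ z : ↥(f.fiber (f.base x)), f.asFiber x ∈ closure {z} →
        (∀ z' : ↥(f.fiber (f.base x)), z ∈ closure {z'} → z' = z) → EGA43.IsUnivOpenAt f ((f.fiberι (f.base x)).base z))] := by
  open Groth.Agent.HensPair in
  haveI : IsLocallyNoetherian X := LocallyOfFiniteType.isLocallyNoetherian f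
  tfae_have 1 → 3 := fun h => by
    obtain ⟨e, U, hxU, hcomp, hfib⟩ := h
    refine ⟨?_, fun z hz _ => ?_⟩
    · let a : (U : Scheme.{u}) := ⟨x, hxU⟩
      exact EquidimStalk.isEquidim_of_ringEquiv (U.stalkIso a).commRingCatIsoToRingEquiv
        (EquidimStalk.stalk_equidim (U.ι ≫ f) a hy e hcomp hfib)
    · have hsp : (f.fiberι (f.base x)).base z ⤳ x := by
        have h1 := (specializes_iff_mem_closure.mpr hz).map (f.fiberι (f.base x)).continuous
        exact h1.trans (specializes_of_eq (f.fiberι_asFiber x))
      have hfz : f.base ((f.fiberι (f.base x)).base z) = f.base x := (f.range_fiberι (f.base x)).subset ⟨z, rfl⟩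
      have hzU : (f.fiberι (f.base x)).base z ∈ U := hsp.mem_open U.2 hxU
      have hy' : CAlg2.IsGeomUnibranch (Y.presheaf.stalk (f.base ((f.fiberι (f.base x)).base z))) := by rw [hfz]; exact hy
      refine ChevalleyCor.univOpenAt_of_equidimAt f _ hy' (Chevalley.exists_irreducible_nhd _ hy')
        ⟨e, U, hzU, fun Z hZ => ?_, hfib⟩
      obtain ⟨W, hW, hxW, hWc⟩ := hcomp Z hZ
      exact ⟨W, hW, hfz.symm ▸ hxW, hWc⟩
  tfae_have 3 → 2 := fun h => ⟨h.1, fun z hz hm => ChevalleyTfae.isOpenAt_of_univOpenAt f (h.2 z hz hm)⟩
  tfae_have 2 → 1 := fun h => EquidimCore.of_formula f x h.1 (Groth.Agent.S2559.result f x h.2)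
  tfae_finish

end Groth.Agent.S4939
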