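import Groth.Statements.S4941
import Groth.Prelude.Def_EGA43
import Mathlib.AlgebraicGeometry.PullbackCarrier

set_option autoImplicit false
open CategoryTheory AlgebraicGeometry
universe u v w
open EGA43

namespace Groth.Agent.S4941

open CategoryTheory.Limits in
/-- Let v : Y₁ ⟶ Y be a surjective morphism of schemes whose underlying map is closed, f : X ⟶ Y a
morphism and x a point of X. If the base change f₁ : X ×_Y Y₁ ⟶ Y₁ is open at every point of X ×_Y
Y₁ lying over x, then f is open at x. -/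
theorem result {X Y Y₁ : Scheme.{u}} (v : Y₁ ⟶ Y)
    (hv : IsClosedMap v.base) [Surjective v] (f : X ⟶ Y) (x : X)
    (h : ∀ x₁ : ↥(pullback f v), (pullback.fst f v).base x₁ = x → EGA43.IsOpenAt (pullback.snd f v).base x₁) :
    EGA43.IsOpenAt f.base x := by
  classical
  intro U hU
  obtain ⟨O, hOU, hO, hxO⟩ := mem_nhds_iff.mp hU
  let p := CategoryTheory.Limits.pullback.fst f v
  let q := CategoryTheory.Limits.pullback.snd f v
  let W := interior (q.base '' (p.base ⁻¹' O))
  have hW : v.base ⁻¹' {f.base x} ⊆ W := fun y₁ hy₁ => by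
    obtain ⟨x₁, hx₁, hy⟩ := Scheme.Pullback.exists_preimage_pullback (f := f) (g := v) x y₁ hy₁.symm
    rw [← hy]
    exact mem_interior_iff_mem_nhds.mpr (h x₁ hx₁ _ ((hO.preimage p.continuous).mem_nhds (by
      show p.base x₁ ∈ O
      rw [hx₁]; exact hxO)))
  refine Filter.mem_of_superset ((hv Wᶜ isOpen_interior.isClosed_compl).isOpen_compl.mem_nhds
    (x := f.base x) ?_) fun z hz => ?_
  · rintro ⟨y₁, hy₁, he⟩
    exact hy₁ (hW he)
  · obtain ⟨y₁, rfl⟩ := v.surjective z
    have h1 : y₁ ∈ W := by_contra fun hn => hz ⟨y₁, hn, rfl⟩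
    obtain ⟨w, hw, rfl⟩ := interior_subset h1
    exact ⟨p.base w, hOU hw, congr($(CategoryTheory.Limits.pullback.condition (f := f) (g := v)) w)⟩

end Groth.Agent.S4941
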