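import Groth.Statements.S4944
import Mathlib
import Groth.Agent.EGA43.EquidimSection

set_option autoImplicit false
set_option backward.isDefEq.respectTransparency false
open CategoryTheory AlgebraicGeometry
universe u v w
open EGA43

namespace Groth.Agent.S4944

/-- Suppose Y is an irreducible, locally Noetherian scheme and f : X ⟶ Y is locally of finite type. Take
a point x of X at which f is equidimensional and which is closed in its fibre f⁻¹(f x). Then one can
find an irreducible reduced scheme T together with an immersion i : T ⟶ X whose image contains x,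
such that the composite T ⟶ Y is dominant and quasi-finite (meaning locally quasi-finite and of
finite type). -/
theorem result {X Y : Scheme.{u}} [IrreducibleSpace Y]
    [IsLocallyNoetherian Y] (f : X ⟶ Y) [LocallyOfFiniteType f] (x : X) (hf : EGA43.IsEquidimAt f x)
    (hcl : ∀ x' : X, f.base x' = f.base x → x ⤳ x' → x' = x) :
    ∃ (T : Scheme.{u}) (i : T ⟶ X), IsImmersion i ∧ IrreducibleSpace ↥T ∧ IsReduced T ∧ x ∈ Set.range i.base ∧
        LocallyOfFiniteType (i ≫ f) ∧ LocallyQuasiFinite (i ≫ f) ∧ QuasiCompact (i ≫ f) ∧ IsDominant (i ≫ f) := by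
  obtain ⟨e, U, hxU, hcomp, hfib⟩ := hf
  let u : (U : Scheme.{u}) := (⟨x, hxU⟩ : U)
  have hu : U.ι.base u = x := rfl
  have hcl' : ∀ v : (U : Scheme.{u}), (U.ι ≫ f) v = (U.ι ≫ f) u → u ⤳ v → v = u := fun v hv huv =>
    U.ι.isOpenEmbedding.injective (hcl _ hv (huv.map U.ι.continuous))
  obtain ⟨x', h1, h2, h3⟩ := Groth.Agent.EGA43.EquidimSection.main (U.ι ≫ f) e (fun Z hZ => by
    obtain ⟨W, hW, -, hWc⟩ := hcomp Z hZ
    rw [irreducibleComponents_eq_singleton] at hW
    rw [hWc, Set.mem_singleton_iff.mp hW]) (fun q Z hZ => hfib q Z hZ) u hcl'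
  obtain ⟨T, i, hi1, hi2, hi3, hi4, -, hi6, hi7, hi8, hi9⟩ :=
    Groth.Agent.EGA43.DvrSection.exists_section (U.ι ≫ f) u x' h1 h2 hcl' h3
  obtain ⟨t, ht⟩ := hi4
  refine ⟨T, i ≫ U.ι, inferInstance, hi2, hi3, ⟨t, ?_⟩, ?_, ?_, ?_, ?_⟩
  · show U.ι.base (i.base t) = x
    rw [ht]; exact hu
  all_goals (rw [Category.assoc]; assumption)

end Groth.Agent.S4944
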