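import Groth.Statements.S4945
import Groth.Agent.HensPair.ChevalleyTfae
import Groth.Agent.S4944
import Mathlib.AlgebraicGeometry.Morphisms.FiniteType

set_option autoImplicit false
open CategoryTheory AlgebraicGeometry
universe u v w
open EGA43

namespace Groth.Agent.S4945

/-- Let Y be an irreducible locally Noetherian scheme with generic point η, f : X ⟶ Y a morphism locally
of finite type and y a geometrically unibranch point of Y. The following are equivalent: a) f is
universally open at every point of X_y; b) f is open at every point of X_y; c) for every maximal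
point z of X_y there is an irreducible component Z of X containing z and dominating Y with dim_z(Z ∩
X_y) = dim(Z ∩ X_η); d) for every point x closed in X_y there are an irreducible reduced scheme T
and an immersion T ⟶ X with image containing x such that T ⟶ Y is quasi-finite and dominant. -/
theorem result {X Y : Scheme.{u}} [IrreducibleSpace Y]
    [IsLocallyNoetherian Y] (f : X ⟶ Y) [LocallyOfFiniteType f] (y : Y) (hy : CAlg2.IsGeomUnibranch (Y.presheaf.stalk y)) :
    List.TFAE [∀ x : X, f.base x = y → EGA43.IsUnivOpenAt f x,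
      ∀ x : X, f.base x = y → EGA43.IsOpenAt f.base x,
      ∀ z : X, ∀ hzy : f.base z = y, (∀ z' : X, f.base z' = y → z ∈ closure {z'} → z' = z) →
        ∃ Z ∈ irreducibleComponents (X : Type u), ∃ hz : z ∈ Z, Dense (f.base '' Z) ∧
          FlatMor.localDim ↥(Z ∩ f.base ⁻¹' {y}) ⟨z, ⟨hz, hzy⟩⟩ = topologicalKrullDim ↥(Z ∩ f.base ⁻¹' {genericPoint Y}),
      ∀ x : X, f.base x = y → (∀ x' : X, f.base x' = y → x ⤳ x' → x' = x) →
        ∃ (T : Scheme.{u}) (i : T ⟶ X), IsImmersion i ∧ IrreducibleSpace ↥T ∧ IsReduced T ∧ x ∈ Set.range i.base ∧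
        LocallyOfFiniteType (i ≫ f) ∧ LocallyQuasiFinite (i ≫ f) ∧ QuasiCompact (i ≫ f) ∧ IsDominant (i ≫ f)] := by
  have huniv : ∀ Y₀ ∈ irreducibleComponents (Y : Type u), Y₀ = Set.univ := fun Y₀ hY₀ => by
    rwa [irreducibleComponents_eq_singleton, Set.mem_singleton_iff] at hY₀
  have hη : closure ({genericPoint Y} : Set Y) = Set.univ := (genericPoint_spec Y).def
  have hmem : Set.univ ∈ irreducibleComponents (Y : Type u) := by
    rw [irreducibleComponents_eq_singleton]; exact Set.mem_singleton _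
  tfae_have 1 → 2 := fun h x hx => HensPair.ChevalleyTfae.isOpenAt_of_univOpenAt f (h x hx)
  tfae_have 2 → 3 := fun h z hzy _ => by
    subst hzy
    obtain ⟨Z, hZ, hzZ, hcl, heq⟩ := HensPair.ChevalleyTfae.b_of_dims f z (fun U hU η hη _ =>
      (HensPair.ChevalleyTfae.fibreDimAt_le_inter f z U hU).trans
        (HensPair.ChevalleyTfae.dims_of_openAt f (f.base z) U (fun g hg _ _ => h g hg) η hη)) Set.univ hmem trivial
    exact ⟨Z, hZ, hzZ, dense_iff_closure_eq.mpr hcl, (heq _ hη).2⟩
  tfae_have 3 → 1 := fun h x hx => by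
    refine HensPair.ChevalleyTfae.univOpenAt_of_openAt_fibre f y hy (fun g hg hmax => ?_) x hx
    subst hg
    obtain ⟨Z, hZ, hgZ, hd, heq⟩ := h g rfl hmax
    refine HensPair.ChevalleyTfae.isOpenAt_of_univOpenAt f (HensPair.ChevalleyTfae.univOpenAt_of_b f g hy
      fun Y₀ hY₀ _ => ⟨Z, hZ, hgZ, by rw [huniv Y₀ hY₀]; exact dense_iff_closure_eq.mp hd, fun η hη' => ?_⟩)
    obtain rfl : η = genericPoint Y := IsGenericPoint.eq (S := Set.univ) (hη'.trans (huniv Y₀ hY₀)) hη
    exact heq
  tfae_have 4 → 2 := fun h x hx U hU => by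
    obtain ⟨O, hOU, hO, hxO⟩ := mem_nhds_iff.mp hU
    have : LocallyOfFiniteType (f.fiberToSpecResidueField y) :=
      MorphismProperty.pullback_snd (P := @LocallyOfFiniteType) _ _ inferInstance
    have : JacobsonSpace ↥(f.fiber y) := LocallyOfFiniteType.jacobsonSpace (f.fiberToSpecResidueField y)
    obtain ⟨c₀, hc₀⟩ := (f.range_fiberι y).ge hx
    obtain ⟨c, hc, hcl⟩ := nonempty_inter_closedPoints (X := ↥(f.fiber y)) (Z := f.fiberι y ⁻¹' O)
      ⟨c₀, show f.fiberι y c₀ ∈ O by rw [hc₀]; exact hxO⟩ (hO.preimage (f.fiberι y).continuous).isLocallyClosed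
    have hcy : f.base (f.fiberι y c) = y := (f.range_fiberι y).subset ⟨c, rfl⟩
    obtain ⟨T, i, hi, hTi, hTr, ⟨t, ht⟩, h1, h2, h3, h4⟩ := h (f.fiberι y c) hcy fun x' hx' hsp => by
      obtain ⟨c', rfl⟩ := (f.range_fiberι y).ge hx'
      exact congrArg _ (((f.fiberι y).isEmbedding.isInducing.specializes_iff.mp hsp).mem_closed hcl rfl)
    have h5 := HensPair.UnivOpenGeomUni.univOpenAt_of_quasiFinite (i ≫ f) (i ≫ f).denseRange t (by
      show CAlg2.IsGeomUnibranch (Y.presheaf.stalk (f.base (i.base t)))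
      rw [ht, hcy]; exact hy)
    have h6 := Groth.Agent.UnivOpenAt.of_comp h5
    rw [ht] at h6
    have h7 := HensPair.ChevalleyTfae.isOpenAt_of_univOpenAt f h6 O (hO.mem_nhds hc)
    rw [hcy, ← hx] at h7
    exact Filter.mem_of_superset h7 (Set.image_mono hOU)
  tfae_have 2 → 4 := fun h x hxy hcl => by
    subst hxy
    obtain ⟨Z, hZ, hxZ, hd, heq⟩ := HensPair.ChevalleyTfae.b_of_dims f x (fun U hU η hη _ =>
      (HensPair.ChevalleyTfae.fibreDimAt_le_inter f x U hU).trans
        (HensPair.ChevalleyTfae.dims_of_openAt f (f.base x) U (fun g hg _ _ => h g hg) η hη)) Set.univ hmem trivial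
    let C : TopologicalSpace.Closeds X := ⟨Z, isClosed_of_mem_irreducibleComponents Z hZ⟩
    let S := (Scheme.IdealSheafData.vanishingIdeal C).subscheme
    let j : S ⟶ X := (Scheme.IdealSheafData.vanishingIdeal C).subschemeι
    have hr : Set.range j = Z := by exact Scheme.IdealSheafData.range_subschemeι _
    have : IrreducibleSpace S := HensPair.Chevalley.irreducibleSpace_of_range j j.isEmbedding hZ.1 hr
    obtain ⟨s, hs⟩ : x ∈ Set.range j := by rw [hr]; exact hxZ
    let g := j ≫ f
    have hdg : DenseRange g := by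
      rw [DenseRange, dense_iff_closure_eq, show Set.range g = f.base '' Z by rw [← hr]; exact Set.range_comp f.base j.base]
      exact hd
    let e : ∀ a : Y, (g ⁻¹' {a}) ≃ₜ ↥(Z ∩ f.base ⁻¹' {a}) := fun a => by
      refine ((j.isEmbedding.comp Topology.IsEmbedding.subtypeVal).toHomeomorph
        (f := fun w : ↥(g ⁻¹' {a}) => j w.1)).trans (Homeomorph.setCongr (Set.ext fun z => ⟨?_, ?_⟩))
      · rintro ⟨⟨w, hw⟩, rfl⟩
        exact ⟨hr.le ⟨w, rfl⟩, hw⟩
      · rintro ⟨hz, hzy⟩
        rw [← hr] at hz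
        obtain ⟨w, rfl⟩ := hz
        exact ⟨⟨w, hzy⟩, rfl⟩
    have hequi : EGA43.IsEquidimAt g s := by
      refine HensPair.ChevalleyTfae.isEquidimAt_of_dim g hdg s ?_
      rw [IsHomeomorph.topologicalKrullDim_eq _ ((g.fiberHomeo (genericPoint Y)).trans (e _)).isHomeomorph,
        ← (heq _ hη).2, AlgSpTopo.ThickScheme.fibreDimAt_eq]
      subst hs
      rw [AlgSpTopo.ThickScheme.localDim_homeo (e _)]
      exact le_of_eq rfl
    obtain ⟨T, i, hi, hTi, hTr, ⟨t, ht⟩, h1, h2, h3, h4⟩ := Groth.Agent.S4944.result g s hequi fun s' hs' hsp =>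
      j.isEmbedding.injective ((hcl (j s') (hs'.trans (congrArg f.base hs)) (by
        rw [← hs]; exact hsp.map j.continuous)).trans hs.symm)
    refine ⟨T, i ≫ j, inferInstance, hTi, hTr, ⟨t, ?_⟩, ?_, ?_, ?_, ?_⟩
    · show j (i t) = x
      rw [show i t = s from ht, hs]
    all_goals (rw [Category.assoc]; assumption)
  tfae_finish

end Groth.Agent.S4945
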