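import Groth.Statements.S4946
import Mathlib
import Groth.Agent.EGA43.DvrSection

set_option autoImplicit false
set_option backward.isDefEq.respectTransparency false
open CategoryTheory AlgebraicGeometry
universe u v w
open EGA43

namespace Groth.Agent.S4946

/-- Let Y be an irreducible locally Noetherian scheme which is regular of dimension 1 (all local rings
regular of dimension at most 1), f : X ⟶ Y a morphism locally of finite type and y a point of Y.
Then the following are equivalent: d) every irreducible component of X meeting the fibre X_y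
dominates Y; e) for every point x closed in X_y and every irreducible component X_i of X containing
x, there are an irreducible reduced scheme T and an immersion T ⟶ X with image containing x and
contained in X_i, such that T ⟶ Y is quasi-finite and dominant. -/
theorem result {X Y : Scheme.{u}} [IrreducibleSpace Y]
    [IsLocallyNoetherian Y] (hY : ∀ y : Y, IsRegularLocalRing (Y.presheaf.stalk y) ∧ ringKrullDim (Y.presheaf.stalk y) ≤ 1)
    (f : X ⟶ Y) [LocallyOfFiniteType f] (y : Y) :
    (∀ Z ∈ irreducibleComponents (X : Type u), (Z ∩ f.base ⁻¹' {y}).Nonempty → Dense (f.base '' Z)) ↔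
      ∀ x : X, f.base x = y → (∀ x' : X, f.base x' = y → x ⤳ x' → x' = x) →
        ∀ Xi ∈ irreducibleComponents (X : Type u), x ∈ Xi →
          ∃ (T : Scheme.{u}) (i : T ⟶ X), IsImmersion i ∧ IrreducibleSpace ↥T ∧ IsReduced T ∧ x ∈ Set.range i.base ∧
            Set.range i.base ⊆ Xi ∧
            LocallyOfFiniteType (i ≫ f) ∧ LocallyQuasiFinite (i ≫ f) ∧ QuasiCompact (i ≫ f) ∧ IsDominant (i ≫ f) := by
  haveI : IsLocallyNoetherian X := LocallyOfFiniteType.isLocallyNoetherian f
  constructor
  · intro hd x hxy hcl Xi hXi hxXi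
    have hirr : IsIrreducible Xi := hXi.1
    have hclosed : IsClosed Xi := isClosed_of_mem_irreducibleComponents Xi hXi
    let ξ := hirr.genericPoint
    have hξcl : closure ({ξ} : Set X) = Xi := by
      rw [hirr.genericPoint_closure_eq, hclosed.closure_eq]
    have hξη : f ξ = genericPoint Y := by
      have h1 := hd Xi hXi ⟨x, hxXi, hxy⟩
      have h2 : closure ({f ξ} : Set Y) = Set.univ := by
        refine Set.eq_univ_of_univ_subset ?_
        rw [← h1.closure_eq]
        refine closure_minimal ?_ isClosed_closure
        rw [← hξcl]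
        refine (image_closure_subset_closure_image f.continuous).trans ?_
        rw [Set.image_singleton]
      exact (IsGenericPoint.eq (show IsGenericPoint (f ξ) (Set.univ : Set Y) from h2)
        (genericPoint_spec Y))
    have hξx : ξ ⤳ x := specializes_iff_mem_closure.mpr (by rw [hξcl]; exact hxXi)
    subst hxy
    obtain ⟨x', h1, h2, h3, h4⟩ : ∃ x' : X, ξ ⤳ x' ∧ x' ⤳ x ∧ f x' = genericPoint Y ∧
        ∀ w : X, x' ⤳ w → w ⤳ x → f w = f x → w = x := by
      by_cases hne : genericPoint Y = f x
      · exact ⟨x, hξx, specializes_refl x, hne.symm, fun w hw hw' _ => (hw'.antisymm hw).eq⟩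
      · haveI := (hY (f x)).1
        refine Groth.Agent.EGA43.DvrSection.exists_generization f x (hY (f x)).2 (genericPoint Y)
          (genericPoint_specializes (f x)) (fun z hz => ?_) hne ξ hξx hξη
        exact (hz.antisymm (genericPoint_specializes z)).eq
    obtain ⟨T, i, hi1, hi2, hi3, hi4, hi5, hi6, hi7, hi8, hi9⟩ :=
      Groth.Agent.EGA43.DvrSection.exists_section f x x' h2 h3 hcl h4
    refine ⟨T, i, hi1, hi2, hi3, hi4, hi5.trans ?_, hi6, hi7, hi8, hi9⟩
    exact closure_minimal (Set.singleton_subset_iff.mpr (hξcl ▸ h1.mem_closure)) hclosed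
  · intro he Z hZ hne
    obtain ⟨z, hzZ, hzy⟩ := hne
    have hclosed : IsClosed Z := isClosed_of_mem_irreducibleComponents Z hZ
    haveI : LocallyOfFiniteType (f.fiberToSpecResidueField y) :=
      MorphismProperty.pullback_snd (P := @LocallyOfFiniteType) _ _ inferInstance
    haveI : IsLocallyNoetherian (f.fiber y) := LocallyOfFiniteType.isLocallyNoetherian (f.fiberToSpecResidueField y)
    obtain ⟨u, hu, hucl⟩ := Groth.Agent.EGA43.LocClosed.exists_closedPoint
      (X := f.fiber y) (Z := (f.fiberι y).base ⁻¹' Z) (hclosed.preimage (f.fiberι y).continuous)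
      ⟨(f.fiberHomeo y).symm ⟨z, hzy⟩, by simpa using hzZ⟩
    have huy : f (f.fiberι y u) = y := (f.range_fiberι y).subset ⟨u, rfl⟩
    obtain ⟨T, i, hi1, hi2, hi3, hi4, hi5, hi6, hi7, hi8, hi9⟩ :=
      he _ huy (fun v hv hs => by
        obtain ⟨v', rfl⟩ := (f.range_fiberι y).superset hv
        rw [(f.fiberι y).isEmbedding.isInducing.specializes_iff] at hs
        rw [show v' = u from hucl.closure_eq.subset hs.mem_closure]) Z hZ hu
    refine hi9.denseRange.mono ?_
    rintro _ ⟨t, rfl⟩
    exact ⟨i t, hi5 ⟨t, rfl⟩, rfl⟩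

end Groth.Agent.S4946
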