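import Groth.Statements.S4951

set_option autoImplicit false
universe u
open EGA43

namespace Groth.Agent.S4951

/-- Let X be a locally Noetherian topological space in which every irreducible closed subset has a
unique generic point (X quasi-sober and T₀), and Z a closed nowhere dense subset of X such that for
every point x of Z the set of generizations of x distinct from x is connected (possibly empty). If X
is connected, then X − Z is connected. (Uniqueness of generic points, automatic for the underlying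
space of a scheme, is needed: in the four-point space {u, v, z₁, z₂} whose open sets are ∅, {u},
{v}, {u, v} and the whole space, the closed nowhere dense set Z = {z₁, z₂} satisfies the hypothesis,
since z₂ is a generization of z₁ and conversely, yet X − Z = {u, v} is not connected.) -/
theorem result {X : Type u} [TopologicalSpace X]
    [QuasiSober X] [T0Space X] (hloc : ∀ x : X, ∃ U ∈ nhds x, TopologicalSpace.NoetherianSpace ↥U) [ConnectedSpace X]
    (Z : Set X) (hZ : IsClosed Z) (hZn : IsNowhereDense Z)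
    (hgen : ∀ x ∈ Z, IsPreconnected ({x' : X | x' ⤳ x} \ {x})) :
    IsConnected Zᶜ := by
  have hd : Dense Zᶜ := interior_eq_empty_iff_dense_compl.mp (hZ.isNowhereDense_iff.mp hZn)
  obtain ⟨z₀⟩ := (inferInstance : Nonempty X)
  refine ⟨closure_nonempty_iff.mp (hd.closure_eq.symm ▸ ⟨z₀, trivial⟩), ?_⟩
  intro U V hU hV hsub hUne hVne
  by_contra hemp
  rw [Set.not_nonempty_iff_eq_empty] at hemp
  set A := closure (Zᶜ ∩ U) with hA
  set B := closure (Zᶜ ∩ V) with hB
  have hAB : A ∪ B = Set.univ := by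
    rw [hA, hB, ← closure_union, ← Set.inter_union_distrib_left, Set.inter_eq_left.mpr hsub]
    exact hd.closure_eq
  have hABZ : A ∩ B ⊆ Z := by
    rintro x ⟨hxA, hxB⟩
    by_contra hxZ
    rcases hsub hxZ with h | h
    · obtain ⟨y, hyW, hy⟩ := mem_closure_iff.mp hxB (Zᶜ ∩ U) (hZ.isOpen_compl.inter hU) ⟨hxZ, h⟩
      exact (hemp.subset ⟨hy.1, hyW.2, hy.2⟩).elim
    · obtain ⟨y, hyW, hy⟩ := mem_closure_iff.mp hxA (Zᶜ ∩ V) (hZ.isOpen_compl.inter hV) ⟨hxZ, h⟩
      exact (hemp.subset ⟨hy.1, hy.2, hyW.2⟩).elim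
  have hne : (A ∩ B).Nonempty := by
    have := isPreconnected_closed_iff.mp (isPreconnected_univ (α := X)) A B isClosed_closure
      isClosed_closure hAB.ge ?_ ?_
    · simpa using this
    · obtain ⟨x, hx⟩ := hUne; exact ⟨x, trivial, subset_closure hx⟩
    · obtain ⟨x, hx⟩ := hVne; exact ⟨x, trivial, subset_closure hx⟩
  obtain ⟨x₀, hx₀⟩ := hne
  haveI : QuasiSober ↥(A ∩ B) :=
    ((isClosed_closure.inter isClosed_closure : IsClosed (A ∩ B)).isClosedEmbedding_subtypeVal).quasiSober
  let T := irreducibleComponent (⟨x₀, hx₀⟩ : ↥(A ∩ B))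
  obtain ⟨⟨x, hx⟩, hgen'⟩ : ∃ x, IsGenericPoint x T :=
    QuasiSober.sober isIrreducible_irreducibleComponent isClosed_irreducibleComponent
  have hmax : ∀ y, y ∈ A ∩ B → y ⤳ x → y = x := by
    intro y hy hyx
    have h1 : T ⊆ closure ({⟨y, hy⟩} : Set ↥(A ∩ B)) := by
      rw [← hgen'.def]
      refine closure_minimal (Set.singleton_subset_iff.mpr ?_) isClosed_closure
      exact specializes_iff_mem_closure.mp (Topology.IsInducing.subtypeVal.specializes_iff.mp hyx)
    have h2 : closure ({⟨y, hy⟩} : Set ↥(A ∩ B)) ⊆ T :=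
      (eq_irreducibleComponent isIrreducible_singleton.closure.isPreirreducible h1).le
    have h3 : (⟨x, hx⟩ : ↥(A ∩ B)) ⤳ ⟨y, hy⟩ := hgen'.specializes (h2 (subset_closure rfl))
    exact (hyx.antisymm (h3.map continuous_subtype_val)).eq
  have hmeet : ∀ W : Set X, IsOpen W → W ⊆ Zᶜ → x ∈ closure W → ∃ t ∈ W, t ⤳ x := by
    intro W hW hWZ hxW
    obtain ⟨U₀, hU₀, hN⟩ := hloc x
    have hxWU : x ∈ closure (W ∩ interior U₀) := by
      rw [mem_closure_iff]
      intro o ho hxo
      obtain ⟨y, hyo, hy⟩ := mem_closure_iff.mp hxW (o ∩ interior U₀) (ho.inter isOpen_interior)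
        ⟨hxo, mem_interior_iff_mem_nhds.mpr hU₀⟩
      exact ⟨y, hyo.1, hy, hyo.2⟩
    haveI hN' : TopologicalSpace.NoetherianSpace ↥(W ∩ interior U₀) :=
      ((Topology.IsInducing.subtypeVal).of_comp
        (f := Set.inclusion (Set.inter_subset_right.trans interior_subset : W ∩ interior U₀ ⊆ U₀))
        (continuous_inclusion _) continuous_subtype_val).noetherianSpace
    obtain ⟨S, hSfin, hSirr, hS⟩ := TopologicalSpace.NoetherianSpace.exists_finite_set_isClosed_irreducible
      (s := (Set.univ : Set ↥(W ∩ interior U₀))) isClosed_univ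
    have himg : W ∩ interior U₀ = ⋃ T ∈ S, Subtype.val '' T := by
      rw [← Set.image_iUnion₂, ← Set.sUnion_eq_biUnion, ← hS.2]
      simp
    rw [himg, hSfin.closure_biUnion] at hxWU
    obtain ⟨T', hT', hxT⟩ := Set.mem_iUnion₂.mp hxWU
    have hirr : IsIrreducible (Subtype.val '' T') := (hS.1 T' hT').image _ continuous_subtype_val.continuousOn
    obtain ⟨t, ht⟩ : ∃ t, IsGenericPoint t (closure (Subtype.val '' T')) :=
      QuasiSober.sober hirr.closure isClosed_closure
    refine ⟨t, ?_, ht.specializes hxT⟩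
    obtain ⟨w, hw⟩ := hirr.nonempty
    refine (ht.specializes (subset_closure hw)).mem_open hW ?_
    obtain ⟨v, -, rfl⟩ := hw
    exact v.2.1
  obtain ⟨a, haW, hax⟩ := hmeet (Zᶜ ∩ U) (hZ.isOpen_compl.inter hU) Set.inter_subset_left hx.1
  obtain ⟨b, hbW, hbx⟩ := hmeet (Zᶜ ∩ V) (hZ.isOpen_compl.inter hV) Set.inter_subset_left hx.2
  obtain ⟨y, hy, hyA, hyB⟩ := isPreconnected_closed_iff.mp (hgen x (hABZ hx)) A B isClosed_closure
    isClosed_closure (hAB.ge.trans' (Set.subset_univ _))
    ⟨a, ⟨hax, fun h => haW.1 (h ▸ hABZ hx)⟩, subset_closure haW⟩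
    ⟨b, ⟨hbx, fun h => hbW.1 (h ▸ hABZ hx)⟩, subset_closure hbW⟩
  exact hy.2 (hmax y ⟨hyA, hyB⟩ hy.1)

end Groth.Agent.S4951
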