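import Groth.Statements.S4958
import Groth.Agent.HensPair.EquidimCat

set_option autoImplicit false
open CategoryTheory AlgebraicGeometry
universe u v w
open EGA43

namespace Groth.Agent.S4958

/-- Let Y be an irreducible locally Noetherian scheme with generic point η, f : X ⟶ Y a morphism of
finite type and y a point of Y whose local ring O_{Y,y} is universally catenary. Suppose that dim
O_{X,z} = dim O_{Y,y} for every maximal point z of the fibre X_y. For z' in Y let E(z') be the set
of dimensions of the irreducible components of X_{z'}. Then E(y) ⊆ E(η), and hence dim X_y ≤ dim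
X_η. -/
theorem result {X Y : Scheme.{u}} [IrreducibleSpace Y]
    [IsLocallyNoetherian Y] (f : X ⟶ Y) [LocallyOfFiniteType f] [QuasiCompact f] (y : Y)
    (hcat : CAlg.IsUniversallyCatenary (Y.presheaf.stalk y))
    (hb : ∀ z : X, f.base z = y → (∀ z' : X, f.base z' = y → z ∈ closure {z'} → z' = z) →
      ringKrullDim (X.presheaf.stalk z) = ringKrullDim (Y.presheaf.stalk y)) :
    letI E : Y → Set (WithBot ℕ∞) := fun z =>
      (fun Z : Set ↥(f.fiber z) => topologicalKrullDim ↥Z) '' irreducibleComponents ↥(f.fiber z)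
    E y ⊆ E (genericPoint Y) ∧
      topologicalKrullDim ↥(f.fiber y) ≤ topologicalKrullDim ↥(f.fiber (genericPoint Y)) := by
  open Groth.Agent.HensPair in
  let E : Y → Set (WithBot ℕ∞) := fun z => (fun Z : Set ↥(f.fiber z) => topologicalKrullDim ↥Z) '' irreducibleComponents ↥(f.fiber z)
  have key : E y ⊆ E (genericPoint Y) := by
    rintro _ ⟨Z, hZ, rfl⟩
    let c := hZ.1.genericPoint
    have hc : closure ({c} : Set ↥(f.fiber y)) = Z := by
      rw [hZ.1.genericPoint_closure_eq, (isClosed_of_mem_irreducibleComponents Z hZ).closure_eq]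
    have hcmax : ∀ p, p ⤳ c → p = c := Groth.Agent.Equidim.AffineCrit.genericPoint_maximal hZ
    let z := f.fiberι y c
    have hfz : f.base z = y := (f.range_fiberι y).subset ⟨c, rfl⟩
    have hmax : ∀ z' : X, f.base z' = y → z ∈ closure {z'} → z' = z := fun z' hz' hcl =>
      FibreComp.maximal_image f y c hcmax z' hz' hcl
    have hd := hb z hfz hmax
    have hfd := FibreTrdeg.fibreDimAt_eq_T_of_maximal f z fun z' hz' => hmax z' (hz'.trans hfz)
    obtain ⟨ξ, hξz, hξmax, hη, hTξ⟩ := EquidimCat.exists_component_of_dim f z _ hfd rfl (by rw [hd, ← hfz])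
    obtain ⟨c', hc'⟩ : ξ ∈ Set.range (f.fiberι (genericPoint Y)) := by rw [f.range_fiberι]; exact hη
    have hc'max : ∀ p, p ⤳ c' → p = c' := fun p hp => (f.fiberι (genericPoint Y)).isEmbedding.injective
      ((hξmax _ ((hp.map (f.fiberι (genericPoint Y)).continuous).trans (specializes_of_eq hc'))).trans hc'.symm)
    refine ⟨closure {c'}, Groth.Agent.Equidim.closure_mem_irreducibleComponents c' hc'max, ?_⟩
    show topologicalKrullDim ↥(closure {c'}) = topologicalKrullDim ↥Z
    rw [← hc, FibreComp.dim_closure_eq f y c hcmax, FibreComp.dim_closure_eq f _ c' hc'max, hc',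
      FibreTrdeg.fibreDimAt_eq_T_of_maximal f ξ fun p _ hp => hξmax p (specializes_iff_mem_closure.mpr hp),
      hfd, hTξ]
  refine ⟨key, Groth.Agent.Equidim.dim_le_of_components fun Z hZ => ?_⟩
  obtain ⟨Z', hZ', hZ'eq⟩ := key ⟨Z, hZ, rfl⟩
  rw [← show topologicalKrullDim ↥Z' = topologicalKrullDim ↥Z from hZ'eq]
  exact Topology.IsInducing.topologicalKrullDim_le Topology.IsInducing.subtypeVal

end Groth.Agent.S4958
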