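import Groth.Statements.S4959
import Mathlib

set_option autoImplicit false
open CategoryTheory AlgebraicGeometry
universe u v w
open EGA43

namespace Groth.Agent.S4959

open CategoryTheory.Limits in
/-- Let f : X ⟶ Y be a morphism of schemes and g : Y' ⟶ Y a surjective morphism which is either proper,
or flat and quasi-compact. If the base change f' : X ×_Y Y' ⟶ Y' is universally submersive (all of
its base changes are topological quotient maps), then f is universally submersive. -/
theorem result {X Y Y' : Scheme.{u}} (f : X ⟶ Y) (g : Y' ⟶ Y) [Surjective g]
    (hg : IsProper g ∨ (Flat g ∧ QuasiCompact g))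
    (h : MorphismProperty.universally (topologically @Topology.IsQuotientMap) (pullback.snd f g)) :
    MorphismProperty.universally (topologically @Topology.IsQuotientMap) f := by
  have hg' : MorphismProperty.universally (topologically @Topology.IsQuotientMap) g := by
    intro T' T i₁ i₂ g' hsq
    have hs : Surjective g' := MorphismProperty.of_isPullback hsq.flip inferInstance
    rcases hg with h1 | ⟨h1, h2⟩
    · have h3 : IsProper g' := MorphismProperty.of_isPullback hsq.flip h1
      exact g'.isClosedMap.isQuotientMap g'.continuous g'.surjective
    · have h3 : Flat g' := MorphismProperty.of_isPullback hsq.flip h1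
      have h4 : QuasiCompact g' := MorphismProperty.of_isPullback hsq.flip h2
      exact Flat.isQuotientMap_of_surjective g'
  intro XT T i₁ i₂ fT hsq
  have hgT : topologically @Topology.IsQuotientMap (pullback.snd g i₂) :=
    hg' _ _ _ (IsPullback.of_hasPullback g i₂).flip
  have hfT : topologically @Topology.IsQuotientMap (pullback.snd fT (pullback.snd g i₂)) := by
    refine h (pullback.lift (pullback.fst fT (pullback.snd g i₂) ≫ i₁)
      (pullback.snd fT (pullback.snd g i₂) ≫ pullback.fst g i₂) ?_) (pullback.fst g i₂)
      (pullback.snd fT (pullback.snd g i₂)) ?_
    · rw [Category.assoc, ← hsq.w, pullback.condition_assoc, Category.assoc, pullback.condition]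
    · refine (IsPullback.of_right ?_ (pullback.lift_snd _ _ _) (IsPullback.of_hasPullback f g)).flip
      rw [pullback.lift_fst]
      have h2 := (IsPullback.of_hasPullback fT (pullback.snd g i₂)).paste_horiz hsq.flip
      rwa [← pullback.condition] at h2
  have hc : Topology.IsQuotientMap
      ((fT : _ → _) ∘ (pullback.fst fT (pullback.snd g i₂) : _ → _)) := by
    have : (fT : _ → _) ∘ (pullback.fst fT (pullback.snd g i₂) : _ → _) =
        (pullback.snd g i₂ : _ → _) ∘ (pullback.snd fT (pullback.snd g i₂) : _ → _) := by
      funext z
      exact congr($(pullback.condition (f := fT) (g := pullback.snd g i₂)) z)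
    rw [this]
    exact hgT.comp hfT
  exact .of_comp (pullback.fst fT (pullback.snd g i₂)).continuous fT.continuous hc

end Groth.Agent.S4959
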