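-- Proof of S4971.
import Mathlib.RingTheory.Flat.Basic
import Mathlib.RingTheory.FinitePresentation
import Mathlib.Algebra.Module.FinitePresentation
import Mathlib.RingTheory.Ideal.Quotient.Basic
import Mathlib.RingTheory.TensorProduct.Basic
import Mathlib.Algebra.Module.Projective
import Mathlib.RingTheory.Regular.IsSMulRegular
import Mathlib.RingTheory.LocalRing.MaximalIdeal.Basic
import Mathlib.RingTheory.Noetherian.Basic
import Mathlib.LinearAlgebra.Quotient.Basic
import Mathlib.RingTheory.LocalRing.ResidueField.Ideal
import Mathlib.RingTheory.Ideal.Operations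
import Mathlib.RingTheory.Nakayama
import Mathlib.RingTheory.Noetherian.Basic

set_option autoImplicit false
universe u
namespace EGA43
end EGA43
open EGA43

namespace Groth.Agent.S4971

/-- Let B be a Noetherian local ring, M, N, P three B-modules with N finitely generated, u : M → N and v
: N → P linear maps with v ∘ u = 0, and t an element of the maximal ideal of B which is P-regular.
If the induced sequence M/tM → N/tN → P/tP is exact, then M → N → P is exact. -/
theorem result {B : Type u} [CommRing B] [IsNoetherianRing B] [IsLocalRing B]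
    {M N P : Type u} [AddCommGroup M] [Module B M] [AddCommGroup N] [Module B N] [Module.Finite B N]
    [AddCommGroup P] [Module B P] (u : M →ₗ[B] N) (v : N →ₗ[B] P) (huv : v ∘ₗ u = 0) (t : B)
    (ht : t ∈ IsLocalRing.maximalIdeal B) (hreg : IsSMulRegular P t)
    (hu : (Ideal.span {t} • ⊤ : Submodule B M) ≤ (Ideal.span {t} • ⊤ : Submodule B N).comap u)
    (hv : (Ideal.span {t} • ⊤ : Submodule B N) ≤ (Ideal.span {t} • ⊤ : Submodule B P).comap v)
    (hex : LinearMap.ker ((Ideal.span {t} • ⊤ : Submodule B N).mapQ (Ideal.span {t} • ⊤ : Submodule B P) v hv) ≤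
      LinearMap.range ((Ideal.span {t} • ⊤ : Submodule B M).mapQ (Ideal.span {t} • ⊤ : Submodule B N) u hu)) :
    LinearMap.ker v ≤ LinearMap.range u := by
  intro x hx
  have hP : ∀ y ∈ (Ideal.span {t} • ⊤ : Submodule B N), ∃ z, t • z = y := by
    intro y hy
    rw [Submodule.ideal_span_singleton_smul] at hy
    obtain ⟨z, -, hz⟩ := hy
    exact ⟨z, hz⟩
  have key : LinearMap.ker v ≤ LinearMap.range u ⊔ Ideal.span {t} • LinearMap.ker v := by
    intro y hy
    have hy' : Submodule.Quotient.mk y ∈
        LinearMap.ker ((Ideal.span {t} • ⊤ : Submodule B N).mapQ (Ideal.span {t} • ⊤) v hv) := by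
      rw [LinearMap.mem_ker, Submodule.mapQ_apply, LinearMap.mem_ker.mp hy]; rfl
    obtain ⟨w, hw⟩ := hex hy'
    obtain ⟨m, rfl⟩ := Submodule.Quotient.mk_surjective _ w
    rw [Submodule.mapQ_apply, Submodule.Quotient.eq] at hw
    obtain ⟨z, hz⟩ := hP _ hw
    have hz0 : v z = 0 := by
      refine hreg ?_
      show t • v z = t • 0
      rw [smul_zero, ← map_smul, hz, map_sub, LinearMap.mem_ker.mp hy, ← LinearMap.comp_apply, huv]
      simp
    have : y = u m - t • z := by rw [hz]; abel
    rw [this]
    exact sub_mem (Submodule.mem_sup_left ⟨m, rfl⟩)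
      (Submodule.mem_sup_right (Submodule.smul_mem_smul (Ideal.mem_span_singleton_self t) hz0))
  exact Submodule.le_of_le_smul_of_le_jacobson_bot (IsNoetherian.noetherian _)
    (((Ideal.span_singleton_le_iff_mem _).mpr ht).trans (IsLocalRing.maximalIdeal_le_jacobson _))
    key hx

end Groth.Agent.S4971
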