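import Groth.Statements.S4978
import Groth.Agent.Lead.DVR.ProperNhd
import Groth.Agent.RatMap.Sub
-- import your own Groth.Agent.* helpers here

set_option autoImplicit false
open CategoryTheory AlgebraicGeometry
universe u v w
open EGA43

namespace Groth.Agent.S4978

open CategoryTheory.Limits Groth.Agent.Lead.DVR

/-- the generic point of the spectrum of a domain is the image of the spectrum of its fraction field -/
theorem specMap_generic (A K : Type u) [CommRing A] [IsDomain A] [Field K] [Algebra A K] [IsFractionRing A K]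
    (c : Spec (CommRingCat.of K)) :
    (Spec.map (CommRingCat.ofHom (algebraMap A K))) c = genericPoint (Spec (CommRingCat.of A)) := by
  have hc : c.asIdeal = ⊥ := c.asIdeal.eq_bot_of_prime
  have h : (Spec.map (CommRingCat.ofHom (algebraMap A K))) c = (⟨⊥, Ideal.isPrime_bot⟩ : PrimeSpectrum A) := by
    refine PrimeSpectrum.ext ?_
    show c.asIdeal.comap (algebraMap A K) = ⊥
    rw [hc, Ideal.comap_bot_of_injective _ (IsFractionRing.injective A K)]
  rw [h]
  refine (genericPoint_spec _).eq ?_ |> Eq.symm
  rw [isGenericPoint_iff_specializes]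
  exact fun y => ⟨fun _ => trivial, fun _ => (PrimeSpectrum.le_iff_specializes ⟨⊥, Ideal.isPrime_bot⟩ y).mp bot_le⟩

/-- the residue field at the generic point is the fraction field -/
theorem exists_fracIso (A K : Type u) [CommRing A] [IsDomain A] [Field K] [Algebra A K] [IsFractionRing A K]
    (q : Spec (CommRingCat.of A)) (hq : q = genericPoint (Spec (CommRingCat.of A))) :
    ∃ j : (Spec (CommRingCat.of A)).residueField q ⟶ CommRingCat.of K,
      Spec.map j ≫ (Spec (CommRingCat.of A)).fromSpecResidueField q = Spec.map (CommRingCat.ofHom (algebraMap A K)) ∧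
        Function.Bijective j := by
  obtain rfl : q = (Spec.map (CommRingCat.ofHom (algebraMap A K))) (IsLocalRing.closedPoint K) :=
    hq.trans (specMap_generic A K _).symm
  let t := Spec.map (CommRingCat.ofHom (algebraMap A K))
  let j := (Spec (CommRingCat.of A)).descResidueField (Scheme.stalkClosedPointTo t)
  have hj := Scheme.descResidueField_stalkClosedPointTo_fromSpecResidueField K _ t
  refine ⟨j, hj, j.hom.injective, fun z => ?_⟩
  let β := Spec.preimage ((Spec (CommRingCat.of A)).fromSpecResidueField (t (IsLocalRing.closedPoint K)))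
  have hβ : β ≫ j = CommRingCat.ofHom (algebraMap A K) := by
    apply Spec.map_injective
    rw [Spec.map_comp, Spec.map_preimage, hj]
  obtain ⟨a, b, -, rfl⟩ := IsFractionRing.div_surjective (A := A) z
  refine ⟨β a / β b, ?_⟩
  rw [map_div₀]
  exact congrArg₂ (· / ·) (ConcreteCategory.congr_hom hβ a) (ConcreteCategory.congr_hom hβ b)

open CategoryTheory.Limits in
/-- Let Y be a Noetherian scheme, f : X ⟶ Y a separated morphism of finite type, Z a subset of X such
that every maximal point of the closure of Z belongs to Z, and y a point of Y. Then the closure of Z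
is proper over Y at y (for some open U ∋ y, its trace on f⁻¹(U) is proper over U with the reduced
structure) if and only if: for every discrete valuation ring A' and every morphism g : Spec A' ⟶ Y
mapping the closed point to y, every point x' of X' = X ×_Y Spec A' which projects into Z, lies over
the generic point η' of Spec A' and is rational over κ(η') is in the image of some section of X' ⟶
Spec A'. -/
theorem result {X Y : Scheme.{u}} [IsNoetherian Y] (f : X ⟶ Y) [IsSeparated f]
    [LocallyOfFiniteType f] [QuasiCompact f] (Z : Set X)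
    (hZ : ∀ z ∈ closure Z, (∀ z' ∈ closure Z, z ∈ closure {z'} → z' = z) → z ∈ Z) (y : Y) :
    (∃ U : Y.Opens, y ∈ U ∧ ∃ hC : IsClosed ((f ⁻¹ᵁ U).ι.base ⁻¹' closure Z),
      IsProper ((Scheme.IdealSheafData.vanishingIdeal
        (⟨(f ⁻¹ᵁ U).ι.base ⁻¹' closure Z, hC⟩ : TopologicalSpace.Closeds ↥(f ⁻¹ᵁ U))).subschemeι ≫ (f ∣_ U))) ↔
      ∀ (A' : Type u) [CommRing A'] [IsDomain A'] [IsDiscreteValuationRing A'] (g : Spec (CommRingCat.of A') ⟶ Y),
        g.base (IsLocalRing.closedPoint A') = y →
        ∀ x' : ↥(pullback f g), (pullback.fst f g).base x' ∈ Z →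
          (pullback.snd f g).base x' = genericPoint (Spec (CommRingCat.of A')) →
          Function.Bijective ((pullback.snd f g).residueFieldMap x').hom →
          ∃ s : Spec (CommRingCat.of A') ⟶ pullback f g, s ≫ pullback.snd f g = 𝟙 _ ∧ x' ∈ Set.range s.base := by
  classical
  constructor
  · rintro ⟨U, hyU, hC, hprop⟩ A' _ _ _ g hg x' hxZ hxη hbij
    haveI := hprop
    obtain ⟨j, hj, hjb⟩ := exists_fracIso A' (FractionRing A') ((pullback.snd f g).base x') hxη
    let e := ConcreteCategory.isIso_iff_bijective _ |>.mpr hbij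
    let σ : Spec (CommRingCat.of (FractionRing A')) ⟶ pullback f g :=
      Spec.map (inv ((pullback.snd f g).residueFieldMap x') ≫ j) ≫ (pullback f g).fromSpecResidueField x'
    have hσ : σ ≫ pullback.snd f g = Spec.map (CommRingCat.ofHom (algebraMap A' (FractionRing A'))) := by
      rw [Category.assoc, ← Scheme.Hom.SpecMap_residueFieldMap_fromSpecResidueField, ← Spec.map_comp_assoc,
        IsIso.hom_inv_id_assoc, hj]
    let C : TopologicalSpace.Closeds ↥(f ⁻¹ᵁ U) := ⟨(f ⁻¹ᵁ U).ι.base ⁻¹' closure Z, hC⟩
    let I := Scheme.IdealSheafData.vanishingIdeal (X := (f ⁻¹ᵁ U).toScheme) C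
    let xK := σ ≫ pullback.fst f g
    have hxK : ∀ q, xK q = (pullback.fst f g).base x' := fun q => by
      rw [Scheme.Hom.comp_apply, Scheme.Hom.comp_apply, Scheme.fromSpecResidueField_apply]
    have hgU : Set.range g ⊆ (U : Set Y) := range_subset_of_closedPoint g (hg.symm ▸ hyU)
    have hxr : Set.range xK ⊆ ((f ⁻¹ᵁ U : X.Opens) : Set X) := by
      rintro _ ⟨q, rfl⟩
      show (xK ≫ f) q ∈ U
      rw [Category.assoc, pullback.condition, reassoc_of% hσ, Scheme.Hom.comp_apply]
      exact hgU ⟨_, rfl⟩
    let x₁ := IsOpenImmersion.lift (f ⁻¹ᵁ U).ι xK (by rwa [Scheme.Opens.range_ι])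
    have hx₁ : ∀ q, x₁ q ∈ (C : Set ↥(f ⁻¹ᵁ U)) := fun q => by
      show (f ⁻¹ᵁ U).ι (x₁ q) ∈ closure Z
      rw [← Scheme.Hom.comp_apply, IsOpenImmersion.lift_fac, hxK]
      exact subset_closure hxZ
    let x₂ := IsClosedImmersion.lift I.subschemeι x₁ (by
      rw [Scheme.IdealSheafData.ker_subschemeι]
      exact Groth.Agent.RatMap.Sub.vanishingIdeal_le_ker x₁ C (by rintro _ ⟨q, rfl⟩; exact hx₁ q))
    let y' := IsOpenImmersion.lift U.ι g (by rwa [Scheme.Opens.range_ι])
    have w : x₂ ≫ I.subschemeι ≫ (f ∣_ U) = Spec.map (CommRingCat.ofHom (algebraMap A' (FractionRing A'))) ≫ y' := by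
      rw [← cancel_mono U.ι, Category.assoc, Category.assoc, morphismRestrict_ι, IsClosedImmersion.lift_fac_assoc,
        IsOpenImmersion.lift_fac_assoc, Category.assoc, pullback.condition, reassoc_of% hσ, Category.assoc,
        IsOpenImmersion.lift_fac]
    obtain ⟨l, hl, hl'⟩ := dvrExist_of_universallyClosed (I.subschemeι ≫ (f ∣_ U)) A' x₂ y' w
    have hs : (l ≫ I.subschemeι ≫ (f ⁻¹ᵁ U).ι) ≫ f = 𝟙 _ ≫ g := by
      rw [Category.assoc, Category.assoc, ← morphismRestrict_ι, reassoc_of% hl, IsOpenImmersion.lift_fac, Category.id_comp]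
    refine ⟨pullback.lift _ _ hs, pullback.lift_snd _ _ _, ?_⟩
    have h1 : Spec.map (CommRingCat.ofHom (algebraMap A' (FractionRing A'))) ≫ pullback.lift _ _ hs = σ := by
      refine pullback.hom_ext ?_ ?_
      · rw [Category.assoc, pullback.lift_fst, reassoc_of% hl', IsClosedImmersion.lift_fac_assoc, IsOpenImmersion.lift_fac]
      · rw [Category.assoc, pullback.lift_snd, Category.comp_id, hσ]
    refine ⟨Spec.map (CommRingCat.ofHom (algebraMap A' (FractionRing A'))) (IsLocalRing.closedPoint _), ?_⟩
    rw [← Scheme.Hom.comp_apply, h1, Scheme.Hom.comp_apply, Scheme.fromSpecResidueField_apply]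
  · intro h
    let C₀ : TopologicalSpace.Closeds X := ⟨closure Z, isClosed_closure⟩
    let I := Scheme.IdealSheafData.vanishingIdeal C₀
    haveI : IsReduced I.subscheme := Groth.Agent.RatMap.Sub.isReduced_subscheme I fun U => by
      show (PrimeSpectrum.vanishingIdeal _).IsRadical
      exact PrimeSpectrum.isRadical_vanishingIdeal _
    have hrange : Set.range I.subschemeι = closure Z := by
      rw [Scheme.IdealSheafData.range_subschemeι, Scheme.IdealSheafData.coe_support_vanishingIdeal]
      rfl
    obtain ⟨U, hyU, hprop⟩ := exists_isProper_nhd (I.subschemeι ≫ f) y fun η hη A hA yA hyA wA => by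
      haveI := hA
      have hηZ : I.subschemeι η ∈ Z := hZ _ (hrange.le ⟨η, rfl⟩) fun z' hz' hz => by
        obtain ⟨p, rfl⟩ := hrange.ge hz'
        have hs : p ⤳ η := I.subschemeι.isClosedEmbedding.isInducing.specializes_iff.mp (specializes_iff_mem_closure.mpr hz)
        have h2 := hη.2 isIrreducible_singleton.closure
          (closure_minimal (Set.singleton_subset_iff.mpr hs.mem_closure) isClosed_closure)
        rw [(hs.antisymm (specializes_iff_mem_closure.mpr (h2 (subset_closure rfl)))).eq]
      let t := Spec.map (CommRingCat.ofHom A.subtype)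
      let σ : Spec (I.subscheme.residueField η) ⟶ pullback f yA :=
        pullback.lift (I.subscheme.fromSpecResidueField η ≫ I.subschemeι) t (by rw [Category.assoc]; exact wA.symm)
      let c : Spec (I.subscheme.residueField η) := IsLocalRing.closedPoint (I.subscheme.residueField η)
      let x' := σ c
      have hx' : (pullback.fst f yA).base x' = I.subschemeι η := by
        show (σ ≫ pullback.fst f yA) c = _
        rw [pullback.lift_fst, Scheme.Hom.comp_apply, Scheme.fromSpecResidueField_apply]
      have hxη : (pullback.snd f yA).base x' = genericPoint (Spec (CommRingCat.of A)) := by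
        show (σ ≫ pullback.snd f yA) c = _
        rw [pullback.lift_snd]
        exact specMap_generic A (I.subscheme.residueField η) c
      obtain ⟨j, hj, hjb⟩ := exists_fracIso A (I.subscheme.residueField η) ((pullback.snd f yA).base x') hxη
      obtain ⟨d, hd⟩ : ∃ d, Spec.map d ≫ (pullback f yA).fromSpecResidueField x' = σ :=
        ⟨_, Scheme.descResidueField_stalkClosedPointTo_fromSpecResidueField _ _ σ⟩
      have hdj : (pullback.snd f yA).residueFieldMap x' ≫ d = j := by
        apply Spec.map_injective
        rw [← cancel_mono ((Spec (CommRingCat.of A)).fromSpecResidueField _), Spec.map_comp, Category.assoc,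
          Scheme.Hom.SpecMap_residueFieldMap_fromSpecResidueField, reassoc_of% hd, hj, pullback.lift_snd]
        rfl
      have hbij : Function.Bijective ((pullback.snd f yA).residueFieldMap x').hom := by
        refine ⟨RingHom.injective _, fun a => ?_⟩
        obtain ⟨b, hb⟩ := hjb.2 (d a)
        exact ⟨b, d.hom.injective ((ConcreteCategory.congr_hom hdj b).trans hb)⟩
      obtain ⟨s, hs, p, hp⟩ := h A yA hyA x' (hx'.symm ▸ hηZ) hxη hbij
      have hst : t ≫ s = σ := by
        have hpt : (t ≫ s) c = x' := by
          rw [Scheme.Hom.comp_apply, ← hp]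
          have h1 : (s ≫ pullback.snd f yA) p = genericPoint (Spec (CommRingCat.of A)) := by
            rw [Scheme.Hom.comp_apply, hp]; exact hxη
          rw [hs] at h1
          exact congrArg s ((specMap_generic A (I.subscheme.residueField η) c).trans h1.symm)
        obtain ⟨d', hd'⟩ : ∃ d', Spec.map d' ≫ (pullback f yA).fromSpecResidueField x' = t ≫ s := by
          rw [← hpt]
          exact ⟨_, Scheme.descResidueField_stalkClosedPointTo_fromSpecResidueField _ _ (t ≫ s)⟩
        haveI : IsIso ((pullback.snd f yA).residueFieldMap x') := (ConcreteCategory.isIso_iff_bijective _).mpr hbij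
        have : d' = d := by
          rw [← cancel_epi ((pullback.snd f yA).residueFieldMap x'), hdj]
          apply Spec.map_injective
          rw [← cancel_mono ((Spec (CommRingCat.of A)).fromSpecResidueField _), Spec.map_comp, Category.assoc,
            Scheme.Hom.SpecMap_residueFieldMap_fromSpecResidueField, reassoc_of% hd', hs, hj, Category.comp_id]
          rfl
        rw [← hd', this, hd]
      let l₀ := s ≫ pullback.fst f yA
      have hl₀ : t ≫ l₀ = I.subscheme.fromSpecResidueField η ≫ I.subschemeι := by
        rw [reassoc_of% hst, pullback.lift_fst]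
      let l := IsClosedImmersion.lift I.subschemeι l₀ (by
        rw [Scheme.IdealSheafData.ker_subschemeι]
        refine Groth.Agent.RatMap.Sub.vanishingIdeal_le_ker l₀ C₀ ?_
        rintro _ ⟨q, rfl⟩
        have h1 : (t ≫ l₀) c ⤳ l₀ q := by
          rw [Scheme.Hom.comp_apply, show t c = genericPoint (Spec (CommRingCat.of A)) from
            specMap_generic A (I.subscheme.residueField η) c]
          exact (genericPoint_specializes q).map l₀.continuous
        refine h1.mem_closed isClosed_closure ?_
        rw [hl₀, Scheme.Hom.comp_apply]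
        exact hrange.le ⟨_, rfl⟩)
      refine ⟨l, ?_, ?_⟩
      · rw [IsClosedImmersion.lift_fac_assoc, Category.assoc, pullback.condition, reassoc_of% hs]
      · rw [← cancel_mono I.subschemeι, Category.assoc, IsClosedImmersion.lift_fac, hl₀]
    let hC : IsClosed ((f ⁻¹ᵁ U).ι.base ⁻¹' closure Z) := isClosed_closure.preimage (Scheme.Hom.continuous _)
    refine ⟨U, hyU, hC, ?_⟩
    let C : TopologicalSpace.Closeds ↥(f ⁻¹ᵁ U) := ⟨_, hC⟩
    let I' := Scheme.IdealSheafData.vanishingIdeal (X := (f ⁻¹ᵁ U).toScheme) C
    haveI : IsProper ((I.subschemeι ≫ f) ∣_ U) := hprop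
    let k := I.subschemeι ∣_ (f ⁻¹ᵁ U)
    let h' := IsClosedImmersion.lift I'.subschemeι k (by
      rw [Scheme.IdealSheafData.ker_subschemeι]
      refine Groth.Agent.RatMap.Sub.vanishingIdeal_le_ker k C ?_
      rintro _ ⟨q, rfl⟩
      show (f ⁻¹ᵁ U).ι (k q) ∈ closure Z
      rw [← Scheme.Hom.comp_apply, morphismRestrict_ι, Scheme.Hom.comp_apply]
      exact hrange.le ⟨_, rfl⟩)
    haveI : Surjective h' := ⟨fun q => by
      have hq : (f ⁻¹ᵁ U).ι (I'.subschemeι q) ∈ closure Z := by
        have h1 : I'.subschemeι q ∈ (C : Set ↥(f ⁻¹ᵁ U)) := by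
          have h2 : I'.subschemeι q ∈ Set.range I'.subschemeι := ⟨q, rfl⟩
          rwa [Scheme.IdealSheafData.range_subschemeι, Scheme.IdealSheafData.coe_support_vanishingIdeal] at h2
        exact h1
      obtain ⟨w, hw⟩ := hrange.ge hq
      refine ⟨⟨w, show I.subschemeι w ∈ f ⁻¹ᵁ U from hw.symm ▸ (I'.subschemeι q).2⟩, ?_⟩
      refine I'.subschemeι.isClosedEmbedding.injective (Subtype.ext ?_)
      rw [← Scheme.Hom.comp_apply, IsClosedImmersion.lift_fac]
      show (f ⁻¹ᵁ U).ι (k ⟨w, _⟩) = _
      rw [← Scheme.Hom.comp_apply, morphismRestrict_ι, Scheme.Hom.comp_apply]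
      exact hw⟩
    have hcomp : h' ≫ I'.subschemeι ≫ (f ∣_ U) = (I.subschemeι ≫ f) ∣_ U := by
      rw [IsClosedImmersion.lift_fac_assoc, morphismRestrict_comp]
    haveI : UniversallyClosed (h' ≫ I'.subschemeι ≫ (f ∣_ U)) := by rw [hcomp]; exact hprop.toUniversallyClosed
    haveI := UniversallyClosed.of_comp_surjective h' (I'.subschemeι ≫ (f ∣_ U))
    show IsProper (I'.subschemeι ≫ (f ∣_ U))
    exact ⟨⟩

end Groth.Agent.S4978
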