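import Groth.Statements.S4981
import Groth.Agent.UnivOpenAt.Dvr
import Groth.Agent.EGA43.DvrFinite
import Groth.Agent.EGA43.FiniteThrough
import Groth.Agent.S2363

set_option autoImplicit false
set_option backward.isDefEq.respectTransparency false
set_option maxHeartbeats 1000000
open CategoryTheory AlgebraicGeometry Limits
universe u v w
open EGA43

namespace Groth.Agent.S4981

/-- Let Y be a locally Noetherian scheme, f : X ⟶ Y a morphism locally of finite type, y a point of Y
and x a point of the fibre X_y. Then f is universally open at x if and only if the following holds: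
for every complete discrete valuation ring A with algebraically closed residue field k, every
morphism g : Spec A ⟶ Y sending the closed point to y, and every Y-morphism u₀ : Spec k ⟶ X with
image x, there exist a discrete valuation ring B which is a finite A-algebra through a local
homomorphism φ : A → B, and a Y-morphism u : Spec B ⟶ X, such that the restriction of u to the
closed point Spec κ(B) equals u₀ composed with the morphism Spec κ(B) ⟶ Spec k. -/
theorem result {X Y : Scheme.{u}} [IsLocallyNoetherian Y]
    (f : X ⟶ Y) [LocallyOfFiniteType f] (x : X) :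
    EGA43.IsUnivOpenAt f x ↔
      ∀ (A : Type u) [CommRing A] [IsDomain A] [IsDiscreteValuationRing A]
        [IsAdicComplete (IsLocalRing.maximalIdeal A) A] [IsAlgClosed (IsLocalRing.ResidueField A)]
        (g : Spec (CommRingCat.of A) ⟶ Y), g.base (IsLocalRing.closedPoint A) = f.base x →
        ∀ u₀ : Spec (CommRingCat.of (IsLocalRing.ResidueField A)) ⟶ X,
          u₀ ≫ f = Spec.map (CommRingCat.ofHom (IsLocalRing.residue A)) ≫ g → x ∈ Set.range u₀.base →
          ∃ (B : CommRingCat.{u}) (_ : IsDomain B) (_ : IsDiscreteValuationRing B) (φ : A →+* B)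
            (_ : IsLocalHom φ) (v : Spec B ⟶ X),
            φ.Finite ∧ v ≫ f = Spec.map (CommRingCat.ofHom φ) ≫ g ∧
            Spec.map (CommRingCat.ofHom (IsLocalRing.ResidueField.map φ)) ≫ u₀ =
              Spec.map (CommRingCat.ofHom (IsLocalRing.residue B)) ≫ v := by
  rw [Groth.Agent.UnivOpenAt.Dvr.main f x]
  constructor
  · intro h A _ _ _ _ _ g hg u₀ hu hx
    haveI : IsNoetherianRing A := inferInstance
    let k := IsLocalRing.ResidueField A
    let P := pullback f g
    let q : P ⟶ Spec (CommRingCat.of A) := pullback.snd f g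
    let s : Spec (CommRingCat.of k) ⟶ P :=
      pullback.lift u₀ (Spec.map (CommRingCat.ofHom (IsLocalRing.residue A))) hu
    have hsq : s ≫ q = Spec.map (CommRingCat.ofHom (IsLocalRing.residue A)) := pullback.lift_snd _ _ _
    let x' : P := s (IsLocalRing.closedPoint k)
    have hqx' : q x' = IsLocalRing.closedPoint A := by
      show (s ≫ q) _ = _
      rw [hsq]
      exact IsLocalRing.comap_closedPoint (IsLocalRing.residue A)
    have hfx' : (pullback.fst f g).base x' = x := by
      obtain ⟨c, rfl⟩ := hx
      show (s ≫ pullback.fst f g) _ = _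
      rw [pullback.lift_fst]
      exact congrArg u₀.base (Subsingleton.elim _ _)
    obtain ⟨z', hz', hzne⟩ := h A g hg x' hfx' hqx'
    haveI : LocallyOfFiniteType q := MorphismProperty.pullback_snd (P := @LocallyOfFiniteType) _ _ inferInstance
    haveI : IsLocallyNoetherian P := LocallyOfFiniteType.isLocallyNoetherian q
    let η : ↥(Spec (CommRingCat.of A)) := (⟨⊥, Ideal.isPrime_bot⟩ : PrimeSpectrum A)
    have hgen : η = genericPoint ↥(Spec (CommRingCat.of A)) :=
      (((PrimeSpectrum.le_iff_specializes (⟨⊥, Ideal.isPrime_bot⟩ : PrimeSpectrum A) _).mp bot_le :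
        η ⤳ genericPoint ↥(Spec (CommRingCat.of A))).antisymm (genericPoint_specializes η)).eq
    have hη : ∀ p : ↥(Spec (CommRingCat.of A)), p ≠ IsLocalRing.closedPoint A → p = η := fun p hp => by
      refine PrimeSpectrum.ext (by_contra fun h0 => hp (PrimeSpectrum.ext ?_))
      exact IsLocalRing.eq_maximalIdeal ((p : PrimeSpectrum A).2.isMaximal h0)
    have hqz : q z' = η := hη _ hzne
    have hneq : η ≠ q x' := by rw [← hqz, hqx']; exact hzne
    let e := IsLocalization.atUnits A (q x').asIdeal.primeCompl
      (S := (Spec.structureSheaf A).presheaf.stalk (q x')) (fun a ha => by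
      rw [hqx'] at ha
      exact not_not.mp fun hu => ha ((IsLocalRing.mem_maximalIdeal a).mpr hu))
    haveI : IsRegularLocalRing ((Spec (CommRingCat.of A)).presheaf.stalk (q x')) :=
      IsRegularLocalRing.of_ringEquiv (R := A) e.toRingEquiv
    have hdim : ringKrullDim ((Spec (CommRingCat.of A)).presheaf.stalk (q x')) ≤ 1 :=
      (ringKrullDim_eq_of_ringEquiv e.toRingEquiv).symm.trans_le (Ring.krullDimLE_iff.mp inferInstance)
    have hcl : ∀ v : P, q v = q x' → x' ⤳ v → v = x' := fun v _ hv =>
      Groth.Agent.EGA43.FiniteThrough.point_closed q _ IsLocalRing.residue_surjective s hsq v hv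
    obtain ⟨x'', -, h1, h2, h3⟩ := Groth.Agent.EGA43.DvrSection.exists_generization q x' hdim η
      ((PrimeSpectrum.le_iff_specializes (⟨⊥, Ideal.isPrime_bot⟩ : PrimeSpectrum A) _).mp bot_le)
      (fun z hz => (hz.antisymm ((PrimeSpectrum.le_iff_specializes (⟨⊥, Ideal.isPrime_bot⟩ : PrimeSpectrum A) _).mp bot_le)).eq)
      hneq z' hz' hqz
    obtain ⟨C, _, _, _, _, _, hinj, hC, hCq, hCx⟩ :=
      Groth.Agent.EGA43.FiniteThrough.exists_finite q x' x'' hqx' h1 (h2.trans hgen) hcl h3
    obtain ⟨B, _, _, _, ι, hι, hιfin⟩ := Groth.Agent.EGA43.DvrFinite.exists_dvr_over A C hinj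
    let φ : A →+* B := ι.comp (algebraMap A C)
    have hφinj : Function.Injective φ := hι.comp hinj
    have hloc : IsLocalHom φ := hιfin.to_isIntegral.isLocalHom hφinj
    have hιloc : IsLocalHom ι := by
      letI := φ.toAlgebra
      refine RingHom.IsIntegral.isLocalHom ?_ hι
      exact RingHom.IsIntegral.tower_top (algebraMap A C) ι hιfin.to_isIntegral
    let w : Spec (CommRingCat.of B) ⟶ P := Spec.map (CommRingCat.ofHom ι) ≫ hC
    have hw : w ≫ q = Spec.map (CommRingCat.ofHom φ) := by
      rw [Category.assoc, hCq, ← Spec.map_comp]; rfl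
    refine ⟨CommRingCat.of B, ‹_›, ‹_›, φ, hloc, w ≫ pullback.fst f g, hιfin, ?_, ?_⟩
    · rw [Category.assoc, pullback.condition, ← Category.assoc, hw]
    haveI : IsLocalHom φ := hloc
    letI : Algebra k (IsLocalRing.ResidueField B) := (IsLocalRing.ResidueField.map φ).toAlgebra
    haveI : Algebra.IsIntegral k (IsLocalRing.ResidueField B) := ⟨fun y => by
      obtain ⟨b, rfl⟩ := IsLocalRing.residue_surjective y
      obtain ⟨p, hp, hp'⟩ := hιfin.to_isIntegral b
      refine ⟨p.map (IsLocalRing.residue A), hp.map _, ?_⟩
      rw [Polynomial.eval₂_map]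
      show Polynomial.eval₂ ((IsLocalRing.residue B).comp φ) (IsLocalRing.residue B b) p = 0
      rw [← Polynomial.hom_eval₂, hp', map_zero]⟩
    let θ : k ≃+* IsLocalRing.ResidueField B := RingEquiv.ofBijective (IsLocalRing.ResidueField.map φ)
      IsAlgClosed.algebraMap_bijective_of_isIntegral
    have hθθ : CommRingCat.ofHom (IsLocalRing.ResidueField.map φ) ≫ CommRingCat.ofHom θ.symm.toRingHom =
        𝟙 _ := by
      ext c
      exact θ.symm_apply_apply c
    have hθθ' : CommRingCat.ofHom θ.symm.toRingHom ≫ CommRingCat.ofHom (IsLocalRing.ResidueField.map φ) =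
        𝟙 _ := by
      ext c
      exact θ.apply_symm_apply c
    let t : Spec (CommRingCat.of k) ⟶ P := Spec.map (CommRingCat.ofHom θ.symm.toRingHom) ≫
      Spec.map (CommRingCat.ofHom (IsLocalRing.residue B)) ≫ w
    have ht : t ≫ q = Spec.map (CommRingCat.ofHom (IsLocalRing.residue A)) := by
      simp only [t, Category.assoc, hw, ← Spec.map_comp]
      congr 1
      ext a
      exact θ.symm_apply_apply (IsLocalRing.residue A a)
    have htx : t (IsLocalRing.closedPoint k) = x' := by
      show hC (Spec.map (CommRingCat.ofHom ι) (Spec.map (CommRingCat.ofHom (IsLocalRing.residue B))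
        (Spec.map (CommRingCat.ofHom θ.symm.toRingHom) (IsLocalRing.closedPoint k)))) = x'
      rw [← hCx]
      congr 1
      rw [show Spec.map (CommRingCat.ofHom θ.symm.toRingHom) (IsLocalRing.closedPoint k) =
          IsLocalRing.closedPoint (IsLocalRing.ResidueField B) from Subsingleton.elim _ _,
        show Spec.map (CommRingCat.ofHom (IsLocalRing.residue B)) (IsLocalRing.closedPoint (IsLocalRing.ResidueField B)) =
          IsLocalRing.closedPoint B from IsLocalRing.comap_closedPoint (IsLocalRing.residue B)]
      exact IsLocalRing.comap_closedPoint ι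
    have hst : t = s := Groth.Agent.EGA43.FiniteThrough.point_ext q _ IsLocalRing.residue_surjective t s ht hsq htx
    calc Spec.map (CommRingCat.ofHom (IsLocalRing.ResidueField.map φ)) ≫ u₀
        = Spec.map (CommRingCat.ofHom (IsLocalRing.ResidueField.map φ)) ≫ t ≫ pullback.fst f g := by
          rw [hst, pullback.lift_fst]
      _ = _ := by
          simp only [t, Category.assoc]
          rw [← Category.assoc (Spec.map _) (Spec.map _), ← Spec.map_comp, hθθ', Spec.map_id, Category.id_comp]
  · intro h A _ _ _ g hg x' hfx' hqx'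
    let P := pullback f g
    let q : P ⟶ Spec (CommRingCat.of A) := pullback.snd f g
    let χ : CommRingCat.of A ⟶ P.residueField x' := Spec.preimage (P.fromSpecResidueField x' ≫ q)
    have hχ : Spec.map χ = P.fromSpecResidueField x' ≫ q := Spec.map_preimage _
    have hχker : ∀ a ∈ IsLocalRing.maximalIdeal A, χ.hom a = 0 := fun a ha => by
      have h1 : Spec.map χ (IsLocalRing.closedPoint (P.residueField x')) = IsLocalRing.closedPoint A := by
        rw [hχ]
        show q (P.fromSpecResidueField x' _) = _
        rw [Scheme.fromSpecResidueField_apply]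
        exact hqx'
      have h2 : a ∈ (Spec.map χ (IsLocalRing.closedPoint (P.residueField x'))).asIdeal := by
        rw [h1]; exact ha
      change χ.hom a ∈ IsLocalRing.maximalIdeal (P.residueField x') at h2
      rwa [IsLocalRing.maximalIdeal_eq_bot, Ideal.mem_bot] at h2
    let K := AlgebraicClosure (P.residueField x')
    let χK : A →+* K := (algebraMap (P.residueField x') K).comp χ.hom
    letI : Algebra (IsLocalRing.ResidueField A) K := (Ideal.Quotient.lift (IsLocalRing.maximalIdeal A) χK
      (fun a ha => by simp [χK, hχker a ha])).toAlgebra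
    obtain ⟨B₀, _, _, hnoe, hloc, hlochom, hflat, e, he⟩ := Groth.Agent.S2363.result (A := A) K
    haveI := hnoe
    haveI := hloc
    haveI := hlochom
    haveI := hflat
    obtain ⟨π, hπ⟩ := IsDiscreteValuationRing.exists_irreducible A
    let θ₀ : B₀ →+* K := e.toRingHom.comp (Ideal.Quotient.mk _)
    have hθ₀ : Function.Surjective θ₀ := e.surjective.comp Ideal.Quotient.mk_surjective
    have hker : RingHom.ker θ₀ = (IsLocalRing.maximalIdeal A).map (algebraMap A B₀) := by
      ext b
      rw [RingHom.mem_ker, show θ₀ b = e (Ideal.Quotient.mk _ b) from rfl, e.map_eq_zero_iff,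
        Ideal.Quotient.eq_zero_iff_mem]
    have hmB : IsLocalRing.maximalIdeal B₀ = (IsLocalRing.maximalIdeal A).map (algebraMap A B₀) :=
      hker ▸ (IsLocalRing.eq_maximalIdeal (RingHom.ker_isMaximal_of_surjective θ₀ hθ₀)).symm
    let A' := AdicCompletion (IsLocalRing.maximalIdeal B₀) B₀
    let α : A →+* A' := (algebraMap B₀ A').comp (algebraMap A B₀)
    haveI : Module.FaithfullyFlat A B₀ := Module.FaithfullyFlat.of_flat_of_isLocalHom
    have hαinj : Function.Injective α :=
      (AdicCompletion.of_injective (IsLocalRing.maximalIdeal B₀) B₀).comp (FaithfulSMul.algebraMap_injective A B₀)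
    have hmA' : IsLocalRing.maximalIdeal A' = Ideal.span {α π} := by
      refine AdicCompletion.maximalIdeal_eq_map.trans ((congrArg (Ideal.map (algebraMap B₀ A')) hmB).trans ?_)
      rw [Ideal.map_map, hπ.maximalIdeal_eq, Ideal.map_span, Set.image_singleton]
    obtain ⟨hdom, hdvr⟩ := Groth.Agent.EGA43.DvrFinite.dvr_of_principal A' (α π) hmA' fun n hn =>
      pow_ne_zero n hπ.ne_zero (hαinj (by rw [map_pow, hn, map_zero]))
    let θ₁ : K ≃+* IsLocalRing.ResidueField A' :=
      ((Ideal.quotEquivOfEq hmB).trans e).symm.trans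
        (RingEquiv.ofBijective _ (AdicCompletion.residueField_map_bijective_of_fg
          (IsLocalRing.maximalIdeal B₀).fg_of_isNoetherianRing))
    haveI : IsAlgClosed (IsLocalRing.ResidueField A') := IsAlgClosed.of_ringEquiv K _ θ₁
    let j : P.residueField x' ⟶ CommRingCat.of (IsLocalRing.ResidueField A') :=
      CommRingCat.ofHom (θ₁.toRingHom.comp (algebraMap (P.residueField x') K))
    have hj : χ ≫ j = CommRingCat.ofHom α ≫ CommRingCat.ofHom (IsLocalRing.residue A') := by
      ext a
      show θ₁ (χK a) = IsLocalRing.residue A' (α a)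
      rw [show χK a = e (Ideal.Quotient.mk _ (algebraMap A B₀ a)) from (he a).symm]
      simp only [θ₁, RingEquiv.trans_apply, RingEquiv.symm_trans_apply, RingEquiv.symm_apply_apply]
      rfl
    let g' : Spec (CommRingCat.of A') ⟶ Y := Spec.map (CommRingCat.ofHom α) ≫ g
    let u₀ : Spec (CommRingCat.of (IsLocalRing.ResidueField A')) ⟶ X :=
      Spec.map j ≫ P.fromSpecResidueField x' ≫ pullback.fst f g
    have hαloc : IsLocalHom α := RingHom.isLocalHom_comp _ _
    have hu : u₀ ≫ f = Spec.map (CommRingCat.ofHom (IsLocalRing.residue A')) ≫ g' := by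
      simp only [u₀, g', Category.assoc, pullback.condition]
      rw [← reassoc_of% hχ, ← Spec.map_comp_assoc, ← Spec.map_comp_assoc, hj]
    have hg' : g'.base (IsLocalRing.closedPoint A') = f.base x := by
      rw [← hg]
      show g (Spec.map (CommRingCat.ofHom α) _) = _
      congr 1
      exact IsLocalRing.comap_closedPoint α
    have hxu : x ∈ Set.range u₀.base := ⟨IsLocalRing.closedPoint _, by
      show (pullback.fst f g) (P.fromSpecResidueField x' (Spec.map j _)) = x
      rw [Scheme.fromSpecResidueField_apply]; exact hfx'⟩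
    obtain ⟨B, _, _, φ, hφloc, v, hφfin, hv, hcomm⟩ := h A' g' hg' u₀ hu hxu
    haveI := hφloc
    let w : Spec B ⟶ P := pullback.lift v (Spec.map (CommRingCat.ofHom (φ.comp α)))
      (by rw [hv, CommRingCat.ofHom_comp, Spec.map_comp, Category.assoc])
    have hw : Spec.map (CommRingCat.ofHom (IsLocalRing.residue B)) ≫ w =
        Spec.map (CommRingCat.ofHom (IsLocalRing.ResidueField.map φ)) ≫ Spec.map j ≫ P.fromSpecResidueField x' := by
      apply pullback.hom_ext
      · simp only [w, Category.assoc, pullback.lift_fst]
        exact hcomm.symm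
      · simp only [w, Category.assoc, pullback.lift_snd]
        rw [show P.fromSpecResidueField x' ≫ pullback.snd f g = Spec.map χ from hχ.symm, ← Spec.map_comp,
          ← Spec.map_comp, ← Spec.map_comp, hj]
        rfl
    have hwcl : w (IsLocalRing.closedPoint B) = x' := by
      have h1 := congrArg (fun r => r (IsLocalRing.closedPoint (IsLocalRing.ResidueField B))) hw
      simp only [Scheme.Hom.comp_apply, Scheme.fromSpecResidueField_apply] at h1
      rw [← h1]
      congr 1
      exact (IsLocalRing.comap_closedPoint (IsLocalRing.residue B)).symm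
    let b : ↥(Spec B) := (⟨⊥, Ideal.isPrime_bot⟩ : PrimeSpectrum B)
    refine ⟨w b, ?_, fun he' => ?_⟩
    · rw [← hwcl]
      exact ((PrimeSpectrum.le_iff_specializes (⟨⊥, Ideal.isPrime_bot⟩ : PrimeSpectrum B) _).mp bot_le).map w.continuous
    · have h1 : Spec.map (CommRingCat.ofHom (φ.comp α)) b = IsLocalRing.closedPoint A := by
        rw [show Spec.map (CommRingCat.ofHom (φ.comp α)) = w ≫ pullback.snd f g from (pullback.lift_snd _ _ _).symm]
        exact he'
      have h2 : φ (α π) = 0 := by
        have h3 : π ∈ (Spec.map (CommRingCat.ofHom (φ.comp α)) b).asIdeal := by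
          rw [h1]; exact (IsLocalRing.mem_maximalIdeal π).mpr hπ.not_isUnit
        exact Ideal.mem_bot.mp h3
      have hkerφ : RingHom.ker φ = IsLocalRing.maximalIdeal A' := by
        refine le_antisymm (IsLocalRing.le_maximalIdeal (RingHom.ker_ne_top φ)) ?_
        rw [hmA', Ideal.span_singleton_le_iff_mem]
        exact h2
      letI := φ.toAlgebra
      haveI : Module.Finite A' B := hφfin
      have hker' : (⊥ : Ideal B).comap (algebraMap A' B) = IsLocalRing.maximalIdeal A' := hkerφ
      haveI := Ideal.isMaximal_of_isIntegral_of_isMaximal_comap (R := A') (⊥ : Ideal B)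
        (by rw [hker']; infer_instance)
      have hB : IsField B := Ring.isField_iff_maximal_bot.mpr inferInstance
      exact IsDiscreteValuationRing.not_isField B hB

end Groth.Agent.S4981
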