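import Groth.Statements.S4991
import Groth.Agent.ModStalk.SmoothRegular
import Groth.Agent.RegularLocal.GlobalDim
import Mathlib.RingTheory.Localization.BaseChange

set_option autoImplicit false
universe u
open CategoryTheory CategoryTheory.Limits AlgebraicGeometry TopologicalSpace
open Unram17

namespace Groth.Agent.S4991

open CategoryTheory AlgebraicGeometry
open scoped TensorProduct
attribute [local instance] Algebra.TensorProduct.rightAlgebra

theorem regular_of_regular_base (A B : Type u) [CommRing A] [CommRing B] [Algebra A B] [Algebra.Smooth A B]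
    (q : Ideal B) [q.IsPrime] [IsRegularLocalRing (Localization.AtPrime (q.under A))] :
    IsRegularLocalRing (Localization.AtPrime q) := by
  let p := q.under A
  let Ap := Localization.AtPrime p
  let B1 := Ap ⊗[A] B
  haveI : IsRegularRing Ap := isRegularRing_iff.mpr fun P _ =>
    Groth.Agent.RegularLocal.GlobalDim.isRegularLocalRing_localization P
  let M := Algebra.algebraMapSubmonoid B p.primeCompl
  haveI : IsLocalization M B1 := inferInstance
  have hdisj : Disjoint (M : Set B) (q : Set B) := by
    rw [Set.disjoint_left]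
    rintro _ ⟨a, ha, rfl⟩ hq
    exact ha hq
  let q1 : Ideal B1 := q.map (algebraMap B B1)
  haveI : q1.IsPrime := IsLocalization.isPrime_of_isPrime_disjoint M B1 q ‹_› hdisj
  haveI : IsLocalization.AtPrime (Localization.AtPrime q1) q := by
    convert IsLocalization.isLocalization_isLocalization_atPrime_isLocalization M (Localization.AtPrime q1) q1
    exact (IsLocalization.under_map_of_isPrime_disjoint M B1 ‹_› hdisj).symm
  haveI := Groth.Agent.ModStalk.isRegularLocalRing_of_smooth Ap q1
  exact IsRegularLocalRing.of_ringEquiv (R := Localization.AtPrime q1)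
    (IsLocalization.algEquiv q.primeCompl (Localization.AtPrime q1) (Localization.AtPrime q)).toRingEquiv

theorem stalk_regular_iff {X Y : Scheme.{u}} (f : X ⟶ Y) [IsLocallyNoetherian Y] [Smooth f] (x : X) :
    IsRegularLocalRing (X.presheaf.stalk x) ↔ IsRegularLocalRing (Y.presheaf.stalk (f x)) := by
  obtain ⟨_, ⟨V, hV, rfl⟩, hxV, -⟩ :=
    Y.isBasis_affineOpens.exists_subset_of_mem_open (Set.mem_univ (f x)) isOpen_univ
  obtain ⟨_, ⟨U, hU, rfl⟩, hxU, hle⟩ :=
    X.isBasis_affineOpens.exists_subset_of_mem_open (show x ∈ f ⁻¹ᵁ V from hxV) (f ⁻¹ᵁ V).2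
  letI := (f.appLE V U hle).hom.toAlgebra
  haveI : Algebra.Smooth Γ(Y, V) Γ(X, U) := f.smooth_appLE hV hU hle
  haveI : IsNoetherianRing Γ(Y, V) := IsLocallyNoetherian.component_noetherian ⟨V, hV⟩
  haveI : IsNoetherianRing Γ(X, U) := Algebra.FiniteType.isNoetherianRing Γ(Y, V) Γ(X, U)
  let q := (hU.primeIdealOf ⟨x, hxU⟩).asIdeal
  let p := q.under Γ(Y, V)
  have hqp : (hV.primeIdealOf ⟨f x, hxV⟩).asIdeal = p :=
    congr($(IsAffineOpen.comap_primeIdealOf_appLE V hV U hU hle hxU).1).symm
  letI := TopCat.Presheaf.algebra_section_stalk X.presheaf (⟨x, hxU⟩ : U)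
  haveI := hU.isLocalization_stalk ⟨x, hxU⟩
  letI := TopCat.Presheaf.algebra_section_stalk Y.presheaf (⟨f x, hxV⟩ : V)
  haveI : IsLocalization.AtPrime (Y.presheaf.stalk (f x)) p := by
    convert hV.isLocalization_stalk ⟨f x, hxV⟩
    exact hqp.symm
  let eX := (IsLocalization.algEquiv q.primeCompl (Localization.AtPrime q) (X.presheaf.stalk x)).toRingEquiv
  let eY := (IsLocalization.algEquiv p.primeCompl (Localization.AtPrime p) (Y.presheaf.stalk (f x))).toRingEquiv
  constructor
  · intro h
    haveI : IsRegularLocalRing (Localization.AtPrime q) := IsRegularLocalRing.of_ringEquiv eX.symm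
    haveI : q.LiesOver p := ⟨rfl⟩
    letI := Localization.AtPrime.algebraOfLiesOver p q
    haveI : Module.Flat (Localization.AtPrime p) (Localization.AtPrime q) := by
      rw [Module.flat_iff_of_isLocalization (Localization.AtPrime p) p.primeCompl]
      exact Module.Flat.trans Γ(Y, V) Γ(X, U) _
    haveI : IsLocalHom (algebraMap (Localization.AtPrime p) (Localization.AtPrime q)) := by
      rw [Localization.AtPrime.IsLiesOverAlgebra.algebraMap_eq]
      infer_instance
    haveI := Groth.Agent.RegularLocal.GlobalDim.isRegularLocalRing_of_flat (R := Localization.AtPrime p)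
      (Localization.AtPrime q)
    exact IsRegularLocalRing.of_ringEquiv eY
  · intro h
    haveI : IsRegularLocalRing (Localization.AtPrime (q.under Γ(Y, V))) :=
      IsRegularLocalRing.of_ringEquiv eY.symm
    haveI := regular_of_regular_base Γ(Y, V) Γ(X, U) q
    exact IsRegularLocalRing.of_ringEquiv eX

/-- Let Y be locally Noetherian and f : X ⟶ Y locally of finite type, smooth on an open neighbourhood of
a point x with image y. Then the local ring of X at x is regular if and only if the local ring of Y
at y is regular. -/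
theorem result {X Y : Scheme.{u}} (f : X ⟶ Y)
    [IsLocallyNoetherian Y] [LocallyOfFiniteType f] (x : ↥X)
    (hx : ∃ U : X.Opens, x ∈ U ∧ Smooth (U.ι ≫ f)) :
    IsRegularLocalRing ↑(X.presheaf.stalk x) ↔ IsRegularLocalRing ↑(Y.presheaf.stalk (f.base x)) := by
  obtain ⟨U, hxU, hU⟩ := hx
  let e : U.toScheme.presheaf.stalk ⟨x, hxU⟩ ≅ X.presheaf.stalk x := U.stalkIso ⟨x, hxU⟩
  have h := stalk_regular_iff (U.ι ≫ f) ⟨x, hxU⟩
  refine (Iff.intro (fun hr => ?_) fun hr => ?_).trans h
  · haveI := hr
    exact IsRegularLocalRing.of_ringEquiv e.commRingCatIsoToRingEquiv.symm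
  · haveI := hr
    exact IsRegularLocalRing.of_ringEquiv e.commRingCatIsoToRingEquiv

end Groth.Agent.S4991
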