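import Groth.Statements.S4996
import Groth.Agent.GeomReg.Smooth
import Groth.Agent.ModStalk.SmoothRegular

set_option autoImplicit false
set_option backward.isDefEq.respectTransparency false
universe u
open Unram17

namespace Groth.Agent.S4996

open TensorProduct in
/-- Let B be a finitely presented algebra over a commutative ring A. Then B is smooth over A if and only
if B is flat over A and every fibre ring κ(p) ⊗_A B, p a prime of A, is geometrically regular over
the residue field κ(p), i.e. stays a regular ring after base change to any finite extension of κ(p). -/
theorem result (A B : Type u) [CommRing A] [CommRing B]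
    [Algebra A B] [Algebra.FinitePresentation A B] :
    Algebra.Smooth A B ↔
      Module.Flat A B ∧ ∀ (p : Ideal A) [p.IsPrime], CAlg.IsGeometricallyRegular p.ResidueField (p.Fiber B) := by
  have hfp : Algebra.FinitePresentation A B := inferInstance
  constructor
  · intro h
    haveI := h
    refine ⟨inferInstance, fun p _ K _ _ _ => ?_⟩
    exact Groth.Agent.ModStalk.isRegularRing_of_smooth K (TensorProduct p.ResidueField K (p.Fiber B))
  · rintro ⟨hflat, hreg⟩
    haveI := hflat
    refine Algebra.Smooth.of_formallySmooth_fiber fun p _ => ?_
    haveI : Algebra.FiniteType p.ResidueField (p.Fiber B) := inferInstance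
    haveI : Algebra.FinitePresentation p.ResidueField (p.Fiber B) := inferInstance
    refine Algebra.smoothLocus_eq_univ_iff.mp (Set.eq_univ_iff_forall.mpr fun q => ?_)
    refine Groth.Agent.GeomReg.Smooth.isSmoothAt_of_regular q.asIdeal fun K _ _ _ q' _ _ => ?_
    haveI := hreg p K inferInstance
    exact IsRegularRing.isRegularLocalRing_localization q'

end Groth.Agent.S4996
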