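import Groth.Statements.S4997
import Mathlib
import Groth.Agent.Misc9.FiniteSmooth

set_option autoImplicit false
universe u
open CategoryTheory CategoryTheory.Limits AlgebraicGeometry TopologicalSpace
open Unram17

namespace Groth.Agent.S4997

/-- A morphism of schemes is etale if and only if it is smooth and locally quasi-finite. -/
theorem result {X Y : Scheme.{u}} (f : X ⟶ Y) :
    Etale f ↔ Smooth f ∧ LocallyQuasiFinite f := by
  constructor
  · intro h
    refine ⟨inferInstance, ?_⟩
    rw [HasRingHomProperty.iff_appLE (P := @LocallyQuasiFinite)]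
    intro U V e
    have h1 : (f.appLE U.1 V.1 e).hom.FormallyUnramified :=
      HasRingHomProperty.appLE @FormallyUnramified f inferInstance U V e
    have h2 : (f.appLE U.1 V.1 e).hom.FiniteType :=
      HasRingHomProperty.appLE @LocallyOfFiniteType f inferInstance U V e
    letI := (f.appLE U.1 V.1 e).hom.toAlgebra
    haveI : Algebra.FormallyUnramified Γ(Y, U.1) Γ(X, V.1) := h1
    haveI : Algebra.FiniteType Γ(Y, U.1) Γ(X, V.1) := h2
    show Algebra.QuasiFinite Γ(Y, U.1) Γ(X, V.1)
    infer_instance
  · rintro ⟨hs, hq⟩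
    rw [Etale.iff_flat_and_formallyUnramified]
    refine ⟨inferInstance, ?_, inferInstance⟩
    rw [HasRingHomProperty.iff_appLE (P := @FormallyUnramified)]
    intro U V e
    have h1 : (f.appLE U.1 V.1 e).hom.Smooth := HasRingHomProperty.appLE @Smooth f hs U V e
    have h2 : (f.appLE U.1 V.1 e).hom.QuasiFinite :=
      HasRingHomProperty.appLE @LocallyQuasiFinite f hq U V e
    letI := (f.appLE U.1 V.1 e).hom.toAlgebra
    haveI : Algebra.Smooth Γ(Y, U.1) Γ(X, V.1) := h1
    haveI : Algebra.QuasiFinite Γ(Y, U.1) Γ(X, V.1) := h2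
    show Algebra.FormallyUnramified Γ(Y, U.1) Γ(X, V.1)
    rw [Algebra.formallyUnramified_iff_forall]
    intro q
    exact Groth.Agent.Misc9.FiniteSmooth.isUnramifiedAt_of_smooth_quasiFinite q.asIdeal

end Groth.Agent.S4997
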