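import Groth.Statements.S4998
import Mathlib

set_option autoImplicit false
set_option backward.isDefEq.respectTransparency false
set_option backward.isDefEq.respectTransparency.types false
universe u
open Unram17

namespace Groth.Agent.S4998
open TensorProduct

/-- Let A be an algebra of finite type over a field k. Then A is formally unramified over k if and only
if A is finite over k and every element of A has separable minimal polynomial over k (equivalently,
A is a finite product of finite separable extensions of k). -/
theorem result (k A : Type u) [Field k] [CommRing A]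
    [Algebra k A] [Algebra.FiniteType k A] :
    Algebra.FormallyUnramified k A ↔ Module.Finite k A ∧ Algebra.IsSeparable k A := by
  constructor
  · intro h
    haveI : Algebra.EssFiniteType k A := inferInstance
    haveI hfin : Module.Finite k A := Algebra.FormallyUnramified.finite_of_free k A
    refine ⟨hfin, ⟨fun x => ?_⟩⟩
    let K := AlgebraicClosure k
    haveI : IsReduced (K ⊗[k] A) := Algebra.FormallyUnramified.isReduced_of_field K (K ⊗[k] A)
    let p := minpoly k x
    have hx : IsIntegral k x := Algebra.IsIntegral.isIntegral x
    have hp0 : p.map (algebraMap k K) ≠ 0 := (Polynomial.map_ne_zero_iff (algebraMap k K).injective).mpr (minpoly.ne_zero hx)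
    show p.Separable
    rw [← Polynomial.separable_map (algebraMap k K), PerfectField.separable_iff_squarefree]
    intro a ha
    obtain ⟨b, hb⟩ := ha
    let y : K ⊗[k] A := 1 ⊗ₜ x
    have hy : Polynomial.aeval y (p.map (algebraMap k K)) = 0 := by
      rw [Polynomial.aeval_map_algebraMap,
        show y = (Algebra.TensorProduct.includeRight : A →ₐ[k] K ⊗[k] A) x from rfl,
        Polynomial.aeval_algHom_apply, minpoly.aeval, map_zero]
    have hab : Polynomial.aeval y (a * b) = 0 := by
      refine IsReduced.eq_zero _ ⟨2, ?_⟩
      rw [hb] at hy
      calc (Polynomial.aeval y (a * b)) ^ 2 = Polynomial.aeval y (a * a * b) * Polynomial.aeval y b := by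
            rw [← map_pow, ← map_mul]; congr 1; ring
        _ = 0 := by rw [hy, zero_mul]
    by_contra hu
    have ha0 : a ≠ 0 := fun e => hp0 (by rw [hb, e]; ring)
    have hb0 : b ≠ 0 := fun e => hp0 (by rw [hb, e]; ring)
    have hdeg : (a * b).natDegree < p.natDegree := by
      rw [← Polynomial.natDegree_map (p := p) (algebraMap k K), hb,
        Polynomial.natDegree_mul (mul_ne_zero ha0 ha0) hb0, Polynomial.natDegree_mul ha0 ha0,
        Polynomial.natDegree_mul ha0 hb0]
      have : 0 < a.natDegree := by
        by_contra h0
        exact hu (Polynomial.isUnit_iff_degree_eq_zero.mpr (by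
          rw [Polynomial.degree_eq_natDegree ha0, Nat.cast_eq_zero]; omega))
      omega
    have hmin : Polynomial.aeval y (a * b) = 0 := hab
    apply mul_ne_zero ha0 hb0
    let B := Algebra.TensorProduct.basis K (Module.Free.chooseBasis k A)
    have hli : LinearIndependent K (fun i : Fin p.natDegree => y ^ (i : ℕ)) := by
      have h0 : LinearIndependent k (fun i : Fin p.natDegree => x ^ (i : ℕ)) := linearIndependent_pow x
      let φ : (Fin p.natDegree →₀ k) →ₗ[k] A := Finsupp.linearCombination k fun i : Fin p.natDegree => x ^ (i : ℕ)
      have hφ : Function.Injective φ := h0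
      have := Module.Flat.lTensor_preserves_injective_linearMap (M := K) φ hφ
      rw [Fintype.linearIndependent_iff]
      intro g hg i
      let u : K ⊗[k] (Fin p.natDegree →₀ k) := ∑ j, g j ⊗ₜ Finsupp.single j 1
      have hu0 : u = 0 := this (by
        rw [map_zero, map_sum]
        refine Eq.trans (Finset.sum_congr rfl fun j _ => ?_) hg
        simp [φ, y, TensorProduct.smul_tmul', Algebra.TensorProduct.tmul_pow])
      have h1 := congrArg (fun w => (TensorProduct.finsuppScalarRight k K K (Fin p.natDegree)) w i) hu0
      simpa [u, Finsupp.single_apply, Finset.sum_ite_eq'] using h1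
    rw [Polynomial.aeval_eq_sum_range' hdeg, Finset.sum_range] at hmin
    ext n
    rw [Polynomial.coeff_zero]
    by_cases hn : n < p.natDegree
    · exact Fintype.linearIndependent_iff.mp hli _ hmin ⟨n, hn⟩
    · exact Polynomial.coeff_eq_zero_of_natDegree_lt (by omega)
  · rintro ⟨_, hs⟩
    refine ⟨subsingleton_of_forall_eq 0 fun w => ?_⟩
    have : w ∈ Submodule.span A (Set.range (KaehlerDifferential.D k A)) := by
      rw [KaehlerDifferential.span_range_derivation]; trivial
    refine Submodule.span_induction ?_ rfl (fun a b _ _ ha hb => by rw [ha, hb, add_zero])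
      (fun c a _ ha => by rw [ha, smul_zero]) this
    rintro _ ⟨x, rfl⟩
    obtain ⟨a, b, hab⟩ := (Algebra.IsSeparable.isSeparable k x : (minpoly k x).Separable)
    have h1 := congrArg (Polynomial.aeval x) hab
    rw [map_add, map_mul, map_mul, minpoly.aeval, mul_zero, zero_add, map_one] at h1
    have h2 := Derivation.map_aeval (KaehlerDifferential.D k A) (minpoly k x) x
    rw [minpoly.aeval, map_zero] at h2
    calc KaehlerDifferential.D k A x
        = (Polynomial.aeval x b * Polynomial.aeval x (Polynomial.derivative (minpoly k x))) • KaehlerDifferential.D k A x := by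
          rw [h1, one_smul]
      _ = 0 := by rw [mul_smul, ← h2, smul_zero]

end Groth.Agent.S4998
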