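import Groth.Statements.S5006
import Mathlib

set_option autoImplicit false
set_option backward.isDefEq.respectTransparency false
universe u
open Nrm16

namespace Groth.Agent.S5006

/-- Let A be a commutative ring, I a finitely generated ideal and p a prime ideal containing I. Then
some basic open neighbourhood of p in Spec A is contained in the closed set V(I) (so that V(I) ⟶
Spec A is a local homeomorphism onto an open set near p) if and only if there is an integer n > 0
with I^n A_p = I^(n+1) A_p in the local ring at p. Affine form. -/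
theorem result (A : Type u) [CommRing A] (I : Ideal A) (hI : I.FG)
    (p : Ideal A) [p.IsPrime] (hp : I ≤ p) :
    (∃ f : A, f ∉ p ∧ ∀ q : Ideal A, q.IsPrime → f ∉ q → I ≤ q) ↔
      ∃ n : ℕ, 0 < n ∧
        (I ^ n).map (algebraMap A (Localization.AtPrime p)) =
          (I ^ (n + 1)).map (algebraMap A (Localization.AtPrime p)) := by
  constructor
  · rintro ⟨f, hfp, hf⟩
    let L := Localization.AtPrime p
    have hle : I.map (algebraMap A L) ≤ nilradical L := by
      rw [Ideal.map_le_iff_le_comap]
      intro a ha
      rw [Ideal.mem_comap, nilradical_eq_sInf, Ideal.mem_sInf]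
      intro Q hQ
      haveI : Q.IsPrime := hQ
      refine hf (Q.comap (algebraMap A L)) (Ideal.comap_isPrime _ Q) (fun hfQ => ?_) ha
      exact (show Q ≠ ⊤ from hQ.ne_top) (Ideal.eq_top_of_isUnit_mem _ hfQ (IsLocalization.map_units L (⟨f, hfp⟩ : p.primeCompl)))
    obtain ⟨n, hn⟩ := (hI.map (algebraMap A L)).isNilpotent_iff_le_nilradical.mpr hle
    refine ⟨n + 1, Nat.succ_pos n, ?_⟩
    rw [Ideal.map_pow, Ideal.map_pow, pow_succ, pow_succ _ (n + 1), pow_succ, hn]
    simp
  · rintro ⟨n, -, hn⟩
    let L := Localization.AtPrime p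
    let M := (I ^ n).map (algebraMap A L)
    have hM : M = ⊥ := by
      refine Submodule.eq_bot_of_le_smul_of_le_jacobson_bot (IsLocalRing.maximalIdeal L) M
        (Ideal.FG.map (Submodule.FG.pow hI n) _) ?_ ?_
      · calc M = (I ^ (n + 1)).map (algebraMap A L) := hn
          _ ≤ IsLocalRing.maximalIdeal L • M := by
            rw [pow_succ', Ideal.map_mul, smul_eq_mul]
            refine Ideal.mul_mono_left ?_
            rw [← Localization.AtPrime.map_eq_maximalIdeal]
            exact Ideal.map_mono hp
      · exact (IsLocalRing.jacobson_eq_maximalIdeal ⊥ bot_ne_top).ge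
    obtain ⟨s, hs⟩ := Submodule.fg_iff_exists_fin_generating_family.mp (Submodule.FG.pow hI n)
    obtain ⟨g, hg⟩ := hs
    have hk : ∀ i, ∃ c : p.primeCompl, (c : A) * g i = 0 := fun i =>
      (IsLocalization.map_eq_zero_iff p.primeCompl L (g i)).mp (by
        rw [← Ideal.mem_bot, ← hM]
        exact Ideal.mem_map_of_mem _ (hg ▸ Submodule.subset_span ⟨i, rfl⟩))
    choose c hc using hk
    refine ⟨(∏ i, c i : p.primeCompl), (∏ i, c i : p.primeCompl).2, fun q hq hfq a ha => ?_⟩
    have hle : I ^ n ≤ q := by
      rw [← hg]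
      refine Submodule.span_le.mpr ?_
      rintro _ ⟨i, rfl⟩
      refine (hq.mem_or_mem (x := ((∏ i, c i : p.primeCompl) : A)) ?_).resolve_left hfq
      have : (c i : A) ∣ ((∏ i, c i : p.primeCompl) : A) := by
        rw [Submonoid.coe_finset_prod]
        exact Finset.dvd_prod_of_mem _ (Finset.mem_univ i)
      obtain ⟨d, hd⟩ := this
      rw [hd, mul_right_comm, hc i, zero_mul]
      exact q.zero_mem
    exact hq.mem_of_pow_mem n (hle (Ideal.pow_mem_pow ha n))

end Groth.Agent.S5006
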