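-- Proof of S5010.
import Groth.Prelude.Def_PP16
import Mathlib.RingTheory.MvPolynomial.Basic
import Mathlib.RingTheory.Localization.FractionRing
import Mathlib.Algebra.MvPolynomial.CommRing
import Groth.Agent.Diff.Truncated
import Mathlib.RingTheory.Etale.Kaehler
import Mathlib.RingTheory.Kaehler.Polynomial
import Mathlib.RingTheory.TensorProduct.Free

set_option autoImplicit false
universe u
open PP16

namespace Groth.Agent.S5010

/-- Let k be a field and K the field of fractions of the polynomial ring k[T_1, ..., T_r]. For every n,
the K-algebra map from the polynomial ring K[U_1, ..., U_r] to the ring of principal parts of order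
n of K over k (a K-algebra through the first factor) that sends U_i to d^n(T_i) − T_i · 1 is
surjective, and its kernel is the (n+1)-st power of the ideal generated by the U_i. -/
theorem result (k : Type u) [Field k] (r n : ℕ) :
    Function.Surjective
        (MvPolynomial.aeval (R := FractionRing (MvPolynomial (Fin r) k))
          (S₁ := PP16.P n k (FractionRing (MvPolynomial (Fin r) k)))
          (fun i : Fin r =>
            PP16.dn n k (FractionRing (MvPolynomial (Fin r) k))
                (algebraMap (MvPolynomial (Fin r) k) (FractionRing (MvPolynomial (Fin r) k)) (MvPolynomial.X i)) -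
              algebraMap (FractionRing (MvPolynomial (Fin r) k)) (PP16.P n k (FractionRing (MvPolynomial (Fin r) k)))
                (algebraMap (MvPolynomial (Fin r) k) (FractionRing (MvPolynomial (Fin r) k)) (MvPolynomial.X i)))) ∧
      RingHom.ker
          (MvPolynomial.aeval (R := FractionRing (MvPolynomial (Fin r) k))
            (S₁ := PP16.P n k (FractionRing (MvPolynomial (Fin r) k)))
            (fun i : Fin r =>
              PP16.dn n k (FractionRing (MvPolynomial (Fin r) k))
                  (algebraMap (MvPolynomial (Fin r) k) (FractionRing (MvPolynomial (Fin r) k)) (MvPolynomial.X i)) -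
                algebraMap (FractionRing (MvPolynomial (Fin r) k)) (PP16.P n k (FractionRing (MvPolynomial (Fin r) k)))
                  (algebraMap (MvPolynomial (Fin r) k) (FractionRing (MvPolynomial (Fin r) k)) (MvPolynomial.X i)))).toRingHom =
        (Ideal.span (Set.range (MvPolynomial.X : Fin r → MvPolynomial (Fin r) (FractionRing (MvPolynomial (Fin r) k))))) ^ (n + 1) := by
  let B := MvPolynomial (Fin r) k
  let K := FractionRing B
  haveI : Algebra.FormallyEtale B K := Algebra.FormallyEtale.of_isLocalization (nonZeroDivisors B)
  haveI : Algebra.FormallySmooth k K := Algebra.FormallySmooth.comp k B K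
  let z : Fin r → K := fun i => algebraMap B K (MvPolynomial.X i)
  let b : Module.Basis (Fin r) K (KaehlerDifferential k K) :=
    ((KaehlerDifferential.mvPolynomialBasis k (Fin r)).baseChange K).map
      (KaehlerDifferential.tensorKaehlerEquivOfFormallyEtale k B K)
  have hb : ∀ i, b i = KaehlerDifferential.D k K (z i) := fun i => by
    have hX : KaehlerDifferential.mvPolynomialBasis k (Fin r) i =
        KaehlerDifferential.D k B (MvPolynomial.X i) := by
      apply (KaehlerDifferential.mvPolynomialBasis k (Fin r)).repr.injective
      rw [Module.Basis.repr_self, KaehlerDifferential.mvPolynomialBasis_repr_D_X]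
    simp [b, z, hX, KaehlerDifferential.tensorKaehlerEquivOfFormallyEtale_apply]
    rw [KaehlerDifferential.mapBaseChange_tmul, one_smul, KaehlerDifferential.map_D]
  have hg := Groth.Agent.Diff.Monomial.gen_of_basis b hb
  have hi := Groth.Agent.Diff.SmoothIndep.indep_of_formallySmooth b hb
  exact Groth.Agent.Diff.Truncated.aeval_surjective_ker n k K hg hi

end Groth.Agent.S5010
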