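import Groth.Statements.S5035
import Groth.Agent.HensPair.FiniteLoc
import Mathlib.RingTheory.ZariskisMainTheorem
import Mathlib.RingTheory.Etale.StandardEtale
import Mathlib.RingTheory.Smooth.Flat
import Mathlib.RingTheory.Unramified.LocalRing
import Mathlib.RingTheory.Nakayama
import Mathlib.RingTheory.Flat.FaithfullyFlat.Algebra

set_option autoImplicit false
universe u
open Hensel

namespace Groth.Agent.S5035

/-- a) iff c') (affine form): a local ring R is henselian if and only if, for every R-algebra S of
finite type and every prime q of S lying over the maximal ideal of R such that S is quasi-finite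
over R at q, the local ring S_q is a finitely generated R-module. -/
theorem result (R : Type u) [CommRing R] [IsLocalRing R] :
    HenselianLocalRing R ↔
      ∀ (S : Type u) [CommRing S] [Algebra R S] [Algebra.FiniteType R S] (q : Ideal S) [q.IsPrime],
        q.LiesOver (IsLocalRing.maximalIdeal R) → Algebra.QuasiFiniteAt R q →
          Module.Finite R (Localization.AtPrime q) := by
  classical
  constructor
  · intro hR S _ _ _ q _ hq _
    obtain ⟨S', hS', r, hr, hbij⟩ :=
      Algebra.QuasiFiniteAt.exists_fg_and_exists_notMem_and_awayMap_bijective (R := R) q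
    have : Module.Finite R S' := ⟨(Submodule.fg_top _).mpr hS'⟩
    have hpow : ∀ x : S, ∃ n : ℕ, r.1 ^ n * x ∈ S' := fun x => by
      obtain ⟨w, hw⟩ := hbij.2 (algebraMap S (Localization.Away r.1) x)
      obtain ⟨⟨a, ⟨_, k, rfl⟩⟩, ha⟩ := IsLocalization.surj (Submonoid.powers r) w
      have h1 := congrArg (Localization.awayMap S'.val.toRingHom r) ha
      rw [map_mul, hw, Localization.awayMap, IsLocalization.Away.map, IsLocalization.map_eq,
        IsLocalization.map_eq] at h1
      simp only [AlgHom.toRingHom_eq_coe, RingHom.coe_coe, Subalgebra.coe_val,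
        SubmonoidClass.coe_pow, ← map_mul] at h1
      replace h1 : algebraMap S (Localization.Away r.1) (x * r.1 ^ k) =
          algebraMap S (Localization.Away r.1) a.1 := (map_mul _ _ _).trans h1
      obtain ⟨⟨_, j, rfl⟩, hj⟩ := (IsLocalization.eq_iff_exists (Submonoid.powers r.1) _).mp h1
      refine ⟨j + k, ?_⟩
      rw [show r.1 ^ (j + k) * x = r.1 ^ j * (x * r.1 ^ k) by ring, hj]
      exact S'.mul_mem (S'.pow_mem r.2 j) a.2
    let q' : Ideal S' := q.comap S'.val.toRingHom
    have : q'.IsPrime := Ideal.comap_isPrime _ _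
    have : q'.IsMaximal := by
      refine Ideal.isMaximal_of_isIntegral_of_isMaximal_comap (R := R) q' ?_
      have : q'.comap (algebraMap R S') = IsLocalRing.maximalIdeal R := hq.over.symm
      rw [this]
      exact IsLocalRing.maximalIdeal.isMaximal R
    have := HensPair.FiniteLoc.finite (A := R) q'
    let g : Localization.AtPrime q' →ₐ[R] Localization.AtPrime q :=
      IsLocalization.liftAlgHom (M := q'.primeCompl)
        (f := (IsScalarTower.toAlgHom R S (Localization.AtPrime q)).comp S'.val)
        fun y => IsLocalization.map_units (Localization.AtPrime q) (⟨(y : S').1, y.2⟩ : q.primeCompl)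
    have hg : ∀ a : S', g (algebraMap S' _ a) = algebraMap S _ a.1 := fun a => IsLocalization.lift_eq _ a
    refine Module.Finite.of_surjective g.toLinearMap fun z => ?_
    obtain ⟨⟨s, t⟩, hst⟩ := IsLocalization.surj q.primeCompl z
    obtain ⟨n, hn⟩ := hpow s
    obtain ⟨k, hk⟩ := hpow t
    let b : S' := r ^ n * ⟨_, hk⟩
    have hb : b ∈ q'.primeCompl := by
      intro hmem
      rcases (‹q.IsPrime›).mem_or_mem (show r.1 ^ n * (r.1 ^ k * (t : S)) ∈ q from hmem) with h | h
      · exact hr ((‹q.IsPrime›).mem_of_pow_mem n h)
      rcases (‹q.IsPrime›).mem_or_mem h with h | h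
      · exact hr ((‹q.IsPrime›).mem_of_pow_mem k h)
      · exact t.2 h
    refine ⟨IsLocalization.mk' _ (r ^ k * ⟨_, hn⟩) (⟨b, hb⟩ : q'.primeCompl), ?_⟩
    have h1 := congrArg g (IsLocalization.mk'_spec (Localization.AtPrime q') (r ^ k * ⟨_, hn⟩)
      (⟨b, hb⟩ : q'.primeCompl))
    rw [map_mul, hg, hg] at h1
    show g _ = z
    refine (IsLocalization.map_units (Localization.AtPrime q)
      (⟨b.1, hb⟩ : q.primeCompl)).mul_left_inj.mp ?_
    refine h1.trans ?_
    simp only [b, MulMemClass.coe_mul, SubmonoidClass.coe_pow, map_mul, map_pow]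
    linear_combination -(algebraMap S (Localization.AtPrime q) r.1) ^ n *
      (algebraMap S (Localization.AtPrime q) r.1) ^ k * hst
  · intro h
    refine { is_henselian := fun f hf a₀ h₀ hu => ?_ }
    let P : StandardEtalePair R := ⟨f, hf, f.derivative, 1, 0, 1, by simp⟩
    have hP : P.HasMap (IsLocalRing.residue R a₀) := by
      refine ⟨?_, ?_⟩
      · rw [← IsLocalRing.ResidueField.algebraMap_eq, Polynomial.aeval_algebraMap_apply_eq_algebraMap_eval]
        exact (IsLocalRing.residue_eq_zero_iff _).mpr h₀
      · rw [← IsLocalRing.ResidueField.algebraMap_eq, Polynomial.aeval_algebraMap_apply_eq_algebraMap_eval]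
        exact hu.map _
    let ev := P.lift _ hP
    let q := RingHom.ker ev.toRingHom
    have : q.IsPrime := RingHom.ker_isPrime _
    have hover : q.LiesOver (IsLocalRing.maximalIdeal R) := ⟨Ideal.ext fun a => by
      show a ∈ IsLocalRing.maximalIdeal R ↔ ev (algebraMap R P.Ring a) = 0
      rw [ev.commutes]
      exact (IsLocalRing.residue_eq_zero_iff a).symm⟩
    have := h P.Ring q hover inferInstance
    let L := Localization.AtPrime q
    have : IsLocalHom (algebraMap R L) := by
      refine ((IsLocalRing.local_hom_TFAE (algebraMap R L)).out 0 4).mpr ?_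
      rw [IsScalarTower.algebraMap_eq R P.Ring L, ← Ideal.comap_comap,
        show (IsLocalRing.maximalIdeal L).comap (algebraMap P.Ring L) = q from
          IsLocalization.AtPrime.comap_maximalIdeal L q]
      exact hover.over.symm
    have : Module.Flat R L := Module.Flat.trans R P.Ring L
    have : Module.FaithfullyFlat R L := Module.FaithfullyFlat.of_flat_of_isLocalHom
    let gv : L →ₐ[R] IsLocalRing.ResidueField R :=
      IsLocalization.liftAlgHom (M := q.primeCompl) (f := ev) fun y => Ne.isUnit y.2
    have hgv : ∀ z, gv (algebraMap P.Ring L z) = ev z := fun z => IsLocalization.lift_eq _ z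
    have hkerv : RingHom.ker gv.toRingHom = IsLocalRing.maximalIdeal L :=
      IsLocalRing.eq_maximalIdeal (RingHom.ker_isMaximal_of_surjective _ fun z => by
        obtain ⟨a, rfl⟩ := IsLocalRing.residue_surjective z
        exact ⟨algebraMap R L a, gv.commutes a⟩)
    have hsurj : Function.Surjective (Algebra.linearMap R L) := by
      rw [← LinearMap.range_eq_top, eq_top_iff]
      refine Submodule.le_of_le_smul_of_le_jacobson_bot Module.Finite.fg_top
        (IsLocalRing.maximalIdeal_le_jacobson _) fun z _ => ?_
      rw [Ideal.smul_top_eq_map, Algebra.FormallyUnramified.map_maximalIdeal]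
      obtain ⟨a, ha⟩ := IsLocalRing.residue_surjective (gv z)
      refine Submodule.mem_sup.mpr ⟨algebraMap R L a, ⟨a, rfl⟩, z - algebraMap R L a, ?_, add_sub_cancel _ _⟩
      rw [Submodule.restrictScalars_mem, ← hkerv, RingHom.mem_ker]
      show gv (z - algebraMap R L a) = 0
      rw [map_sub, gv.commutes, IsLocalRing.ResidueField.algebraMap_eq, ha, sub_self]
    obtain ⟨a, ha⟩ := hsurj (algebraMap P.Ring L P.X)
    refine ⟨a, FaithfulSMul.algebraMap_injective R L ?_, ?_⟩
    · have ha' : algebraMap R L a = algebraMap P.Ring L P.X := ha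
      rw [map_zero, ← Polynomial.aeval_algebraMap_apply_eq_algebraMap_eval, ha',
        Polynomial.aeval_algebraMap_apply, show Polynomial.aeval P.X f = 0 from StandardEtalePair.hasMap_X.1,
        map_zero]
    · rw [← IsLocalRing.residue_eq_zero_iff, map_sub, sub_eq_zero]
      have ha' : algebraMap R L a = algebraMap P.Ring L P.X := ha
      have h5 := congrArg gv ha'
      rw [gv.commutes, hgv, StandardEtalePair.lift_X] at h5
      exact h5

end Groth.Agent.S5035
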