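import Groth.Statements.S5038
import Groth.Agent.HensPair.SmoothLift
import Mathlib.AlgebraicGeometry.Morphisms.Smooth
import Mathlib.RingTheory.RingHom.Smooth

set_option autoImplicit false
open CategoryTheory AlgebraicGeometry
universe u
open Hensel

namespace Groth.Agent.S5038

/-- Let A be a henselian local ring with residue field k, S = Spec A, and f : X ⟶ S a smooth morphism.
Then the map from sections of f to k-points of the closed fibre is surjective: every u₀ : Spec k ⟶ X
lying over the closed point extends to a section u of f. -/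
theorem result (A : Type u) [CommRing A] [HenselianLocalRing A]
    {X : Scheme.{u}} (f : X ⟶ Spec (CommRingCat.of A)) [Smooth f]
    (u₀ : Spec (CommRingCat.of (IsLocalRing.ResidueField A)) ⟶ X)
    (h₀ : u₀ ≫ f = Spec.map (CommRingCat.ofHom (IsLocalRing.residue A))) :
    ∃ u : Spec (CommRingCat.of A) ⟶ X, u ≫ f = 𝟙 _ ∧
      Spec.map (CommRingCat.ofHom (IsLocalRing.residue A)) ≫ u = u₀ := by
  let k := IsLocalRing.ResidueField A
  have : Nonempty ↥(Spec (CommRingCat.of k)) := ⟨IsLocalRing.closedPoint k⟩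
  obtain ⟨U, hU, hxU, -⟩ := exists_isAffineOpen_mem_and_subset (X := X)
    (x := u₀.base (IsLocalRing.closedPoint k)) (U := ⊤) trivial
  have hrange : Set.range u₀.base ⊆ Set.range hU.fromSpec.base := by
    rintro _ ⟨z, rfl⟩
    rw [hU.range_fromSpec]
    rw [Subsingleton.elim z (IsLocalRing.closedPoint k)]
    exact hxU
  let l := IsOpenImmersion.lift hU.fromSpec u₀ hrange
  have hl : l ≫ hU.fromSpec = u₀ := IsOpenImmersion.lift_fac _ _ _
  obtain ⟨φ, hφ⟩ := Spec.map_surjective (hU.fromSpec ≫ f)
  obtain ⟨ψ, hψ⟩ := Spec.map_surjective l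
  have hsm : φ.hom.Smooth := by
    rw [← HasRingHomProperty.Spec_iff (P := @Smooth), hφ]
    infer_instance
  have hcomp : φ ≫ ψ = CommRingCat.ofHom (IsLocalRing.residue A) := Spec.map_injective (by
    rw [Spec.map_comp, hψ, hφ, ← Category.assoc, hl, h₀])
  let : Algebra A Γ(X, U) := φ.hom.toAlgebra
  have : Algebra.Smooth A Γ(X, U) := hsm
  let σ : Γ(X, U) →ₐ[A] k :=
    { toRingHom := ψ.hom
      commutes' := fun a => congrArg (fun t => t.hom a) hcomp }
  obtain ⟨τ, hτ⟩ := HensPair.SmoothLift.exists_lift (I := IsLocalRing.maximalIdeal A) σ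
  refine ⟨Spec.map (CommRingCat.ofHom τ.toRingHom) ≫ hU.fromSpec, ?_, ?_⟩
  · rw [Category.assoc, ← hφ, ← Spec.map_comp, ← Spec.map_id]
    congr 1
    ext a
    exact τ.commutes a
  · rw [← Category.assoc, ← Spec.map_comp, ← hl, ← hψ]
    congr 2
    ext x
    exact DFunLike.congr_fun hτ x

end Groth.Agent.S5038
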