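import Groth.Statements.S5049
import Groth.Agent.Misc9.CompLift
import Mathlib
-- import your own Groth.Agent.* helpers here

set_option autoImplicit false
set_option backward.isDefEq.respectTransparency false
open CategoryTheory AlgebraicGeometry
universe u
open Unram

namespace Groth.Agent.S5049

/-- Let f : X ⟶ Y be flat, locally of finite type and locally quasi-finite. If the irreducible
components of Y form a locally finite family of subsets, then so do the irreducible components of X. -/
theorem result {X Y : Scheme.{u}} (f : X ⟶ Y)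
    [Flat f] [LocallyOfFiniteType f] [LocallyQuasiFinite f]
    (hY : LocallyFinite (fun Z : ↥(irreducibleComponents ↥Y) => (Z : Set ↥Y))) :
    LocallyFinite (fun Z : ↥(irreducibleComponents ↥X) => (Z : Set ↥X)) := by
  intro x
  obtain ⟨U, hU, hUf⟩ := hY (f x)
  obtain ⟨U', hU'U, hU', hxU'⟩ := mem_nhds_iff.1 hU
  have hUf' : {W ∈ irreducibleComponents ↥Y | (W ∩ U').Nonempty}.Finite := by
    refine (hUf.image Subtype.val).subset fun W hW => ?_
    exact ⟨⟨W, hW.1⟩, hW.2.mono (Set.inter_subset_inter_right _ hU'U), rfl⟩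
  obtain ⟨W₀, hW₀, hfxW₀, hW₀U⟩ := exists_isAffineOpen_mem_and_subset (X := Y) (U := ⟨U', hU'⟩) (x := f x) hxU'
  obtain ⟨V, hV, hxV, hVW⟩ := exists_isAffineOpen_mem_and_subset (X := X) (U := f ⁻¹ᵁ W₀) (x := x) hfxW₀
  refine ⟨V, V.2.mem_nhds hxV, ?_⟩
  have := Misc9.CompLift.finite_meeting f.continuous (Flat.generalizingMap f) U' (V : Set X) V.2
    (fun z hz => hW₀U (hVW hz)) hUf' fun W _ _ η _ S hS _ => by
      haveI : IsAffine V.toScheme := hV
      haveI : IsAffine W₀.toScheme := hW₀
      let g := f.resLE W₀ V hVW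
      by_cases hη : η ∈ W₀
      · refine ((g.finite_preimage_singleton ⟨η, hη⟩).image Subtype.val).subset fun z hz => ?_
        exact ⟨⟨z, (hS hz).1⟩, Subtype.ext (by simpa [g] using (hS hz).2), rfl⟩
      · refine Set.finite_empty.subset fun z hz => hη ?_
        rw [← (hS hz).2]
        exact hVW (hS hz).1
  refine Set.Finite.of_finite_image (this.subset ?_) Subtype.val_injective.injOn
  rintro _ ⟨T, hT, rfl⟩
  exact ⟨T.2, hT⟩

end Groth.Agent.S5049
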