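import Groth.Statements.S5050
import Mathlib.RingTheory.Filtration
import Mathlib.RingTheory.Noetherian.Basic
import Mathlib.RingTheory.Regular.IsSMulRegular
import Mathlib.RingTheory.Ideal.Maps

set_option autoImplicit false
universe u v
open CInt

namespace Groth.Agent.S5050

/-- Let A be a Noetherian ring, N a finitely generated A-module, E and F submodules of N and Q an ideal
of A. For every natural number k there is h > 0 with E ⊓ (F ⊔ Q^h N) ≤ (E ⊓ F) ⊔ Q^k N. -/
theorem result {A : Type u} [CommRing A] [IsNoetherianRing A] {N : Type v} [AddCommGroup N]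
    [Module A N] [Module.Finite A N] (E F : Submodule A N) (Q : Ideal A) (k : ℕ) :
    ∃ h : ℕ, 0 < h ∧ E ⊓ (F ⊔ Q ^ h • (⊤ : Submodule A N)) ≤ (E ⊓ F) ⊔ Q ^ k • (⊤ : Submodule A N) := by
  obtain ⟨c, hc⟩ := Ideal.exists_pow_inf_eq_pow_smul Q (E ⊔ F)
  refine ⟨k + c + 1, by omega, ?_⟩
  rintro x ⟨hxE, hxF⟩
  obtain ⟨y, hy, z, hz, rfl⟩ := Submodule.mem_sup.1 hxF
  have hzEF : z ∈ E ⊔ F := by
    have := Submodule.sub_mem _ (Submodule.mem_sup_left (T := F) hxE) (Submodule.mem_sup_right (S := E) hy)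
    simpa using this
  have h1 : z ∈ Q ^ (k + c + 1 - c) • (Q ^ c • (⊤ : Submodule A N) ⊓ (E ⊔ F)) := by
    rw [← hc _ (by omega)]; exact ⟨hz, hzEF⟩
  have h2 : z ∈ Q ^ k • E ⊔ Q ^ k • F := by
    rw [← Submodule.smul_sup]
    exact Submodule.smul_mono (Ideal.pow_le_pow_right (by omega)) inf_le_right h1
  obtain ⟨e', he', f', hf', rfl⟩ := Submodule.mem_sup.1 h2
  refine Submodule.mem_sup.2 ⟨y + f', ⟨?_, F.add_mem hy (Submodule.smul_le_right hf')⟩, e', Submodule.smul_mono le_rfl le_top he', by abel⟩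
  have := E.sub_mem hxE (Submodule.smul_le_right he')
  rwa [show y + (e' + f') - e' = y + f' by abel] at this

end Groth.Agent.S5050
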