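import Groth.Statements.S5062
import Groth.Agent.Hensel.Points
import Mathlib.AlgebraicGeometry.Morphisms.Etale

set_option autoImplicit false
open CategoryTheory AlgebraicGeometry
universe u
open Hensel
open scoped TensorProduct

namespace Groth.Agent.S5062

/-- a) iff c): a local ring A is henselian with separably closed residue field if and only if, for every
étale morphism f : X ⟶ Spec A and every point x of X lying over the closed point s, there is a
section u of f with u s = x. -/
theorem result (A : Type u) [CommRing A] [IsLocalRing A] :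
    (HenselianLocalRing A ∧ IsSepClosed (IsLocalRing.ResidueField A)) ↔
      ∀ (X : Scheme.{u}) (f : X ⟶ Spec (CommRingCat.of A)), Etale f →
        ∀ x : X, f.base x = IsLocalRing.closedPoint A →
          ∃ u : Spec (CommRingCat.of A) ⟶ X, u ≫ f = 𝟙 _ ∧ u.base (IsLocalRing.closedPoint A) = x := by
  classical
  constructor
  · rintro ⟨hA, hk⟩ X f hf x hx
    obtain ⟨U, hU, hxU, -⟩ := AlgebraicGeometry.exists_isAffineOpen_mem_and_subset
      (X := X) (x := x) (U := ⊤) trivial
    obtain ⟨P, hP⟩ : x ∈ Set.range hU.fromSpec.base := by rw [hU.range_fromSpec]; exact hxU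
    let φ := Spec.preimage (hU.fromSpec ≫ f)
    have hφ : Spec.map φ = hU.fromSpec ≫ f := Spec.map_preimage _
    have het : φ.hom.Etale := (HasRingHomProperty.Spec_iff (P := @AlgebraicGeometry.Etale)).mp
      (hφ ▸ inferInstance)
    let : Algebra A Γ(X, U) := φ.hom.toAlgebra
    have : Algebra.Etale A Γ(X, U) := het
    have hcomap : Ideal.comap (algebraMap A Γ(X, U)) P.asIdeal = IsLocalRing.maximalIdeal A := by
      have h := congrArg PrimeSpectrum.asIdeal
        (show (Spec.map φ).base P = IsLocalRing.closedPoint A by
          rw [hφ, Scheme.Hom.comp_base]; exact (congrArg f.base hP).trans hx)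
      exact h
    let L := P.asIdeal.ResidueField
    let ι : IsLocalRing.ResidueField A →+* L := Ideal.Quotient.lift _ (algebraMap A L) fun a ha => by
      rw [IsScalarTower.algebraMap_apply A Γ(X, U) L, Ideal.algebraMap_residueField_eq_zero]
      exact hcomap.ge ha
    let : Algebra (IsLocalRing.ResidueField A) L := ι.toAlgebra
    have : IsScalarTower A (IsLocalRing.ResidueField A) L := IsScalarTower.of_algebraMap_eq fun a => rfl
    let ψ' : IsLocalRing.ResidueField A ⊗[A] Γ(X, U) →ₐ[IsLocalRing.ResidueField A] L :=
      Algebra.TensorProduct.lift (Algebra.ofId _ _) (IsScalarTower.toAlgHom A Γ(X, U) L)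
        fun _ _ => .all _ _
    choose c hc using fun z : Γ(X, U) => Hensel.Points.mem_range_of_isSepClosed ψ' (1 ⊗ₜ z)
    have hc' : ∀ z, ι (c z) = algebraMap Γ(X, U) L z := fun z =>
      (hc z).trans (by simp [ψ'])
    have hinj := ι.injective
    let ψ : Γ(X, U) →ₐ[A] IsLocalRing.ResidueField A :=
      { toFun := c
        map_one' := hinj (by rw [hc', map_one, map_one])
        map_mul' := fun x y => hinj (by rw [hc', map_mul, map_mul, hc', hc'])
        map_zero' := hinj (by rw [hc', map_zero, map_zero])
        map_add' := fun x y => hinj (by rw [hc', map_add, map_add, hc', hc'])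
        commutes' := fun r => hinj (by
          rw [hc', ← IsScalarTower.algebraMap_apply A Γ(X, U) L]
          rfl) }
    obtain ⟨g, hg, -⟩ := Hensel.Lift.existsUnique_algHom ψ
    refine ⟨Spec.map (CommRingCat.ofHom g.toRingHom) ≫ hU.fromSpec, ?_, ?_⟩
    · rw [Category.assoc, ← hφ, ← Spec.map_comp, ← Spec.map_id]
      congr 1
      exact CommRingCat.hom_ext (RingHom.ext fun a => g.commutes a)
    · rw [Scheme.Hom.comp_base, ← hP]
      refine congrArg hU.fromSpec.base ?_
      refine PrimeSpectrum.ext (Ideal.ext fun z => ?_)
      show g z ∈ IsLocalRing.maximalIdeal A ↔ z ∈ P.asIdeal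
      rw [← IsLocalRing.residue_eq_zero_iff, hg, ← Ideal.algebraMap_residueField_eq_zero, ← hc',
        map_eq_zero_iff _ hinj]
      rfl
  · intro h
    -- every residual point of a standard etale algebra comes from a point
    have key : ∀ (P : StandardEtalePair A) (L : Type u) (_ : Field L) (_ : Algebra A L)
        (_ : ∀ a ∈ IsLocalRing.maximalIdeal A, algebraMap A L a = 0) (z : L) (_ : P.HasMap z),
        ∃ r : A, P.HasMap r ∧ ∀ q : Polynomial A, Polynomial.aeval z q = 0 →
          Polynomial.eval r q ∈ IsLocalRing.maximalIdeal A := by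
      intro P L _ _ hL z hz
      let ev := P.lift z hz
      let pt : PrimeSpectrum P.Ring := ⟨RingHom.ker ev.toRingHom, RingHom.ker_isPrime _⟩
      let f : Spec (CommRingCat.of P.Ring) ⟶ Spec (CommRingCat.of A) :=
        Spec.map (CommRingCat.ofHom (algebraMap A P.Ring))
      have hf : AlgebraicGeometry.Etale f :=
        (HasRingHomProperty.Spec_iff (P := @AlgebraicGeometry.Etale)).mpr
          (RingHom.etale_algebraMap.mpr inferInstance)
      have hpt : f.base pt = IsLocalRing.closedPoint A := by
        refine PrimeSpectrum.ext (Ideal.ext fun a => ?_)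
        show ev (algebraMap A P.Ring a) = 0 ↔ a ∈ IsLocalRing.maximalIdeal A
        rw [ev.commutes]
        refine ⟨fun h0 hu => ?_, hL a⟩
        exact not_isUnit_zero (h0 ▸ hu.map (algebraMap A L))
      obtain ⟨u, hu, hux⟩ := h _ f hf pt hpt
      obtain ⟨φ, rfl⟩ : ∃ φ, Spec.map φ = u := ⟨_, Spec.map_preimage u⟩
      rw [← Spec.map_comp, ← Spec.map_id, Spec.map_injective.eq_iff] at hu
      let g : P.Ring →ₐ[A] A :=
        ⟨φ.hom, fun a => RingHom.congr_fun (congrArg CommRingCat.Hom.hom hu) a⟩
      refine ⟨g P.X, StandardEtalePair.hasMap_X.map g, fun q hq => ?_⟩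
      have hmem : Polynomial.aeval P.X q ∈ pt.asIdeal := by
        show ev (Polynomial.aeval P.X q) = 0
        rw [← Polynomial.aeval_algHom_apply, StandardEtalePair.lift_X, hq]
      rw [← hux] at hmem
      have h2 : g (Polynomial.aeval P.X q) ∈ IsLocalRing.maximalIdeal A := hmem
      rwa [← Polynomial.aeval_algHom_apply, Polynomial.aeval_def, Algebra.algebraMap_self] at h2
    constructor
    · refine { is_henselian := fun q hq a₀ h₀ hu => ?_ }
      let P : StandardEtalePair A := ⟨q, hq, q.derivative, 1, 0, 1, by simp⟩
      obtain ⟨r, hr, hrm⟩ := key P (IsLocalRing.ResidueField A) inferInstance inferInstance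
        (fun a ha => (IsLocalRing.residue_eq_zero_iff a).mpr ha) (IsLocalRing.residue A a₀)
        ⟨by
          rw [← IsLocalRing.ResidueField.algebraMap_eq, Polynomial.aeval_algebraMap_apply_eq_algebraMap_eval]
          exact (IsLocalRing.residue_eq_zero_iff _).mpr h₀, by
          rw [← IsLocalRing.ResidueField.algebraMap_eq, Polynomial.aeval_algebraMap_apply_eq_algebraMap_eval]
          exact hu.map _⟩
      refine ⟨r, ?_, ?_⟩
      · have := hr.1
        rwa [Polynomial.coe_aeval_eq_eval] at this
      · have := hrm (Polynomial.X - Polynomial.C a₀) (by simp [IsLocalRing.ResidueField.algebraMap_eq])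
        rwa [Polynomial.eval_sub, Polynomial.eval_X, Polynomial.eval_C] at this
    · refine IsSepClosed.of_exists_root _ fun p hp hirr hsep => ?_
      obtain ⟨q, hq, hqd, hqm⟩ := Polynomial.lifts_and_natDegree_eq_and_monic
        (f := IsLocalRing.residue A)
        ((Polynomial.lifts_iff_coeff_lifts p).mpr fun _ => IsLocalRing.residue_surjective _) hp
      have hp0 : p.degree ≠ 0 := (Polynomial.degree_pos_of_irreducible hirr).ne'
      let P : StandardEtalePair A := ⟨q, hqm, q.derivative, 1, 0, 1, by simp⟩
      let L := AlgebraicClosure (IsLocalRing.ResidueField A)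
      obtain ⟨z, hz⟩ := IsAlgClosed.exists_root (p.map (algebraMap _ L))
        (by rwa [Polynomial.degree_map])
      have hz' : Polynomial.aeval z p = 0 := by rwa [← Polynomial.eval_map_algebraMap]
      obtain ⟨r, hr, -⟩ := key P L inferInstance inferInstance (fun a ha => by
          rw [IsScalarTower.algebraMap_apply A (IsLocalRing.ResidueField A) L,
            IsLocalRing.ResidueField.algebraMap_eq, (IsLocalRing.residue_eq_zero_iff a).mpr ha,
            map_zero]) z
        ⟨by rw [← Polynomial.aeval_map_algebraMap (IsLocalRing.ResidueField A),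
              IsLocalRing.ResidueField.algebraMap_eq, hq, hz'], by
          rw [← Polynomial.aeval_map_algebraMap (IsLocalRing.ResidueField A) (p := q.derivative),
            IsLocalRing.ResidueField.algebraMap_eq, ← Polynomial.derivative_map, hq]
          exact (hsep.aeval_derivative_ne_zero hz').isUnit⟩
      refine ⟨IsLocalRing.residue A r, ?_⟩
      rw [← hq, Polynomial.eval_map_apply]
      have := hr.1
      rw [Polynomial.coe_aeval_eq_eval] at this
      rw [this, map_zero]

end Groth.Agent.S5062
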