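import Groth.Statements.S5066
import Groth.Agent.Hensel.FiniteEtale
import Groth.Agent.Hensel.Root

set_option autoImplicit false
universe u
open Hensel

namespace Groth.Agent.S5066

/-- Case of a local ring, affine étale schemes: a local ring A with maximal ideal m is henselian if and
only if, for every finite A-algebra C and every étale A-algebra E, composing with the projection C →
C/mC is a bijection from the set of A-algebra homomorphisms E → C onto the set of A-algebra
homomorphisms E → C/mC. -/
theorem result (A : Type u) [CommRing A] [IsLocalRing A] :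
    HenselianLocalRing A ↔
      ∀ (C : Type u) [CommRing C] [Algebra A C] [Module.Finite A C] (E : Type u) [CommRing E] [Algebra A E] [Algebra.Etale A E],
        Function.Bijective (fun φ : E →ₐ[A] C =>
          (Ideal.Quotient.mkₐ A (Ideal.map (algebraMap A C) (IsLocalRing.maximalIdeal A))).comp φ) := by
  constructor
  · intro h C _ _ _ E _ _ _
    exact Groth.Agent.Hensel.FiniteEtale.bijective_comp _ Ideal.Quotient.mk_surjective
      ((Ideal.Quotient.mkₐ_ker A _).le.trans (Groth.Agent.Hensel.FiniteEtale.jac_of_map_maximalIdeal C)) E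
  · intro h
    refine ⟨fun f hf a₀ h₁ h₂ => ?_⟩
    let P : StandardEtalePair A :=
      { f := f, monic_f := hf, g := Polynomial.derivative f, cond := ⟨1, 0, 1, by simp⟩ }
    let q := Ideal.Quotient.mkₐ A (Ideal.map (algebraMap A A) (IsLocalRing.maximalIdeal A))
    have hm : Ideal.map (algebraMap A A) (IsLocalRing.maximalIdeal A) = IsLocalRing.maximalIdeal A :=
      Ideal.map_id _
    have hev : ∀ (p : Polynomial A) (y : A), Polynomial.aeval (q y) p = q (Polynomial.eval y p) := fun p y =>
      Polynomial.aeval_algHom_apply q y p
    have hx : P.HasMap (q a₀) := by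
      refine ⟨?_, ?_⟩
      · rw [hev]; exact Ideal.Quotient.eq_zero_iff_mem.mpr (hm.symm ▸ h₁)
      · rw [hev]; exact h₂.map q
    obtain ⟨F, hF⟩ := (h A P.Ring).2 (P.lift _ hx)
    refine ⟨F P.X, ?_, ?_⟩
    · rw [Polynomial.IsRoot, ← Polynomial.coe_aeval_eq_eval, Polynomial.aeval_algHom_apply,
        StandardEtalePair.hasMap_X.1, map_zero]
    · have : q (F P.X) = q a₀ := (AlgHom.congr_fun hF P.X).trans (by simp)
      exact hm ▸ Ideal.Quotient.eq.mp this

end Groth.Agent.S5066
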