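import Groth.Statements.S5073
import Mathlib

set_option autoImplicit false
universe u
open EGA418

namespace Groth.Agent.S5073

/-- Let A be a Noetherian local ring, p a prime ideal and x an element of A. Then there is an element x'
of A whose image in A_p equals that of x and which belongs to no minimal prime ideal of A not
contained in p. -/
theorem result (A : Type u) [CommRing A] [IsNoetherianRing A] [IsLocalRing A]
    (p : Ideal A) [p.IsPrime] (x : A) :
    ∃ x' : A, algebraMap A (Localization.AtPrime p) x' = algebraMap A (Localization.AtPrime p) x ∧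
      ∀ q ∈ minimalPrimes A, ¬ q ≤ p → x' ∉ q := by
  classical
  let S := {q ∈ minimalPrimes A | ¬ q ≤ p}
  have hS : S.Finite := (minimalPrimes.finite_of_isNoetherianRing A).subset fun q h => h.1
  let K := RingHom.ker (algebraMap A (Localization.AtPrime p))
  have hK : ∀ q ∈ S, ¬ K ≤ q := by
    rintro q ⟨hq, hqp⟩ hle
    haveI := hq.1.1
    obtain ⟨s, hsq, hsp⟩ := SetLike.not_le_iff_exists.mp hqp
    have hmin : IsNilpotent (algebraMap A (Localization.AtPrime q) s) := by
      haveI : Subsingleton (PrimeSpectrum (Localization.AtPrime q)) :=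
        IsLocalization.subsingleton_primeSpectrum_of_mem_minimalPrimes q hq _
      rw [← mem_nilradical, nilradical_eq_sInf, Ideal.mem_sInf]
      intro J hJ
      have : (⟨J, hJ⟩ : PrimeSpectrum (Localization.AtPrime q)) =
          ⟨IsLocalRing.maximalIdeal (Localization.AtPrime q), inferInstance⟩ := Subsingleton.elim _ _
      rw [show J = IsLocalRing.maximalIdeal (Localization.AtPrime q) from congrArg PrimeSpectrum.asIdeal this]
      exact (IsLocalization.AtPrime.to_map_mem_maximal_iff _ q s).mpr hsq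
    obtain ⟨n, hn⟩ := hmin
    rw [← map_pow, IsLocalization.map_eq_zero_iff q.primeCompl] at hn
    obtain ⟨⟨y, hy⟩, hys⟩ := hn
    refine hy (hle ?_)
    rw [RingHom.mem_ker, IsLocalization.map_eq_zero_iff p.primeCompl]
    exact ⟨⟨s ^ n, fun h => hsp (Ideal.IsPrime.mem_of_pow_mem ‹p.IsPrime› n h)⟩, by rw [mul_comm]; exact hys⟩
  let F := hS.toFinset.filter fun q => x ∉ q
  let G := hS.toFinset.filter fun q => x ∈ q
  let J : Ideal A := K ⊓ F.inf id
  have hJ : ∀ q ∈ G, ¬ J ≤ q := by
    intro q hq hle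
    obtain ⟨hqS, hxq⟩ := Finset.mem_filter.mp hq
    have hqS := hS.mem_toFinset.mp hqS
    rcases hqS.1.1.1.inf_le.mp hle with h | h
    · exact hK q hqS h
    · obtain ⟨q', hq', hle'⟩ := (Ideal.IsPrime.inf_le' hqS.1.1.1).mp h
      obtain ⟨hq'S, hxq'⟩ := Finset.mem_filter.mp hq'
      have hq'S := hS.mem_toFinset.mp hq'S
      exact hxq' ((hqS.1.2 hq'S.1.1 hle') hxq)
  obtain ⟨y, hyJ, hy⟩ : ∃ y ∈ J, ∀ q ∈ G, y ∉ q := by
    by_contra hc
    push_neg at hc
    obtain ⟨q, hq, hle⟩ := (Ideal.subset_union_prime (s := G) (f := id) ⊥ ⊥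
      (fun q hq _ _ => (hS.mem_toFinset.mp (Finset.mem_filter.mp hq).1).1.1.1)).mp (fun a ha => by
        obtain ⟨q, hq, haq⟩ := hc a ha
        exact Set.mem_biUnion hq haq)
    exact hJ q hq hle
  refine ⟨x + y, by rw [map_add, show algebraMap A (Localization.AtPrime p) y = 0 from hyJ.1, add_zero],
    fun q hq hqp hmem => ?_⟩
  have hqS : q ∈ hS.toFinset := hS.mem_toFinset.mpr ⟨hq, hqp⟩
  by_cases hxq : x ∈ q
  · exact hy q (Finset.mem_filter.mpr ⟨hqS, hxq⟩) (by simpa using q.sub_mem hmem hxq)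
  · have h1 : y ∈ q := (Submodule.mem_finsetInf.mp hyJ.2) q (Finset.mem_filter.mpr ⟨hqS, hxq⟩)
    exact hxq (by simpa using q.sub_mem hmem h1)

end Groth.Agent.S5073
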