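import Groth.Statements.S5078
import Groth.Agent.Adic.FiniteModule
import Mathlib.Algebra.Module.Projective

set_option autoImplicit false
universe u v
open Hensel

namespace Groth.Agent.S5078

/-- Let A be a ring, I an ideal such that A is I-adically separated and complete, and M a finitely
generated projective A-module. Then M is I-adically separated and complete. -/
theorem result {A : Type u} [CommRing A] (I : Ideal A) [IsAdicComplete I A]
    (M : Type v) [AddCommGroup M] [Module A M] [Module.Finite A M] [Module.Projective A M] :
    IsAdicComplete I M := by
  obtain ⟨r, φ, hφ⟩ := Module.Finite.exists_fin' A M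
  obtain ⟨σ, hσ⟩ := Module.projective_lifting_property φ LinearMap.id hφ
  have hp : IsPrecomplete I M := Groth.Agent.Adic.FiniteModule.isPrecomplete_of_finite
  have hh : IsHausdorff I M := ⟨fun x hx => by
    have h0 : σ x = 0 := funext fun i => IsHausdorff.haus (I := I) (inferInstance : IsHausdorff I A) _ fun n => by
      have h := Submodule.mem_map_of_mem (f := (LinearMap.proj i).comp σ) (SModEq.zero.mp (hx n))
      rw [Submodule.map_smul''] at h
      exact SModEq.zero.mpr (Groth.Agent.Adic.FiniteModule.mem_smul_mono le_top h)
    simpa [h0] using (LinearMap.congr_fun hσ x).symm⟩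
  exact ⟨⟩

end Groth.Agent.S5078
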