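import Groth.Statements.S5081
import Mathlib.RingTheory.Kaehler.Basic
import Mathlib.RingTheory.Derivation.Basic
import Mathlib.Algebra.Polynomial.Derivation
import Mathlib.RingTheory.Adjoin.Polynomial.Basic

set_option autoImplicit false
universe u
open Unram

namespace Groth.Agent.S5081

/-- Let B be a finite A-algebra generated by a single element u and F a polynomial with coefficients in
A such that F(u) = 0. Then the ideal generated by F'(u) is contained in the annihilator of the
module of differentials of B over A, and equals it when the kernel of the surjection A[T] → B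
sending T to u is generated by F. -/
theorem result (A B : Type u) [CommRing A] [CommRing B] [Algebra A B]
    [Module.Finite A B] (u : B) (hu : Algebra.adjoin A ({u} : Set B) = ⊤) (F : Polynomial A) (hF : Polynomial.aeval u F = 0) :
    Ideal.span {Polynomial.aeval u (Polynomial.derivative F)} ≤ Module.annihilator B (KaehlerDifferential A B) ∧
      (RingHom.ker (Polynomial.aeval u : Polynomial A →ₐ[A] B) = Ideal.span {F} →
        Module.annihilator B (KaehlerDifferential A B) = Ideal.span {Polynomial.aeval u (Polynomial.derivative F)}) := by
  have hle : Ideal.span {Polynomial.aeval u (Polynomial.derivative F)} ≤ Module.annihilator B (KaehlerDifferential A B) := by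
    rw [Ideal.span_le, Set.singleton_subset_iff, SetLike.mem_coe, Module.mem_annihilator]
    intro w
    have hw : w ∈ Submodule.span B (Set.range (KaehlerDifferential.D A B)) := by
      rw [KaehlerDifferential.span_range_derivation]; trivial
    induction hw using Submodule.span_induction with
    | mem y hy =>
      obtain ⟨b, rfl⟩ := hy
      have hb : b ∈ Algebra.adjoin A ({u} : Set B) := hu ▸ trivial
      rw [Algebra.adjoin_singleton_eq_range_aeval] at hb
      obtain ⟨P, rfl⟩ := hb
      change _ • KaehlerDifferential.D A B (Polynomial.aeval u P) = 0
      have h0 : Polynomial.aeval u (Polynomial.derivative F) • KaehlerDifferential.D A B u = 0 := by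
        rw [← Derivation.map_aeval, hF, map_zero]
      rw [Derivation.map_aeval, smul_comm, h0, smul_zero]
    | zero => simp
    | add a b _ _ ha hb => rw [smul_add, ha, hb, add_zero]
    | smul c y _ hy => rw [smul_comm, hy, smul_zero]
  refine ⟨hle, fun hker => le_antisymm ?_ hle⟩
  let q : Polynomial A →ₐ[A] B := Polynomial.aeval u
  have hqs : Function.Surjective q := fun b => by
    have hb : b ∈ Algebra.adjoin A ({u} : Set B) := hu ▸ trivial
    rw [Algebra.adjoin_singleton_eq_range_aeval] at hb
    exact hb
  choose lift hlift using hqs
  let I : Ideal B := Ideal.span {Polynomial.aeval u (Polynomial.derivative F)}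
  let d : B → B ⧸ I := fun b => Ideal.Quotient.mk I (q (Polynomial.derivative (lift b)))
  have hd : ∀ b P, q P = b → d b = Ideal.Quotient.mk I (q (Polynomial.derivative P)) := by
    intro b P hP
    have : lift b - P ∈ RingHom.ker (Polynomial.aeval u : Polynomial A →ₐ[A] B) := by
      rw [RingHom.mem_ker, map_sub]; exact sub_eq_zero.2 ((hlift b).trans hP.symm)
    rw [hker, Ideal.mem_span_singleton] at this
    obtain ⟨G, hG⟩ := this
    show Ideal.Quotient.mk I _ = _
    rw [sub_eq_iff_eq_add'.1 hG]
    simp only [Polynomial.derivative_add, Polynomial.derivative_mul, map_add, map_mul, show q F = 0 from hF, map_zero, zero_mul, add_zero]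
    rw [show Ideal.Quotient.mk I (q (Polynomial.derivative F)) = 0 from
      Ideal.Quotient.eq_zero_iff_mem.2 (Ideal.mem_span_singleton_self _), zero_mul, add_zero]
  let dl : B →ₗ[A] B ⧸ I :=
    { toFun := d
      map_add' := fun a b => by
        rw [hd (a + b) (lift a + lift b) (by rw [map_add, hlift, hlift]), Polynomial.derivative_add, map_add, map_add]
      map_smul' := fun c a => by
        rw [hd (c • a) (c • lift a) (by rw [map_smul, hlift]), Polynomial.derivative_smul, map_smul]
        rfl }
  let D : Derivation A B (B ⧸ I) := Derivation.mk' dl fun a b => by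
    show d (a * b) = a • d b + b • d a
    rw [hd (a * b) (lift a * lift b) (by rw [map_mul, hlift, hlift]), Polynomial.derivative_mul, map_add, map_mul, map_mul, hlift, hlift]
    simp only [d, Algebra.smul_def, Ideal.Quotient.algebraMap_eq, map_add, map_mul]
    ring
  intro a ha
  have h1 : D.liftKaehlerDifferential (a • KaehlerDifferential.D A B u) = 0 := by
    rw [Module.mem_annihilator.1 ha, map_zero]
  rw [map_smul, Derivation.liftKaehlerDifferential_comp_D] at h1
  have h2 : D u = Ideal.Quotient.mk I 1 := by
    show d u = _
    rw [hd u Polynomial.X (by simp [q]), Polynomial.derivative_X, map_one]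
  rw [h2, Algebra.smul_def, Ideal.Quotient.algebraMap_eq, ← map_mul, mul_one, Ideal.Quotient.eq_zero_iff_mem] at h1
  exact h1

end Groth.Agent.S5081
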