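import Groth.Statements.S5098
import Groth.Agent.CDivDepth.Mero

set_option autoImplicit false
universe u
open CategoryTheory CategoryTheory.Limits AlgebraicGeometry TopologicalSpace
open Mero

namespace Groth.Agent.S5098

/-- General form, for divisors on a scheme that need not be integral: let X be a locally Noetherian
scheme and D a divisor on X. If the germ of D is effective (resp. trivial) at every point x whose
local ring O_{X,x} has depth 1, then D is effective (resp. D is the unit divisor, in the
multiplicative notation used here). -/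
theorem result (X : Scheme.{u}) [IsLocallyNoetherian X] (D : Mero.Divisor X) :
    ((∀ x : ↥X, LocCoh.depth ↑(X.presheaf.stalk x) ↑(X.presheaf.stalk x) = 1 → Mero.IsEffectiveAt D x) →
        Mero.IsEffective D) ∧
      ((∀ x : ↥X, LocCoh.depth ↑(X.presheaf.stalk x) ↑(X.presheaf.stalk x) = 1 → D.1 x = 1) → D = 1) := by
  refine ⟨Groth.Agent.CDivDepth.Mero.isEffective_of_depth_one D, fun h => ?_⟩
  have hone : ∀ (E : Mero.Divisor X) (x : X), E.1 x = 1 → Mero.IsEffectiveAt E x := fun E x hx =>
    ⟨1, hx.trans (QuotientGroup.mk_one _).symm |>.trans (congrArg _ (Units.ext (by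
      rw [IsUnit.unit_spec, Units.val_one]
      exact (map_one (algebraMap (X.presheaf.stalk x) (Mero.KStalk X x))).symm)))⟩
  refine Groth.Agent.CDivDepth.Mero.eq_one_of_effective D
    (Groth.Agent.CDivDepth.Mero.isEffective_of_depth_one D fun x hx => hone D x (h x hx))
    (Groth.Agent.CDivDepth.Mero.isEffective_of_depth_one D⁻¹ fun x hx => hone D⁻¹ x ?_)
  show (D.1 x)⁻¹ = 1
  rw [h x hx, inv_one]

end Groth.Agent.S5098
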