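import Groth.Statements.S5133
import Groth.Agent.Fpqc.Embedding

set_option autoImplicit false
open CategoryTheory CategoryTheory.Limits AlgebraicGeometry
universe u
open SGA1

namespace Groth.Agent.S5133

/-- For a quasi-compact morphism f : X ⟶ Y and a flat surjective base change g : Y' ⟶ Y, with no
quasi-compactness asked of g, if the base change of f along g is a homeomorphism onto its image then
f is a homeomorphism onto its image. -/
theorem result {X Y Y' : Scheme.{u}} (f : X ⟶ Y)
    (g : Y' ⟶ Y) [QuasiCompact f] [Flat g] [Surjective g]
    (h : Topology.IsEmbedding (pullback.snd f g).base) : Topology.IsEmbedding f.base := by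
  refine Groth.Agent.Fpqc.Embedding.isEmbedding_of_pullback g f ?_
  have := h.comp (pullbackSymmetry g f).hom.homeomorph.isEmbedding
  rw [← pullbackSymmetry_hom_comp_snd]
  exact this

end Groth.Agent.S5133
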