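import Groth.Statements.S5140
import Groth.Agent.FibClv.EquivOver

set_option autoImplicit false
open CategoryTheory
universe u v u₂ v₂
open FibCat

namespace Groth.Agent.S5140

open Groth.Agent.FibClv.EquivOver


/-- If the structure functor of 𝒳 is transportable (isomorphisms of C lift to isomorphisms of 𝒳 with any
prescribed source over their source), then a functor 𝒳 ⟶ 𝒴 over C whose underlying functor is an
equivalence of categories is an equivalence over C. -/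
theorem result {C : Type u} [Category.{v} C]
    {𝒳 𝒴 : BasedCategory.{v₂, u₂} C}
    (h𝒳 : ∀ ⦃T S : C⦄ (α : T ≅ S) (ξ : 𝒳.obj), 𝒳.p.obj ξ = T →
      ∃ (ξ' : 𝒳.obj) (e : ξ ≅ ξ'), 𝒳.p.IsHomLift α.hom e.hom)
    (F : 𝒳 ⥤ᵇ 𝒴) [F.toFunctor.IsEquivalence] : FibCat.IsEquivOver F := by
  refine isEquivOver_of F fun η => ?_
  let ξ := F.toFunctor.objPreimage η
  let e : F.toFunctor.obj ξ ≅ η := F.toFunctor.objObjPreimageIso η
  let α : 𝒳.p.obj ξ ≅ 𝒴.p.obj η := eqToIso (F.w_obj ξ).symm ≪≫ 𝒴.p.mapIso e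
  obtain ⟨ξ', e', he'⟩ := h𝒳 α ξ rfl
  haveI : 𝒴.p.IsHomLift α.hom (F.toFunctor.mapIso e').hom := BasedFunctor.preserves_isHomLift F α.hom e'.hom
  haveI : 𝒴.p.IsHomLift α.hom e.hom := IsHomLift.of_fac 𝒴.p _ _ (F.w_obj ξ) rfl (by simp [α])
  refine ⟨ξ', (F.toFunctor.mapIso e').symm ≪≫ e, ?_⟩
  rw [Iso.trans_hom, Iso.symm_hom, ← α.inv_hom_id]
  haveI : 𝒴.p.IsHomLift α.inv (F.toFunctor.mapIso e').inv := IsHomLift.inv_lift_inv 𝒴.p α (F.toFunctor.mapIso e')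
  infer_instance

end Groth.Agent.S5140
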