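import Groth.Statements.S5150
import Groth.Agent.IdealDepth.Basic

set_option autoImplicit false
universe u
open CategoryTheory
open LocCoh

namespace Groth.Agent.S5150

/-- Let A be a commutative ring, I an ideal, M and N A-modules, and f_1, …, f_r a weakly M-regular
sequence of elements of I. If N is killed by a power of I then Ext^i_A(N, M) vanishes for all i < r.
(No Noetherian or finiteness hypothesis on A, M or N.) -/
theorem result (A : Type u) [CommRing A] (I : Ideal A) (M N : Type u) [AddCommGroup M] [Module A M] [AddCommGroup N] [Module A N] (rs : List A) (hreg : RingTheory.Sequence.IsWeaklyRegular M rs) (hI : ∀ r ∈ rs, r ∈ I) (k : ℕ) (hN : (I ^ k) • (⊤ : Submodule A N) = ⊥) (i : ℕ) (hi : i < rs.length) : Subsingleton (Abelian.Ext (ModuleCat.of A N) (ModuleCat.of A M) i) := by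
  induction i generalizing rs M with
  | zero =>
    obtain ⟨x, rs, rfl⟩ : ∃ x rs', rs = x :: rs' := by
      cases rs with
      | nil => simp at hi
      | cons x rs' => exact ⟨x, rs', rfl⟩
    rw [RingTheory.Sequence.isWeaklyRegular_cons_iff] at hreg
    refine subsingleton_of_forall_eq 0 fun α => ?_
    obtain ⟨f, rfl⟩ := (Abelian.Ext.mk₀_bijective _ _).2 α
    have hf : f = 0 := ModuleCat.hom_ext (LinearMap.ext fun z => (hreg.1.pow k) (by
      show x ^ k • f.hom z = x ^ k • (0 : M)
      have hz : x ^ k • z = 0 := (Submodule.mem_bot A).1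
        (hN ▸ Submodule.smul_mem_smul (Ideal.pow_mem_pow (hI x (List.mem_cons_self)) k) Submodule.mem_top)
      rw [smul_zero, ← map_smul, hz, map_zero]))
    rw [hf, Abelian.Ext.mk₀_zero]
  | succ i ih =>
    obtain ⟨x, rs, rfl⟩ : ∃ x rs', rs = x :: rs' := by
      cases rs with
      | nil => simp at hi
      | cons x rs' => exact ⟨x, rs', rfl⟩
    rw [RingTheory.Sequence.isWeaklyRegular_cons_iff] at hreg
    have hsub := ih (QuotSMulTop x M) rs hreg.2 (fun r hr => hI r (List.mem_cons_of_mem _ hr))
      (by simpa using hi)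
    have hS : ((ModuleCat.of A M).smulShortComplex x).ShortExact := hreg.1.smulShortComplex_shortExact
    have hinj : ∀ α : Abelian.Ext (ModuleCat.of A N) (ModuleCat.of A M) (i + 1), x • α = 0 → α = 0 := by
      intro α hα
      have h1 : α.comp (Abelian.Ext.mk₀ (x • 𝟙 (ModuleCat.of A M))) (add_zero _) = 0 := by
        rw [Abelian.Ext.mk₀_smul, Abelian.Ext.comp_smul, Abelian.Ext.comp_mk₀_id, hα]
      obtain ⟨γ, hγ⟩ := Abelian.Ext.covariant_sequence_exact₁ (ModuleCat.of A N) hS α h1 rfl
      rw [← hγ, show γ = 0 from @Subsingleton.elim _ hsub γ 0]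
      apply Abelian.Ext.zero_comp
    refine subsingleton_of_forall_eq 0 fun α => ?_
    have hk : x ^ k • α = 0 := by
      have h2 : (Abelian.Ext.mk₀ (x ^ k • 𝟙 (ModuleCat.of A N))).comp α (zero_add _) = x ^ k • α := by
        rw [Abelian.Ext.mk₀_smul, Abelian.Ext.smul_comp, Abelian.Ext.mk₀_id_comp]
      have h3 : x ^ k • 𝟙 (ModuleCat.of A N) = 0 := ModuleCat.hom_ext (LinearMap.ext fun z => by
        change x ^ k • z = 0
        exact (Submodule.mem_bot A).1
          (hN ▸ Submodule.smul_mem_smul (Ideal.pow_mem_pow (hI x (List.mem_cons_self)) k) Submodule.mem_top))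
      rw [← h2, h3, Abelian.Ext.mk₀_zero, Abelian.Ext.zero_comp]
    clear hN
    induction k with
    | zero => simpa using hk
    | succ k ihk =>
      refine ihk (hinj _ ?_)
      rwa [smul_smul, ← pow_succ']

end Groth.Agent.S5150
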