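import Groth.Statements.S5151
import Groth.Agent.IdealDepth.Basic

set_option autoImplicit false
universe u
open LocCoh

namespace Groth.Agent.S5151

/-- Let A be a Noetherian ring, I an ideal and M a finite A-module with IM ≠ M. Every weakly M-regular
sequence of elements of I can be extended to a maximal one (one after which no element of I is
M-regular on the quotient), and any maximal weakly M-regular sequence of elements of I has length
equal to the I-depth of M. (The published statement does not assume IM ≠ M; without it the first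
assertion fails: over ℤ with I = (2) and M = ℤ/3 the element 2 is M-regular with M/2M = 0, after
which every element of I is regular on the zero module, so no weakly M-regular sequence of elements
of I is maximal, while the I-depth is infinite. With IM ≠ M every weakly M-regular sequence in I is
M-regular and the I-depth is finite.) -/
theorem result (A : Type u) [CommRing A] [IsNoetherianRing A] (I : Ideal A) (M : Type u) [AddCommGroup M] [Module A M] [Module.Finite A M] (hIM : I • (⊤ : Submodule A M) ≠ ⊤) : (∀ rs : List A, RingTheory.Sequence.IsWeaklyRegular M rs → (∀ r ∈ rs, r ∈ I) → ∃ rs' : List A, rs <+: rs' ∧ RingTheory.Sequence.IsWeaklyRegular M rs' ∧ (∀ r ∈ rs', r ∈ I) ∧ ∀ r ∈ I, ¬ RingTheory.Sequence.IsWeaklyRegular M (rs' ++ [r])) ∧ (∀ rs : List A, RingTheory.Sequence.IsWeaklyRegular M rs → (∀ r ∈ rs, r ∈ I) → (∀ r ∈ I, ¬ RingTheory.Sequence.IsWeaklyRegular M (rs ++ [r])) → (rs.length : ℕ∞) = LocCoh.idealDepth I M) := by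
  open Groth.Agent.IdealDepth in
  constructor
  · obtain ⟨N, hN⟩ := ENat.ne_top_iff_exists.1 (ne_top hIM)
    suffices key : ∀ (k : ℕ) (rs : List A), RingTheory.Sequence.IsWeaklyRegular M rs → (∀ r ∈ rs, r ∈ I) →
        N ≤ rs.length + k → ∃ rs' : List A, rs <+: rs' ∧ RingTheory.Sequence.IsWeaklyRegular M rs' ∧
          (∀ r ∈ rs', r ∈ I) ∧ ∀ r ∈ I, ¬ RingTheory.Sequence.IsWeaklyRegular M (rs' ++ [r]) from
      fun rs h1 h2 => key N rs h1 h2 (Nat.le_add_left _ _)
    intro k
    induction k with
    | zero =>
      intro rs h1 h2 hk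
      refine ⟨rs, List.prefix_refl _, h1, h2, fun r hr hw => ?_⟩
      have := len_le (I := I) (rs := rs ++ [r]) ⟨hw, fun x hx => by
        rcases List.mem_append.1 hx with hx | hx
        exacts [h2 x hx, by simp only [List.mem_singleton] at hx; exact hx ▸ hr]⟩
      rw [← hN, List.length_append, List.length_singleton] at this
      have := ENat.coe_le_coe.1 this
      omega
    | succ k ih =>
      intro rs h1 h2 hk
      by_cases hmax : ∀ r ∈ I, ¬ RingTheory.Sequence.IsWeaklyRegular M (rs ++ [r])
      · exact ⟨rs, List.prefix_refl _, h1, h2, hmax⟩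
      push Not at hmax
      obtain ⟨r, hr, hw⟩ := hmax
      obtain ⟨rs', hp, h⟩ := ih (rs ++ [r]) hw (fun x hx => by
        rcases List.mem_append.1 hx with hx | hx
        exacts [h2 x hx, by simp only [List.mem_singleton] at hx; exact hx ▸ hr]) (by simp; omega)
      exact ⟨rs', (List.prefix_append _ _).trans hp, h⟩
  · exact fun rs h1 h2 h3 => length_eq_of_maximal ⟨h1, h2⟩ h3

end Groth.Agent.S5151
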