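import Groth.Statements.S5153
import Groth.Agent.ZClosure.Hartogs

set_option autoImplicit false
universe u
open AlgebraicGeometry
open LocCoh

namespace Groth.Agent.S5153

/-- Let X be a locally Noetherian scheme and Y = X − U a closed subset such that depth O_{X,x} ≥ 2 for
every x ∈ Y. Then the inclusion U → X induces a bijection on sets of connected components. -/
theorem result (X : Scheme.{u}) [IsLocallyNoetherian X] (U : X.Opens) (h : ∀ x : X, x ∉ (U : Set X) → (2 : ℕ∞) ≤ LocCoh.depth (X.presheaf.stalk x) (X.presheaf.stalk x)) : Function.Bijective (Continuous.connectedComponentsMap (continuous_subtype_val : Continuous (fun x : U => (x : X)))) := by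
  constructor
  · rintro ⟨u⟩ ⟨v⟩ huv
    have : IsLocallyNoetherian (U : Scheme.{u}) := inferInstance
    by_contra hne
    have hv : v ∉ connectedComponent u := fun hv => hne (ConnectedComponents.coe_eq_coe'.mpr hv).symm
    have hopen : IsOpen (connectedComponent u) :=
      Groth.Agent.ZClosure.isOpen_connectedComponent' (X := (U : Scheme.{u})) u
    obtain ⟨T, hT, hTS⟩ := Groth.Agent.ZClosure.exists_clopen_extend U h (connectedComponent u)
      ⟨isClosed_connectedComponent, hopen⟩
    have huT : u.1 ∈ T := (hTS u).mpr mem_connectedComponent
    have hvu : v.1 ∈ connectedComponent u.1 := ConnectedComponents.coe_eq_coe'.mp huv.symm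
    exact hv ((hTS v).mp (hT.connectedComponent_subset huT hvu))
  · rintro ⟨x⟩
    obtain ⟨y, hyx, hyU⟩ := Groth.Agent.ZClosure.exists_generization_mem U h x
    refine ⟨ConnectedComponents.mk (⟨y, hyU⟩ : U), ?_⟩
    exact (ConnectedComponents.coe_eq_coe'.mpr ((isConnected_singleton.closure.2).subset_connectedComponent
      (subset_closure rfl) (specializes_iff_mem_closure.mp hyx))).symm

end Groth.Agent.S5153
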