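import Groth.Statements.S5162
import Groth.Agent.LocCoh.ExtCriterion

set_option autoImplicit false
universe u
open CategoryTheory
open LocCoh

namespace Groth.Agent.S5162

/-- The affine case. Let A be a Noetherian ring, J an ideal, G any A-module and n ≥ 0. Then: H^i_J(G) =
0 for all i < n iff Ext^i_A(F, G) = 0 for all i < n and all finite A-modules F with Supp F ⊆ V(J),
iff Ext^i_A(F, G) = 0 for all i < n for one finite F with Supp F = V(J). (G is not assumed finitely
generated.) -/
theorem result (A : Type u) [CommRing A] [IsNoetherianRing A] (J : Ideal A) (G : Type u) [AddCommGroup G] [Module A G] (n : ℕ) : ((∀ i : ℕ, i < n → Subsingleton (LocCoh.H J i G)) ↔ ∀ (F : Type u) [AddCommGroup F] [Module A F], Module.Finite A F → Module.support A F ⊆ PrimeSpectrum.zeroLocus (J : Set A) → ∀ i : ℕ, i < n → Subsingleton (Abelian.Ext (ModuleCat.of A F) (ModuleCat.of A G) i)) ∧ ((∀ i : ℕ, i < n → Subsingleton (LocCoh.H J i G)) ↔ ∃ (F : Type u) (_ : AddCommGroup F) (_ : Module A F), Module.Finite A F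 ∧ Module.support A F = PrimeSpectrum.zeroLocus (J : Set A) ∧ ∀ i : ℕ, i < n → Subsingleton (Abelian.Ext (ModuleCat.of A F) (ModuleCat.of A G) i)) := by
  refine ⟨⟨fun h F _ _ _ hF i hi => ?_, fun h i hi => ?_⟩, ⟨fun h => ?_, ?_⟩⟩
  · exact Goren.kills_one_iff.1 (LocCoh.kills_finite (LocCoh.Vn_of_H n h) F hF hi)
  · refine LocCoh.H_of_Vn (n := n) ?_ hi
    exact fun p hp j hj => Goren.kills_one_iff.2 (h (A ⧸ p.asIdeal) inferInstance
      (LocCoh.support_quotient_subset fun q hq => hp.trans hq) j hj)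
  · refine ⟨A ⧸ J, inferInstance, inferInstance, inferInstance, ?_, fun i hi => ?_⟩
    · rw [Module.support_eq_zeroLocus, Ideal.annihilator_quotient]
    · exact Goren.kills_one_iff.1 (LocCoh.kills_finite (LocCoh.Vn_of_H n h) _
        (LocCoh.support_quotient_subset fun q hq => hq) hi)
  · rintro ⟨F, _, _, hfin, hF, h⟩ i hi
    exact LocCoh.H_of_Vn (LocCoh.Vn_of_module n F hF h) hi

end Groth.Agent.S5162
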