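import Groth.Statements.S5163
import Mathlib.RingTheory.Regular.LinearMap
import Mathlib.RingTheory.Support

set_option autoImplicit false
universe u
open LocCoh

namespace Groth.Agent.S5163

/-- For modules over a Noetherian ring. Let P be a finite A-module and H any A-module with Supp H ⊆ Supp
P. If Hom_A(P, H) = 0 then H = 0. (The published lemma is stated over an arbitrary prescheme; its
proof uses that a nonzero module has an associated prime, so the ring is taken Noetherian here.) -/
theorem result (A : Type u) [CommRing A] [IsNoetherianRing A] (P H : Type u) [AddCommGroup P] [Module A P] [Module.Finite A P] [AddCommGroup H] [Module A H] (hsupp : Module.support A H ⊆ Module.support A P) (hhom : Subsingleton (P →ₗ[A] H)) : Subsingleton H := by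
  refine subsingleton_of_forall_eq 0 fun h => by_contra fun hne => ?_
  let N : Submodule A H := Submodule.span A {h}
  haveI : Subsingleton (P →ₗ[A] N) := ⟨fun f g => LinearMap.ext fun x =>
    N.subtype_injective (LinearMap.congr_fun (Subsingleton.elim (N.subtype ∘ₗ f) (N.subtype ∘ₗ g)) x)⟩
  obtain ⟨r, hr, hreg⟩ := IsSMulRegular.subsingleton_linearMap_iff.1 this
  let n : N := ⟨h, Submodule.mem_span_singleton_self h⟩
  have hrad : r ∈ (Submodule.span A {h}).annihilator.radical := by
    rw [Ideal.radical_eq_sInf]
    refine Submodule.mem_sInf.2 fun J hJ => ?_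
    have hp : (⟨J, hJ.2⟩ : PrimeSpectrum A) ∈ Module.support A H :=
      Module.mem_support_iff'.2 ⟨h, fun t ht htm => ht (hJ.1 ((Submodule.mem_annihilator_span_singleton _ _).2 htm))⟩
    obtain ⟨x, hx⟩ := Module.mem_support_iff'.1 (hsupp hp)
    by_contra hrJ
    exact hx r hrJ (Module.mem_annihilator.1 hr x)
  obtain ⟨k, hk⟩ := hrad
  have h0 : r ^ k • n = 0 := Subtype.ext ((Submodule.mem_annihilator_span_singleton _ _).1 hk)
  exact hne (congrArg Subtype.val (hreg.pow k (h0.trans (smul_zero _).symm)))

end Groth.Agent.S5163
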