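import Groth.Statements.S5166
import Groth.Agent.S11652
import Mathlib.RingTheory.Ideal.Height

set_option autoImplicit false
universe u
open LocCoh

namespace Groth.Agent.S5166

/-- In its local form at a point y ∈ Y (A = O_{X,y}). Let A be a Noetherian local ring and I ≠ A an
ideal contained in no minimal prime of A. Then some prime p ⊉ I has dim A/p = 1. -/
theorem result (A : Type u) [CommRing A] [IsLocalRing A] [IsNoetherianRing A] (I : Ideal A) (hI : I ≠ ⊤) (hdense : ∀ q ∈ minimalPrimes A, ¬ I ≤ q) : ∃ p : PrimeSpectrum A, ¬ I ≤ p.asIdeal ∧ ringKrullDim (A ⧸ p.asIdeal) = 1 := by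
  classical
  obtain ⟨q₀, hq₀⟩ := (Ideal.nonempty_minimalPrimes (I := (⊥ : Ideal A)) bot_ne_top)
  haveI := hq₀.1.1
  obtain ⟨p, hp, hmax⟩ := (InvImage.wf PrimeSpectrum.asIdeal (wellFounded_gt (α := Ideal A))).has_min {p | ¬ I ≤ p.asIdeal}
    ⟨⟨q₀, hq₀.1.1⟩, hdense q₀ hq₀⟩
  refine ⟨p, hp, ?_⟩
  let m := IsLocalRing.maximalIdeal A
  have hlt : p.asIdeal < m := lt_of_le_of_ne (IsLocalRing.le_maximalIdeal p.2.ne_top)
    fun h => hp (h.symm ▸ IsLocalRing.le_maximalIdeal hI)
  obtain ⟨a, haI, hap⟩ := SetLike.not_le_iff_exists.1 hp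
  haveI : IsLocalRing (A ⧸ p.asIdeal) := IsLocalRing.of_surjective' (Ideal.Quotient.mk _) Ideal.Quotient.mk_surjective
  have hmap : m.map (Ideal.Quotient.mk p.asIdeal) = IsLocalRing.maximalIdeal _ :=
    IsLocalRing.map_maximalIdeal_of_surjective _ Ideal.Quotient.mk_surjective
  rw [← IsLocalRing.maximalIdeal_height_eq_ringKrullDim, ← hmap]
  have h1 : ¬ 1 < (m.map (Ideal.Quotient.mk p.asIdeal)).height := fun hh => by
    obtain ⟨t, ht, hpt, -, hat⟩ := Groth.Agent.S11652.result A p.asIdeal m hlt hh a (IsLocalRing.le_maximalIdeal hI haI) hap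
    exact hmax ⟨t, ht⟩ (fun h => hat (h haI)) (show p.asIdeal < t from hpt)
  have h0 : (m.map (Ideal.Quotient.mk p.asIdeal)).height ≠ 0 := fun h => by
    have hne : (⊥ : Ideal (A ⧸ p.asIdeal)) < m.map (Ideal.Quotient.mk p.asIdeal) := bot_lt_iff_ne_bot.2 fun he =>
      hlt.not_ge (by rw [Ideal.map_eq_bot_iff_le_ker, Ideal.mk_ker] at he; exact he)
    rw [hmap] at hne h
    have := Ideal.height_strict_mono_of_isPrime hne
    rw [h] at this
    simp at this
  have : (m.map (Ideal.Quotient.mk p.asIdeal)).height = 1 :=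
    le_antisymm (not_lt.1 h1) (Order.one_le_iff_pos.2 (pos_iff_ne_zero.2 h0))
  rw [this]; rfl

end Groth.Agent.S5166
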