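import Groth.Statements.S5171
import Groth.Agent.LocCoh.ExtCriterion
import Groth.Agent.IdealDepth.CM

set_option autoImplicit false
universe u
open LocCoh

namespace Groth.Agent.S5171

open CategoryTheory CategoryTheory.Abelian

/-- Let A be a Noetherian ring, J an ideal, n ≥ 0 and G a finite Cohen–Macaulay A-module (each
localization G_p is zero or Cohen–Macaulay). Then H^i_J(G) = 0 for i < n if and only if codim(V(J) ∩
Supp G, Supp G) ≥ n, i.e. dim Supp(G_p) ≥ n for every p ∈ V(J) ∩ Supp G. -/
theorem result (A : Type u) [CommRing A] [IsNoetherianRing A] (J : Ideal A) (G : Type u) [AddCommGroup G] [Module A G] [Module.Finite A G] (hCM : ∀ p : PrimeSpectrum A, Subsingleton (LocalizedModule p.asIdeal.primeCompl G) ∨ LocCoh.IsCohenMacaulayModule (Localization.AtPrime p.asIdeal) (LocalizedModule p.asIdeal.primeCompl G)) (n : ℕ) : (∀ i : ℕ, i < n → Subsingleton (LocCoh.H J i G)) ↔ ∀ p : PrimeSpectrum A, J ≤ p.asIdeal → p ∈ Module.support A G → (n : WithBot ℕ∞) ≤ Module.supportDim (Localization.AtPrime p.asIdeal) (LocalizedModule p.asIdeal.primeCompl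 G) := by
  have key : (∀ i : ℕ, i < n → Subsingleton (LocCoh.H J i G)) ↔ (n : ℕ∞) ≤ LocCoh.idealDepth J G := by
    rw [IdealDepth.natCast_le_iff_ext]
    constructor
    · intro h i hi
      have := Groth.Agent.LocCoh.kills_finite (Groth.Agent.LocCoh.Vn_of_H n h) (A ⧸ J)
        (Groth.Agent.LocCoh.support_quotient_subset fun p hp => hp) hi
      exact subsingleton_of_forall_eq 0 fun ξ => (one_smul A ξ).symm.trans (this ξ)
    · intro h i hi
      exact Groth.Agent.LocCoh.H_of_Vn (Groth.Agent.LocCoh.Vn_of_module n (A ⧸ J)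
        (by rw [Module.support_eq_zeroLocus, Ideal.annihilator_quotient]) h) hi
  rw [key, IdealDepth.idealDepth_eq_iInf, le_iInf₂_iff]
  constructor
  · intro h p hp hsupp
    rcases hCM p with hs | hc
    · exact absurd hs (not_subsingleton_iff_nontrivial.2 hsupp)
    · rw [show Module.supportDim _ _ = _ from hc]
      exact_mod_cast h p hp
  · intro h p hp
    rcases hCM p with hs | hc
    · rw [show LocCoh.depth _ _ = (⊤ : ℕ∞) from if_pos (Subsingleton.elim _ _)]
      exact le_top
    · have hsupp : p ∈ Module.support A G := IdealDepth.nontrivial_of_cm hc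
      have := h p hp hsupp
      rw [show Module.supportDim _ _ = _ from hc] at this
      exact_mod_cast this

end Groth.Agent.S5171
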