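import Groth.Statements.S5208
import Mathlib.CategoryTheory.EpiMono
import Mathlib.CategoryTheory.Limits.Shapes.Pullback.HasPullback

set_option autoImplicit false
open CategoryTheory CategoryTheory.Limits
universe w v₁ u₁
open DescCat

namespace Groth.Agent.S5208

/-- The strong form established in its proof: if `u : T ⟶ S` admits a section and `T ×_S T` exists, then
for every presheaf of sets `F` the diagram `F(S) → F(T) ⇉ F(T ×_S T)` is exact. In particular `u` is
an effective epimorphism. -/
theorem result {C : Type u₁} [Category.{v₁} C]
    {T S : C} (u : T ⟶ S) [IsSplitEpi u] [HasPullback u u] (F : Cᵒᵖ ⥤ Type w) :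
    Function.Injective (F.map u.op) ∧
      ∀ y : F.obj (Opposite.op T),
        F.map (pullback.fst u u).op y = F.map (pullback.snd u u).op y →
          y ∈ Set.range (F.map u.op) := by
  have hs : section_ u ≫ u = 𝟙 S := IsSplitEpi.id u
  refine ⟨fun a b h => ?_, fun y hy => ⟨F.map (section_ u).op y, ?_⟩⟩
  · have := congrArg (F.map (section_ u).op) h
    simpa [← ConcreteCategory.comp_apply, ← Functor.map_comp, ← op_comp, hs] using this
  · have h := congrArg (F.map (pullback.lift (𝟙 T) (u ≫ section_ u) (by simp [hs])).op) hy
    simp only [← ConcreteCategory.comp_apply, ← Functor.map_comp, ← op_comp, pullback.lift_fst, pullback.lift_snd] at h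
    simp [← ConcreteCategory.comp_apply, ← Functor.map_comp, ← op_comp, ← h]

end Groth.Agent.S5208
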