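import Groth.Statements.S5209
import Mathlib
import Groth.Agent.DescCat.EffEpi

set_option autoImplicit false
open CategoryTheory CategoryTheory.Limits
universe w v₁ u₁
open DescCat

namespace Groth.Agent.S5209

open CategoryTheory CategoryTheory.Limits Groth.Agent.DescCat.EffEpi

/-- In a category with pullbacks, let `f : S' ⟶ S` be a universal effective epimorphism, that is, a
morphism all of whose base changes are effective epimorphisms. Then a morphism `g` over `S` is an
isomorphism (resp. a monomorphism) if and only if its base change along `f` is. -/
theorem result {C : Type u₁} [Category.{v₁} C] [HasPullbacks C]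
    {S' S : C} (f : S' ⟶ S) (hf : (MorphismProperty.universally (fun (A B : C) (p : A ⟶ B) => EffectiveEpi p)) f) {X Y : Over S} (g : X ⟶ Y) :
    (IsIso g ↔ IsIso ((Over.pullback f).map g)) ∧ (Mono g ↔ Mono ((Over.pullback f).map g)) := by
  set g' := (Over.pullback f).map g with hg'
  have hfst : g'.left ≫ pullback.fst Y.hom f = pullback.fst X.hom f ≫ g.left := by
    simp [hg', Over.pullback, pullback.lift_fst]
  have key : Mono g' → Mono g := fun hm => by
    refine ⟨fun {Z} a b hab => Over.OverMorphism.ext ?_⟩
    haveI := UEE.effective (UEE.baseChange' hf Z.hom)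
    rw [← cancel_epi (pullback.fst Z.hom f)]
    have e := congrArg (Over.pullback f).map hab
    rw [Functor.map_comp, Functor.map_comp, ← hg', cancel_mono] at e
    have e' := congrArg (fun t => t.left ≫ pullback.fst X.hom f) e
    simpa [Over.pullback, pullback.lift_fst] using e'
  refine ⟨⟨fun h => by rw [hg']; infer_instance, fun h => ?_⟩, ⟨fun h => inferInstance, key⟩⟩
  haveI := key inferInstance
  haveI : Mono g.left := inferInstance
  haveI : IsIso g'.left := inferInstanceAs (IsIso ((Over.forget _).map g'))
  haveI : UEE (pullback.fst Y.hom f) → EffectiveEpi g.left := fun hp => by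
    refine effectiveEpi_of_comp (inv g'.left ≫ pullback.fst X.hom f) g.left ?_
    erw [Category.assoc, ← hfst, IsIso.inv_hom_id_assoc]
    exact hp
  haveI := this (UEE.baseChange' hf Y.hom)
  haveI : IsIso g.left := isIso_of_mono_of_effectiveEpi g.left
  haveI : IsIso ((Over.forget S).map g) := inferInstanceAs (IsIso g.left)
  exact isIso_of_reflects_iso g (Over.forget S)

end Groth.Agent.S5209
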