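import Groth.Statements.S5210
import Mathlib
import Groth.Agent.DescCat.EffEpi

set_option autoImplicit false
open CategoryTheory CategoryTheory.Limits
universe w v₁ u₁
open DescCat

namespace Groth.Agent.S5210

open CategoryTheory CategoryTheory.Limits Groth.Agent.DescCat.EffEpi

/-- In a category with pullbacks, let `f : S' ⟶ S` be a universal effective epimorphism (all of its base
changes are effective epimorphisms) and `Y ⟶ S` a monomorphism. Then an object `X` over `S` admits a
morphism to `Y` over `S` if and only if it does so after base change along `f`. -/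
theorem result {C : Type u₁} [Category.{v₁} C] [HasPullbacks C]
    {S' S : C} (f : S' ⟶ S) (hf : (MorphismProperty.universally (fun (A B : C) (p : A ⟶ B) => EffectiveEpi p)) f) (X Y : Over S) [Mono Y.hom] :
    Nonempty (X ⟶ Y) ↔ Nonempty ((Over.pullback f).obj X ⟶ (Over.pullback f).obj Y) := by
  refine ⟨fun ⟨h⟩ => ⟨(Over.pullback f).map h⟩, fun ⟨h⟩ => ?_⟩
  haveI := UEE.effective (UEE.baseChange' hf X.hom)
  have hw : h.left ≫ pullback.fst Y.hom f ≫ Y.hom = pullback.fst X.hom f ≫ X.hom := by
    rw [pullback.condition, pullback.condition, ← Category.assoc]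
    exact congrArg (· ≫ f) (Over.w h)
  have hc : ∀ {Z : C} (g₁ g₂ : Z ⟶ pullback X.hom f), g₁ ≫ pullback.fst X.hom f = g₂ ≫ pullback.fst X.hom f →
      g₁ ≫ h.left ≫ pullback.fst Y.hom f = g₂ ≫ h.left ≫ pullback.fst Y.hom f := fun g₁ g₂ hg => by
    rw [← cancel_mono Y.hom]
    simp only [Category.assoc]
    rw [hw, reassoc_of% hg]
  refine ⟨Over.homMk (EffectiveEpi.desc _ _ hc) ?_⟩
  rw [← cancel_epi (pullback.fst X.hom f), ← Category.assoc, EffectiveEpi.fac, Category.assoc, hw]

end Groth.Agent.S5210
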