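import Groth.Statements.S5211
import Mathlib
import Groth.Agent.DescCat.EffEpi

set_option autoImplicit false
open CategoryTheory CategoryTheory.Limits
universe w v₁ u₁
open DescCat

namespace Groth.Agent.S5211

open CategoryTheory CategoryTheory.Limits Groth.Agent.DescCat.EffEpi

/-- In a category with pullbacks: if `f : S' ⟶ S` is a universal effective epimorphism and the canonical
map `S' ×_S S' ⟶ S' ×_T S'` induced by `g : S ⟶ T` is an isomorphism, then `g` is a monomorphism. -/
theorem result {C : Type u₁} [Category.{v₁} C] [HasPullbacks C]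
    {S' S T : C} (f : S' ⟶ S) (hf : (MorphismProperty.universally (fun (A B : C) (p : A ⟶ B) => EffectiveEpi p)) f) (g : S ⟶ T)
    [IsIso (pullback.mapDesc f f g)] : Mono g := by
  refine ⟨fun {Z} a b hab => ?_⟩
  obtain ⟨Z₁, p, a', hp, ha⟩ := exists_lift hf a
  obtain ⟨Z₂, q, b', hq, hb⟩ := exists_lift hf (p ≫ b)
  rw [← cancel_epi p, ← cancel_epi q, ← hb]
  let l : Z₂ ⟶ pullback (f ≫ g) (f ≫ g) := pullback.lift (q ≫ a') b' (by
    rw [Category.assoc, reassoc_of% ha, reassoc_of% hb, hab])
  have hl : ∀ m : Z₂ ⟶ pullback f f, m ≫ pullback.mapDesc f f g = l →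
      (q ≫ a') ≫ f = b' ≫ f := fun m hm => by
    have h1 : m ≫ pullback.fst f f = q ≫ a' := by
      have := hm =≫ pullback.fst _ _
      simpa [l, pullback.mapDesc, pullback.map, pullback.lift_fst, pullback.lift_snd] using this
    have h2 : m ≫ pullback.snd f f = b' := by
      have := hm =≫ pullback.snd _ _
      simpa [l, pullback.mapDesc, pullback.map, pullback.lift_fst, pullback.lift_snd] using this
    rw [← h1, ← h2, Category.assoc, Category.assoc, pullback.condition]
  have := hl (l ≫ inv (pullback.mapDesc f f g)) (by rw [Category.assoc, IsIso.inv_hom_id, Category.comp_id])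
  rwa [Category.assoc, ha] at this

end Groth.Agent.S5211
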