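import Groth.Statements.S5212
import Mathlib

set_option autoImplicit false
universe u
open GrpQ

namespace Groth.Agent.S5212

/-- For `A'` finite and free as an `A`-module, a prime `p` of `A` and `a ∈ A'`, the element `a` belongs
to some prime of `A'` lying over `p` if and only if its norm belongs to `p`. (The published
statement allows `A'` projective of constant rank over `A`; this row takes `A'` free, where the norm
is the determinant of multiplication.) -/
theorem result {A A' : Type u} [CommRing A] [CommRing A'] [Algebra A A']
    [Module.Free A A'] [Module.Finite A A'] (p : Ideal A) [p.IsPrime] (a : A') :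
    (∃ q : Ideal A', q.IsPrime ∧ q.LiesOver p ∧ a ∈ q) ↔ Algebra.norm A a ∈ p := by
  let T := p.Fiber A'
  let j : A' →ₐ[A] T := Algebra.TensorProduct.includeRight
  have h1 : (∃ q : Ideal A', q.IsPrime ∧ q.LiesOver p ∧ a ∈ q) ↔ ¬ IsUnit (j a) := by
    constructor
    · rintro ⟨q, hq, hqp, haq⟩ hu
      let Q := PrimeSpectrum.primesOverOrderIsoFiber A A' p ⟨q, hq, hqp⟩
      have : q = Q.asIdeal.comap j := by
        rw [← PrimeSpectrum.coe_primesOverOrderIsoFiber_symm_apply]
        simp [Q]
      rw [this] at haq
      exact Q.isPrime.ne_top (Ideal.eq_top_of_isUnit_mem _ haq hu)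
    · intro hu
      obtain ⟨M, hM, haM⟩ := Ideal.exists_le_maximal _ (mt Ideal.span_singleton_eq_top.1 hu)
      let q := (PrimeSpectrum.primesOverOrderIsoFiber A A' p).symm ⟨M, hM.isPrime⟩
      refine ⟨q.1, q.2.1, q.2.2, ?_⟩
      rw [PrimeSpectrum.coe_primesOverOrderIsoFiber_symm_apply]
      exact haM (Ideal.mem_span_singleton_self _)
  have h2 : IsUnit (j a) ↔ IsUnit (algebraMap A p.ResidueField (Algebra.norm A a)) := by
    rw [Algebra.norm_apply, ← LinearMap.det_baseChange (A := p.ResidueField), ← LinearMap.isUnit_iff_isUnit_det]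
    have e : (Algebra.lmul A A' a).baseChange p.ResidueField = Algebra.lmul p.ResidueField T (j a) := by
      refine TensorProduct.AlgebraTensorModule.ext fun x y => ?_
      simp [j, T]
    rw [e]
    constructor
    · exact fun h => h.map _
    · intro h
      obtain ⟨y, hy⟩ := ((Module.End.isUnit_iff _).1 h).2 1
      exact IsUnit.of_mul_eq_one y hy
  rw [h1, h2, isUnit_iff_ne_zero, not_not, ← RingHom.mem_ker, Ideal.ker_algebraMap_residueField]

end Groth.Agent.S5212
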