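import Groth.Statements.S5214
import Mathlib
import Groth.Agent.DescCat.EffEpi

set_option autoImplicit false
open CategoryTheory CategoryTheory.Limits
universe w v₁ u₁
open DescCat

namespace Groth.Agent.S5214

open CategoryTheory CategoryTheory.Limits Groth.Agent.DescCat.EffEpi

/-- In a category with pullbacks and binary products: the product `u × u'` of two universal effective
epimorphisms (morphisms all of whose base changes are effective epimorphisms) is a universal
effective epimorphism. -/
theorem result {C : Type u₁} [Category.{v₁} C] [HasPullbacks C] [HasBinaryProducts C]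
    {X Y X' Y' : C} (u : X ⟶ Y) (u' : X' ⟶ Y')
    (hu : (MorphismProperty.universally (fun (A B : C) (p : A ⟶ B) => EffectiveEpi p)) u) (hu' : (MorphismProperty.universally (fun (A B : C) (p : A ⟶ B) => EffectiveEpi p)) u') :
    (MorphismProperty.universally (fun (A B : C) (p : A ⟶ B) => EffectiveEpi p)) (prod.map u u') := by
  have h1 : IsPullback (prod.map u (𝟙 X')) (prod.fst : X ⨯ X' ⟶ X) (prod.fst : Y ⨯ X' ⟶ Y) u := by
    refine IsPullback.of_isLimit (c := PullbackCone.mk (prod.map u (𝟙 X')) prod.fst (prod.map_fst u (𝟙 X'))) (PullbackCone.IsLimit.mk (prod.map_fst u (𝟙 X')) (fun s => prod.lift s.snd (s.fst ≫ prod.snd)) (fun s => ?_) (fun s => prod.lift_fst _ _) ?_)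
    · apply prod.hom_ext <;> simp [s.condition, prod.lift_fst, prod.lift_snd, prod.lift_fst_assoc, prod.lift_snd_assoc]
    · intro s m hm1 hm2
      apply prod.hom_ext
      · simp [hm2, prod.lift_fst, prod.lift_snd]
      · simp [← hm1, prod.lift_fst, prod.lift_snd]
  have h2 : IsPullback (prod.map (𝟙 Y) u') (prod.snd : Y ⨯ X' ⟶ X') (prod.snd : Y ⨯ Y' ⟶ Y') u' := by
    refine IsPullback.of_isLimit (c := PullbackCone.mk (prod.map (𝟙 Y) u') prod.snd (prod.map_snd (𝟙 Y) u')) (PullbackCone.IsLimit.mk (prod.map_snd (𝟙 Y) u') (fun s => prod.lift (s.fst ≫ prod.fst) s.snd) (fun s => ?_) (fun s => prod.lift_snd _ _) ?_)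
    · apply prod.hom_ext <;> simp [s.condition, prod.lift_fst, prod.lift_snd, prod.lift_fst_assoc, prod.lift_snd_assoc]
    · intro s m hm1 hm2
      apply prod.hom_ext
      · simp [← hm1, prod.lift_fst, prod.lift_snd]
      · simp [hm2, prod.lift_fst, prod.lift_snd]
  have e : prod.map u u' = prod.map u (𝟙 X') ≫ prod.map (𝟙 Y) u' := by
    apply prod.hom_ext <;> simp [prod.lift_fst, prod.lift_snd, prod.lift_fst_assoc, prod.lift_snd_assoc]
  rw [e]
  exact UEE.comp (MorphismProperty.of_isPullback h1.flip hu) (MorphismProperty.of_isPullback h2.flip hu')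

end Groth.Agent.S5214
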