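import Groth.Statements.S5215
import Mathlib
import Groth.Agent.DescCat.EffEpi

set_option autoImplicit false
open CategoryTheory CategoryTheory.Limits
universe w v₁ u₁
open DescCat

namespace Groth.Agent.S5215

open CategoryTheory CategoryTheory.Limits Groth.Agent.DescCat.EffEpi

/-- In a category with pullbacks: for a universally effective equivalence relation `p₁, p₂ : R ⇉ X` with
quotient map `π : X ⟶ X/R` and a morphism `g` out of the quotient, `g` is a monomorphism if and only
if `R` is the kernel pair of `π ≫ g`. -/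
theorem result {C : Type u₁} [Category.{v₁} C] [HasPullbacks C]
    {R X Z : C} {p₁ p₂ : R ⟶ X} (e : UniversallyEffectiveEquivalenceRelation p₁ p₂)
    (f : X ⟶ Z) (g : e.B ⟶ Z) (hg : e.π ≫ g = f) :
    Mono g ↔ IsKernelPair f p₁ p₂ := by
  subst hg
  refine ⟨fun hm => e.isKernelPair.comp_of_mono (f₂ := g), fun hk => ⟨fun {Z} a b hab => ?_⟩⟩
  obtain ⟨Z₁, p, a', hp, ha⟩ := exists_lift e.universally_effectiveEpi_π a
  obtain ⟨Z₂, q, b', hq, hb⟩ := exists_lift e.universally_effectiveEpi_π (p ≫ b)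
  rw [← cancel_epi p, ← cancel_epi q, ← hb]
  obtain ⟨l, hl1, hl2⟩ : ∃ l, l ≫ p₁ = q ≫ a' ∧ l ≫ p₂ = b' :=
    ⟨hk.lift (q ≫ a') b' (by rw [Category.assoc, reassoc_of% ha, reassoc_of% hb, hab]),
      hk.lift_fst _ _ _, hk.lift_snd _ _ _⟩
  rw [← ha, ← hl2, ← Category.assoc, ← hl1, Category.assoc, Category.assoc, e.isKernelPair.w]

end Groth.Agent.S5215
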