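import Mathlib.CategoryTheory.EquivalenceRelation
import Mathlib.CategoryTheory.Functor.RegularEpi
import Mathlib.CategoryTheory.EffectiveEpi.Preserves
import Mathlib.CategoryTheory.Limits.Types.Pullbacks
import Mathlib.CategoryTheory.Limits.FunctorCategory.EpiMono
import Mathlib.CategoryTheory.Limits.FunctorCategory.Shapes.Pullbacks

/-!
Equivalence relations of presheaves of sets are universally effective.
-/

set_option autoImplicit false

open CategoryTheory CategoryTheory.Limits

universe w v₁ u₁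

namespace Groth.Agent.S5216_Aux

variable {C : Type u₁} [Category.{v₁} C] {R X : C ⥤ Type w} (p₁ p₂ : R ⟶ X)

/-- pairs of elements with prescribed equalities -/
def pairs (A B : ∀ (U : C), R.obj U → R.obj U → Prop)
    (hA : ∀ {U V : C} (f : U ⟶ V) r r', A U r r' → A V (R.map f r) (R.map f r')) : C ⥤ Type w where
  obj U := {rr : R.obj U × R.obj U // A U rr.1 rr.2}
  map f := ↾(fun rr => ⟨(R.map f rr.1.1, R.map f rr.1.2), hA f _ _ rr.2⟩)
  map_id U := by ext ⟨⟨r, r'⟩, h⟩ <;> simp
  map_comp f g := by ext ⟨⟨r, r'⟩, h⟩ <;> simp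

theorem main [h : IsEquivalenceRelation p₁ p₂] : IsUniversallyEffectiveEquivalenceRelation p₁ p₂ := by
  obtain ⟨e⟩ := h.nonempty_equivalenceRelation
  let A : ∀ (U : C), R.obj U → R.obj U → Prop := fun U r r' => p₁.app U r = p₁.app U r' ∧ p₂.app U r = p₂.app U r'
  let K := pairs A A (fun {U V} f r r' hr => ⟨by
    rw [NatTrans.naturality_apply, NatTrans.naturality_apply, hr.1], by
    rw [NatTrans.naturality_apply, NatTrans.naturality_apply, hr.2]⟩)
  let k₁ : K ⟶ R := { app := fun U => ↾(fun rr => rr.1.1), naturality := fun U V f => rfl }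
  let k₂ : K ⟶ R := { app := fun U => ↾(fun rr => rr.1.2), naturality := fun U V f => rfl }
  have inj : ∀ U (r r' : R.obj U), p₁.app U r = p₁.app U r' → p₂.app U r = p₂.app U r' → r = r' := fun U r r' h1 h2 => by
    have hk := e.right_cancellation k₁ k₂ (by ext V x; exact x.2.1) (by ext V x; exact x.2.2)
    exact ConcreteCategory.congr_hom (NatTrans.congr_app hk U) ⟨(r, r'), h1, h2⟩
  let B : ∀ (U : C), R.obj U → R.obj U → Prop := fun U r r' => p₂.app U r = p₁.app U r'
  let P := pairs B B (fun {U V} f r r' hr => by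
    show p₂.app V (R.map f r) = p₁.app V (R.map f r')
    rw [NatTrans.naturality_apply, NatTrans.naturality_apply, show p₂.app U r = p₁.app U r' from hr])
  let q₁ : P ⟶ R := { app := fun U => ↾(fun rr => rr.1.1), naturality := fun U V f => rfl }
  let q₂ : P ⟶ R := { app := fun U => ↾(fun rr => rr.1.2), naturality := fun U V f => rfl }
  obtain ⟨l, hl₁, hl₂⟩ := PullbackCone.IsLimit.lift' e.isLimit q₁ q₂ (by ext U x; exact x.2)
  let rel : ∀ U, X.obj U → X.obj U → Prop := fun U a b => ∃ r, p₁.app U r = a ∧ p₂.app U r = b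
  have eqv : ∀ U, Equivalence (rel U) := fun U =>
    ⟨fun a => ⟨e.r.app U a, ConcreteCategory.congr_hom (NatTrans.congr_app e.reflexivity₁ U) a,
      ConcreteCategory.congr_hom (NatTrans.congr_app e.reflexivity₂ U) a⟩,
    fun {a b} ⟨r, hr₁, hr₂⟩ => ⟨e.s.app U r, (ConcreteCategory.congr_hom (NatTrans.congr_app e.symmetry₁ U) r).trans hr₂,
      (ConcreteCategory.congr_hom (NatTrans.congr_app e.symmetry₂ U) r).trans hr₁⟩,
    fun {a b c} ⟨r, hr₁, hr₂⟩ ⟨r', hr₁', hr₂'⟩ => by
      have hB : p₂.app U r = p₁.app U r' := hr₂.trans hr₁'.symm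
      refine ⟨(l ≫ e.t).app U ⟨(r, r'), hB⟩, ?_, ?_⟩
      · have : (l ≫ e.t) ≫ p₁ = q₁ ≫ p₁ := by rw [Category.assoc, e.transitivity₁, ← Category.assoc, hl₁]
        exact (ConcreteCategory.congr_hom (NatTrans.congr_app this U) ⟨(r, r'), hB⟩).trans hr₁
      · have : (l ≫ e.t) ≫ p₂ = q₂ ≫ p₂ := by rw [Category.assoc, e.transitivity₂, ← Category.assoc, hl₂]
        exact (ConcreteCategory.congr_hom (NatTrans.congr_app this U) ⟨(r, r'), hB⟩).trans hr₂'⟩
  let Q : C ⥤ Type w :=
    { obj := fun U => Quot (rel U)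
      map := fun {U V} f => ↾(Quot.map (fun a => X.map f a) fun a b ⟨r, hr₁, hr₂⟩ =>
        ⟨R.map f r, by rw [NatTrans.naturality_apply, hr₁], by rw [NatTrans.naturality_apply, hr₂]⟩)
      map_id := fun U => by
        ext z
        induction z using Quot.ind with
        | _ a => exact congrArg (Quot.mk _) (by simp)
      map_comp := fun {U V W} f g => by
        ext z
        induction z using Quot.ind with
        | _ a => exact congrArg (Quot.mk _) (by simp) }
  let π : X ⟶ Q := { app := fun U => ↾(fun a => Quot.mk _ a), naturality := fun U V f => rfl }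
  have w : p₁ ≫ π = p₂ ≫ π := by ext U r; exact Quot.sound ⟨r, rfl, rfl⟩
  have hker : IsPullback p₁ p₂ π π := IsPullback.of_forall_isPullback_app fun U => by
    refine (Types.isPullback_iff _ _ _ _).2 ⟨congrArg (fun q => q.app U) w, fun r r' hr => inj U r r' hr.1 hr.2, fun a b hab => ?_⟩
    exact ((eqv U).eqvGen_iff).1 (Quot.eqvGen_exact hab)
  have desc : ∀ {Z : C ⥤ Type w} (h : X ⟶ Z), p₁ ≫ h = p₂ ≫ h → ∃ d : Q ⟶ Z, π ≫ d = h := fun {Z} h hh => by
    refine ⟨{ app := fun U => ↾(Quot.lift (fun a => h.app U a) fun a b ⟨r, hr₁, hr₂⟩ => ?_), naturality := fun U V f => ?_ }, ?_⟩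
    · rw [← hr₁, ← hr₂]; exact ConcreteCategory.congr_hom (NatTrans.congr_app hh U) r
    · ext z
      induction z using Quot.ind with
      | _ a => exact NatTrans.naturality_apply h f a
    · ext U a; rfl
  have hepi : ∀ {Z : C ⥤ Type w} (a b : Q ⟶ Z), π ≫ a = π ≫ b → a = b := fun a b hab => by
    ext U z
    induction z using Quot.ind with
    | _ x => exact ConcreteCategory.congr_hom (NatTrans.congr_app hab U) x
  have diag : ∀ {Z : C ⥤ Type w} (a b : X ⟶ Z), p₁ ≫ a = p₂ ≫ b → a = b := fun a b hab => by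
    have := congrArg (e.r ≫ ·) hab
    simpa using this
  have po : IsPushout p₁ p₂ π π := by
    refine IsPushout.of_isColimit' ⟨w⟩ (PushoutCocone.IsColimit.mk w
      (fun s => (desc s.inl (by rw [s.condition, diag _ _ s.condition])).choose)
      (fun s => (desc s.inl (by rw [s.condition, diag _ _ s.condition])).choose_spec)
      (fun s => ((desc s.inl (by rw [s.condition, diag _ _ s.condition])).choose_spec).trans (diag _ _ s.condition))
      fun s m hm _ => hepi _ _ (hm.trans (desc s.inl (by rw [s.condition, diag _ _ s.condition])).choose_spec.symm))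
  refine ⟨⟨{ toEquivalenceRelation := e, B := Q, π := π, isKernelPair := hker, isPushout := po,
             universally_effectiveEpi_π := fun P Y i₁ i₂ f sq => ?_ }⟩⟩
  haveI : ∀ U, Epi (f.app U) := fun U => by
    rw [epi_iff_surjective]
    intro y
    obtain ⟨a, ha⟩ := Quot.exists_rep (i₂.app U y)
    obtain ⟨z, hz₁, hz₂⟩ := Types.exists_of_isPullback (sq.map ((evaluation C (Type w)).obj U)) y a ha.symm
    exact ⟨z, hz₁⟩
  haveI : Epi f := NatTrans.epi_of_epi_app f
  exact (IsRegularEpiCategory.regularEpiOfEpi f).regularEpi.some.effectiveEpi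

end Groth.Agent.S5216_Aux
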