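import Groth.Statements.S5222
import Mathlib
import Groth.Agent.DescCat.EffEpi

set_option autoImplicit false
open CategoryTheory CategoryTheory.Limits MonoidalCategory
universe v₁ u₁
open DescCat

namespace Groth.Agent.S5222

open CategoryTheory CategoryTheory.Limits Groth.Agent.DescCat.EffEpi
open MonObj CartesianMonoidalCategory SemiCartesianMonoidalCategory

open MonObj CartesianMonoidalCategory SemiCartesianMonoidalCategory in
/-- In a cartesian monoidal category with pullbacks: for a homomorphism `f : G ⟶ G'` of group objects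
with kernel `K = G ×_{G'} e`, the pair `G × K ⇉ G` given by the projection and by multiplication is
the kernel pair of `f`. -/
theorem result {C : Type u₁} [Category.{v₁} C]
    [CartesianMonoidalCategory C] [HasPullbacks C]
    {G G' : C} [GrpObj G] [GrpObj G'] (f : G ⟶ G') [IsMonHom f] :
    IsKernelPair f (fst G (pullback f η[G']))
      ((G ◁ pullback.fst f η[G']) ≫ μ[G]) := by
  open MonoidalCategory MonObj GrpObj CartesianMonoidalCategory SemiCartesianMonoidalCategory in
  have hk : pullback.fst f η[G'] ≫ f = 1 := by
    rw [pullback.condition, Hom.one_def]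
    congr 1
    exact toUnit_unique _ _
  open MonoidalCategory MonObj GrpObj CartesianMonoidalCategory SemiCartesianMonoidalCategory in
  have hμ : ∀ {Z : C} (m : Z ⟶ G ⊗ pullback f η[G']),
      m ≫ (G ◁ pullback.fst f η[G']) ≫ μ[G] = (m ≫ fst _ _) * (m ≫ snd _ _ ≫ pullback.fst f η[G']) := by
    intro Z m
    rw [Hom.mul_def, ← Category.assoc]
    congr 1
    ext <;> simp
  open MonoidalCategory MonObj GrpObj CartesianMonoidalCategory SemiCartesianMonoidalCategory in
  have hw : fst G (pullback f η[G']) ≫ f = ((G ◁ pullback.fst f η[G']) ≫ μ[G]) ≫ f := by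
    rw [← Category.id_comp ((G ◁ pullback.fst f η[G']) ≫ μ[G]), hμ, MonObj.mul_comp, Category.id_comp,
      Category.id_comp, Category.assoc, hk, MonObj.comp_one, _root_.mul_one]
  open MonoidalCategory MonObj GrpObj CartesianMonoidalCategory SemiCartesianMonoidalCategory in
  have hl : ∀ s : PullbackCone f f, (s.fst⁻¹ * s.snd) ≫ f = toUnit s.pt ≫ η[G'] := fun s => by
    rw [MonObj.mul_comp, GrpObj.inv_comp, s.condition, inv_mul_cancel, Hom.one_def]
  open MonoidalCategory MonObj GrpObj CartesianMonoidalCategory SemiCartesianMonoidalCategory in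
  refine IsPullback.of_isLimit (c := PullbackCone.mk (fst G (pullback f η[G'])) ((G ◁ pullback.fst f η[G']) ≫ μ[G]) hw) (PullbackCone.IsLimit.mk hw
    (fun s => lift s.fst (pullback.lift (s.fst⁻¹ * s.snd) (toUnit _) (hl s))) (fun s => lift_fst _ _) (fun s => ?_) ?_)
  · rw [hμ, lift_fst, lift_snd_assoc, pullback.lift_fst, mul_inv_cancel_left]
  · intro s m hm1 hm2
    refine CartesianMonoidalCategory.hom_ext _ _ (by rw [lift_fst]; exact hm1) ?_
    rw [lift_snd]
    apply pullback.hom_ext
    · rw [pullback.lift_fst, ← hm2, hμ, hm1, inv_mul_cancel_left, Category.assoc]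
    · exact toUnit_unique _ _

end Groth.Agent.S5222
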