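import Groth.Statements.S5229
import Mathlib
import Groth.Agent.DescCat.EffEpi

set_option autoImplicit false
open CategoryTheory CategoryTheory.Limits
universe v₁ u₁
open DescCat

namespace Groth.Agent.S5229

open CategoryTheory CategoryTheory.Limits Groth.Agent.DescCat.EffEpi

/-- For universal effective epimorphisms, in a category with pullbacks and binary products: for two
universally effective equivalence relations `R ⇉ X` and `R' ⇉ X'` with quotient maps `π` and `π'`,
the product relation `R × R' ⇉ X × X'` is the kernel pair of `π × π'`. (Together with the fact that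
a product of two universal effective epimorphisms is again one, this says that `(X × X')/(R × R')`
is `(X/R) × (X'/R')`; only the kernel-pair assertion is stated here.) -/
theorem result {C : Type u₁} [Category.{v₁} C]
    [HasPullbacks C] [HasBinaryProducts C]
    {R X R' X' : C} {p₁ p₂ : R ⟶ X} {p₁' p₂' : R' ⟶ X'}
    (e : UniversallyEffectiveEquivalenceRelation p₁ p₂)
    (e' : UniversallyEffectiveEquivalenceRelation p₁' p₂') :
    IsKernelPair (prod.map e.π e'.π) (prod.map p₁ p₁') (prod.map p₂ p₂') := by
  have hw : prod.map p₁ p₁' ≫ prod.map e.π e'.π = prod.map p₂ p₂' ≫ prod.map e.π e'.π := by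
    apply prod.hom_ext <;> simp [e.isKernelPair.w, e'.isKernelPair.w]
  have h1 : ∀ s : PullbackCone (prod.map e.π e'.π) (prod.map e.π e'.π), (s.fst ≫ prod.fst) ≫ e.π = (s.snd ≫ prod.fst) ≫ e.π := fun s => by
    have := s.condition =≫ prod.fst
    simpa using this
  have h2 : ∀ s : PullbackCone (prod.map e.π e'.π) (prod.map e.π e'.π), (s.fst ≫ prod.snd) ≫ e'.π = (s.snd ≫ prod.snd) ≫ e'.π := fun s => by
    have := s.condition =≫ prod.snd
    simpa using this
  refine IsPullback.of_isLimit (c := PullbackCone.mk (prod.map p₁ p₁') (prod.map p₂ p₂') hw) (PullbackCone.IsLimit.mk hw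
    (fun s => prod.lift (e.isKernelPair.lift _ _ (h1 s)) (e'.isKernelPair.lift _ _ (h2 s))) (fun s => ?_) (fun s => ?_) ?_)
  · apply prod.hom_ext <;> simp [prod.lift_fst, prod.lift_snd, prod.lift_fst_assoc, prod.lift_snd_assoc]
  · apply prod.hom_ext <;> simp [prod.lift_fst, prod.lift_snd, prod.lift_fst_assoc, prod.lift_snd_assoc]
  · intro s m hm1 hm2
    apply prod.hom_ext
    · rw [prod.lift_fst]
      apply IsPullback.hom_ext e.isKernelPair <;> simp [← hm1, ← hm2]
    · rw [prod.lift_snd]
      apply IsPullback.hom_ext e'.isKernelPair <;> simp [← hm1, ← hm2]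

end Groth.Agent.S5229
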