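import Groth.Statements.S5231
import Mathlib.CategoryTheory.Sites.Over

set_option autoImplicit false
open CategoryTheory
universe w v₁ u₁
open ShfCat

namespace Groth.Agent.S5231

/-- (iii) ⇒ (i): a morphism `f` of sheaves of sets on a site is a monomorphism (resp. an epimorphism) as
soon as, for every object `S`, the morphisms `T ⟶ S` over which the restriction of `f` to the
induced site `C/T` is a monomorphism (resp. an epimorphism) form a covering sieve. No sheafification
is assumed. (The published statement also treats isomorphisms in the same way; that case is left out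
here.) -/
theorem result {C : Type u₁} [Category.{v₁} C]
    (J : GrothendieckTopology C) {F G : Sheaf J (Type w)} (f : F ⟶ G) :
    ((∀ S : C, ∃ R : Sieve S, R ∈ J S ∧ ∀ ⦃T : C⦄ (g : T ⟶ S), R g →
        Mono ((J.overPullback (Type w) T).map f)) → Mono f) ∧
    ((∀ S : C, ∃ R : Sieve S, R ∈ J S ∧ ∀ ⦃T : C⦄ (g : T ⟶ S), R g →
        Epi ((J.overPullback (Type w) T).map f)) → Epi f) := by
  have key : ∀ {A B : Sheaf J (Type w)} (a b : A ⟶ B),
      (∀ S : C, ∃ R : Sieve S, R ∈ J S ∧ ∀ ⦃T : C⦄ (g : T ⟶ S), R g →
        (J.overPullback (Type w) T).map a = (J.overPullback (Type w) T).map b) → a = b := by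
    intro A B a b h
    ext ⟨S⟩ x
    obtain ⟨R, hR, hRg⟩ := h S
    refine ((isSheaf_iff_isSheaf_of_type J B.obj).1 B.property R hR).isSeparatedFor.ext fun T g hg => ?_
    refine (NatTrans.naturality_apply a.hom g.op x).symm.trans (Eq.trans ?_ (NatTrans.naturality_apply b.hom g.op x))
    exact ConcreteCategory.congr_hom (congrArg (fun (m : (J.overPullback (Type w) T).obj A ⟶ (J.overPullback (Type w) T).obj B) =>
      m.hom.app (Opposite.op (Over.mk (𝟙 T)))) (hRg g hg)) (A.obj.map g.op x)
  refine ⟨fun h => ⟨fun {H} a b hab => key a b fun S => ?_⟩, fun h => ⟨fun {H} a b hab => key a b fun S => ?_⟩⟩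
  · obtain ⟨R, hR, hRg⟩ := h S
    refine ⟨R, hR, fun T g hg => ?_⟩
    haveI := hRg g hg
    rw [← cancel_mono ((J.overPullback (Type w) T).map f), ← Functor.map_comp, ← Functor.map_comp, hab]
  · obtain ⟨R, hR, hRg⟩ := h S
    refine ⟨R, hR, fun T g hg => ?_⟩
    haveI := hRg g hg
    rw [← cancel_epi ((J.overPullback (Type w) T).map f), ← Functor.map_comp, ← Functor.map_comp, hab]

end Groth.Agent.S5231
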