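import Groth.Statements.S5235
import Mathlib.AlgebraicGeometry.Morphisms.Flat
import Mathlib.AlgebraicGeometry.Restrict
import Mathlib.AlgebraicGeometry.PullbackCarrier
import Mathlib.CategoryTheory.Subobject.Basic

set_option autoImplicit false
open CategoryTheory CategoryTheory.Limits AlgebraicGeometry
universe u
open GrpQ

namespace Groth.Agent.S5235

/-- For schemes, with (M) the faithfully flat quasi-compact morphisms and (N) the open immersions: if `π
: X ⟶ X'` is flat, surjective and quasi-compact, then `Y' ↦ π⁻¹(Y')` is a bijection from open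
subschemes of `X'` onto the open subschemes of `X` stable under the kernel pair of `π`. -/
theorem result {X X' : Scheme.{u}} (π : X ⟶ X')
    [Flat π] [Surjective π] [QuasiCompact π] :
    Set.BijOn (Subobject.pullback π).obj
      {Y' : Subobject X' | IsOpenImmersion Y'.arrow}
      {Y : Subobject X | IsOpenImmersion Y.arrow ∧
        (Subobject.pullback (pullback.fst π π)).obj Y = (Subobject.pullback (pullback.snd π π)).obj Y} := by
  have hrange : ∀ {Z : Scheme.{u}} (U : Z.Opens), Set.range (Subobject.mk U.ι).arrow = (U : Set Z) := fun {Z} U => by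
    rw [← Subobject.underlyingIso_hom_comp_eq_mk, ← Scheme.Opens.range_ι U]
    ext z
    constructor
    · rintro ⟨a, rfl⟩; exact ⟨_, (Scheme.Hom.comp_apply _ _ _).symm⟩
    · rintro ⟨a, rfl⟩
      exact ⟨(Subobject.underlyingIso U.ι).inv a, by rw [← Scheme.Hom.comp_apply, Iso.inv_hom_id_assoc]⟩
  have hrepr : ∀ {Z : Scheme.{u}} (P : Subobject Z), IsOpenImmersion P.arrow → ∃ U : Z.Opens, P = Subobject.mk U.ι := fun {Z} P hP =>
    ⟨P.arrow.opensRange, Subobject.eq_mk_of_comm _ (IsOpenImmersion.isoOfRangeEq P.arrow P.arrow.opensRange.ι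
      (by rw [Scheme.Opens.range_ι]; rfl)) (IsOpenImmersion.isoOfRangeEq_hom_fac _ _ _)⟩
  have hinj : ∀ {Z : Scheme.{u}} (U V : Z.Opens), Subobject.mk U.ι = Subobject.mk V.ι → U = V := fun {Z} U V h =>
    SetLike.coe_injective (by rw [← hrange U, h, hrange V])
  have hpb : ∀ {Z W : Scheme.{u}} (f : Z ⟶ W) (U : W.Opens),
      (Subobject.pullback f).obj (Subobject.mk U.ι) = Subobject.mk (f ⁻¹ᵁ U).ι := fun {Z W} f U =>
    Subobject.pullback_obj_mk (isPullback_morphismRestrict f U)
  have hopen : ∀ {Z : Scheme.{u}} (U : Z.Opens), IsOpenImmersion (Subobject.mk U.ι).arrow := fun {Z} U => by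
    rw [← Subobject.underlyingIso_hom_comp_eq_mk]; infer_instance
  refine ⟨?_, ?_, ?_⟩
  · intro P hP
    obtain ⟨U, rfl⟩ := hrepr P hP
    refine ⟨by rw [hpb]; exact hopen _, ?_⟩
    rw [hpb, hpb, hpb]
    have e : pullback.fst π π ⁻¹ᵁ π ⁻¹ᵁ U = pullback.snd π π ⁻¹ᵁ π ⁻¹ᵁ U := by
      rw [← Scheme.Hom.comp_preimage, ← Scheme.Hom.comp_preimage, pullback.condition]
    rw [e]
  · intro P hP Q hQ h
    obtain ⟨U, rfl⟩ := hrepr P hP
    obtain ⟨V, rfl⟩ := hrepr Q hQ
    rw [hpb, hpb] at h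
    have h1 : π ⁻¹' (U : Set X') = π ⁻¹' (V : Set X') := congrArg (fun W : X.Opens => (W : Set X)) (hinj _ _ h)
    rw [SetLike.coe_injective (π.surjective.preimage_injective h1)]
  · rintro Q ⟨hQ, hst⟩
    obtain ⟨W, rfl⟩ := hrepr Q hQ
    rw [hpb, hpb] at hst
    have hW := hinj _ _ hst
    have hsat : π ⁻¹' (π '' (W : Set X)) = W := Set.Subset.antisymm (fun x ⟨y, hy, hxy⟩ => by
      obtain ⟨z, hz₁, hz₂⟩ := Scheme.Pullback.exists_preimage_pullback (f := π) (g := π) x y hxy.symm
      have hm : z ∈ pullback.snd π π ⁻¹ᵁ W := show pullback.snd π π z ∈ W from hz₂ ▸ hy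
      rw [← hW] at hm
      exact hz₁ ▸ (hm : pullback.fst π π z ∈ W)) (Set.subset_preimage_image π _)
    have ho : IsOpen (π '' (W : Set X)) := by
      rw [← (Flat.isQuotientMap_of_surjective π).isOpen_preimage, hsat]; exact W.2
    refine ⟨Subobject.mk (Scheme.Opens.ι ⟨_, ho⟩), hopen _, ?_⟩
    rw [hpb, show π ⁻¹ᵁ ⟨π '' (W : Set X), ho⟩ = W from SetLike.coe_injective hsat]

end Groth.Agent.S5235
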