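import Groth.Statements.S5255
import Groth.Agent.HopfRep.DiagFibre
import Groth.Agent.HopfRep.NormalRigid

set_option autoImplicit false
open CategoryTheory MonoidalCategory CartesianMonoidalCategory MonObj GrpObj AlgebraicGeometry
universe u
open SGA3x

namespace Groth.Agent.S5255

/-- Let K be an S-group locally of finite type over S whose fibres are connected, and i : H ⟶ K a
subgroup scheme of multiplicative type and of finite type which is normal in K. Then H is central in
K: for every S-scheme X, every X-point of K commutes with (the image of) every X-point of H. -/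
theorem result {S : Scheme.{u}} (K H : Over S) [GrpObj K] [GrpObj H]
    [LocallyOfFiniteType K.hom] (hconn : ∀ s : S, ConnectedSpace ↥(Limits.pullback K.hom (S.fromSpecResidueField s)))
    (i : H ⟶ K) [IsMonHom i] [Mono i] (hH : SGA3x.IsMultTypeFT H) (hn : AlgGrp.IsNormalHom i) :
    ∀ (X : Over S) (k : X ⟶ K) (h : X ⟶ H), k * (h ≫ i) = (h ≫ i) * k := by
  have hloc : TwC.Locally S TwC.Topology.fpqc
      (fun S' f => ∃ (M : Type) (_ : AddCommGroup M), Nonempty (Grp.mk (Red.bc f H) ≅ Grp.mk (Red.DS S' M))) := by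
    obtain ⟨S', f, h1, h2, h3, h4⟩ := hH
    exact ⟨S', f, h1, h2, h3, fun s' => let ⟨U, hU, M, hM, _, he⟩ := h4 s'; ⟨U, hU, M, hM, he⟩⟩
  let c : AlgGrp.Action H K :=
    { act := (CartesianMonoidalCategory.fst H K ≫ i) * CartesianMonoidalCategory.snd H K * (CartesianMonoidalCategory.fst H K ≫ i)⁻¹
      one_act := by
        have h1 : CartesianMonoidalCategory.fst (𝟙_ (Over S)) K ≫ η[K] = 1 := by
          rw [Hom.one_def]
          congr 1
        simp [MonObj.comp_mul, GrpObj.comp_inv, leftUnitor_hom, h1]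
      mul_act := by
        have hμ : μ[H] ≫ i = (CartesianMonoidalCategory.fst H H ≫ i) * (CartesianMonoidalCategory.snd H H ≫ i) := by
          rw [← MonObj.mul_comp, Hom.mul_def, lift_fst_snd, Category.id_comp]
        simp [-IsMonHom.mul_hom, MonObj.comp_mul, GrpObj.comp_inv, hμ, _root_.mul_assoc] }
  have h0 : ∀ (p : S) (Y : Over S) (_ : Y ⟶ Over.mk (S.fromSpecResidueField p)) (g : Y ⟶ H) (x : Y ⟶ K),
      lift g x ≫ c.act = x := by
    intro p Y q g x
    obtain ⟨S', f, hfl, hsurj, hqc, hloc'⟩ := hH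
    obtain ⟨s', hs'⟩ := hsurj.surj p
    obtain ⟨U, hU, M, hM, hMfg, ⟨e⟩⟩ := hloc' s'
    obtain ⟨u, hu⟩ : ∃ u : (U : Scheme.{u}), (U.ι ≫ f) u = p := ⟨⟨s', hU⟩, hs'⟩
    subst hu
    let L := (U : Scheme.{u}).residueField u
    letI : Algebra (S.residueField ((U.ι ≫ f) u)) L := ((U.ι ≫ f).residueFieldMap u).hom.toAlgebra
    let sU : Spec (CommRingCat.of L) ⟶ (U : Scheme.{u}) := (U : Scheme.{u}).fromSpecResidueField u
    have heq : Spec.map (CommRingCat.ofHom (algebraMap (S.residueField ((U.ι ≫ f) u)) L)) ≫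
        S.fromSpecResidueField ((U.ι ≫ f) u) = sU ≫ U.ι ≫ f :=
      Scheme.Hom.SpecMap_residueFieldMap_fromSpecResidueField (U.ι ≫ f) u
    obtain ⟨Q, hQ⟩ : ∃ Q : HopfRep.DiagRigid.CharPts (Spec.map (CommRingCat.ofHom (algebraMap (S.residueField ((U.ι ≫ f) u)) L)) ≫
        S.fromSpecResidueField ((U.ι ≫ f) u)) M H, ∀ (B : Type u) [CommRing B] [Algebra L B], Function.Injective (Q.pt B) := by
      rw [heq]
      refine ⟨HopfRep.DiagRigid.charPts (U.ι ≫ f) e sU, fun B _ _ χ χ' h => ?_⟩
      exact HopfRep.FreeDiag.pt₀_injective (U.ι ≫ f) e _ ((cancel_epi (HopfRep.DiagRigid.jIso (U.ι ≫ f) sU B).hom).1 h)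
    have hc := HopfRep.NormalRigid.cen_univ (κ := ↥(S.residueField ((U.ι ≫ f) u))) (L := ↥L) i (S.fromSpecResidueField ((U.ι ≫ f) u)) (hconn ((U.ι ≫ f) u)) hn hMfg Q hQ
    let j : Y ⟶ Over.mk (Limits.pullback.fst K.hom (S.fromSpecResidueField ((U.ι ≫ f) u)) ≫ K.hom) :=
      Over.homMk (Limits.pullback.lift x.left q.left (by rw [Over.w x]; exact (Over.w q).symm))
        (by
          show Limits.pullback.lift _ _ _ ≫ _ ≫ _ = _
          rw [Limits.pullback.lift_fst_assoc, Over.w x])
    have h1 := (hc.comp i j).apply i g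
    have hj : j ≫ (Over.homMk (Limits.pullback.fst K.hom (S.fromSpecResidueField ((U.ι ≫ f) u))) rfl :
        Over.mk (Limits.pullback.fst K.hom (S.fromSpecResidueField ((U.ι ≫ f) u)) ≫ K.hom) ⟶ K) = x := by
      ext1
      exact Limits.pullback.lift_fst _ _ _
    rw [hj] at h1
    show lift g x ≫ ((CartesianMonoidalCategory.fst H K ≫ i) * CartesianMonoidalCategory.snd H K * (CartesianMonoidalCategory.fst H K ≫ i)⁻¹) = x
    simp only [MonObj.comp_mul, GrpObj.comp_inv, lift_fst_assoc, lift_snd]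
    rw [← h1, mul_inv_cancel_right]
  intro X k h
  have h1 := HopfRep.DiagFibre.action_trivial H K hloc c h0 X h k
  change lift h k ≫ ((CartesianMonoidalCategory.fst H K ≫ i) * CartesianMonoidalCategory.snd H K * (CartesianMonoidalCategory.fst H K ≫ i)⁻¹) = k at h1
  simp only [MonObj.comp_mul, GrpObj.comp_inv, lift_fst_assoc, lift_snd] at h1
  exact (mul_inv_eq_iff_eq_mul.1 h1).symm

end Groth.Agent.S5255
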