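import Groth.Statements.S5256
import Groth.Agent.HopfRep.DiagFibre

set_option autoImplicit false
open CategoryTheory MonoidalCategory CartesianMonoidalCategory MonObj GrpObj AlgebraicGeometry
universe u
open SGA3x

namespace Groth.Agent.S5256

/-- Let u : H ⟶ G be a homomorphism of S-groups, with H of multiplicative type and of finite type and G
of finite presentation over S (locally of finite presentation, quasi-compact and quasi-separated).
If for every s ∈ S the homomorphism u_s : H_s ⟶ G_s induced on the fibres at s is central (every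
point of G_s commutes with the image of every point of H_s), then u is central. -/
theorem result {S : Scheme.{u}} (H G : Over S) [GrpObj H] [GrpObj G]
    (hH : SGA3x.IsMultTypeFT H) [LocallyOfFinitePresentation G.hom] [QuasiCompact G.hom] [QuasiSeparated G.hom]
    (u : H ⟶ G) [IsMonHom u]
    (hfib : ∀ (s : S) (X : Over (Spec (S.residueField s))) (g : X ⟶ Red.bc (S.fromSpecResidueField s) G)
      (h : X ⟶ Red.bc (S.fromSpecResidueField s) H),
      g * (h ≫ (Over.pullback (S.fromSpecResidueField s)).map u) = (h ≫ (Over.pullback (S.fromSpecResidueField s)).map u) * g) :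
    ∀ (X : Over S) (g : X ⟶ G) (h : X ⟶ H), g * (h ≫ u) = (h ≫ u) * g := by
  have hloc : TwC.Locally S TwC.Topology.fpqc
      (fun S' f => ∃ (M : Type) (_ : AddCommGroup M), Nonempty (Grp.mk (Red.bc f H) ≅ Grp.mk (Red.DS S' M))) := by
    obtain ⟨S', f, h1, h2, h3, h4⟩ := hH
    exact ⟨S', f, h1, h2, h3, fun s' => let ⟨U, hU, M, hM, _, he⟩ := h4 s'; ⟨U, hU, M, hM, he⟩⟩
  let c : AlgGrp.Action H G :=
    { act := (CartesianMonoidalCategory.fst H G ≫ u) * CartesianMonoidalCategory.snd H G * (CartesianMonoidalCategory.fst H G ≫ u)⁻¹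
      one_act := by
        have h1 : CartesianMonoidalCategory.fst (𝟙_ (Over S)) G ≫ η[G] = 1 := by
          rw [Hom.one_def]
          congr 1
        simp [MonObj.comp_mul, GrpObj.comp_inv, leftUnitor_hom, h1]
      mul_act := by
        have hμ : μ[H] ≫ u = (CartesianMonoidalCategory.fst H H ≫ u) * (CartesianMonoidalCategory.snd H H ≫ u) := by
          rw [← MonObj.mul_comp, Hom.mul_def, lift_fst_snd, Category.id_comp]
        simp [-IsMonHom.mul_hom, MonObj.comp_mul, GrpObj.comp_inv, hμ, _root_.mul_assoc] }
  have h0 : ∀ (p : S) (Y : Over S) (_ : Y ⟶ Over.mk (S.fromSpecResidueField p)) (g : Y ⟶ H) (x : Y ⟶ G),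
      lift g x ≫ c.act = x := by
    intro p Y q g x
    let f := S.fromSpecResidueField p
    let Y' : Over (Spec (S.residueField p)) := Over.mk q.left
    let j : (Over.map f).obj Y' ⟶ Y := Over.homMk (𝟙 _) (by simpa [Y', f] using (Over.w q).symm)
    let φ := fun (Z : Over S) => (Over.mapPullbackAdj f).homEquiv Y' Z
    have key := hfib p Y' (φ G (j ≫ x)) (φ H (j ≫ g))
    have hnat : φ H (j ≫ g) ≫ (Over.pullback f).map u = φ G ((j ≫ g) ≫ u) :=
      ((Over.mapPullbackAdj f).homEquiv_naturality_right _ _).symm
    rw [hnat, ← HopfRep.DiagRigid.homEquiv_mul', ← HopfRep.DiagRigid.homEquiv_mul'] at key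
    have key' := ((Over.mapPullbackAdj f).homEquiv Y' G).injective key
    show lift g x ≫ ((CartesianMonoidalCategory.fst H G ≫ u) * CartesianMonoidalCategory.snd H G * (CartesianMonoidalCategory.fst H G ≫ u)⁻¹) = x
    simp only [MonObj.comp_mul, GrpObj.comp_inv, lift_fst_assoc, lift_snd]
    have : IsIso j := by
      have : IsIso ((Over.forget S).map j) := inferInstanceAs (IsIso (𝟙 _))
      exact isIso_of_reflects_iso j (Over.forget S)
    rw [← cancel_epi j, MonObj.comp_mul, MonObj.comp_mul, GrpObj.comp_inv]
    rw [Category.assoc] at key'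
    rw [← key', mul_inv_cancel_right]
  intro X g h
  have h1 := HopfRep.DiagFibre.action_trivial H G hloc c h0 X h g
  change lift h g ≫ ((CartesianMonoidalCategory.fst H G ≫ u) * CartesianMonoidalCategory.snd H G * (CartesianMonoidalCategory.fst H G ≫ u)⁻¹) = g at h1
  simp only [MonObj.comp_mul, GrpObj.comp_inv, lift_fst_assoc, lift_snd] at h1
  exact (mul_inv_eq_iff_eq_mul.1 h1).symm

end Groth.Agent.S5256
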