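import Groth.Statements.S5261
import Groth.Agent.HopfRep.EssFreeSGA
import Groth.Agent.S3042

set_option autoImplicit false
open CategoryTheory MonoidalCategory CartesianMonoidalCategory MonObj GrpObj AlgebraicGeometry
universe u
open SGA3x

namespace Groth.Agent.S5261

/-- Let u : H ⟶ G be a homomorphism of S-groups, with H of multiplicative type and of finite type, and
suppose S locally Noetherian or G locally of finite presentation over S. If for every s ∈ S the
homomorphism u_s : H_s ⟶ G_s induced on the fibres at s is a monomorphism, then u is a monomorphism. -/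
theorem result {S : Scheme.{u}} (H G : Over S) [GrpObj H] [GrpObj G]
    (hH : SGA3x.IsMultTypeFT H) (hG : IsLocallyNoetherian S ∨ LocallyOfFinitePresentation G.hom)
    (u : H ⟶ G) [IsMonHom u]
    (hfib : ∀ s : S, Mono ((Over.pullback (S.fromSpecResidueField s)).map u).left) :
    Mono u.left := by
  have := HopfRep.EssFreeSGA.locallyOfFiniteType_of_multTypeFT hH
  have : LocallyOfFiniteType u.left := by
    have : LocallyOfFiniteType (u.left ≫ G.hom) := by rw [Over.w]; infer_instance
    exact locallyOfFiniteType_of_comp u.left G.hom
  rw [Groth.Agent.S3042.result]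
  intro y
  constructor
  intro Z a b hab
  have key : ∀ (a b : Z ⟶ H.left) (m : Z ⟶ Spec (G.left.residueField y)),
      a ≫ u.left = m ≫ G.left.fromSpecResidueField y → b ≫ u.left = m ≫ G.left.fromSpecResidueField y → a = b := by
    intro a b m ha hb
    have hw : ∀ c : Z ⟶ H.left, c ≫ u.left = m ≫ G.left.fromSpecResidueField y →
        c ≫ H.hom = (m ≫ Spec.map (G.hom.residueFieldMap y)) ≫ S.fromSpecResidueField (G.hom y) := by
      intro c hc
      rw [← Over.w u, reassoc_of% hc, Category.assoc, Scheme.Hom.SpecMap_residueFieldMap_fromSpecResidueField]
    let L : Limits.pullback H.hom (S.fromSpecResidueField (G.hom y)) ⟶ Limits.pullback G.hom (S.fromSpecResidueField (G.hom y)) :=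
      Limits.pullback.lift (Limits.pullback.fst _ _ ≫ u.left) (Limits.pullback.snd _ _)
        (by rw [Category.assoc, Over.w u, Limits.pullback.condition])
    have : Mono L := hfib (G.hom y)
    have hab' : Limits.pullback.lift _ _ (hw a ha) = Limits.pullback.lift _ _ (hw b hb) := by
      rw [← cancel_mono L]
      apply Limits.pullback.hom_ext
      · simp only [L, Category.assoc]
        erw [Limits.pullback.lift_fst, Limits.pullback.lift_fst_assoc, Limits.pullback.lift_fst_assoc]
        exact ha.trans hb.symm
      · simp only [L, Category.assoc]
        erw [Limits.pullback.lift_snd, Limits.pullback.lift_snd, Limits.pullback.lift_snd]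
    have := congrArg (· ≫ Limits.pullback.fst _ _) hab'
    simp only at this
    erw [Limits.pullback.lift_fst, Limits.pullback.lift_fst] at this
    exact this
  apply Limits.pullback.hom_ext
  · refine key _ _ (a ≫ Limits.pullback.snd _ _) ?_ ?_
    · rw [Category.assoc, Limits.pullback.condition, ← Category.assoc]
      rfl
    · rw [Category.assoc, Limits.pullback.condition, ← Category.assoc]
      exact congrArg (· ≫ _) hab.symm
  · exact hab

end Groth.Agent.S5261
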