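import Groth.Statements.S5278
import Mathlib

set_option autoImplicit false
open CategoryTheory AlgebraicGeometry
universe u
open SGA3x

namespace Groth.Agent.S5278

/-- Let X be a connected scheme, f : X' ⟶ X a finite etale morphism and x a point of X. Then every
connected component of X' meets the fibre of f over x; equivalently the map from the connected
components of the fibre (or of the geometric fibre) to those of X' is surjective. -/
theorem result {X X' : Scheme.{u}} [ConnectedSpace X] (f : X' ⟶ X)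
    [IsFinite f] [Etale f] (x : X) (c : X') :
    ∃ x' : X', f.base x' = x ∧ x' ∈ connectedComponent c := by
  classical
  have hfin : (f.base ⁻¹' {x}).Finite := f.finite_preimage_singleton x
  have hmeet : ∀ Z : Set X', IsClopen Z → Z.Nonempty → ∃ z ∈ Z, f.base z = x := fun Z hZ hne => by
    have h1 : IsClopen (f.base '' Z) := ⟨f.isClosedMap Z hZ.1, f.isOpenMap Z hZ.2⟩
    obtain ⟨z, hz, hzx⟩ := (h1.eq_univ (hne.image _)).ge (Set.mem_univ x)
    exact ⟨z, hz, hzx⟩
  have hinj : Set.InjOn (fun Z => Z ∩ f.base ⁻¹' {x}) {Z : Set X' | IsClopen Z} := fun Z hZ Z' hZ' heq => by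
    by_contra hne
    obtain ⟨z, hz, hzx⟩ := hmeet _ ((hZ.diff hZ').union (hZ'.diff hZ)) (by
      rw [Set.nonempty_iff_ne_empty, ne_eq, Set.union_empty_iff, Set.sdiff_eq_empty, Set.sdiff_eq_empty]
      exact fun h => hne (Set.Subset.antisymm h.1 h.2))
    have hzf : z ∈ f.base ⁻¹' {x} := hzx
    rcases hz with ⟨h1, h2⟩ | ⟨h1, h2⟩
    · exact h2 ((heq.le ⟨h1, hzf⟩).1)
    · exact h2 ((heq.ge ⟨h1, hzf⟩).1)
  have hclfin : {Z : Set X' | IsClopen Z}.Finite :=
    Set.Finite.of_finite_image (hfin.finite_subsets.subset (Set.image_subset_iff.2 fun Z _ => Set.inter_subset_right)) hinj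
  let Q : Set X' := ⋂ Z ∈ {Z : Set X' | IsClopen Z ∧ c ∈ Z}, Z
  have hQ : IsClopen Q := (hclfin.subset fun Z hZ => hZ.1).isClopen_biInter fun Z hZ => hZ.1
  have hcQ : c ∈ Q := Set.mem_iInter₂.2 fun Z hZ => hZ.2
  have hpre : _root_.IsPreconnected Q := by
    rw [isPreconnected_iff_subset_of_disjoint_closed]
    intro U V hU hV hsub hdis
    have hUV : IsClopen (Q ∩ U) := by
      refine ⟨hQ.1.inter hU, ?_⟩
      have : Q ∩ U = Q ∩ Vᶜ := by
        ext z
        constructor
        · exact fun h => ⟨h.1, fun hv => hdis.le ⟨h.1, h.2, hv⟩⟩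
        · exact fun h => ⟨h.1, (hsub h.1).resolve_right h.2⟩
      rw [this]
      exact hQ.2.inter hV.isOpen_compl
    by_cases hc : c ∈ U
    · exact Or.inl fun z hz => ((Set.mem_iInter₂.1 hz) _ ⟨hUV, hcQ, hc⟩).2
    · exact Or.inr fun z hz => (hsub hz).resolve_left fun h =>
        ((Set.mem_iInter₂.1 hz) _ ⟨hQ.diff hUV, hcQ, fun h' => hc h'.2⟩).2 ⟨hz, h⟩
  obtain ⟨z, hz, hzx⟩ := hmeet Q hQ ⟨c, hcQ⟩
  exact ⟨z, hzx, hpre.subset_connectedComponent hcQ hz⟩

end Groth.Agent.S5278
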