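import Groth.Statements.S5333
import Groth.Agent.RatMap.Sub
import Mathlib.AlgebraicGeometry.Morphisms.SchemeTheoreticallyDominant

set_option autoImplicit false
universe u
open CategoryTheory CategoryTheory.Limits MonoidalCategory CartesianMonoidalCategory MonObj GrpObj AlgebraicGeometry
open SGA3

namespace Groth.Agent.S5333

/-- (i) ⟺ (iii) ⟺ (iv'): let f : X → S be a morphism of schemes. Then X is separated over S if and only
if for every reduced scheme T and every two morphisms T → X with the same composite to S which agree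
on a dense open subscheme of T are equal; and X is separated over S if and only if every two points
of X in the same fibre over S lie in a common open subscheme of X which is separated over S. -/
theorem result (X S : Scheme.{u}) (f : X ⟶ S) :
    (IsSeparated f ↔ ∀ (T : Scheme.{u}) [IsReduced T] (g₁ g₂ : T ⟶ X) (U : T.Opens), g₁ ≫ f = g₂ ≫ f →
      Dense (U : Set T) → U.ι ≫ g₁ = U.ι ≫ g₂ → g₁ = g₂) ∧
    (IsSeparated f ↔ ∀ x₁ x₂ : X, f.base x₁ = f.base x₂ →
      ∃ V : X.Opens, x₁ ∈ V ∧ x₂ ∈ V ∧ IsSeparated (V.ι ≫ f)) := by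
  have hcrit : IsClosed (Set.range (Limits.pullback.diagonal f)) → IsSeparated f := fun h =>
    ⟨IsClosedImmersion.of_isPreimmersion _ h⟩
  refine ⟨⟨fun h T _ g₁ g₂ U hw hU he => ?_, fun h => hcrit ?_⟩, ⟨fun h x₁ x₂ _ => ⟨⊤, trivial, trivial, inferInstance⟩, fun h => hcrit ?_⟩⟩
  · have : IsDominant U.ι := ⟨by rw [DenseRange, Scheme.Opens.range_ι]; exact hU⟩
    exact ext_of_isDominant_of_isSeparated f hw U.ι he
  · let δ := Limits.pullback.diagonal f
    let I := Scheme.IdealSheafData.vanishingIdeal (X := Limits.pullback f f) ⟨closure (Set.range δ), isClosed_closure⟩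
    have : IsReduced I.subscheme := Groth.Agent.RatMap.Sub.isReduced_subscheme _ fun V => PrimeSpectrum.isRadical_vanishingIdeal _
    let i := I.subschemeι
    have hi : Set.range i = closure (Set.range δ) := by
      rw [Scheme.IdealSheafData.range_subschemeι, Scheme.IdealSheafData.coe_support_vanishingIdeal]
      rfl
    obtain ⟨O, Z, hO, hZ, hOZ⟩ := δ.isLocallyClosed_range
    let U : I.subscheme.Opens := ⟨i ⁻¹' O, hO.preimage i.continuous⟩
    have hU : ∀ z, z ∈ U ↔ i z ∈ Set.range δ := fun z => by
      refine ⟨fun hz => hOZ ▸ ⟨hz, ?_⟩, fun hz => (hOZ ▸ hz : i z ∈ O ∩ Z).1⟩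
      exact closure_minimal (hOZ ▸ Set.inter_subset_right) hZ (hi ▸ ⟨z, rfl⟩)
    have hd : Dense (U : Set I.subscheme) := fun z => by
      rw [i.isEmbedding.isInducing.closure_eq_preimage_closure_image]
      have : i '' (U : Set I.subscheme) = Set.range δ := by
        ext y
        constructor
        · rintro ⟨w, hw, rfl⟩; exact (hU w).1 hw
        · intro hy
          obtain ⟨w, rfl⟩ : y ∈ Set.range i := hi ▸ subset_closure hy
          exact ⟨w, (hU w).2 hy, rfl⟩
      rw [Set.mem_preimage, this, ← hi]
      exact ⟨z, rfl⟩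
    let a := Limits.pullback.fst (U.ι ≫ i) δ
    have ha : Surjective a := ⟨fun z => by
      obtain ⟨w, hw⟩ := (hU (U.ι z)).1 z.2
      obtain ⟨v, hv, -⟩ := Scheme.exists_preimage_of_isPullback (IsPullback.of_hasPullback (U.ι ≫ i) δ) z w hw.symm
      exact ⟨v, hv⟩⟩
    have : IsImmersion a := inferInstance
    have : IsClosedImmersion a := IsClosedImmersion.of_isPreimmersion _ (by rw [ha.surj.range_eq]; exact isClosed_univ)
    have := isIso_of_isClosedImmersion_of_surjective a
    have he : U.ι ≫ i ≫ Limits.pullback.fst f f = U.ι ≫ i ≫ Limits.pullback.snd f f := by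
      rw [← cancel_epi a]
      have c : a ≫ U.ι ≫ i = Limits.pullback.snd (U.ι ≫ i) δ ≫ δ := Limits.pullback.condition
      rw [← Category.assoc U.ι, ← Category.assoc a, c, ← Category.assoc U.ι, ← Category.assoc a, c]
      simp [δ]
    have hg := h _ (i ≫ Limits.pullback.fst f f) (i ≫ Limits.pullback.snd f f) U (by simp [Limits.pullback.condition]) hd he
    have hfac : i = (i ≫ Limits.pullback.fst f f) ≫ δ := by
      apply Limits.pullback.hom_ext <;> simp [δ, hg]
    have : closure (Set.range δ) ⊆ Set.range δ := by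
      rw [← hi, hfac]
      rintro _ ⟨w, rfl⟩
      exact ⟨_, (Scheme.Hom.comp_apply _ _ _).symm⟩
    exact closure_subset_iff_isClosed.1 this
  · refine closure_subset_iff_isClosed.1 fun z hz => ?_
    obtain ⟨V, h1, h2, hV⟩ := h (Limits.pullback.fst f f z) (Limits.pullback.snd f f z) (by
      rw [← Scheme.Hom.comp_apply, ← Scheme.Hom.comp_apply, Limits.pullback.condition])
    let p := Limits.pullback.map (V.ι ≫ f) (V.ι ≫ f) f f V.ι V.ι (𝟙 S) (by simp) (by simp)
    let W : Set ↥(Limits.pullback f f) := Limits.pullback.fst f f ⁻¹' V ∩ Limits.pullback.snd f f ⁻¹' V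
    have hW : IsOpen W := (V.2.preimage (Limits.pullback.fst f f).continuous).inter (V.2.preimage (Limits.pullback.snd f f).continuous)
    have hp : Set.range p = W := by
      rw [Scheme.Pullback.range_map, Scheme.Opens.range_ι]
    have hsub : W ∩ Set.range (Limits.pullback.diagonal f) ⊆ p '' Set.range (Limits.pullback.diagonal (V.ι ≫ f)) := by
      rintro _ ⟨⟨hxV, -⟩, x, rfl⟩
      have hxV' : x ∈ V := by
        simpa [W, ← Scheme.Hom.comp_apply] using hxV
      let y : (V : Scheme.{u}) := ⟨x, hxV'⟩
      refine ⟨Limits.pullback.diagonal (V.ι ≫ f) y, ⟨_, rfl⟩, ?_⟩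
      rw [← Scheme.Hom.comp_apply]
      have e : Limits.pullback.diagonal (V.ι ≫ f) ≫ p = V.ι ≫ Limits.pullback.diagonal f := by
        apply Limits.pullback.hom_ext <;> (simp only [p, Limits.pullback.map, Category.assoc, Limits.pullback.diagonal_fst, Limits.pullback.diagonal_snd]; first | erw [Limits.pullback.lift_fst] | erw [Limits.pullback.lift_snd]); all_goals simp
      rw [e, Scheme.Hom.comp_apply]
      rfl
    obtain ⟨w, rfl⟩ : z ∈ Set.range p := by rw [hp]; exact ⟨h1, h2⟩
    have hw : w ∈ closure (p ⁻¹' Set.range (Limits.pullback.diagonal f)) := by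
      have : IsOpenImmersion p := inferInstance
      rw [← p.isOpenEmbedding.isOpenMap.preimage_closure_eq_closure_preimage p.continuous]
      exact hz
    have hcl : IsClosed (Set.range (Limits.pullback.diagonal (V.ι ≫ f))) :=
      (Limits.pullback.diagonal (V.ι ≫ f)).isClosedEmbedding.isClosed_range
    have : w ∈ Set.range (Limits.pullback.diagonal (V.ι ≫ f)) := by
      refine hcl.closure_subset_iff.2 (fun v hv => ?_) hw
      obtain ⟨v', hv', e⟩ := hsub ⟨hp ▸ ⟨v, rfl⟩, hv⟩
      rwa [← p.isOpenEmbedding.injective e]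
    obtain ⟨y, rfl⟩ := this
    refine ⟨V.ι y, ?_⟩
    rw [← Scheme.Hom.comp_apply, ← Scheme.Hom.comp_apply]
    refine congrArg (fun g : (V : Scheme.{u}) ⟶ _ => g y) ?_
    apply Limits.pullback.hom_ext <;> (simp only [p, Limits.pullback.map, Category.assoc, Limits.pullback.diagonal_fst, Limits.pullback.diagonal_snd]; first | erw [Limits.pullback.lift_fst] | erw [Limits.pullback.lift_snd]); all_goals simp

end Groth.Agent.S5333
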