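import Groth.Statements.S5358
import Groth.Agent.HopfRep.WeilClosedOver
import Groth.Agent.HopfRep.MonoSubgroup
import Groth.Agent.HopfRep.GrpTop

set_option autoImplicit false
universe u
open CategoryTheory CategoryTheory.Limits MonoidalCategory CartesianMonoidalCategory MonObj GrpObj AlgebraicGeometry
open SGA3

namespace Groth.Agent.S5358

/-- Let G be a group scheme over a field k, y' : Y' → G an immersion and y : Y → G a closed immersion.
(ii) The transporter of Y' into Y, whose points with values in S' are the g such that conjugation by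
g carries every point of Y' (after any base change S'' → S') into Y, is represented by a closed
subscheme of G; if y' is also a closed immersion, so is the strict transporter (g Y' g⁻¹ = Y
functorially). (iii) For every subgroup scheme h : H → G (a homomorphism which is an immersion), the
normalizer of H in G is represented by a closed subscheme of G. -/
theorem result (k : Type u) [Field k] (G Y Y' : Over (Spec (CommRingCat.of k))) [GrpObj G]
    (y : Y ⟶ G) [IsClosedImmersion y.left] (y' : Y' ⟶ G) [IsImmersion y'.left] :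
    (∃ (T : Over (Spec (CommRingCat.of k))) (t : T ⟶ G), IsClosedImmersion t.left ∧
      ∀ (S' : Over (Spec (CommRingCat.of k))) (g : S' ⟶ G), (∃ z : S' ⟶ T, z ≫ t = g) ↔
        ∀ (S'' : Over (Spec (CommRingCat.of k))) (s : S'' ⟶ S') (x : S'' ⟶ Y'),
          ∃ x' : S'' ⟶ Y, (s ≫ g) * (x ≫ y') * (s ≫ g)⁻¹ = x' ≫ y) ∧
    (IsClosedImmersion y'.left →
      ∃ (T : Over (Spec (CommRingCat.of k))) (t : T ⟶ G), IsClosedImmersion t.left ∧
      ∀ (S' : Over (Spec (CommRingCat.of k))) (g : S' ⟶ G), (∃ z : S' ⟶ T, z ≫ t = g) ↔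
        ((∀ (S'' : Over (Spec (CommRingCat.of k))) (s : S'' ⟶ S') (x : S'' ⟶ Y'),
          ∃ x' : S'' ⟶ Y, (s ≫ g) * (x ≫ y') * (s ≫ g)⁻¹ = x' ≫ y) ∧
        (∀ (S'' : Over (Spec (CommRingCat.of k))) (s : S'' ⟶ S') (x' : S'' ⟶ Y),
          ∃ x : S'' ⟶ Y', (s ≫ g)⁻¹ * (x' ≫ y) * (s ≫ g) = x ≫ y'))) ∧
    (∀ (H : Over (Spec (CommRingCat.of k))) [GrpObj H] (h : H ⟶ G) [IsMonHom h] [IsImmersion h.left],
      ∃ (N : Over (Spec (CommRingCat.of k))) (_ : GrpObj N) (n : N ⟶ G), IsClosedImmersion n.left ∧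
        Red.IsNormalizerOf h n) := by
  have main : ∀ (A B : Over (Spec (CommRingCat.of k))) (b : B ⟶ G) [IsClosedImmersion b.left] (c : G ⊗ A ⟶ G),
      ∃ (T : Over (Spec (CommRingCat.of k))) (t : T ⟶ G), IsClosedImmersion t.left ∧
      ∀ (S' : Over (Spec (CommRingCat.of k))) (g : S' ⟶ G), (∃ z : S' ⟶ T, z ≫ t = g) ↔
        ∀ (S'' : Over (Spec (CommRingCat.of k))) (s : S'' ⟶ S') (x : S'' ⟶ A),
          ∃ x' : S'' ⟶ B, CartesianMonoidalCategory.lift (s ≫ g) x ≫ c = x' ≫ b := by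
    intro A B b _ c
    let j₀ := Limits.pullback.fst c.left b.left
    let E : Over (Spec (CommRingCat.of k)) := Over.mk (j₀ ≫ (G ⊗ A).hom)
    let j : E ⟶ G ⊗ A := Over.homMk j₀
    have : IsClosedImmersion j.left := inferInstanceAs (IsClosedImmersion (Limits.pullback.fst c.left b.left))
    obtain ⟨Z, z, hz, h⟩ := HopfRep.WeilClosed.exists_closed_over (HopfRep.WeilClosed.locFree_of_field A) j
    refine ⟨Z, z, hz, fun S' g => (h S' g).trans ?_⟩
    refine forall_congr' fun S'' => forall_congr' fun s => forall_congr' fun x => ⟨?_, ?_⟩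
    · rintro ⟨e, he⟩
      refine ⟨Over.homMk (e.left ≫ Limits.pullback.snd c.left b.left) ?_, ?_⟩
      · rw [Category.assoc, ← Over.w b, ← Category.assoc (Limits.pullback.snd c.left b.left), ← Limits.pullback.condition,
          Category.assoc, Over.w c]
        exact Over.w e
      · rw [← he]
        apply Over.OverMorphism.ext
        show (e.left ≫ j₀) ≫ c.left = (e.left ≫ Limits.pullback.snd c.left b.left) ≫ b.left
        rw [Category.assoc, Category.assoc, Limits.pullback.condition]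
    · rintro ⟨x', hx'⟩
      refine ⟨Over.homMk (Limits.pullback.lift (CartesianMonoidalCategory.lift (s ≫ g) x).left x'.left
        (by rw [← Over.comp_left, hx', Over.comp_left])) ?_, Over.OverMorphism.ext (Limits.pullback.lift_fst _ _ _)⟩
      show Limits.pullback.lift _ _ _ ≫ j₀ ≫ (G ⊗ A).hom = S''.hom
      rw [Limits.pullback.lift_fst_assoc, Over.w]
  have both : ∀ (A B : Over (Spec (CommRingCat.of k))) (a : A ⟶ G) (b : B ⟶ G) [IsClosedImmersion a.left]
      [IsClosedImmersion b.left],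
      ∃ (T : Over (Spec (CommRingCat.of k))) (t : T ⟶ G), IsClosedImmersion t.left ∧
      ∀ (S' : Over (Spec (CommRingCat.of k))) (g : S' ⟶ G), (∃ z : S' ⟶ T, z ≫ t = g) ↔
      ((∀ (S'' : Over (Spec (CommRingCat.of k))) (s : S'' ⟶ S') (x : S'' ⟶ A),
        ∃ x' : S'' ⟶ B, (s ≫ g) * (x ≫ a) * (s ≫ g)⁻¹ = x' ≫ b) ∧
      (∀ (S'' : Over (Spec (CommRingCat.of k))) (s : S'' ⟶ S') (x' : S'' ⟶ B),
        ∃ x : S'' ⟶ A, (s ≫ g)⁻¹ * (x' ≫ b) * (s ≫ g) = x ≫ a)) := by
    intro A B a b _ _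
    obtain ⟨Z₁, z₁, hz₁, h₁⟩ := main A B b (CartesianMonoidalCategory.fst G A *
      (CartesianMonoidalCategory.snd G A ≫ a) * (CartesianMonoidalCategory.fst G A)⁻¹)
    obtain ⟨Z₂, z₂, hz₂, h₂⟩ := main B A a ((CartesianMonoidalCategory.fst G B)⁻¹ *
      (CartesianMonoidalCategory.snd G B ≫ b) * CartesianMonoidalCategory.fst G B)
    let t₀ := Limits.pullback.fst z₁.left z₂.left ≫ z₁.left
    have : IsClosedImmersion t₀ := inferInstanceAs (IsClosedImmersion (_ ≫ z₁.left))
    refine ⟨Over.mk (t₀ ≫ G.hom), Over.homMk t₀, this, fun S' g => ?_⟩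
    have hboth : (∃ z : S' ⟶ Over.mk (t₀ ≫ G.hom), z ≫ Over.homMk t₀ = g) ↔
        (∃ z : S' ⟶ Z₁, z ≫ z₁ = g) ∧ (∃ z : S' ⟶ Z₂, z ≫ z₂ = g) := by
      constructor
      · rintro ⟨z, rfl⟩
        refine ⟨⟨z ≫ Over.homMk (Limits.pullback.fst z₁.left z₂.left) (by simp [t₀]), ?_⟩,
          ⟨z ≫ Over.homMk (Limits.pullback.snd z₁.left z₂.left)
            (show Limits.pullback.snd z₁.left z₂.left ≫ Z₂.hom = t₀ ≫ G.hom by rw [← Over.w z₂, ← Limits.pullback.condition_assoc, Category.assoc]), ?_⟩⟩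
        · rw [Category.assoc]
          congr 1
        · rw [Category.assoc]
          congr 1
          apply Over.OverMorphism.ext
          exact Limits.pullback.condition.symm
      · rintro ⟨⟨u, hu⟩, ⟨v, hv⟩⟩
        refine ⟨Over.homMk (Limits.pullback.lift u.left v.left (by rw [← Over.comp_left, hu, ← hv, Over.comp_left]))
          ?_, ?_⟩
        · show Limits.pullback.lift _ _ _ ≫ t₀ ≫ G.hom = S'.hom
          rw [Category.assoc, Limits.pullback.lift_fst_assoc, Over.w, Over.w]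
        · apply Over.OverMorphism.ext
          show Limits.pullback.lift _ _ _ ≫ t₀ = _
          rw [Limits.pullback.lift_fst_assoc, ← Over.comp_left, hu]
    rw [hboth, h₁ S' g, h₂ S' g]
    simp only [MonObj.comp_mul, GrpObj.comp_inv, CartesianMonoidalCategory.lift_fst,
      CartesianMonoidalCategory.lift_snd_assoc]
  refine ⟨?_, fun hy' => ?_, fun H _ h _ _ => ?_⟩
  · obtain ⟨Z, z, hz, h⟩ := main Y' Y y (CartesianMonoidalCategory.fst G Y' *
      (CartesianMonoidalCategory.snd G Y' ≫ y') * (CartesianMonoidalCategory.fst G Y')⁻¹)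
    refine ⟨Z, z, hz, fun S' g => (h S' g).trans ?_⟩
    simp only [MonObj.comp_mul, GrpObj.comp_inv, CartesianMonoidalCategory.lift_fst,
      CartesianMonoidalCategory.lift_snd_assoc]
  · have := hy'
    exact both Y' Y y' y
  · have := HopfRep.GrpTop.isClosedImmersion_of_isImmersion h
    obtain ⟨N, n, hn, hN⟩ := both H H h h
    have : Mono n.left := inferInstance
    have : Mono n := (Over.forget _).mono_of_mono_map (inferInstanceAs (Mono n.left))
    obtain ⟨_, hhom⟩ := HopfRep.MonoSubgroup.exists_grpObj n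
      ((hN _ _).2 ⟨fun S'' s x => ⟨x, by simp⟩, fun S'' s x => ⟨x, by simp⟩⟩)
      (fun T a b => (hN _ _).2 ⟨fun S'' s x => by
          obtain ⟨x₁, h₁⟩ := ((hN _ _).1 ⟨b, rfl⟩).1 S'' s x
          obtain ⟨x₂, h₂⟩ := ((hN _ _).1 ⟨a, rfl⟩).1 S'' s x₁
          exact ⟨x₂, by rw [← h₂, ← h₁, MonObj.comp_mul]; group⟩,
        fun S'' s x => by
          obtain ⟨x₁, h₁⟩ := ((hN _ _).1 ⟨a, rfl⟩).2 S'' s x
          obtain ⟨x₂, h₂⟩ := ((hN _ _).1 ⟨b, rfl⟩).2 S'' s x₁
          exact ⟨x₂, by rw [← h₂, ← h₁, MonObj.comp_mul]; group⟩⟩)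
      (fun T a => (hN _ _).2 ⟨fun S'' s x => by
          obtain ⟨x₁, h₁⟩ := ((hN _ _).1 ⟨a, rfl⟩).2 S'' s x
          exact ⟨x₁, by rw [← h₁, GrpObj.comp_inv, _root_.inv_inv]⟩,
        fun S'' s x => by
          obtain ⟨x₁, h₁⟩ := ((hN _ _).1 ⟨a, rfl⟩).1 S'' s x
          exact ⟨x₁, by rw [← h₁, GrpObj.comp_inv, _root_.inv_inv]⟩⟩)
    exact ⟨N, _, n, hn, hhom, inferInstance, fun X g => (hN X g).trans
      ⟨fun hh X' x a => ⟨hh.1 X' x a, hh.2 X' x a⟩, fun hh => ⟨fun X' x a => (hh X' x a).1, fun X' x a => (hh X' x a).2⟩⟩⟩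

end Groth.Agent.S5358
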