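import Groth.Statements.S5376
import Groth.Agent.HopfRep.Slice
import Groth.Agent.HopfRep.Points

set_option autoImplicit false
universe u
open CategoryTheory CategoryTheory.Limits MonoidalCategory CartesianMonoidalCategory MonObj GrpObj AlgebraicGeometry
open SGA3

namespace Groth.Agent.S5376

/-- Let k be an algebraically closed field, A a finitely generated commutative Hopf algebra over k which
is reduced (a reduced affine algebraic k-group G), V a finite-dimensional A-comodule and v a vector
of V. Let E be the k-subspace of V spanned by the vectors g·v for g running over the k-points of G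
(algebra maps A → k). Then E is a subcomodule of V containing v, and it is the smallest one. -/
theorem result (k : Type u) [Field k] [IsAlgClosed k] (A : Type u) [CommRing A] [HopfAlgebra k A]
    [Algebra.FiniteType k A] [IsReduced A] (V : Type u) [AddCommGroup V] [Module k V] [HopfRep.Comod k A V]
    [Module.Finite k V] (v : V) :
    letI E : Submodule k V := Submodule.span k (Set.range fun g : A →ₐ[k] k => HopfRep.Comod.act k A V g v)
    HopfRep.IsSubcomod (k := k) (A := A) E ∧ v ∈ E ∧
      ∀ W : Submodule k V, HopfRep.IsSubcomod (k := k) (A := A) W → v ∈ W → E ≤ W := by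
  set E : Submodule k V := Submodule.span k (Set.range fun g : A →ₐ[k] k => HopfRep.Comod.act k A V g v) with hE
  have hact : ∀ (g : A →ₐ[k] k) (x : V), HopfRep.Comod.act k A V g x =
      Groth.Agent.HopfRep.Slice.slice k V g.toLinearMap x := fun g x => rfl
  have hcomp : ∀ (g h : A →ₐ[k] k) (x : V), ∃ m : A →ₐ[k] k,
      HopfRep.Comod.act k A V g (HopfRep.Comod.act k A V h x) = HopfRep.Comod.act k A V m x := by
    intro g h x
    refine ⟨(Algebra.TensorProduct.lift g h (fun _ _ => Commute.all _ _)).comp (Bialgebra.comulAlgHom k A), ?_⟩
    rw [hact, hact, Groth.Agent.HopfRep.Slice.slice_slice, hact]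
    congr 2
    refine LinearMap.ext fun a => ?_
    simp only [LinearMap.comp_apply, AlgHom.toLinearMap_apply, AlgHom.comp_apply, Bialgebra.comulAlgHom_apply]
    generalize Coalgebra.comul (R := k) a = z
    induction z with
    | zero => simp
    | add p q hp hq => simp only [map_add, hp, hq]
    | tmul p q => simp [mul_comm]
  refine ⟨?_, ?_, ?_⟩
  · refine Groth.Agent.HopfRep.Slice.isSubcomod_iff.2 fun f x hx => ?_
    by_contra hne
    obtain ⟨ψ, hψ, hψE⟩ := Submodule.exists_dual_map_eq_bot_of_notMem hne inferInstance
    let a : A := TensorProduct.lid k A (LinearMap.rTensor A ψ (HopfRep.Comod.coact (k := k) (A := A) x))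
    have key : ∀ F : A →ₗ[k] k, ψ (Groth.Agent.HopfRep.Slice.slice k V F x) = F a := by
      intro F
      simp only [a, Groth.Agent.HopfRep.Slice.slice_apply]
      generalize HopfRep.Comod.coact (k := k) (A := A) x = z
      induction z with
      | zero => simp
      | add p q hp hq => simp only [map_add, hp, hq]
      | tmul p q => simp [mul_comm]
    have hx' : ∀ g : A →ₐ[k] k, HopfRep.Comod.act k A V g x ∈ E := by
      intro g
      refine Submodule.span_induction (p := fun y _ => HopfRep.Comod.act k A V g y ∈ E) ?_ ?_ ?_ ?_ hx
      · rintro _ ⟨h, rfl⟩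
        obtain ⟨m, hm⟩ := hcomp g h v
        show HopfRep.Comod.act k A V g (HopfRep.Comod.act k A V h v) ∈ E
        rw [hm]
        exact Submodule.subset_span ⟨m, rfl⟩
      · simp
      · intro p q _ _ hp hq
        rw [map_add]
        exact add_mem hp hq
      · intro c p _ hp
        rw [map_smul]
        exact E.smul_mem c hp
    have ha : a = 0 := by
      refine (Groth.Agent.HopfRep.Points.isNilpotent_of_forall_point (k := k) (fun g => ?_)).eq_zero
      rw [← AlgHom.toLinearMap_apply, ← key, ← hact]
      exact Submodule.eq_bot_iff _ |>.1 hψE _ ⟨_, hx' g, rfl⟩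
    exact hψ (by rw [key, ha, map_zero])
  · refine Submodule.subset_span ⟨Bialgebra.counitAlgHom k A, ?_⟩
    show HopfRep.Comod.act k A V _ v = v
    rw [hact]
    exact Groth.Agent.HopfRep.Slice.slice_counit v
  · intro W hW hv
    refine Submodule.span_le.2 ?_
    rintro _ ⟨g, rfl⟩
    exact Groth.Agent.HopfRep.Slice.isSubcomod_iff.1 hW g.toLinearMap v hv

end Groth.Agent.S5376
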