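import Groth.Statements.S5447
import Groth.Agent.RootDat.Trans

set_option autoImplicit false
open RootD

open RootPairing Groth.Agent.RootDat.Form Groth.Agent.RootDat.Pos Groth.Agent.RootDat.Weyl Groth.Agent.RootDat.Exist
namespace Groth.Agent.S5447

/-- If every root can be written in exactly one way as an integer combination of the roots indexed by Δ
with coefficients all of the same sign, then these roots are linearly independent (so Δ is a system
of simple roots) and indivisible. -/
theorem result {ι M N : Type*} [AddCommGroup M] [AddCommGroup N]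
    (P : RootPairing ι ℤ M N) [Finite ι] (Δ : Set ι)
    (h : ∀ k : ι, ∃! c : ι →₀ ℤ, (↑c.support ⊆ Δ ∧ ((∀ j, 0 ≤ c j) ∨ (∀ j, c j ≤ 0)) ∧
      Finsupp.linearCombination ℤ P.root c = P.root k)) :
    RootD.IsSimpleSys P Δ ∧ ∀ i ∈ Δ, RootD.IsIndiv P i := by
  classical
  have := Fintype.ofFinite ι
  have huniq : ∀ i ∈ Δ, ∀ c : ι →₀ ℤ, ↑c.support ⊆ Δ → (∀ j, 0 ≤ c j) →
      Finsupp.linearCombination ℤ P.root c = P.root i → c = Finsupp.single i 1 := by
    intro i hi c hc h0 he
    refine (h i).unique ⟨hc, .inl h0, he⟩ ⟨?_, .inl fun j => ?_, by simp⟩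
    · intro a ha; have := Finsupp.support_single_subset ha; simp_all
    · by_cases hji : i = j <;> simp [hji]
  have hz : ∀ i ∈ Δ, -P.root i ∉ RootD.natSpan P Δ := by
    intro i hi hn
    obtain ⟨c, hc, hc0, hce⟩ := natSpan_coeff P hn
    have e := huniq i hi (Finsupp.single i 2 + c) ?_ ?_ (by
      rw [map_add, hce, Finsupp.linearCombination_single]; module)
    · have h1 := DFunLike.congr_fun e i
      simp at h1
      have := hc0 i
      omega
    · intro a ha
      rcases Finset.mem_union.mp (Finsupp.support_add ha) with h' | h'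
      · have := Finsupp.support_single_subset h'; simp_all
      · exact hc h'
    · intro j
      have := hc0 j
      by_cases hji : i = j
      · subst hji; simp; omega
      · simp [hji]; omega
  have hob : ∀ i ∈ Δ, ∀ j ∈ Δ, i ≠ j → P.pairing i j ≤ 0 := by
    intro i hi j hj hne
    by_contra hp
    obtain ⟨k, hk⟩ := exists_sub_root P (not_le.mp hp) hne
    obtain ⟨c, ⟨hc, hsg, hce⟩, -⟩ := h k
    have key : ∀ a b : ι, a ∈ Δ → b ∈ Δ → a ≠ b → ∀ d : ι →₀ ℤ, ↑d.support ⊆ Δ → (∀ l, 0 ≤ d l) →
        Finsupp.linearCombination ℤ P.root d = P.root a - P.root b → False := by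
      intro a b ha hb hab d hd hd0 hde
      have e := huniq a ha (d + Finsupp.single b 1) ?_ ?_ (by
        rw [map_add, hde, Finsupp.linearCombination_single]; module)
      · have h1 := DFunLike.congr_fun e b
        simp [Finsupp.single_eq_of_ne hab.symm] at h1
        have := hd0 b
        omega
      · intro x hx
        rcases Finset.mem_union.mp (Finsupp.support_add hx) with h' | h'
        · exact hd h'
        · have := Finsupp.support_single_subset h'; simp_all
      · intro l
        have := hd0 l
        by_cases hbl : b = l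
        · subst hbl; simp; omega
        · simp [hbl]; omega
    rcases hsg with hs | hs
    · exact key i j hi hj hne c hc hs (hce.trans hk)
    · exact key j i hj hi hne.symm (-c) (by simpa using hc) (fun l => by simpa using hs l)
        (by rw [map_neg, hce, hk, neg_sub])
  have hΔ : RootD.IsSimpleSys P Δ := ⟨linInd_of_obtuse P hob hz, fun k => by
    obtain ⟨c, ⟨hc, hs | hs, hce⟩, -⟩ := h k
    · exact .inl (hce ▸ coeff_natSpan P hc hs)
    · right
      have := coeff_natSpan P (S := Δ) (c := -c) (by simpa using hc) (fun l => by simpa using hs l)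
      rwa [map_neg, hce] at this⟩
  exact ⟨hΔ, fun i hi => isIndiv_of_mem P hΔ hi⟩

end Groth.Agent.S5447
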