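import Groth.Statements.S5450
import Groth.Agent.RootDat.Exist

set_option autoImplicit false
open RootD

open RootPairing Groth.Agent.RootDat.Form Groth.Agent.RootDat.Pos Groth.Agent.RootDat.Weyl Groth.Agent.RootDat.Exist
namespace Groth.Agent.S5450

/-- A positive root (relative to a system of simple roots Δ) is simple if and only if it is not the sum
of two positive roots. -/
theorem result {ι M N : Type*} [AddCommGroup M] [AddCommGroup N]
    (P : RootPairing ι ℤ M N) [Finite ι] (Δ : Set ι) (hΔ : RootD.IsSimpleSys P Δ)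
    (k : ι) (hk : k ∈ RootD.posOf P Δ) :
    k ∈ Δ ↔ ¬ ∃ i j : ι, i ∈ RootD.posOf P Δ ∧ j ∈ RootD.posOf P Δ ∧ P.root k = P.root i + P.root j := by
  constructor
  · rintro h ⟨i, j, hi, hj, he⟩
    exact simple_not_sum P hΔ h ⟨i, hi, j, hj, he⟩
  · intro h
    have : k ∈ Indec P (RootD.posOf P Δ) :=
      ⟨hk, fun ⟨i, hi, j, hj, he⟩ => h ⟨i, j, hi, hj, he⟩⟩
    rwa [← eq_indec P hΔ] at this

end Groth.Agent.S5450
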