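import Groth.Statements.S5451
import Groth.Agent.RootDat.Exist

set_option autoImplicit false
open RootD

open RootPairing Groth.Agent.RootDat.Form Groth.Agent.RootDat.Pos Groth.Agent.RootDat.Weyl Groth.Agent.RootDat.Exist
namespace Groth.Agent.S5451

/-- If a root is a positive integer combination of roots α_i, then it can be reached from 0 by
successively adding roots taken among the α_i in such a way that every partial sum is a root. -/
theorem result {ι M N : Type*} [AddCommGroup M] [AddCommGroup N]
    (P : RootPairing ι ℤ M N) [Finite ι] {n : ℕ} (a : Fin n → ι) (m : Fin n → ℕ)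
    (hm : ∀ i, 0 < m i) (k : ι) (hk : P.root k = ∑ i, m i • P.root (a i)) :
    ∃ (l : ℕ) (b : Fin l → Fin n), 0 < l ∧
      (∀ p : Fin l, ∃ j : ι, P.root j = ∑ q ∈ Finset.univ.filter (fun q : Fin l => q.val ≤ p.val), P.root (a (b q))) ∧
      P.root k = ∑ q, P.root (a (b q)) := by
  classical
  have := Fintype.ofFinite ι
  suffices key : ∀ (N₀ : ℕ) (s : Multiset (Fin n)), s.card = N₀ → ∀ k : ι,
      P.root k = (s.map fun i => P.root (a i)).sum →
      ∃ (l : ℕ) (b : Fin l → Fin n), 0 < l ∧
        (∀ p : Fin l, ∃ j : ι, P.root j = ∑ q ∈ Finset.univ.filter (fun q : Fin l => q.val ≤ p.val), P.root (a (b q))) ∧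
        P.root k = ∑ q, P.root (a (b q)) by
    refine key _ (∑ i, m i • ({i} : Multiset (Fin n))) rfl k ?_
    rw [hk, ← Multiset.coe_mapAddMonoidHom (fun i => P.root (a i)), map_sum, Multiset.sum_sum]
    simp [map_nsmul, Multiset.sum_nsmul]
  intro N₀
  induction N₀ using Nat.strong_induction_on with
  | _ N₀ ih =>
    intro s hs k hk
    obtain ⟨b, hb, hpos⟩ : ∃ b ∈ s, 0 < P.pairing k (a b) := by
      by_contra hcon
      push Not at hcon
      obtain ⟨i, hi, hp⟩ := exists_pairing_pos P (S := a '' {x | x ∈ s}) (k := k) (by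
        rw [hk, show (s.map fun i => P.root (a i)) = (s.map a).map P.root by
          rw [Multiset.map_map]; rfl]
        exact multiset_natSpan P fun i hi => by
          obtain ⟨x, hx, rfl⟩ := Multiset.mem_map.mp hi
          exact ⟨x, hx, rfl⟩)
      obtain ⟨x, hx, rfl⟩ := hi
      exact absurd hp (not_lt.mpr (hcon x hx))
    by_cases hkb : k = a b
    · refine ⟨1, fun _ => b, one_pos, fun p => ⟨k, ?_⟩, ?_⟩
      · rw [Finset.filter_true_of_mem fun q _ => by omega, hkb]; simp
      · simp [hkb]
    · obtain ⟨d, hd⟩ := exists_sub_root P hpos hkb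
      obtain ⟨l, bb, hl, hpre, hsum⟩ := ih _ (hs ▸ Multiset.card_erase_lt_of_mem hb) _ rfl d (by
        rw [hd, hk]
        conv_lhs => rw [← Multiset.cons_erase hb]
        simp)
      refine ⟨l + 1, Fin.snoc bb b, by omega, fun p => ?_, ?_⟩
      · induction p using Fin.lastCases with
        | last =>
          refine ⟨k, ?_⟩
          rw [Finset.filter_true_of_mem fun q _ => by simp [Fin.val_last]; omega,
            Fin.sum_univ_castSucc]
          simp [← hsum, hd]
        | cast p =>
          obtain ⟨j, hj⟩ := hpre p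
          refine ⟨j, ?_⟩
          rw [hj, Finset.sum_filter, Finset.sum_filter, Fin.sum_univ_castSucc]
          have : ¬ (Fin.last l).val ≤ (Fin.castSucc p).val := by simp
          rw [if_neg this, add_zero]
          simp
      · rw [Fin.sum_univ_castSucc]
        simp [← hsum, hd]

end Groth.Agent.S5451
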