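import Groth.Statements.S5452
import Groth.Agent.RootDat.Exist

set_option autoImplicit false
open RootPairing
open scoped Pointwise
open RootD

open RootPairing Groth.Agent.RootDat.Form Groth.Agent.RootDat.Pos Groth.Agent.RootDat.Weyl Groth.Agent.RootDat.Exist
namespace Groth.Agent.S5452

/-- The Weyl group of a root datum acts faithfully on the set of roots. -/
theorem result {ι M N : Type*} [AddCommGroup M] [AddCommGroup N]
    (P : RootPairing ι ℤ M N) [Finite ι] :
    Function.Injective P.weylGroupToPerm := by
  have := Fintype.ofFinite ι
  refine (injective_iff_map_eq_one _).mpr fun g hg => Subtype.ext ?_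
  refine eq_one_of_fix P (g := (g : P.Aut)) (fun i => ?_) fun m => ⟨1, one_pos, ?_⟩
  · exact Equiv.congr_fun hg i
  · rw [one_smul]
    exact sub_smul_mem_span P g.2 m

end Groth.Agent.S5452
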