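import Groth.Statements.S5457
import Groth.Agent.RootDat.Exist

set_option autoImplicit false
open RootD

open RootPairing Groth.Agent.RootDat.Form Groth.Agent.RootDat.Pos Groth.Agent.RootDat.Weyl Groth.Agent.RootDat.Exist
namespace Groth.Agent.S5457

/-- Given a translation-invariant partial order (pulled back along an additive map to an ordered abelian
group) for which every root is > 0 or < 0, the roots > 0 form a system of positive roots. -/
theorem result {ι M N : Type*} [AddCommGroup M] [AddCommGroup N]
    (P : RootPairing ι ℤ M N) [Finite ι] {G : Type*} [AddCommGroup G] [PartialOrder G]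
    [IsOrderedAddMonoid G] (φ : M →+ G) (hφ : ∀ i : ι, 0 < φ (P.root i) ∨ φ (P.root i) < 0) :
    RootD.IsPosSys P {i : ι | 0 < φ (P.root i)} := by
  refine isPosSys_of_closed P (fun i hi hn => ?_) (fun i => ?_) fun i j k hi hj h => ?_
  · simp only [Set.mem_ofPred_eq, root_neg, map_neg] at hi hn
    exact absurd (lt_trans hi (neg_pos.mp hn)) (lt_irrefl _)
  · simp only [Set.mem_ofPred_eq, root_neg, map_neg]
    exact (hφ i).imp_right neg_pos.mpr
  · simp only [Set.mem_ofPred_eq, h, map_add] at hi hj ⊢
    exact add_pos hi hj

end Groth.Agent.S5457
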