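import Groth.Statements.S5458
import Groth.Agent.RootDat.Trans

set_option autoImplicit false
open RootD

open RootPairing Groth.Agent.RootDat.Form Groth.Agent.RootDat.Pos Groth.Agent.RootDat.Weyl Groth.Agent.RootDat.Exist
namespace Groth.Agent.S5458

/-- Let S be a system of positive roots with simple system Δ ⊆ S and let P' ⊇ S be a closed set of
roots; with Δ' the set of simple roots whose opposite lies in P', the set P' is the union of S and
of the roots that are non-positive integer combinations of Δ'. -/
theorem result {ι M N : Type*} [AddCommGroup M] [AddCommGroup N]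
    (P : RootPairing ι ℤ M N) [Finite ι] (S : Set ι) (hS : RootD.IsPosSys P S) (Δ : Set ι)
    (hΔ : RootD.IsSimpleSys P Δ) (hΔS : Δ ⊆ S) (P' : Set ι) (hcl : RootD.IsClosedSub P P')
    (hSP : S ⊆ P') :
    P' = S ∪ {k : ι | -P.root k ∈ RootD.natSpan P {i : ι | i ∈ Δ ∧ P.reflectionPerm i i ∈ P'}} := by
  have hpo := posOf_eq_of_subset P hΔ hS hΔS
  set D : Set ι := {i : ι | i ∈ Δ ∧ P.reflectionPerm i i ∈ P'} with hD
  refine Set.Subset.antisymm (fun k hk => ?_) ?_
  · by_cases hkS : k ∈ S
    · exact .inl hkS
    right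
    have hneg : P.reflectionPerm k k ∈ S := (hS.cover k).resolve_left hkS
    classical
    suffices key : ∀ (n : ℕ) (b : ι) (c : ι →₀ ℤ), ↑c.support ⊆ Δ → (∀ j, 0 ≤ c j) →
        Finsupp.linearCombination ℤ P.root c = P.root b → (c.sum fun _ a => a) ≤ n →
        P.reflectionPerm b b ∈ P' → P.root b ∈ RootD.natSpan P D by
      obtain ⟨c, hc, hc0, hce⟩ := natSpan_coeff P (S := Δ) (x := P.root (P.reflectionPerm k k))
        (by rw [← hpo] at hneg; exact hneg)
      have := key _ _ c hc hc0 hce (Int.self_le_toNat _) (by rwa [neg_neg_idx])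
      show -P.root k ∈ RootD.natSpan P _
      rwa [← root_neg]
    intro n
    induction n with
    | zero =>
      intro b c hc hc0 hce hn
      have := coeff_total_pos hc0 fun hz => root_ne_zero P b (by rw [← hce, hz, map_zero])
      omega
    | succ n ih =>
      intro b c hc hc0 hce hn hbP
      have hbS : b ∈ RootD.posOf P Δ := by
        show P.root b ∈ RootD.natSpan P Δ
        rw [← hce]; exact coeff_natSpan P hc hc0
      by_cases hbΔ : b ∈ Δ
      · exact root_mem_natSpan P ⟨hbΔ, hbP⟩
      obtain ⟨g, hg, d, hd, hbgd⟩ : ∃ g ∈ RootD.posOf P Δ, ∃ d ∈ RootD.posOf P Δ,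
          P.root b = P.root g + P.root d := by
        by_contra hno
        have : b ∈ Indec P (RootD.posOf P Δ) := ⟨hbS, hno⟩
        rw [← eq_indec P hΔ] at this
        exact hbΔ this
      obtain ⟨p, hp, hp0, hpe⟩ := natSpan_coeff P hg
      obtain ⟨q, hq, hq0, hqe⟩ := natSpan_coeff P hd
      have hpq : p + q = c := coeff_unique P hΔ.linInd
        (fun a ha => (Finset.mem_union.mp (Finsupp.support_add ha)).elim (fun h => hp h) fun h => hq h)
        hc (by rw [map_add, hpe, hqe, hce, hbgd])
      have ht : (p.sum fun _ a => a) + (q.sum fun _ a => a) = c.sum fun _ a => a := by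
        rw [← hpq, Finsupp.sum_add_index' (fun _ => rfl) (fun _ _ _ => rfl)]
      have := coeff_total_pos hp0 fun hz => root_ne_zero P g (by rw [← hpe, hz, map_zero])
      have := coeff_total_pos hq0 fun hz => root_ne_zero P d (by rw [← hqe, hz, map_zero])
      have hgS : g ∈ P' := hSP (hpo ▸ hg)
      have hdS : d ∈ P' := hSP (hpo ▸ hd)
      rw [hbgd]
      refine add_mem (ih g p hp hp0 hpe (by omega) ?_) (ih d q hq hq0 hqe (by omega) ?_)
      · exact hcl hbP hdS (by rw [root_neg, root_neg, hbgd]; abel)
      · exact hcl hbP hgS (by rw [root_neg, root_neg, hbgd]; abel)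
  · rintro k (hk | hk)
    · exact hSP hk
    · suffices h : P.root k ∈ RootD.natSpan P P' from natSpan_closed P hcl h
      have key : RootD.natSpan P D ≤ (RootD.natSpan P P').comap (-AddMonoidHom.id M) :=
        natSpan_le P fun i hi => by
          show -P.root i ∈ RootD.natSpan P P'
          rw [← root_neg]; exact root_mem_natSpan P hi.2
      have h2 : -(-P.root k) ∈ RootD.natSpan P P' := key hk
      rwa [neg_neg] at h2

end Groth.Agent.S5458
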