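import Groth.Statements.S5459
import Groth.Agent.RootDat.Trans

set_option autoImplicit false
open RootD

open RootPairing Groth.Agent.RootDat.Form Groth.Agent.RootDat.Pos Groth.Agent.RootDat.Weyl Groth.Agent.RootDat.Exist
namespace Groth.Agent.S5459

/-- A closed set of roots containing each root or its opposite is, for a suitable system of simple roots
Δ and a subset Δ' ⊆ Δ, the set of roots lying in ℕΔ ∪ (-ℕΔ'). -/
theorem result {ι M N : Type*} [AddCommGroup M] [AddCommGroup N]
    (P : RootPairing ι ℤ M N) [Finite ι] (P' : Set ι)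
    (hP2 : ∀ i : ι, i ∈ P' ∨ P.reflectionPerm i i ∈ P') (hcl : RootD.IsClosedSub P P') :
    ∃ Δ Δ' : Set ι, RootD.IsSimpleSys P Δ ∧ Δ' ⊆ Δ ∧
      P' = RootD.posOf P Δ ∪ {k : ι | -P.root k ∈ RootD.natSpan P Δ'} := by
  obtain ⟨S₀, hS₀⟩ := exists_posSys P
  obtain ⟨g, -, hg⟩ := Groth.Agent.RootDat.Trans.exists_image_subset P hP2 hcl hS₀
  have hS := isPosSys_image P g hS₀
  set S := (fun i : ι => g • i) '' S₀
  have hΔ := isSimpleSys_indec P hS
  refine ⟨Indec P S, {i | i ∈ Indec P S ∧ P.reflectionPerm i i ∈ P'}, hΔ, fun i hi => hi.1, ?_⟩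
  rw [posOf_indec P hS]
  refine Set.Subset.antisymm (fun k hk => ?_) ?_
  · classical
    by_cases hkS : k ∈ S
    · exact .inl hkS
    right
    have hneg : P.reflectionPerm k k ∈ S := (hS.cover k).resolve_left hkS
    suffices key : ∀ (n : ℕ) (b : ι) (c : ι →₀ ℤ), ↑c.support ⊆ Indec P S → (∀ j, 0 ≤ c j) →
        Finsupp.linearCombination ℤ P.root c = P.root b → (c.sum fun _ a => a) ≤ n →
        P.reflectionPerm b b ∈ P' →
        P.root b ∈ RootD.natSpan P {i | i ∈ Indec P S ∧ P.reflectionPerm i i ∈ P'} by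
      obtain ⟨c, hc, hc0, hce⟩ := natSpan_coeff P
        (mem_natSpan_indec P (posClosed hS) (fun _ h => hS.disjoint h) hneg)
      have := key _ _ c hc hc0 hce (Int.self_le_toNat _) (by rwa [neg_neg_idx])
      show -P.root k ∈ RootD.natSpan P _
      rwa [← root_neg]
    intro n
    induction n with
    | zero =>
      intro b c hc hc0 hce hn
      have := coeff_total_pos hc0 fun hz => root_ne_zero P b (by rw [← hce, hz, map_zero])
      omega
    | succ n ih =>
      intro b c hc hc0 hce hn hbP
      have hbS : b ∈ S := natSpan_closed P (posClosed hS)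
        (natSpan_mono P (indec_subset P S) (hce ▸ coeff_natSpan P hc hc0))
      by_cases hbΔ : b ∈ Indec P S
      · exact root_mem_natSpan P ⟨hbΔ, hbP⟩
      obtain ⟨a, ha, d, hd, hbgd⟩ : ∃ a ∈ S, ∃ d ∈ S, P.root b = P.root a + P.root d := by
        by_contra hno; exact hbΔ ⟨hbS, hno⟩
      obtain ⟨p, hp, hp0, hpe⟩ := natSpan_coeff P
        (mem_natSpan_indec P (posClosed hS) (fun _ h => hS.disjoint h) ha)
      obtain ⟨q, hq, hq0, hqe⟩ := natSpan_coeff P
        (mem_natSpan_indec P (posClosed hS) (fun _ h => hS.disjoint h) hd)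
      have hpq : p + q = c := coeff_unique P hΔ.linInd
        (fun a ha => (Finset.mem_union.mp (Finsupp.support_add ha)).elim (fun h => hp h) fun h => hq h)
        hc (by rw [map_add, hpe, hqe, hce, hbgd])
      have ht : (p.sum fun _ a => a) + (q.sum fun _ a => a) = c.sum fun _ a => a := by
        rw [← hpq, Finsupp.sum_add_index' (fun _ => rfl) (fun _ _ _ => rfl)]
      have := coeff_total_pos hp0 fun hz => root_ne_zero P a (by rw [← hpe, hz, map_zero])
      have := coeff_total_pos hq0 fun hz => root_ne_zero P d (by rw [← hqe, hz, map_zero])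
      rw [hbgd]
      refine add_mem (ih a p hp hp0 hpe (by omega) ?_) (ih d q hq hq0 hqe (by omega) ?_)
      · exact hcl hbP (hg hd) (by rw [root_neg, root_neg, hbgd]; abel)
      · exact hcl hbP (hg ha) (by rw [root_neg, root_neg, hbgd]; abel)
  · rintro k (hk | hk)
    · exact hg hk
    · suffices h : P.root k ∈ RootD.natSpan P P' from natSpan_closed P hcl h
      have key : RootD.natSpan P {i | i ∈ Indec P S ∧ P.reflectionPerm i i ∈ P'} ≤
          (RootD.natSpan P P').comap (-AddMonoidHom.id M) :=
        natSpan_le P fun i hi => by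
          show -P.root i ∈ RootD.natSpan P P'
          rw [← root_neg]; exact root_mem_natSpan P hi.2
      have h2 : -(-P.root k) ∈ RootD.natSpan P P' := key hk
      rwa [neg_neg] at h2

end Groth.Agent.S5459
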