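import Groth.Statements.S5460
import Groth.Agent.RootDat.Trans

set_option autoImplicit false
open RootD

open RootPairing Groth.Agent.RootDat.Form Groth.Agent.RootDat.Pos Groth.Agent.RootDat.Weyl Groth.Agent.RootDat.Exist
namespace Groth.Agent.S5460

/-- A set of roots R' is the trace on R of a vector subspace (every root with a positive multiple in the
span of R' lies in R') if and only if R' is the set of roots in the span of a subset Δ' of some
system of simple roots Δ. -/
theorem result {ι M N : Type*} [AddCommGroup M] [AddCommGroup N]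
    (P : RootPairing ι ℤ M N) [Finite ι] (R' : Set ι) :
    (∀ k : ι, (∃ n : ℕ, 0 < n ∧ n • P.root k ∈ Submodule.span ℤ (P.root '' R')) → k ∈ R') ↔
      ∃ Δ Δ' : Set ι, RootD.IsSimpleSys P Δ ∧ Δ' ⊆ Δ ∧ R' = RootD.inSpan P Δ' := by
  constructor
  · intro hsat
    obtain ⟨S₀, hS₀⟩ := exists_posSys P
    have hsat' : IsSat P R' := hsat
    let T := S₀ ∩ R'
    have hT : RootD.IsClosedSub P T := fun i j k hi hj h =>
      ⟨posClosed hS₀ hi.1 hj.1 h, hsat'.closed P hi.2 hj.2 h⟩
    have hd : ∀ i ∈ T, P.reflectionPerm i i ∉ T := fun i hi h => hS₀.disjoint hi.1 h.1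
    have hdiff : HasDiff P T := fun i j k hi hj h =>
      (hS₀.cover k).imp (fun h' => ⟨h', hsat'.sub P hi.2 hj.2 h⟩)
        fun h' => ⟨h', hsat'.neg P (hsat'.sub P hi.2 hj.2 h)⟩
    obtain ⟨Δ, hΔ, hsub, he⟩ := simpleSys_extend P hsat'
      (Δ' := Indec P T) (fun i hi => hi.1.2) (indec_linInd P hT hd hdiff) fun k hk => by
        rcases hS₀.cover k with h | h
        · exact .inl (mem_natSpan_indec P hT hd ⟨h, hk⟩)
        · right; rw [← root_neg]; exact mem_natSpan_indec P hT hd ⟨h, hsat'.neg P hk⟩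
    exact ⟨Δ, _, hΔ, hsub, he⟩
  · rintro ⟨Δ, Δ', hΔ, hsub, rfl⟩
    exact isSat_inSpan P hΔ hsub

end Groth.Agent.S5460
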