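import Groth.Statements.S5462
import Groth.Agent.RootDat.Trans

set_option autoImplicit false
open RootPairing
open scoped Pointwise
open RootD

open RootPairing Groth.Agent.RootDat.Form Groth.Agent.RootDat.Pos Groth.Agent.RootDat.Weyl Groth.Agent.RootDat.Exist
namespace Groth.Agent.S5462

/-- For Δ' contained in a system of simple roots Δ, the subgroup of the Weyl group generated by the
reflections in Δ' preserves the set of positive roots not lying in the span of Δ'. -/
theorem result {ι M N : Type*} [AddCommGroup M] [AddCommGroup N]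
    (P : RootPairing ι ℤ M N) [Finite ι] (Δ Δ' : Set ι) (hΔ : RootD.IsSimpleSys P Δ) (hsub : Δ' ⊆ Δ)
    (g : P.Aut) (hg : g ∈ Subgroup.closure ((fun i : ι => Equiv.reflection P i) '' Δ'))
    (k : ι) (hk : k ∈ RootD.posOf P Δ) (hk' : k ∉ RootD.inSpan P Δ') :
    g • k ∈ RootD.posOf P Δ ∧ g • k ∉ RootD.inSpan P Δ' := by
  obtain ⟨l, hl, rfl⟩ := exists_word P hg
  induction l with
  | nil => rw [word_nil, one_smul]; exact ⟨hk, hk'⟩
  | cons a l ih =>
    have hlm : ∀ b ∈ l, b ∈ Δ' := fun b hb => hl b (List.mem_cons_of_mem _ hb)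
    obtain ⟨h1, h2⟩ := ih hlm (word_mem P hlm)
    have ha : a ∈ Δ' := hl a List.mem_cons_self
    rw [word_cons, mul_smul, refl_smul_idx]
    refine ⟨refl_pos P hΔ h1 (hsub ha) ?_, fun h => h2 ?_⟩
    · rintro ⟨c, hc⟩
      refine h2 ?_
      show P.root _ ∈ Submodule.span ℤ _
      rw [hc]; exact Submodule.smul_mem _ _ (Submodule.subset_span (Set.mem_image_of_mem _ ha))
    · have h' : P.root (P.reflectionPerm a (word P l • k)) ∈ Submodule.span ℤ (P.root '' Δ') := h
      rw [P.root_reflectionPerm, P.reflection_apply] at h'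
      show P.root _ ∈ Submodule.span ℤ _
      simpa using add_mem h' (Submodule.smul_mem _ (P.coroot' a (P.root (word P l • k)))
        (Submodule.subset_span (Set.mem_image_of_mem _ ha)))

end Groth.Agent.S5462
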