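import Groth.Statements.S5463
import Groth.Agent.RootDat.Trans

set_option autoImplicit false
open RootPairing
open scoped Pointwise
open RootD

open RootPairing Groth.Agent.RootDat.Form Groth.Agent.RootDat.Pos Groth.Agent.RootDat.Weyl Groth.Agent.RootDat.Exist
namespace Groth.Agent.S5463

/-- An element w of the Weyl group belongs to the subgroup generated by the reflections in Δ' ⊆ Δ (Δ a
system of simple roots) if and only if w(α) - α lies in the rational span of Δ' for every root α. -/
theorem result {ι M N : Type*} [AddCommGroup M] [AddCommGroup N]
    (P : RootPairing ι ℤ M N) [Finite ι] (Δ Δ' : Set ι) (hΔ : RootD.IsSimpleSys P Δ)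
    (hsub : Δ' ⊆ Δ) (g : P.Aut) (hg : g ∈ P.weylGroup) :
    g ∈ Subgroup.closure ((fun i : ι => Equiv.reflection P i) '' Δ') ↔
      ∀ k : ι, ∃ n : ℕ, 0 < n ∧ n • (P.root (g • k) - P.root k) ∈ Submodule.span ℤ (P.root '' Δ') := by
  classical
  have hWle : ∀ g ∈ Subgroup.closure ((fun i : ι => Equiv.reflection P i) '' Δ'), ∀ x : M,
      g • x - x ∈ Submodule.span ℤ (P.root '' Δ') := by
    intro g hg
    induction hg using Subgroup.closure_induction with
    | mem x hx =>
      obtain ⟨i, hi, rfl⟩ := hx
      intro m
      rw [refl_smul, P.reflection_apply, sub_sub_cancel_left]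
      exact neg_mem (Submodule.smul_mem _ _ (Submodule.subset_span (Set.mem_image_of_mem _ hi)))
    | one => intro m; simp
    | mul a b _ _ ha hb =>
      intro m
      have := add_mem (ha (b • m)) (hb m)
      rwa [sub_add_sub_cancel, ← mul_smul] at this
    | inv a _ ha =>
      intro m
      have := ha (a⁻¹ • m)
      rw [smul_inv_smul] at this
      rw [← neg_sub]
      exact neg_mem this
  constructor
  · intro h k
    exact ⟨1, one_pos, by rw [one_smul, root_smul]; exact hWle g h _⟩
  · intro h
    rw [← closure_simple P hΔ] at hg
    obtain ⟨l, hl, rfl⟩ := exists_minWord P hg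
    clear hg
    induction l using List.reverseRecOn with
    | nil => rw [word_nil]; exact one_mem _
    | append_singleton l a ih =>
      have haΔ : a ∈ Δ := hl.1 a (by simp)
      have hneg := minWord_last_neg P hΔ subset_rfl hl
      obtain ⟨n, hn, hn'⟩ := h a
      have ha' : a ∈ Δ' := by
        by_contra hna
        obtain ⟨c, hc, hc0, hce⟩ := natSpan_coeff P hneg
        obtain ⟨d, hd, hde⟩ := (Finsupp.mem_span_image_iff_linearCombination ℤ).mp hn'
        have he : d = (n : ℤ) • (-c - Finsupp.single a 1) := coeff_unique P hΔ.linInd
          (hd.trans hsub)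
          (fun b hb => by
            have hb' := Finsupp.support_smul hb
            rcases Finset.mem_union.mp (Finsupp.support_sub hb') with h' | h'
            · exact hc (by simpa using h')
            · have := Finsupp.support_single_subset h'; simp_all)
          (by rw [map_zsmul, map_sub, map_neg, hce, hde, Finsupp.linearCombination_single,
            natCast_zsmul, one_smul, neg_neg])
        have h1 := DFunLike.congr_fun he a
        have hda : d a = 0 := by
          by_contra hne; exact hna (hd (Finsupp.mem_support_iff.mpr hne))
        simp [hda] at h1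
        have := hc0 a
        rcases h1 with h1 | h1 <;> omega
      have hmem : Equiv.reflection P a ∈ Subgroup.closure ((fun i : ι => Equiv.reflection P i) '' Δ') :=
        Subgroup.subset_closure ⟨a, ha', rfl⟩
      rw [word_concat]
      refine mul_mem (ih (IsMinWord.init P hl) fun k => ?_) hmem
      obtain ⟨m, hm, hm'⟩ := h (P.reflectionPerm a k)
      refine ⟨m, hm, ?_⟩
      rw [word_concat, mul_smul, refl_smul_idx, P.reflectionPerm_self] at hm'
      have e : P.root (word P l • k) - P.root k =
          (P.root (word P l • k) - P.root (P.reflectionPerm a k)) +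
            (P.root (P.reflectionPerm a k) - P.root k) := by abel
      rw [e, smul_add]
      refine add_mem hm' (nsmul_mem ?_ m)
      rw [P.root_reflectionPerm, P.reflection_apply, sub_sub_cancel_left]
      exact neg_mem (Submodule.smul_mem _ _ (Submodule.subset_span (Set.mem_image_of_mem _ ha')))

end Groth.Agent.S5463
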