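import Groth.Statements.S5464
import Groth.Agent.RootDat.Ind

set_option autoImplicit false
open RootD

open RootPairing Groth.Agent.RootDat.Form Groth.Agent.RootDat.Pos Groth.Agent.RootDat.Weyl Groth.Agent.RootDat.Exist
namespace Groth.Agent.S5464

/-- Given an indivisible root α and a root γ not proportional to it, there is a system of simple roots
containing α and a simple root β of it with γ = aα + bβ, a, b ∈ ℕ. -/
theorem result {ι M N : Type*} [AddCommGroup M] [AddCommGroup N]
    (P : RootPairing ι ℤ M N) [Finite ι] (i k : ι) (hα : RootD.IsIndiv P i)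
    (hli : LinearIndependent ℤ ![P.root i, P.root k]) :
    ∃ Δ : Set ι, RootD.IsSimpleSys P Δ ∧ i ∈ Δ ∧
      ∃ j ∈ Δ, ∃ a b : ℕ, P.root k = a • P.root i + b • P.root j := by
  classical
  obtain ⟨S₀, hS₀⟩ := exists_posSys P
  let L1 : Set ι := {l | ∃ n : ℕ, 0 < n ∧ n • P.root l ∈ Submodule.span ℤ (P.root '' {i})}
  have hL1 : IsSat P L1 := by
    rintro l ⟨n, hn, hl⟩
    have hle : ∀ y ∈ Submodule.span ℤ (P.root '' L1), ∃ m : ℕ, 0 < m ∧ m • y ∈ Submodule.span ℤ (P.root '' {i}) := by
      intro y hy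
      induction hy using Submodule.span_induction with
      | mem y hy => obtain ⟨a, ha, rfl⟩ := hy; exact ha
      | zero => exact ⟨1, one_pos, by simp⟩
      | add a b _ _ ha hb =>
        obtain ⟨m, hm, ha⟩ := ha
        obtain ⟨m', hm', hb⟩ := hb
        refine ⟨m * m', by positivity, ?_⟩
        rw [smul_add]
        refine add_mem ?_ ?_
        · rw [mul_comm, mul_smul]; exact nsmul_mem ha m'
        · rw [mul_smul]; exact nsmul_mem hb m
      | smul c a _ ha =>
        obtain ⟨m, hm, ha⟩ := ha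
        exact ⟨m, hm, by rw [smul_comm]; exact Submodule.smul_mem _ c ha⟩
    obtain ⟨m, hm, hm'⟩ := hle _ hl
    exact ⟨m * n, by positivity, by rwa [mul_smul]⟩
  have hL1m : ∀ l ∈ L1, ∃ a : ℤ, P.root l = a • P.root i := by
    rintro l ⟨n, hn, hl⟩
    rw [Set.image_singleton, Submodule.mem_span_singleton] at hl
    obtain ⟨a, ha⟩ := hl
    rw [← natCast_zsmul] at ha
    obtain ⟨t, ht⟩ := Groth.Agent.RootDat.Trans.indiv_dvd P hα (b := (n : ℤ)) (a := a)
      (by exact_mod_cast hn.ne') ha.symm
    exact ⟨t, cancel P (n := (n : ℤ)) (by exact_mod_cast hn.ne') (by rw [← ha, ht, mul_smul])⟩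
  let T : Set ι := {l | l ∈ L1 ∧ ∃ a : ℤ, 0 < a ∧ P.root l = a • P.root i}
  have hiL : i ∈ L1 := ⟨1, one_pos, by rw [one_smul]; exact Submodule.subset_span ⟨i, rfl, rfl⟩⟩
  have hkL : k ∉ L1 := fun h => by
    obtain ⟨a, ha⟩ := hL1m k h
    have := (LinearIndependent.pair_iff.mp hli) (-a) 1 (by rw [ha]; module)
    exact one_ne_zero this.2
  obtain ⟨φ, hφ⟩ := exists_hom_sat P hL1
  let ψ : ι → ℤ := fun l => φ ⟨P.root l, root_mem_span P l⟩
  obtain ⟨ε, hε, hεk⟩ : ∃ ε : ℤ, (ε = 1 ∨ ε = -1) ∧ 0 < ε * ψ k := by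
    have h0 : ψ k ≠ 0 := fun h => hkL ((hφ k).mp h)
    rcases lt_or_gt_of_ne h0 with h | h
    · exact ⟨-1, .inr rfl, by linarith⟩
    · exact ⟨1, .inl rfl, by linarith⟩
  let S : Set ι := {l | 0 < ε * ψ l} ∪ T
  have hψadd : ∀ a b c, P.root c = P.root a + P.root b → ψ c = ψ a + ψ b := fun a b c h => by
    show φ _ = φ _ + φ _
    rw [← map_add]; exact congrArg φ (Subtype.ext h)
  have hψneg : ∀ a, ψ (P.reflectionPerm a a) = -ψ a := fun a => by
    show φ _ = -φ _
    rw [← map_neg]; exact congrArg φ (Subtype.ext (root_neg P a))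
  have hT0 : ∀ l ∈ T, ψ l = 0 := fun l hl => (hφ l).mpr hl.1
  have hnn : ∀ l ∈ S, 0 ≤ ε * ψ l := fun l hl => hl.elim (fun h => le_of_lt h) fun h => by simp [hT0 l h]
  have hzS : ∀ l ∈ S, ψ l = 0 → l ∈ T := fun l hl h0 => hl.resolve_left (fun h => by simp [h0] at h)
  have hS : RootD.IsPosSys P S := by
    refine isPosSys_of_closed P (fun a ha hn => ?_) (fun a => ?_) fun a b c ha hb h => ?_
    · have h1 := hnn a ha
      have h2 := hnn _ hn
      rw [hψneg, mul_neg] at h2
      have h0 : ψ a = 0 := by rcases hε with rfl | rfl <;> omega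
      obtain ⟨-, u, hu, hua⟩ := hzS a ha h0
      obtain ⟨-, v, hv, hva⟩ := hzS _ hn (by rw [hψneg, h0, neg_zero])
      have : (u + v) • P.root i = 0 := by rw [add_smul, ← hua, ← hva, root_neg]; abel
      exact root_ne_zero P i (eq_zero_of_zsmul P (by omega) this)
    · rcases lt_trichotomy (ε * ψ a) 0 with h | h | h
      · exact .inr (.inl (show 0 < ε * ψ _ by rw [hψneg]; linarith))
      · have h0 : ψ a = 0 := by rcases hε with rfl | rfl <;> omega
        have haL := (hφ a).mp h0
        obtain ⟨u, hu⟩ := hL1m a haL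
        rcases lt_trichotomy u 0 with hu0 | hu0 | hu0
        · exact .inr (.inr ⟨hL1.neg P haL, -u, by omega, by rw [root_neg, hu, neg_smul]⟩)
        · exact absurd (by rw [hu, hu0, zero_smul]) (root_ne_zero P a)
        · exact .inl (.inr ⟨haL, u, hu0, hu⟩)
      · exact .inl (.inl h)
    · have h1 := hnn a ha
      have h2 := hnn b hb
      have h3 := hψadd a b c h
      by_cases h0 : ψ c = 0
      · have : ε * ψ a = 0 ∧ ε * ψ b = 0 := by
          have : ε * ψ a + ε * ψ b = 0 := by rw [← mul_add, ← h3, h0, mul_zero]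
          omega
        have ha0 : ψ a = 0 := by rcases hε with rfl | rfl <;> omega
        have hb0 : ψ b = 0 := by rcases hε with rfl | rfl <;> omega
        obtain ⟨hal, u, hu, hua⟩ := hzS a ha ha0
        obtain ⟨hbl, v, hv, hvb⟩ := hzS b hb hb0
        exact .inr ⟨(hφ c).mp h0, u + v, by omega, by rw [h, hua, hvb, add_smul]⟩
      · refine .inl (show 0 < ε * ψ c from ?_)
        have : ε * ψ c ≠ 0 := mul_ne_zero (by omega) h0
        rw [h3, mul_add] at this ⊢
        omega
  have hiS : i ∈ S := .inr ⟨hiL, 1, one_pos, (one_smul ℤ _).symm⟩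
  have hkS : k ∈ S := .inl hεk
  let R' : Set ι := {l | ∃ n : ℕ, 0 < n ∧ n • P.root l ∈ Submodule.span ℤ (P.root '' {i, k})}
  have hR' : IsSat P R' := by
    rintro l ⟨n, hn, hl⟩
    have hle : ∀ y ∈ Submodule.span ℤ (P.root '' R'), ∃ m : ℕ, 0 < m ∧ m • y ∈ Submodule.span ℤ (P.root '' {i, k}) := by
      intro y hy
      induction hy using Submodule.span_induction with
      | mem y hy => obtain ⟨a, ha, rfl⟩ := hy; exact ha
      | zero => exact ⟨1, one_pos, by simp⟩
      | add a b _ _ ha hb =>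
        obtain ⟨m, hm, ha⟩ := ha
        obtain ⟨m', hm', hb⟩ := hb
        refine ⟨m * m', by positivity, ?_⟩
        rw [smul_add]
        refine add_mem ?_ ?_
        · rw [mul_comm, mul_smul]; exact nsmul_mem ha m'
        · rw [mul_smul]; exact nsmul_mem hb m
      | smul c a _ ha =>
        obtain ⟨m, hm, ha⟩ := ha
        exact ⟨m, hm, by rw [smul_comm]; exact Submodule.smul_mem _ c ha⟩
    obtain ⟨m, hm, hm'⟩ := hle _ hl
    exact ⟨m * n, by positivity, by rwa [mul_smul]⟩
  let T' := S ∩ R'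
  have hT' : RootD.IsClosedSub P T' := fun a b c ha hb h =>
    ⟨posClosed hS ha.1 hb.1 h, hR'.closed P ha.2 hb.2 h⟩
  have hd : ∀ a ∈ T', P.reflectionPerm a a ∉ T' := fun a ha h => hS.disjoint ha.1 h.1
  have hdiff : HasDiff P T' := fun a b c ha hb h =>
    (hS.cover c).imp (fun h' => ⟨h', hR'.sub P ha.2 hb.2 h⟩)
      fun h' => ⟨h', hR'.neg P (hR'.sub P ha.2 hb.2 h)⟩
  have hmemR : ∀ l, l ∈ ({i, k} : Set ι) → l ∈ R' := fun l hl =>
    ⟨1, one_pos, by rw [one_smul]; exact Submodule.subset_span (Set.mem_image_of_mem _ hl)⟩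
  obtain ⟨Δ, hΔ, hsub, -⟩ := simpleSys_extend P hR' (Δ' := Indec P T') (fun a ha => ha.1.2)
    (indec_linInd P hT' hd hdiff) fun a ha => by
      rcases hS.cover a with h | h
      · exact .inl (mem_natSpan_indec P hT' hd ⟨h, ha⟩)
      · right; rw [← root_neg]; exact mem_natSpan_indec P hT' hd ⟨h, hR'.neg P ha⟩
  have hiI : i ∈ Indec P T' := by
    refine ⟨⟨hiS, hmemR i (by simp)⟩, ?_⟩
    rintro ⟨a, ha, b, hb, h⟩
    have h3 := hψadd a b i h
    have hi0 : ψ i = 0 := (hφ i).mpr hiL
    have h1 := hnn a ha.1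
    have h2 := hnn b hb.1
    have : ε * ψ a + ε * ψ b = 0 := by rw [← mul_add, ← h3, hi0, mul_zero]
    obtain ⟨-, u, hu, hua⟩ := hzS a ha.1 (by rcases hε with rfl | rfl <;> omega)
    obtain ⟨-, v, hv, hvb⟩ := hzS b hb.1 (by rcases hε with rfl | rfl <;> omega)
    have : (u + v - 1) • P.root i = 0 := by
      rw [sub_smul, add_smul, one_smul, ← hua, ← hvb, ← h, sub_self]
    exact root_ne_zero P i (eq_zero_of_zsmul P (by omega) this)
  refine ⟨Δ, hΔ, hsub hiI, ?_⟩
  obtain ⟨c, hc, hc0, hce⟩ := natSpan_coeff P (mem_natSpan_indec P hT' hd (i := k) ⟨hkS, hmemR k (by simp)⟩)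
  have hliD := indec_linInd P hT' hd hdiff
  -- the plane contains at most one simple root besides `i`
  have htwo : ∀ a ∈ Indec P T', ∀ b ∈ Indec P T', a ≠ i → b ≠ i → a = b := by
    intro a ha b hb hai hbi
    by_contra hab
    obtain ⟨n, hn, hna⟩ := ha.1.2
    obtain ⟨m, hm, hmb⟩ := hb.1.2
    rw [Set.image_pair, Submodule.mem_span_pair] at hna hmb
    obtain ⟨p, q, hpq⟩ := hna
    obtain ⟨r, s, hrs⟩ := hmb
    rw [← natCast_zsmul] at hpq hrs
    have e : Finsupp.single a (s * n) + Finsupp.single b (-(q * m)) +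
        Finsupp.single i (-(s * p - q * r)) = 0 := by
      refine coeff_unique P hliD ?_ (by simp) ?_
      · intro x hx
        rcases Finset.mem_union.mp (Finsupp.support_add hx) with h | h
        · rcases Finset.mem_union.mp (Finsupp.support_add h) with h | h <;>
            (have := Finsupp.support_single_subset h; simp_all)
        · have := Finsupp.support_single_subset h; simp_all
      · simp only [map_add, Finsupp.linearCombination_single, map_zero, neg_smul, mul_smul,
          sub_smul]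
        rw [← hpq, ← hrs]
        module
    have e1 := DFunLike.congr_fun e a
    simp [hab, Ne.symm hab, hai, Ne.symm hai] at e1
    rcases e1 with rfl | e1
    · rw [zero_smul, add_zero] at hrs
      have e2 : Finsupp.single b (m : ℤ) = Finsupp.single i r := by
        refine coeff_unique P hliD ?_ ?_ ?_
        · intro x hx; have := Finsupp.support_single_subset hx; simp_all
        · intro x hx; have := Finsupp.support_single_subset hx; simp_all
        · simp only [Finsupp.linearCombination_single]; exact hrs.symm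
      have := DFunLike.congr_fun e2 b
      simp [hbi, Ne.symm hbi] at this
      omega
    · omega
  by_cases hex : ∃ a ∈ Indec P T', a ≠ i
  · obtain ⟨j, hj, hji⟩ := hex
    refine ⟨j, hsub hj, (c i).toNat, (c j).toNat, ?_⟩
    have he : c = Finsupp.single i (c i) + Finsupp.single j (c j) := by
      ext x
      by_cases hxi : x = i
      · subst hxi; simp [hji]
      · by_cases hxj : x = j
        · subst hxj; simp [hji]
        · simp [Ne.symm hxi, Ne.symm hxj]
          by_contra hne
          exact hxj (htwo x (hc (Finsupp.mem_support_iff.mpr hne)) j hj hxi hji)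
    rw [← hce]
    conv_lhs => rw [he]
    simp [← natCast_zsmul, hc0]
  · push Not at hex
    refine ⟨i, hsub hiI, (c i).toNat, 0, ?_⟩
    have he : c = Finsupp.single i (c i) := by
      ext x
      by_cases hxi : x = i
      · subst hxi; simp
      · simp [Ne.symm hxi]
        by_contra hne
        exact hxi (hex x (hc (Finsupp.mem_support_iff.mpr hne)))
    rw [← hce]
    conv_lhs => rw [he]
    simp [← natCast_zsmul, hc0]

end Groth.Agent.S5464
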