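import Groth.Statements.S5465
import Groth.Agent.RootDat.Ind

set_option autoImplicit false
open RootD

open RootPairing Groth.Agent.RootDat.Form Groth.Agent.RootDat.Pos Groth.Agent.RootDat.Weyl Groth.Agent.RootDat.Exist
namespace Groth.Agent.S5465

/-- A map from the roots to an abelian group that is odd and additive on pairs of roots whose sum is a
root extends uniquely to a homomorphism on the lattice generated by the roots. -/
theorem result {ι M N : Type*} [AddCommGroup M] [AddCommGroup N]
    (P : RootPairing ι ℤ M N) [Finite ι] {G : Type*} [AddCommGroup G] (f : ι → G)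
    (hneg : ∀ i : ι, f (P.reflectionPerm i i) = -f i)
    (hadd : ∀ i j k : ι, P.root k = P.root i + P.root j → f k = f i + f j) :
    ∃! φ : Submodule.span ℤ (Set.range P.root) →+ G,
      ∀ i : ι, φ ⟨P.root i, Submodule.subset_span (Set.mem_range_self i)⟩ = f i := by
  classical
  obtain ⟨Δ, hΔ⟩ := exists_simpleSys P
  have hspan : Submodule.span ℤ (Set.range P.root) ≤
      Submodule.span ℤ (Set.range fun x : Δ => P.root x) := by
    rw [Groth.Agent.RootDat.Ind.span_simple P hΔ, Set.image_eq_range]
  let L := (Finsupp.linearCombination ℤ (fun x : Δ => f x)).comp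
    (hΔ.linInd.repr.comp (Submodule.inclusion hspan))
  have hL : ∀ i : ι, L ⟨P.root i, Submodule.subset_span (Set.mem_range_self i)⟩ = f i := by
    have hpos : ∀ i ∈ RootD.posOf P Δ, L ⟨P.root i, Submodule.subset_span (Set.mem_range_self i)⟩ = f i := by
      refine Groth.Agent.RootDat.Ind.posOf_induction P hΔ
        (Q := fun i => L ⟨P.root i, Submodule.subset_span (Set.mem_range_self i)⟩ = f i) (fun i hi => ?_) ?_
      · show Finsupp.linearCombination ℤ (fun x : Δ => f x) (hΔ.linInd.repr _) = f i
        rw [hΔ.linInd.repr_eq_single ⟨i, hi⟩ _ rfl, Finsupp.linearCombination_single, one_smul]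
      · intro a b c _ _ ha hb h
        rw [hadd a b c h, ← ha, ← hb, ← map_add]
        exact congrArg L (Subtype.ext h)
    intro i
    rcases (isPosSys_posOf P hΔ).cover i with h | h
    · exact hpos i h
    · have := hpos _ h
      rw [hneg] at this
      rw [← neg_neg (f i), ← this, ← map_neg]
      exact congrArg L (Subtype.ext (by simp))
  refine ⟨L.toAddMonoidHom, hL, fun φ hφ => ?_⟩
  refine DFunLike.ext _ _ fun ⟨x, hx⟩ => ?_
  induction hx using Submodule.span_induction with
  | mem y hy => obtain ⟨i, rfl⟩ := hy; exact (hφ i).trans (hL i).symm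
  | zero => exact (map_zero φ).trans (map_zero L.toAddMonoidHom).symm
  | add a b ha hb iha ihb =>
    have e : (⟨a + b, add_mem ha hb⟩ : Submodule.span ℤ (Set.range P.root)) = ⟨a, ha⟩ + ⟨b, hb⟩ := rfl
    rw [e, map_add, map_add, iha, ihb]
  | smul n a ha iha =>
    have e : (⟨n • a, Submodule.smul_mem _ n ha⟩ : Submodule.span ℤ (Set.range P.root)) = n • ⟨a, ha⟩ := rfl
    rw [e, map_zsmul, map_zsmul, iha]

end Groth.Agent.S5465
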