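import Groth.Statements.S5467
import Groth.Agent.RootDat.Exist

set_option autoImplicit false
open RootD

open RootPairing Groth.Agent.RootDat.Form Groth.Agent.RootDat.Pos Groth.Agent.RootDat.Weyl Groth.Agent.RootDat.Exist
namespace Groth.Agent.S5467

/-- For an indivisible positive non-simple root α there is a simple root β with (β^v, α) > 0 such that
s_β(α) is positive; its order relative to Δ is then smaller than that of α by (β^v, α). -/
theorem result {ι M N : Type*} [AddCommGroup M] [AddCommGroup N]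
    (P : RootPairing ι ℤ M N) [Finite ι] (Δ : Set ι) (hΔ : RootD.IsSimpleSys P Δ)
    (k : ι) (hk : k ∈ RootD.posOf P Δ) (hkΔ : k ∉ Δ) (hind : RootD.IsIndiv P k) :
    ∃ i ∈ Δ, 0 < P.pairing k i ∧ P.reflectionPerm i k ∈ RootD.posOf P Δ := by
  obtain ⟨i, hi, hp⟩ := exists_pairing_pos P (hk : P.root k ∈ RootD.natSpan P Δ)
  refine ⟨i, hi, hp, refl_pos P hΔ hk hi ?_⟩
  rintro ⟨a, ha⟩
  rcases multiple_of_posOf P hΔ hk hi ha with rfl | rfl
  · exact hkΔ ((P.root.injective (by rw [ha, one_smul]) : k = i) ▸ hi)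
  · exact hind i ha.symm

end Groth.Agent.S5467
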