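import Groth.Statements.S5468
import Groth.Agent.RootDat.Trans

set_option autoImplicit false
open RootD

open RootPairing Groth.Agent.RootDat.Form Groth.Agent.RootDat.Pos Groth.Agent.RootDat.Weyl Groth.Agent.RootDat.Exist
namespace Groth.Agent.S5468

/-- Two roots whose reflections are distinct and commute are orthogonal. -/
theorem result {ι M N : Type*} [AddCommGroup M] [AddCommGroup N]
    (P : RootPairing ι ℤ M N) [Finite ι] (i j : ι)
    (hne : P.reflection i ≠ P.reflection j) (hc : Commute (P.reflection i) (P.reflection j)) :
    P.IsOrthogonal i j := by
  have := Fintype.ofFinite ι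
  refine isOrth_of_pairing P ?_
  by_contra ha
  have h : P.reflection i (P.reflection j (P.root i)) = P.reflection j (P.reflection i (P.root i)) :=
    LinearEquiv.congr_fun hc.eq (P.root i)
  simp only [P.reflection_apply_root, P.pairing_same, map_sub, map_zsmul] at h
  have h2 : (2 * P.pairing i j) • P.root j = (P.pairing i j * P.pairing j i) • P.root i := by
    linear_combination (norm := module) -h
  apply hne
  refine LinearEquiv.ext fun x => ?_
  rw [P.reflection_apply, P.reflection_apply, proportional_coroot P (by simpa using ha) h2 x]

end Groth.Agent.S5468
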