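import Groth.Statements.S5469
import Groth.Agent.RootDat.Trans

set_option autoImplicit false
open RootPairing
open scoped Pointwise
open RootD

open RootPairing Groth.Agent.RootDat.Form Groth.Agent.RootDat.Pos Groth.Agent.RootDat.Weyl Groth.Agent.RootDat.Exist
namespace Groth.Agent.S5469

/-- Two non-orthogonal roots of equal length (for the canonical form ℓ(x) = Σ_{u ∈ R^v} (u, x)²) are
conjugate under the Weyl group. -/
theorem result {ι M N : Type*} [AddCommGroup M] [AddCommGroup N]
    (P : RootPairing ι ℤ M N) [Finite ι] [Fintype ι] (i j : ι) (hno : ¬ P.IsOrthogonal i j)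
    (hl : P.RootForm (P.root i) (P.root i) = P.RootForm (P.root j) (P.root j)) :
    ∃ g : P.Aut, g ∈ P.weylGroup ∧ g • i = j := by
  have hp : P.pairing i j = P.pairing j i := by
    have := pairing_swap P i j
    rw [show B P (P.root i) (P.root i) = B P (P.root j) (P.root j) from hl] at this
    exact mul_right_cancel₀ (B_self_pos P j).ne' this
  have hne0 : P.pairing i j ≠ 0 := fun e => hno (isOrth_of_pairing P e)
  by_cases hij : i = j
  · exact ⟨1, one_mem _, by rw [one_smul, hij]⟩
  by_cases hneg : P.root j = -P.root i
  · exact ⟨_, P.reflection_mem_weylGroup i, (root_eq_neg P hneg).symm⟩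
  have key : P.pairing i j = 1 ∨ P.pairing i j = -1 := by
    have h1 := P.pairingIn_pairingIn_mem_set_of_length_eq_of_ne (B := ⟨P.RootForm,
      ⟨fun x y => P.rootForm_symmetric.eq x y⟩, fun k => (B_self_pos P k).ne',
      fun k x y => B_refl P k x y⟩) hl hij (fun e => hneg (by rw [e, neg_neg]))
    have e := P.algebraMap_pairingIn ℤ i j
    simp only [algebraMap_int_eq, eq_intCast, Int.cast_id] at e
    simp [e] at h1
    omega
  rcases key with h | h
  · refine ⟨Equiv.reflection P i * Equiv.reflection P j * Equiv.reflection P i,
      mul_mem (mul_mem (P.reflection_mem_weylGroup i) (P.reflection_mem_weylGroup j))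
        (P.reflection_mem_weylGroup i), P.root.injective ?_⟩
    simp only [mul_smul, refl_smul_idx, P.root_reflectionPerm, P.reflection_apply_self, map_neg,
      P.reflection_apply_root, P.pairing_same, h, map_sub, one_smul]
    rw [show P.pairing j i = 1 from hp ▸ h]
    module
  · refine ⟨Equiv.reflection P i * Equiv.reflection P j,
      mul_mem (P.reflection_mem_weylGroup i) (P.reflection_mem_weylGroup j), P.root.injective ?_⟩
    simp only [mul_smul, refl_smul_idx, P.root_reflectionPerm,
      P.reflection_apply_root, h, map_sub, map_zsmul, P.pairing_same]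
    rw [show P.pairing j i = -1 from hp ▸ h]
    module

end Groth.Agent.S5469
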