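import Groth.Statements.S5470
import Groth.Agent.RootDat.Ind

set_option autoImplicit false
open RootPairing
open scoped Pointwise
open RootD

open RootPairing Groth.Agent.RootDat.Form Groth.Agent.RootDat.Pos Groth.Agent.RootDat.Weyl Groth.Agent.RootDat.Exist
namespace Groth.Agent.S5470

/-- In an irreducible root datum the Weyl group acts transitively on the roots of any given length. -/
theorem result {ι M N : Type*} [AddCommGroup M] [AddCommGroup N]
    (P : RootPairing ι ℤ M N) [Finite ι] [Fintype ι] [Nonempty ι]
    (hirr : ∀ R' : Set ι, RootD.IsClosedSub P R' → RootD.IsSymmSub P R' → RootD.IsClosedSub P R'ᶜ →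
      RootD.IsSymmSub P R'ᶜ → R' = ∅ ∨ R' = Set.univ)
    (i j : ι) (hl : P.RootForm (P.root i) (P.root i) = P.RootForm (P.root j) (P.root j)) :
    ∃ g : P.Aut, g ∈ P.weylGroup ∧ g • i = j := by
  obtain ⟨g, hg, hgj⟩ := Groth.Agent.RootDat.Ind.exists_conj_not_orth P i (j := j)
    (by rw [Groth.Agent.RootDat.Ind.comp_eq_univ P hirr]; trivial)
  have hl' : B P (P.root (g • i)) (P.root (g • i)) = B P (P.root j) (P.root j) := by
    rw [rootLength_smul]; exact hl
  have hpair : P.pairing (g • i) j = P.pairing j (g • i) := by
    have := pairing_swap P (g • i) j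
    rw [hl'] at this
    exact mul_right_cancel₀ (B_self_pos P j).ne' this
  by_cases hij : g • i = j
  · exact ⟨g, hg, hij⟩
  by_cases hneg : P.root j = -P.root (g • i)
  · exact ⟨Equiv.reflection P (g • i) * g, mul_mem (P.reflection_mem_weylGroup _) hg, by
      rw [mul_smul]; exact (root_eq_neg P hneg).symm⟩
  have hne0 : P.pairing (g • i) j ≠ 0 := fun e => hgj (isOrth_of_pairing P e)
  have key : P.pairing (g • i) j = 1 ∨ P.pairing (g • i) j = -1 := by
    have h1 := P.pairingIn_pairingIn_mem_set_of_length_eq_of_ne (B := ⟨P.RootForm,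
      ⟨fun x y => P.rootForm_symmetric.eq x y⟩, fun k => (B_self_pos P k).ne',
      fun k x y => B_refl P k x y⟩) hl' hij (fun e => hneg (by rw [e, neg_neg]))
    have e := P.algebraMap_pairingIn ℤ (g • i) j
    simp only [algebraMap_int_eq, eq_intCast, Int.cast_id] at e
    simp [e] at h1
    omega
  rcases key with h | h
  · refine ⟨Equiv.reflection P (g • i) * Equiv.reflection P j * Equiv.reflection P (g • i) * g,
      mul_mem (mul_mem (mul_mem (P.reflection_mem_weylGroup _) (P.reflection_mem_weylGroup j))
        (P.reflection_mem_weylGroup _)) hg, P.root.injective ?_⟩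
    simp only [mul_smul, refl_smul_idx, P.root_reflectionPerm, P.reflection_apply_self, map_neg,
      P.reflection_apply_root, P.pairing_same, h, map_sub, one_smul]
    rw [show P.pairing j (g • i) = 1 from hpair ▸ h]
    module
  · refine ⟨Equiv.reflection P (g • i) * Equiv.reflection P j * g,
      mul_mem (mul_mem (P.reflection_mem_weylGroup _) (P.reflection_mem_weylGroup j)) hg, P.root.injective ?_⟩
    simp only [mul_smul, refl_smul_idx, P.root_reflectionPerm,
      P.reflection_apply_root, P.pairing_same, h, map_sub, map_zsmul]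
    rw [show P.pairing j (g • i) = -1 from hpair ▸ h]
    module

end Groth.Agent.S5470
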