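import Groth.Statements.S5471
import Groth.Agent.RootDat.Ind

set_option autoImplicit false
open RootPairing
open scoped Pointwise
open RootD

open RootPairing Groth.Agent.RootDat.Form Groth.Agent.RootDat.Pos Groth.Agent.RootDat.Weyl Groth.Agent.RootDat.Exist
namespace Groth.Agent.S5471

/-- In a reduced irreducible root datum the ratios of squared root lengths to the minimal one form one
of the sets {1}, {1, 2}, {1, 3}. -/
theorem result {ι M N : Type*} [AddCommGroup M] [AddCommGroup N]
    (P : RootPairing ι ℤ M N) [Finite ι] [Fintype ι] [Nonempty ι] [P.IsReduced]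
    (hirr : ∀ R' : Set ι, RootD.IsClosedSub P R' → RootD.IsSymmSub P R' → RootD.IsClosedSub P R'ᶜ →
      RootD.IsSymmSub P R'ᶜ → R' = ∅ ∨ R' = Set.univ)
    (i₀ : ι) (hmin : ∀ i : ι, P.RootForm (P.root i₀) (P.root i₀) ≤ P.RootForm (P.root i) (P.root i)) :
    (∀ i : ι, P.RootForm (P.root i) (P.root i) = P.RootForm (P.root i₀) (P.root i₀) ∨
        P.RootForm (P.root i) (P.root i) = 2 * P.RootForm (P.root i₀) (P.root i₀) ∨
        P.RootForm (P.root i) (P.root i) = 3 * P.RootForm (P.root i₀) (P.root i₀)) ∧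
      ¬ ((∃ i : ι, P.RootForm (P.root i) (P.root i) = 2 * P.RootForm (P.root i₀) (P.root i₀)) ∧
          ∃ j : ι, P.RootForm (P.root j) (P.root j) = 3 * P.RootForm (P.root i₀) (P.root i₀)) := by
  have hcomp : ∀ i j, j ∈ Groth.Agent.RootDat.Comb.Comp P i := fun i j => by
    rw [Groth.Agent.RootDat.Ind.comp_eq_univ P hirr]; trivial
  set L : ι → ℤ := fun i => B P (P.root i) (P.root i) with hL
  have hconj : ∀ a b, ∃ a', L a' = L a ∧ ¬ P.IsOrthogonal a' b := fun a b => by
    obtain ⟨g, -, h⟩ := Groth.Agent.RootDat.Ind.exists_conj_not_orth P a (hcomp a b)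
    exact ⟨g • a, rootLength_smul P g a, h⟩
  have hred : ∀ a b, ¬ P.IsOrthogonal a b → L a ≤ L b → ∃ c : ℤ, (c = 1 ∨ c = 2 ∨ c = 3) ∧ L b = c * L a := by
    intro a b hab hle
    obtain ⟨c, hc, he⟩ := Groth.Agent.RootDat.Ind.length_ratio P hab hle
    refine ⟨c, ?_, he⟩
    by_contra hc'
    have hc4 : c = 4 := by omega
    subst hc4
    have hne : a ≠ b := fun e => by subst e; have := B_self_pos P a; omega
    have hneg : P.root a ≠ -P.root b := fun e => by
      have h1 : L a = L b := by show B P _ _ = B P _ _; simp [e, B]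
      have := B_self_pos P a
      change L b = 4 * L a at he; change 0 < L a at this; omega
    have h1 := P.pairingIn_pairingIn_mem_set_of_isCrystal_of_isRed' a b
      (fun e => hne (P.root.injective e)) hneg
    have e1 := P.algebraMap_pairingIn ℤ a b
    have e2 := P.algebraMap_pairingIn ℤ b a
    simp only [algebraMap_int_eq, eq_intCast, Int.cast_id] at e1 e2
    have hs := pairing_swap P a b
    have hp := B_self_pos P a
    have hne0 : P.pairing a b ≠ 0 := fun e => hab (isOrth_of_pairing P e)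
    simp only [e1, e2, Set.mem_insert_iff, Set.mem_singleton_iff, Prod.mk.injEq] at h1
    rw [show B P (P.root b) (P.root b) = 4 * B P (P.root a) (P.root a) from he] at hs
    rcases h1 with h | h | h | h | h | h | h | h | h | h | h <;> obtain ⟨u, v⟩ := h <;>
      rw [u, v] at hs <;> omega
  have h123 : ∀ i : ι, L i = L i₀ ∨ L i = 2 * L i₀ ∨ L i = 3 * L i₀ := by
    intro i
    obtain ⟨a', ha', hab⟩ := hconj i₀ i
    obtain ⟨c, hc, he⟩ := hred a' i hab (ha' ▸ hmin i)
    rw [ha'] at he
    rcases hc with rfl | rfl | rfl <;> omega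
  refine ⟨h123, ?_⟩
  rintro ⟨⟨i, hi⟩, j, hj⟩
  change L i = 2 * L i₀ at hi
  change L j = 3 * L i₀ at hj
  obtain ⟨a', ha', hab⟩ := hconj i j
  have hp : 0 < L i₀ := B_self_pos P i₀
  obtain ⟨c, hc, he⟩ := hred a' j hab (by omega)
  rw [ha', hi, hj] at he
  rcases hc with rfl | rfl | rfl <;> omega

end Groth.Agent.S5471
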