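import Groth.Statements.S5472
import Groth.Agent.RootDat.Ind

set_option autoImplicit false
open RootPairing
open scoped Pointwise
open RootD

open RootPairing Groth.Agent.RootDat.Form Groth.Agent.RootDat.Pos Groth.Agent.RootDat.Weyl Groth.Agent.RootDat.Exist
namespace Groth.Agent.S5472

/-- Let Δ be a system of simple roots (root-only sense), γ a positive root and α, β simple roots with
(γ, α^v) > 0 and (γ, β^v) ≥ 0 (equivalently: the order of s_α(γ) along Δ is smaller than that of γ,
and the order of s_β(γ) is at most that of γ). Then for every w in the group generated by s_α and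
s_β the order of w(γ) along Δ is at most that of γ, and strictly smaller unless w ∈ {1, s_β}. The
order is the sum of the coefficients along Δ; the conclusion is stated for the coefficient vector c
of γ - w(γ) along Δ: its coefficient sum is ≥ 0, and > 0 unless w = 1 or w = s_β. -/
theorem result {ι M N : Type*} [AddCommGroup M] [AddCommGroup N]
    (P : RootPairing ι ℤ M N) [Finite ι] (Δ : Set ι) (hΔ : RootD.IsSimpleSys P Δ)
    (k i j : ι) (hk : k ∈ RootD.posOf P Δ) (hi : i ∈ Δ) (hj : j ∈ Δ)
    (hα : 0 < P.pairing k i) (hβ : 0 ≤ P.pairing k j)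
    (g : P.Aut) (hg : g ∈ Subgroup.closure {Equiv.reflection P i, Equiv.reflection P j})
    (c : ι →₀ ℤ) (hc : ↑c.support ⊆ Δ)
    (hck : Finsupp.linearCombination ℤ P.root c = P.root k - P.root (g • k)) :
    0 ≤ c.sum (fun _ a => a) ∧ (g ≠ 1 → g ≠ Equiv.reflection P j → 0 < c.sum (fun _ a => a)) := by
  classical
  have hD : ({i, j} : Set ι) ⊆ Δ := Set.pair_subset hi hj
  have hg' : g ∈ Subgroup.closure ((fun a : ι => Equiv.reflection P a) '' ({i, j} : Set ι)) := by
    rwa [Set.image_pair]
  obtain ⟨l, hl, rfl⟩ := exists_minWord P hg'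
  clear hg hg'
  suffices key : ∀ l : List ι, IsMinWord P ({i, j} : Set ι) l → ∃ d : ι →₀ ℤ, ↑d.support ⊆ Δ ∧
      Finsupp.linearCombination ℤ P.root d = P.root k - P.root (word P l • k) ∧
      0 ≤ d.sum (fun _ a => a) ∧ ((∃ a ∈ l, a = i) → 0 < d.sum fun _ a => a) by
    obtain ⟨d, hd, hde, h0, hpos⟩ := key l hl
    obtain rfl := coeff_unique P hΔ.linInd hc hd (hck.trans hde.symm)
    refine ⟨h0, fun h1 h2 => hpos ?_⟩
    by_contra hno
    push Not at hno
    have hall : ∀ a ∈ l, a = j := fun a ha => (hl.1 a ha).resolve_left (hno a ha)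
    match l, hl, hall with
    | [], _, _ => exact h1 rfl
    | [a], _, hall => exact h2 (by rw [hall a (by simp)]; simp [word])
    | a :: b :: rest, hl, hall =>
      have := hl.2 rest (fun x hx => hl.1 x (by simp [hx])) (by
        rw [word_cons, word_cons, hall a (by simp), hall b (by simp), ← mul_assoc, refl_mul_self, one_mul])
      simp at this
  intro l
  induction l using List.reverseRecOn with
  | nil => intro _; exact ⟨0, by simp, by simp [word], by simp, by simp⟩
  | append_singleton l a ih =>
    intro hl
    obtain ⟨d, hd, hde, h0, hpos⟩ := ih (IsMinWord.init P hl)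
    obtain ⟨e, he, he0, hee⟩ := natSpan_coeff P (minWord_last_pos P hΔ hD hl : _)
    have he1 : 0 < e.sum fun _ a => a :=
      coeff_total_pos he0 fun hz => root_ne_zero P (word P l • a) (by rw [← hee, hz, map_zero])
    refine ⟨d + (P.pairing k a) • e, fun x hx => ?_, ?_, ?_, ?_⟩
    · exact (Finset.mem_union.mp (Finsupp.support_add hx)).elim (fun h => hd h)
        fun h => he (Finsupp.support_smul h)
    · rw [map_add, map_zsmul, hde, hee, word_concat, mul_smul, refl_smul_idx, root_smul, root_smul,
        root_smul, P.root_reflectionPerm, P.reflection_apply_root, smul_sub, smul_zsmul']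
      generalize word P l • P.root k = x
      generalize word P l • P.root a = y
      module
    all_goals
      rw [Finsupp.sum_add_index' (fun _ => rfl) (fun _ _ _ => rfl), Finsupp.sum_smul_index (fun _ => rfl),
        ← Finsupp.mul_sum]
      have hpa : 0 ≤ P.pairing k a := by
        rcases hl.1 a (by simp) with rfl | rfl
        · exact hα.le
        · exact hβ
      have hpe := mul_nonneg hpa he1.le
    · omega
    · rintro ⟨x, hx, rfl⟩
      rcases List.mem_append.mp hx with h | h
      · have := hpos ⟨x, h, rfl⟩; omega
      · rw [List.mem_singleton] at h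
        subst h
        have := mul_pos hα he1
        omega

end Groth.Agent.S5472
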