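import Groth.Statements.S5473
import Groth.Agent.RootDat.Ind

set_option autoImplicit false
open RootD

open RootPairing Groth.Agent.RootDat.Form Groth.Agent.RootDat.Pos Groth.Agent.RootDat.Weyl Groth.Agent.RootDat.Exist
namespace Groth.Agent.S5473

/-- If a linear map f and its transpose g induce bijections from the roots of R' onto the roots of R and
from the coroots of R onto the coroots of R' respectively (a morphism of root data in the
two-bijection sense), then the two bijections correspond: the coroot of α' is g applied to the
coroot of f(α'). -/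
theorem result {ι M N ι' M' N' : Type*} [AddCommGroup M] [AddCommGroup N] [AddCommGroup M'] [AddCommGroup N']
    (P : RootPairing ι ℤ M N) (P' : RootPairing ι' ℤ M' N') [Finite ι] [Finite ι']
    (f : M' →ₗ[ℤ] M) (g : N →ₗ[ℤ] N') (hfg : ∀ (m' : M') (n : N), P.toLinearMap (f m') n = P'.toLinearMap m' (g n))
    (e : ι' ≃ ι) (he : ∀ i' : ι', f (P'.root i') = P.root (e i'))
    (e' : ι ≃ ι') (he' : ∀ i : ι, g (P.coroot i) = P'.coroot (e' i)) :
    ∀ i' : ι', g (P.coroot (e i')) = P'.coroot i' := by
  have := Fintype.ofFinite ι
  have := Fintype.ofFinite ι'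
  intro i'
  rw [he' (e i')]
  refine congrArg P'.coroot (?_ : e' (e i') = i')
  refine P'.coroot.injective ?_
  have hco : ∀ x j, P.coroot' j (f x) = P'.coroot' (e' j) x := fun x j => by
    show P.toLinearMap (f x) (P.coroot j) = P'.toLinearMap x (P'.coroot (e' j))
    rw [hfg, he']
  have hiso : ∀ x y, B P (f x) (f y) = B P' x y := fun x y => by
    rw [B_def, B_def]
    exact Fintype.sum_equiv e' _ _ fun j => by rw [hco, hco]
  have key : ∀ x, P'.coroot' (e' (e i')) x = P'.coroot' i' x := fun x => by
    have h1 := two_B P (f x) (e i')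
    have h2 := two_B P' x i'
    rw [← he i', hiso, hiso, hco] at h1
    exact mul_right_cancel₀ (B_self_pos P' i').ne' (h1.symm.trans h2)
  exact P'.flip.toPerfPair.injective (LinearMap.ext key)

end Groth.Agent.S5473
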