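import Groth.Statements.S5474
import Groth.Agent.RootDat.BaseB
import Mathlib.GroupTheory.FiniteAbelian.Basic
import Mathlib.LinearAlgebra.Dimension.Torsion.Finite

set_option autoImplicit false
open RootD

open RootPairing Groth.Agent.RootDat.Form Groth.Agent.RootDat.Pos Groth.Agent.RootDat.Weyl Groth.Agent.RootDat.Exist
namespace Groth.Agent.S5474

/-- Every morphism between semisimple root data is an isogeny (injective on weight lattices with finite
cokernel). -/
theorem result {ι M N ι' M' N' : Type*} [AddCommGroup M] [AddCommGroup N] [AddCommGroup M'] [AddCommGroup N']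
    (P : RootPairing ι ℤ M N) (P' : RootPairing ι' ℤ M' N') [Finite ι] [Finite ι']
    [Module.Finite ℤ M] [Module.Finite ℤ N] [Module.Finite ℤ M'] [Module.Finite ℤ N']
    (hss : Module.finrank ℤ (Submodule.span ℤ (Set.range P.root)) = Module.finrank ℤ M)
    (hss' : Module.finrank ℤ (Submodule.span ℤ (Set.range P'.root)) = Module.finrank ℤ M')
    (f : RootPairing.Hom P' P) :
    Function.Injective f.weightMap ∧ Finite (M ⧸ LinearMap.range f.weightMap) := by
  have := Fintype.ofFinite ι
  have := Fintype.ofFinite ι'
  have := tf_left P'
  have hco : ∀ x (j : ι), P.coroot' j (f.weightMap x) = P'.coroot' (f.indexEquiv.symm j) x := fun x j => by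
    calc P.coroot' j (f.weightMap x) = P.toLinearMap (f.weightMap x) (P.coroot j) := rfl
      _ = P'.toLinearMap x (f.coweightMap (P.coroot j)) :=
          LinearMap.congr_fun (Hom.weight_coweight_transpose_apply P' P (P.coroot j) f) x
      _ = P'.coroot' (f.indexEquiv.symm j) x := by rw [Hom.coroot_coweightMap_apply P' P j f]; rfl
  refine ⟨(injective_iff_map_eq_zero _).mpr fun x hx => ?_, ?_⟩
  · have hker := (Groth.Agent.RootDat.BaseB.ss_iff P').mp hss'
    have : x ∈ (⨅ i : ι', LinearMap.ker (P'.coroot' i) : Submodule ℤ M') := by
      simp only [Submodule.mem_iInf, LinearMap.mem_ker]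
      intro i
      have := hco x (f.indexEquiv i)
      rwa [hx, map_zero, Equiv.symm_apply_apply, eq_comm] at this
    rw [hker] at this
    exact this
  · have hle : Submodule.span ℤ (Set.range P.root) ≤ LinearMap.range f.weightMap := by
      refine Submodule.span_le.mpr ?_
      rintro _ ⟨i, rfl⟩
      exact ⟨P'.root (f.indexEquiv.symm i), by
        rw [Hom.root_weightMap_apply, Equiv.apply_symm_apply]⟩
    have := tf_left P
    have : Module.Finite ℤ (Submodule.span ℤ (Set.range P.root)) :=
      Module.Finite.span_of_finite ℤ (Set.finite_range _)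
    have h1 : Module.finrank ℤ (LinearMap.range f.weightMap) = Module.finrank ℤ M :=
      le_antisymm (Submodule.finrank_le _) (hss ▸ Submodule.finrank_mono hle)
    have h2 := Submodule.finrank_quotient_add_finrank (LinearMap.range f.weightMap)
    rw [h1] at h2
    have h3 : Module.finrank ℤ (M ⧸ LinearMap.range f.weightMap) = 0 := by omega
    have : Module.IsTorsion ℤ (M ⧸ LinearMap.range f.weightMap) :=
      Module.finrank_eq_zero_iff_isTorsion.mp h3
    exact Module.finite_of_fg_torsion _ this

end Groth.Agent.S5474
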