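import Groth.Statements.S5475
import Groth.Agent.RootDat.Ind

set_option autoImplicit false
open RootD

open RootPairing Groth.Agent.RootDat.Form Groth.Agent.RootDat.Pos Groth.Agent.RootDat.Weyl Groth.Agent.RootDat.Exist
namespace Groth.Agent.S5475

/-- In an adjoint root datum every indivisible root is an indivisible element of the weight lattice. -/
theorem result {ι M N : Type*} [AddCommGroup M] [AddCommGroup N]
    (P : RootPairing ι ℤ M N) [Finite ι] (had : Submodule.span ℤ (Set.range P.root) = ⊤)
    (i : ι) (hind : RootD.IsIndiv P i) (m : M) (n : ℤ) (h : n • m = P.root i) : n = 1 ∨ n = -1 := by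
  classical
  obtain ⟨Δ, hΔ⟩ := exists_simpleSys P
  obtain ⟨g, -, j, hj, rfl⟩ := indiv_conj P hΔ hind
  have hm : g⁻¹ • m ∈ Submodule.span ℤ (P.root '' Δ) := by
    rw [← Groth.Agent.RootDat.Ind.span_simple P hΔ, had]; trivial
  obtain ⟨c, hc, hce⟩ := (Finsupp.mem_span_image_iff_linearCombination ℤ).mp hm
  have he : n • c = Finsupp.single j 1 := coeff_unique P hΔ.linInd
    ((Finset.coe_subset.mpr Finsupp.support_smul).trans hc)
    (fun a ha => by have := Finsupp.support_single_subset ha; simp_all)
    (by rw [map_zsmul, hce, Finsupp.linearCombination_single, one_smul, ← smul_zsmul', h, root_smul,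
      inv_smul_smul])
  have h1 := DFunLike.congr_fun he j
  simp at h1
  exact Int.eq_one_or_neg_one_of_mul_eq_one h1

end Groth.Agent.S5475
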