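import Groth.Statements.S5476
import Groth.Agent.RootDat.BaseB
import Mathlib.LinearAlgebra.FreeModule.Finite.Matrix

set_option autoImplicit false
open RootD

open RootPairing Groth.Agent.RootDat.Form Groth.Agent.RootDat.Pos Groth.Agent.RootDat.Weyl Groth.Agent.RootDat.Exist
namespace Groth.Agent.S5476

/-- The lattice of the coradical (weights killed by every coroot) and the lattice of the radical
(coweights killed by every root) both have rank rgred - rgss, the rank of the weight lattice minus
the rank of the lattice generated by the roots; and the datum is semisimple (the roots span a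
sublattice of full rank) if and only if the coradical lattice vanishes, if and only if the radical
lattice vanishes. -/
theorem result {ι M N : Type*} [AddCommGroup M] [AddCommGroup N]
    (P : RootPairing ι ℤ M N) [Finite ι] [Module.Finite ℤ M] [Module.Finite ℤ N] :
    (Module.finrank ℤ (⨅ i : ι, LinearMap.ker (P.coroot' i) : Submodule ℤ M) +
        Module.finrank ℤ (Submodule.span ℤ (Set.range P.root)) = Module.finrank ℤ M) ∧
      (Module.finrank ℤ (⨅ i : ι, LinearMap.ker (P.root' i) : Submodule ℤ N) +
        Module.finrank ℤ (Submodule.span ℤ (Set.range P.root)) = Module.finrank ℤ M) ∧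
      (Module.finrank ℤ (Submodule.span ℤ (Set.range P.root)) = Module.finrank ℤ M ↔
        (⨅ i : ι, LinearMap.ker (P.coroot' i) : Submodule ℤ M) = ⊥) ∧
      (Module.finrank ℤ (Submodule.span ℤ (Set.range P.root)) = Module.finrank ℤ M ↔
        (⨅ i : ι, LinearMap.ker (P.root' i) : Submodule ℤ N) = ⊥) := by
  have := Fintype.ofFinite ι
  have h1 := Groth.Agent.RootDat.BaseB.rank_add P
  have h2 := Groth.Agent.RootDat.BaseB.rank_add P.flip
  have h3 := Groth.Agent.RootDat.BaseB.ss_iff P.flip
  change Module.finrank ℤ (⨅ i : ι, LinearMap.ker (P.root' i) : Submodule ℤ N) +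
    Module.finrank ℤ (Submodule.span ℤ (Set.range P.coroot)) = Module.finrank ℤ N at h2
  change Module.finrank ℤ (Submodule.span ℤ (Set.range P.coroot)) = Module.finrank ℤ N ↔
    (⨅ i : ι, LinearMap.ker (P.root' i) : Submodule ℤ N) = ⊥ at h3
  have hr : Module.finrank ℤ (Submodule.span ℤ (Set.range P.coroot)) =
      Module.finrank ℤ (Submodule.span ℤ (Set.range P.root)) := by
    have a1 := Groth.Agent.RootDat.BaseB.span_le_range P
    have a2 := Groth.Agent.RootDat.BaseB.range_le_span P
    have a3 := Groth.Agent.RootDat.BaseB.span_le_range P.flip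
    have a4 := Groth.Agent.RootDat.BaseB.range_le_span P.flip
    change Module.finrank ℤ (Submodule.span ℤ (Set.range P.coroot)) ≤ _ at a3
    change _ ≤ Module.finrank ℤ (Submodule.span ℤ (Set.range P.root)) at a4
    omega
  have hMN : Module.finrank ℤ N = Module.finrank ℤ M := by
    have := tf_right P
    rw [LinearEquiv.finrank_eq P.toPerfPair, Module.finrank_linearMap_self]
  rw [hr, hMN] at h2 h3
  exact ⟨h1, h2, Groth.Agent.RootDat.BaseB.ss_iff P, h3⟩

end Groth.Agent.S5476
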