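import Groth.Statements.S5478
import Groth.Agent.RootDat.Trans

set_option autoImplicit false
open RootPairing
open scoped Pointwise
open RootD

open RootPairing Groth.Agent.RootDat.Form Groth.Agent.RootDat.Pos Groth.Agent.RootDat.Weyl Groth.Agent.RootDat.Exist
namespace Groth.Agent.S5478

/-- The group of automorphisms of a root datum that act trivially on the radical is finite. -/
theorem result {ι M N : Type*} [AddCommGroup M] [AddCommGroup N]
    (P : RootPairing ι ℤ M N) [Finite ι] :
    Set.Finite {u : P.Aut | ∀ m : M, ∃ n : ℕ, 0 < n ∧ n • (u • m - m) ∈ Submodule.span ℤ (Set.range P.root)} := by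
  have := Fintype.ofFinite ι
  refine Set.Finite.of_injOn (f := fun u : P.Aut => (Equiv.indexHom P u : ι ≃ ι)) (Set.mapsTo_univ _ _) ?_
    Set.finite_univ
  intro u hu v hv h
  have hfix : ∀ i : ι, (v⁻¹ * u) • i = i := fun i => by
    rw [mul_smul, show u • i = v • i from Equiv.congr_fun h i, inv_smul_smul]
  have hsp : ∀ x ∈ Submodule.span ℤ (Set.range P.root), v⁻¹ • x ∈ Submodule.span ℤ (Set.range P.root) := by
    intro x hx
    induction hx using Submodule.span_induction with
    | mem y hy => obtain ⟨i, rfl⟩ := hy; rw [← root_smul]; exact root_mem_span P _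
    | zero => simp
    | add a b _ _ ha hb => rw [smul_add]; exact add_mem ha hb
    | smul c a _ ha => rw [smul_zsmul']; exact Submodule.smul_mem _ c ha
  have := eq_one_of_fix P hfix fun m => by
    obtain ⟨n, hn, h1⟩ := hu m
    obtain ⟨k, hk, h2⟩ := hv m
    refine ⟨n * k, by positivity, ?_⟩
    have e1 : (k : ℤ) • (n • (u • m - m)) - (n : ℤ) • (k • (v • m - m)) =
        ((n * k : ℕ) : ℤ) • (u • m - v • m) := by generalize u • m = x; generalize v • m = y; push_cast; module
    have e : (n * k) • ((v⁻¹ * u) • m - m) =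
        v⁻¹ • ((k : ℤ) • (n • (u • m - m)) - (n : ℤ) • (k • (v • m - m))) := by
      rw [e1, smul_zsmul' P, smul_sub v⁻¹, inv_smul_smul, natCast_zsmul, ← mul_smul v⁻¹ u m]
    rw [e]
    exact hsp _ (sub_mem (Submodule.smul_mem _ _ h1) (Submodule.smul_mem _ _ h2))
  exact (inv_mul_eq_one.mp this).symm

end Groth.Agent.S5478
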