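import Groth.Statements.S5479
import Groth.Agent.RootDat.Trans

set_option autoImplicit false
open RootPairing
open scoped Pointwise
open RootD

open RootPairing Groth.Agent.RootDat.Form Groth.Agent.RootDat.Pos Groth.Agent.RootDat.Weyl Groth.Agent.RootDat.Exist
namespace Groth.Agent.S5479

/-- Aut(R) is the semidirect product of the Weyl group by the stabiliser E_Δ of a system of simple
roots: every automorphism is uniquely w · e with w ∈ W and e(Δ) = Δ. -/
theorem result {ι M N : Type*} [AddCommGroup M] [AddCommGroup N]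
    (P : RootPairing ι ℤ M N) [Finite ι] (Δ : Set ι) (hΔ : RootD.IsSimpleSys P Δ) (u : P.Aut) :
    ∃! w : P.weylGroup, (fun i : ι => ((w : P.Aut)⁻¹ * u) • i) '' Δ = Δ := by
  obtain ⟨w, hw, hwe⟩ := Groth.Agent.RootDat.Trans.transitive_simpleSys P hΔ
    (isSimpleSys_image P u hΔ)
  have hset : ∀ v : P.Aut, (fun i : ι => (v⁻¹ * u) • i) '' Δ = Δ ↔
      (fun i : ι => v • i) '' Δ = (fun i : ι => u • i) '' Δ := fun v => by
    have e : (fun i : ι => (v⁻¹ * u) • i) '' Δ = (fun i => v⁻¹ • i) '' ((fun i : ι => u • i) '' Δ) := by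
      rw [Set.image_image]; simp only [mul_smul]
    rw [e]
    constructor
    · intro h
      conv_lhs => rw [← h]
      rw [Set.image_image]; simp
    · intro h
      rw [← h, Set.image_image]; simp
  refine ⟨⟨w, hw⟩, (hset w).mpr hwe, fun v hv => Subtype.ext ?_⟩
  have hv' := (hset v).mp hv
  have : w⁻¹ * (v : P.Aut) = 1 := by
    refine eq_one_of_maps_pos P hΔ (mul_mem (inv_mem hw) v.2) fun i hi => subset_posOf P ?_
    obtain ⟨j, hj, hje⟩ : (v : P.Aut) • i ∈ (fun i : ι => w • i) '' Δ := by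
      rw [hwe, ← hv']; exact ⟨i, hi, rfl⟩
    rw [mul_smul, ← hje, inv_smul_smul]; exact hj
  exact (inv_mul_eq_one.mp this).symm

end Groth.Agent.S5479
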