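import Groth.Statements.S5480
import Groth.Agent.RootDat.Ind

set_option autoImplicit false
open RootD

open RootPairing Groth.Agent.RootDat.Form Groth.Agent.RootDat.Pos Groth.Agent.RootDat.Weyl Groth.Agent.RootDat.Exist
namespace Groth.Agent.S5480

theorem weyl_inj {ι M N : Type*} [AddCommGroup M] [AddCommGroup N] (Q : RootPairing ι ℤ M N) [Fintype ι]
    (g h : Q.weylGroup) (hgh : ∀ i : ι, (g : Q.Aut) • i = (h : Q.Aut) • i) : g = h := by
  refine Subtype.ext (inv_mul_eq_one.mp (eq_one_of_fix Q (g := (h : Q.Aut)⁻¹ * g) (fun i => ?_) fun m => ⟨1, one_pos, ?_⟩)).symm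
  · rw [mul_smul, hgh, inv_smul_smul]
  · rw [one_smul]; exact sub_smul_mem_span Q (mul_mem (inv_mem h.2) g.2) m

/-- For a p-morphism of reduced root data with root bijection u and radicial exponents q: (a) for all
roots α, β one has q(s_α(β)) = q(β) and u(s_α(β)) = s_{u(α)}(u(β)); (b) the exponents are invariant
under the Weyl group, q(w(α)) = q(α); (c) there is an isomorphism ū from the Weyl group of the first
datum to that of the second with ū(s_α) = s_{u(α)} and u(w(α)) = ū(w)(u(α)) for every Weyl group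
element w and every root α. -/
theorem result {ι M N ι' M' N' : Type*} [AddCommGroup M] [AddCommGroup N] [AddCommGroup M'] [AddCommGroup N']
    (P : RootPairing ι ℤ M N) (P' : RootPairing ι' ℤ M' N') [Finite ι] [Finite ι'] [P.IsReduced] [P'.IsReduced]
    (p : ℕ) (hp : 0 < p) (f : M' →ₗ[ℤ] M) (g : N →ₗ[ℤ] N')
    (hfg : ∀ (m' : M') (n : N), P.toLinearMap (f m') n = P'.toLinearMap m' (g n))
    (u : ι ≃ ι') (q : ι → ℕ) (hq : ∀ i, ∃ e : ℕ, q i = p ^ e)
    (hroot : ∀ i : ι, f (P'.root (u i)) = (q i : ℤ) • P.root i)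
    (hcoroot : ∀ i : ι, g (P.coroot i) = (q i : ℤ) • P'.coroot (u i)) :
    (∀ i j : ι, q (P.reflectionPerm i j) = q j ∧ u (P.reflectionPerm i j) = P'.reflectionPerm (u i) (u j)) ∧
      (∀ w ∈ P.weylGroup, ∀ i : ι, q (w • i) = q i) ∧
      ∃ ubar : P.weylGroup ≃* P'.weylGroup,
        (∀ i : ι, ubar (RootPairing.weylGroup.ofIdx P i) = RootPairing.weylGroup.ofIdx P' (u i)) ∧
        ∀ (w : P.weylGroup) (i : ι), u ((w : P.Aut) • i) = ((ubar w : P'.weylGroup) : P'.Aut) • u i := by
  classical
  have := Fintype.ofFinite ι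
  have := Fintype.ofFinite ι'
  have hq0 : ∀ a, (q a : ℤ) ≠ 0 := fun a => by obtain ⟨e, he⟩ := hq a; rw [he]; positivity
  have hpair : ∀ a b, (q a : ℤ) * P.pairing a b = q b * P'.pairing (u a) (u b) := by
    intro a b
    have h := hfg (P'.root (u a)) (P.coroot b)
    rw [hroot, hcoroot, map_zsmul, map_zsmul, LinearMap.smul_apply, P.root_coroot_eq_pairing,
      P'.root_coroot_eq_pairing] at h
    exact h
  have h1 : ∀ i j : ι, q (P.reflectionPerm i j) = q j ∧
      u (P.reflectionPerm i j) = P'.reflectionPerm (u i) (u j) := by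
    intro i j
    obtain ⟨k, hk⟩ := u.surjective (P'.reflectionPerm (u i) (u j))
    have e := congrArg f (P'.root_reflectionPerm (u i) (u j))
    rw [← hk, P'.reflection_apply_root, map_sub, map_zsmul, hroot, hroot, hroot, ← mul_smul,
      mul_comm (P'.pairing _ _), ← hpair j i, mul_smul, ← smul_sub, ← P.reflection_apply_root,
      ← P.root_reflectionPerm] at e
    have hkj : k = P.reflectionPerm i j := by
      by_contra hne
      have hne' : P.root k ≠ -P.root (P.reflectionPerm i j) := fun e' => by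
        rw [e', smul_neg] at e
        have h0 : ((q k : ℤ) + q j) • P.root (P.reflectionPerm i j) = 0 := by
          rw [add_smul, ← e]; abel
        have := hq0 k
        exact root_ne_zero P _ (eq_zero_of_zsmul P (by omega) h0)
      have := (LinearIndependent.pair_iff.mp (RootPairing.IsReduced.linearIndependent P hne hne'))
        (q k : ℤ) (-(q j : ℤ)) (by rw [e]; module)
      exact hq0 k this.1
    subst hkj
    refine ⟨?_, hk⟩
    have : ((q (P.reflectionPerm i j) : ℤ) - q j) • P.root (P.reflectionPerm i j) = 0 := by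
      rw [sub_smul, e, sub_self]
    by_contra hne
    exact root_ne_zero P _ (eq_zero_of_zsmul P (by omega) this)
  have h2 : ∀ w ∈ P.weylGroup, ∀ i : ι, q (w • i) = q i := by
    intro w hw
    induction hw using RootPairing.weylGroup.induction with
    | mem a => intro i; rw [refl_smul_idx, (h1 a i).1]
    | one => intro i; rw [one_smul]
    | mul a b _ _ ha hb => intro i; rw [mul_smul, ha, hb]
  refine ⟨h1, h2, ?_⟩
  have hex : ∀ w : P.weylGroup, ∃ w' : P'.weylGroup, ∀ i : ι, u ((w : P.Aut) • i) = (w' : P'.Aut) • u i := by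
    rintro ⟨w, hw⟩
    induction hw using RootPairing.weylGroup.induction with
    | mem a => exact ⟨RootPairing.weylGroup.ofIdx P' (u a), fun i => (h1 a i).2⟩
    | one => exact ⟨1, fun i => by simp⟩
    | mul a b _ _ ha hb =>
      obtain ⟨a', ha⟩ := ha
      obtain ⟨b', hb⟩ := hb
      exact ⟨a' * b', fun i => by simp only [mul_smul, Subgroup.coe_mul, ha, hb]⟩
  have hex' : ∀ w' : P'.weylGroup, ∃ w : P.weylGroup, ∀ i : ι, u ((w : P.Aut) • i) = (w' : P'.Aut) • u i := by
    rintro ⟨w, hw⟩
    induction hw using RootPairing.weylGroup.induction with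
    | mem a =>
      obtain ⟨a, rfl⟩ := u.surjective a
      exact ⟨RootPairing.weylGroup.ofIdx P a, fun i => (h1 a i).2⟩
    | one => exact ⟨1, fun i => by simp⟩
    | mul a b _ _ ha hb =>
      obtain ⟨a', ha⟩ := ha
      obtain ⟨b', hb⟩ := hb
      exact ⟨a' * b', fun i => by simp only [mul_smul, Subgroup.coe_mul, ha, hb]⟩
  choose F hF using hex
  have hunique : ∀ (w : P.weylGroup) (w' : P'.weylGroup),
      (∀ i : ι, u ((w : P.Aut) • i) = (w' : P'.Aut) • u i) → F w = w' := fun w w' h =>
    weyl_inj P' _ _ fun a => by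
      obtain ⟨a, rfl⟩ := u.surjective a
      rw [← hF, h]
  let Φ : P.weylGroup →* P'.weylGroup := MonoidHom.mk' F fun a b => hunique _ _ fun i => by
    simp only [Subgroup.coe_mul, mul_smul, hF]
  have hbij : Function.Bijective Φ := by
    refine ⟨fun a b h => weyl_inj P a b fun i => u.injective ?_, fun w' => ?_⟩
    · rw [hF, hF]; exact congrArg (fun z : P'.weylGroup => (z : P'.Aut) • u i) h
    · obtain ⟨w, hw⟩ := hex' w'
      exact ⟨w, hunique w w' hw⟩
  refine ⟨MulEquiv.ofBijective Φ hbij, fun i => hunique _ _ fun j => (h1 i j).2, hF⟩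

end Groth.Agent.S5480
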