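import Groth.Statements.S5481
import Groth.Agent.RootDat.Trans

set_option autoImplicit false
open RootD

open RootPairing Groth.Agent.RootDat.Form Groth.Agent.RootDat.Pos Groth.Agent.RootDat.Weyl Groth.Agent.RootDat.Exist
namespace Groth.Agent.S5481

theorem indiv_of_reduced {ι M N : Type*} [AddCommGroup M] [AddCommGroup N] (Q : RootPairing ι ℤ M N) [Finite ι]
    [Q.IsReduced] (a : ι) : RootD.IsIndiv Q a := by
  intro b hb
  have h0 : b ≠ a := fun e => by
    subst e
    exact root_ne_zero Q b (by rw [← sub_self (Q.root b)]; nth_rw 2 [← hb]; module)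
  have h1 : Q.root b ≠ -Q.root a := fun e => by
    have : (3 : ℤ) • Q.root a = 0 := by
      rw [show (3 : ℤ) = 2 + 1 from rfl, add_smul, one_smul]
      nth_rw 2 [← hb]
      rw [e]; module
    exact root_ne_zero Q a (eq_zero_of_zsmul Q (by norm_num) this)
  have := (LinearIndependent.pair_iff.mp (RootPairing.IsReduced.linearIndependent Q h0 h1)) 2 (-1)
    (by rw [hb]; module)
  omega

/-- The root bijection u of a p-morphism of reduced root data carries systems of simple roots onto
systems of simple roots and systems of positive roots onto systems of positive roots, bijectively. -/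
theorem result {ι M N ι' M' N' : Type*} [AddCommGroup M] [AddCommGroup N] [AddCommGroup M'] [AddCommGroup N']
    (P : RootPairing ι ℤ M N) (P' : RootPairing ι' ℤ M' N') [Finite ι] [Finite ι'] [P.IsReduced] [P'.IsReduced]
    (p : ℕ) (hp : 0 < p) (f : M' →ₗ[ℤ] M) (g : N →ₗ[ℤ] N')
    (hfg : ∀ (m' : M') (n : N), P.toLinearMap (f m') n = P'.toLinearMap m' (g n))
    (u : ι ≃ ι') (q : ι → ℕ) (hq : ∀ i, ∃ e : ℕ, q i = p ^ e)
    (hroot : ∀ i : ι, f (P'.root (u i)) = (q i : ℤ) • P.root i)
    (hcoroot : ∀ i : ι, g (P.coroot i) = (q i : ℤ) • P'.coroot (u i)) (Δ : Set ι) :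
    (RootD.IsSimpleSys P Δ ↔ RootD.IsSimpleSys P' (u '' Δ)) ∧
      (RootD.IsPosSys P Δ ↔ RootD.IsPosSys P' (u '' Δ)) := by
  classical
  have := Fintype.ofFinite ι
  have := Fintype.ofFinite ι'
  have hq0 : ∀ a, 0 < q a := fun a => by obtain ⟨e, he⟩ := hq a; rw [he]; positivity
  have hneg : ∀ a, u (P.reflectionPerm a a) = P'.reflectionPerm (u a) (u a) := by
    intro a
    obtain ⟨k, hk⟩ := u.surjective (P'.reflectionPerm (u a) (u a))
    have e := congrArg f (root_neg P' (u a))
    rw [← hk, map_neg, hroot, hroot, ← smul_neg, ← root_neg P] at e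
    by_cases hka : k = P.reflectionPerm a a
    · rw [← hka, hk]
    exfalso
    have hne' : P.root k ≠ -P.root (P.reflectionPerm a a) := fun e' => by
      rw [e', smul_neg] at e
      have h0 : ((q k : ℤ) + q a) • P.root (P.reflectionPerm a a) = 0 := by
        rw [add_smul, ← e]; abel
      have := hq0 k
      exact root_ne_zero P _ (eq_zero_of_zsmul P (by omega) h0)
    have := (LinearIndependent.pair_iff.mp (RootPairing.IsReduced.linearIndependent P hka hne'))
      (q k : ℤ) (-(q a : ℤ)) (by rw [e]; module)
    have := hq0 k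
    omega
  have hinj : ∀ x ∈ Submodule.span ℤ (Set.range P'.root), f x = 0 → x = 0 := by
    intro x hx hfx
    refine eq_zero_of_forall_B P' hx fun a => ?_
    obtain ⟨a, rfl⟩ := u.surjective a
    rw [B_eq_zero_iff]
    have h := hfg x (P.coroot a)
    rw [hfx, hcoroot, map_zsmul, LinearMap.map_zero, LinearMap.zero_apply] at h
    exact (smul_eq_zero.mp h.symm).resolve_left (by have := hq0 a; omega)
  let F : ι → ι' := u
  have hfwd : ∀ (D : Set ι) (k : ι), P'.root (u k) ∈ RootD.natSpan P' (u '' D) →
      (q k) • P.root k ∈ RootD.natSpan P D := by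
    intro D k h
    have hle : RootD.natSpan P' (u '' D) ≤ (RootD.natSpan P D).comap f.toAddMonoidHom :=
      natSpan_le P' fun a ha => by
        obtain ⟨a, ha, rfl⟩ := ha
        show f (P'.root (u a)) ∈ RootD.natSpan P D
        rw [hroot, natCast_zsmul]
        exact nsmul_mem (root_mem_natSpan P ha) _
    have := hle h
    change f (P'.root (u k)) ∈ RootD.natSpan P D at this
    rwa [hroot, natCast_zsmul] at this
  have hbwd : ∀ (D : Set ι) (k : ι), P.root k ∈ RootD.natSpan P D →
      ∃ n : ℕ, 0 < n ∧ n • P'.root (u k) ∈ RootD.natSpan P' (u '' D) := by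
    intro D k h
    obtain ⟨c, hc, hc0, hce⟩ := natSpan_coeff P h
    let Q0 := ∏ a ∈ c.support, q a
    have hQ0 : ∀ a ∈ c.support, q a ∣ Q0 := fun a ha => Finset.dvd_prod_of_mem q ha
    refine ⟨Q0, Finset.prod_pos fun a _ => hq0 a, ?_⟩
    let y := ∑ a ∈ c.support, ((q k * (Q0 / q a) * (c a).toNat : ℕ)) • P'.root (u a)
    have hy : y ∈ RootD.natSpan P' (u '' D) := sum_mem fun a ha =>
      nsmul_mem (root_mem_natSpan P' (Set.mem_image_of_mem _ (hc ha))) _
    suffices Q0 • P'.root (u k) = y by rw [this]; exact hy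
    rw [← sub_eq_zero]
    refine hinj _ (sub_mem (nsmul_mem (root_mem_span P' _) _)
      (sum_mem fun a _ => nsmul_mem (root_mem_span P' _) _)) ?_
    rw [map_sub, map_nsmul, hroot, map_sum, sub_eq_zero, ← hce, Finsupp.linearCombination_apply,
      Finsupp.sum, Finset.smul_sum, Finset.smul_sum]
    refine Finset.sum_congr rfl fun a ha => ?_
    rw [map_nsmul, hroot, ← natCast_zsmul, ← natCast_zsmul, ← mul_smul, ← mul_smul, ← mul_smul]
    congr 1
    rw [Nat.cast_mul, Nat.cast_mul, Int.toNat_of_nonneg (hc0 a)]
    have h : ((Q0 / q a : ℕ) : ℤ) * q a = Q0 := by exact_mod_cast Nat.div_mul_cancel (hQ0 a ha)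
    linear_combination -(q k : ℤ) * c a * h
  have hsymm : ∀ a, P'.reflectionPerm (u a) (u a) = u (P.reflectionPerm a a) := fun a => (hneg a).symm
  refine ⟨⟨fun h => ?_, fun h => ?_⟩, ⟨fun h => ?_, fun h => ?_⟩⟩
  · refine Groth.Agent.RootDat.Trans.isSimpleSys_of_cone P' (fun a _ => indiv_of_reduced P' a) ?_ fun k => ?_
    · rw [linearIndepOn_iff]
      intro l hl h0
      rw [Finsupp.mem_supported] at hl
      let d : ι →₀ ℤ := Finsupp.onFinset (l.support.image u.symm) (fun a => l (u a) * q a) fun a ha => by
        have : l (u a) ≠ 0 := fun e => ha (by simp [e])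
        exact Finset.mem_image.mpr ⟨u a, Finsupp.mem_support_iff.mpr this, u.symm_apply_apply a⟩
      have hd : d = 0 := by
        refine linearIndepOn_iff.mp h.linInd d (fun a ha => ?_) ?_
        · have : l (u a) ≠ 0 := fun e => Finsupp.mem_support_iff.mp ha (by simp [d, e])
          obtain ⟨b, hb, hba⟩ := hl (Finsupp.mem_support_iff.mpr this)
          exact u.injective hba ▸ hb
        · have e := congrArg f h0
          rw [map_zero, Finsupp.linearCombination_apply, Finsupp.sum, map_sum] at e
          rw [Finsupp.linearCombination_apply, Finsupp.sum_of_support_subset d Finsupp.support_onFinset_subset _ (fun i _ => zero_smul ℤ (P.root i))]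
          simp only [d, Finsupp.onFinset_apply]
          rw [Finset.sum_image (fun a _ b _ h => u.symm.injective h)]
          rw [← e]
          refine Finset.sum_congr rfl fun a _ => ?_
          obtain ⟨a, rfl⟩ := u.surjective a
          rw [map_zsmul, hroot, u.symm_apply_apply, ← mul_smul]
      ext a
      obtain ⟨a, rfl⟩ := u.surjective a
      have := DFunLike.congr_fun hd a
      simp [d] at this
      exact this.resolve_right (by have := hq0 a; omega)
    · obtain ⟨k, rfl⟩ := u.surjective k
      rcases (isPosSys_posOf P h).cover k with hk | hk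
      · obtain ⟨n, hn, hn'⟩ := hbwd Δ k hk
        exact ⟨n, hn, .inl hn'⟩
      · obtain ⟨n, hn, hn'⟩ := hbwd Δ _ hk
        exact ⟨n, hn, .inr (by rwa [← root_neg, hsymm])⟩
  · refine Groth.Agent.RootDat.Trans.isSimpleSys_of_cone P (fun a _ => indiv_of_reduced P a) ?_ fun k => ?_
    · rw [linearIndepOn_iff]
      intro l hl h0
      rw [Finsupp.mem_supported] at hl
      let Q0 : ℕ := ∏ a ∈ l.support, q a
      let d : ι' →₀ ℤ := Finsupp.onFinset (l.support.image u) (fun a => l (u.symm a) * (Q0 / q (u.symm a) : ℕ)) fun a ha => by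
        have : l (u.symm a) ≠ 0 := fun e => ha (by simp [e])
        exact Finset.mem_image.mpr ⟨u.symm a, Finsupp.mem_support_iff.mpr this, u.apply_symm_apply a⟩
      have hd : d = 0 := by
        refine linearIndepOn_iff.mp h.linInd d (fun a ha => ?_) ?_
        · have : l (u.symm a) ≠ 0 := fun e => Finsupp.mem_support_iff.mp ha (by simp [d, e])
          exact ⟨u.symm a, hl (Finsupp.mem_support_iff.mpr this), u.apply_symm_apply a⟩
        · refine hinj _ ?_ ?_
          · rw [← Finsupp.range_linearCombination]; exact LinearMap.mem_range_self _ d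
          · rw [Finsupp.linearCombination_apply, Finsupp.sum_of_support_subset d Finsupp.support_onFinset_subset _ (fun i _ => zero_smul ℤ (P'.root i))]
            simp only [d, Finsupp.onFinset_apply]
            rw [Finset.sum_image (fun a _ b _ h => u.injective h), map_sum]
            rw [Finsupp.linearCombination_apply, Finsupp.sum] at h0
            rw [← smul_zero (Q0 : ℤ), ← h0, Finset.smul_sum]
            refine Finset.sum_congr rfl fun a ha => ?_
            rw [map_zsmul, hroot, u.symm_apply_apply, ← mul_smul, ← mul_smul]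
            congr 1
            have h' : ((Q0 / q a : ℕ) : ℤ) * q a = Q0 := by
              exact_mod_cast Nat.div_mul_cancel (Finset.dvd_prod_of_mem q ha)
            linear_combination l a * h'
      ext a
      by_contra hne
      have := DFunLike.congr_fun hd (u a)
      simp only [d, Finsupp.onFinset_apply, Equiv.symm_apply_apply, Finsupp.coe_zero, Pi.zero_apply,
        mul_eq_zero, Int.natCast_eq_zero] at this
      rcases this with this | this
      · exact hne this
      · have hd2 : q a ∣ Q0 := Finset.dvd_prod_of_mem q (Finsupp.mem_support_iff.mpr hne)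
        have h2 := Nat.div_mul_cancel hd2
        have : 0 < Q0 := Finset.prod_pos fun b _ => hq0 b
        rw [‹Q0 / q a = 0›, zero_mul] at h2
        omega
    · rcases (isPosSys_posOf P' h).cover (u k) with hk | hk
      · exact ⟨q k, hq0 k, .inl (hfwd Δ k hk)⟩
      · rw [hsymm] at hk
        exact ⟨q _, hq0 _, .inr (by rw [← root_neg]; exact hfwd Δ _ hk)⟩
  · refine isPosSys_of_closed P' ?_ ?_ ?_
    · rintro _ ⟨a, ha, rfl⟩ ⟨b, hb, hba⟩
      rw [hsymm] at hba
      exact h.disjoint ha (u.injective hba ▸ hb)
    · intro a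
      obtain ⟨a, rfl⟩ := u.surjective a
      rw [hsymm]
      exact (h.cover a).imp (fun h => ⟨a, h, rfl⟩) fun h => ⟨_, h, rfl⟩
    · rintro _ _ c ⟨a, ha, rfl⟩ ⟨b, hb, rfl⟩ he
      obtain ⟨c, rfl⟩ := u.surjective c
      refine ⟨c, h.sat _ (hq0 c) ?_, rfl⟩
      have e := congrArg f he
      rw [map_add, hroot, hroot, hroot, natCast_zsmul, natCast_zsmul, natCast_zsmul] at e
      rw [e]
      exact add_mem (nsmul_mem (root_mem_natSpan P ha) _) (nsmul_mem (root_mem_natSpan P hb) _)
  · refine isPosSys_of_closed P ?_ ?_ ?_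
    · intro a ha hb
      exact h.disjoint ⟨a, ha, rfl⟩ (by rw [hsymm]; exact ⟨_, hb, rfl⟩)
    · intro a
      refine (h.cover (u a)).imp (fun ⟨b, hb, e⟩ => u.injective e ▸ hb) fun hb => ?_
      rw [hsymm] at hb
      obtain ⟨b, hb, e⟩ := hb
      exact u.injective e ▸ hb
    · intro a b c ha hb he
      obtain ⟨n, hn, hn'⟩ := hbwd {a, b} c (by
        rw [he]; exact add_mem (root_mem_natSpan P (by simp)) (root_mem_natSpan P (by simp)))
      obtain ⟨b', hb', e⟩ := h.sat n hn (natSpan_mono P' (Set.image_mono (by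
        rintro x (rfl | rfl) <;> assumption)) hn')
      exact u.injective e ▸ hb'

end Groth.Agent.S5481
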