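import Groth.Statements.S5482
import Groth.Agent.RootDat.Comb

set_option autoImplicit false
open RootD

open RootPairing Groth.Agent.RootDat.Form Groth.Agent.RootDat.Pos Groth.Agent.RootDat.Weyl Groth.Agent.RootDat.Exist
namespace Groth.Agent.S5482

/-- If the roots are partitioned into two closed symmetric subsets R', R'', then with Δ' = Δ ∩ R', Δ'' =
Δ ∩ R'' for a system of simple roots Δ one has R' = R_{Δ'}, R'' = R_{Δ''}, and Δ' is orthogonal to
Δ''. -/
theorem result {ι M N : Type*} [AddCommGroup M] [AddCommGroup N]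
    (P : RootPairing ι ℤ M N) [Finite ι] (Δ : Set ι) (hΔ : RootD.IsSimpleSys P Δ) (R' : Set ι)
    (hc : RootD.IsClosedSub P R') (hs : RootD.IsSymmSub P R') (hc' : RootD.IsClosedSub P R'ᶜ)
    (hs' : RootD.IsSymmSub P R'ᶜ) :
    R' = RootD.inSpan P (Δ ∩ R') ∧ R'ᶜ = RootD.inSpan P (Δ \ R') ∧
      ∀ i ∈ Δ ∩ R', ∀ j ∈ Δ \ R', P.IsOrthogonal i j := by
  have key : ∀ (A : Set ι), RootD.IsClosedSub P A → RootD.IsSymmSub P A → RootD.IsClosedSub P Aᶜ →
      RootD.IsSymmSub P Aᶜ → ∀ k ∈ A, P.root k ∈ Submodule.span ℤ (P.root '' (Δ ∩ A)) := by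
    intro A hA hA' hB hB'
    classical
    suffices h : ∀ (n : ℕ) (k : ι) (c : ι →₀ ℤ), ↑c.support ⊆ Δ → (∀ j, 0 ≤ c j) →
        Finsupp.linearCombination ℤ P.root c = P.root k → (c.sum fun _ a => a) ≤ n → k ∈ A →
        P.root k ∈ Submodule.span ℤ (P.root '' (Δ ∩ A)) by
      intro k hk
      rcases (isPosSys_posOf P hΔ).cover k with h' | h'
      · obtain ⟨c, hc1, hc2, hc3⟩ := natSpan_coeff P h'
        exact h _ k c hc1 hc2 hc3 (Int.self_le_toNat _) hk
      · obtain ⟨c, hc1, hc2, hc3⟩ := natSpan_coeff P h'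
        have := h _ _ c hc1 hc2 hc3 (Int.self_le_toNat _) (hA' hk)
        rwa [root_neg, neg_mem_iff] at this
    intro n
    induction n with
    | zero =>
      intro k c hc' hc0 hce hn
      have := coeff_total_pos hc0 fun hz => root_ne_zero P k (by rw [← hce, hz, map_zero])
      omega
    | succ n ih =>
      intro k c hc' hc0 hce hn hk
      have hkp : k ∈ RootD.posOf P Δ := by
        show P.root k ∈ RootD.natSpan P Δ
        rw [← hce]; exact coeff_natSpan P hc' hc0
      by_cases hkΔ : k ∈ Δ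
      · exact Submodule.subset_span ⟨k, ⟨hkΔ, hk⟩, rfl⟩
      obtain ⟨g, hg, d, hd, he⟩ : ∃ g ∈ RootD.posOf P Δ, ∃ d ∈ RootD.posOf P Δ,
          P.root k = P.root g + P.root d := by
        by_contra hno
        have : k ∈ Indec P (RootD.posOf P Δ) := ⟨hkp, hno⟩
        rw [← eq_indec P hΔ] at this
        exact hkΔ this
      obtain ⟨p, hp, hp0, hpe⟩ := natSpan_coeff P hg
      obtain ⟨q, hq, hq0, hqe⟩ := natSpan_coeff P hd
      have hpq : p + q = c := coeff_unique P hΔ.linInd
        (fun a ha => (Finset.mem_union.mp (Finsupp.support_add ha)).elim (fun h => hp h) fun h => hq h)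
        hc' (by rw [map_add, hpe, hqe, hce, he])
      have ht : (p.sum fun _ a => a) + (q.sum fun _ a => a) = c.sum fun _ a => a := by
        rw [← hpq, Finsupp.sum_add_index' (fun _ => rfl) (fun _ _ _ => rfl)]
      have := coeff_total_pos hp0 fun hz => root_ne_zero P g (by rw [← hpe, hz, map_zero])
      have := coeff_total_pos hq0 fun hz => root_ne_zero P d (by rw [← hqe, hz, map_zero])
      have hgA : g ∈ A ∧ d ∈ A := by
        by_cases hgA : g ∈ A
        · refine ⟨hgA, hA hk (hA' hgA) ?_⟩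
          rw [root_neg, he]; abel
        · by_cases hdA : d ∈ A
          · exact absurd (hA hk (hA' hdA) (by rw [root_neg, he]; abel)) hgA
          · exact absurd hk (hB hgA hdA he)
      rw [he]
      exact add_mem (ih g p hp hp0 hpe (by omega) hgA.1) (ih d q hq hq0 hqe (by omega) hgA.2)
  have h1 : ∀ k ∈ R', k ∈ RootD.inSpan P (Δ ∩ R') := key R' hc hs hc' hs'
  have h2 : ∀ k ∈ R'ᶜ, k ∈ RootD.inSpan P (Δ \ R') := key R'ᶜ hc' hs' (by rwa [compl_compl]) (by rwa [compl_compl])
  have h3 : ∀ k, k ∈ RootD.inSpan P (Δ ∩ R') → k ∈ RootD.inSpan P (Δ \ R') → False := by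
    intro k hk1 hk2
    have hdis : Disjoint (Submodule.span ℤ (P.root '' (Δ ∩ R'))) (Submodule.span ℤ (P.root '' (Δ \ R'))) :=
      Groth.Agent.RootDat.Comb.span_disjoint P hΔ.linInd Set.inter_subset_left Set.sdiff_subset
        fun a ha hb => hb.2 ha.2
    exact root_ne_zero P k (Submodule.disjoint_def.mp hdis _ hk1 hk2)
  refine ⟨Set.ext fun k => ⟨h1 k, fun h => ?_⟩, Set.ext fun k => ⟨h2 k, fun h hk => h3 k (h1 k hk) h⟩,
    fun i hi j hj => ?_⟩
  · by_contra hk; exact h3 k h (h2 k hk)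
  · by_contra hij
    exact hj.2 (Groth.Agent.RootDat.Comb.mem_of_partition P hc hs hc' hs' hi.2 hij)

end Groth.Agent.S5482
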