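import Groth.Statements.S5483
import Groth.Agent.RootDat.Comb

set_option autoImplicit false
open RootD

open RootPairing Groth.Agent.RootDat.Form Groth.Agent.RootDat.Pos Groth.Agent.RootDat.Weyl Groth.Agent.RootDat.Exist
namespace Groth.Agent.S5483

/-- If a system of simple roots Δ is the disjoint union of two mutually orthogonal subsets Δ', Δ'', then
R_{Δ'} and R_{Δ''} partition the set of roots. -/
theorem result {ι M N : Type*} [AddCommGroup M] [AddCommGroup N]
    (P : RootPairing ι ℤ M N) [Finite ι] (Δ Δ' : Set ι) (hΔ : RootD.IsSimpleSys P Δ)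
    (hsub : Δ' ⊆ Δ) (horth : ∀ i ∈ Δ', ∀ j ∈ Δ \ Δ', P.IsOrthogonal i j) (k : ι) :
    (k ∈ RootD.inSpan P Δ' ∨ k ∈ RootD.inSpan P (Δ \ Δ')) ∧
      ¬ (k ∈ RootD.inSpan P Δ' ∧ k ∈ RootD.inSpan P (Δ \ Δ')) := by
  have hdis : Disjoint (Submodule.span ℤ (P.root '' Δ')) (Submodule.span ℤ (P.root '' (Δ \ Δ'))) :=
    Groth.Agent.RootDat.Comb.span_disjoint P hΔ.linInd hsub Set.sdiff_subset fun a ha hb => hb.2 ha
  have hnot : ∀ k, ¬ (k ∈ RootD.inSpan P Δ' ∧ k ∈ RootD.inSpan P (Δ \ Δ')) := fun k hk =>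
    root_ne_zero P k (Submodule.disjoint_def.mp hdis _ hk.1 hk.2)
  refine ⟨?_, hnot k⟩
  have := Fintype.ofFinite ι
  let A : Set ι := {l | l ∈ RootD.inSpan P Δ' ∨ l ∈ RootD.inSpan P (Δ \ Δ')}
  suffices hall : ∀ l, l ∈ A from hall k
  have hneg : ∀ l, l ∈ A → P.reflectionPerm l l ∈ A := fun l hl => hl.imp
    (fun h => by show P.root _ ∈ Submodule.span ℤ _; rw [root_neg]; exact neg_mem h)
    (fun h => by show P.root _ ∈ Submodule.span ℤ _; rw [root_neg]; exact neg_mem h)
  have hbase : ∀ a ∈ Δ, a ∈ A := fun a ha => by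
    by_cases h' : a ∈ Δ'
    · exact .inl (Submodule.subset_span ⟨a, h', rfl⟩)
    · exact .inr (Submodule.subset_span ⟨a, ⟨ha, h'⟩, rfl⟩)
  have hmix : ∀ l ∈ RootD.inSpan P Δ', ∀ j ∈ Δ \ Δ', P.coroot' j (P.root l) = 0 := by
    intro l hl j hj
    have hle : Submodule.span ℤ (P.root '' Δ') ≤ LinearMap.ker (P.coroot' j) := by
      rw [Submodule.span_le]
      rintro _ ⟨i, hi, rfl⟩
      show P.coroot' j (P.root i) = 0
      rw [P.root_coroot'_eq_pairing]; exact (horth i hi j hj).1
    exact hle hl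
  have hmix' : ∀ l ∈ RootD.inSpan P (Δ \ Δ'), ∀ j ∈ Δ', P.coroot' j (P.root l) = 0 := by
    intro l hl j hj
    have hle : Submodule.span ℤ (P.root '' (Δ \ Δ')) ≤ LinearMap.ker (P.coroot' j) := by
      rw [Submodule.span_le]
      rintro _ ⟨i, hi, rfl⟩
      show P.coroot' j (P.root i) = 0
      rw [P.root_coroot'_eq_pairing]; exact (horth j hj i hi).2
    exact hle hl
  have hstab : ∀ a ∈ Δ, ∀ l ∈ A, P.reflectionPerm a l ∈ A := by
    intro a ha l hl
    by_cases h' : a ∈ Δ' <;> rcases hl with hl | hl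
    · refine .inl ?_
      show P.root _ ∈ Submodule.span ℤ _
      rw [P.root_reflectionPerm, P.reflection_apply]
      exact sub_mem hl (Submodule.smul_mem _ _ (Submodule.subset_span ⟨a, h', rfl⟩))
    · refine .inr ?_
      show P.root _ ∈ Submodule.span ℤ _
      rw [P.root_reflectionPerm, P.reflection_apply, hmix' l hl a h', zero_smul, sub_zero]
      exact hl
    · refine .inl ?_
      show P.root _ ∈ Submodule.span ℤ _
      rw [P.root_reflectionPerm, P.reflection_apply, hmix l hl a ⟨ha, h'⟩, zero_smul, sub_zero]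
      exact hl
    · refine .inr ?_
      show P.root _ ∈ Submodule.span ℤ _
      rw [P.root_reflectionPerm, P.reflection_apply]
      exact sub_mem hl (Submodule.smul_mem _ _ (Submodule.subset_span ⟨a, ⟨ha, h'⟩, rfl⟩))
  have hindiv : ∀ l, RootD.IsIndiv P l → l ∈ A := by
    intro l hl
    obtain ⟨g, hg, i, hi, rfl⟩ := indiv_conj P hΔ hl
    obtain ⟨w, hw, rfl⟩ := exists_word P hg
    clear hg hl
    induction w with
    | nil => rw [word_nil, one_smul]; exact hbase i hi
    | cons a w ih =>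
      rw [word_cons, mul_smul, refl_smul_idx]
      exact hstab a (hw a List.mem_cons_self) _ (ih fun b hb => hw b (List.mem_cons_of_mem _ hb))
  intro l
  by_cases hl : RootD.IsIndiv P l
  · exact hindiv l hl
  · simp only [RootD.IsIndiv, not_forall, not_not] at hl
    obtain ⟨j, hj⟩ := hl
    refine (hindiv j (isIndiv_half P hj)).imp (fun h => ?_) (fun h => ?_) <;>
      (show P.root l ∈ Submodule.span ℤ _; rw [← hj]; exact Submodule.smul_mem _ _ h)

end Groth.Agent.S5483
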