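import Groth.Statements.S5484
import Groth.Agent.RootDat.Ind
import Mathlib.Analysis.Matrix.PosDef
import Mathlib.Algebra.Order.Star.Real

set_option autoImplicit false
open RootD

open RootPairing Groth.Agent.RootDat.Form Groth.Agent.RootDat.Pos Groth.Agent.RootDat.Weyl Groth.Agent.RootDat.Exist
namespace Groth.Agent.S5484

open Classical in
/-- Every principal minor of the Cartan matrix (a_{α,β} = (α^v, β), α, β simple) is strictly positive. -/
theorem result {ι M N : Type*} [AddCommGroup M] [AddCommGroup N]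
    (P : RootPairing ι ℤ M N) [Finite ι] (Δ : Finset ι) (hΔ : RootD.IsSimpleSys P (↑Δ : Set ι))
    (Δ' : Finset ι) (hsub : Δ' ⊆ Δ) :
    0 < Matrix.det (Matrix.of fun (a b : ↥Δ') => P.pairing (b : ι) (a : ι)) := by
  classical
  have := Fintype.ofFinite ι
  let A : Matrix ↥Δ' ↥Δ' ℤ := Matrix.of fun a b => B P (P.root (a : ι)) (P.root (b : ι))
  let X : Matrix ι ↥Δ' ℝ := Matrix.of fun l a => ((P.coroot' l (P.root (a : ι)) : ℤ) : ℝ)
  have hX : (A.map (fun z : ℤ => (z : ℝ))) = X.conjTranspose * X := by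
    ext a b
    simp [A, X, Matrix.mul_apply, B_def]
  have hnn : (0 : ℝ) ≤ (A.det : ℤ) := by
    have := (Matrix.posSemidef_conjTranspose_mul_self X).det_nonneg
    rw [← hX] at this
    rwa [show (A.map fun z : ℤ => (z : ℝ)) = (Int.castRingHom ℝ).mapMatrix A from rfl,
      ← RingHom.map_det] at this
  have hne : A.det ≠ 0 := by
    intro h0
    obtain ⟨v, hv, hAv⟩ := Matrix.exists_mulVec_eq_zero_iff.mpr h0
    let x : M := ∑ a, v a • P.root (a : ι)
    have hxs : x ∈ Submodule.span ℤ (Set.range P.root) :=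
      sum_mem fun a _ => Submodule.smul_mem _ _ (root_mem_span P _)
    have hxx : B P x x = dotProduct v (A.mulVec v) := by
      simp [x, A, B, dotProduct, Matrix.mulVec, Finset.mul_sum, mul_comm, mul_left_comm]
      rw [Finset.sum_comm]
      exact Finset.sum_congr rfl fun _ _ => Finset.sum_congr rfl fun _ _ => by ring
    rw [hAv, dotProduct_zero] at hxx
    have hx0 := eq_zero_of_B_self P hxs hxx
    have hli : LinearIndependent ℤ (fun a : ↥Δ' => P.root (a : ι)) :=
      hΔ.linInd.comp (fun a : ↥Δ' => (⟨(a : ι), hsub a.2⟩ : (↑Δ : Set ι))) fun a b h =>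
        Subtype.ext (congrArg (fun z : (↑Δ : Set ι) => (z : ι)) h)
    exact hv (funext (Fintype.linearIndependent_iff.mp hli v hx0))
  have hpos : 0 < A.det := lt_of_le_of_ne (by exact_mod_cast hnn) (Ne.symm hne)
  set C := Matrix.of fun (a b : ↥Δ') => P.pairing (b : ι) (a : ι)
  have hCA : Matrix.diagonal (fun a : ↥Δ' => B P (P.root (a : ι)) (P.root (a : ι))) * C = (2 : ℤ) • A := by
    ext a b
    simp only [Matrix.diagonal_mul, Matrix.smul_apply, smul_eq_mul, A, C, Matrix.of_apply]
    rw [B_comm P (P.root (a : ι)) (P.root (b : ι)), two_B, P.root_coroot'_eq_pairing]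
    ring
  have := congrArg Matrix.det hCA
  rw [Matrix.det_mul, Matrix.det_diagonal, Matrix.det_smul] at this
  have hp : 0 < ∏ a : ↥Δ', B P (P.root (a : ι)) (P.root (a : ι)) := Finset.prod_pos fun a _ => B_self_pos P _
  have hR : 0 < (2 : ℤ) ^ Fintype.card ↥Δ' * A.det := by positivity
  rw [← this] at hR
  exact (mul_pos_iff_of_pos_left hp).mp hR

end Groth.Agent.S5484
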