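import Groth.Statements.S5485
import Groth.Agent.RootDat.Ind

set_option autoImplicit false
open RootD

open RootPairing Groth.Agent.RootDat.Form Groth.Agent.RootDat.Pos Groth.Agent.RootDat.Weyl Groth.Agent.RootDat.Exist
namespace Groth.Agent.S5485

/-- If Δ is a system of simple roots then ind(Δ^v), the set of coroots of Δ with each divisible coroot
replaced by its half, is a system of simple coroots (a system of simple roots of the dual datum). -/
theorem result {ι M N : Type*} [AddCommGroup M] [AddCommGroup N]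
    (P : RootPairing ι ℤ M N) [Finite ι] (Δ : Set ι) (hΔ : RootD.IsSimpleSys P Δ) :
    RootD.IsSimpleSys P.flip {j : ι | ∃ i ∈ Δ, (j = i ∧ RootD.IsIndiv P.flip i) ∨ (2 : ℤ) • P.coroot j = P.coroot i} := by
  classical
  have := Fintype.ofFinite ι
  set D : Set ι := {j : ι | ∃ i ∈ Δ, (j = i ∧ RootD.IsIndiv P.flip i) ∨ (2 : ℤ) • P.coroot j = P.coroot i}
  have hT := isPosSys_posOf P hΔ
  have hTf := Groth.Agent.RootDat.Ind.isPosSys_flip P hT
  have hrel : ∀ b ∈ D, ∃ a ∈ Δ, (b = a ∨ (2 : ℤ) • P.coroot b = P.coroot a) ∧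
      ∃ s : ℤ, 0 < s ∧ P.coroot a = s • P.coroot b ∧ P.root b = s • P.root a := by
    rintro b ⟨a, ha, ⟨rfl, -⟩ | hb⟩
    · exact ⟨b, ha, .inl rfl, 1, one_pos, by simp, by simp⟩
    · refine ⟨a, ha, .inr hb, 2, two_pos, hb.symm, ?_⟩
      have h1 := Groth.Agent.RootDat.Ind.two_copol P b
      have h2 := Groth.Agent.RootDat.Ind.two_copol P a
      have hB : B P.flip (P.coroot a) (P.coroot a) = 4 * B P.flip (P.coroot b) (P.coroot b) := by
        rw [← hb]; simp [B]; ring
      rw [← hb, map_zsmul, smul_comm, h1, hb, hB] at h2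
      have hpos : 0 < B P.flip (P.flip.root b) (P.flip.root b) := B_self_pos P.flip b
      refine cancel P (n := 2 * B P.flip (P.coroot b) (P.coroot b)) (mul_ne_zero two_ne_zero hpos.ne') ?_
      rw [mul_smul, h2, ← mul_smul]
      congr 1; ring
  have hDT : ∀ b ∈ D, b ∈ RootD.posOf P Δ := fun b hb => by
    obtain ⟨a, ha, -, s, hs, -, hr⟩ := hrel b hb
    show P.root b ∈ RootD.natSpan P Δ
    obtain ⟨n, rfl⟩ := Int.eq_ofNat_of_zero_le hs.le
    rw [hr, natCast_zsmul]
    exact nsmul_mem (root_mem_natSpan P ha) n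
  have hind : ∀ b ∈ D, RootD.IsIndiv P.flip b := by
    rintro b ⟨a, ha, ⟨rfl, h⟩ | hb⟩
    · exact h
    · exact isIndiv_half P.flip hb
  have hob : ∀ x ∈ D, ∀ y ∈ D, x ≠ y → P.flip.pairing x y ≤ 0 := by
    intro x hx y hy hxy
    obtain ⟨a, ha, hxa, s, hs, hsc, -⟩ := hrel x hx
    obtain ⟨b, hb, hyb, t, ht, -, htr⟩ := hrel y hy
    have hab : a ≠ b := by
      rintro rfl
      rcases hxa with rfl | hxa <;> rcases hyb with rfl | hyb
      · exact hxy rfl
      · exact hind _ hx y hyb
      · exact hind _ hy x hxa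
      · exact hxy (P.coroot.injective (cancelN P two_ne_zero (hxa.trans hyb.symm)))
    have h0 := pairing_le_zero P hΔ hb ha hab.symm
    rw [P.pairing_flip]
    by_contra hc
    have : s * (P.pairing y x) = t * P.pairing b a := by
      calc s * P.pairing y x = P.toLinearMap (P.root y) (s • P.coroot x) := by
            rw [map_zsmul, P.root_coroot_eq_pairing, smul_eq_mul]
        _ = P.toLinearMap (t • P.root b) (P.coroot a) := by rw [← hsc, ← htr]
        _ = t * P.pairing b a := by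
            rw [map_zsmul, LinearMap.smul_apply, P.root_coroot_eq_pairing, smul_eq_mul]
    have := mul_pos hs (not_le.mp hc)
    have := mul_nonpos_of_nonneg_of_nonpos ht.le h0
    linarith
  have hli : LinearIndepOn ℤ P.flip.root D := linInd_of_obtuse P.flip hob fun x hx h =>
    neg_notMem_natSpan P.flip (posClosed hTf) (fun _ h => hTf.disjoint h) (hDT x hx)
      (natSpan_mono P.flip hDT h)
  refine Groth.Agent.RootDat.Trans.isSimpleSys_of_cone P.flip hind hli ?_
  have hsimple : ∀ a ∈ Δ, P.coroot a ∈ RootD.natSpan P.flip D := by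
    intro a ha
    by_cases h : RootD.IsIndiv P.flip a
    · exact root_mem_natSpan P.flip (S := D) (i := a) ⟨a, ha, .inl ⟨rfl, h⟩⟩
    · simp only [RootD.IsIndiv, not_forall, not_not] at h
      obtain ⟨b, hb⟩ := h
      change (2 : ℤ) • P.coroot b = P.coroot a at hb
      rw [← hb, show (2 : ℤ) = ((2 : ℕ) : ℤ) from rfl, natCast_zsmul]
      exact nsmul_mem (root_mem_natSpan P.flip (S := D) (i := b) ⟨a, ha, .inr hb⟩) 2
  have hpos : ∀ k ∈ RootD.posOf P Δ, ∃ n : ℕ, 0 < n ∧ n • P.coroot k ∈ RootD.natSpan P.flip D := by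
    intro k hk
    obtain ⟨c, hc, hc0, hce⟩ := natSpan_coeff P (hk : P.root k ∈ RootD.natSpan P Δ)
    refine ⟨(B P (P.root k) (P.root k)).toNat, by have := B_self_pos P k; omega, ?_⟩
    rw [← natCast_zsmul, Int.toNat_of_nonneg (B_self_pos P k).le, ← Groth.Agent.RootDat.Ind.two_pol,
      ← hce, Finsupp.linearCombination_apply, Finsupp.sum, map_sum, Finset.smul_sum]
    refine sum_mem fun a ha => ?_
    rw [map_zsmul, smul_comm, Groth.Agent.RootDat.Ind.two_pol, ← mul_smul]
    obtain ⟨n, hn⟩ := Int.eq_ofNat_of_zero_le (mul_nonneg (hc0 a) (B_self_pos P a).le)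
    rw [hn, natCast_zsmul]
    exact nsmul_mem (hsimple a (hc ha)) n
  intro k
  rcases hT.cover k with h | h
  · obtain ⟨n, hn, h⟩ := hpos k h; exact ⟨n, hn, .inl h⟩
  · obtain ⟨n, hn, h'⟩ := hpos _ h
    refine ⟨n, hn, .inr ?_⟩
    show n • -P.coroot k ∈ _
    rwa [← coroot_neg]

end Groth.Agent.S5485
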