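import Groth.Statements.S5487
import Groth.Agent.RootDat.Trans

set_option autoImplicit false
open RootD

open RootPairing Groth.Agent.RootDat.Form Groth.Agent.RootDat.Pos Groth.Agent.RootDat.Weyl Groth.Agent.RootDat.Exist
namespace Groth.Agent.S5487

/-- For non-orthogonal roots α, β one has ℓ(α) ℓ(α^v) = ℓ(β) ℓ(β^v), where ℓ is the canonical quadratic
form of the datum and of its dual. -/
theorem result {ι M N : Type*} [AddCommGroup M] [AddCommGroup N]
    (P : RootPairing ι ℤ M N) [Finite ι] [Fintype ι] (i j : ι) (h : ¬ P.IsOrthogonal i j) :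
    P.RootForm (P.root i) (P.root i) * P.CorootForm (P.coroot i) (P.coroot i) =
      P.RootForm (P.root j) (P.root j) * P.CorootForm (P.coroot j) (P.coroot j) := by
  have hne : P.pairing i j ≠ 0 := fun e => h (isOrth_of_pairing P e)
  have hne' : P.pairing j i ≠ 0 := fun e => h (isOrth_of_pairing P e).symm
  have h1 := pairing_swap P i j
  have h2 := pairing_swap P.flip i j
  simp only [P.pairing_flip] at h2
  refine mul_left_cancel₀ (mul_ne_zero hne hne') ?_
  show P.pairing i j * P.pairing j i * (B P (P.root i) (P.root i) * B P.flip (P.flip.root i) (P.flip.root i)) =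
    P.pairing i j * P.pairing j i * (B P (P.root j) (P.root j) * B P.flip (P.flip.root j) (P.flip.root j))
  linear_combination -(P.pairing i j * B P.flip (P.flip.root i) (P.flip.root i)) * h1
    - (P.pairing i j * B P (P.root j) (P.root j)) * h2

end Groth.Agent.S5487
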