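import Groth.Statements.S5489
import Groth.Agent.RootDat.Trans

set_option autoImplicit false
open RootD

open RootPairing Groth.Agent.RootDat.Form Groth.Agent.RootDat.Pos Groth.Agent.RootDat.Weyl Groth.Agent.RootDat.Exist
namespace Groth.Agent.S5489

/-- If a root α, distinct from roots α_1, ..., α_n, is a non-negative rational combination of them, then
some α_l with non-zero coefficient has (α^v, α_l) > 0 and α - α_l a root. -/
theorem result {ι M N : Type*} [AddCommGroup M] [AddCommGroup N]
    (P : RootPairing ι ℤ M N) [Finite ι] {n : ℕ} (a : Fin n → ι) (m : Fin n → ℕ)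
    (k : ι) (hne : ∀ l, a l ≠ k) (c : ℕ) (hc : 0 < c) (hk : c • P.root k = ∑ l, m l • P.root (a l)) :
    ∃ l : Fin n, m l ≠ 0 ∧ 0 < P.pairing (a l) k ∧ P.root k - P.root (a l) ∈ Set.range P.root := by
  have := Fintype.ofFinite ι
  obtain ⟨l, hl, hpos⟩ : ∃ l, m l ≠ 0 ∧ 0 < B P (P.root k) (P.root (a l)) := by
    by_contra hcon
    push Not at hcon
    have hle : B P (P.root k) (c • P.root k) ≤ 0 := by
      rw [hk]
      simp only [B, map_sum, map_nsmul]
      refine Finset.sum_nonpos fun l _ => ?_
      by_cases hm : m l = 0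
      · simp [hm]
      · exact smul_nonpos_of_nonneg_of_nonpos (Nat.zero_le _) (hcon l hm)
    simp only [B, map_nsmul] at hle
    have := B_self_pos P k
    rw [nsmul_eq_mul] at hle
    have : (0 : ℤ) < c := by exact_mod_cast hc
    nlinarith
  rw [B_comm, B_pos_iff, P.root_coroot'_eq_pairing] at hpos
  refine ⟨l, hl, hpos, ?_⟩
  obtain ⟨d, hd⟩ := exists_sub_root P hpos (hne l)
  exact ⟨P.reflectionPerm d d, by rw [root_neg, hd]; abel⟩

end Groth.Agent.S5489
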