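import Groth.Statements.S5491
import Groth.Agent.RootDat.BaseB

set_option autoImplicit false
open RootD

open RootPairing Groth.Agent.RootDat.Form Groth.Agent.RootDat.Pos Groth.Agent.RootDat.Weyl Groth.Agent.RootDat.Exist
namespace Groth.Agent.S5491

open Classical in
/-- With ρ^v the half-sum of the positive coroots, the order (height) of any root α relative to the
simple system equals (ρ^v, α); equivalently 2·height(α) = Σ_{β > 0} (β^v, α). -/
theorem result {ι M N : Type*} [AddCommGroup M] [AddCommGroup N]
    (P : RootPairing ι ℤ M N) [Finite ι] [Fintype ι] [P.IsReduced] (b : P.Base) (i : ι) :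
    2 * b.height i = ∑ j, if b.IsPos j then P.pairing i j else 0 := by
  classical
  have hperm : ∀ a ∈ (b.support : Set ι), ∑ j, (if b.IsPos j then P.pairing a j else 0) = 2 := by
    intro a ha
    have hapos : b.IsPos a := (Groth.Agent.RootDat.BaseB.isPos_iff_posOf b a).mpr (subset_posOf P ha)
    rw [← Finset.sum_filter, ← Finset.add_sum_erase _ _ (Finset.mem_filter.mpr ⟨Finset.mem_univ a, hapos⟩),
      P.pairing_same, add_eq_left]
    set F := (Finset.univ.filter fun j => b.IsPos j).erase a with hF
    have hmem : ∀ j ∈ F, P.reflectionPerm a j ∈ F := by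
      intro j hj
      simp only [hF, Finset.mem_erase, Finset.mem_filter, Finset.mem_univ, true_and] at hj ⊢
      refine ⟨fun e => ?_, Groth.Agent.RootDat.BaseB.simple_perm b ha hj.2 hj.1⟩
      have : j = P.reflectionPerm a a := by
        rw [← P.reflectionPerm_self a j]; exact congrArg (P.reflectionPerm a) e
      have h2 := (Groth.Agent.RootDat.BaseB.isPos_iff_posOf b j).mp hj.2
      rw [this] at h2
      exact (isPosSys_posOf P (Groth.Agent.RootDat.BaseB.isSimpleSys_base b)).disjoint
        (subset_posOf P ha) h2
    have h1 : ∑ j ∈ F, P.pairing a (P.reflectionPerm a j) = ∑ j ∈ F, P.pairing a j :=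
      Finset.sum_bij' (fun j _ => P.reflectionPerm a j) (fun j _ => P.reflectionPerm a j)
        (fun j hj => hmem j hj) (fun j hj => hmem j hj) (fun j _ => P.reflectionPerm_self a j)
        (fun j _ => P.reflectionPerm_self a j) (fun j _ => rfl)
    have h2 : ∀ j, P.pairing a (P.reflectionPerm a j) = -P.pairing a j := fun j => by
      have h := coroot'_smul P (RootPairing.Equiv.reflection P a) j (P.reflection a (P.root a))
      rw [refl_smul, P.reflection_same, refl_smul_idx, P.reflection_apply_self, map_neg,
        P.root_coroot'_eq_pairing, P.root_coroot'_eq_pairing] at h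
      exact h
    simp only [h2, Finset.sum_neg_distrib] at h1
    omega
  obtain ⟨c, hc, -, hce⟩ := exists_coeff P (Groth.Agent.RootDat.BaseB.isSimpleSys_base b) i
  have hsum : ∀ j, P.pairing i j = c.sum fun a n => n * P.pairing a j := fun j => by
    rw [← P.root_coroot'_eq_pairing, ← hce, Finsupp.linearCombination_apply, Finsupp.sum, map_sum]
    simp [Finsupp.sum, P.root_coroot'_eq_pairing]
  rw [Groth.Agent.RootDat.BaseB.height_eq b hc hce]
  calc 2 * (c.sum fun _ a => a) = ∑ a ∈ c.support, c a * 2 := by
        rw [Finsupp.sum, Finset.mul_sum]; simp [mul_comm]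
    _ = ∑ a ∈ c.support, ∑ j, c a * (if b.IsPos j then P.pairing a j else 0) :=
        Finset.sum_congr rfl fun a ha => by rw [← Finset.mul_sum, hperm a (hc ha)]
    _ = _ := by
        rw [Finset.sum_comm]
        refine Finset.sum_congr rfl fun j _ => ?_
        rw [hsum j]
        by_cases hj : b.IsPos j <;> simp [hj, Finsupp.sum]

end Groth.Agent.S5491
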