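import Groth.Statements.S5494
import Groth.Agent.RootDat.Comb

set_option autoImplicit false
open RootD

open RootPairing Groth.Agent.RootDat.Form Groth.Agent.RootDat.Pos Groth.Agent.RootDat.Weyl Groth.Agent.RootDat.Exist
namespace Groth.Agent.S5494

/-- If a system of simple roots has no partition into two non-empty orthogonal subsets, then any two
roots are linked by a chain of roots with consecutive members non-orthogonal. -/
theorem result {ι M N : Type*} [AddCommGroup M] [AddCommGroup N]
    (P : RootPairing ι ℤ M N) [Finite ι] (Δ : Set ι) (hΔ : RootD.IsSimpleSys P Δ)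
    (hconn : ∀ Δ' : Set ι, Δ' ⊆ Δ → (∀ i ∈ Δ', ∀ j ∈ Δ \ Δ', P.IsOrthogonal i j) → Δ' = ∅ ∨ Δ' = Δ)
    (i j : ι) : Relation.ReflTransGen (fun a b : ι => ¬ P.IsOrthogonal a b) i j := by
  obtain ⟨hA, hA', hB, hB'⟩ := Groth.Agent.RootDat.Comb.comp_props P i
  set C := Groth.Agent.RootDat.Comb.Comp P i
  have h := hconn (Δ ∩ C) Set.inter_subset_left fun a ha b hb => by
    by_contra hab
    exact hb.2 ⟨hb.1, ha.2.tail hab⟩
  by_contra hj
  classical
  have hcov : ∀ k, ∃ a ∈ Δ, ¬ P.IsOrthogonal k a := fun k => by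
    by_contra hno
    push Not at hno
    have := Fintype.ofFinite ι
    refine root_ne_zero P k (eq_zero_of_forall_B P (root_mem_span P k) fun l => ?_)
    have hle : Submodule.span ℤ (P.root '' Δ) ≤ LinearMap.ker (P.RootForm (P.root k)) := by
      rw [Submodule.span_le]
      rintro _ ⟨a, ha, rfl⟩
      exact (B_eq_zero_iff P (P.root k) a).mpr (by rw [P.root_coroot'_eq_pairing]; exact (hno a ha).1)
    apply hle
    rcases hΔ.mem_or_neg_mem l with h' | h'
    · exact natSpan_le_span P h'
    · exact neg_mem_iff.mp (natSpan_le_span P h')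
  obtain ⟨a, ha, hia⟩ := hcov i
  obtain ⟨b, hb, hjb⟩ := hcov j
  rcases h with h | h
  · have : a ∈ Δ ∩ C := ⟨ha, Relation.ReflTransGen.single hia⟩
    rw [h] at this; exact this
  · have : b ∈ Δ ∩ C := by rw [h]; exact hb
    exact hj (this.2.tail fun e => hjb e.symm)

end Groth.Agent.S5494
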