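import Groth.Statements.S5496
import Groth.Agent.RootDat.Ind

set_option autoImplicit false
open RootPairing
open scoped Pointwise
open RootD

open RootPairing Groth.Agent.RootDat.Form Groth.Agent.RootDat.Pos Groth.Agent.RootDat.Weyl Groth.Agent.RootDat.Exist
namespace Groth.Agent.S5496

/-- For non-proportional roots α, β let n be the least integer n > 0 with (s_α s_β)^n(α) = α and (s_α
s_β)^n(β) = β. Then the subgroup W_{α,β} generated by s_α and s_β is presented by s_α² = s_β² = (s_α
s_β)^n = 1; equivalently it has exactly 2n elements. -/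
theorem result {ι M N : Type*} [AddCommGroup M] [AddCommGroup N]
    (P : RootPairing ι ℤ M N) [Finite ι] (i j : ι) (hli : LinearIndependent ℤ ![P.root i, P.root j])
    (n : ℕ) (hn : IsLeast {m : ℕ | 0 < m ∧ ((Equiv.reflection P i * Equiv.reflection P j) ^ m) • i = i ∧
      ((Equiv.reflection P i * Equiv.reflection P j) ^ m) • j = j} n) :
    Nat.card (Subgroup.closure ({Equiv.reflection P i, Equiv.reflection P j} : Set P.Aut)) = 2 * n := by
  have := Fintype.ofFinite ι
  set r := Equiv.reflection P i * Equiv.reflection P j with hr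
  set si := Equiv.reflection P i with hsi
  have hfix : ∀ m : ℕ, (r ^ m) • i = i → (r ^ m) • j = j → r ^ m = 1 := by
    intro m h1 h2
    refine aut_ext P fun x => ?_
    have hmem : (r ^ m) • x - x ∈ Submodule.span ℤ (P.root '' {i, j}) := by
      have hgen : ∀ (g : P.Aut), g ∈ Subgroup.closure ({Equiv.reflection P i, Equiv.reflection P j} : Set P.Aut) →
          ∀ y : M, g • y - y ∈ Submodule.span ℤ (P.root '' {i, j}) := by
        intro g hg
        induction hg using Subgroup.closure_induction with
        | mem z hz =>
          intro y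
          rcases hz with rfl | rfl <;>
          (rw [refl_smul, P.reflection_apply, sub_sub_cancel_left]
           exact neg_mem (Submodule.smul_mem _ _ (Submodule.subset_span (Set.mem_image_of_mem _ (by simp)))))
        | one => intro y; simp
        | mul a b _ _ ha hb =>
          intro y
          have := add_mem (ha (b • y)) (hb y)
          rwa [sub_add_sub_cancel, ← mul_smul] at this
        | inv a _ ha =>
          intro y
          have := ha (a⁻¹ • y)
          rw [smul_inv_smul] at this
          rw [← neg_sub]
          exact neg_mem this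
      exact hgen _ (pow_mem (mul_mem (Subgroup.subset_closure (by simp)) (Subgroup.subset_closure (by simp))) m) x
    have hB : ∀ a ∈ ({i, j} : Set ι), B P ((r ^ m) • x - x) (P.root a) = 0 := by
      intro a ha
      have hfa : (r ^ m) • a = a := by rcases ha with rfl | rfl <;> assumption
      have h := B_smul P (r ^ m) x (P.root a)
      rw [← root_smul, hfa] at h
      simp only [B, map_sub, LinearMap.sub_apply] at h ⊢
      omega
    rw [one_smul, ← sub_eq_zero]
    refine eq_zero_of_B_self P (Submodule.span_mono (Set.image_subset_range _ _) hmem) ?_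
    have hle : Submodule.span ℤ (P.root '' {i, j}) ≤ LinearMap.ker (P.RootForm ((r ^ m) • x - x)) := by
      rw [Submodule.span_le]
      rintro _ ⟨a, ha, rfl⟩
      exact hB a ha
    exact hle hmem
  obtain ⟨⟨hn0, hni, hnj⟩, hmin⟩ := hn
  have hrn : r ^ n = 1 := hfix n hni hnj
  have hord : orderOf r = n := by
    refine orderOf_eq_iff hn0 |>.mpr ⟨hrn, fun m hm hm0 h => ?_⟩
    have := hmin (show m ∈ {m : ℕ | 0 < m ∧ (r ^ m) • i = i ∧ (r ^ m) • j = j} from
      ⟨hm0, by rw [h, one_smul], by rw [h, one_smul]⟩)
    omega
  have hfin : IsOfFinOrder r := isOfFinOrder_iff_pow_eq_one.mpr ⟨n, hn0, hrn⟩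
  have hconj : si * r * si⁻¹ = r⁻¹ := by
    rw [hr, hsi, mul_inv_rev, refl_inv, refl_inv, ← mul_assoc, refl_mul_self, one_mul]
  have hsir : si ∉ Subgroup.zpowers r := by
    intro h
    have hc : si * r = r * si := by
      obtain ⟨k, hk⟩ := Subgroup.mem_zpowers_iff.mp h
      rw [← hk]; exact ((Commute.refl r).zpow_left k).eq
    have hrr : r = r⁻¹ := by rw [← hconj, hc, mul_inv_cancel_right]
    have hsq : r ^ 2 = 1 := by rw [pow_two]; nth_rw 2 [hrr]; exact mul_inv_cancel r
    have hne1 : r ≠ 1 := fun e => by
      have h1 : Equiv.reflection P j = si := by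
        have := congrArg (fun z => si * z) e
        simp only [hr, hsi, ← mul_assoc, refl_mul_self, one_mul, mul_one] at this
        exact this
      have h2 := congrArg (fun g : P.Aut => g • P.root j) h1
      simp only [hsi, refl_smul, P.reflection_apply_self, P.reflection_apply_root] at h2
      have := (LinearIndependent.pair_iff.mp hli) (P.pairing j i) (-2)
        (by linear_combination (norm := module) h2)
      omega
    obtain ⟨k, hk⟩ := Subgroup.mem_zpowers_iff.mp h
    obtain ⟨a, ha⟩ : ∃ a : ℤ, k = 2 * a ∨ k = 2 * a + 1 := ⟨k / 2, by omega⟩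
    rcases ha with rfl | rfl
    · rw [zpow_mul, show r ^ (2 : ℤ) = 1 by exact_mod_cast hsq, one_zpow] at hk
      have h2 := congrArg (fun g : P.Aut => g • P.root i) hk
      simp only [hsi, refl_smul, P.reflection_apply_self, one_smul] at h2
      exact root_ne_zero P i (eq_zero_of_zsmul P two_ne_zero (by linear_combination (norm := module) h2))
    · rw [zpow_add, zpow_mul, show r ^ (2 : ℤ) = 1 by exact_mod_cast hsq, one_zpow, one_mul, zpow_one] at hk
      have h1 : Equiv.reflection P j = 1 := by
        have := congrArg (fun z => si * z) hk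
        simp only [hr, hsi, ← mul_assoc, refl_mul_self, one_mul] at this
        exact this
      have h2 := congrArg (fun g : P.Aut => g • P.root j) h1
      simp only [refl_smul, P.reflection_apply_self, one_smul] at h2
      exact root_ne_zero P j (eq_zero_of_zsmul P two_ne_zero (by linear_combination (norm := module) -h2))
  let Z := Subgroup.zpowers r
  let φ : Z ⊕ Z → P.Aut := Sum.elim (fun z => (z : P.Aut)) (fun z => si * (z : P.Aut))
  have hinj : Function.Injective φ := by
    rintro (a | a) (b | b) h <;> simp only [φ, Sum.elim_inl, Sum.elim_inr] at h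
    · exact congrArg Sum.inl (Subtype.ext h)
    · exact absurd (mul_inv_cancel_right si (b : P.Aut) ▸ mul_mem (h ▸ a.2) (inv_mem b.2)) hsir
    · exact absurd (mul_inv_cancel_right si (a : P.Aut) ▸ mul_mem (h.symm ▸ b.2) (inv_mem a.2)) hsir
    · exact congrArg Sum.inr (Subtype.ext (mul_left_cancel h))
  have hflip : ∀ z ∈ Z, si * z * si⁻¹ ∈ Z := by
    intro z hz
    obtain ⟨k, rfl⟩ := Subgroup.mem_zpowers_iff.mp hz
    rw [← conj_zpow, hconj]
    exact zpow_mem (inv_mem (Subgroup.mem_zpowers r)) k
  have hrange : Set.range φ = (Subgroup.closure ({Equiv.reflection P i, Equiv.reflection P j} : Set P.Aut) : Set P.Aut) := by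
    have hmem : r ∈ Subgroup.closure ({Equiv.reflection P i, Equiv.reflection P j} : Set P.Aut) :=
      mul_mem (Subgroup.subset_closure (by simp)) (Subgroup.subset_closure (by simp))
    refine Set.Subset.antisymm ?_ ?_
    · rintro _ ⟨a | a, rfl⟩
      · exact (Subgroup.zpowers_le.mpr hmem) a.2
      · exact mul_mem (Subgroup.subset_closure (by simp [hsi])) ((Subgroup.zpowers_le.mpr hmem) a.2)
    · have hswap : ∀ z ∈ Z, si * z * si ∈ Z := fun z hz => by
        have := hflip z hz; rwa [hsi, refl_inv] at this
      intro g hg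
      induction hg using Subgroup.closure_induction'' with
      | one => exact ⟨Sum.inl 1, rfl⟩
      | mem z hz =>
        rcases hz with rfl | rfl
        · exact ⟨Sum.inr 1, mul_one _⟩
        · exact ⟨Sum.inr ⟨r, Subgroup.mem_zpowers r⟩, by
            show si * r = _
            rw [hr, hsi, ← mul_assoc, refl_mul_self, one_mul]⟩
      | inv_mem z hz =>
        rcases hz with rfl | rfl
        · exact ⟨Sum.inr 1, by
            show si * 1 = _
            rw [mul_one, hsi, refl_inv]⟩
        · exact ⟨Sum.inr ⟨r, Subgroup.mem_zpowers r⟩, by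
            show si * r = _
            rw [hr, hsi, refl_inv, ← mul_assoc, refl_mul_self, one_mul]⟩
      | mul a b _ _ ha hb =>
        obtain ⟨a | a, rfl⟩ := ha <;> obtain ⟨b | b, rfl⟩ := hb
        · exact ⟨Sum.inl (a * b), rfl⟩
        · refine ⟨Sum.inr (⟨si * a * si, hswap _ a.2⟩ * b), ?_⟩
          simp only [φ, Sum.elim_inl, Sum.elim_inr, Subgroup.coe_mul, hsi]
          rw [← mul_assoc (Equiv.reflection P i) _ (b : P.Aut), ← mul_assoc, ← mul_assoc,
            refl_mul_self, one_mul, mul_assoc]
        · exact ⟨Sum.inr (a * b), by simp only [φ, Sum.elim_inl, Sum.elim_inr, Subgroup.coe_mul, mul_assoc]⟩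
        · refine ⟨Sum.inl (⟨si * a * si, hswap _ a.2⟩ * b), ?_⟩
          simp only [φ, Sum.elim_inl, Sum.elim_inr, Subgroup.coe_mul, mul_assoc]
  show Nat.card ↥(Subgroup.closure ({Equiv.reflection P i, Equiv.reflection P j} : Set P.Aut) : Set P.Aut) = _
  rw [Nat.card_congr (Equiv.setCongr hrange.symm),
    Nat.card_range_of_injective hinj]
  have : Finite Z := Set.Finite.to_subtype hfin.finite_zpowers
  rw [Nat.card_sum, Nat.card_zpowers, hord, two_mul]

end Groth.Agent.S5496
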