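import Groth.Statements.S5497
import Groth.Agent.RootDat.Comb

set_option autoImplicit false
open RootD

open RootPairing Groth.Agent.RootDat.Form Groth.Agent.RootDat.Pos Groth.Agent.RootDat.Weyl Groth.Agent.RootDat.Exist
namespace Groth.Agent.S5497

/-- For a partition of the roots into two closed symmetric subsets, whenever α, β, α + β are roots they
lie in the same part. -/
theorem result {ι M N : Type*} [AddCommGroup M] [AddCommGroup N]
    (P : RootPairing ι ℤ M N) [Finite ι] (R' : Set ι) (hc : RootD.IsClosedSub P R')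
    (hs : RootD.IsSymmSub P R') (hc' : RootD.IsClosedSub P R'ᶜ) (hs' : RootD.IsSymmSub P R'ᶜ)
    (i j k : ι) (h : P.root k = P.root i + P.root j) :
    (i ∈ R' ∧ j ∈ R' ∧ k ∈ R') ∨ (i ∉ R' ∧ j ∉ R' ∧ k ∉ R') := by
  have hk : ∀ A : Set ι, RootD.IsClosedSub P A → RootD.IsSymmSub P A → k ∈ A → i ∈ A → j ∈ A :=
    fun A hA hA' hk hi => hA hk (hA' hi) (by rw [root_neg, h]; abel)
  have h' : P.root k = P.root j + P.root i := by rw [h, add_comm]
  by_cases hi : i ∈ R'
  · by_cases hj : j ∈ R'
    · exact .inl ⟨hi, hj, hc hi hj h⟩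
    · exfalso
      by_cases hkR : k ∈ R'
      · exact hj (hk R' hc hs hkR hi)
      · exact hc' hkR (hs' hj) (by rw [root_neg, h]; abel : P.root i = _) hi
  · by_cases hj : j ∈ R'
    · exfalso
      by_cases hkR : k ∈ R'
      · exact hi (hc hkR (hs hj) (by rw [root_neg, h]; abel))
      · exact hc' hkR (hs' hi) (by rw [root_neg, h]; abel : P.root j = _) hj
    · exact .inr ⟨hi, hj, hc' hi hj h⟩

end Groth.Agent.S5497
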