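import Groth.Statements.S5498
import Groth.Agent.RootDat.Ind

set_option autoImplicit false
open RootD

open RootPairing Groth.Agent.RootDat.Form Groth.Agent.RootDat.Pos Groth.Agent.RootDat.Weyl Groth.Agent.RootDat.Exist
namespace Groth.Agent.S5498

/-- If R is irreducible then so is the dual datum R^v, and long(α)·long(α^v) (equivalently ℓ(α) ℓ(α^v))
is constant on the roots. -/
theorem result {ι M N : Type*} [AddCommGroup M] [AddCommGroup N]
    (P : RootPairing ι ℤ M N) [Finite ι] [Fintype ι] [Nonempty ι]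
    (hirr : ∀ R' : Set ι, RootD.IsClosedSub P R' → RootD.IsSymmSub P R' → RootD.IsClosedSub P R'ᶜ →
      RootD.IsSymmSub P R'ᶜ → R' = ∅ ∨ R' = Set.univ) :
    (∀ R' : Set ι, RootD.IsClosedSub P.flip R' → RootD.IsSymmSub P.flip R' → RootD.IsClosedSub P.flip R'ᶜ →
      RootD.IsSymmSub P.flip R'ᶜ → R' = ∅ ∨ R' = Set.univ) ∧
    ∀ i j : ι, P.RootForm (P.root i) (P.root i) * P.CorootForm (P.coroot i) (P.coroot i) =
      P.RootForm (P.root j) (P.root j) * P.CorootForm (P.coroot j) (P.coroot j) := by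
  have hflip : ∀ i j : ι, P.flip.IsOrthogonal i j ↔ P.IsOrthogonal i j := fun i j =>
    ⟨fun h => ⟨h.2, h.1⟩, fun h => ⟨h.2, h.1⟩⟩
  refine ⟨fun R' h1 h2 h3 h4 => ?_, fun i j => ?_⟩
  · rcases Set.eq_empty_or_nonempty R' with h | ⟨a, ha⟩
    · exact .inl h
    refine .inr (Set.eq_univ_of_forall fun b => ?_)
    have hb : b ∈ Groth.Agent.RootDat.Comb.Comp P a := by
      rw [Groth.Agent.RootDat.Ind.comp_eq_univ P hirr]; trivial
    induction hb with
    | refl => exact ha
    | @tail x y _ hxy ih =>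
      exact Groth.Agent.RootDat.Comb.mem_of_partition P.flip h1 h2 h3 h4 ih fun h => hxy ((hflip _ _).mp h)
  · have hj : j ∈ Groth.Agent.RootDat.Comb.Comp P i := by
      rw [Groth.Agent.RootDat.Ind.comp_eq_univ P hirr]; trivial
    induction hj with
    | refl => rfl
    | @tail x y _ hxy ih => exact ih.trans (Groth.Agent.RootDat.Ind.length_mul_eq P hxy)

end Groth.Agent.S5498
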