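import Groth.Statements.S5499
import Groth.Agent.RootDat.Ind

set_option autoImplicit false
open RootD

open RootPairing Groth.Agent.RootDat.Form Groth.Agent.RootDat.Pos Groth.Agent.RootDat.Weyl Groth.Agent.RootDat.Exist
namespace Groth.Agent.S5499

/-- For an irreducible datum, where long(α) = ℓ(α)/ℓ(α₀) with ℓ(α₀) minimal: there is a unique
homomorphism u : Γ_0(R) → M^v with u(α) = long(α) α^v for every root α. -/
theorem result {ι M N : Type*} [AddCommGroup M] [AddCommGroup N]
    (P : RootPairing ι ℤ M N) [Finite ι] [Fintype ι]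
    (hirr : ∀ R' : Set ι, RootD.IsClosedSub P R' → RootD.IsSymmSub P R' → RootD.IsClosedSub P R'ᶜ →
      RootD.IsSymmSub P R'ᶜ → R' = ∅ ∨ R' = Set.univ)
    (i₀ : ι) (hmin : ∀ i : ι, P.RootForm (P.root i₀) (P.root i₀) ≤ P.RootForm (P.root i) (P.root i)) :
    ∃! u : Submodule.span ℤ (Set.range P.root) →+ N, ∀ i : ι,
      u ⟨P.root i, Submodule.subset_span (Set.mem_range_self i)⟩ =
        (P.RootForm (P.root i) (P.root i) / P.RootForm (P.root i₀) (P.root i₀)) • P.coroot i := by
  classical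
  set L : ι → ℤ := fun i => B P (P.root i) (P.root i)
  set L0 := L i₀
  have hL0 : 0 < L0 := B_self_pos P i₀
  have hdvd : ∀ i, L0 ∣ L i := fun i => by
    obtain ⟨g, -, h⟩ := Groth.Agent.RootDat.Ind.exists_conj_not_orth P i₀ (j := i)
      (by rw [Groth.Agent.RootDat.Ind.comp_eq_univ P hirr]; trivial)
    obtain ⟨c, -, hc⟩ := Groth.Agent.RootDat.Ind.length_ratio P h (by
      rw [rootLength_smul]; exact hmin i)
    rw [rootLength_smul] at hc
    exact ⟨c, by show B P _ _ = B P _ _ * c; rw [hc, mul_comm]⟩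
  have hex : ∀ x ∈ Submodule.span ℤ (Set.range P.root), ∃ y : N, L0 • y = (2 : ℤ) • P.Polarization x := by
    intro x hx
    induction hx using Submodule.span_induction with
    | mem y hy =>
      obtain ⟨i, rfl⟩ := hy
      obtain ⟨c, hc⟩ := hdvd i
      exact ⟨c • P.coroot i, by rw [← mul_smul, ← hc, Groth.Agent.RootDat.Ind.two_pol]⟩
    | zero => exact ⟨0, by simp⟩
    | add a b _ _ ha hb =>
      obtain ⟨y, hy⟩ := ha
      obtain ⟨z, hz⟩ := hb
      exact ⟨y + z, by rw [smul_add, hy, hz, map_add, smul_add]⟩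
    | smul n a _ ha =>
      obtain ⟨y, hy⟩ := ha
      exact ⟨n • y, by rw [smul_comm, hy, map_zsmul, smul_comm]⟩
  choose u hu using hex
  let U : Submodule.span ℤ (Set.range P.root) →+ N :=
    AddMonoidHom.mk' (fun x => u x x.2) fun a b => cancelN P hL0.ne' (by
      rw [smul_add, hu, hu, hu, Submodule.coe_add, map_add, smul_add])
  refine ⟨U, fun i => cancelN P hL0.ne' ?_, fun V hV => ?_⟩
  · show L0 • u (P.root i) _ = L0 • ((L i / L0) • P.coroot i)
    rw [hu, ← mul_smul, Int.mul_ediv_cancel' (hdvd i), Groth.Agent.RootDat.Ind.two_pol]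
  · refine DFunLike.ext _ _ fun ⟨x, hx⟩ => cancelN P hL0.ne' ?_
    show L0 • V ⟨x, hx⟩ = L0 • u x hx
    rw [hu]
    induction hx using Submodule.span_induction with
    | mem y hy =>
      obtain ⟨i, rfl⟩ := hy
      rw [hV i]
      show L0 • ((L i / L0) • P.coroot i) = _
      rw [← mul_smul, Int.mul_ediv_cancel' (hdvd i), Groth.Agent.RootDat.Ind.two_pol]
    | zero =>
      rw [map_zero P.Polarization, smul_zero, show (⟨0, zero_mem _⟩ : Submodule.span ℤ (Set.range P.root)) = 0 from rfl,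
        map_zero, smul_zero]
    | add a b ha hb iha ihb =>
      have e : (⟨a + b, add_mem ha hb⟩ : Submodule.span ℤ (Set.range P.root)) = ⟨a, ha⟩ + ⟨b, hb⟩ := rfl
      rw [e, map_add, smul_add, iha, ihb, map_add, smul_add]
    | smul n a ha iha =>
      have e : (⟨n • a, Submodule.smul_mem _ n ha⟩ : Submodule.span ℤ (Set.range P.root)) = n • ⟨a, ha⟩ := rfl
      rw [e, map_zsmul, smul_comm, iha, map_zsmul, smul_comm]

end Groth.Agent.S5499
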