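import Groth.Statements.S5500
import Groth.Agent.RootDat.Ind

set_option autoImplicit false
open RootD

open RootPairing Groth.Agent.RootDat.Form Groth.Agent.RootDat.Pos Groth.Agent.RootDat.Weyl Groth.Agent.RootDat.Exist
namespace Groth.Agent.S5500

/-- For a p-morphism between irreducible reduced root data there is a rational constant k with k ·
long(u(α)) = q(α)² · long(α) for every root α; stated as the proportionality q(α)² ℓ(α) ℓ'(u β) =
q(β)² ℓ(β) ℓ'(u α) of the canonical quadratic forms. -/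
theorem result {ι M N ι' M' N' : Type*} [AddCommGroup M] [AddCommGroup N] [AddCommGroup M'] [AddCommGroup N']
    (P : RootPairing ι ℤ M N) (P' : RootPairing ι' ℤ M' N') [Finite ι] [Finite ι'] [Fintype ι] [Fintype ι'] [P.IsReduced] [P'.IsReduced]
    (hirr : ∀ R₁ : Set ι, RootD.IsClosedSub P R₁ → RootD.IsSymmSub P R₁ → RootD.IsClosedSub P R₁ᶜ →
      RootD.IsSymmSub P R₁ᶜ → R₁ = ∅ ∨ R₁ = Set.univ)
    (hirr' : ∀ R₁ : Set ι', RootD.IsClosedSub P' R₁ → RootD.IsSymmSub P' R₁ → RootD.IsClosedSub P' R₁ᶜ →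
      RootD.IsSymmSub P' R₁ᶜ → R₁ = ∅ ∨ R₁ = Set.univ)
    (p : ℕ) (hp : 0 < p) (f : M' →ₗ[ℤ] M) (g : N →ₗ[ℤ] N')
    (hfg : ∀ (m' : M') (n : N), P.toLinearMap (f m') n = P'.toLinearMap m' (g n))
    (u : ι ≃ ι') (q : ι → ℕ) (hq : ∀ i, ∃ e : ℕ, q i = p ^ e)
    (hroot : ∀ i : ι, f (P'.root (u i)) = (q i : ℤ) • P.root i)
    (hcoroot : ∀ i : ι, g (P.coroot i) = (q i : ℤ) • P'.coroot (u i)) (i j : ι) :
    ((q i : ℤ) ^ 2 * P.RootForm (P.root i) (P.root i)) * P'.RootForm (P'.root (u j)) (P'.root (u j)) =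
      ((q j : ℤ) ^ 2 * P.RootForm (P.root j) (P.root j)) * P'.RootForm (P'.root (u i)) (P'.root (u i)) := by
  set L : ι → ℤ := fun a => B P (P.root a) (P.root a)
  set L' : ι → ℤ := fun a => B P' (P'.root (u a)) (P'.root (u a))
  show (q i : ℤ) ^ 2 * L i * L' j = (q j : ℤ) ^ 2 * L j * L' i
  have hLp : ∀ a, 0 < L a := fun a => B_self_pos P a
  have hL'p : ∀ a, 0 < L' a := fun a => B_self_pos P' (u a)
  have hq0 : ∀ a, (q a : ℤ) ≠ 0 := fun a => by
    obtain ⟨e, he⟩ := hq a; rw [he]; positivity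
  have hpair : ∀ a b, (q a : ℤ) * P.pairing a b = q b * P'.pairing (u a) (u b) := by
    intro a b
    have h := hfg (P'.root (u a)) (P.coroot b)
    rw [hroot, hcoroot, map_zsmul, map_zsmul, LinearMap.smul_apply, P.root_coroot_eq_pairing,
      P'.root_coroot_eq_pairing] at h
    exact h
  have hedge : ∀ a b, ¬ P.IsOrthogonal a b → (q a : ℤ) ^ 2 * L a * L' b = (q b : ℤ) ^ 2 * L b * L' a := by
    intro a b hab
    have h0 : P.pairing b a ≠ 0 := fun e => hab (isOrth_of_pairing P e).symm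
    have h1 : P.pairing a b * L b = P.pairing b a * L a := pairing_swap P a b
    have h2 : P'.pairing (u a) (u b) * L' b = P'.pairing (u b) (u a) * L' a := pairing_swap P' (u a) (u b)
    refine mul_left_cancel₀ (mul_ne_zero (mul_ne_zero h0 (hq0 a)) (hq0 b)) ?_
    linear_combination -(q a : ℤ) ^ 2 * (q a) * (q b) * L' b * h1 + (q a : ℤ) ^ 2 * (q b) * L b * L' b * hpair a b
      + (q a : ℤ) ^ 2 * (q b) ^ 2 * L b * h2 - (q a : ℤ) * (q b) ^ 2 * L b * L' a * hpair b a
  have hj : j ∈ Groth.Agent.RootDat.Comb.Comp P i := by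
    rw [Groth.Agent.RootDat.Ind.comp_eq_univ P hirr]; trivial
  induction hj with
  | refl => ring
  | @tail x y _ hxy ih =>
    refine mul_left_cancel₀ (hL'p x).ne' ?_
    linear_combination L' y * ih + L' i * hedge x y hxy

end Groth.Agent.S5500
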