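import Groth.Statements.S5502
import Groth.Agent.RootDat.Ind

set_option autoImplicit false
open RootD

open RootPairing Groth.Agent.RootDat.Form Groth.Agent.RootDat.Pos Groth.Agent.RootDat.Weyl Groth.Agent.RootDat.Exist
namespace Groth.Agent.S5502

/-- If β = Σ_{α ∈ Δ} a_α α along a system of simple roots Δ, then ℓ(β) divides 2 a_α ℓ(α), and 2ℓ(β)
divides it when α^v is indivisible (ℓ the canonical quadratic form). -/
theorem result {ι M N : Type*} [AddCommGroup M] [AddCommGroup N]
    (P : RootPairing ι ℤ M N) [Finite ι] [Fintype ι] (Δ : Set ι) (hΔ : RootD.IsSimpleSys P Δ)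
    (k : ι) (c : ι →₀ ℤ) (hc : ↑c.support ⊆ Δ) (hck : Finsupp.linearCombination ℤ P.root c = P.root k)
    (i : ι) (hi : i ∈ Δ) :
    P.RootForm (P.root k) (P.root k) ∣ 2 * c i * P.RootForm (P.root i) (P.root i) ∧
      (RootD.IsIndiv P.flip i → 2 * P.RootForm (P.root k) (P.root k) ∣ 2 * c i * P.RootForm (P.root i) (P.root i)) := by
  classical
  set L : ι → ℤ := fun a => B P (P.root a) (P.root a)
  let D : Set ι := {j : ι | ∃ i ∈ Δ, (j = i ∧ RootD.IsIndiv P.flip i) ∨ (2 : ℤ) • P.coroot j = P.coroot i}
  show L k ∣ 2 * c i * L i ∧ (RootD.IsIndiv P.flip i → 2 * L k ∣ 2 * c i * L i)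
  have hT := Groth.Agent.RootDat.Ind.isPosSys_flip P (isPosSys_posOf P hΔ)
  have hflip := isSimpleSys_indec P.flip hT
  have prop : ∀ (x y : ι) (t s : ℤ), t • P.root x = s • P.root y →
      (t * L x) • P.coroot x = (s * L y) • P.coroot y := fun x y t s h => by
    have e := congrArg (fun z => (2 : ℤ) • P.Polarization z) h
    simp only [map_zsmul] at e
    rw [smul_comm (2 : ℤ) t, smul_comm (2 : ℤ) s, Groth.Agent.RootDat.Ind.two_pol, Groth.Agent.RootDat.Ind.two_pol, ← mul_smul, ← mul_smul] at e
    exact e
  have coprop : ∀ (x y : ι) (t s : ℤ), t • P.coroot x = s • P.coroot y →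
      (t * B P.flip (P.coroot x) (P.coroot x)) • P.root x = (s * B P.flip (P.coroot y) (P.coroot y)) • P.root y :=
    fun x y t s h => by
    have e := congrArg (fun z => (2 : ℤ) • P.CoPolarization z) h
    simp only [map_zsmul] at e
    rw [smul_comm (2 : ℤ) t, smul_comm (2 : ℤ) s, Groth.Agent.RootDat.Ind.two_copol, Groth.Agent.RootDat.Ind.two_copol, ← mul_smul, ← mul_smul] at e
    exact e
  -- coroot expansion in the simple coroots
  have hexp : ∑ a ∈ c.support, (c a * L a) • P.coroot a = L k • P.coroot k := by
    rw [← Groth.Agent.RootDat.Ind.two_pol, ← hck, Finsupp.linearCombination_apply, Finsupp.sum,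
      map_sum, Finset.smul_sum]
    exact Finset.sum_congr rfl fun a _ => by
      rw [map_zsmul, smul_comm, Groth.Agent.RootDat.Ind.two_pol, ← mul_smul]
  have hsimp : ∀ a ∈ Δ, ∃ b ∈ Indec P.flip (RootD.posOf P Δ), ∃ s : ℤ, (s = 1 ∨ s = 2) ∧
      P.coroot a = s • P.coroot b ∧ (RootD.IsIndiv P.flip a → s = 1) := by
    intro a ha
    obtain ⟨d, hd, hd0, hde⟩ := natSpan_coeff P.flip (mem_natSpan_indec P.flip (posClosed hT)
      (fun _ h => hT.disjoint h) (subset_posOf P ha))
    change Finsupp.linearCombination ℤ P.coroot d = P.coroot a at hde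
    have hsum : ∑ b ∈ d.support, (d b * B P.flip (P.coroot b) (P.coroot b)) • P.root b =
        B P.flip (P.coroot a) (P.coroot a) • P.root a := by
      rw [← Groth.Agent.RootDat.Ind.two_copol, ← hde, Finsupp.linearCombination_apply, Finsupp.sum,
        map_sum, Finset.smul_sum]
      exact Finset.sum_congr rfl fun b _ => by
        rw [map_zsmul, smul_comm, Groth.Agent.RootDat.Ind.two_copol, ← mul_smul]
    have hone : ∀ b ∈ d.support, ∃ t : ℤ, P.root b = t • P.root a := by
      intro b hb
      obtain ⟨e, he, he0, hee⟩ := natSpan_coeff P ((hd hb).1 : P.root b ∈ RootD.natSpan P Δ)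
      refine ⟨e a, ?_⟩
      choose! E hE hE0 hEe using fun b (hb : b ∈ RootD.posOf P Δ) => natSpan_coeff P (hb : P.root b ∈ RootD.natSpan P Δ)
      let T : ι →₀ ℤ := ∑ b ∈ d.support, (d b * B P.flip (P.coroot b) (P.coroot b)) • E b
      have hTe : T = Finsupp.single a (B P.flip (P.coroot a) (P.coroot a)) := by
        refine coeff_unique P hΔ.linInd (fun x hx => ?_) (fun x hx => ?_) ?_
        · obtain ⟨b', hb', h'⟩ := Finset.mem_biUnion.mp (Finsupp.support_finsetSum hx)
          exact hE b' (hd hb').1 (Finsupp.support_smul h')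
        · have := Finsupp.support_single_subset hx; simp_all
        · rw [map_sum, Finsupp.linearCombination_single, ← hsum]
          exact Finset.sum_congr rfl fun b' hb' => by rw [map_zsmul, hEe b' (hd hb').1]
      have hEb : E b = e := coeff_unique P hΔ.linInd (hE b (hd hb).1) he ((hEe b (hd hb).1).trans hee.symm)
      have : e = Finsupp.single a (e a) := by
        ext x
        by_cases hxa : x = a
        · subst hxa; simp
        · rw [Finsupp.single_eq_of_ne hxa]
          have h1 := DFunLike.congr_fun hTe x
          simp only [T, Finsupp.finsetSum_apply, Finsupp.smul_apply, smul_eq_mul,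
            Finsupp.single_eq_of_ne hxa] at h1
          have hnn : ∀ b' ∈ d.support, 0 ≤ d b' * B P.flip (P.coroot b') (P.coroot b') * E b' x := fun b' hb' =>
            mul_nonneg (mul_nonneg (hd0 b') (B_nonneg P.flip _)) (hE0 b' (hd hb').1 x)
          have h2 := (Finset.sum_eq_zero_iff_of_nonneg hnn).mp h1 b hb
          rw [hEb] at h2
          rcases mul_eq_zero.mp h2 with h2 | h2
          · rcases mul_eq_zero.mp h2 with h2 | h2
            · exact absurd h2 (Finsupp.mem_support_iff.mp hb)
            · exact absurd h2 (B_self_pos P.flip b).ne'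
          · exact h2
      rw [← hee]
      conv_lhs => rw [this, Finsupp.linearCombination_single]
    obtain ⟨b, hb⟩ : d.support.Nonempty := by
      rw [Finsupp.support_nonempty_iff]
      intro hz
      exact root_ne_zero P.flip a (by show P.coroot a = 0; rw [← hde, hz, map_zero])
    have huniq : ∀ b' ∈ d.support, b' = b := by
      intro b' hb'
      by_contra hne
      obtain ⟨t, ht⟩ := hone b hb
      obtain ⟨t', ht'⟩ := hone b' hb'
      have e1 : (t' * L b) • P.coroot b = (t * L b') • P.coroot b' :=
        prop b b' t' t (by rw [ht, ht', ← mul_smul, ← mul_smul, mul_comm])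
      have := coeff_unique P.flip hflip.linInd (c := Finsupp.single b (t' * L b)) (d := Finsupp.single b' (t * L b'))
        (fun z hz => by have := Finsupp.support_single_subset hz; simp only [Finset.mem_singleton] at this; exact this ▸ hd hb)
        (fun z hz => by have := Finsupp.support_single_subset hz; simp only [Finset.mem_singleton] at this; exact this ▸ hd hb')
        (by rw [Finsupp.linearCombination_single, Finsupp.linearCombination_single]; exact e1)
      have h4 := DFunLike.congr_fun this b
      rw [Finsupp.single_eq_same, Finsupp.single_eq_of_ne (Ne.symm hne)] at h4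
      rcases mul_eq_zero.mp h4 with h5 | h5
      · exact root_ne_zero P b' (by rw [ht', h5, zero_smul])
      · exact (B_self_pos P b).ne' h5
    have hd1 : d = Finsupp.single b (d b) := by
      ext x
      by_cases hxb : x = b
      · subst hxb; simp
      · rw [Finsupp.single_eq_of_ne hxb]
        by_contra hne
        exact hxb (huniq x (Finsupp.mem_support_iff.mpr hne))
    have hab : P.coroot a = d b • P.coroot b := by
      rw [← hde]; conv_lhs => rw [hd1, Finsupp.linearCombination_single]
    have hdb : d b = 1 ∨ d b = 2 := by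
      have h1 := multiple_cases P.flip (i := b) (j := a) hab
      have := hd0 b
      omega
    refine ⟨b, hd hb, d b, hdb, hab, fun hind => hdb.resolve_right fun h2 => hind b ?_⟩
    show (2 : ℤ) • P.coroot b = P.coroot a
    rw [hab, h2]
  obtain ⟨e, he, -, hee⟩ := exists_coeff P.flip hflip k
  change Finsupp.linearCombination ℤ P.coroot e = P.coroot k at hee
  choose! β hβ s hs hβe hβ1 using hsimp
  have hinj : Set.InjOn β Δ := by
    intro a ha a' ha' h
    by_contra hne
    have e0 : s a' • P.coroot a = s a • P.coroot a' := by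
      rw [hβe a ha, hβe a' ha', h, smul_comm]
    have e1 := coprop a a' (s a') (s a) e0
    have := coeff_unique P hΔ.linInd
      (c := Finsupp.single a (s a' * B P.flip (P.coroot a) (P.coroot a)))
      (d := Finsupp.single a' (s a * B P.flip (P.coroot a') (P.coroot a')))
      (fun z hz => by have := Finsupp.support_single_subset hz; simp only [Finset.mem_singleton] at this; exact this ▸ ha)
      (fun z hz => by have := Finsupp.support_single_subset hz; simp only [Finset.mem_singleton] at this; exact this ▸ ha')
      (by rw [Finsupp.linearCombination_single, Finsupp.linearCombination_single]; exact e1)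
    have h4 := DFunLike.congr_fun this a
    rw [Finsupp.single_eq_same, Finsupp.single_eq_of_ne hne] at h4
    rcases mul_eq_zero.mp h4 with h5 | h5
    · rcases hs a' ha' with h | h <;> omega
    · exact (B_self_pos P.flip a).ne' h5
  let T : ι →₀ ℤ := ∑ a ∈ c.support, Finsupp.single (β a) (c a * L a * s a)
  have hTe : T = L k • e := by
    refine coeff_unique P.flip hflip.linInd (fun x hx => ?_) ((Finset.coe_subset.mpr Finsupp.support_smul).trans he) ?_
    · obtain ⟨a, ha, h⟩ := Finset.mem_biUnion.mp (Finsupp.support_finsetSum hx)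
      have := Finsupp.support_single_subset h
      simp only [Finset.mem_singleton] at this
      exact this ▸ hβ a (hc ha)
    · show Finsupp.linearCombination ℤ P.coroot T = Finsupp.linearCombination ℤ P.coroot (L k • e)
      rw [map_zsmul, hee, ← hexp, map_sum]
      exact Finset.sum_congr rfl fun a ha => by
        rw [Finsupp.linearCombination_single, hβe a (hc ha), ← mul_smul]
  have key : L k ∣ c i * L i * s i := by
    refine ⟨e (β i), ?_⟩
    have h1 := DFunLike.congr_fun hTe (β i)
    simp only [T, Finsupp.finsetSum_apply, Finsupp.smul_apply, smul_eq_mul] at h1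
    rw [← h1]
    rw [Finset.sum_eq_single i]
    · simp
    · intro a ha hai
      exact Finsupp.single_eq_of_ne fun h => hai (hinj (hc ha) hi h.symm)
    · intro hnm
      simp [Finsupp.notMem_support_iff.mp hnm]
  refine ⟨?_, fun hind => ?_⟩
  · rcases hs i hi with h | h <;> rw [h] at key
    · rw [mul_one] at key; rw [mul_assoc]; exact Dvd.dvd.mul_left key 2
    · rwa [mul_comm (c i * L i) 2, ← mul_assoc] at key
  · rw [hβ1 i hi hind, mul_one] at key
    rw [mul_assoc]
    exact mul_dvd_mul_left 2 key

end Groth.Agent.S5502
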