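import Groth.Statements.S5507
import Groth.Agent.RootDat.Ind

set_option autoImplicit false
open RootD

open RootPairing Groth.Agent.RootDat.Form Groth.Agent.RootDat.Pos Groth.Agent.RootDat.Weyl Groth.Agent.RootDat.Exist
namespace Groth.Agent.S5507

/-- For a system of simple roots Δ there are positive integers m_α (the lengths) such that the matrix
(m_α a_{α,β}) with a_{α,β} = (α^v, β) is symmetric and positive definite. -/
theorem result {ι M N : Type*} [AddCommGroup M] [AddCommGroup N]
    (P : RootPairing ι ℤ M N) [Finite ι] (Δ : Finset ι) (hΔ : RootD.IsSimpleSys P (↑Δ : Set ι)) :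
    ∃ m : ↥Δ → ℤ, (∀ a, 0 < m a) ∧
      (Matrix.of fun (a b : ↥Δ) => m a * P.pairing (b : ι) (a : ι)).IsSymm ∧
      (Matrix.of fun (a b : ↥Δ) => m a * P.pairing (b : ι) (a : ι)).PosDef := by
  classical
  have := Fintype.ofFinite ι
  refine ⟨fun a => B P (P.root (a : ι)) (P.root (a : ι)), fun a => B_self_pos P _, ?_, ?_⟩
  all_goals
    set A := Matrix.of fun (a b : ↥Δ) => B P (P.root (a : ι)) (P.root (a : ι)) * P.pairing (b : ι) (a : ι)
    have hA : ∀ a b : ↥Δ, A a b = 2 * B P (P.root (a : ι)) (P.root (b : ι)) := fun a b => by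
      rw [B_comm P (P.root (a : ι)) (P.root (b : ι)), two_B, P.root_coroot'_eq_pairing]
      simp [A, mul_comm]
    have hs : A.IsSymm := by
      ext a b
      simp only [Matrix.transpose_apply, hA]
      rw [B_comm]
  · exact hs
  · rw [Matrix.posDef_iff_dotProduct_mulVec]
    refine ⟨?_, fun v hv => ?_⟩
    · ext a b
      simp only [Matrix.conjTranspose_apply, star_trivial]
      exact hs.apply a b
    let x : M := ∑ a, v a • P.root (a : ι)
    have hxs : x ∈ Submodule.span ℤ (Set.range P.root) :=
      sum_mem fun a _ => Submodule.smul_mem _ _ (root_mem_span P _)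
    have hxx : dotProduct (star v) (A.mulVec v) = 2 * B P x x := by
      simp only [dotProduct, Matrix.mulVec, star_trivial, hA]
      simp [x, B, Finset.mul_sum, mul_comm, mul_left_comm]
      rw [Finset.sum_comm]
      exact Finset.sum_congr rfl fun _ _ => Finset.sum_congr rfl fun _ _ => by ring
    rw [hxx]
    refine mul_pos two_pos (lt_of_le_of_ne (B_nonneg P x) fun h => hv ?_)
    have hx0 := eq_zero_of_B_self P hxs h.symm
    have hli : LinearIndependent ℤ (fun a : ↥Δ => P.root (a : ι)) := hΔ.linInd
    exact funext (Fintype.linearIndependent_iff.mp hli v hx0)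

end Groth.Agent.S5507
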