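import Groth.Statements.S5579
import Groth.Agent.ToposQC.Gen

set_option autoImplicit false
open CategoryTheory CategoryTheory.Limits Opposite
universe u
open ToposFin

namespace Groth.Agent.S5579

theorem map_prop {C : Type u} [SmallCategory C] {J : GrothendieckTopology C} {X Y X' Y' S : ToposFin.Sh J}
    (Q : ∀ {A B : ToposFin.Sh J}, (A ⟶ B) → Prop)
    (hcomp : ∀ {A B D : ToposFin.Sh J} {f : A ⟶ B} {g : B ⟶ D}, Q f → Q g → Q (f ≫ g))
    (hbc : ∀ {A B A' B' : ToposFin.Sh J} {f : A ⟶ B} {p : A' ⟶ A} {f' : A' ⟶ B'} {g : B' ⟶ B}, IsPullback p f' f g → Q f → Q f')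
    (f : X ⟶ Y) (f' : X' ⟶ Y') (a : Y ⟶ S) (a' : Y' ⟶ S) (hf : Q f) (hf' : Q f') :
    Q (pullback.map (f ≫ a) (f' ≫ a') a a' f f' (𝟙 S) (Category.comp_id _) (Category.comp_id _)) := by
  have e1 : IsPullback (pullback.fst (f ≫ a) a')
      (pullback.map (f ≫ a) a' a a' f (𝟙 Y') (𝟙 S) (Category.comp_id _) (by simp)) f (pullback.fst a a') := by
    refine IsPullback.of_bot ?_ (pullback.lift_fst _ _ _).symm (IsPullback.of_hasPullback a a')
    rw [show pullback.map (f ≫ a) a' a a' f (𝟙 Y') (𝟙 S) (Category.comp_id _) (by simp) ≫ pullback.snd a a' =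
      pullback.snd (f ≫ a) a' from (pullback.lift_snd _ _ _).trans (Category.comp_id _)]
    exact IsPullback.of_hasPullback (f ≫ a) a'
  have e2 : IsPullback (pullback.snd (f ≫ a) (f' ≫ a'))
      (pullback.map (f ≫ a) (f' ≫ a') (f ≫ a) a' (𝟙 _) f' (𝟙 S) (by simp) (Category.comp_id _)) f'
      (pullback.snd (f ≫ a) a') := by
    refine IsPullback.of_bot ?_ (pullback.lift_snd _ _ _).symm (IsPullback.of_hasPullback (f ≫ a) a').flip
    rw [show pullback.map (f ≫ a) (f' ≫ a') (f ≫ a) a' (𝟙 _) f' (𝟙 S) (by simp) (Category.comp_id _) ≫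
      pullback.fst (f ≫ a) a' = pullback.fst (f ≫ a) (f' ≫ a') from (pullback.lift_fst _ _ _).trans (Category.comp_id _)]
    exact (IsPullback.of_hasPullback (f ≫ a) (f' ≫ a')).flip
  have h : pullback.map (f ≫ a) (f' ≫ a') (f ≫ a) a' (𝟙 _) f' (𝟙 S) (by simp) (Category.comp_id _) ≫
      pullback.map (f ≫ a) a' a a' f (𝟙 Y') (𝟙 S) (Category.comp_id _) (by simp) =
      pullback.map (f ≫ a) (f' ≫ a') a a' f f' (𝟙 S) (Category.comp_id _) (Category.comp_id _) := by
    rw [pullback.map_comp]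
    simp
  exact h ▸ hcomp (hbc e2 hf') (hbc e1 hf)


/-- For the topos of sheaves of sets on a small site: for two morphisms f : X -> Y and f' : X' -> Y'
over a common base S, if f and f' are quasi-compact (resp. quasi-separated, resp. coherent), then so
is the product morphism f x_S f' : X x_S X' -> Y x_S Y'. -/
theorem result {C : Type u} [SmallCategory C] {J : GrothendieckTopology C}
    {X Y X' Y' S : ToposFin.Sh J} (f : X ⟶ Y) (f' : X' ⟶ Y') (a : Y ⟶ S) (a' : Y' ⟶ S) :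
    (ToposFin.IsQCHom f → ToposFin.IsQCHom f' →
      ToposFin.IsQCHom (pullback.map (f ≫ a) (f' ≫ a') a a' f f' (𝟙 S) (Category.comp_id _) (Category.comp_id _))) ∧
    (ToposFin.IsQSHom f → ToposFin.IsQSHom f' →
      ToposFin.IsQSHom (pullback.map (f ≫ a) (f' ≫ a') a a' f f' (𝟙 S) (Category.comp_id _) (Category.comp_id _))) ∧
    (ToposFin.IsCohHom f → ToposFin.IsCohHom f' →
      ToposFin.IsCohHom (pullback.map (f ≫ a) (f' ≫ a') a a' f f' (𝟙 S) (Category.comp_id _) (Category.comp_id _))) := by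
  have h1 : ToposFin.IsQCHom f → ToposFin.IsQCHom f' → _ := fun hf hf' =>
    map_prop (fun {A B} g => ToposFin.IsQCHom g) (fun h h' => Groth.Agent.ToposQC.qcHom_comp h h') (fun sq h => Groth.Agent.ToposQC.qcHom_baseChange sq h) f f' a a' hf hf'
  have h2 : ToposFin.IsQSHom f → ToposFin.IsQSHom f' → _ := fun hf hf' =>
    map_prop (fun {A B} g => ToposFin.IsQSHom g) (fun h h' => Groth.Agent.ToposQC.qsHom_comp h h') (fun sq h => Groth.Agent.ToposQC.qsHom_baseChange sq h) f f' a a' hf hf'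
  exact ⟨h1, h2, fun hf hf' => ⟨h1 hf.1 hf'.1, h2 hf.2 hf'.2⟩⟩

end Groth.Agent.S5579
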