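import Groth.Statements.S5580
import Groth.Agent.ToposQC.Coprod

set_option autoImplicit false
open CategoryTheory CategoryTheory.Limits Opposite
universe u
open ToposFin

namespace Groth.Agent.S5580

/-- Quasi-compact and coherent cases: for the topos of sheaves of sets on a small site: let (X_i) be a
finite family of objects with coproduct X (given as a colimit cofan) and f : X -> Y a morphism with
components f_i : X_i -> Y. Then f is quasi-compact (resp. coherent) if and only if every f_i is. -/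
theorem result {C : Type u} [SmallCategory C] {J : GrothendieckTopology C}
    {Y : ToposFin.Sh J} {n : ℕ} (X : Fin n → ToposFin.Sh J) (c : Cofan X) (hc : IsColimit c)
    (f : c.pt ⟶ Y) :
    (ToposFin.IsQCHom f ↔ ∀ i, ToposFin.IsQCHom (c.inj i ≫ f)) ∧
    (ToposFin.IsCohHom f ↔ ∀ i, ToposFin.IsCohHom (c.inj i ≫ f)) := by
  have hje := Groth.Agent.ToposQC.je_cofan c hc
  let e : ULift.{u} (Fin n) ≃ Fin n := Equiv.ulift
  have hc' : IsColimit ((Cofan.mk c.pt fun k : ULift.{u} (Fin n) => c.inj k.down) : Cofan fun k : ULift.{u} (Fin n) => X k.down) :=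
    Limits.mkCofanColimit _ (fun s => Cofan.IsColimit.desc hc fun k => s.inj ⟨k⟩)
      (fun s k => Cofan.IsColimit.fac hc _ k.down) (fun s m hm => Cofan.IsColimit.hom_ext hc _ _ fun k =>
        (hm ⟨k⟩).trans (Cofan.IsColimit.fac hc (fun k => s.inj ⟨k⟩) k).symm)
  have hinj : ∀ i, ToposFin.IsQCHom (c.inj i) := fun i => Groth.Agent.ToposQC.qcHom_inj hc' ⟨i⟩
  haveI : ∀ i, Mono (c.inj i) := fun i => Groth.Agent.ToposQC.cofan_mono hc' ⟨i⟩
  have h1 : ToposFin.IsQCHom f ↔ ∀ i, ToposFin.IsQCHom (c.inj i ≫ f) :=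
    ⟨fun h i => Groth.Agent.ToposQC.qcHom_comp (hinj i) h, fun h => Groth.Agent.ToposQC.qcHom_of_source f hje h⟩
  refine ⟨h1, fun h i => ⟨h1.1 h.1 i, Groth.Agent.ToposQC.qsHom_comp (Groth.Agent.ToposQC.qsHom_of_mono (c.inj i)) h.2⟩, fun h => ⟨h1.2 fun i => (h i).1, ?_⟩⟩
  exact Groth.Agent.ToposQC.qsHom_of_source' f (f := fun k : ULift.{u} (Fin n) => c.inj k.down) (fun W a b he => hje W a b fun i => he ⟨i⟩)
    (fun k => hinj _) (fun k => (h _).2)

end Groth.Agent.S5580
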