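import Groth.Statements.S5582
import Groth.Agent.ToposQC.FP
import Groth.Agent.ToposQC.Gen

set_option autoImplicit false
open CategoryTheory CategoryTheory.Limits Opposite
universe u
open ToposFin

namespace Groth.Agent.S5582

/-- Equivalence of (i), (ii bis) and (iii), for the topos of sheaves of sets on a small site admitting a
generating family of coherent objects: the coequalizer of every pair of arrows between coherent
objects is coherent if and only if every object X for which Hom(X, -) commutes with small filtered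
colimits is coherent; and every object is a small filtered colimit of coherent objects if and only
if that same condition holds. -/
theorem result {C : Type u} [SmallCategory C]
    {J : GrothendieckTopology C} (hE : ToposFin.HasCoherentGenerators J) :
    ((∀ (X₀ X₁ : ToposFin.Sh J) (a b : X₁ ⟶ X₀), ToposFin.IsCoherent X₀ → ToposFin.IsCoherent X₁ →
        ToposFin.IsCoherent (coequalizer a b)) ↔
      (∀ X : ToposFin.Sh J, ToposFin.IsFP X → ToposFin.IsCoherent X)) ∧
    ((∀ X : ToposFin.Sh J, ∃ (I : Type u) (_ : SmallCategory I) (_ : IsFiltered I) (D : I ⥤ ToposFin.Sh J),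
        (∀ i, ToposFin.IsCoherent (D.obj i)) ∧ Nonempty (X ≅ colimit D)) ↔
      (∀ X : ToposFin.Sh J, ToposFin.IsFP X → ToposFin.IsCoherent X)) := by
  have hgen : Groth.Agent.ToposQC.Gen (Groth.Agent.ToposQC.qcObj (J := J)) := Groth.Agent.ToposQC.gen_qc fun Y => by
    obtain ⟨ι, F, π, hF, hπ⟩ := hE Y
    exact ⟨ι, F, π, fun i => (hF i).1, hπ⟩
  have hFP : ∀ {X X₀ X₁ : ToposFin.Sh J} (a b : X₁ ⟶ X₀) (i : X ⟶ coequalizer a b) (p : coequalizer a b ⟶ X),
      i ≫ p = 𝟙 X → ToposFin.IsCoherent X₀ → ToposFin.IsCoherent X₁ → ToposFin.IsFP X := fun a b i p h h₀ h₁ =>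
    Groth.Agent.ToposQC.isFP_retract (fun K => K.2) hgen a b i p h h₀ h₁.1
  refine ⟨⟨fun h X hX => ?_, fun h X₀ X₁ a b h₀ h₁ => h _ (hFP a b (𝟙 _) (𝟙 _) (Category.comp_id _) h₀ h₁)⟩,
    fun h X hX => ?_, fun h X => ?_⟩
  · obtain ⟨X₀, X₁, a, b, i, p, h₀, h₁, e⟩ := Groth.Agent.ToposQC.retract_of_isFP (Groth.Agent.ToposQC.presClass_coherent hE) hX
    exact Groth.Agent.ToposQC.coherent_of_retract i p e (h X₀ X₁ a b h₀ h₁)
  · obtain ⟨I, _, _, D, hD, ⟨e⟩⟩ := h X
    obtain ⟨t, ht⟩ := (hX I D).2 e.hom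
    obtain ⟨k, m, rfl⟩ := Types.jointly_surjective' t
    rw [Groth.Agent.ToposQC.post_ι] at ht
    exact Groth.Agent.ToposQC.coherent_of_retract m (colimit.ι D k ≫ e.inv) (by rw [← Category.assoc, ht, e.hom_inv_id]) (hD k)
  · obtain ⟨I, hI₁, hI₂, D, c, hc, hpt, hD⟩ := Groth.Agent.ToposQC.exists_presentation (Groth.Agent.ToposQC.presClass_coherent hE) X
    subst hpt
    refine ⟨I, hI₁, hI₂, D, fun k => ?_, ⟨hc.coconePointUniqueUpToIso (colimit.isColimit D)⟩⟩
    obtain ⟨X₀, X₁, a, b, h₀, h₁, hk⟩ := hD k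
    rw [hk]
    exact h _ (hFP a b (𝟙 _) (𝟙 _) (Category.comp_id _) h₀ h₁)

end Groth.Agent.S5582
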