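import Groth.Statements.S5583
import Groth.Agent.ToposQC.Gen

set_option autoImplicit false
open CategoryTheory CategoryTheory.Limits Opposite
universe u
open ToposFin

namespace Groth.Agent.S5583

/-- Let (C, J) be a small site with fibre products all of whose objects are quasi-compact. In the topos
of sheaves of sets, if G -> F <- H are morphisms between coherent objects and F lies over the sheaf
associated to some object of C, then G x_F H is coherent (so the coherent objects lying over such
sheaves form a generating family stable under fibre products). -/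
theorem result {C : Type u} [SmallCategory C] [HasPullbacks C]
    (J : GrothendieckTopology C) (hC : ∀ X : C, ToposFin.IsQCSite J X)
    {G H F : ToposFin.Sh J} (a : G ⟶ F) (b : H ⟶ F) (hG : ToposFin.IsCoherent G) (hH : ToposFin.IsCoherent H)
    (hF : ToposFin.IsCoherent F) (X : C) (w : F ⟶ ToposFin.eps J X) :
    ToposFin.IsCoherent (pullback a b) := by
  have hQS := Groth.Agent.ToposQC.qs_eps hC X
  have key : ∀ {L : ToposFin.Sh J} (g : L ⟶ ToposFin.eps J X), ToposFin.IsQS L → ToposFin.IsQSHom g := by
    intro L g hL
    obtain ⟨ι, u, π, hπ⟩ := Groth.Agent.ToposQC.gen_eps (J := J) L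
    choose κ V h h' hje he using fun i => Groth.Agent.ToposQC.exists_cover_am (π i ≫ g)
    refine Groth.Agent.ToposQC.qsHom_of_pairs (Groth.Agent.ToposQC.qc_eps_of_site hC) Groth.Agent.ToposQC.gen_eps g hL (Groth.Agent.ToposQC.je_trans hπ hje)
      (fun p => Groth.Agent.ToposQC.qc_eps_of_site hC _) fun p q => ?_
    refine Groth.Agent.ToposQC.qs_of_iso (pullback.congrHom ((Category.assoc _ _ _).trans (he _ _)) ((Category.assoc _ _ _).trans (he _ _))).symm ?_
    exact Groth.Agent.ToposQC.qs_of_iso ((IsPullback.of_hasPullback (h' p.1 p.2) (h' q.1 q.2)).map (yoneda ⋙ presheafToSheaf J (Type u))).isoPullback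
      (Groth.Agent.ToposQC.qs_eps hC _)
  refine ⟨hF.2 _ _ a b hG.1 hH.1, ?_⟩
  have hb : ToposFin.IsQSHom b := Groth.Agent.ToposQC.qsHom_of_comp b w (key _ hH.2)
  exact Groth.Agent.ToposQC.qs_of_qsHom (pullback.fst a b) (Groth.Agent.ToposQC.qsHom_baseChange (IsPullback.of_hasPullback a b).flip hb) hG.2

end Groth.Agent.S5583
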