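import Groth.Statements.S5584
import Groth.Agent.ToposQC.Gen

set_option autoImplicit false
open CategoryTheory CategoryTheory.Limits Opposite
universe u
open ToposFin

namespace Groth.Agent.S5584

/-- Let (C, J) be a small site with fibre products all of whose objects are quasi-compact, and X an
object of C with associated sheaf e(X). Then every morphism from a quasi-separated object G to e(X)
is quasi-separated, and for a second quasi-separated object H over e(X) the fibre product G x_{e(X)}
H is quasi-separated. -/
theorem result {C : Type u} [SmallCategory C] [HasPullbacks C]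
    (J : GrothendieckTopology C) (hC : ∀ X : C, ToposFin.IsQCSite J X) (X : C)
    {G H : ToposFin.Sh J} (g : G ⟶ ToposFin.eps J X) (h : H ⟶ ToposFin.eps J X) (hG : ToposFin.IsQS G)
    (hH : ToposFin.IsQS H) :
    ToposFin.IsQSHom g ∧ ToposFin.IsQS (pullback g h) := by
  have key : ∀ {L : ToposFin.Sh J} (g : L ⟶ ToposFin.eps J X), ToposFin.IsQS L → ToposFin.IsQSHom g := by
    intro L g hL
    obtain ⟨ι, u, π, hπ⟩ := Groth.Agent.ToposQC.gen_eps (J := J) L
    choose κ V h h' hje he using fun i => Groth.Agent.ToposQC.exists_cover_am (π i ≫ g)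
    refine Groth.Agent.ToposQC.qsHom_of_pairs (Groth.Agent.ToposQC.qc_eps_of_site hC) Groth.Agent.ToposQC.gen_eps g hL (Groth.Agent.ToposQC.je_trans hπ hje)
      (fun p => Groth.Agent.ToposQC.qc_eps_of_site hC _) fun p q => ?_
    refine Groth.Agent.ToposQC.qs_of_iso (pullback.congrHom ((Category.assoc _ _ _).trans (he _ _)) ((Category.assoc _ _ _).trans (he _ _))).symm ?_
    exact Groth.Agent.ToposQC.qs_of_iso ((IsPullback.of_hasPullback (h' p.1 p.2) (h' q.1 q.2)).map (yoneda ⋙ presheafToSheaf J (Type u))).isoPullback
      (Groth.Agent.ToposQC.qs_eps hC _)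
  exact ⟨key g hG, Groth.Agent.ToposQC.qs_of_qsHom (pullback.fst g h) (Groth.Agent.ToposQC.qsHom_baseChange (IsPullback.of_hasPullback g h).flip (key h hH)) hG⟩

end Groth.Agent.S5584
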