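import Groth.Statements.S5586
import Groth.Agent.ToposQC.Gen

set_option autoImplicit false
open CategoryTheory CategoryTheory.Limits Opposite
universe u
open ToposFin

namespace Groth.Agent.S5586

/-- Quasi-separated and coherent cases: for an algebraic topos of sheaves of sets on a small site: let f
: X -> Y be a morphism and (Y_i -> Y) a jointly epimorphic family. If the Y_i are quasi-separated
(resp. coherent), then f is quasi-separated (resp. coherent) if and only if every X x_Y Y_i is a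
quasi-separated (resp. coherent) object. -/
theorem result {C : Type u} [SmallCategory C]
    {J : GrothendieckTopology C} (hE : ToposFin.IsAlgebraic J) {X Y : ToposFin.Sh J} (f : X ⟶ Y)
    {ι : Type u} (Yi : ι → ToposFin.Sh J) (g : ∀ i, Yi i ⟶ Y)
    (hg : ∀ (Z : ToposFin.Sh J) (a b : Y ⟶ Z), (∀ i, g i ≫ a = g i ≫ b) → a = b) :
    ((∀ i, ToposFin.IsQS (Yi i)) → (ToposFin.IsQSHom f ↔ ∀ i, ToposFin.IsQS (pullback f (g i)))) ∧
    ((∀ i, ToposFin.IsCoherent (Yi i)) →
      (ToposFin.IsCohHom f ↔ ∀ i, ToposFin.IsCoherent (pullback f (g i)))) := by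
  have hE' := hE
  obtain ⟨S, hqc, hgen, -, -⟩ := hE'
  have hG : ∀ K : S, ToposFin.IsQC (K : ToposFin.Sh J) := fun K => hqc K K.2
  have hgen' := Groth.Agent.ToposQC.gen_of_generating hgen
  have fwd : ToposFin.IsQSHom f → ∀ i, ToposFin.IsQS (Yi i) → ToposFin.IsQS (pullback f (g i)) := fun hf i hi =>
    Groth.Agent.ToposQC.qs_of_qsHom _ (Groth.Agent.ToposQC.qsHom_baseChange (IsPullback.of_hasPullback f (g i)) hf) hi
  have bwd : (∀ i, ToposFin.IsQS (pullback f (g i))) → ToposFin.IsQSHom f := fun h =>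
    Groth.Agent.ToposQC.qsHom_of_target hG hgen' f hg fun i => Groth.Agent.ToposQC.qsHom_of_qs hE _ (h i)
  refine ⟨fun hY => ⟨fun hf i => fwd hf i (hY i), bwd⟩, fun hY => ⟨fun hf i => ?_, fun h => ⟨?_, bwd fun i => (h i).2⟩⟩⟩
  · exact ⟨Groth.Agent.ToposQC.qc_of_qcHom _ (Groth.Agent.ToposQC.qcHom_baseChange (IsPullback.of_hasPullback f (g i)) hf.1) (hY i).1, fwd hf.2 i (hY i).2⟩
  · exact Groth.Agent.ToposQC.qcHom_of_target hG hgen' f hg fun i => (Groth.Agent.ToposQC.qs_iff _).1 (hY i).2 _ _ (h i).1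

end Groth.Agent.S5586
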