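import Groth.Statements.S5587
import Groth.Agent.ToposQC.Gen

set_option autoImplicit false
open CategoryTheory CategoryTheory.Limits Opposite
universe u
open ToposFin

namespace Groth.Agent.S5587

/-- For a locally coherent topos of sheaves of sets on a small site (given by a generating set of
quasi-compact objects stable under fibre products): a morphism f : X -> Y is quasi-separated if and
only if for every quasi-separated object Y' over Y the fibre product X x_Y Y' is quasi-separated. -/
theorem result {C : Type u} [SmallCategory C]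
    {J : GrothendieckTopology C} (S : Set (ToposFin.Sh J)) (hqc : ∀ K ∈ S, ToposFin.IsQC K)
    (hgen : ToposFin.IsGenerating S) (hpb : ToposFin.ClosedUnderPullbacks S) {X Y : ToposFin.Sh J} (f : X ⟶ Y) :
    ToposFin.IsQSHom f ↔
      ∀ (Y' : ToposFin.Sh J) (g : Y' ⟶ Y), ToposFin.IsQS Y' → ToposFin.IsQS (pullback f g) := by
  have hG : ∀ K : S, ToposFin.IsQC (K : ToposFin.Sh J) := fun K => hqc K K.2
  have hgen' := Groth.Agent.ToposQC.gen_of_generating hgen
  refine ⟨fun hf Y' g hY => Groth.Agent.ToposQC.qs_of_qsHom _ (Groth.Agent.ToposQC.qsHom_baseChange (IsPullback.of_hasPullback f g) hf) hY, fun h => ?_⟩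
  obtain ⟨ι, K, π, hK, hπ⟩ := hgen Y
  refine Groth.Agent.ToposQC.qsHom_of_target hG hgen' f hπ fun i => ?_
  obtain ⟨κ, L, ρ, hL, hρ⟩ := hgen (pullback f (π i))
  refine Groth.Agent.ToposQC.qsHom_of_pairs hG hgen' _ (h _ (π i) (Groth.Agent.ToposQC.coherent_of_closed hqc hgen hpb (hK i)).2) hρ (fun k => hqc _ (hL k)) fun k l => ?_
  obtain ⟨Q, p, q, hQ, sq⟩ := hpb (ρ k ≫ pullback.snd f (π i)) (ρ l ≫ pullback.snd f (π i)) (hL k) (hL l) (hK i)
  exact Groth.Agent.ToposQC.qs_of_iso sq.isoPullback (Groth.Agent.ToposQC.coherent_of_closed hqc hgen hpb hQ).2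

end Groth.Agent.S5587
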