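import Groth.Statements.S5588
import Groth.Agent.ToposQC.FP
import Groth.Agent.ToposQC.Gen

set_option autoImplicit false
open CategoryTheory CategoryTheory.Limits Opposite
universe u
open ToposFin

namespace Groth.Agent.S5588

/-- (ii) implies (i), for the topos of sheaves of sets on a small site: let S be an isomorphism-closed
generating set of quasi-compact objects, stable under finite colimits and under fibre products. Then
S is the set of all coherent objects (so the topos is locally coherent), and every object X for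
which Hom(X, -) commutes with small filtered colimits is coherent. -/
theorem result {C : Type u} [SmallCategory C]
    {J : GrothendieckTopology C} (S : Set (ToposFin.Sh J)) (hqc : ∀ K ∈ S, ToposFin.IsQC K)
    (hiso : ∀ ⦃K L : ToposFin.Sh J⦄, K ∈ S → Nonempty (K ≅ L) → L ∈ S)
    (hgen : ToposFin.IsGenerating S) (hpb : ToposFin.ClosedUnderPullbacks S)
    (hcolim : ∀ (K : Type) [SmallCategory K] [FinCategory K] (D : K ⥤ ToposFin.Sh J),
      (∀ k, D.obj k ∈ S) → colimit D ∈ S) :
    (∀ X : ToposFin.Sh J, X ∈ S ↔ ToposFin.IsCoherent X) ∧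
    (∀ X : ToposFin.Sh J, ToposFin.IsFP X → ToposFin.IsCoherent X) := by
  have hcoh : ∀ K ∈ S, ToposFin.IsCoherent K := fun K hK => Groth.Agent.ToposQC.coherent_of_closed hqc hgen hpb hK
  have hG : ∀ a : S, ToposFin.IsQC (a : ToposFin.Sh J) := fun a => hqc a a.2
  have hgen' := Groth.Agent.ToposQC.gen_of_generating hgen
  have hP : Groth.Agent.ToposQC.PresClass (· ∈ S) := ⟨fun κ _ F hF => by
    obtain ⟨n, ⟨ek⟩⟩ := Finite.exists_equiv_fin κ
    haveI : HasColimit (Discrete.functor (fun k : Fin n => F (ek.symm k))) := inferInstance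
    exact hiso (hcolim (Discrete (Fin n)) (Discrete.functor fun k => F (ek.symm k)) fun k => hF _)
      ⟨Sigma.reindex ek.symm F⟩, hgen⟩
  have hcq : ∀ {X₀ X₁ : ToposFin.Sh J} (a b : X₁ ⟶ X₀), X₀ ∈ S → X₁ ∈ S → coequalizer a b ∈ S := fun a b h₀ h₁ =>
    hcolim WalkingParallelPair (parallelPair a b) (fun k => by cases k <;> assumption)
  have key : ∀ X, ToposFin.IsFP X → X ∈ S := fun X hX => by
    obtain ⟨X₀, X₁, a, b, i, p, h₀, h₁, e⟩ := Groth.Agent.ToposQC.retract_of_isFP hP hX
    have hQ := hcq a b h₀ h₁
    refine hiso (hcq (𝟙 (coequalizer a b)) (p ≫ i) hQ hQ) ⟨?_⟩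
    haveI : IsSplitEpi p := ⟨⟨⟨i, e⟩⟩⟩
    exact { hom := coequalizer.desc p (by rw [Category.id_comp, Category.assoc, e, Category.comp_id])
            inv := i ≫ coequalizer.π _ _
            hom_inv_id := by
              apply coequalizer.hom_ext
              rw [coequalizer.π_desc_assoc, ← Category.assoc, ← coequalizer.condition, Category.id_comp, Category.comp_id]
            inv_hom_id := by rw [Category.assoc, coequalizer.π_desc, e] }
  exact ⟨fun X => ⟨hcoh X, fun hX => key X (Groth.Agent.ToposQC.isFP_of_coherent hG hgen' hX)⟩, fun X hX => hcoh X (key X hX)⟩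

end Groth.Agent.S5588
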