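import Groth.Statements.S6946
import Groth.Agent.PseudoCoh.TorAmp
import Groth.Agent.PseudoCoh.Coherent
import Groth.Agent.Flat.TorDim

set_option autoImplicit false
universe u
open CategoryTheory CategoryTheory.Limits
attribute [local instance] HasDerivedCategory.standard
open DRing

namespace Groth.Agent.S6946

open CategoryTheory CategoryTheory.Limits DerivedCategory DerivedCategory.TStructure Groth.Agent.PseudoCoh

attribute [local instance] HasDerivedCategory.standard

/-- With the definition of tor dimension: let R be a commutative ring, M an R-module and d a natural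
number. Then Tor_p^R(M, N) = 0 for every R-module N and every p > d if and only if M[0] is
isomorphic in D(R) to a complex of flat modules vanishing outside [-d, 0] (a flat resolution of M of
length d). In particular M has tor dimension 0 (Tor_p^R(M, N) = 0 for every N and every p > 0) if
and only if M is flat. -/
theorem result (R : Type u) [CommRing R] (M : Type u)
    [AddCommGroup M] [Module R M] (d : ℕ) :
    (DRing.HasTorDimLE R d M ↔ DRing.HasTorAmplitudeIn R (-(d : ℤ)) 0 (Dual.inD R M)) ∧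
      (DRing.HasTorDimLE R 0 M ↔ Module.Flat R M) := by
  obtain ⟨P, hPb, hPp, hPK, ⟨eP⟩⟩ := exists_projective_le (Dual.inD R M) 0 (isLE_inD M)
  have hflat : ∀ i, Module.Flat R (P.X i) := fun i => by
    haveI := hPp i
    haveI : Module.Projective R (P.X i) := (IsProjective.iff_projective (P.X i)).2 inferInstance
    exact Module.Flat.of_projective
  have hx : ∀ i, i < 0 → P.ExactAt i := fun i hi => exactAt_of_isGE_toD
    (haveI : t.IsGE (Dual.inD R M) 0 := (inferInstance : t.IsGE ((DerivedCategory.singleFunctor (ModuleCat.{u} R) 0).obj (ModuleCat.of R M)) 0)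
     t.isGE_of_iso eP.symm 0) hi
  let S : ℕ → ModuleCat.{u} R := fun i =>
    ModuleCat.of R (P.X (-(i : ℤ)) ⧸ LinearMap.range (P.d (-(i : ℤ) - 1) (-(i : ℤ))).hom)
  let Q : ℕ → ModuleCat.{u} R := fun i => P.X (-(i : ℤ))
  let s : Flat.TorDim.Syz R (fun i => S i) (fun i => Q i) :=
    { flat := fun i => hflat _
      ι := fun i => Submodule.liftQ _ (P.d (-((i + 1 : ℕ) : ℤ)) (-(i : ℤ))).hom (by
        rintro _ ⟨x, rfl⟩
        exact ConcreteCategory.congr_hom (P.d_comp_d _ (-((i + 1 : ℕ) : ℤ)) (-(i : ℤ))) x)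
      π := fun i => Submodule.mkQ _
      inj := fun i => by
        rw [← LinearMap.ker_eq_bot, Submodule.ker_liftQ, ← range_eq_ker P (sub_add_cancel _ 1)
          (show -((i + 1 : ℕ) : ℤ) + 1 = -(i : ℤ) by push_cast; omega) (hx _ (by push_cast; omega)), Submodule.mkQ_map_self]
      exact := fun i => LinearMap.exact_iff.2 (by
        rw [Submodule.ker_mkQ, Submodule.range_liftQ, show -(i : ℤ) - 1 = -((i + 1 : ℕ) : ℤ) by push_cast; omega])
      surj := fun i => Submodule.mkQ_surjective _ }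
  have hd0 : P.d (-((0 : ℕ) : ℤ)) (-((0 : ℕ) : ℤ) + 1) = 0 := (hPb _ (by omega)).eq_of_tgt _ _
  let e : ModuleCat.of R M ≅ S 0 :=
    ((DerivedCategory.singleFunctorCompHomologyFunctorIso (ModuleCat.{u} R) 0).app (ModuleCat.of R M)).symm ≪≫
      ((DerivedCategory.homologyFunctor (ModuleCat.{u} R) 0).mapIso eP.symm) ≪≫
      (DerivedCategory.homologyFunctorFactors (ModuleCat.{u} R) 0).app P ≪≫
      @asIso _ _ _ _ (P.homologyι (-((0 : ℕ) : ℤ))) (P.isIso_homologyι (-((0 : ℕ) : ℤ)) (-((0 : ℕ) : ℤ) + 1) (by simp) hd0) ≪≫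
      opcyclesEquiv P (-((0 : ℕ) : ℤ) - 1) (-((0 : ℕ) : ℤ)) (sub_add_cancel _ 1)
  have hTor : ∀ (N : Type u) [AddCommGroup N] [Module R N] (p : ℕ),
      Subsingleton (DRing.Tor R p M N) ↔
        IsZero (((CategoryTheory.Tor (ModuleCat.{u} R) p).obj (S 0)).obj (ModuleCat.of R N)) := fun N _ _ p =>
    ⟨fun h => (@ModuleCat.isZero_of_subsingleton _ _ _ h).of_iso ((((CategoryTheory.Tor (ModuleCat.{u} R) p).mapIso e).app _).symm),
      fun h => ModuleCat.subsingleton_of_isZero (h.of_iso (((CategoryTheory.Tor (ModuleCat.{u} R) p).mapIso e).app _))⟩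
  have key : ∀ d : ℕ, DRing.HasTorDimLE R d M ↔ Module.Flat R (S d) := fun d => by
    refine ⟨fun h => s.flat_of_tor fun N _ _ => (hTor N _).1 (h N _ d.lt_succ_self), fun h N _ _ p hp => ?_⟩
    obtain ⟨q, rfl⟩ : ∃ q, q + 1 = p := ⟨p - 1, by omega⟩
    obtain ⟨T, W, t', hT, ht⟩ := Flat.TorDim.exists_syz (R := R) N
    have h1 := Flat.TorDim.flat_iff_torZero.1 (s.flat_of_le h (show d ≤ q by omega)) (T 0)
    exact (hTor N _).2 ((ht (S 0) q).2 (Flat.TorDim.torZero_symm ((s.flip t' q 0).1 h1)))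
  refine ⟨(key d).trans ⟨fun h => torAmplitude_of_iso eP (torAmplitude_of_complex (b := 0) (sub_add_cancel (-(d : ℤ)) 1)
    hPb hflat ?_ ?_ h), fun h => flat_coker_of_torAmplitude (sub_add_cancel (-(d : ℤ)) 1) hPb hPp eP h⟩,
    (key 0).trans ⟨fun h => Module.Flat.of_linearEquiv e.toLinearEquiv, fun h => ?_⟩⟩
  · haveI : t.IsGE (Dual.inD R M) 0 :=
      (inferInstance : t.IsGE ((DerivedCategory.singleFunctor (ModuleCat.{u} R) 0).obj (ModuleCat.of R M)) 0)
    haveI := t.isGE_of_iso eP.symm 0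
    exact t.isGE_of_ge _ (-(d : ℤ)) 0 (by omega)
  · haveI := isLE_inD (A := R) M
    exact t.isLE_of_iso eP.symm 0
  · haveI := h
    exact Module.Flat.of_linearEquiv e.toLinearEquiv.symm

end Groth.Agent.S6946
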