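import Groth.Statements.S5612
import Groth.Agent.S6946
import Groth.Agent.PseudoCoh.Devissage
import Groth.Agent.PseudoCoh.Criteria

set_option autoImplicit false
universe u
open CategoryTheory CategoryTheory.Limits
attribute [local instance] HasDerivedCategory.standard
open DRing

namespace Groth.Agent.S5612

open CategoryTheory CategoryTheory.Limits CategoryTheory.Pretriangulated DerivedCategory DerivedCategory.TStructure Groth.Agent.PseudoCoh

attribute [local instance] HasDerivedCategory.standard

/-- Let A be a commutative ring all of whose modules have finite tor dimension (for instance A of finite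
global dimension) and K ∈ D(A). (i) K has finite tor dimension if and only if K has bounded
cohomology. (ii) K is perfect if and only if K has bounded cohomology and is pseudo-coherent. -/
theorem result {A : Type u} [CommRing A]
    (hA : ∀ (M : Type u) [AddCommGroup M] [Module A M], DRing.HasFiniteTorDim A M) (K : Dual.D A) :
    (DRing.HasFiniteTorDimCx A K ↔ ∃ a b : ℤ, ∀ i : ℤ, i < a ∨ b < i → Subsingleton (Dual.HD A K i)) ∧
      (DRing.IsPerfect A K ↔
        (∃ a b : ℤ, ∀ i : ℤ, i < a ∨ b < i → Subsingleton (Dual.HD A K i)) ∧ DRing.IsPseudoCoherent' A K) := by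
  have key : DRing.HasFiniteTorDimCx A K ↔
      ∃ a b : ℤ, ∀ i : ℤ, i < a ∨ b < i → Subsingleton (Dual.HD A K i) := by
    constructor
    · rintro ⟨a, b, h⟩
      refine ⟨a, b, fun i hi => ModuleCat.subsingleton_of_isZero ?_⟩
      rcases hi with hi | hi
      · exact (DerivedCategory.isGE_iff _ _).1 (isGE_of_torAmplitude h) i hi
      · exact (DerivedCategory.isLE_iff _ _).1 (isLE_of_torAmplitude h) i hi
    · rintro ⟨a, b, h⟩
      refine devissage_bounded (DRing.HasFiniteTorDimCx A) (fun e ⟨c, d, h⟩ => ⟨c, d, torAmplitude_of_iso e h⟩)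
        (fun T hT h₁ h₃ => finiteTorDim_obj₃ T.invRotate (inv_rot_of_distTriang _ hT) (finiteTorDim_shift (-1) h₃) h₁)
        (fun L hL => ⟨0, 0, HomologicalComplex.zero, fun i _ => isZero_zero _, fun i => ?_, ⟨?_⟩⟩) K a b
        ((DerivedCategory.isGE_iff _ _).2 fun i hi => @ModuleCat.isZero_of_subsingleton _ _ _ (h i (Or.inl hi)))
        ((DerivedCategory.isLE_iff _ _).2 fun i hi => @ModuleCat.isZero_of_subsingleton _ _ _ (h i (Or.inr hi)))
        (fun i => ?_)
      · have hz : IsZero ((HomologicalComplex.zero : DRing.Cx A).X i) :=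
          isZero_zero _
        haveI := ModuleCat.subsingleton_of_isZero hz
        infer_instance
      · exact (DerivedCategory.Q.map_isZero HomologicalComplex.isZero_zero).iso hL
      · obtain ⟨d, hd⟩ := hA (ModuleCat.carrier ((DerivedCategory.homologyFunctor (ModuleCat.{u} A) i).obj K))
        obtain ⟨c, e, hce⟩ := finiteTorDim_shift (-i) ⟨_, _, (S6946.result A _ d).1.1 hd⟩
        exact ⟨c, e, torAmplitude_of_iso (singleDIso i _) hce⟩
  refine ⟨key, ?_⟩
  rw [perfect_iff, key, ← pc'_iff]
  exact and_comm

end Groth.Agent.S5612
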