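import Groth.Statements.S5616
import Groth.Agent.CohDerX.Efface

set_option autoImplicit false
universe w w' v v' u u'
open CategoryTheory CategoryTheory.Limits
open CohDer

namespace Groth.Agent.S5616

/-- Let φ : A ⥤ B be an exact functor of abelian categories and M an object of A. The following are
equivalent: (i) for every L in A and every n, the map Ext^n_A(L, M) → Ext^n_B(φ L, φ M) induced by φ
is bijective; (ii) for every L the map Hom_A(L, M) → Hom_B(φ L, φ M) is bijective, and for every L,
every n ≥ 1 and every x ∈ Ext^n_B(φ L, φ M) there is an epimorphism L' ⟶ L of A such that x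
precomposed with its image under φ vanishes. -/
theorem result
    {A : Type u} [Category.{v} A] [Abelian A] [HasExt.{w} A]
    {B : Type u'} [Category.{v'} B] [Abelian B] [HasExt.{w'} B]
    (φ : A ⥤ B) [φ.Additive] [PreservesFiniteLimits φ] [PreservesFiniteColimits φ] (M : A) :
    (∀ (L : A) (n : ℕ), Function.Bijective (fun f : Abelian.Ext.{w} L M n => Abelian.Ext.mapExactFunctor φ f)) ↔
      ((∀ L : A, Function.Bijective (fun f : L ⟶ M => φ.map f)) ∧
        ∀ (L : A) (n : ℕ), 1 ≤ n → ∀ x : Abelian.Ext.{w'} (φ.obj L) (φ.obj M) n,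
          ∃ (L' : A) (p : L' ⟶ L), Epi p ∧ (Abelian.Ext.mk₀ (φ.map p)).comp x (zero_add n) = 0) := by
  constructor
  · intro h
    refine ⟨fun L => ?_, fun L n hn x => ?_⟩
    · constructor
      · intro f g hfg
        apply (Abelian.Ext.mk₀_bijective L M).1
        apply (h L 0).1
        simp only [Abelian.Ext.mapExactFunctor_mk₀]
        exact congrArg Abelian.Ext.mk₀ hfg
      · intro g
        obtain ⟨e, he⟩ := (h L 0).2 (Abelian.Ext.mk₀ g)
        obtain ⟨f, rfl⟩ := (Abelian.Ext.mk₀_bijective L M).2 e
        exact ⟨f, (Abelian.Ext.mk₀_bijective _ _).1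
          ((Abelian.Ext.mapExactFunctor_mk₀ φ f).symm.trans he)⟩
    · obtain ⟨y, rfl⟩ := (h L n).2 x
      obtain ⟨L', p, hp, hy⟩ := Groth.Agent.CohDerX.exists_epi_efface hn y
      refine ⟨L', p, hp, ?_⟩
      have := congrArg (fun t => Abelian.Ext.mapExactFunctor φ t) hy
      simpa [Abelian.Ext.mapExactFunctor_comp, Abelian.Ext.mapExactFunctor_mk₀,
        Abelian.Ext.mapExactFunctor_zero] using this
  · rintro ⟨h0, he⟩ L n
    induction n generalizing L with
    | zero =>
      constructor
      · intro a b hab
        obtain ⟨f, rfl⟩ := (Abelian.Ext.mk₀_bijective L M).2 a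
        obtain ⟨g, rfl⟩ := (Abelian.Ext.mk₀_bijective L M).2 b
        simp only [Abelian.Ext.mapExactFunctor_mk₀] at hab
        exact congrArg Abelian.Ext.mk₀ ((h0 L).1 ((Abelian.Ext.mk₀_bijective _ _).1 hab))
      · intro b
        obtain ⟨g, rfl⟩ := (Abelian.Ext.mk₀_bijective _ _).2 b
        obtain ⟨f, rfl⟩ := (h0 L).2 g
        exact ⟨Abelian.Ext.mk₀ f, Abelian.Ext.mapExactFunctor_mk₀ φ f⟩
    | succ n ih =>
      constructor
      · intro a b hab
        rw [← sub_eq_zero]
        have hm : φ.mapExtAddHom L M (n + 1) (a - b) = 0 := by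
          rw [map_sub]; simp only [Functor.mapExtAddHom_apply]; exact sub_eq_zero.2 hab
        generalize a - b = y at hm ⊢
        simp only [Functor.mapExtAddHom_apply] at hm
        obtain ⟨L', p, hp, hy⟩ := Groth.Agent.CohDerX.exists_epi_efface (Nat.le_add_left 1 n) y
        let S := ShortComplex.mk _ _ (kernel.condition p)
        have hS : S.ShortExact := { exact := ShortComplex.exact_kernel p }
        obtain ⟨z, hz⟩ := Abelian.Ext.contravariant_sequence_exact₃ hS M y hy (add_comm 1 n)
        subst hz
        rw [Abelian.Ext.mapExactFunctor_comp, Abelian.Ext.mapExactFunctor_extClass] at hm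
        obtain ⟨w, hw⟩ :=
          Abelian.Ext.contravariant_sequence_exact₁ (hS.map_of_exact φ) (φ.obj M) _ _ hm
        obtain ⟨w', hw'⟩ := (ih S.X₂).2 w
        have : z = (Abelian.Ext.mk₀ S.f).comp w' (zero_add n) := by
          apply (ih S.X₁).1
          dsimp only at hw' ⊢
          rw [Abelian.Ext.mapExactFunctor_comp, Abelian.Ext.mapExactFunctor_mk₀, hw']
          exact hw.symm
        rw [this, ShortComplex.ShortExact.extClass_comp_assoc]
      · intro x
        obtain ⟨L', p, hp, hx⟩ := he L (n + 1) (Nat.le_add_left 1 n) x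
        let S := ShortComplex.mk _ _ (kernel.condition p)
        have hS : S.ShortExact := { exact := ShortComplex.exact_kernel p }
        obtain ⟨z, hz⟩ := Abelian.Ext.contravariant_sequence_exact₃ (hS.map_of_exact φ) (φ.obj M)
          x hx (add_comm 1 n)
        obtain ⟨z', hz'⟩ := (ih S.X₁).2 z
        refine ⟨hS.extClass.comp z' (add_comm 1 n), ?_⟩
        dsimp only at hz' ⊢
        rw [Abelian.Ext.mapExactFunctor_comp, Abelian.Ext.mapExactFunctor_extClass, hz']
        exact hz

end Groth.Agent.S5616
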