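import Groth.Statements.S5617
import Groth.Agent.H7.PC.Basic2

set_option autoImplicit false
set_option backward.isDefEq.respectTransparency false
universe w v u
open CategoryTheory CategoryTheory.Limits
open PCoh

namespace Groth.Agent.S5617

/-- First assertion (punctual site): let C be an abelian category and C₀ a strictly full additive
subcategory, quasi-stable under kernels of epimorphisms and quasi-liftable, and n < m. If F ∈ D(C)
is n-pseudo-coherent and acyclic in degrees ≥ m, then F is isomorphic in D(C) to a strictly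
n-pseudo-coherent complex E with E^i = 0 for i ≥ m. -/
theorem result {C : Type u} [Category.{v} C] [Abelian C] [HasDerivedCategory.{w} C]
    (P : ObjectProperty C) [P.IsClosedUnderIsomorphisms] [P.ContainsZero] (hsum : ∀ X Y : C, P X → P Y → P (X ⨯ Y))
    (hqs : PCoh.IsQuasiStableUnderKernels P) (hql : PCoh.IsQuasiLiftable P)
    (n m : ℤ) (hnm : n < m) (F : DerivedCategory C) (hF : (∃ E : CochainComplex C ℤ, PCoh.IsStrictPC P n E ∧ Nonempty (DerivedCategory.Q.obj E ≅ F)))
    (hac : ∀ i : ℤ, m ≤ i → IsZero ((DerivedCategory.homologyFunctor C i).obj F)) :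
    ∃ E : CochainComplex C ℤ, PCoh.IsStrictPC P n E ∧ (∀ i : ℤ, m ≤ i → IsZero (E.X i)) ∧
      Nonempty (DerivedCategory.Q.obj E ≅ F) := by
  obtain ⟨K, ⟨e⟩⟩ : ∃ K, Nonempty (DerivedCategory.Q.obj K ≅ F) := ⟨_, ⟨DerivedCategory.Q.objObjPreimageIso F⟩⟩
  obtain ⟨E, u, hE, hP, hu⟩ := Groth.Agent.H7.PC.exists_bounded hsum hqs hql (Groth.Agent.H7.PC.PCn.of_iso hF e.symm) hnm.le
    fun i hi => (Groth.Agent.H7.PC.exactAt_iff_Q e i).2 (hac i hi)
  obtain ⟨E', v, u', -, hq, -, hv⟩ := Groth.Agent.H7.PC.exists_factorisation u n hu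
  haveI : IsIso (DerivedCategory.Q.map u') := (DerivedCategory.isIso_Q_map_iff_quasiIso (C := C) u').2 hq
  refine ⟨E', Groth.Agent.H7.PC.strict_of_iso_ge le_rfl v hv ⟨⟨m, fun i hi => hE i (Or.inr hi.le)⟩, fun i _ => hP i⟩,
    fun i hi => ?_, ⟨asIso (DerivedCategory.Q.map u') ≪≫ e⟩⟩
  haveI := hv i (hnm.le.trans hi)
  exact (hE i (Or.inr hi)).of_iso (asIso (v.f i)).symm

end Groth.Agent.S5617
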