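import Groth.Statements.S5626
import Groth.Agent.ModStalk.LocFreeDescent

set_option autoImplicit false
universe u
open CategoryTheory CategoryTheory.Limits AlgebraicGeometry
open FlatMod

namespace Groth.Agent.S5626

open CategoryTheory CategoryTheory.Limits AlgebraicGeometry in
theorem finite_free_summand {X : Scheme.{u}} {M F : X.Modules} (i : M ⟶ F) (p : F ⟶ M) (h : i ≫ p = 𝟙 M)
    (x : X) {n : ℕ} (e : F.presheaf.stalk x ≃ₗ[X.presheaf.stalk x] (Fin n → X.presheaf.stalk x)) :
    Module.Finite (X.presheaf.stalk x) (M.presheaf.stalk x) ∧ Module.Free (X.presheaf.stalk x) (M.presheaf.stalk x) := by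
  have : Module.Finite (X.presheaf.stalk x) (F.presheaf.stalk x) := Module.Finite.equiv e.symm
  have : Module.Free (X.presheaf.stalk x) (F.presheaf.stalk x) := Module.Free.of_equiv e.symm
  have hs : RefHull.stalkMapₗ p x ∘ₗ RefHull.stalkMapₗ i x = LinearMap.id := LinearMap.ext fun v => by
    rw [LinearMap.comp_apply, ← Groth.Agent.ModStalk.stalkMap_comp_apply, h, Groth.Agent.ModStalk.stalkMap_id_apply,
      LinearMap.id_apply]
  have : Module.Finite (X.presheaf.stalk x) (M.presheaf.stalk x) :=
    Module.Finite.of_surjective (RefHull.stalkMapₗ p x) fun v => ⟨_, LinearMap.congr_fun hs v⟩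
  have : Module.Projective (X.presheaf.stalk x) (M.presheaf.stalk x) :=
    Module.Projective.of_split (RefHull.stalkMapₗ i x) (RefHull.stalkMapₗ p x) hs
  exact ⟨inferInstance, Module.free_of_flat_of_isLocalRing⟩

open CategoryTheory CategoryTheory.Limits AlgebraicGeometry in
theorem exists_rank_le_nhd {X : Scheme.{u}} (M : X.Modules) [SheafOfModules.IsFiniteType (R := X.ringCatSheaf) M]
    (x : X) [Module.Free (X.presheaf.stalk x) (M.presheaf.stalk x)] :
    ∃ U : X.Opens, x ∈ U ∧ ∀ y ∈ U, Module.finrank (X.presheaf.stalk y) (M.presheaf.stalk y) ≤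
      Module.finrank (X.presheaf.stalk x) (M.presheaf.stalk x) := by
  let m := Module.finrank (X.presheaf.stalk x) (M.presheaf.stalk x)
  let b := Module.finBasisOfFinrankEq (X.presheaf.stalk x) (M.presheaf.stalk x) (n := m) rfl
  choose V hV r hr using fun i => M.presheaf.exists_germ_eq (x := x) (b i)
  let U₀ : X.Opens := Finset.univ.inf V
  have hx₀ : x ∈ U₀ := Finset.inf_induction (p := fun V : X.Opens => x ∈ V) trivial
    (fun _ h₁ _ h₂ => ⟨h₁, h₂⟩) fun i _ => hV i
  have hle : ∀ i, U₀ ≤ V i := fun i => Finset.inf_le (Finset.mem_univ i)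
  let s : Fin m → Γ(M, U₀) := fun i => M.presheaf.map (homOfLE (hle i)).op (r i)
  have hs : (fun i => M.presheaf.germ U₀ x hx₀ (s i)) = ⇑b := funext fun i =>
    (TopCat.Presheaf.germ_res_apply _ _ x hx₀ (r i)).trans (hr i)
  obtain ⟨U, hle', hxU, hspan⟩ := Groth.Agent.ModStalk.exists_span_nhd M s x hx₀ (by rw [hs]; exact b.span_eq)
  refine ⟨U, hxU, fun y hy => ?_⟩
  have h1 := finrank_range_le_card (R := X.presheaf.stalk y) (fun i => M.presheaf.germ U₀ y (hle' hy) (s i))
  rw [Set.finrank, hspan y hy, finrank_top, Fintype.card_fin] at h1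
  exact h1

open CategoryTheory CategoryTheory.Limits AlgebraicGeometry TopologicalSpace in
theorem isFiniteType_of_epi {X : Scheme.{u}} {F P : X.Modules} [SheafOfModules.IsFiniteType (R := X.ringCatSheaf) F]
    (p : F ⟶ P) [Epi p] : SheafOfModules.IsFiniteType (R := X.ringCatSheaf) P := by
  have key : ∀ x : X, ∃ U : X.Opens, x ∈ U ∧
      ∃ σ : (SheafOfModules.over (R := X.ringCatSheaf) P U).GeneratingSections, σ.IsFiniteType := by
    intro x
    obtain ⟨W, hW, I, _, s, hs⟩ := Groth.Agent.ModStalk.exists_generators F x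
    refine ⟨W, hW, Groth.Agent.ModStalk.exists_generatingSections _ (fun i => p.app W (s i)) fun y hy => ?_⟩
    have hh : (Submodule.span (X.presheaf.stalk y) (Set.range fun i => F.presheaf.germ W y hy (s i))).map
        (RefHull.stalkMapₗ p y) = ⊤ := by
      rw [hs y hy, Submodule.map_top, LinearMap.range_eq_top]
      exact Groth.Agent.ModStalk.stalkMap_surjective_of_epi p y
    rw [← hh, Submodule.map_span, ← Set.range_comp]
    congr 1
    exact congrArg Set.range (funext fun i => (RefHull.stalkMapₗ_germ p y hy (s i)).symm)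
  choose U hxU σ hσ using key
  let d : SheafOfModules.LocalGeneratorsData.{u} (R := X.ringCatSheaf) P :=
    { I := X, X := U,
      coversTop := by
        rw [Opens.coversTop_iff, IsOpenCover]
        exact eq_top_iff.mpr fun x _ => Opens.mem_iSup.mpr ⟨x, hxU x⟩
      generators := σ }
  exact { exists_localGeneratorsData := ⟨d, { isFiniteType := hσ }⟩ }


/-- For the Zariski topos of a scheme (a special case of both hypotheses (i) and (ii) there): on a
scheme X, a direct summand of a finite free O_X-module is finite locally free. Here M is a direct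
summand of O_X^n in the sense that M ⊞ N ≅ O_X^n for some module N. -/
theorem result {X : Scheme.{u}} (M N : X.Modules) [HasBinaryBiproduct M N] (n : ℕ)
    (e : M ⊞ N ≅ FlatMod.freeMod X n) :
    FlatMod.IsFinLocFree M := by
  let eF : ∀ x, (M ⊞ N).presheaf.stalk x ≃ₗ[X.presheaf.stalk x] (Fin n → X.presheaf.stalk x) := fun x =>
    Groth.Agent.ModStalk.stalkEquivOfIso e x ≪≫ₗ (Groth.Agent.ModStalk.exists_freeMod_stalk_equiv X n x).some
  have hM := fun x => finite_free_summand biprod.inl biprod.fst biprod.inl_fst x (eF x)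
  have hN := fun x => finite_free_summand biprod.inr biprod.snd biprod.inr_snd x (eF x)
  have hF : SheafOfModules.IsFiniteType (R := X.ringCatSheaf) (M ⊞ N) := by
    refine Groth.Agent.ModStalk.isFiniteType_of_isFinLocFree _ fun x => ⟨⊤, n, trivial, ?_⟩
    refine ⟨(Scheme.Modules.restrictFunctor _).mapIso e ≪≫ (Scheme.Modules.restrictFunctorIsoPullback _).app _ ≪≫ ?_⟩
    haveI : PreservesColimitsOfSize.{0, 0} (Scheme.Modules.pullback (⊤ : X.Opens).ι) :=
      (Scheme.Modules.pullbackPushforwardAdjunction _).leftAdjoint_preservesColimits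
    exact PreservesCoproduct.iso (Scheme.Modules.pullback (⊤ : X.Opens).ι) _ ≪≫
      Sigma.mapIso fun _ => Groth.Agent.ModStalk.pullbackUnitIso _
  have hq : ∀ {P : X.Modules} (p : M ⊞ N ⟶ P) [Epi p], SheafOfModules.IsFiniteType (R := X.ringCatSheaf) P :=
    fun {P} p hp => by
      exact @isFiniteType_of_epi _ _ _ hF p hp
  have := hq (biprod.fst : M ⊞ N ⟶ M)
  have := hq (biprod.snd : M ⊞ N ⟶ N)
  have hsum : ∀ x, Module.finrank (X.presheaf.stalk x) (M.presheaf.stalk x) +
      Module.finrank (X.presheaf.stalk x) (N.presheaf.stalk x) = n := by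
    intro x
    have := (hM x).1; have := (hM x).2; have := (hN x).1; have := (hN x).2
    let A : (M ⊞ N).presheaf.stalk x →ₗ[X.presheaf.stalk x] M.presheaf.stalk x × N.presheaf.stalk x :=
      (RefHull.stalkMapₗ biprod.fst x).prod (RefHull.stalkMapₗ biprod.snd x)
    let B : M.presheaf.stalk x × N.presheaf.stalk x →ₗ[X.presheaf.stalk x] (M ⊞ N).presheaf.stalk x :=
      (RefHull.stalkMapₗ biprod.inl x).coprod (RefHull.stalkMapₗ biprod.inr x)
    let E : (M.presheaf.stalk x × N.presheaf.stalk x) ≃ₗ[X.presheaf.stalk x] (M ⊞ N).presheaf.stalk x :=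
      LinearEquiv.ofLinear B A (LinearMap.ext fun v => by
        simp only [A, B, LinearMap.comp_apply, LinearMap.prod_apply, Function.prod_apply, LinearMap.coprod_apply,
          ← Groth.Agent.ModStalk.stalkMap_comp_apply, ← Groth.Agent.ModStalk.stalkMap_add_apply, biprod.total,
          Groth.Agent.ModStalk.stalkMap_id_apply, LinearMap.id_apply])
      (LinearMap.ext fun v => by
        simp only [A, B, LinearMap.comp_apply, LinearMap.prod_apply, Function.prod_apply, LinearMap.coprod_apply, map_add,
          ← Groth.Agent.ModStalk.stalkMap_comp_apply, biprod.inl_fst, biprod.inl_snd, biprod.inr_fst, biprod.inr_snd,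
          Groth.Agent.ModStalk.stalkMap_id_apply, Groth.Agent.ModStalk.stalkMap_zero_apply, add_zero, zero_add,
          LinearMap.id_apply, Prod.mk.eta, Prod.mk_add_mk])
    rw [← Module.finrank_prod, (E ≪≫ₗ eF x).finrank_eq, Module.finrank_fin_fun]
  refine Groth.Agent.ModStalk.isFinLocFree_of_rank M (fun x => (hM x).2) fun m => isOpen_iff_forall_mem_open.mpr ?_
  intro x hx
  have := (hM x).2; have := (hN x).2
  obtain ⟨U, hxU, hU⟩ := exists_rank_le_nhd M x
  obtain ⟨U', hxU', hU'⟩ := exists_rank_le_nhd N x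
  refine ⟨U ⊓ U', fun y hy => ?_, (U ⊓ U').isOpen, hxU, hxU'⟩
  have h1 := hU y hy.1; have h2 := hU' y hy.2; have h3 := hsum x; have h4 := hsum y
  show _ = m
  have : Module.finrank (X.presheaf.stalk x) (M.presheaf.stalk x) = m := hx
  omega

end Groth.Agent.S5626
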