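import Groth.Statements.S5656
import Mathlib.RingTheory.Binomial
import Mathlib.Algebra.Polynomial.Roots
import Mathlib.RingTheory.Polynomial.Pochhammer
import Mathlib.Topology.Algebra.Polynomial
import Mathlib.Topology.Instances.Rat
import Mathlib.Analysis.SpecificLimits.Basic

set_option autoImplicit false
universe u
open W4sga6xxiii

namespace Groth.Agent.S5656

/-- Let G be an abelian group and G' ⊆ G a subgroup which is divisible by some prime number p (every
element of G' is p times an element of G') and such that G/G' is a torsion group. Then every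
polynomial map f : G → ℚ (admitting binomial expansions f(Σ n_i x_i) = Σ_k Π_i C(n_i, k_i) y_k along
every finite sequence x) which takes only integer values is constant. -/
theorem result {G : Type u} [AddCommGroup G] (G' : AddSubgroup G)
    (p : ℕ) (hp : p.Prime) (hdiv : ∀ x ∈ G', ∃ y ∈ G', p • y = x) (htor : ∀ x : G, ∃ n : ℤ, n ≠ 0 ∧ n • x ∈ G')
    (f : G → ℚ) (hf : W4sga6xxiii.IsPolyMap f) (hint : ∀ x, ∃ z : ℤ, f x = z) (x : G) : f x = f 0 := by
  classical
  have hpoly : ∀ a y : G, ∃ P : Polynomial ℚ, ∀ t : ℤ, f (a + t • y) = P.eval (t : ℚ) := by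
    intro a y
    obtain ⟨m, c, -, hc⟩ := hf 2 ![a, y]
    let b : ℕ → Polynomial ℚ := fun j => Polynomial.C (j.factorial : ℚ)⁻¹ * descPochhammer ℚ j
    have hb : ∀ (j : ℕ) (z : ℤ), (b j).eval (z : ℚ) = ((Ring.choose z j : ℤ) : ℚ) := by
      intro j z
      have h1 : ((Ring.choose z j : ℤ) : ℚ) = Ring.choose (z : ℚ) j :=
        Ring.map_choose (Int.castRingHom ℚ) z j
      rw [h1, Ring.choose_eq_smul, Polynomial.eval_mul, Polynomial.eval_C, smul_eq_mul,
        ← descPochhammer_map (algebraMap ℤ ℚ) j, Polynomial.eval_map, ← Polynomial.aeval_def, Polynomial.aeval_eq_smeval]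
    refine ⟨∑ k, Polynomial.C ((Ring.choose (1 : ℤ) (k 0 : ℕ) : ℤ) * c k) * b (k 1 : ℕ), fun t => ?_⟩
    have h := hc ![1, t]
    simp only [Fin.sum_univ_two, Matrix.cons_val_zero, Matrix.cons_val_one, one_smul] at h
    rw [h, Polynomial.eval_finsetSum]
    refine Finset.sum_congr rfl fun k _ => ?_
    rw [Polynomial.eval_mul, Polynomial.eval_C, hb, zsmul_eq_mul]
    simp only [Fin.prod_univ_two, Matrix.cons_val_zero, Matrix.cons_val_one, Int.cast_mul]
    ring
  have hG' : ∀ a y : G, y ∈ G' → f (a + y) = f a := by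
    intro a y hy
    obtain ⟨P, hP⟩ := hpoly a y
    have hroots : ∀ k : ℕ, ∃ z : ℤ, P.eval ((1 : ℚ) / (p : ℚ) ^ k) = z := by
      intro k
      obtain ⟨z, hz, hzy⟩ : ∃ z ∈ G', p ^ k • z = y := by
        clear hP P
        induction k generalizing y with
        | zero => exact ⟨y, hy, by simp⟩
        | succ k ih =>
          obtain ⟨w, hw, hwy⟩ := hdiv y hy
          obtain ⟨z, hz, hzw⟩ := ih w hw
          exact ⟨z, hz, by rw [pow_succ', mul_smul, hzw, hwy]⟩
      obtain ⟨Q, hQ⟩ := hpoly a z
      have hPQ : Q.comp (Polynomial.C ((p : ℚ) ^ k) * Polynomial.X) = P := by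
        refine Polynomial.eq_of_infinite_eval_eq _ _ ((Set.infinite_range_of_injective
          (f := fun t : ℤ => (t : ℚ)) Int.cast_injective).mono ?_)
        rintro _ ⟨t, rfl⟩
        show _ = _
        rw [← hP t, ← hzy, ← natCast_zsmul, smul_smul, hQ]
        simp [mul_comm]
      obtain ⟨v, hv⟩ := hint (a + (1 : ℤ) • z)
      refine ⟨v, ?_⟩
      rw [← hv, hQ, ← hPQ]
      have : (p : ℚ) ^ k ≠ 0 := pow_ne_zero _ (Nat.cast_ne_zero.2 hp.ne_zero)
      simp [this]
    have hlim : Filter.Tendsto (fun k : ℕ => P.eval ((1 : ℚ) / (p : ℚ) ^ k)) Filter.atTop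
        (nhds (P.eval 0)) := by
      refine (P.continuous.tendsto 0).comp ?_
      simp only [one_div, ← inv_pow]
      refine tendsto_pow_atTop_nhds_zero_of_lt_one (by positivity) ?_
      exact inv_lt_one_of_one_lt₀ (by exact_mod_cast hp.one_lt)
    obtain ⟨z0, hz0⟩ := hint a
    have h0 : P.eval 0 = (z0 : ℚ) := by
      rw [← hz0]
      simpa using (hP 0).symm
    obtain ⟨N, hN⟩ := Filter.eventually_atTop.1
      (hlim.eventually (Metric.ball_mem_nhds (P.eval 0) one_pos))
    have hev : ∀ k, N ≤ k → P.eval ((1 : ℚ) / (p : ℚ) ^ k) = P.eval 0 := by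
      intro k hk
      obtain ⟨z, hz⟩ := hroots k
      have := hN k hk
      rw [hz, h0, Rat.dist_eq] at this
      rw [hz, h0]
      have habs : |(z : ℤ) - z0| < 1 := by exact_mod_cast this
      rw [Int.abs_lt_one_iff, sub_eq_zero] at habs
      rw [habs]
    have hconst : P = Polynomial.C (P.eval 0) := by
      refine Polynomial.eq_of_infinite_eval_eq _ _ ?_
      refine (((Set.Ici_infinite N).image (f := fun k : ℕ => (1 : ℚ) / (p : ℚ) ^ k) ?_)).mono ?_
      · intro i _ j _ hij
        simp only [one_div, inv_inj] at hij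
        exact Nat.pow_right_injective hp.two_le (by exact_mod_cast hij)
      · rintro _ ⟨k, hk, rfl⟩
        show _ = _
        simpa using hev k hk
    have h1 := hP 1
    rw [one_smul, hconst, Polynomial.eval_C, h0, ← hz0] at h1
    exact h1
  obtain ⟨m, hm, hmx⟩ := htor x
  obtain ⟨P, hP⟩ := hpoly 0 x
  have hconst : P = Polynomial.C (f 0) := by
    refine Polynomial.eq_of_infinite_eval_eq _ _ ((Set.infinite_range_of_injective
      (f := fun t : ℤ => ((t * m : ℤ) : ℚ))
      (fun s t h => mul_right_cancel₀ hm (Int.cast_injective h))).mono ?_)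
    rintro _ ⟨t, rfl⟩
    show _ = _
    rw [← hP (t * m), mul_smul, hG' 0 _ (zsmul_mem hmx t), Polynomial.eval_C]
  have h1 := hP 1
  rw [one_smul, zero_add, hconst, Polynomial.eval_C] at h1
  exact h1

end Groth.Agent.S5656
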