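import Groth.Statements.S5663
import Mathlib.RingTheory.Localization.FractionRing
import Mathlib.RingTheory.Ideal.Quotient.Basic
import Mathlib.RingTheory.TensorProduct.Finite
import Mathlib.RingTheory.Ideal.GoingUp
import Mathlib.RingTheory.Ideal.MinimalPrime.Noetherian
import Mathlib.LinearAlgebra.TensorProduct.Quotient
import Mathlib.RingTheory.Localization.BaseChange
import Mathlib.LinearAlgebra.Dual.Lemmas

set_option autoImplicit false
universe u
open TensorProduct
open CAlg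

namespace Groth.Agent.S5663


theorem exists_pow_mul_le {A : Type u} [CommRing A] [IsNoetherianRing A] (J p : Ideal A)
    (hp : p ∈ J.minimalPrimes) :
    ∃ (n : ℕ) (s : A), s ∉ p ∧ 1 ≤ n ∧ ∀ a ∈ p ^ n, s * a ∈ J := by
  classical
  have hfin := Ideal.finite_minimalPrimes_of_isNoetherianRing A J
  haveI := hp.1.1
  have hother : ∀ q ∈ hfin.toFinset.erase p, ∃ x ∈ q, x ∉ p := fun q hq => by
    rw [Finset.mem_erase, Set.Finite.mem_toFinset] at hq
    exact Set.not_subset.mp fun hle => hq.1 (le_antisymm hle (hp.2 hq.2.1 hle))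
  choose x hx hxp using hother
  let s₁ := ∏ q : hfin.toFinset.erase p, x q.1 q.2
  have hs₁ : s₁ ∉ p := fun h => by
    obtain ⟨q, _, hq⟩ := (Ideal.IsPrime.prod_mem_iff).mp h
    exact hxp _ _ hq
  have hrad : ∀ a ∈ p, s₁ * a ∈ J.radical := fun a ha => by
    rw [← Ideal.sInf_minimalPrimes, Submodule.mem_sInf]
    intro q hq
    by_cases hqp : q = p
    · exact hqp ▸ Ideal.mul_mem_left _ _ ha
    · have hmem : q ∈ hfin.toFinset.erase p := Finset.mem_erase.mpr ⟨hqp, hfin.mem_toFinset.mpr hq⟩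
      exact Ideal.mul_mem_right _ _ (Ideal.prod_mem _ (Finset.mem_univ ⟨q, hmem⟩) (hx q hmem))
  obtain ⟨n, hn⟩ := J.exists_radical_pow_le_of_fg (IsNoetherian.noetherian _)
  refine ⟨n + 1, s₁ ^ (n + 1), fun h => hs₁ (Ideal.IsPrime.mem_of_pow_mem ‹_› _ h), by omega, fun a ha => ?_⟩
  have hle : Ideal.span {s₁} * p ≤ J.radical := Ideal.span_singleton_mul_le_iff.mpr hrad
  have h2 : s₁ ^ (n + 1) * a ∈ (Ideal.span {s₁} * p) ^ (n + 1) := by
    rw [mul_pow, Ideal.span_singleton_pow]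
    exact Ideal.mul_mem_mul (Ideal.mem_span_singleton_self _) ha
  exact hn (Ideal.pow_le_pow_right (Nat.le_succ n) (Ideal.pow_right_mono hle _ h2))

open TensorProduct in
theorem exists_smul_mem {A M : Type u} [CommRing A] [AddCommGroup M] [Module A M] (p : Ideal A) [p.IsPrime]
    (x : M) (hx : (1 : FractionRing (A ⧸ p)) ⊗ₜ[A] x = 0) : ∃ s ∉ p, s • x ∈ p • (⊤ : Submodule A M) := by
  have h2 : (1 : FractionRing (A ⧸ p)) ⊗ₜ[A ⧸ p] ((1 : A ⧸ p) ⊗ₜ[A] x) = 0 := by
    apply (AlgebraTensorModule.cancelBaseChange A (A ⧸ p) (FractionRing (A ⧸ p)) (FractionRing (A ⧸ p)) M).injective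
    simpa using hx
  haveI : IsLocalizedModule (nonZeroDivisors (A ⧸ p))
      (TensorProduct.mk (A ⧸ p) (FractionRing (A ⧸ p)) ((A ⧸ p) ⊗[A] M) 1) :=
    (isLocalizedModule_iff_isBaseChange (nonZeroDivisors (A ⧸ p)) (FractionRing (A ⧸ p)) _).mpr
      (TensorProduct.isBaseChange _ _ _)
  obtain ⟨⟨d, hd⟩, hd0⟩ := (IsLocalizedModule.eq_zero_iff (nonZeroDivisors (A ⧸ p))
    (TensorProduct.mk (A ⧸ p) (FractionRing (A ⧸ p)) ((A ⧸ p) ⊗[A] M) 1)).mp h2
  obtain ⟨s, rfl⟩ := Ideal.Quotient.mk_surjective d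
  refine ⟨s, fun hs => nonZeroDivisors.ne_zero hd (Ideal.Quotient.eq_zero_iff_mem.mpr hs), ?_⟩
  rw [Submonoid.mk_smul, TensorProduct.smul_tmul', smul_eq_mul, mul_one] at hd0
  have h3 := congrArg (TensorProduct.quotTensorEquivQuotSMul M p) hd0
  rwa [map_zero, TensorProduct.quotTensorEquivQuotSMul_mk_tmul, Submodule.Quotient.mk_eq_zero] at h3

variable {A B : Type u} [CommRing A] [CommRing B] [Algebra A B] [IsNoetherianRing A] [Module.Finite A B]
  (p : Ideal A) [p.IsPrime] (C : ℕ → Subalgebra A B) (hanti : Antitone C)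
  (hbal : ∀ (i : ℕ) (Q : Type u) [AddCommGroup Q] [Module A Q]
    (β : C i →ₗ[A] C i →ₗ[A] Q) (c : C i), (c : B) ∈ C (i + 1) → β c 1 = β 1 c)

include hanti hbal in
open TensorProduct in
theorem base_step (N : ℕ) : ∃ s ∉ p, ∀ c ∈ C (N + 1),
    s • c ∈ (1 : Submodule A B) ⊔ p • (C N).toSubmodule := by
  let k := FractionRing (A ⧸ p)
  let hat : C N →ₗ[A] k ⊗[A] C N := TensorProduct.mk A k (C N) 1
  have one : ∀ c : C N, (c : B) ∈ C (N + 1) → ∃ s ∉ p, s • (c : B) ∈ (1 : Submodule A B) ⊔ p • (C N).toSubmodule := by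
    intro c hc
    obtain ⟨l, hl⟩ : ∃ l : k, hat c = l • hat 1 := by
      by_cases he : hat 1 = 0
      · refine ⟨0, ?_⟩
        have h1 : hat c = hat c * hat 1 := by simp [hat]
        rw [h1, he, mul_zero, zero_smul]
      obtain ⟨ψ₀, hψ₀⟩ := Module.Projective.exists_dual_ne_zero k he
      refine ⟨(ψ₀ (hat 1))⁻¹ * ψ₀ (hat c), ?_⟩
      rw [← sub_eq_zero, ← Module.forall_dual_apply_eq_zero_iff k]
      intro φ
      have h := hbal N k (((LinearMap.mul A k).compl₂ (ψ₀.restrictScalars A ∘ₗ hat)) ∘ₗ (φ.restrictScalars A ∘ₗ hat)) c hc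
      simp only [LinearMap.comp_apply, LinearMap.compl₂_apply, LinearMap.restrictScalars_apply, LinearMap.mul_apply'] at h
      rw [map_sub, map_smul, smul_eq_mul, sub_eq_zero, mul_assoc, mul_comm (ψ₀ (hat c)), ← h, ← mul_assoc,
        mul_comm _ (φ (hat c)), mul_assoc, inv_mul_cancel₀ hψ₀, mul_one]
    obtain ⟨d, ⟨e, he⟩, rfl⟩ := IsLocalization.exists_mk'_eq (nonZeroDivisors (A ⧸ p)) l
    obtain ⟨a, rfl⟩ := Ideal.Quotient.mk_surjective d
    obtain ⟨b, rfl⟩ := Ideal.Quotient.mk_surjective e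
    have hb : b ∉ p := fun h => nonZeroDivisors.ne_zero he (Ideal.Quotient.eq_zero_iff_mem.mpr h)
    have h0 : hat (b • c - a • 1) = 0 := by
      have hkey : (algebraMap A k b) * IsLocalization.mk' k (Ideal.Quotient.mk p a) ⟨Ideal.Quotient.mk p b, he⟩
          = algebraMap A k a := IsLocalization.mk'_spec' k _ (⟨Ideal.Quotient.mk p b, he⟩ : nonZeroDivisors (A ⧸ p))
      rw [map_sub, map_smul, map_smul, hl, ← IsScalarTower.algebraMap_smul k b, ← mul_smul, hkey,
        IsScalarTower.algebraMap_smul, sub_self]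
    obtain ⟨u, hu, hu'⟩ := exists_smul_mem p _ h0
    refine ⟨u * b, fun h => (Ideal.IsPrime.mem_or_mem ‹_› h).elim hu hb, ?_⟩
    have h1 : ((C N).val.toLinearMap) (u • (b • c - a • 1)) ∈ p • (C N).toSubmodule := by
      have := Submodule.mem_map_of_mem (f := (C N).val.toLinearMap) hu'
      rw [Submodule.map_smul''] at this
      refine Submodule.smul_mono le_rfl ?_ this
      rintro _ ⟨y, _, rfl⟩
      exact y.2
    refine Submodule.mem_sup.mpr ⟨(u * a) • 1, Submodule.smul_mem _ _ (Submodule.mem_one.mpr ⟨1, map_one _⟩), _, h1, ?_⟩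
    simp [smul_sub, mul_smul]
  haveI : IsNoetherian A B := isNoetherian_of_isNoetherianRing_of_finite A B
  obtain ⟨F, hF⟩ := IsNoetherian.noetherian (C (N + 1)).toSubmodule
  have hmem : ∀ f : F, (f : B) ∈ C (N + 1) := fun f => (show (f : B) ∈ (C (N + 1)).toSubmodule from hF ▸ Submodule.subset_span f.2)
  choose s hs hs' using fun f : F => one ⟨f, hanti (Nat.le_succ N) (hmem f)⟩ (hmem f)
  refine ⟨∏ f, s f, fun h => ?_, fun c hc => ?_⟩
  · obtain ⟨f, _, hf⟩ := (Ideal.IsPrime.prod_mem_iff).mp h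
    exact hs f hf
  · have : (C (N + 1)).toSubmodule ≤ ((1 : Submodule A B) ⊔ p • (C N).toSubmodule).comap (LinearMap.lsmul A B (∏ f, s f)) := by
      rw [← hF, Submodule.span_le]
      intro x hx
      obtain ⟨r, hr⟩ := Finset.dvd_prod_of_mem s (Finset.mem_univ (⟨x, hx⟩ : F))
      show (∏ f, s f) • x ∈ (1 : Submodule A B) ⊔ p • (C N).toSubmodule
      rw [hr, mul_comm, mul_smul]
      exact Submodule.smul_mem _ _ (hs' ⟨x, hx⟩)
    exact this hc

include hanti hbal in
theorem next_step (hinj : Function.Injective (algebraMap A B)) (N m : ℕ) {t : ℕ} (ht : 1 ≤ t) (s : A)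
    (h : ∀ c ∈ C m, s • c ∈ (1 : Submodule A B) ⊔ p ^ t • (C N).toSubmodule) :
    ∀ c ∈ C (m + 1), (s * s) • c ∈ (1 : Submodule A B) ⊔ p ^ (t + 1) • (C N).toSubmodule := by
  let S : Submodule A B := 1 ⊔ p ^ (t + 1) • (C N).toSubmodule
  obtain ⟨P, -, hP, hPp⟩ := Ideal.exists_ideal_over_prime_of_isIntegral p (⊥ : Ideal B)
    (by rw [← RingHom.ker_eq_comap_bot, (RingHom.injective_iff_ker_eq_bot _).mp hinj]; exact bot_le)
  have hu : ∀ u : A, algebraMap A B u ∈ p ^ t • (C N).toSubmodule → u ∈ p := fun u hu' => by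
    rw [← hPp, Ideal.mem_comap]
    have hle : p ^ t • (C N).toSubmodule ≤ (P.restrictScalars A : Submodule A B) :=
      Submodule.smul_le.mpr fun a ha x _ => by
        show a • x ∈ P
        rw [Algebra.smul_def]
        exact P.mul_mem_right _ (Ideal.mem_comap.mp (hPp ▸ Ideal.pow_le_self (by omega) ha))
    exact hle hu'
  have hrep : ∀ x : C m, ∃ a : A, s • (x : B) - algebraMap A B a ∈ p ^ t • (C N).toSubmodule := fun x => by
    obtain ⟨y, hy, z, hz, hyz⟩ := Submodule.mem_sup.mp (h x x.2)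
    obtain ⟨a, rfl⟩ := Submodule.mem_one.mp hy
    exact ⟨a, by rw [← hyz, add_sub_cancel_left]; exact hz⟩
  choose a ha using hrep
  have hkill : ∀ u ∈ p, ∀ x : C m, u • S.mkQ (s • (x : B)) = 0 := fun u hu' x => by
    rw [← map_smul, Submodule.mkQ_apply, Submodule.Quotient.mk_eq_zero,
      show u • s • (x : B) = algebraMap A B (u * a x) + u • (s • (x : B) - algebraMap A B (a x)) by
        rw [smul_sub, Algebra.smul_def u (algebraMap A B (a x)), ← map_mul, add_sub_cancel]]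
    refine add_mem (Submodule.mem_sup_left (Submodule.mem_one.mpr ⟨_, rfl⟩)) (Submodule.mem_sup_right ?_)
    rw [pow_succ', mul_smul]
    exact Submodule.smul_mem_smul hu' (ha x)
  have hcongr : ∀ (u v : A) (x : C m), algebraMap A B u - algebraMap A B v ∈ p ^ t • (C N).toSubmodule →
      u • S.mkQ (s • (x : B)) = v • S.mkQ (s • (x : B)) := fun u v x huv => by
    rw [← sub_eq_zero, ← sub_smul]
    exact hkill _ (hu _ (by rw [map_sub]; exact huv)) x
  have hadd : ∀ (x y y' : C m), a (y + y') • S.mkQ (s • (x : B)) = a y • S.mkQ (s • (x : B)) + a y' • S.mkQ (s • (x : B)) :=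
    fun x y y' => by
      rw [← add_smul]
      refine hcongr _ _ _ ?_
      have := sub_mem (add_mem (ha y) (ha y')) (ha (y + y'))
      convert this using 1
      rw [map_add, Subalgebra.coe_add, smul_add]
      abel
  have hsmul : ∀ (r : A) (x y : C m), a (r • y) • S.mkQ (s • (x : B)) = r • a y • S.mkQ (s • (x : B)) := fun r x y => by
    rw [← mul_smul]
    refine hcongr _ _ _ ?_
    have := sub_mem (Submodule.smul_mem _ r (ha y)) (ha (r • y))
    convert this using 1
    rw [map_mul, Subalgebra.coe_smul, smul_sub, smul_comm s r, Algebra.smul_def r (algebraMap A B (a y))]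
    abel
  let β : C m →ₗ[A] C m →ₗ[A] B ⧸ S := LinearMap.mk₂ A (fun x y => a y • S.mkQ (s • (x : B)))
    (fun x x' y => by simp [smul_add]) (fun r x y => by rw [Subalgebra.coe_smul, smul_comm s r, map_smul, smul_comm])
    hadd (fun r x y => hsmul r x y)
  intro c hc
  have h1 := hbal m (B ⧸ S) β ⟨c, hanti (Nat.le_succ m) hc⟩ hc
  simp only [β, LinearMap.mk₂_apply] at h1
  have h2 : a 1 • S.mkQ (s • c) = s • S.mkQ (s • c) := hcongr _ _ ⟨c, hanti (Nat.le_succ m) hc⟩ (by
    have := neg_mem (ha 1)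
    rwa [Subalgebra.coe_one, neg_sub, ← Algebra.algebraMap_eq_smul_one] at this)
  have h3 : S.mkQ (s • ((1 : C m) : B)) = 0 := by
    rw [Subalgebra.coe_one, ← Algebra.algebraMap_eq_smul_one, Submodule.mkQ_apply, Submodule.Quotient.mk_eq_zero]
    exact Submodule.mem_sup_left (Submodule.mem_one.mpr ⟨s, rfl⟩)
  rw [h3, smul_zero, h2, ← map_smul, Submodule.mkQ_apply, Submodule.Quotient.mk_eq_zero, ← mul_smul] at h1
  exact h1

/-- Let A be a Noetherian ring and B a finite A-algebra with A → B injective (a finite schematically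
dominant morphism Spec B → Spec A). Define subalgebras B_0 = B and B_{i+1} = the equalizer of the
two maps B_i ⇉ B_i ⊗_A B_i, b ↦ b ⊗ 1, 1 ⊗ b. Then B_m = A (the image of A) for some m; equivalently
Spec B → Spec A factors as a finite chain of finite morphisms Spec B_i → Spec B_{i+1} each of which
is an effective epimorphism (B_{i+1} is the equalizer of B_i ⇉ B_i ⊗_{B_{i+1}} B_i). The sequence is
given here as any family C of subalgebras satisfying the recursion. (The published statement is for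
a finite morphism X → Y of schemes with Y Noetherian and O_Y → f_*O_X injective; this row is the
affine case.) -/
theorem result (A B : Type u) [CommRing A] [CommRing B] [Algebra A B]
    [IsNoetherianRing A] [Module.Finite A B] (hinj : Function.Injective (algebraMap A B))
    (C : ℕ → Subalgebra A B) (h0 : C 0 = ⊤)
    (hstep : ∀ (i : ℕ) (b : B), b ∈ C (i + 1) ↔ ∃ hb : b ∈ C i,
      ((⟨b, hb⟩ : C i) ⊗ₜ[A] (1 : C i) : C i ⊗[A] C i) = (1 : C i) ⊗ₜ[A] (⟨b, hb⟩ : C i)) :
    ∃ m : ℕ, C m = ⊥ := by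
  classical
  have hanti : Antitone C := antitone_nat_of_succ_le fun i b hb => ((hstep i b).mp hb).1
  have hbal : ∀ (i : ℕ) (Q : Type u) [AddCommGroup Q] [Module A Q]
      (β : C i →ₗ[A] C i →ₗ[A] Q) (c : C i), (c : B) ∈ C (i + 1) → β c 1 = β 1 c := by
    intro i Q _ _ β c hc
    obtain ⟨hb, h⟩ := (hstep i c).mp hc
    exact congrArg (TensorProduct.lift β) h
  let J : ℕ →o Ideal A := ⟨fun i => ⨅ c ∈ C i, (1 : Submodule A B).comap (LinearMap.toSpanSingleton A B c),
    fun i j hij => le_iInf₂ fun c hc => iInf₂_le c (hanti hij hc)⟩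
  have hJ : ∀ i r, r ∈ J i ↔ ∀ c ∈ C i, r • c ∈ (1 : Submodule A B) := fun i r => by
    show r ∈ (⨅ c ∈ C i, (1 : Submodule A B).comap (LinearMap.toSpanSingleton A B c)) ↔ _
    simp [Submodule.mem_iInf]
  obtain ⟨N, hN⟩ := monotone_stabilizes_iff_noetherian.mpr inferInstance J
  by_cases htop : J N = ⊤
  · refine ⟨N, eq_bot_iff.mpr fun c hc => ?_⟩
    have h1 := (hJ N 1).mp (htop ▸ Submodule.mem_top) c hc
    rw [one_smul, Submodule.mem_one] at h1
    exact Algebra.mem_bot.mpr h1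
  exfalso
  obtain ⟨p₀, hp₀, hJp₀⟩ := Ideal.exists_le_maximal _ htop
  haveI := hp₀.isPrime
  obtain ⟨p, hpmin, -⟩ := Ideal.exists_minimalPrimes_le hJp₀
  haveI : p.IsPrime := hpmin.1.1
  obtain ⟨n, s₀, hs₀, hn, hs₀J⟩ := exists_pow_mul_le (J N) p hpmin
  have key : ∀ t, 1 ≤ t → ∃ m, N ≤ m ∧ ∃ s ∉ p, ∀ c ∈ C m,
      s • c ∈ (1 : Submodule A B) ⊔ p ^ t • (C N).toSubmodule := by
    intro t ht
    induction t, ht using Nat.le_induction with
    | base =>
      obtain ⟨s, hs, h⟩ := base_step p C hanti hbal N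
      exact ⟨N + 1, Nat.le_succ N, s, hs, by simpa using h⟩
    | succ t ht ih =>
      obtain ⟨m, hm, s, hs, h⟩ := ih
      exact ⟨m + 1, hm.trans (Nat.le_succ m), s * s, fun hh => (Ideal.IsPrime.mem_or_mem ‹_› hh).elim hs hs,
        next_step p C hanti hbal hinj N m ht s h⟩
  obtain ⟨m, hm, s, hs, h⟩ := key n hn
  have hle : p ^ n • (C N).toSubmodule ≤ (1 : Submodule A B).comap (LinearMap.lsmul A B s₀) :=
    Submodule.smul_le.mpr fun a ha c hc => by
      show s₀ • a • c ∈ (1 : Submodule A B)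
      rw [← mul_smul]
      exact (hJ N _).mp (hs₀J a ha) c hc
  have h2 : s₀ * s ∈ J m := (hJ m _).mpr fun c hc => by
    obtain ⟨x, hx, y, hy, hxy⟩ := Submodule.mem_sup.mp (h c hc)
    rw [mul_smul, ← hxy, smul_add]
    exact add_mem (Submodule.smul_mem _ _ hx) (hle hy)
  rw [← hN m hm] at h2
  exact (Ideal.IsPrime.mem_or_mem ‹_› (hpmin.1.2 h2)).elim hs₀ hs

end Groth.Agent.S5663
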