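import Groth.Statements.S5665
import Groth.Agent.DualExt.Regular

set_option autoImplicit false
universe u
open CategoryTheory
open Dual

namespace Groth.Agent.S5665

open CategoryTheory Groth.Agent.DualExt.Regular

/-- Let `A` be a commutative ring, `xs = (x_1, …, x_p)` a sequence in `A` such that each `x_i` is a
non-zero-divisor on `A/(x_1, …, x_{i-1})`, `J` the ideal generated by the `x_i` and `M` any
`A`-module. Then `Ext^p_A(A/J, M)` is isomorphic, as an `A`-module, to `M/JM`. (Existence of an
`A`-linear isomorphism only; the published isomorphism is the one induced by the Koszul complex of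
`xs`.) -/
theorem result (A : Type u) [CommRing A] (xs : List A) (hreg : RingTheory.Sequence.IsWeaklyRegular A xs) (M : Type u) [AddCommGroup M] [Module A M] : Nonempty (Abelian.Ext (ModuleCat.of A (A ⧸ Ideal.ofList xs)) (ModuleCat.of A M) xs.length ≃ₗ[A] (M ⧸ (Ideal.ofList xs • (⊤ : Submodule A M)))) := by
  obtain ⟨e, he⟩ := exists_top xs hreg
  let ψ : M →ₗ[A] Abelian.Ext (Q (Ideal.ofList xs)) (ModuleCat.of A M) xs.length :=
    { toFun := fun m => e.comp (Abelian.Ext.mk₀ (ModuleCat.ofHom (LinearMap.toSpanSingleton A M m))) (add_zero _)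
      map_add' := fun m m' => by
        rw [show ModuleCat.ofHom (LinearMap.toSpanSingleton A M (m + m')) =
          ModuleCat.ofHom (LinearMap.toSpanSingleton A M m) + ModuleCat.ofHom (LinearMap.toSpanSingleton A M m') by
            ext; simp, Abelian.Ext.mk₀_add, Abelian.Ext.comp_add]
      map_smul' := fun r m => by
        rw [RingHom.id_apply, show ModuleCat.ofHom (LinearMap.toSpanSingleton A M (r • m)) =
          r • ModuleCat.ofHom (LinearMap.toSpanSingleton A M m) by ext; simp,
          Abelian.Ext.mk₀_smul, Abelian.Ext.comp_smul] }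
  have hker : LinearMap.ker ψ = Ideal.ofList xs • (⊤ : Submodule A M) := by
    ext m; exact (he M).2 m
  exact ⟨((Submodule.quotEquivOfEq _ _ hker.symm) ≪≫ₗ ψ.quotKerEquivOfSurjective (he M).1).symm⟩

end Groth.Agent.S5665
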