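import Groth.Statements.S5672
import Groth.Agent.DualExt.Vanish

set_option autoImplicit false
universe u
open CategoryTheory
open Dual

namespace Groth.Agent.S5672

open CategoryTheory Groth.Agent.DualExt.Vanish Groth.Agent.DualExt.Regular

/-- Let `A` be a regular local ring of dimension `n`, `J` an ideal with `dim(A/J) ≤ n - p`, and `M` a
finite `A`-module with `JM = 0`. For `ξ ∈ Ext^p_A(M, A)` and an `A`-linear `u : A/J → M` write `u^*ξ
∈ Ext^p_A(A/J, A)` for the pullback. Then `ξ ↦ (u ↦ u^*ξ)` is injective, and every `A`-linear map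
`Hom_A(A/J, M) → Ext^p_A(A/J, A)` is of the form `u ↦ u^*ξ` for some `ξ`. Since `Hom_A(A/J, M) = M`
here, this says that the canonical map `Ext^p_A(M, A) → Hom_A(M, Ext^p_A(A/J, A))` is bijective. -/
theorem result (A : Type u) [CommRing A] [IsRegularLocalRing A] (p : ℕ) (J : Ideal A) (hJ : ringKrullDim (A ⧸ J) + p ≤ ringKrullDim A) (M : Type u) [AddCommGroup M] [Module A M] [Module.Finite A M] (hJM : J • (⊤ : Submodule A M) = ⊥) : Function.Injective (fun ξ : Abelian.Ext (ModuleCat.of A M) (ModuleCat.of A A) p => fun u : (A ⧸ J) →ₗ[A] M => (Abelian.Ext.mk₀ (ModuleCat.ofHom u)).comp ξ (zero_add p)) ∧ ∀ g : ((A ⧸ J) →ₗ[A] M) →ₗ[A] Abelian.Ext (ModuleCat.of A (A ⧸ J)) (ModuleCat.of A A) p, ∃ ξ : Abelian.Ext (ModuleCat.of A M) (ModuleCat.of A A) p, ∀ u : (A ⧸ J) →ₗ[A] M, g u = (Abelian.Ext.mk₀ (ModuleCat.ofHom u)).comp ξ (zero_add p) := by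
  classical
  have hvan : ∀ (N : Type u) [AddCommGroup N] [Module A N] [Module.Finite A N],
      J • (⊤ : Submodule A N) = ⊥ → ∀ i < p, ∀ η : Abelian.Ext (ModuleCat.of A N) (ModuleCat.of A A) i, η = 0 := by
    intro N _ _ _ hN i hi η
    obtain ⟨r, f, hf⟩ := Module.Finite.exists_fin' A N
    have hle : Module.supportDim A N ≤ ringKrullDim (A ⧸ J) := by
      rw [← Module.supportDim_quotient_eq_ringKrullDim]
      refine Order.krullDim_le_of_strictMono (fun q => ⟨q.1, ?_⟩) (fun a b h => h)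
      refine Module.mem_support_iff_of_finite.mpr (le_trans ?_ (Module.mem_support_iff_of_finite.mp q.2))
      intro a ha
      rw [Module.mem_annihilator] at ha ⊢
      intro z
      have := ha (Submodule.Quotient.mk (1 : A))
      rw [← Submodule.Quotient.mk_smul, Submodule.Quotient.mk_eq_zero, smul_eq_mul, mul_one] at this
      exact killed hN this z
    exact ext_eq_zero A N p ((add_le_add_left hle _).trans hJ) i hi η
  -- a presentation by copies of `A ⧸ J`
  have hpres : ∀ (N : Type u) [AddCommGroup N] [Module A N] [Module.Finite A N],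
      J • (⊤ : Submodule A N) = ⊥ → ∃ (r : ℕ) (π : (Fin r → A ⧸ J) →ₗ[A] N), Function.Surjective π := by
    intro N _ _ _ hN
    obtain ⟨r, f, hf⟩ := Module.Finite.exists_fin' A N
    let π : (Fin r → A ⧸ J) →ₗ[A] N := ∑ l, (Submodule.liftQ J (LinearMap.toSpanSingleton A N (f (Pi.single l 1)))
      fun a ha => LinearMap.mem_ker.mpr (killed hN ha _)) ∘ₗ LinearMap.proj l
    refine ⟨r, π, fun n => ?_⟩
    obtain ⟨a, rfl⟩ := hf n
    refine ⟨fun l => Submodule.Quotient.mk (a l), ?_⟩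
    have e : ∀ l, f (Pi.single l (a l)) = a l • f (Pi.single l 1) := fun l => by
      rw [← map_smul]; congr 1; ext m; simp [Pi.single_apply]
    conv_rhs => rw [← Finset.univ_sum_single a, map_sum]
    simp only [π, LinearMap.sum_apply, LinearMap.comp_apply, LinearMap.proj_apply, Submodule.liftQ_apply,
      LinearMap.toSpanSingleton_apply, e]
  have hkill : ∀ r : ℕ, J • (⊤ : Submodule A (Fin r → A ⧸ J)) = ⊥ := fun r =>
    eq_bot_iff.mpr (Submodule.smul_le.mpr fun a ha v _ => by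
      rw [Submodule.mem_bot]
      funext l
      obtain ⟨z, hz⟩ := Submodule.Quotient.mk_surjective J (v l)
      show a • v l = 0
      rw [← hz, ← Submodule.Quotient.mk_smul, Submodule.Quotient.mk_eq_zero]
      exact J.mul_mem_right _ ha)
  have hsub : ∀ (N : Type u) [AddCommGroup N] [Module A N] (K : Submodule A N),
      J • (⊤ : Submodule A N) = ⊥ → J • (⊤ : Submodule A K) = ⊥ := fun N _ _ K hN =>
    eq_bot_iff.mpr (Submodule.smul_le.mpr fun a ha v _ => by
      rw [Submodule.mem_bot]; exact Subtype.ext (killed hN ha v.1))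
  -- pulling back is injective
  have hinj : ∀ (N : Type u) [AddCommGroup N] [Module A N] [Module.Finite A N],
      J • (⊤ : Submodule A N) = ⊥ → ∀ ξ : Abelian.Ext (ModuleCat.of A N) (ModuleCat.of A A) p,
        (∀ u : (A ⧸ J) →ₗ[A] N, (Abelian.Ext.mk₀ (ModuleCat.ofHom u)).comp ξ (zero_add p) = 0) → ξ = 0 := by
    intro N _ _ _ hN ξ hξ
    obtain ⟨r, π, hπ⟩ := hpres N hN
    have hS := LinearMap.shortExact_shortComplexKer hπ
    have h0 : (Abelian.Ext.mk₀ (ModuleCat.ofHom π)).comp ξ (zero_add p) = 0 := by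
      have hid : 𝟙 (ModuleCat.of A (Fin r → A ⧸ J)) = ∑ l : Fin r,
          ModuleCat.ofHom (LinearMap.proj (φ := fun _ => A ⧸ J) l) ≫ ModuleCat.ofHom (LinearMap.single A (fun _ => A ⧸ J) l) := by
        ext : 1
        simp [ModuleCat.hom_sum]
        apply LinearMap.ext
        intro v
        simp [LinearMap.sum_apply, Finset.univ_sum_single]
      rw [← Category.id_comp (ModuleCat.ofHom π), hid, Preadditive.sum_comp, Abelian.Ext.mk₀_sum, Abelian.Ext.sum_comp]
      refine Finset.sum_eq_zero fun l _ => ?_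
      rw [Category.assoc, ← ModuleCat.ofHom_comp, ← Abelian.Ext.mk₀_comp_mk₀,
        Abelian.Ext.comp_assoc_of_second_deg_zero, hξ, Abelian.Ext.comp_zero]
    cases p with
    | zero =>
      obtain ⟨φ, rfl⟩ := (Abelian.Ext.mk₀_bijective _ _).2 ξ
      rw [Abelian.Ext.mk₀_comp_mk₀] at h0
      have h1 := (Abelian.Ext.mk₀_bijective _ _).1 (h0.trans (Abelian.Ext.mk₀_zero _ _).symm)
      haveI : Epi (ModuleCat.ofHom π) := (ModuleCat.epi_iff_surjective _).mpr hπ
      rw [show φ = 0 from (cancel_epi (ModuleCat.ofHom π)).mp (h1.trans Limits.comp_zero.symm), Abelian.Ext.mk₀_zero]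
    | succ q =>
      obtain ⟨η, hη⟩ := Abelian.Ext.contravariant_sequence_exact₃ hS _ ξ h0 (n₀ := q) (by omega)
      rw [← hη, hvan (LinearMap.ker π) (hsub _ _ (hkill r)) q (by omega) η, Abelian.Ext.comp_zero]
  refine ⟨fun ξ ξ' h => sub_eq_zero.mp (hinj M hJM (ξ - ξ') fun u => ?_), fun g => ?_⟩
  · have hu : (Abelian.Ext.mk₀ (ModuleCat.ofHom u)).comp ξ (zero_add p) =
      (Abelian.Ext.mk₀ (ModuleCat.ofHom u)).comp ξ' (zero_add p) := congrFun h u
    rw [sub_eq_add_neg, Abelian.Ext.comp_add, Abelian.Ext.comp_neg, hu, add_neg_cancel]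
  obtain ⟨r, π, hπ⟩ := hpres M hJM
  have hS := LinearMap.shortExact_shortComplexKer hπ
  let ξF : Abelian.Ext (ModuleCat.of A (Fin r → A ⧸ J)) (ModuleCat.of A A) p :=
    ∑ l, (Abelian.Ext.mk₀ (ModuleCat.ofHom (LinearMap.proj (φ := fun _ => A ⧸ J) l))).comp
      (g (π ∘ₗ LinearMap.single A (fun _ => A ⧸ J) l)) (zero_add p)
  -- the formula on the free module
  have hF : ∀ v : (A ⧸ J) →ₗ[A] (Fin r → A ⧸ J),
      (Abelian.Ext.mk₀ (ModuleCat.ofHom v)).comp ξF (zero_add p) = g (π ∘ₗ v) := by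
    intro v
    have hend : ∀ w : (A ⧸ J) →ₗ[A] (A ⧸ J), ∃ a : A, w = a • LinearMap.id := by
      intro w
      obtain ⟨a, ha⟩ := Submodule.Quotient.mk_surjective J (w (Submodule.Quotient.mk 1))
      refine ⟨a, Submodule.linearMap_qext _ (LinearMap.ext_ring ?_)⟩
      show w (Submodule.Quotient.mk 1) = a • Submodule.Quotient.mk (1 : A)
      rw [← ha, ← Submodule.Quotient.mk_smul, smul_eq_mul, mul_one]
    choose a ha using fun l => hend (LinearMap.proj (φ := fun _ => A ⧸ J) l ∘ₗ v)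
    have hv : π ∘ₗ v = ∑ l, a l • (π ∘ₗ LinearMap.single A (fun _ => A ⧸ J) l) := by
      have h1 : v = ∑ l, a l • LinearMap.single A (fun _ => A ⧸ J) l := LinearMap.ext fun z => funext fun m => by
        have := LinearMap.congr_fun (ha m) z
        simp only [LinearMap.comp_apply, LinearMap.proj_apply] at this
        simp [this, LinearMap.sum_apply, Finset.sum_apply, Pi.single_apply]
      conv_lhs => rw [h1]
      exact LinearMap.ext fun z => by simp [LinearMap.sum_apply, map_sum]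
    rw [hv, map_sum, Abelian.Ext.comp_sum]
    refine Finset.sum_congr rfl fun l _ => ?_
    rw [← Abelian.Ext.comp_assoc_of_second_deg_zero, Abelian.Ext.mk₀_comp_mk₀, ← ModuleCat.ofHom_comp, ha l,
      map_smul, show ModuleCat.ofHom (a l • (LinearMap.id : (A ⧸ J) →ₗ[A] A ⧸ J)) = a l • 𝟙 _ from rfl]
    exact mk₀_smul_id_comp (a l) _
  have h0 : (Abelian.Ext.mk₀ (ModuleCat.ofHom (LinearMap.ker π).subtype)).comp ξF (zero_add p) = 0 := by
    refine hinj (LinearMap.ker π) (hsub _ _ (hkill r)) _ fun u => ?_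
    rw [← Abelian.Ext.comp_assoc_of_second_deg_zero, Abelian.Ext.mk₀_comp_mk₀, ← ModuleCat.ofHom_comp, hF,
      show π ∘ₗ (LinearMap.ker π).subtype ∘ₗ u = 0 from LinearMap.ext fun z => LinearMap.mem_ker.mp (u z).2, map_zero]
  obtain ⟨ξ, hξ⟩ := Abelian.Ext.contravariant_sequence_exact₂ hS _ ξF h0
  change (Abelian.Ext.mk₀ (ModuleCat.ofHom π)).comp ξ (zero_add p) = ξF at hξ
  refine ⟨ξ, fun u => ?_⟩
  obtain ⟨w, hw⟩ := hπ (u (Submodule.Quotient.mk 1))
  let v : (A ⧸ J) →ₗ[A] (Fin r → A ⧸ J) := Submodule.liftQ J (LinearMap.toSpanSingleton A _ w)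
    fun b hb => LinearMap.mem_ker.mpr (killed (hkill r) hb w)
  have hv : π ∘ₗ v = u := Submodule.linearMap_qext _ (LinearMap.ext_ring (by
    show π ((1 : A) • w) = u (Submodule.Quotient.mk 1)
    rw [one_smul, hw]))
  rw [← hv, ← hF v, ← hξ, ← Abelian.Ext.comp_assoc_of_second_deg_zero, Abelian.Ext.mk₀_comp_mk₀, ← ModuleCat.ofHom_comp]

end Groth.Agent.S5672
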