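import Groth.Statements.S5673
import Groth.Agent.TorBal.LES

set_option autoImplicit false
universe u
open CategoryTheory
open Dual

namespace Groth.Agent.S5673

section helpers

open Limits MonoidalCategory HomologicalComplex Groth.Agent.TorBal

variable {A : Type u} [CommRing A]

theorem res_map_smul (M X : ModuleCat.{u} A) (x : A) (n : ℕ) :
    homologyMap ((resFunctor M).map (x • 𝟙 X)) n = x • 𝟙 _ := by
  have h : (shortComplexFunctor (ModuleCat.{u} A) (ComplexShape.down ℕ) n).map ((resFunctor M).map (x • 𝟙 X)) =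
      x • 𝟙 _ := by
    ext <;> dsimp [resFunctor] <;> simp <;> rfl
  show ShortComplex.homologyMap _ = _
  rw [h, ShortComplex.homologyMap_smul, ShortComplex.homologyMap_id]
  rfl

theorem tor_map_smul (M X : ModuleCat.{u} A) (x : A) (n : ℕ) :
    ((CategoryTheory.Tor (ModuleCat.{u} A) n).obj M).map (x • 𝟙 X) =
      x • 𝟙 (((CategoryTheory.Tor (ModuleCat.{u} A) n).obj M).obj X) := by
  refine (cancel_mono ((torResIso M n).app X).hom).1 ?_
  refine ((torResIso M n).hom.naturality _).trans ?_
  show _ ≫ homologyMap ((resFunctor M).map (x • 𝟙 X)) n = _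
  rw [res_map_smul, Linear.comp_smul, Linear.smul_comp, Category.id_comp]
  exact congrArg _ (Category.comp_id _)

/-- `Tor'` is `Tor` after swapping -/
noncomputable def torPrimeIso (M X : ModuleCat.{u} A) (n : ℕ) :
    ((Tor' (ModuleCat.{u} A) n).obj X).obj M ≅ ((CategoryTheory.Tor (ModuleCat.{u} A) n).obj M).obj X where
  hom := (NatTrans.leftDerived (BraidedCategory.tensorLeftIsoTensorRight M).inv n).app X
  inv := (NatTrans.leftDerived (BraidedCategory.tensorLeftIsoTensorRight M).hom n).app X
  hom_inv_id := by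
    show (NatTrans.leftDerived (BraidedCategory.tensorLeftIsoTensorRight M).inv n ≫
      NatTrans.leftDerived (BraidedCategory.tensorLeftIsoTensorRight M).hom n).app X = _
    rw [← NatTrans.leftDerived_comp, Iso.inv_hom_id, NatTrans.leftDerived_id]
    rfl
  inv_hom_id := by
    show (NatTrans.leftDerived (BraidedCategory.tensorLeftIsoTensorRight M).hom n ≫
      NatTrans.leftDerived (BraidedCategory.tensorLeftIsoTensorRight M).inv n).app X = _
    rw [← NatTrans.leftDerived_comp, Iso.hom_inv_id, NatTrans.leftDerived_id]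
    rfl

theorem equiv_of_kernels {U V W V' : Type u} [AddCommGroup U] [Module A U] [AddCommGroup V] [Module A V]
    [AddCommGroup W] [Module A W] [AddCommGroup V'] [Module A V'] (x : A) (a : U →ₗ[A] V) (b : W →ₗ[A] V')
    (ha : Function.Injective a) (hb : Function.Injective b) (ha' : ∀ v, (v ∈ LinearMap.range a ↔ x • v = 0))
    (hb' : ∀ v, (v ∈ LinearMap.range b ↔ x • v = 0)) (e : V ≃ₗ[A] V') : Nonempty (U ≃ₗ[A] W) := by
  refine ⟨(LinearEquiv.ofInjective a ha).trans ((e.submoduleMap _).trans ((LinearEquiv.ofEq _ _ ?_).trans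
    (LinearEquiv.ofInjective b hb).symm))⟩
  ext v
  rw [hb']
  constructor
  · rintro ⟨w, hw, rfl⟩
    show x • e w = 0
    rw [← map_smul, (ha' w).1 hw, map_zero]
  · exact fun hv => ⟨e.symm v, (ha' _).2 (by rw [← map_smul, hv, map_zero]), e.apply_symm_apply v⟩

theorem main (M : ModuleCat.{u} A) (xs : List A) (hreg : RingTheory.Sequence.IsWeaklyRegular A xs) :
    (∀ i, xs.length < i →
      IsZero (((CategoryTheory.Tor (ModuleCat.{u} A) i).obj M).obj (ModuleCat.of A (A ⧸ Ideal.ofList xs)))) ∧
    Nonempty ((((CategoryTheory.Tor (ModuleCat.{u} A) xs.length).obj M).obj (ModuleCat.of A (A ⧸ Ideal.ofList xs))) ≃ₗ[A]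
      ((A ⧸ Ideal.ofList xs) →ₗ[A] M)) := by
  induction xs using List.reverseRecOn with
  | nil =>
    let eA : (A ⧸ Ideal.ofList ([] : List A)) ≃ₗ[A] A :=
      (Submodule.quotEquivOfEq _ _ Ideal.ofList_nil).trans (Submodule.quotEquivOfEqBot _ rfl)
    haveI : Module.Projective A (A ⧸ Ideal.ofList ([] : List A)) := Module.Projective.of_equiv eA.symm
    haveI : Projective (ModuleCat.of A (A ⧸ Ideal.ofList ([] : List A))) :=
      (IsProjective.iff_projective (R := A) (P := ↑(ModuleCat.of A (A ⧸ Ideal.ofList ([] : List A))))).1 ‹_›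
    refine ⟨fun i hi => ?_, ?_⟩
    · obtain ⟨i, rfl⟩ : ∃ k, i = k + 1 := ⟨i - 1, by simp at hi; omega⟩
      exact CategoryTheory.isZero_Tor_succ_of_projective (C := ModuleCat.{u} A) M _ i
    · let F := (tensoringLeft (ModuleCat.{u} A)).obj M
      exact ⟨(asIso (F.fromLeftDerivedZero.app (ModuleCat.of A (A ⧸ Ideal.ofList ([] : List A))))).toLinearEquiv.trans
        (((TensorProduct.congr (LinearEquiv.refl A M) eA).trans (TensorProduct.rid A M)).trans
          (((LinearEquiv.arrowCongr eA (LinearEquiv.refl A M)).trans (LinearMap.ringLmapEquivSelf A A M)).symm))⟩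
  | append_singleton ys x ih =>
    have hys : RingTheory.Sequence.IsWeaklyRegular A ys := ⟨fun i h => by
      have := hreg.regular_mod_prev i (by simp; omega)
      rwa [List.getElem_append_left h, List.take_append_of_le_length h.le] at this⟩
    obtain ⟨hz, ⟨e⟩⟩ := ih hys
    let J := Ideal.ofList ys
    have hJ : Ideal.ofList (ys ++ [x]) = J ⊔ Ideal.span {x} := by simp [J, Ideal.ofList_append]
    have hx : IsSMulRegular (A ⧸ J) x := by
      have := hreg.regular_mod_prev ys.length (by simp)
      rw [List.getElem_append_right le_rfl, List.take_left] at this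
      rw [smul_eq_mul, Ideal.mul_top] at this
      simpa using this
    let q : (A ⧸ J) →ₗ[A] (A ⧸ Ideal.ofList (ys ++ [x])) := Submodule.factor (hJ ▸ le_sup_left)
    have hq : Function.Surjective q := Submodule.factor_surjective _
    have hex : Function.Exact (x • LinearMap.id : (A ⧸ J) →ₗ[A] (A ⧸ J)) q := by
      intro v
      obtain ⟨v, rfl⟩ := Submodule.mkQ_surjective J v
      show Submodule.Quotient.mk v = (0 : A ⧸ Ideal.ofList (ys ++ [x])) ↔ _
      rw [Submodule.Quotient.mk_eq_zero, hJ, Submodule.mem_sup]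
      constructor
      · rintro ⟨a, ha, b, hb, rfl⟩
        obtain ⟨c, rfl⟩ := Ideal.mem_span_singleton'.1 hb
        exact ⟨Submodule.Quotient.mk c, (Submodule.Quotient.eq J).2 (by
          simpa [mul_comm c x] using J.neg_mem ha)⟩
      · rintro ⟨w, hw⟩
        obtain ⟨c, rfl⟩ := Submodule.mkQ_surjective J w
        have hw' : (Submodule.Quotient.mk (x • c) : A ⧸ J) = Submodule.Quotient.mk v := hw
        exact ⟨v - x • c, (Submodule.Quotient.eq J).1 hw'.symm, x • c,
          Ideal.mem_span_singleton'.2 ⟨c, by simp [mul_comm]⟩, by simp⟩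
    let X := ModuleCat.of A (A ⧸ J)
    let Y := ModuleCat.of A (A ⧸ Ideal.ofList (ys ++ [x]))
    let S : ShortComplex (ModuleCat.{u} A) := ShortComplex.mk (X₁ := X) (X₂ := X) (X₃ := Y) (x • 𝟙 X) (ModuleCat.ofHom q)
      (ModuleCat.hom_ext (LinearMap.ext fun v => hex.apply_apply_eq_zero v))
    have hS : S.ShortExact := ModuleCat.shortComplex_shortExact S hex hx hq
    have hlen : (ys ++ [x]).length = ys.length + 1 := by simp
    refine ⟨fun i hi => ?_, ?_⟩
    · obtain ⟨i, rfl⟩ : ∃ k, i = k + 1 := ⟨i - 1, by omega⟩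
      exact (tor_exact₃ M hS i).isZero_X₂ ((hz (i + 1) (by omega)).eq_of_src _ _)
        ((hz i (by omega)).eq_of_tgt _ _)
    · rw [hlen]
      have h1 : Function.Injective (torδ M hS ys.length).hom := (ModuleCat.mono_iff_injective _).1
        ((tor_exact₃ M hS ys.length).mono_g ((hz (ys.length + 1) (by omega)).eq_of_src _ _))
      have h2 := (ShortComplex.ShortExact.moduleCat_exact_iff_function_exact _).1 (tor_exact₁ M hS ys.length)
      refine equiv_of_kernels (W := (A ⧸ Ideal.ofList (ys ++ [x])) →ₗ[A] M) x (torδ M hS ys.length).hom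
        (LinearMap.lcomp A M q) h1 (LinearMap.lcomp_injective_of_surjective q hq) (fun v => ?_) (fun φ => ?_) e
      · have h3 := h2 v
        have h4 : (((CategoryTheory.Tor (ModuleCat.{u} A) ys.length).obj M).map S.f).hom v = x • v := by
          rw [show S.f = x • 𝟙 X from rfl, tor_map_smul]
          rfl
        exact ((Iff.of_eq (congrArg (· = 0) h4.symm)).trans h3).symm
      · constructor
        · rintro ⟨ψ, rfl⟩
          refine LinearMap.ext fun v => ?_
          show x • ψ (q v) = 0
          rw [← map_smul, ← map_smul]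
          exact (congrArg ψ (hex.apply_apply_eq_zero v)).trans (map_zero ψ)
        · intro hφ
          have hker : LinearMap.ker q ≤ LinearMap.ker φ := by
            intro v hv
            obtain ⟨w, rfl⟩ := (hex v).1 hv
            show φ (x • w) = 0
            rw [map_smul]
            exact LinearMap.congr_fun hφ w
          exact ⟨((LinearMap.ker q).liftQ φ hker) ∘ₗ (q.quotKerEquivOfSurjective hq).symm.toLinearMap, by
            refine LinearMap.ext fun v => ?_
            show (LinearMap.ker q).liftQ φ hker ((q.quotKerEquivOfSurjective hq).symm (q v)) = φ v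
            rw [show (q.quotKerEquivOfSurjective hq).symm (q v) = Submodule.Quotient.mk v from
              (q.quotKerEquivOfSurjective hq).symm_apply_eq.2 rfl]
            rfl⟩

end helpers

/-- Let `A` be a commutative ring, `xs = (x_1, …, x_p)` a sequence in `A` such that each `x_i` is a
non-zero-divisor on `A/(x_1, …, x_{i-1})`, `J` the ideal generated by the `x_i` and `M` any
`A`-module. Then `Tor_p^A(A/J, M)` (Mathlib's `Tor'`, the left derived functors of `- ⊗ M` evaluated
at `A/J`, i.e. computed from a resolution of `A/J`) is isomorphic as an `A`-module to `Hom_A(A/J,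
M)`, i.e. to the elements of `M` killed by `J`. (Existence of an `A`-linear isomorphism only; the
published one is induced by the Koszul complex of `xs`.) -/
theorem result (A : Type u) [CommRing A] (xs : List A) (hreg : RingTheory.Sequence.IsWeaklyRegular A xs) (M : Type u) [AddCommGroup M] [Module A M] : Nonempty (↑(((Tor' (ModuleCat.{u} A) xs.length).obj (ModuleCat.of A (A ⧸ Ideal.ofList xs))).obj (ModuleCat.of A M)) ≃ₗ[A] ((A ⧸ Ideal.ofList xs) →ₗ[A] M)) := by
  obtain ⟨-, ⟨e⟩⟩ := main (ModuleCat.of A M) xs hreg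
  exact ⟨(torPrimeIso (ModuleCat.of A M) _ xs.length).toLinearEquiv.trans e⟩

end Groth.Agent.S5673
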