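import Groth.Statements.S5690
import Groth.Agent.Coeq6.Main

set_option autoImplicit false
universe u
open CategoryTheory CategoryTheory.Limits AlgebraicGeometry
open FGA

namespace Groth.Agent.S5690

/-- Let (U, R, s, t, c) be a groupoid scheme over a scheme S whose source morphism s : R ⟶ U is finite
locally free (finite, flat and locally of finite presentation), and suppose every equivalence class
t(s⁻¹(x)), x a point of U, is contained in some affine open of U. Then there are a scheme Y and a
morphism q : U ⟶ Y with s ≫ q = t ≫ q which is a coequalizer of s and t in the category of schemes,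
affine, integral and surjective, whose fibres are the equivalence classes; and if (t, s) : R ⟶ U ×_S
U is a monomorphism then q is moreover finite, flat and locally of finite presentation and (t, s) :
R ⟶ U ×_Y U is an isomorphism. Only the sufficiency of the affine-class condition is stated (the
published statement is an equivalence: the quotient with these properties exists if and only if
every class lies in an affine open). -/
theorem result {S : Scheme.{u}} (G : Grpd.GroupoidScheme S)
    [IsFinite G.s] [Flat G.s] [LocallyOfFinitePresentation G.s]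
    (haff : ∀ x : ↥G.U, ∃ V : G.U.Opens, IsAffineOpen V ∧ G.t.base '' (G.s.base ⁻¹' {x}) ⊆ (V : Set ↥G.U)) :
    ∃ (Y : Scheme.{u}) (q : G.U ⟶ Y) (w : G.s ≫ q = G.t ≫ q),
      Nonempty (IsColimit (Cofork.ofπ q w)) ∧ IsAffineHom q ∧ IsIntegralHom q ∧ Surjective q ∧
      (∀ x x' : ↥G.U, q.base x = q.base x' ↔ ∃ r : ↥G.R, G.s.base r = x ∧ G.t.base r = x') ∧
      (Mono G.j → IsFinite q ∧ Flat q ∧ LocallyOfFinitePresentation q ∧
        IsIso (pullback.lift G.t G.s w.symm : G.R ⟶ pullback q q)) := by
  obtain ⟨Y, p, w, ⟨hc⟩, hint, hsurj, hopen, hrel, hlift, -⟩ := Groth.Agent.Coeq6.Main.coequalizer G haff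
  refine ⟨Y, p, w.symm, ⟨?_⟩, inferInstance, hint, hsurj, fun x x' => ⟨fun h => ?_, fun h => ?_⟩, fun hm => ?_⟩
  · exact Cofork.IsColimit.mk _
      (fun c => (Cofork.IsColimit.desc' hc c.π c.condition.symm).1)
      (fun c => (Cofork.IsColimit.desc' hc c.π c.condition.symm).2)
      (fun c m hm => Cofork.IsColimit.hom_ext hc (hm.trans (Cofork.IsColimit.desc' hc c.π c.condition.symm).2.symm))
  · obtain ⟨r, h₁, h₂⟩ := (hrel x' x).1 h.symm
    exact ⟨r, h₂, h₁⟩
  · obtain ⟨r, h₁, h₂⟩ := h
    exact ((hrel x' x).2 ⟨r, h₂, h₁⟩).symm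
  · obtain ⟨hP, h₁, h₂, h₃⟩ := Groth.Agent.Coeq6.Main.isPullback_finLocFree G haff Y p w hc
    refine ⟨h₁, h₂, h₃, ?_⟩
    have e : (pullback.lift G.t G.s w : G.R ⟶ pullback p p) = hP.isoPullback.hom := by
      apply pullback.hom_ext <;> simp [pullback.lift_fst, pullback.lift_snd]
    exact e ▸ hP.isoPullback.isIso_hom

end Groth.Agent.S5690
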