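import Groth.Statements.S5756
import Groth.Agent.IdealDepth.Localization
import Mathlib.RingTheory.Artinian.Module
import Mathlib.RingTheory.Ideal.GoingUp

set_option autoImplicit false
universe u
open EGA41

namespace Groth.Agent.S5756

/-- Suppose A and B are Noetherian local rings and ρ : A → B is a local homomorphism. Given a B-module M
that, viewed as an A-module through ρ, is finitely generated, the depth of M over A coincides with
the depth of M over B. -/
theorem result (A B : Type u) [CommRing A] [CommRing B] [IsLocalRing A]
    [IsLocalRing B] [IsNoetherianRing A] [IsNoetherianRing B] [Algebra A B] [IsLocalHom (algebraMap A B)]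
    (M : Type u) [AddCommGroup M] [Module B M] [Module A M] [IsScalarTower A B M] [Module.Finite A M] :
    LocCoh.depth A M = LocCoh.depth B M := by
  haveI : Module.Finite B M := Module.Finite.of_restrictScalars_finite A B M
  unfold LocCoh.depth
  rw [Groth.Agent.IdealDepth.idealDepth_map (S := B), Groth.Agent.IdealDepth.idealDepth_eq_iInf,
    Groth.Agent.IdealDepth.idealDepth_eq_iInf]
  refine le_antisymm (iInf_mono fun q => iInf_mono' fun h => ⟨?_, le_rfl⟩) (le_iInf₂ fun q hq => ?_)
  · exact le_trans (((IsLocalRing.local_hom_TFAE (algebraMap A B)).out 0 2).1 ‹IsLocalHom (algebraMap A B)›) h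
  · by_cases hs : q ∈ Module.support B M
    · have hle : IsLocalRing.maximalIdeal B ≤ q.asIdeal := by
        let Φ : B →ₐ[A] Module.End A M := Algebra.lsmul A A M
        have hann : Module.annihilator B M = RingHom.ker Φ.toRingHom := by
          ext b
          simp [Module.mem_annihilator, RingHom.mem_ker, Φ, LinearMap.ext_iff]
        haveI : IsNoetherian A (Module.End A M) := isNoetherian_of_isNoetherianRing_of_finite A _
        haveI : Module.Finite A (B ⧸ RingHom.ker Φ.toRingHom) :=
          Module.Finite.of_injective (Ideal.kerLiftAlg Φ).toLinearMap (Ideal.kerLiftAlg_injective Φ)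
        have hle' : RingHom.ker Φ.toRingHom ≤ q.asIdeal := hann ▸ Module.mem_support_iff_of_finite.1 hs
        haveI : Module.Finite A (B ⧸ q.asIdeal) := Module.Finite.of_surjective
          (Ideal.Quotient.factorₐ A hle').toLinearMap (Ideal.Quotient.factor_surjective hle')
        have hA : IsLocalRing.maximalIdeal A = (⊥ : Ideal (B ⧸ q.asIdeal)).comap (algebraMap A _) := by
          refine (IsLocalRing.maximalIdeal.isMaximal A).eq_of_le (Ideal.IsPrime.under A _).ne_top fun a ha => ?_
          rw [Ideal.mem_comap, Ideal.mem_bot, IsScalarTower.algebraMap_apply A B (B ⧸ q.asIdeal),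
            Ideal.Quotient.algebraMap_eq, Ideal.Quotient.eq_zero_iff_mem]
          exact hq (Ideal.mem_map_of_mem _ ha)
        haveI : (⊥ : Ideal (B ⧸ q.asIdeal)).IsMaximal :=
          Ideal.isMaximal_of_isIntegral_of_isMaximal_comap _ (hA ▸ IsLocalRing.maximalIdeal.isMaximal A)
        have : q.asIdeal.IsMaximal := by
          rw [← Ideal.mk_ker (I := q.asIdeal), RingHom.ker_eq_comap_bot]
          exact Ideal.comap_isMaximal_of_surjective _ Ideal.Quotient.mk_surjective
        exact (IsLocalRing.eq_maximalIdeal this).ge
      exact iInf₂_le q hle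
    · haveI := Module.notMem_support_iff.1 hs
      simp only [LocCoh.depth]
      rw [(Groth.Agent.IdealDepth.eq_top_iff' (M := LocalizedModule q.asIdeal.primeCompl M)).2
        (Subsingleton.elim _ _)]
      exact le_top

end Groth.Agent.S5756
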