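import Groth.Statements.S5766
import Mathlib
import Groth.Agent.Segre.Param
-- import your own Groth.Agent.* helpers here

set_option autoImplicit false
universe u
open EGA41

namespace Groth.Agent.S5766

/-- Let A be a Noetherian ring, ρ : A → B a ring homomorphism and M a B-module which is finitely
generated as an A-module via ρ. Then the dimension of M as an A-module equals its dimension as a
B-module. -/
theorem result (A B : Type u) [CommRing A] [CommRing B] [IsNoetherianRing A]
    [Algebra A B] (M : Type u) [AddCommGroup M] [Module B M] [Module A M] [IsScalarTower A B M]
    [Module.Finite A M] : Module.supportDim A M = Module.supportDim B M := by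
  haveI : Module.Finite B M := Module.Finite.of_restrictScalars_finite A B M
  rw [Module.supportDim_eq_ringKrullDim_quotient_annihilator, Module.supportDim_eq_ringKrullDim_quotient_annihilator]
  have hle : Module.annihilator A M ≤ (Module.annihilator B M).comap (algebraMap A B) := fun a ha => by
    rw [Ideal.mem_comap, Module.mem_annihilator]
    intro m
    rw [algebraMap_smul]
    exact Module.mem_annihilator.mp ha m
  let f : A ⧸ Module.annihilator A M →+* B ⧸ Module.annihilator B M := Ideal.quotientMap _ (algebraMap A B) hle
  refine Groth.Agent.Segre.Param.ringKrullDim_eq_of_isIntegral f ?_ ?_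
  · intro y
    obtain ⟨b, rfl⟩ := Ideal.Quotient.mk_surjective y
    let e : Module.End A M := LinearMap.lsmul B M b |>.restrictScalars A
    obtain ⟨P, hP, hPe⟩ : IsIntegral A e := IsIntegral.of_finite A e
    refine ⟨P.map (Ideal.Quotient.mk _), hP.map _, ?_⟩
    have h : Polynomial.aeval b P ∈ Module.annihilator B M := by
      rw [Module.mem_annihilator]
      intro m
      have key : Polynomial.aeval e P = (LinearMap.lsmul B M (Polynomial.aeval b P)).restrictScalars A := by
        let φ : B →ₐ[A] Module.End A M := Algebra.lsmul A A M
        exact (Polynomial.aeval_algHom_apply φ b P)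
      have h2 : Polynomial.aeval e P = 0 := hPe
      exact LinearMap.congr_fun (key.symm.trans h2) m
    rw [Polynomial.eval₂_map]
    have e2 : f.comp (Ideal.Quotient.mk (Module.annihilator A M)) = (Ideal.Quotient.mk (Module.annihilator B M)).comp (algebraMap A B) := rfl
    rw [e2, ← Polynomial.hom_eval₂]
    exact Ideal.Quotient.eq_zero_iff_mem.mpr h
  · refine Ideal.quotientMap_injective' ?_
    intro a ha
    rw [Ideal.mem_comap, Module.mem_annihilator] at ha
    exact Module.mem_annihilator.mpr fun m => by simpa [algebraMap_smul] using ha m

end Groth.Agent.S5766
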