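import Groth.Statements.S5772
import Mathlib.RingTheory.Filtration
import Mathlib.RingTheory.Noetherian.Basic
import Mathlib.RingTheory.Regular.IsSMulRegular
import Mathlib.RingTheory.Ideal.Maps

set_option autoImplicit false
universe u
open scoped Pointwise
open EGA41

namespace Groth.Agent.S5772

/-- Let A be a Noetherian ring, M a finitely generated A-module and f an element of A. Then f is
M-regular (multiplication by f on M is injective) if and only if f is M-quasi-regular, i.e. the
canonical surjection (M/fM)[T] → gr(M) for the (f)-adic filtration is bijective, which amounts to: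
for every k ≥ 0 and x ∈ M, f^k x ∈ f^(k+1) M implies x ∈ fM. -/
theorem result (A : Type u) [CommRing A] [IsNoetherianRing A] (M : Type u)
    [AddCommGroup M] [Module A M] [Module.Finite A M] (f : A) :
    IsSMulRegular M f ↔
      ∀ (k : ℕ) (x : M), f ^ k • x ∈ f ^ (k + 1) • (⊤ : Submodule A M) → x ∈ f • (⊤ : Submodule A M) := by
  constructor
  · intro h k x hx
    rw [Submodule.mem_smul_pointwise_iff_exists] at hx ⊢
    obtain ⟨y, -, hy⟩ := hx
    refine ⟨y, trivial, h.pow k ?_⟩
    change f ^ k • f • y = f ^ k • x
    rw [← hy, smul_smul, pow_succ]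
  · intro h
    refine isSMulRegular_iff_right_eq_zero_of_smul.2 fun x hx => ?_
    have key : ∀ j : ℕ, ∃ y : M, x = f ^ j • y := by
      intro j
      induction j with
      | zero => exact ⟨x, by simp⟩
      | succ j ih =>
        obtain ⟨y, hy⟩ := ih
        have h2 : y ∈ f • (⊤ : Submodule A M) := h (j + 1) y (by
          have h3 : f ^ (j + 1) • y = 0 := by rw [pow_succ', mul_smul, ← hy, hx]
          rw [h3]; exact Submodule.zero_mem _)
        obtain ⟨z, -, hz⟩ := (Submodule.mem_smul_pointwise_iff_exists _ _ _).1 h2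
        exact ⟨z, by rw [hy, ← hz, smul_smul, pow_succ]⟩
    have hmem : x ∈ (⨅ i : ℕ, Ideal.span {f} ^ i • (⊤ : Submodule A M)) := by
      rw [Submodule.mem_iInf]
      intro i
      obtain ⟨y, hy⟩ := key i
      rw [hy]
      exact Submodule.smul_mem_smul (Ideal.pow_mem_pow (Ideal.mem_span_singleton_self f) i) trivial
    obtain ⟨⟨r, hr⟩, hrx⟩ := (Ideal.mem_iInf_smul_pow_eq_bot_iff (Ideal.span {f}) x).1 hmem
    obtain ⟨a, rfl⟩ := Ideal.mem_span_singleton'.1 hr
    rw [← hrx]
    simp [mul_smul, hx]

end Groth.Agent.S5772
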