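import Groth.Statements.S5778
import Mathlib
import Groth.Agent.Misc9.HSDim
import Groth.Agent.OrdVal.QuasiRegular

set_option autoImplicit false
universe u
open EGA41

namespace Groth.Agent.S5778

open IsLocalRing MvPolynomial

theorem length_pow_quotient_step {A : Type u} [CommRing A] [IsRegularLocalRing A] {r : ℕ} (x : Fin r → A)
    (hx : Ideal.span (Set.range x) = maximalIdeal A) (hr : (maximalIdeal A).spanFinrank = r) (j : ℕ) :
    Module.length A (A ⧸ maximalIdeal A ^ (j + 1)) =
      ((r + j - 1).choose j : ℕ∞) + Module.length A (A ⧸ maximalIdeal A ^ j) := by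
  classical
  let S := (Finset.univ : Finset (Fin r)).finsuppAntidiag j
  have hS : ∀ d : Fin r →₀ ℕ, d ∈ S ↔ d.degree = j := fun d => by
    simp [S, Finsupp.degree_eq_sum]
  let G : (S → A) →ₗ[A] MvPolynomial (Fin r) A :=
    ∑ d : S, (monomial d.1 : A →ₗ[A] MvPolynomial (Fin r) A).comp (LinearMap.proj d)
  have hGc : ∀ c (d : S), (G c).coeff d.1 = c d := fun c d => by
    simp only [G, LinearMap.coe_sum, Finset.sum_apply, LinearMap.comp_apply, LinearMap.proj_apply, coeff_sum,
      coeff_monomial]
    rw [Finset.sum_eq_single d (fun e _ he => if_neg fun h => he (Subtype.ext h)) (by simp)]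
    exact if_pos rfl
  have hGh : ∀ c, (G c).IsHomogeneous j := fun c => by
    simp only [G, LinearMap.coe_sum, Finset.sum_apply, LinearMap.comp_apply, LinearMap.proj_apply]
    exact IsHomogeneous.sum _ _ _ fun d _ => isHomogeneous_monomial _ ((hS d.1).1 d.2)
  let ψ : (S → A) →ₗ[A] A ⧸ maximalIdeal A ^ (j + 1) :=
    (Submodule.mkQ (maximalIdeal A ^ (j + 1) : Ideal A)).comp ((MvPolynomial.aeval x).toLinearMap.comp G)
  have hψ : ∀ c, ψ c = Ideal.Quotient.mk _ (eval x (G c)) := fun c => by
    simp [ψ, MvPolynomial.aeval_eq_eval]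
  have hxm : ∀ i, x i ∈ maximalIdeal A := fun i => hx ▸ Ideal.subset_span ⟨i, rfl⟩
  let f : (S → A) →ₗ[A] (S → ResidueField A) := LinearMap.pi fun d => (Algebra.linearMap A (ResidueField A)).comp (LinearMap.proj d)
  have hf : Function.Surjective f := fun c => ⟨fun d => Classical.choose (residue_surjective (c d)),
    funext fun d => Classical.choose_spec (residue_surjective (c d))⟩
  have hker : LinearMap.ker ψ = LinearMap.ker f := by
    ext c
    simp only [LinearMap.mem_ker, hψ, Ideal.Quotient.eq_zero_iff_mem]
    constructor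
    · intro h
      funext d
      have h1 := OrdVal.coeff_mem r A x hx hr j (G c) (hGh c) h d.1
      rw [hGc] at h1
      exact (residue_eq_zero_iff _).2 h1
    · intro h
      have hc : ∀ d, c d ∈ maximalIdeal A := fun d => (residue_eq_zero_iff _).1 (congrFun h d)
      simp only [G, LinearMap.coe_sum, Finset.sum_apply, LinearMap.comp_apply, LinearMap.proj_apply, map_sum]
      refine Ideal.sum_mem _ fun d _ => ?_
      rw [show monomial d.1 (c d) = C (c d) * monomial d.1 1 by rw [C_mul_monomial, mul_one], map_mul, eval_C, pow_succ']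
      exact Ideal.mul_mem_mul (hc d) (OrdVal.eval_mem_pow x _ hxm _ (isHomogeneous_monomial _ ((hS d.1).1 d.2)))
  have hle : maximalIdeal A ^ (j + 1) ≤ maximalIdeal A ^ j := Ideal.pow_le_pow_right j.le_succ
  have hrange : LinearMap.range ψ = LinearMap.ker (Submodule.factor hle) := by
    ext y
    obtain ⟨a, rfl⟩ := Ideal.Quotient.mk_surjective y
    rw [LinearMap.mem_ker, LinearMap.mem_range]
    change (∃ c, ψ c = _) ↔ Ideal.Quotient.mk (maximalIdeal A ^ j) a = 0
    rw [Ideal.Quotient.eq_zero_iff_mem]
    constructor
    · rintro ⟨c, hc⟩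
      rw [hψ, Ideal.Quotient.eq] at hc
      have h1 : eval x (G c) ∈ maximalIdeal A ^ j := OrdVal.eval_mem_pow x _ hxm _ (hGh c)
      simpa using sub_mem h1 (hle hc)
    · intro ha
      obtain ⟨F, hF, rfl⟩ := OrdVal.exists_form x j a (by rwa [hx])
      refine ⟨fun d => F.coeff d.1, ?_⟩
      rw [hψ]
      congr 2
      ext d
      by_cases hd : d ∈ S
      · exact hGc _ ⟨d, hd⟩
      · rw [(hGh _).coeff_eq_zero (fun h => hd ((hS d).2 h)), hF.coeff_eq_zero (fun h => hd ((hS d).2 h))]
  rw [Module.length_eq_add_of_exact (LinearMap.ker (Submodule.factor hle)).subtype (Submodule.factor hle)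
    (Submodule.subtype_injective _) (Submodule.factor_surjective hle) (LinearMap.exact_subtype_ker_map _), ← hrange]
  congr 1
  rw [← (LinearMap.quotKerEquivRange ψ).length_eq, hker, (f.quotKerEquivOfSurjective hf).length_eq,
    Module.length_pi_of_fintype]
  haveI : IsSimpleModule A (ResidueField A) :=
    isSimpleModule_iff_quot_maximal.2 ⟨maximalIdeal A, inferInstance, ⟨LinearEquiv.refl A _⟩⟩
  simp only [Module.length_eq_one, Finset.sum_const, Finset.card_univ, nsmul_one, Fintype.card_coe]
  rw [show S.card = (r + j - 1).choose j from (Finset.card_finsuppAntidiag_nat_eq_choose j).trans (by simp)]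


/-- Let A be a Noetherian local ring with maximal ideal m, residue field k, and let r be the dimension
of the k-vector space m/m². Then A is regular if and only if the canonical surjection of graded
k-algebras from the symmetric algebra of m/m² onto the associated graded ring of A for the m-adic
filtration is bijective. Since that surjection is bijective exactly when source and target have the
same length in every degree, the condition is expressed here as: length_A(A/m^(s+1)) equals the
binomial coefficient C(s+r, r) for every s ≥ 0. -/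
theorem result (A : Type u) [CommRing A] [IsLocalRing A]
    [IsNoetherianRing A] :
    IsRegularLocalRing A ↔
      ∀ s : ℕ, Module.length A (A ⧸ IsLocalRing.maximalIdeal A ^ (s + 1)) =
        ((s + Module.finrank (IsLocalRing.ResidueField A) (IsLocalRing.CotangentSpace A)).choose s : ℕ∞) := by
  classical
  set r := Module.finrank (IsLocalRing.ResidueField A) (IsLocalRing.CotangentSpace A) with hrdef
  have hr : (IsLocalRing.maximalIdeal A).spanFinrank = r :=
    IsLocalRing.spanFinrank_maximalIdeal_eq_finrank_cotangentSpace A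
  constructor
  · intro hreg s
    obtain ⟨t, ht, hts⟩ := Submodule.FG.exists_span_finset_card_eq_spanFinrank
      (IsNoetherian.noetherian (IsLocalRing.maximalIdeal A))
    let e : Fin r ≃ t := (Fin.castOrderIso (hr.symm.trans ht.symm)).toEquiv.trans t.equivFin.symm
    let x : Fin r → A := fun i => (e i).1
    have hx : Ideal.span (Set.range x) = IsLocalRing.maximalIdeal A := by
      rw [← hts]
      congr 1
      ext a
      exact ⟨fun ⟨i, hi⟩ => hi ▸ (e i).2, fun ha => ⟨e.symm ⟨a, ha⟩, by simp [x]⟩⟩
    induction s with
    | zero =>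
      rw [pow_one, zero_add, Nat.choose_zero_right, Nat.cast_one]
      haveI : IsSimpleModule A (A ⧸ IsLocalRing.maximalIdeal A) :=
        isSimpleModule_iff_quot_maximal.2 ⟨_, inferInstance, ⟨LinearEquiv.refl A _⟩⟩
      exact Module.length_eq_one A _
    | succ s ih =>
      rw [length_pow_quotient_step x hx hr (s + 1), ih, ← Nat.cast_add]
      congr 1
      rw [show r + (s + 1) - 1 = s + r by omega, show s + 1 + r = s + r + 1 by omega, Nat.choose_succ_succ]
      simp only [Nat.succ_eq_add_one]
      omega
  · intro h
    obtain ⟨P, ⟨N, hP⟩, hdim⟩ := Groth.Agent.Misc9.HSDim.exists_polynomial (A := A) (M := A)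
    rw [Module.supportDim_self_eq_ringKrullDim] at hdim
    have hdeg : r ≤ P.natDegree := Groth.Agent.Misc9.HSDim.le_natDegree_of_bound (C := (r.factorial : ℚ)) (by
      filter_upwards [Filter.eventually_ge_atTop (max N 1)] with n hn
      obtain ⟨s, rfl⟩ := Nat.exists_eq_add_of_le' (le_trans (le_max_right _ _) hn)
      obtain ⟨ℓ, hℓ, hℓe⟩ := hP (s + 1) (le_trans (le_max_left _ _) hn)
      rw [smul_eq_mul, Ideal.mul_top, IsLocalRing.ringJacobson_eq_maximalIdeal] at hℓ
      have : ℓ = (s + r).choose s := by exact_mod_cast hℓ.symm.trans (h s)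
      rw [← hℓe, this]
      have h1 : (s + 1) ^ r ≤ r.factorial * (s + r).choose s := by
        rw [show (s + r).choose s = (s + r).choose r from
          (Nat.choose_symm (Nat.le_add_left r s)).symm ▸ (by rw [Nat.add_sub_cancel]),
          ← Nat.ascFactorial_eq_factorial_mul_choose]
        exact Nat.pow_succ_le_ascFactorial _ _
      exact_mod_cast h1)
    refine IsRegularLocalRing.of_spanFinrank_maximalIdeal_le A ?_
    rw [hr, ← hdim]
    exact_mod_cast hdeg

end Groth.Agent.S5778
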