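import Groth.Statements.S5780
import Mathlib.RingTheory.Nakayama
import Mathlib.RingTheory.Ideal.AssociatedPrime.Finiteness
import Mathlib.RingTheory.LocalRing.MaximalIdeal.Basic
import Mathlib.RingTheory.Ideal.Operations

set_option autoImplicit false
universe u
open EGA41

namespace Groth.Agent.S5780

/-- Let A be a Noetherian local ring with maximal ideal m. If every element of m which is not in m² is a
zero divisor in A, then there is a nonzero c in A with c m = 0, i.e. m is an associated prime of A. -/
theorem result (A : Type u) [CommRing A]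
    [IsLocalRing A] [IsNoetherianRing A]
    (h : ∀ a ∈ IsLocalRing.maximalIdeal A, a ∉ IsLocalRing.maximalIdeal A ^ 2 → ¬ IsSMulRegular A a) :
    IsLocalRing.maximalIdeal A ∈ associatedPrimes A A := by
  classical
  have key : ∃ p ∈ associatedPrimes A A, IsLocalRing.maximalIdeal A ≤ p := by
    have hsub : ((IsLocalRing.maximalIdeal A : Ideal A) : Set A) ⊆
        ⋃ i ∈ (↑(insert (IsLocalRing.maximalIdeal A ^ 2) (associatedPrimes.finite A A).toFinset) : Set (Ideal A)), (i : Set A) := by
      intro a ha
      by_cases ha2 : a ∈ IsLocalRing.maximalIdeal A ^ 2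
      · exact Set.mem_biUnion (Finset.mem_coe.2 (Finset.mem_insert_self _ _)) ha2
      · have : a ∈ ((nonZeroDivisors A : Submonoid A) : Set A)ᶜ := fun hn =>
          h a ha ha2 (isSMulRegular_iff_right_eq_zero_of_smul.2 fun x hx => by
            rw [smul_eq_mul, mul_comm] at hx
            exact (mem_nonZeroDivisors_iff_right.1 hn) x hx)
        rw [← biUnion_associatedPrimes_eq_compl_nonZeroDivisors] at this
        obtain ⟨p, hp, hap⟩ := Set.mem_iUnion₂.1 this
        exact Set.mem_biUnion (Finset.mem_coe.2 (Finset.mem_insert_of_mem ((associatedPrimes.finite A A).mem_toFinset.2 hp))) hap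
    obtain ⟨i, hi, hle⟩ := (Ideal.subset_union_prime (IsLocalRing.maximalIdeal A ^ 2) (IsLocalRing.maximalIdeal A ^ 2)
      (fun i hi h1 _ => by
        rcases Finset.mem_insert.1 hi with rfl | hi
        · exact absurd rfl h1
        · exact ((associatedPrimes.finite A A).mem_toFinset.1 hi).isPrime)).1 hsub
    rcases Finset.mem_insert.1 hi with rfl | hi
    · have hbot := Submodule.eq_bot_of_le_smul_of_le_jacobson_bot (IsLocalRing.maximalIdeal A) (IsLocalRing.maximalIdeal A)
        (IsNoetherian.noetherian _) (by rwa [sq] at hle) (IsLocalRing.maximalIdeal_le_jacobson ⊥)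
      obtain ⟨p, hp⟩ := associatedPrimes.nonempty A A
      exact ⟨p, hp, hbot ▸ bot_le⟩
    · exact ⟨i, (associatedPrimes.finite A A).mem_toFinset.1 hi, hle⟩
  obtain ⟨p, hp, hle⟩ := key
  exact ((IsLocalRing.maximalIdeal.isMaximal A).eq_of_le hp.isPrime.ne_top hle) ▸ hp

end Groth.Agent.S5780
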