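import Groth.Statements.S5784
import Mathlib
import Groth.Agent.Lead.CyclicCover.Regular
import Groth.Agent.RegularLocal.GlobalDim

set_option autoImplicit false
universe u
open EGA41

namespace Groth.Agent.S5784

theorem powerSeries_regular (A : Type u) [CommRing A] [IsRegularRing A] : IsRegularRing (PowerSeries A) := by
  haveI : IsNoetherianRing (PowerSeries A) := inferInstance
  haveI : IsRegularRing (PowerSeries A ⧸ Ideal.span {(PowerSeries.X : PowerSeries A)}) := by
    have hk : RingHom.ker (PowerSeries.constantCoeff (R := A)) = Ideal.span {PowerSeries.X} := by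
      ext f
      rw [RingHom.mem_ker, Ideal.mem_span_singleton, PowerSeries.X_dvd_iff]
    exact IsRegularRing.of_ringEquiv ((Ideal.quotEquivOfEq hk.symm).trans
      (RingHom.quotientKerEquivOfSurjective PowerSeries.constantCoeff_surj)).symm
  rw [isRegularRing_iff]
  intro Q _
  obtain ⟨M, hM, hQM⟩ := Ideal.exists_le_maximal Q (Ideal.IsPrime.ne_top inferInstance)
  have hX : (PowerSeries.X : PowerSeries A) ∈ M := by
    have hj : (PowerSeries.X : PowerSeries A) ∈ (⊥ : Ideal (PowerSeries A)).jacobson := by
      rw [Ideal.mem_jacobson_bot]
      intro y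
      rw [PowerSeries.isUnit_iff_constantCoeff]
      simp
    rw [Ideal.jacobson, Submodule.mem_sInf] at hj
    exact hj M ⟨bot_le, hM⟩
  haveI := Groth.Agent.Lead.CyclicCover.regular_localization_of_quotient (PowerSeries.X : PowerSeries A)
    (mem_nonZeroDivisors_iff_right.2 fun f hf => PowerSeries.ext fun n => by
      have := congrArg (PowerSeries.coeff (n + 1)) hf
      simpa using this) M hX
  let S := Localization.AtPrime M
  let p : Ideal S := Q.map (algebraMap (PowerSeries A) S)
  have hd : Disjoint (M.primeCompl : Set (PowerSeries A)) Q := Set.disjoint_left.2 fun x hx hxQ => hx (hQM hxQ)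
  haveI : p.IsPrime := IsLocalization.isPrime_of_isPrime_disjoint M.primeCompl S Q inferInstance hd
  have hp : p.comap (algebraMap (PowerSeries A) S) = Q :=
    IsLocalization.comap_map_of_isPrime_disjoint M.primeCompl S inferInstance hd
  haveI := Groth.Agent.RegularLocal.GlobalDim.isRegularLocalRing_localization (R := S) p
  have hloc : IsLocalization (p.comap (algebraMap (PowerSeries A) S)).primeCompl (Localization.AtPrime p) :=
    IsLocalization.isLocalization_atPrime_localization_atPrime M.primeCompl p
  haveI : IsLocalization Q.primeCompl (Localization.AtPrime p) := by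
    simp only [hp] at hloc
    exact hloc
  exact IsRegularLocalRing.of_ringEquiv (R := Localization.AtPrime p)
    (IsLocalization.algEquiv Q.primeCompl (Localization.AtPrime p) (Localization.AtPrime Q)).toRingEquiv


/-- If A is a regular ring, then the formal power series ring A[[T_1, ..., T_n]] is regular, for every
n. -/
theorem result (A : Type u) [CommRing A] [IsRegularRing A] (n : ℕ) :
    IsRegularRing (MvPowerSeries (Fin n) A) := by
  induction n with
  | zero =>
    exact IsRegularRing.of_ringEquiv (MvPowerSeries.isEmptyEquiv (σ := Fin 0) (R := A)).symm.toRingEquiv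
  | succ n ih =>
    haveI := ih
    haveI := powerSeries_regular (MvPowerSeries (Fin n) A)
    exact IsRegularRing.of_ringEquiv (MvPowerSeries.finSuccEquiv A n).symm.toRingEquiv

end Groth.Agent.S5784
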