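import Groth.Statements.S5785
import Mathlib
import Groth.Agent.S0543
import Groth.Agent.EtaleLocal.Basic
import Groth.Agent.RegularLocal.GlobalDim

set_option autoImplicit false
universe u
open EGA41

namespace Groth.Agent.S5785

/-- Let A be a regular ring and J an ideal of A. Then the separated completion of A for the J-adic
topology is a regular ring. -/
theorem result (A : Type u) [CommRing A] [IsRegularRing A] (J : Ideal A) :
    IsRegularRing (AdicCompletion J A) := by
  let B := AdicCompletion J A
  have hfg : J.FG := IsNoetherian.noetherian J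
  haveI : IsNoetherianRing B := Groth.Agent.S0543.result A J
  haveI := AdicCompletion.isAdicComplete_self J hfg
  rw [isRegularRing_iff]
  intro Q _
  obtain ⟨M, hM, hQM⟩ := Ideal.exists_le_maximal Q (Ideal.IsPrime.ne_top inferInstance)
  have hJM : J.map (algebraMap A B) ≤ M :=
    (IsAdicComplete.le_jacobson_bot (J.map (algebraMap A B))).trans (sInf_le ⟨bot_le, hM⟩)
  let m := M.comap (algebraMap A B)
  have hsurj : Function.Surjective ((Ideal.Quotient.mk M).comp (algebraMap A B)) := by
    intro y
    obtain ⟨b, rfl⟩ := Ideal.Quotient.mk_surjective y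
    obtain ⟨a, ha⟩ := Ideal.Quotient.mk_surjective (AdicCompletion.evalOneₐ J b)
    refine ⟨a, Ideal.Quotient.eq.2 (hJM ?_)⟩
    rw [← AdicCompletion.ker_evalOneₐ_eq_map J hfg, RingHom.mem_ker, map_sub, sub_eq_zero]
    exact (RingHom.congr_fun (AdicCompletion.evalOneₐ_comp_algebraMap_eq_mk J) a).trans ha
  haveI hm : m.IsMaximal := by
    have : m = RingHom.ker ((Ideal.Quotient.mk M).comp (algebraMap A B)) := by
      rw [RingHom.ker_eq_comap_bot, ← Ideal.comap_comap, ← RingHom.ker_eq_comap_bot, Ideal.mk_ker]
    rw [this]
    letI := Ideal.Quotient.field M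
    exact RingHom.ker_isMaximal_of_surjective _ hsurj
  have hJm : J ≤ m := Ideal.map_le_iff_le_comap.1 hJM
  have hmap : m.map (algebraMap A B) = M :=
    (AdicCompletion.isMaximal_map_of_le J m hJm hfg).eq_of_le hM.ne_top (Ideal.map_le_iff_le_comap.2 le_rfl)
  haveI : M.LiesOver m := ⟨rfl⟩
  letI := Localization.AtPrime.algebraOfLiesOver m M
  haveI : IsRegularLocalRing (Localization.AtPrime m) := IsRegularRing.isRegularLocalRing_localization m
  haveI : IsRegularLocalRing (Localization.AtPrime M) := by
    refine (Groth.Agent.EtaleLocal.Basic.isRegularLocalRing_iff (R := Localization.AtPrime m) ?_).1 inferInstance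
    rw [← Localization.AtPrime.map_eq_maximalIdeal, Ideal.map_map, ← IsScalarTower.algebraMap_eq,
      IsScalarTower.algebraMap_eq A B (Localization.AtPrime M), ← Ideal.map_map, hmap,
      Localization.AtPrime.map_eq_maximalIdeal]
  let S := Localization.AtPrime M
  let p : Ideal S := Q.map (algebraMap B S)
  have hd : Disjoint (M.primeCompl : Set B) Q := Set.disjoint_left.2 fun x hx hxQ => hx (hQM hxQ)
  haveI : p.IsPrime := IsLocalization.isPrime_of_isPrime_disjoint M.primeCompl S Q inferInstance hd
  have hp : p.comap (algebraMap B S) = Q :=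
    IsLocalization.comap_map_of_isPrime_disjoint M.primeCompl S inferInstance hd
  haveI := Groth.Agent.RegularLocal.GlobalDim.isRegularLocalRing_localization (R := S) p
  have hloc : IsLocalization (p.comap (algebraMap B S)).primeCompl (Localization.AtPrime p) :=
    IsLocalization.isLocalization_atPrime_localization_atPrime M.primeCompl p
  haveI : IsLocalization Q.primeCompl (Localization.AtPrime p) := by
    simp only [hp] at hloc
    exact hloc
  exact IsRegularLocalRing.of_ringEquiv (R := Localization.AtPrime p)
    (IsLocalization.algEquiv Q.primeCompl (Localization.AtPrime p) (Localization.AtPrime Q)).toRingEquiv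

end Groth.Agent.S5785
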