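import Groth.Statements.S5792
import Mathlib
import Groth.Agent.TopDim.Basic

set_option autoImplicit false
universe u
open TopDim

namespace Groth.Agent.S5792

open Set TopologicalSpace Groth.Agent.TopDim.Basic

/-- For every topological space X one has dim(X) = sup_{x ∈ X} dim_x(X), the supremum of the local
combinatorial dimensions. -/
theorem result (X : Type u) [TopologicalSpace X] :
    topologicalKrullDim X = ⨆ x : X, FlatMor.localDim X x := by
  refine le_antisymm (dim_le fun s => ?_) (iSup_le localDim_le_dim)
  obtain ⟨z, hz⟩ := s.head.isIrreducible.nonempty
  exact (length_le_localDim s hz).trans (le_iSup (fun x => FlatMor.localDim X x) z)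

end Groth.Agent.S5792
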