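import Groth.Statements.S5794
import Mathlib
import Groth.Agent.TopDim.Basic

set_option autoImplicit false
universe u
open TopDim

namespace Groth.Agent.S5794

open Set TopologicalSpace Groth.Agent.TopDim.Basic

/-- Let X be a nonempty Noetherian Kolmogoroff space. Then dim(X) = 0 if and only if X is finite and
discrete. -/
theorem result (X : Type u) [TopologicalSpace X]
    [TopologicalSpace.NoetherianSpace X] [T0Space X] [Nonempty X] :
    topologicalKrullDim X = 0 ↔ Finite X ∧ DiscreteTopology X := by
  refine ⟨fun h => finite_discrete h.le, fun ⟨_, hd⟩ =>
    le_antisymm (topologicalKrullDim_zero_of_discreteTopology X) dim_nonneg⟩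

end Groth.Agent.S5794
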