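import Groth.Statements.S5795
import Mathlib
import Groth.Agent.TopDim.Basic

set_option autoImplicit false
universe u
open TopDim

namespace Groth.Agent.S5795

open Set TopologicalSpace Groth.Agent.TopDim.Basic

/-- Let X be a Noetherian Kolmogoroff space and x a point of X. Then x is isolated in X if and only if
dim_x(X) = 0. -/
theorem result (X : Type u) [TopologicalSpace X]
    [TopologicalSpace.NoetherianSpace X] [T0Space X] (x : X) :
    IsOpen ({x} : Set X) ↔ FlatMor.localDim X x = 0 := by
  constructor
  · intro h
    haveI : Subsingleton ((⟨{x}, h⟩ : Opens X) : Set X) :=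
      ⟨fun a b => Subtype.ext ((mem_singleton_iff.mp a.2).trans (mem_singleton_iff.mp b.2).symm)⟩
    refine le_antisymm ((localDim_le x ⟨{x}, h⟩ rfl).trans (topologicalKrullDim_zero_of_discreteTopology _))
      (le_iInf fun U => ?_)
    haveI : Nonempty (U.1 : Set X) := ⟨⟨x, U.2⟩⟩
    exact dim_nonneg
  · intro h
    obtain ⟨U, hxU, hU⟩ := exists_localDim x
    obtain ⟨_, hd⟩ := finite_discrete (X := (U : Set X)) (hU.trans h).le
    have h2 := U.isOpen.isOpenMap_subtype_val {(⟨x, hxU⟩ : (U : Set X))} (isOpen_discrete _)
    rwa [image_singleton] at h2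

end Groth.Agent.S5795
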