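import Groth.Statements.S5799
import Mathlib
import Groth.Agent.TopDim.Basic

set_option autoImplicit false
universe u
open TopDim

namespace Groth.Agent.S5799

open Set TopologicalSpace Groth.Agent.TopDim.Basic

/-- If (X_i) is a locally finite covering of a topological space X by closed subsets, then dim(X) =
sup_i dim(X_i). -/
theorem result (X : Type u) [TopologicalSpace X]
    (ι : Type u) (Y : ι → Set X) (hY : ∀ i, IsClosed (Y i)) (hlf : LocallyFinite Y) (hcov : ⋃ i, Y i = Set.univ) :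
    topologicalKrullDim X = ⨆ i, topologicalKrullDim (Y i) := by
  refine dim_eq_of_closed_cover Y fun Z => ?_
  obtain ⟨z, hz⟩ := Z.isIrreducible.nonempty
  obtain ⟨V, hV, hfin⟩ := hlf z
  obtain ⟨U, hUV, hU, hzU⟩ := mem_nhds_iff.mp hV
  haveI := hfin.to_subtype
  have hsub : (Z : Set X) ∩ U ⊆ ⋃ i : {i | (Y i ∩ V).Nonempty}, Y i := by
    rintro w ⟨_, hwU⟩
    obtain ⟨i, hi⟩ := mem_iUnion.mp (hcov.symm.subset (mem_univ w))
    exact mem_iUnion.mpr ⟨⟨i, w, hi, hUV hwU⟩, hi⟩
  obtain ⟨i, hi⟩ := exists_subset (fun i : {i | (Y i ∩ V).Nonempty} => Y i) (fun i => hY i)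
    Z.isIrreducible ((subset_closure_inter_of_isPreirreducible_of_isOpen Z.isIrreducible.isPreirreducible
      hU ⟨z, hz, hzU⟩).trans (closure_minimal hsub (isClosed_iUnion_of_finite fun i => hY i)))
  exact ⟨i, hi⟩

end Groth.Agent.S5799
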