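import Groth.Statements.S5800
import Mathlib
import Groth.Agent.TopDim.Basic

set_option autoImplicit false
universe u
open TopDim

namespace Groth.Agent.S5800

open Set TopologicalSpace Groth.Agent.TopDim.Basic

/-- Let X be a topological space, x a point of X and (Y_i) a finite family of closed subsets each
containing x whose union is X. Then dim_x(X) = sup_i dim_x(Y_i). (The published statement lets the
Y_i be closed subsets of a neighbourhood U of x covering U; this row is the case U = X.) -/
theorem result (X : Type u) [TopologicalSpace X] (x : X)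
    (ι : Type u) [Finite ι] (Y : ι → Set X) (hY : ∀ i, IsClosed (Y i)) (hx : ∀ i, x ∈ Y i)
    (hcov : ⋃ i, Y i = Set.univ) :
    FlatMor.localDim X x = ⨆ i, FlatMor.localDim (Y i) ⟨x, hx i⟩ := by
  refine le_antisymm ?_ (iSup_le fun i => le_iInf fun V => ?_)
  · choose W hxW hW using fun i => exists_localDim (X := Y i) ⟨x, hx i⟩
    choose W' hW'o hW' using fun i => isOpen_induced_iff.mp (W i).isOpen
    let V : Opens X := ⟨⋂ i, W' i, isOpen_iInter_of_finite hW'o⟩
    have hxV : x ∈ V := mem_iInter.mpr fun i => (Set.ext_iff.mp (hW' i) ⟨x, hx i⟩).mpr (hxW i)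
    refine (localDim_le x V hxV).trans ?_
    rw [dim_eq_of_finite_closed_cover (X := ↥(V : Set X)) (fun i => (Subtype.val : ↥(V : Set X) → X) ⁻¹' Y i)
      (fun i => (hY i).preimage continuous_subtype_val) (by rw [← preimage_iUnion, hcov, preimage_univ])]
    refine iSup_mono fun i => ?_
    rw [← hW i]
    refine Topology.IsInducing.topologicalKrullDim_le
      (f := fun z : ((Subtype.val : ↥(V : Set X) → X) ⁻¹' Y i : Set ↥(V : Set X)) =>
        (⟨⟨z.1.1, z.2⟩, (Set.ext_iff.mp (hW' i) ⟨z.1.1, z.2⟩).mp (mem_iInter.mp z.1.2 i)⟩ : (W i : Set (Y i)))) ?_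
    exact ((Topology.IsInducing.subtypeVal.comp Topology.IsInducing.subtypeVal).codRestrict
      (s := Y i) fun z => z.2).codRestrict _
  · refine (localDim_le (X := Y i) ⟨x, hx i⟩ ⟨Subtype.val ⁻¹' (V.1 : Set X),
      V.1.isOpen.preimage continuous_subtype_val⟩ V.2).trans ?_
    refine Topology.IsInducing.topologicalKrullDim_le
      (f := fun z : ((Subtype.val : Y i → X) ⁻¹' (V.1 : Set X) : Set (Y i)) => (⟨z.1.1, z.2⟩ : (V.1 : Set X))) ?_
    exact (Topology.IsInducing.subtypeVal.comp Topology.IsInducing.subtypeVal).codRestrict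
      (s := (V.1 : Set X)) fun z => z.2

end Groth.Agent.S5800
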