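import Groth.Statements.S5801
import Mathlib.AlgebraicGeometry.Morphisms.FlatDescent
import Mathlib.AlgebraicGeometry.Morphisms.QuasiSeparated
import Mathlib.AlgebraicGeometry.Geometrically.Irreducible
import Mathlib.AlgebraicGeometry.Geometrically.Connected
import Mathlib.AlgebraicGeometry.Limits
import Mathlib.AlgebraicGeometry.IdealSheaf.Basic
import Mathlib.AlgebraicGeometry.Noetherian
import Mathlib.Algebra.Category.Ring.FilteredColimits
import Mathlib.RingTheory.Regular.IsSMulRegular
import Mathlib.Algebra.Module.Submodule.Pointwise

set_option autoImplicit false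
universe u
open scoped Pointwise
open EGA41

namespace Groth.Agent.S5801

/-- Let A be a ring, M an A-module and f ∈ A, and consider the canonical surjection (M/fM)[T] → gr(M)
for the (f)-adic filtration, whose injectivity says: for all k ≥ 0 and x ∈ M, f^k x ∈ f^(k+1) M
implies x ∈ fM. If f is M-regular this map is bijective; conversely, if it is bijective and M is
separated for the (f)-adic topology (the intersection of the f^k M is zero), then f is M-regular. -/
theorem result (A : Type u) [CommRing A] (M : Type u)
    [AddCommGroup M] [Module A M] (f : A) :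
    (IsSMulRegular M f →
        ∀ (k : ℕ) (x : M), f ^ k • x ∈ f ^ (k + 1) • (⊤ : Submodule A M) → x ∈ f • (⊤ : Submodule A M)) ∧
      ((⨅ k : ℕ, f ^ k • (⊤ : Submodule A M)) = ⊥ →
        (∀ (k : ℕ) (x : M), f ^ k • x ∈ f ^ (k + 1) • (⊤ : Submodule A M) → x ∈ f • (⊤ : Submodule A M)) →
          IsSMulRegular M f) := by
  constructor
  · intro hf k x hx
    rw [Submodule.mem_smul_pointwise_iff_exists] at hx
    obtain ⟨y, -, hy⟩ := hx
    rw [Submodule.mem_smul_pointwise_iff_exists]
    refine ⟨y, trivial, hf.pow k ?_⟩
    simp only [← mul_smul]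
    rw [← pow_succ]; exact hy
  · intro hbot h
    rw [isSMulRegular_iff_right_eq_zero_of_smul]
    intro x hx
    have : ∀ k, x ∈ f ^ k • (⊤ : Submodule A M) := by
      intro k
      induction k with
      | zero => simp [Submodule.mem_smul_pointwise_iff_exists]
      | succ k ih =>
        rw [Submodule.mem_smul_pointwise_iff_exists] at ih
        obtain ⟨y, -, rfl⟩ := ih
        have : y ∈ f • (⊤ : Submodule A M) := by
          apply h (k+1) y
          have e : f ^ (k + 1) • y = 0 := by rw [pow_succ', mul_smul, hx]
          rw [e]
          exact zero_mem _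
        rw [Submodule.mem_smul_pointwise_iff_exists] at this ⊢
        obtain ⟨z, -, rfl⟩ := this
        exact ⟨z, trivial, by rw [pow_succ, mul_smul]⟩
    have := (Submodule.mem_iInf _).mpr this
    rwa [hbot, Submodule.mem_bot] at this

end Groth.Agent.S5801
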