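import Groth.Statements.S5805
import Groth.Agent.RegularLocal.GlobalDim

set_option autoImplicit false
universe u
open IsLocalRing CategoryTheory Abelian
open scoped Pointwise

namespace Groth.Agent.S5805
open Groth.Agent.RegularLocal.Basic Groth.Agent.RegularLocal.GlobalDim

theorem residue_quotient {R : Type u} [CommRing R] [IsLocalRing R] [IsNoetherianRing R] {x : R}
    (hx : x ∈ maximalIdeal R) (hx2 : x ∉ maximalIdeal R ^ 2) (hreg : IsSMulRegular R x) (n : ℕ)
    [IsLocalRing (R ⧸ Ideal.span {x})]
    (h : HasProjectiveDimensionLT (ModuleCat.of R (R ⧸ maximalIdeal R)) (n + 2)) :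
    HasProjectiveDimensionLT (ModuleCat.of (R ⧸ Ideal.span {x})
      ((R ⧸ Ideal.span {x}) ⧸ maximalIdeal (R ⧸ Ideal.span {x}))) (n + 1) := by
  have hregm : IsSMulRegular (maximalIdeal R) x :=
    fun a b hab => Subtype.ext (hreg (congrArg Subtype.val hab))
  haveI : IsLocalRing (R ⧸ Ideal.span {x}) := isLocalRing_quotient
    (ne_top_of_le_maximalIdeal ((Ideal.span_singleton_le_iff_mem _).2 hx))
  haveI : Module.Finite R (maximalIdeal R) := Module.Finite.iff_fg.2 (IsNoetherian.noetherian _)
  -- the maximal ideal has finite projective dimension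
  have hm : HasProjectiveDimensionLT (ModuleCat.of R (maximalIdeal R)) (n + 1) := by
    have h2 := h
    exact pdLT_congr (LinearEquiv.ofEq _ _ (maximalIdeal R).ker_mkQ)
      ((pdLT_syzygy (maximalIdeal R).mkQ (maximalIdeal R).mkQ_surjective n).1 h2)
  rw [pdLT_quotSMulTop hx hreg n _ hregm] at hm
  -- the residue field is a direct summand of `m / x m`
  let xm : maximalIdeal R := ⟨x, hx⟩
  obtain ⟨ψ, hψ⟩ := Module.Projective.exists_dual_eq_one (ResidueField R)
    (x := ((maximalIdeal R).toCotangent xm : CotangentSpace R))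
    (fun h0 => hx2 ((Ideal.toCotangent_eq_zero _ _).1 h0))
  let θ : ResidueField R →ₗ[R]
      (R ⧸ Ideal.span {x}) ⧸ maximalIdeal (R ⧸ Ideal.span {x}) :=
    Submodule.liftQ (maximalIdeal R)
      (((maximalIdeal (R ⧸ Ideal.span {x})).mkQ.restrictScalars R) ∘ₗ
        Algebra.linearMap R (R ⧸ Ideal.span {x})) (fun a ha => by
          rw [LinearMap.mem_ker]
          show Submodule.Quotient.mk _ = 0
          rw [Submodule.Quotient.mk_eq_zero, ← map_maximalIdeal_quotient]
          exact Ideal.mem_map_of_mem _ ha)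
  let φ : maximalIdeal R →ₗ[R] (R ⧸ Ideal.span {x}) ⧸ maximalIdeal (R ⧸ Ideal.span {x}) :=
    θ ∘ₗ ψ.restrictScalars R ∘ₗ (maximalIdeal R).toCotangent
  have hφx : φ xm = Submodule.Quotient.mk 1 := by
    show θ (ψ _) = _
    rw [hψ]
    show Submodule.Quotient.mk (algebraMap R (R ⧸ Ideal.span {x}) 1) = _
    rw [map_one]
  have hkill : x • (⊤ : Submodule R (maximalIdeal R)) ≤ LinearMap.ker φ := by
    rintro a ha
    obtain ⟨b, -, rfl⟩ := (Submodule.mem_smul_pointwise_iff_exists _ _ _).1 ha
    rw [LinearMap.mem_ker, map_smul]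
    generalize φ b = c
    obtain ⟨c, rfl⟩ := Submodule.Quotient.mk_surjective _ c
    rw [← Submodule.Quotient.mk_smul, Submodule.Quotient.mk_eq_zero, Algebra.smul_def,
      Ideal.Quotient.algebraMap_eq, Ideal.Quotient.mk_singleton_self, zero_mul]
    exact zero_mem _
  have hsurj : Function.Surjective (algebraMap R (R ⧸ Ideal.span {x})) :=
    Ideal.Quotient.mk_surjective
  let r : QuotSMulTop x (maximalIdeal R) →ₗ[R ⧸ Ideal.span {x}]
      (R ⧸ Ideal.span {x}) ⧸ maximalIdeal (R ⧸ Ideal.span {x}) :=
    (Submodule.liftQ _ φ hkill).extendScalarsOfSurjective hsurj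
  let i : (R ⧸ Ideal.span {x}) ⧸ maximalIdeal (R ⧸ Ideal.span {x}) →ₗ[R ⧸ Ideal.span {x}]
      QuotSMulTop x (maximalIdeal R) :=
    Submodule.liftQ _ (LinearMap.toSpanSingleton _ _ (Submodule.Quotient.mk xm)) (fun a ha => by
      rw [← map_maximalIdeal_quotient] at ha
      obtain ⟨b, hb, rfl⟩ := (Ideal.mem_map_iff_of_surjective _ Ideal.Quotient.mk_surjective).1 ha
      rw [LinearMap.mem_ker, LinearMap.toSpanSingleton_apply]
      show Submodule.Quotient.mk (b • xm) = 0
      rw [Submodule.Quotient.mk_eq_zero, show b • xm = x • (⟨b, hb⟩ : maximalIdeal R) from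
        Subtype.ext (mul_comm b x)]
      exact Submodule.smul_mem_pointwise_smul _ _ _ trivial)
  have hri : r ∘ₗ i = LinearMap.id := by
    apply Submodule.linearMap_qext
    apply LinearMap.ext_ring
    show r (i (Submodule.Quotient.mk 1)) = Submodule.Quotient.mk 1
    have : i (Submodule.Quotient.mk 1) = Submodule.Quotient.mk xm := by
      show LinearMap.toSpanSingleton (R ⧸ Ideal.span {x}) (QuotSMulTop x (maximalIdeal R))
        (Submodule.Quotient.mk (p := x • (⊤ : Submodule R (maximalIdeal R))) xm) 1 = _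
      rw [LinearMap.toSpanSingleton_apply, one_smul]
    rw [this]
    exact hφx
  have hk : HasProjectiveDimensionLT (ModuleCat.of (R ⧸ Ideal.span {x})
      ((R ⧸ Ideal.span {x}) ⧸ maximalIdeal (R ⧸ Ideal.span {x}))) (n + 1) :=
    (Retract.mk (ModuleCat.ofHom i) (ModuleCat.ofHom r)
      (ModuleCat.hom_ext hri)).hasProjectiveDimensionLT (n + 1)
  exact hk

theorem spanFinrank_le (d : ℕ) : ∀ (R : Type u) [CommRing R] [IsRegularLocalRing R] (n : ℕ),
    HasProjectiveDimensionLT (ModuleCat.of R (R ⧸ maximalIdeal R)) (n + 1) →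
    (maximalIdeal R).spanFinrank = d → d ≤ n := by
  induction d with
  | zero => intro R _ _ n _ _; omega
  | succ d ih =>
    intro R _ _ n h hd
    have hne : maximalIdeal R ≠ ⊥ := fun h => by
      rw [h, Submodule.spanFinrank_bot] at hd; omega
    have hsq : ¬ maximalIdeal R ≤ maximalIdeal R ^ 2 := by
      intro h
      refine hne (Submodule.eq_bot_of_le_smul_of_le_jacobson_bot (maximalIdeal R) _
        (maximalIdeal R).fg_of_isNoetherianRing ?_ (maximalIdeal_le_jacobson ⊥))
      rwa [smul_eq_mul, ← pow_two]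
    obtain ⟨x, hx, hx2⟩ := SetLike.not_le_iff_exists.1 hsq
    haveI : IsDomain R := isDomain
    have hx0 : x ≠ 0 := fun h => hx2 (h ▸ zero_mem _)
    have hreg : IsSMulRegular R x := fun a b hab => mul_left_cancel₀ hx0 hab
    obtain ⟨l, hl, hgen⟩ := exists_generators_cons hx hx2
    obtain ⟨hR', hdim⟩ := quotient_of_generators [x] l hgen (by simpa [add_comm] using hl.le)
    rw [Ideal.ofList_singleton] at hR' hdim
    haveI := hR'
    rw [← IsRegularLocalRing.spanFinrank_maximalIdeal] at hdim
    have hd' : (maximalIdeal (R ⧸ Ideal.span {x})).spanFinrank = d := by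
      have : (maximalIdeal (R ⧸ Ideal.span {x})).spanFinrank = l.length := by exact_mod_cast hdim
      omega
    rcases n with _ | n
    · exfalso
      have : Module.Projective R (R ⧸ maximalIdeal R) := pdLT_one.1 h
      have : Module.Free R (R ⧸ maximalIdeal R) := Module.free_of_flat_of_isLocalRing
      let b := Module.Free.chooseBasis R (R ⧸ maximalIdeal R)
      obtain ⟨j⟩ := b.index_nonempty
      have h0 : x • b j = 0 := by
        obtain ⟨w, hw⟩ := Ideal.Quotient.mk_surjective (b j)
        rw [← hw, Algebra.smul_def, Ideal.Quotient.algebraMap_eq, ← map_mul,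
          Ideal.Quotient.eq_zero_iff_mem]
        exact Ideal.mul_mem_right _ _ hx
      exact hx0 (by simpa using congrArg (fun w => b.repr w j) h0)
    · have := ih (R ⧸ Ideal.span {x}) n (residue_quotient hx hx2 hreg n h) hd'
      omega

/-- S5805 -/
theorem result (A : Type u) [CommRing A] [IsLocalRing A] [IsNoetherianRing A] (n : ℕ) (hk : HasProjectiveDimensionLT (ModuleCat.of A (IsLocalRing.ResidueField A)) (n + 1)) (M : Type u) [AddCommGroup M] [Module A M] : HasProjectiveDimensionLT (ModuleCat.of A M) (n + 1) := by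
  haveI : IsRegularLocalRing A := isRegularLocalRing_of_pdLT (n + 1) hk
  haveI := pdLT (R := A) M
  have hd := spanFinrank_le _ A n hk rfl
  exact hasProjectiveDimensionLT_of_ge _ ((maximalIdeal A).spanFinrank + 1) (n + 1) (by omega)

end Groth.Agent.S5805
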