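import Groth.Statements.S5831
import Groth.Agent.Alg.PBasis.SmoothIff
import Mathlib.RingTheory.Unramified.Finite
import Mathlib.Algebra.Algebra.Epi
import Mathlib.RingTheory.Smooth.Basic

set_option autoImplicit false
universe u
open EGA41

namespace Groth.Agent.S5831
open TensorProduct Groth.Agent.Alg

/-- Discrete case. Let B be an A-algebra which is a projective A-module (A and B in one universe). If
for every B-module L in that universe every A-bilinear symmetric Hochschild 2-cocycle B × B → L is a
coboundary, then B is formally smooth over A. (The published statement assumes B formally projective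
as a topological A-module; for discrete rings this is projectivity.) -/
theorem result {A B : Type u} [CommRing A]
    [CommRing B] [Algebra A B] [Module.Projective A B]
    (h : ∀ (L : Type u) [AddCommGroup L] [Module B L] [Module A L] [IsScalarTower A B L]
      (f : B →ₗ[A] B →ₗ[A] L), (∀ x y : B, f x y = f y x) →
        (∀ x y z : B, f (x * y) z + z • f x y = x • f y z + f x (y * z)) →
          ∃ g : B →ₗ[A] L, ∀ x y : B, f x y = x • g y - g (x * y) + y • g x) :
    Algebra.FormallySmooth A B := by
  refine Algebra.FormallySmooth.of_comp_surjective fun E _ _ I hI u => ?_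
  have hI2 : ∀ a ∈ I, ∀ b ∈ I, a * b = 0 := fun a ha b hb => by
    have := Ideal.mul_mem_mul ha hb
    rwa [← sq, hI, Ideal.mem_bot] at this
  obtain ⟨l, hl⟩ := Module.projective_lifting_property (Ideal.Quotient.mkₐ A I).toLinearMap u.toLinearMap
    Ideal.Quotient.mk_surjective
  replace hl : ∀ x, Ideal.Quotient.mk I (l x) = u x := fun x => DFunLike.congr_fun hl x
  have hmod : ∀ {a a' : E} {m : E}, m ∈ I → Ideal.Quotient.mk I a = Ideal.Quotient.mk I a' → a * m = a' * m :=
    fun {a a' m} hm haa => by
      rw [← sub_eq_zero, ← sub_mul]; exact hI2 _ (Ideal.Quotient.eq.mp haa) _ hm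
  letI : SMul B I := ⟨fun b m => ⟨l b * m, I.mul_mem_left _ m.2⟩⟩
  have hs : ∀ (b : B) (m : I), ((b • m : I) : E) = l b * m := fun _ _ => rfl
  letI : Module B I := { smul := (· • ·)
                         one_smul := fun m => Subtype.ext (by
                           rw [hs, hmod m.2 (show Ideal.Quotient.mk I (l 1) = Ideal.Quotient.mk I 1 by rw [hl, map_one, map_one]), one_mul])
                         mul_smul := fun a b m => Subtype.ext (by
                           rw [hs, hs, hs, ← mul_assoc]
                           exact hmod m.2 (by simp only [map_mul (Ideal.Quotient.mk I), hl, map_mul u]))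
                         smul_zero := fun a => Subtype.ext (by rw [hs]; simp)
                         smul_add := fun a m n => Subtype.ext (by simp only [hs, Submodule.coe_add, mul_add])
                         add_smul := fun a b m => Subtype.ext (by simp only [hs, map_add, add_mul, Submodule.coe_add])
                         zero_smul := fun m => Subtype.ext (by rw [hs]; simp) }
  have : IsScalarTower A B I := ⟨fun a b m => Subtype.ext (by
    simp only [hs, map_smul, Submodule.coe_smul_of_tower, smul_mul_assoc])⟩
  let f : B →ₗ[A] B →ₗ[A] I := LinearMap.mk₂ A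
    (fun x y => ⟨l (x * y) - l x * l y, by
      rw [← Ideal.Quotient.eq_zero_iff_mem, map_sub, map_mul (Ideal.Quotient.mk I) (l x), hl, hl, hl, map_mul, sub_self]⟩)
    (fun x₁ x₂ y => Subtype.ext (by simp only [Submodule.coe_add, map_add, add_mul]; ring))
    (fun c x y => Subtype.ext (by simp only [Submodule.coe_smul_of_tower, map_smul, smul_mul_assoc, smul_sub]))
    (fun x y₁ y₂ => Subtype.ext (by simp only [Submodule.coe_add, map_add, mul_add]; ring))
    (fun c x y => Subtype.ext (by simp only [Submodule.coe_smul_of_tower, map_smul, mul_smul_comm, smul_sub]))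
  have hf : ∀ x y, (f x y : E) = l (x * y) - l x * l y := fun _ _ => rfl
  obtain ⟨g, hg⟩ := h I f (fun x y => Subtype.ext (by rw [hf, hf, mul_comm x y, mul_comm (l x)]))
    (fun x y z => Subtype.ext (by simp only [Submodule.coe_add, hs, hf]; rw [← mul_assoc]; ring))
  let v₀ : B →ₗ[A] E := l + (I.restrictScalars A).subtype.comp g
  have hv : ∀ x, v₀ x = l x + g x := fun _ => rfl
  have hgm : ∀ x y, v₀ (x * y) = v₀ x * v₀ y := fun x y => by
    have := congrArg Subtype.val (hg x y)
    simp only [Submodule.coe_add, AddSubgroupClass.coe_sub, hs, hf] at this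
    rw [hv, hv, hv]
    linear_combination this - hI2 _ (g x).2 _ (g y).2
  have hmk : ∀ x, Ideal.Quotient.mk I (v₀ x) = u x := fun x => by
    rw [hv, map_add, hl, Ideal.Quotient.eq_zero_iff_mem.mpr (g x).2, add_zero]
  have h1 : v₀ 1 = 1 := by
    have e : v₀ 1 * (v₀ 1 - 1) = 0 := by rw [mul_sub, mul_one, ← hgm, mul_one, sub_self]
    have hm : v₀ 1 - 1 ∈ I := by rw [← Ideal.Quotient.eq_zero_iff_mem, map_sub, hmk, map_one, map_one, sub_self]
    have hh := hI2 _ hm _ hm
    rw [sub_mul, one_mul, e, zero_sub, neg_eq_zero, sub_eq_zero] at hh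
    exact hh
  exact ⟨AlgHom.ofLinearMap v₀ h1 hgm, AlgHom.ext hmk⟩

end Groth.Agent.S5831
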