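import Groth.Statements.S5855
import Groth.Agent.ZClosure.Closed
import Groth.Agent.ModStalk.AssPoint
import Groth.Agent.S5752

set_option autoImplicit false
universe u
open ZClos

namespace Groth.Agent.S5855

open CategoryTheory CategoryTheory.Limits AlgebraicGeometry in
/-- For a locally Noetherian scheme X, a subset Z of X stable under specialization, a coherent
O_X-module F and a point x, F is Z-pure at x (the map induced on stalks at x by ρ_{X/Z} : F →
H⁰_{X/Z}(F) is injective) if and only if the stalk F_{x'} has depth at least 1 over O_{X,x'} at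
every generization x' of x lying in Z. -/
theorem result (X : Scheme.{u}) [IsLocallyNoetherian X] (Z : Set X)
    (hZ : StableUnderSpecialization Z) (F : X.Modules) (hF : Coh.IsCoh F) (x : X) :
    ZClos.IsZPureAt Z F x ↔
      ∀ x' : X, x' ⤳ x → x' ∈ Z → (1 : ℕ∞) ≤ LocCoh.depth (X.presheaf.stalk x') (F.presheaf.stalk x') := by
  have := hF.1
  have := hF.2
  have hdepth : ∀ y : X, ((1 : ℕ∞) ≤ LocCoh.depth (X.presheaf.stalk y) (F.presheaf.stalk y)) ↔
      ¬ Curv2.IsAssPoint F y := fun y => by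
    rw [Order.one_le_iff_pos, pos_iff_ne_zero]
    exact not_congr (Groth.Agent.S5752.result _ _)
  constructor
  · intro hinj x' hx' hx'Z
    rw [hdepth]
    intro hass
    obtain ⟨_, ⟨V, hV, rfl⟩, hxV, -⟩ :=
      X.isBasis_affineOpens.exists_subset_of_mem_open (Set.mem_univ x) isOpen_univ
    have hx'V : x' ∈ V := hx'.mem_open V.isOpen hxV
    have : IsNoetherianRing Γ(X, V) := IsLocallyNoetherian.component_noetherian ⟨V, hV⟩
    obtain ⟨hp, s, hs⟩ := isAssociatedPrime_iff.mp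
      (Groth.Agent.ModStalk.primeIdealOf_mem_associatedPrimes hV F ⟨x', hx'V⟩ hass)
    have hvan : ∀ (y : X) (hy : y ∈ V), y ∉ Z → F.presheaf.germ V y hy s = 0 := fun y hy hyZ => by
      obtain ⟨r, hr, hry⟩ := SetLike.not_le_iff_exists.mp fun hle =>
        hyZ (hZ (Groth.Agent.ModStalk.specializes_of_primeIdeal_le hV (x := ⟨y, hy⟩) (y := ⟨x', hx'V⟩) hle) hx'Z)
      rw [hs, Submodule.mem_colon_singleton, Submodule.mem_bot] at hr
      have h1 := congrArg (F.presheaf.germ V y hy) hr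
      rw [Groth.Agent.ModStalk.germ_smul, map_zero] at h1
      exact ((Scheme.mem_basicOpen _ _ _ hy).mp
        ((Groth.Agent.ModStalk.germ_mem_primeIdeal_iff hV ⟨y, hy⟩ r).mp hry)).smul_eq_zero.mp h1
    have h0 : (ZClos.rhoApp Z F).app V s = 0 := by
      rw [Groth.Agent.ZClosure.rho_app_eq F ⊥ V s]
      refine Groth.Agent.ZClosure.gT_eq_zero hZ F ⊥ V _ fun y hy hyZ => ?_
      rw [TopCat.Presheaf.germ_res_apply]
      exact hvan y _ hyZ
    have hg : F.presheaf.germ V x hxV s = 0 := by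
      apply hinj
      rw [map_zero, ← Groth.Agent.ZClosure.stalkMapₗ_rho, RefHull.stalkMapₗ_germ, h0, map_zero]
    obtain ⟨c, hc, hcs⟩ := Groth.Agent.ModStalk.exists_smul_eq_zero_of_germ F hV x hxV s hg
    have hmem : c ∈ (hV.primeIdealOf ⟨x', hx'V⟩).asIdeal := by
      rw [hs, Submodule.mem_colon_singleton, Submodule.mem_bot]
      exact hcs
    exact (Groth.Agent.ModStalk.germ_mem_primeIdeal_iff hV ⟨x', hx'V⟩ c).mpr
      (hx'.mem_open (X.basicOpen c).isOpen hc) hmem
  · intro h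
    refine (injective_iff_map_eq_zero _).mpr fun m hm => ?_
    obtain ⟨U, hxU, a, rfl⟩ := F.presheaf.exists_germ_eq (x := x) m
    have hz : ((ZClos.H0 Z).obj F).presheaf.germ U x hxU
        (Groth.Agent.ZClosure.gT Z F ⊥ U (F.presheaf.map (homOfLE ((⊥ : ZClos.Cl Z).U.ι.image_preimage_le U)).op a)) = 0 := by
      rw [← Groth.Agent.ZClosure.rho_app_eq F ⊥ U a, ← RefHull.stalkMapₗ_germ]
      exact hm
    obtain ⟨T', W, hxW, hWU, -, hvan⟩ := Groth.Agent.ZClosure.exists_of_germ_eq_zero F ⊥ U x hxU _ hz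
    by_contra hne
    obtain ⟨_, ⟨V, hV, rfl⟩, hxV, hVW⟩ := X.isBasis_affineOpens.exists_subset_of_mem_open hxW W.isOpen
    replace hVW : V ≤ W := hVW
    obtain ⟨y, hyx, hy, hw⟩ := Groth.Agent.ModStalk.exists_isWeakAssPoint hV F ⟨x, hxV⟩
      (F.presheaf.map (homOfLE (hVW.trans hWU)).op a) (by rw [TopCat.Presheaf.germ_res_apply]; exact hne)
    rw [TopCat.Presheaf.germ_res_apply] at hy
    have hyZ : y.1 ∈ Z := by
      by_contra hyZ
      have hy' : y.1 ∈ (⊥ : ZClos.Cl Z).U.ι ''ᵁ (⊥ : ZClos.Cl Z).U.ι ⁻¹ᵁ U := by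
        rw [ZClos.ι_image_preimage]
        exact ⟨fun h => hyZ ((⊥ : ZClos.Cl Z).2 h), hWU (hVW y.2)⟩
      have h1 := hvan y.1 (fun h => hyZ (T'.2 h)) (hVW y.2) hy'
      rw [TopCat.Presheaf.germ_res_apply] at h1
      exact hy h1
    exact (hdepth y.1).mp (h y.1 hyx hyZ) ((Groth.Agent.ModStalk.isAssPoint_iff_isWeakAssPoint F y.1).mpr hw)

end Groth.Agent.S5855
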