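import Groth.Statements.S5858
import Groth.Agent.ZClosure.Depth
import Groth.Agent.CMLocal.SOP
import Mathlib.RingTheory.Ideal.AssociatedPrime.Localization

set_option autoImplicit false
universe u
open ZClos

namespace Groth.Agent.S5858

open CategoryTheory CategoryTheory.Limits AlgebraicGeometry in
/-- For a locally Noetherian scheme X, a subset Z of X stable under specialization and a coherent
O_X-module F whose Z-closure H⁰_{X/Z}(F) is coherent: for every associated point x of F outside Z
and every specialization y of x lying in Z, the closure of y has codimension at least 2 in the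
closure of x, that is, the quotient of O_{X,y} by the prime ideal of the generization x has
dimension at least 2. -/
theorem result (X : Scheme.{u}) [IsLocallyNoetherian X] (Z : Set X)
    (hZ : StableUnderSpecialization Z) (F : X.Modules) (hF : Coh.IsCoh F)
    (hH : Coh.IsCoh ((ZClos.H0 Z).obj F))
    (x : X) (hx : x ∈ AssSch.Ass F) (hxZ : x ∉ Z) (y : X) (hy : y ∈ Z) (h : x ⤳ y) :
    (2 : WithBot ℕ∞) ≤ ringKrullDim (X.presheaf.stalk y ⧸
      (IsLocalRing.maximalIdeal (X.presheaf.stalk x)).comap (X.presheaf.stalkSpecializes h).hom) := by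
  have := hF.1
  have := hH.1
  have := hH.2
  let H := (ZClos.H0 Z).obj F
  have hxH : Curv2.IsAssPoint H x := by
    let e := LinearEquiv.ofBijective (RefHull.stalkMapₗ (ZClos.rhoApp Z F) x)
      (Groth.Agent.ZClosure.rhoStalk_bijective_of_notMem F hxZ)
    exact (LinearEquiv.isAssociatedPrime_iff e).mp hx
  obtain ⟨_, ⟨V, hV, rfl⟩, hyV, -⟩ :=
    X.isBasis_affineOpens.exists_subset_of_mem_open (Set.mem_univ y) isOpen_univ
  have hxV : x ∈ V := h.mem_open V.isOpen hyV
  have : IsNoetherianRing Γ(X, V) := IsLocallyNoetherian.component_noetherian ⟨V, hV⟩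
  letI := TopCat.Presheaf.algebra_section_stalk X.presheaf (⟨y, hyV⟩ : V)
  haveI := hV.isLocalization_stalk ⟨y, hyV⟩
  letI := Groth.Agent.ModStalk.sectionModule H (⟨y, hyV⟩ : V)
  haveI := Groth.Agent.ModStalk.sectionTower H (⟨y, hyV⟩ : V)
  haveI := Groth.Agent.ModStalk.isLocalizedModule_germ hV H ⟨y, hyV⟩
  let p : Ideal (X.presheaf.stalk y) :=
    (IsLocalRing.maximalIdeal (X.presheaf.stalk x)).comap (X.presheaf.stalkSpecializes h).hom
  have hpp : p.IsPrime := Ideal.IsPrime.comap _
  have hcomap : p.comap (algebraMap Γ(X, V) (X.presheaf.stalk y)) = (hV.primeIdealOf ⟨x, hxV⟩).asIdeal := by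
    ext c
    have hgerm : (X.presheaf.stalkSpecializes h).hom (algebraMap Γ(X, V) (X.presheaf.stalk y) c) =
        X.presheaf.germ V x hxV c :=
      TopCat.Presheaf.germ_stalkSpecializes_apply X.presheaf hyV h c
    rw [Ideal.mem_comap, Ideal.mem_comap, hgerm, IsLocalRing.mem_maximalIdeal, mem_nonunits_iff,
      ← Scheme.mem_basicOpen _ _ _ hxV, ← Groth.Agent.ModStalk.germ_mem_primeIdeal_iff hV ⟨x, hxV⟩ c, not_not]
  have hmem : p ∈ associatedPrimes (X.presheaf.stalk y) (H.presheaf.stalk y) := by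
    refine Module.associatedPrimes.mem_associatedPrimes_of_comap_mem_associatedPrimes_of_isLocalizedModule
      (hV.primeIdealOf ⟨y, hyV⟩).asIdeal.primeCompl (Groth.Agent.ModStalk.germₗ H ⟨y, hyV⟩) p ?_
    rw [hcomap]
    exact Groth.Agent.ModStalk.primeIdealOf_mem_associatedPrimes hV H ⟨x, hxV⟩ hxH
  have hd : (2 : ℕ∞) ≤ LocCoh.depth (X.presheaf.stalk y) (H.presheaf.stalk y) :=
    Groth.Agent.ZClosure.two_le_depth hZ H (Groth.Agent.ZClosure.pure_H0 hZ F) (Groth.Agent.ZClosure.ext_H0 hZ F) hy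
  have hco := Groth.Agent.CMLocal.SOP.le_coheight 2 (H.presheaf.stalk y)
    ((Groth.Agent.IdealDepth.natCast_le_iff_ext (n := 2)).mp hd) ⟨p, hpp⟩ hmem
  show (2 : WithBot ℕ∞) ≤ ringKrullDim (X.presheaf.stalk y ⧸ p)
  rw [ringKrullDim_quotient]
  have hIci : (Set.Ici (⟨p, hpp⟩ : PrimeSpectrum (X.presheaf.stalk y))) =
      PrimeSpectrum.zeroLocus (p : Set (X.presheaf.stalk y)) := by
    ext q; rfl
  rw [← hIci, ← Order.coheight_eq_krullDim_Ici]
  exact WithBot.coe_le_coe.mpr hco

end Groth.Agent.S5858
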