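import Groth.Statements.S5861
import Groth.Agent.ZClosure.Hartogs
import Groth.Agent.S5752
import Mathlib.RingTheory.KrullDimension.Module

set_option autoImplicit false
universe u
open ZClos

namespace Groth.Agent.S5861

open AlgebraicGeometry in
theorem supportDim_eq (X : Scheme.{u}) [IsLocallyNoetherian X] (F : X.Modules) (hF : Coh.IsCoh F)
    (hsupp : ∀ x : X, Nontrivial (F.presheaf.stalk x)) (x : X) :
    Module.supportDim (X.presheaf.stalk x) (F.presheaf.stalk x) = ringKrullDim (X.presheaf.stalk x) := by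
  have := hF.1
  have := hF.2
  suffices hs : Module.support (X.presheaf.stalk x) (F.presheaf.stalk x) = Set.univ by
    rw [Module.supportDim, hs, ringKrullDim]
    exact Order.krullDim_eq_of_orderIso OrderIso.Set.univ
  rw [Module.support_eq_zeroLocus, Set.eq_univ_iff_forall]
  intro p e he
  obtain ⟨_, ⟨V, hV, rfl⟩, hxV, -⟩ :=
    X.isBasis_affineOpens.exists_subset_of_mem_open (Set.mem_univ x) isOpen_univ
  letI := TopCat.Presheaf.algebra_section_stalk X.presheaf (⟨x, hxV⟩ : V)
  haveI := hV.isLocalization_stalk ⟨x, hxV⟩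
  obtain ⟨y, hy⟩ := Groth.Agent.ModStalk.exists_point hV (p.asIdeal.comap (algebraMap Γ(X, V) (X.presheaf.stalk x)))
  have hyx : y.1 ⤳ x := Groth.Agent.ModStalk.specializes_of_primeIdeal_le hV (x := ⟨x, hxV⟩) (by
    rw [hy]
    intro c hc
    by_contra hcx
    exact p.2.ne_top (Ideal.eq_top_of_isUnit_mem _ hc
      (IsLocalization.map_units _ (⟨c, hcx⟩ : (hV.primeIdealOf ⟨x, hxV⟩).asIdeal.primeCompl))))
  obtain ⟨⟨g, u⟩, hgu⟩ := IsLocalization.surj (hV.primeIdealOf ⟨x, hxV⟩).asIdeal.primeCompl e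
  have hge : algebraMap Γ(X, V) (X.presheaf.stalk x) g ∈ p.asIdeal → e ∈ p.asIdeal := fun h => by
    rw [← hgu] at h
    exact (p.2.mem_or_mem h).resolve_right fun h' =>
      p.2.ne_top (Ideal.eq_top_of_isUnit_mem _ h' (IsLocalization.map_units _ u))
  refine hge ?_
  show g ∈ p.asIdeal.comap (algebraMap Γ(X, V) (X.presheaf.stalk x))
  rw [← hy]
  by_contra hgy
  have := hsupp y.1
  obtain ⟨m, hm⟩ := exists_ne (0 : F.presheaf.stalk y.1)
  obtain ⟨c, s, hc, hs⟩ := Groth.Agent.ModStalk.exists_smul_eq_germ F hV y.1 y.2 m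
  have hgu' : e * X.presheaf.germ V x hxV u.1 = X.presheaf.germ V x hxV g := hgu
  have hann : ∀ v : F.presheaf.stalk x, e • v = 0 := fun v => Module.mem_annihilator.mp he v
  have h0 : F.presheaf.germ V x hxV (g • s) = 0 := by
    rw [Groth.Agent.ModStalk.germ_smul, ← hgu', mul_smul, hann]
  have h1 := Groth.Agent.ModStalk.germ_eq_zero_of_specializes F _ hyx hxV y.2 h0
  rw [Groth.Agent.ModStalk.germ_smul, ← hs] at h1
  exact hm (((Scheme.mem_basicOpen _ _ _ y.2).mp hc).smul_eq_zero.mp
    (((Scheme.mem_basicOpen _ _ _ y.2).mp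
      ((Groth.Agent.ModStalk.germ_mem_primeIdeal_iff hV y g).mp hgy)).smul_eq_zero.mp h1))

theorem ringKrullDim_le_one {R : Type u} [CommRing R] [IsLocalRing R]
    (h : ¬ (2 : WithBot ℕ∞) ≤ ringKrullDim R) : ringKrullDim R ≤ 1 := by
  by_contra h1
  obtain ⟨n, hn⟩ := WithBot.ne_bot_iff_exists.mp (show ringKrullDim R ≠ ⊥ from fun e => h1 (e ▸ bot_le))
  rw [← hn] at h h1
  apply h
  rw [show (2 : WithBot ℕ∞) = ((2 : ℕ∞) : WithBot ℕ∞) from rfl, WithBot.coe_le_coe]
  rw [show (1 : WithBot ℕ∞) = ((1 : ℕ∞) : WithBot ℕ∞) from rfl, WithBot.coe_le_coe, not_le] at h1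
  exact (Order.add_one_le_of_lt h1 : (1 : ℕ∞) + 1 ≤ n)

open AlgebraicGeometry in
theorem min_le_depth_of_dim_le_one (X : Scheme.{u}) [IsLocallyNoetherian X] (F : X.Modules) (hF : Coh.IsCoh F)
    (hsupp : ∀ x : X, Nontrivial (F.presheaf.stalk x))
    (hass : ∀ x ∈ AssSch.Ass F, ringKrullDim (X.presheaf.stalk x) ≠ 1) (x : X)
    (hd : ringKrullDim (X.presheaf.stalk x) ≤ 1) :
    Module.supportDim (X.presheaf.stalk x) (F.presheaf.stalk x) ≤
      ((LocCoh.depth (X.presheaf.stalk x) (F.presheaf.stalk x) : ℕ∞) : WithBot ℕ∞) := by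
  have := hF.1
  have := hF.2
  rw [supportDim_eq X F hF hsupp x]
  by_cases h1 : (1 : ℕ∞) ≤ LocCoh.depth (X.presheaf.stalk x) (F.presheaf.stalk x)
  · exact hd.trans (WithBot.coe_le_coe.mpr h1)
  · have h0 : LocCoh.depth (X.presheaf.stalk x) (F.presheaf.stalk x) = 0 := by
      by_contra hne
      exact h1 (Order.one_le_iff_pos.mpr (pos_iff_ne_zero.mpr hne))
    have hne1 := hass x ((Groth.Agent.S5752.result _ _).mp h0)
    obtain ⟨n, hn⟩ := WithBot.ne_bot_iff_exists.mp
      (show ringKrullDim (X.presheaf.stalk x) ≠ ⊥ from ne_bot_of_le_ne_bot (WithBot.coe_ne_bot (a := (0 : ℕ∞))) ringKrullDim_nonneg_of_nontrivial)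
    rw [← hn] at hd hne1 ⊢
    rw [h0, WithBot.coe_le_coe]
    rcases Order.le_succ_bot_iff.mp (show n ≤ Order.succ (⊥ : ℕ∞) from by simpa using hd) with e | e
    · exact e.le
    · exact absurd (by simpa using e) (fun e : n = 1 => hne1 (by rw [e]; rfl))


open CategoryTheory CategoryTheory.Limits AlgebraicGeometry in
/-- Suppose X is a locally Noetherian scheme and F is a coherent O_X-module whose support is the whole
of X. Assume no associated point of F has a local ring of X of dimension 1, and assume H⁰_{X/Z}(F)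
is coherent, where Z = Z^(2)(X) denotes the set of points whose local ring has dimension at least 2.
Consider the set U of points x where F satisfies (S_2), meaning depth(F_{x'}) ≥ min(2, dim F_{x'})
holds at every generization x' of x. Then U is an open subset, and the points lying outside U form a
set of codimension ≥ 2: the local ring at any such point has dimension at least 2. -/
theorem result (X : Scheme.{u}) [IsLocallyNoetherian X] (F : X.Modules) (hF : Coh.IsCoh F)
    (hsupp : ∀ x : X, Nontrivial (F.presheaf.stalk x))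
    (hass : ∀ x ∈ AssSch.Ass F, ringKrullDim (X.presheaf.stalk x) ≠ 1)
    (hH : Coh.IsCoh ((ZClos.H0 (ZClos.dimGe X 2)).obj F)) :
    IsOpen {x : X | ∀ x' : X, x' ⤳ x →
        min (2 : WithBot ℕ∞) (Module.supportDim (X.presheaf.stalk x') (F.presheaf.stalk x')) ≤
          ((LocCoh.depth (X.presheaf.stalk x') (F.presheaf.stalk x') : ℕ∞) : WithBot ℕ∞)} ∧
      ∀ x : X, (¬ ∀ x' : X, x' ⤳ x →
        min (2 : WithBot ℕ∞) (Module.supportDim (X.presheaf.stalk x') (F.presheaf.stalk x')) ≤
          ((LocCoh.depth (X.presheaf.stalk x') (F.presheaf.stalk x') : ℕ∞) : WithBot ℕ∞)) →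
        (2 : WithBot ℕ∞) ≤ ringKrullDim (X.presheaf.stalk x) := by
  have := hF.1
  have := hF.2
  have hstab : StableUnderSpecialization (ZClos.dimGe X 2) :=
    fun a b h ha => Groth.Agent.ZClosure.mem_dimGe_of_specializes h ha
  have key : ∀ x' : X, min (2 : WithBot ℕ∞) (Module.supportDim (X.presheaf.stalk x') (F.presheaf.stalk x')) ≤
      ((LocCoh.depth (X.presheaf.stalk x') (F.presheaf.stalk x') : ℕ∞) : WithBot ℕ∞) ↔
      (x' ∈ ZClos.dimGe X 2 → (2 : ℕ∞) ≤ LocCoh.depth (X.presheaf.stalk x') (F.presheaf.stalk x')) := fun x' => by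
    by_cases hx : x' ∈ ZClos.dimGe X 2
    · rw [supportDim_eq X F hF hsupp, min_eq_left (show (2 : WithBot ℕ∞) ≤ ringKrullDim (X.presheaf.stalk x') from hx)]
      exact ⟨fun h _ => WithBot.coe_le_coe.mp h, fun h => WithBot.coe_le_coe.mpr (h hx)⟩
    · exact iff_of_true ((min_le_right _ _).trans
        (min_le_depth_of_dim_le_one X F hF hsupp hass x' (ringKrullDim_le_one hx))) fun h => absurd h hx
  constructor
  · have := Groth.Agent.ZClosure.isOpen_setOf_stalk_bijective (ZClos.rhoApp (ZClos.dimGe X 2) F) hF hH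
    convert this using 2
    ext x
    refine Iff.trans ?_ (Groth.Agent.ZClosure.bijective_iff_depth hstab F hF x).symm
    exact forall_congr' fun x' => forall_congr' fun _ => key x'
  · intro x hx
    simp only [key, not_forall, Classical.not_imp] at hx
    obtain ⟨x', hx', hZ, -⟩ := hx
    exact hstab hx' hZ

end Groth.Agent.S5861
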