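-- Proof of S5912.
import Mathlib.RingTheory.Flat.Basic
import Mathlib.RingTheory.AdicCompletion.Basic
import Mathlib.RingTheory.Ideal.AssociatedPrime.Basic
import Mathlib.RingTheory.Localization.AtPrime.Basic
import Mathlib.Algebra.Module.LocalizedModule.Basic
import Mathlib.RingTheory.Noetherian.Basic
import Mathlib.RingTheory.TensorProduct.Basic
import Groth.Agent.Flat.Criteria
import Mathlib.RingTheory.Flat.Localization
import Mathlib.RingTheory.Localization.BaseChange
import Mathlib.RingTheory.Flat.Stability
import Mathlib.RingTheory.Ideal.AssociatedPrime.Finiteness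
import Mathlib.RingTheory.AdicCompletion.Basic

set_option autoImplicit false
universe u
open TensorProduct
namespace EGA43
end EGA43
open EGA43

namespace Groth.Agent.S5912

/-- Let A be a Noetherian ring, J an ideal of A and M an A-module which is ideally separated for the
J-adic topology (for every ideal a of A the module a ⊗_A M is J-adically separated), and suppose
every quotient J^k/J^{k+1} is a flat (A/J)-module (the associated graded ring of A along J is flat
over A/J). Then M is flat if and only if (A/J) ⊗_A M is flat over A/J and M_p is flat over A_p for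
every associated prime p of the A-module A/J. -/
theorem result {A : Type u} [CommRing A] [IsNoetherianRing A]
    (J : Ideal A) (M : Type u) [AddCommGroup M] [Module A M]
    (hsep : ∀ a : Ideal A, IsHausdorff J (↥a ⊗[A] M))
    (hgr : ∀ k : ℕ, Module.Flat (A ⧸ J) ((A ⧸ J) ⊗[A] ↥(J ^ k))) :
    Module.Flat A M ↔
      Module.Flat (A ⧸ J) ((A ⧸ J) ⊗[A] M) ∧
        ∀ q : associatedPrimes A (A ⧸ J),
          haveI : q.1.IsPrime := IsAssociatedPrime.isPrime q.2
          Module.Flat (Localization.AtPrime q.1) (LocalizedModule q.1.primeCompl M) := by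
  constructor
  · intro h
    haveI := h
    refine ⟨inferInstance, fun p => ?_⟩
    haveI : p.1.IsPrime := IsAssociatedPrime.isPrime p.2
    exact Module.Flat.of_linearEquiv (LocalizedModule.equivTensorProduct p.1.primeCompl M)
  rintro ⟨h2, hass⟩
  have kill : ∀ (a : Ideal A) (x : M ⊗[A] a), a.subtype.lTensor M x = 0 →
      ∃ s : A, (∀ c : A ⧸ J, s • c = 0 → c = 0) ∧ s • x = 0 := by
    intro a x hx
    by_contra hne
    let Q : Ideal A := LinearMap.ker (LinearMap.toSpanSingleton A (M ⊗[A] a) x)
    have hsub : (Q : Set A) ⊆ ⋃ p ∈ associatedPrimes A (A ⧸ J), (p : Set A) := by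
      rw [biUnion_associatedPrimes_eq_zero_divisors]
      intro s hs
      by_contra hs'
      exact hne ⟨s, fun c hc => by_contra fun hc0 => hs' ⟨c, hc0, hc⟩, hs⟩
    obtain ⟨p, hp, hQp⟩ := (Ideal.subset_union_prime_finite (associatedPrimes.finite A (A ⧸ J))
      (f := id) ⊥ ⊥ fun q hq _ _ => hq.isPrime).mp hsub
    haveI : p.IsPrime := IsAssociatedPrime.isPrime hp
    haveI : Module.Flat (Localization.AtPrime p) (LocalizedModule p.primeCompl M) := hass ⟨p, hp⟩
    haveI : Module.Flat A (Localization.AtPrime p) := IsLocalization.flat _ p.primeCompl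
    haveI : Module.Flat A (LocalizedModule p.primeCompl M) :=
      Module.Flat.trans A (Localization.AtPrime p) _
    let ℓ := LocalizedModule.mkLinearMap p.primeCompl M
    let G := TensorProduct.AlgebraTensorModule.rTensor (A := A) A a ℓ
    have hG : G x = 0 := by
      refine Module.Flat.lTensor_preserves_injective_linearMap
        (M := LocalizedModule p.primeCompl M) a.subtype (Submodule.injective_subtype a) ?_
      have : ∀ y, a.subtype.lTensor (LocalizedModule p.primeCompl M) (G y) =
          ℓ.rTensor A (a.subtype.lTensor M y) := by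
        intro y
        induction y using TensorProduct.induction_on with
        | zero => simp
        | add p q hp hq => simp only [map_add, hp, hq]
        | tmul m r => simp [G]
      rw [this, hx, map_zero, map_zero]
    obtain ⟨s, hs⟩ := (IsLocalizedModule.eq_zero_iff p.primeCompl G).mp hG
    exact s.2 (hQp (show (s : A) ∈ Q from hs))
  have hsep' : ∀ (a : Ideal A) (x : M ⊗[A] a),
      (∀ n : ℕ, x ∈ J ^ n • (⊤ : Submodule A (M ⊗[A] a))) → x = 0 := by
    intro a x hx
    let e := TensorProduct.comm A M a
    refine e.injective ?_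
    rw [map_zero]
    refine (hsep a).haus' _ fun n => ?_
    rw [SModEq.zero]
    refine Submodule.smul_induction_on (hx n) (fun r hr y _ => ?_) (fun p q hp hq => ?_)
    · rw [map_smul]; exact Submodule.smul_mem_smul hr trivial
    · rw [map_add]; exact add_mem hp hq
  have h1 : Function.Injective (J.subtype.rTensor M) := by
    rw [← LinearMap.lTensor_inj_iff_rTensor_inj, injective_iff_map_eq_zero]
    intro x hx
    refine hsep' J x fun n => ?_
    have key : ∀ k, 1 ≤ k → ∃ (hk : J ^ k ≤ J) (y : M ⊗[A] ↥(J ^ k)),
        (J ^ k).subtype.lTensor M y = 0 ∧ (Submodule.inclusion hk).lTensor M y = x := by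
      intro k hk
      induction k, hk using Nat.le_induction with
      | base =>
        refine ⟨(pow_one J).le, (Submodule.inclusion (pow_one J).ge).lTensor M x, ?_, ?_⟩
        · rw [← LinearMap.comp_apply, ← LinearMap.lTensor_comp]
          exact hx
        · rw [← LinearMap.comp_apply, ← LinearMap.lTensor_comp]
          show LinearMap.id.lTensor M x = x
          rw [LinearMap.lTensor_id, LinearMap.id_apply]
      | succ k hk ih =>
        obtain ⟨hle, y, hy, rfl⟩ := ih
        let incl : ↥(J ^ (k + 1)) →ₗ[A] ↥(J ^ k) :=
          Submodule.inclusion (Ideal.pow_le_pow_right (Nat.le_succ k))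
        let q : ↥(J ^ k) →ₗ[A] (A ⧸ J) ⊗[A] ↥(J ^ k) := TensorProduct.mk A (A ⧸ J) _ 1
        have hex : Function.Exact incl q := by
          intro z
          constructor
          · intro hz
            have e := TensorProduct.quotTensorEquivQuotSMul_mk_tmul J (1 : A) z
            rw [one_smul, map_one, show (1 : A ⧸ J) ⊗ₜ[A] z = 0 from hz, map_zero, eq_comm,
              Submodule.Quotient.mk_eq_zero] at e
            have e' := Submodule.mem_map_of_mem (f := (J ^ k).subtype) e
            rw [Submodule.map_smul'', Submodule.map_subtype_top, smul_eq_mul, ← pow_succ'] at e'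
            exact ⟨⟨z, e'⟩, rfl⟩
          · rintro ⟨w, rfl⟩
            refine (TensorProduct.quotTensorEquivQuotSMul ↥(J ^ k) J).injective ?_
            rw [map_zero]
            have e := TensorProduct.quotTensorEquivQuotSMul_mk_tmul J (1 : A) (incl w)
            rw [one_smul, map_one] at e
            refine e.trans ((Submodule.Quotient.mk_eq_zero _).mpr ?_)
            refine Submodule.mem_map.mp (?_ : ((incl w : ↥(J ^ k)) : A) ∈
              Submodule.map (J ^ k).subtype (J • ⊤)) |>.elim fun v hv => ?_
            · rw [Submodule.map_smul'', Submodule.map_subtype_top, smul_eq_mul, ← pow_succ']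
              exact w.2
            · rw [← Subtype.ext hv.2]; exact hv.1
        have hqs : Function.Surjective q :=
          TensorProduct.mk_surjective A _ (A ⧸ J) Ideal.Quotient.mk_surjective
        have hzero : q.lTensor M y = 0 := by
          obtain ⟨s, hs, hsy⟩ := kill _ y hy
          haveI := hgr k
          have hreg : IsSMulRegular (A ⧸ J) (Ideal.Quotient.mk J s) := by
            intro c d hcd
            refine sub_eq_zero.mp (hs _ ?_)
            show s • (c - d) = 0
            rw [smul_sub, sub_eq_zero, ← algebraMap_smul (A ⧸ J) s c,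
              ← algebraMap_smul (A ⧸ J) s d]
            exact hcd
          let f : (A ⧸ J) ⊗[A] ↥(J ^ k) →ₗ[A ⧸ J] (A ⧸ J) ⊗[A] ↥(J ^ k) :=
            (Ideal.Quotient.mk J s) • LinearMap.id
          have hf : Function.Injective f := by
              rw [injective_iff_map_eq_zero]
              intro v hv
              have h3 := Module.Flat.rTensor_preserves_injective_linearMap
                (M := (A ⧸ J) ⊗[A] ↥(J ^ k)) (LinearMap.lsmul (A ⧸ J) (A ⧸ J) (Ideal.Quotient.mk J s))
                (fun c d hcd => hreg hcd)
              have h4 := h3 (a₁ := (1 : A ⧸ J) ⊗ₜ v) (a₂ := 0) (by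
                rw [map_zero, LinearMap.rTensor_tmul]
                show (Ideal.Quotient.mk J s * 1) ⊗ₜ[A ⧸ J] v = 0
                rw [mul_one, ← mul_one (Ideal.Quotient.mk J s), ← smul_eq_mul,
                  TensorProduct.smul_tmul]
                show (1 : A ⧸ J) ⊗ₜ[A ⧸ J] (f v) = 0
                rw [hv, TensorProduct.tmul_zero])
              simpa using congrArg (TensorProduct.lid (A ⧸ J) _) h4
          refine Groth.Agent.Flat.LocalCriterion.lTensor_restrictScalars_injective h2 f hf ?_
          have : f.restrictScalars A =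
              s • (LinearMap.id : (A ⧸ J) ⊗[A] ↥(J ^ k) →ₗ[A] _) := by
            refine LinearMap.ext fun v => ?_
            show (Ideal.Quotient.mk J s) • v = s • v
            exact algebraMap_smul (A ⧸ J) s v
          rw [this, LinearMap.lTensor_smul, LinearMap.lTensor_id, LinearMap.smul_apply,
            LinearMap.id_apply, ← map_smul, hsy, map_zero, map_zero]
        obtain ⟨z, rfl⟩ := (lTensor_exact M hex hqs y).mp hzero
        refine ⟨(Ideal.pow_le_pow_right (Nat.le_succ k)).trans hle, z, ?_, ?_⟩
        · rw [show (J ^ (k + 1)).subtype = (J ^ k).subtype ∘ₗ incl from rfl, LinearMap.lTensor_comp,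
            LinearMap.comp_apply, hy]
        · rw [← LinearMap.comp_apply, ← LinearMap.lTensor_comp]
          rfl
    obtain ⟨hle, y, -, rfl⟩ := key (n + 1) (Nat.le_add_left 1 n)
    clear hx key
    induction y using TensorProduct.induction_on with
    | zero => simp
    | add p q hp hq => rw [map_add]; exact add_mem (hp) (hq)
    | tmul m r =>
      rw [LinearMap.lTensor_tmul]
      obtain ⟨r, hr⟩ := r
      have hr' := hr
      rw [pow_succ] at hr'
      have key2 : ∀ z ∈ J ^ n * J, ∃ hz : z ∈ J,
          m ⊗ₜ[A] (⟨z, hz⟩ : J) ∈ J ^ n • (⊤ : Submodule A (M ⊗[A] J)) := by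
        intro z hz
        refine Submodule.mul_induction_on hz ?_ ?_
        · intro u hu v hv
          refine ⟨J.mul_mem_left u hv, ?_⟩
          rw [show (⟨u * v, J.mul_mem_left u hv⟩ : J) = u • (⟨v, hv⟩ : J) from rfl,
            TensorProduct.tmul_smul]
          exact Submodule.smul_mem_smul hu trivial
        · rintro p q ⟨hp, hp'⟩ ⟨hq, hq'⟩
          refine ⟨J.add_mem hp hq, ?_⟩
          rw [show (⟨p + q, J.add_mem hp hq⟩ : J) = ⟨p, hp⟩ + ⟨q, hq⟩ from rfl,
            TensorProduct.tmul_add]
          exact add_mem hp' hq'
      exact (key2 r hr').2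
  rw [Module.Flat.iff_lTensor_injective']
  intro a
  rw [injective_iff_map_eq_zero]
  intro x hx
  refine hsep' a x fun n => Groth.Agent.Flat.LocalCriterion.ker_le_pow_smul J a (fun n => ?_) hx n
  let W : Submodule A (A ⧸ J ^ n) := (a.map (Ideal.Quotient.mk (J ^ n))).restrictScalars A
  refine (Groth.Agent.Flat.LocalCriterion.torZero_of_killed_pow J h1 h2 n ((A ⧸ J ^ n) ⧸ W)
    fun r hr v => ?_).lTensor_injective
    (Submodule.injective_subtype W) (LinearMap.exact_subtype_mkQ W) (Submodule.mkQ_surjective W)
  obtain ⟨v, rfl⟩ := Submodule.mkQ_surjective W v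
  obtain ⟨y, rfl⟩ := Ideal.Quotient.mk_surjective v
  have : r • Ideal.Quotient.mk (J ^ n) y = 0 :=
    Ideal.Quotient.eq_zero_iff_mem.mpr (Ideal.mul_mem_right y _ hr)
  rw [← map_smul, this, map_zero]

end Groth.Agent.S5912
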