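import Groth.Statements.S5924
import Mathlib
import Groth.Agent.Equidim.Upper

set_option autoImplicit false
set_option backward.isDefEq.respectTransparency false
open CategoryTheory AlgebraicGeometry
universe u
open EGA43

namespace Groth.Agent.S5924

/-- Let Y be an irreducible locally Noetherian scheme, f : X ⟶ Y a morphism locally of finite type which
is equidimensional at the point x, and suppose that x is not a maximal point of its fibre f⁻¹(f x),
i.e. some point of the fibre other than x specializes to x. Then there exist an affine open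
neighbourhood U of x and a section g of O_X over U such that g vanishes at x (x is not in the basic
open set of g) while every maximal point of f⁻¹(f x) lying in U is in the basic open set of g. -/
theorem result {X Y : Scheme.{u}} [IrreducibleSpace Y]
    [IsLocallyNoetherian Y] (f : X ⟶ Y) [LocallyOfFiniteType f] (x : X) (hf : EGA43.IsEquidimAt f x)
    (hx : ∃ x' : X, f.base x' = f.base x ∧ x' ≠ x ∧ x ∈ closure ({x'} : Set X)) :
    ∃ U : X.Opens, IsAffineOpen U ∧ x ∈ U ∧ ∃ g : Γ(X, U), x ∉ X.basicOpen g ∧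
      ∀ z : X, f.base z = f.base x → (∀ z' : X, f.base z' = f.base x → z ∈ closure ({z'} : Set X) → z' = z) →
        z ∈ U → z ∈ X.basicOpen g := by
  obtain ⟨U₀, hU₀, hyU₀, -⟩ := exists_isAffineOpen_mem_and_subset (X := Y) (U := ⊤) (x := f x) trivial
  obtain ⟨V, hV, hxV, hVU⟩ :=
    exists_isAffineOpen_mem_and_subset (X := X) (U := f ⁻¹ᵁ U₀) (x := x) hyU₀
  letI : Algebra Γ(Y, U₀) Γ(X, V) := (f.appLE U₀ V hVU).hom.toAlgebra
  haveI : Algebra.FiniteType Γ(Y, U₀) Γ(X, V) := Groth.Agent.Equidim.finiteType_chart f hU₀ hV hVU rfl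
  let π := AlgHom.id Γ(Y, U₀) Γ(X, V)
  have hπ : Function.Surjective π := Function.surjective_id
  let p := hU₀.primeIdealOf ⟨f x, hyU₀⟩
  have hp : hU₀.fromSpec p = f x := hU₀.fromSpec_primeIdealOf _
  haveI : IsNoetherianRing (p.asIdeal.Fiber Γ(X, V)) :=
    Algebra.FiniteType.isNoetherianRing p.asIdeal.ResidueField _
  obtain ⟨Q', hQ'⟩ := hV.range_fromSpec.superset hxV
  let Q : PrimeSpectrum Γ(X, V) := Q'
  replace hQ' : hV.fromSpec Q = x := hQ'
  let S := ((minimalPrimes.finite_of_isNoetherianRing (p.asIdeal.Fiber Γ(X, V))).preimage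
    (f := PrimeSpectrum.asIdeal) (fun a _ b _ h => PrimeSpectrum.ext h)).toFinset
  have hch : ∀ M, Groth.Agent.Equidim.ch hV π p M = hV.fromSpec (Groth.Agent.Equidim.Core.pr p M) := fun M => rfl
  have hnle : ¬ ((Q.asIdeal : Set Γ(X, V)) ⊆
      ⋃ M ∈ (↑S : Set (PrimeSpectrum (p.asIdeal.Fiber Γ(X, V)))), (Groth.Agent.Equidim.Core.pr p M).asIdeal) := by
    intro hsub
    obtain ⟨Mx, hMx⟩ := Groth.Agent.Equidim.exists_ch f hU₀ hV hVU rfl π hπ p Q
      (fun a ha => by rw [(show a = 0 from ha)]; exact Ideal.zero_mem _) (by rw [hQ', hp])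
    obtain ⟨x₁, hx₁f, hne, hx₁⟩ := hx
    have hsp : x₁ ⤳ x := specializes_iff_mem_closure.mpr hx₁
    obtain ⟨R', hR'⟩ := hV.range_fromSpec.superset (hsp.mem_open V.isOpen hxV)
    let R : PrimeSpectrum Γ(X, V) := R'
    replace hR' : hV.fromSpec R = x₁ := hR'
    obtain ⟨M₁, hM₁⟩ := Groth.Agent.Equidim.exists_ch f hU₀ hV hVU rfl π hπ p R
      (fun a ha => by rw [(show a = 0 from ha)]; exact Ideal.zero_mem _) (by rw [hR', hp]; exact hx₁f)
    rw [hR'] at hM₁
    rw [hQ'] at hMx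
    have h1 : M₁ ≤ Mx := (Groth.Agent.Equidim.ch_specializes hV π hπ p _ _).mp (by rw [hM₁, hMx]; exact hsp)
    obtain ⟨M₀, hM₀, hle⟩ := (Ideal.subset_union_prime (s := S) (f := fun M => (Groth.Agent.Equidim.Core.pr p M).asIdeal)
      M₁ M₁ (fun i _ _ _ => (Groth.Agent.Equidim.Core.pr p i).2)).mp hsub
    have hM₀min : M₀.asIdeal ∈ minimalPrimes (p.asIdeal.Fiber Γ(X, V)) :=
      Set.mem_preimage.mp ((Set.Finite.mem_toFinset _).mp hM₀)
    have h2 : Mx ≤ M₀ := by
      refine Groth.Agent.Equidim.Core.pr_le_iff.mp ?_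
      have : hV.fromSpec (Groth.Agent.Equidim.Core.pr p Mx) = hV.fromSpec Q := by rw [← hch, hMx, hQ']
      rw [hV.fromSpec.isOpenEmbedding.injective this]
      exact hle
    have h3 : M₀ ≤ M₁ := hM₀min.2 ⟨M₁.2, bot_le⟩ (h1.trans h2)
    exact hne (by rw [← hM₁, ← hMx, le_antisymm h1 (h2.trans h3)])
  obtain ⟨g, hgQ, hg⟩ := Set.not_subset.mp hnle
  have hbasic : ∀ R : PrimeSpectrum Γ(X, V), hV.fromSpec R ∈ X.basicOpen g ↔ g ∉ R.asIdeal := fun R =>
    SetLike.ext_iff.mp (hV.fromSpec_preimage_basicOpen g) R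
  refine ⟨V, hV, hxV, g, fun h => ?_, fun z hzf hzmax hzV => ?_⟩
  · rw [← hQ'] at h
    exact (hbasic Q).mp h hgQ
  · obtain ⟨R', hR'⟩ := hV.range_fromSpec.superset hzV
    let R : PrimeSpectrum Γ(X, V) := R'
    replace hR' : hV.fromSpec R = z := hR'
    obtain ⟨M, hM⟩ := Groth.Agent.Equidim.exists_ch f hU₀ hV hVU rfl π hπ p R
      (fun a ha => by rw [(show a = 0 from ha)]; exact Ideal.zero_mem _) (by rw [hR', hp]; exact hzf)
    rw [hR'] at hM
    have hmin : M ∈ S := by
      refine (Set.Finite.mem_toFinset _).mpr ⟨⟨M.2, bot_le⟩, fun I hI hle => ?_⟩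
      let M' : PrimeSpectrum (p.asIdeal.Fiber Γ(X, V)) := ⟨I, hI.1⟩
      have h1 := hzmax (Groth.Agent.Equidim.ch hV π p M') ((Groth.Agent.Equidim.f_ch f hU₀ hV hVU rfl π p M').trans hp)
        (by rw [← hM]; exact ((Groth.Agent.Equidim.ch_specializes hV π hπ p M' M).mpr hle).mem_closure)
      rw [← hM] at h1
      exact ((Groth.Agent.Equidim.ch_isEmbedding hV π hπ p).injective h1) ▸ le_rfl
    rw [← hM, hch, hbasic]
    exact fun h => hg (Set.mem_biUnion hmin h)

end Groth.Agent.S5924
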