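import Groth.Statements.S5954
import Groth.Agent.PrinDiff.BaseChange
import Groth.Agent.ModStalk.PrinPartSect
import Groth.Agent.ModStalk.IsoCriterion
import Groth.Agent.ModStalk.PullbackQCoh
import Groth.Agent.S5959

set_option autoImplicit false
universe u
open CategoryTheory CategoryTheory.Limits AlgebraicGeometry TopologicalSpace Opposite
open Nrm16

namespace Groth.Agent.S5954

open Groth.Agent.ModStalk
open scoped TensorProduct

theorem pullSec_eq_res {X Y : Scheme.{u}} (f : X ⟶ Y) (M : Y.Modules) (U : Y.Opens) (V : X.Opens) (h : V ≤ f ⁻¹ᵁ U)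
    (m : Γ(M, U)) :
    pullSec f M h m = ((Scheme.Modules.pullback f).obj M).presheaf.map (homOfLE h).op (OmegaSh.pullSect f M U m) := rfl

theorem dn_res {X S : Scheme.{u}} (f : X ⟶ S) (n : ℕ) {U V : X.Opens} (h : V ≤ U) (b : Γ(X, U)) :
    PrinPart.dn f n V (X.presheaf.map (homOfLE h).op b) =
      (PrinPart.P f n).presheaf.map (homOfLE h).op (PrinPart.dn f n U b) :=
  PrinPart.dP_map f n (Coh.structureModule X) h (OmegaSh.strSect X U b)

theorem app_pullSec_dn {X S X' S' : Scheme.{u}} (f : X ⟶ S) (f' : X' ⟶ S') (u : X' ⟶ X) (n : ℕ)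
    (φ : (Scheme.Modules.pullback u).obj (PrinPart.P f n) ⟶ PrinPart.P f' n) (hφ : PrinPart.IsPMap f f' u n φ)
    {U : X.Opens} {U' : X'.Opens} (h : U' ≤ u ⁻¹ᵁ U) (b : Γ(X, U)) :
    φ.app U' (pullSec u (PrinPart.P f n) h (PrinPart.dn f n U b)) = PrinPart.dn f' n U' (u.appLE U U' h b) := by
  rw [pullSec_eq_res]
  refine (NatTrans.naturality_apply φ.mapPresheaf (homOfLE h).op _).trans ?_
  show (PrinPart.P f' n).presheaf.map (homOfLE h).op (φ.app (u ⁻¹ᵁ U) (OmegaSh.pullSect u (PrinPart.P f n) U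
    (PrinPart.dn f n U b))) = _
  rw [hφ, ← dn_res]
  rfl

theorem app_bijective {X S X' S' : Scheme.{u}} (f : X ⟶ S) (g : S' ⟶ S) (u : X' ⟶ X) (f' : X' ⟶ S')
    (hsq : IsPullback u f' f g) (n : ℕ)
    (φ : (Scheme.Modules.pullback u).obj (PrinPart.P f n) ⟶ PrinPart.P f' n) (hφ : PrinPart.IsPMap f f' u n φ)
    [(PrinPart.P f n).IsQuasicoherent]
    {V : S.Opens} (hV : IsAffineOpen V) {U : X.Opens} (hU : IsAffineOpen U) (hUV : U ≤ f ⁻¹ᵁ V)
    {V' : S'.Opens} (hV' : IsAffineOpen V') (hV'V : V' ≤ g ⁻¹ᵁ V) {U' : X'.Opens}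
    (hU' : U' = u ⁻¹ᵁ U ⊓ f' ⁻¹ᵁ V') : IsAffineOpen U' ∧ Function.Bijective (φ.app U') := by
  haveI : IsAffine _ := hV
  haveI : IsAffine _ := hU
  haveI : IsAffine _ := hV'
  have hU'aff : IsAffineOpen U' := .of_isIso (Scheme.Hom.isPullback_resLE hsq hV'V hUV hU').isoPullback.hom
  refine ⟨hU'aff, ?_⟩
  have hU'U : U' ≤ u ⁻¹ᵁ U := hU'.trans_le inf_le_left
  have hU'V' : U' ≤ f' ⁻¹ᵁ V' := hU'.trans_le inf_le_right
  have hpo := (isIso_pushoutSection_iff hsq hV'V hUV hU').mp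
    (isIso_pushoutSection_of_isAffineOpen hsq hV'V hUV hU' hV hV' hU)
  letI := (f.appLE V U hUV).hom.toAlgebra
  letI := (f'.appLE V' U' hU'V').hom.toAlgebra
  letI := (g.appLE V V' hV'V).hom.toAlgebra
  letI := (u.appLE U U' hU'U).hom.toAlgebra
  letI := ((f'.appLE V' U' hU'V').hom.comp (g.appLE V V' hV'V).hom).toAlgebra
  haveI : IsScalarTower Γ(S, V) Γ(S', V') Γ(X', U') := IsScalarTower.of_algebraMap_eq fun _ => rfl
  haveI : IsScalarTower Γ(S, V) Γ(X, U) Γ(X', U') :=
    IsScalarTower.of_algebraMap_eq fun a => (ConcreteCategory.congr_hom hpo.w a).symm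
  haveI : Algebra.IsPushout Γ(S, V) Γ(S', V') Γ(X, U) Γ(X', U') :=
    CommRingCat.isPushout_iff_isPushout.mp hpo.flip
  obtain ⟨e, he⟩ := exists_sectionsEquiv u (PrinPart.P f n) hU hU'aff hU'U
  obtain ⟨ψ, hψs, hψk, hψd⟩ := exists_principalPartsEquiv f n hV hU hUV
  obtain ⟨ψ', hψs', hψk', hψd'⟩ := exists_principalPartsEquiv f' n hV' hU'aff hU'V'
  let L : Γ((Scheme.Modules.pullback u).obj (PrinPart.P f n), U') →ₗ[Γ(X', U')] Γ(PrinPart.P f' n, U') :=
    { toFun := φ.app U', map_add' := map_add _, map_smul' := fun a m => φ.app_smul a m }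
  have hb := Groth.Agent.PrinDiff.bijective_baseChange n (fun b => PrinPart.dn f n U b)
    (fun b => PrinPart.dn f' n U' b) ψ ψ' hψs hψk hψd hψs' hψk' hψd' (L.comp e.toLinearMap) (fun b => by
      show φ.app U' (e (1 ⊗ₜ PrinPart.dn f n U b)) = _
      rw [he, app_pullSec_dn f f' u n φ hφ hU'U b]
      rfl)
  convert hb.comp e.symm.bijective
  funext m
  show φ.app U' m = φ.app U' (e (e.symm m))
  rw [e.apply_symm_apply]

/-- Let f : X ⟶ S and g : S' ⟶ S be morphisms and X' a fibre product of X and S' over S with projections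
u : X' ⟶ X and f' : X' ⟶ S'. For every n let φ : u^* P^n_{X/S} ⟶ P^n_{X'/S'} be the canonical
O_{X'}-linear map of sheaves of principal parts of order n, the one sending the pullback of d^n b to
d^n (u♯ b) for every local function b on X. Then φ is an isomorphism. (The published statement also
asserts that the canonical map u^*Ω_{X/S} ⟶ Ω_{X'/S'} of sheaves of differentials compatible with
the universal derivations is bijective; this row states only the assertion on sheaves of principal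
parts.) -/
theorem result {X S X' S' : Scheme.{u}} (f : X ⟶ S) (g : S' ⟶ S)
    (u : X' ⟶ X) (f' : X' ⟶ S') (hsq : IsPullback u f' f g) (n : ℕ)
    (φ : (Scheme.Modules.pullback u).obj (PrinPart.P f n) ⟶ PrinPart.P f' n)
    (hφ : PrinPart.IsPMap f f' u n φ) :
    IsIso φ := by
  haveI : (PrinPart.P f n).IsQuasicoherent := Groth.Agent.S5959.result f n (Coh.structureModule X) inferInstance
  haveI : (PrinPart.P f' n).IsQuasicoherent := Groth.Agent.S5959.result f' n (Coh.structureModule X') inferInstance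
  haveI : ((Scheme.Modules.pullback u).obj (PrinPart.P f n)).IsQuasicoherent :=
    isQuasicoherent_pullback u (PrinPart.P f n)
  refine isIso_of_app_bijective φ fun x => ?_
  obtain ⟨V, hV, hxV, -⟩ := exists_isAffineOpen_mem_and_subset (X := S) (x := f (u x)) (U := ⊤) trivial
  obtain ⟨U, hU, hxU, hUV⟩ := exists_isAffineOpen_mem_and_subset (x := u x) (U := f ⁻¹ᵁ V) hxV
  have hgx : g (f' x) ∈ V := by
    rw [← Scheme.Hom.comp_apply, ← hsq.w, Scheme.Hom.comp_apply]
    exact hxV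
  obtain ⟨V', hV', hxV', hV'V⟩ := exists_isAffineOpen_mem_and_subset (x := f' x) (U := g ⁻¹ᵁ V) hgx
  obtain ⟨h1, h2⟩ := app_bijective f g u f' hsq n φ hφ hV hU hUV hV' hV'V
    (U' := u ⁻¹ᵁ U ⊓ f' ⁻¹ᵁ V') rfl
  exact ⟨_, h1, ⟨hxU, hxV'⟩, h2⟩

end Groth.Agent.S5954
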