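import Groth.Statements.S5957
import Groth.Agent.PrinDiff.DiffOp

set_option autoImplicit false
universe u
open CategoryTheory CategoryTheory.Limits AlgebraicGeometry TopologicalSpace Opposite
open Nrm16

namespace Groth.Agent.S5957

/-- Let f : X ⟶ S be a morphism of schemes, F and G two O_X-modules and D : F ⟶ G a homomorphism of
sheaves of abelian groups. Then D is a differential operator of order at most 0 relative to S if and
only if D is O_X-linear: D(a·t) = a·D(t) for every open U, every function a on U and every section t
of F over U. -/
theorem result {X S : Scheme.{u}} (f : X ⟶ S) (F G : X.Modules)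
    (D : F.presheaf ⟶ G.presheaf) :
    PrinPart.IsDiffOpLE f F G 0 D ↔
      ∀ (U : X.Opens) (a : Γ(X, U)) (t : Γ(F, U)), D.app (op U) (a • t) = a • D.app (op U) t := by
  rw [Groth.Agent.PrinDiff.isDiffOp_iff, Groth.Agent.PrinDiff.commVanish_iff]
  constructor
  · rintro ⟨-, h⟩ U a t
    exact sub_eq_zero.mp (h U a t)
  · intro h
    exact ⟨fun V s U hU t => h U _ t, fun U a t => sub_eq_zero.mpr (h U a t)⟩

end Groth.Agent.S5957
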