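import Groth.Statements.S5961
import Groth.Agent.ModStalk.DiffOne

set_option autoImplicit false
universe u
open CategoryTheory CategoryTheory.Limits AlgebraicGeometry TopologicalSpace Opposite
open Nrm16

namespace Groth.Agent.S5961

open Groth.Agent.ModStalk

variable {X S : Scheme.{u}} (f : X ⟶ S)

/-- The pullback of the structure sheaf to the neighbourhood of the diagonal. -/
noncomputable abbrev Nmod : (PrinPart.nbhd f 1).Modules :=
  (Scheme.Modules.pullback (PrinPart.pr2 f 1)).obj (Coh.structureModule X)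

/-- Principal parts as sections on the neighbourhood. -/
noncomputable def dn' (U : X.Opens) (a : Γ(X, U)) : Γ(Nmod f, PrinPart.pr1 f 1 ⁻¹ᵁ U) := PrinPart.dn f 1 U a

theorem dn_eq_smul (U : X.Opens) (a : Γ(X, U)) :
    dn' f U a = (PrinPart.pr2 f 1).appLE U (PrinPart.pr1 f 1 ⁻¹ᵁ U) (PrinPart.preimage_pr1 f 1 U).le a • dn' f U 1 := by
  show ((Nmod f).presheaf.map (homOfLE (PrinPart.preimage_pr1 f 1 U).le).op)
      (OmegaSh.pullSect (PrinPart.pr2 f 1) (Coh.structureModule X) U (OmegaSh.strSect X U a)) = _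
  rw [show OmegaSh.strSect X U a = a • OmegaSh.strSect X U 1 from
    (congrArg (OmegaSh.strSect X U) (mul_one a).symm).trans (OmegaSh.strSect_mul (W := U) a 1),
    OmegaSh.pullSect_smul, Scheme.Modules.map_smul, ← ConcreteCategory.comp_apply]
  rfl

theorem dn'_leibniz (U : X.Opens) (a b : Γ(X, U)) :
    dn' f U (a * b) + (PrinPart.pr1 f 1).app U (a * b) • dn' f U 1 =
      (PrinPart.pr1 f 1).app U a • dn' f U b + (PrinPart.pr1 f 1).app U b • dn' f U a := by
  have h := nbhdDiff_mul_eq_zero f U a b
  simp only [nbhdDiff] at h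
  rw [dn_eq_smul f U (a * b), dn_eq_smul f U a, dn_eq_smul f U b, smul_smul, smul_smul, ← add_smul, ← add_smul,
    map_mul, map_mul]
  congr 1
  linear_combination h

theorem dn'_base (V : S.Opens) (c : Γ(S, V)) :
    dn' f (f ⁻¹ᵁ V) (f.app V c) = (PrinPart.pr1 f 1).app (f ⁻¹ᵁ V) (f.app V c) • dn' f (f ⁻¹ᵁ V) 1 := by
  rw [dn_eq_smul f _ (f.app V c)]
  congr 1
  rw [Scheme.Hom.app_eq_appLE (PrinPart.pr1 f 1), ← ConcreteCategory.comp_apply, ← ConcreteCategory.comp_apply,
    ← Scheme.Hom.comp_appLE, ← Scheme.Hom.comp_appLE]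
  exact congr($(OmegaSh.appLE_congr_hom (PrinPart.pr1_comp f 1).symm _ _) c)

theorem leibniz_one (G : X.Modules) (D : (Coh.structureModule X).presheaf ⟶ G.presheaf)
    (hD : PrinPart.IsDiffOpLE f (Coh.structureModule X) G 1 D) (U : X.Opens) :
    (∀ a b : Γ(X, U), D.app (op U) (OmegaSh.strSect X U (a * b)) + (a * b) • D.app (op U) (OmegaSh.strSect X U 1) =
      a • D.app (op U) (OmegaSh.strSect X U b) + b • D.app (op U) (OmegaSh.strSect X U a)) := by
  obtain ⟨u, hu⟩ := hD
  intro a b
  simp only [hu, ← u.app_smul, ← map_add (u.app U).hom]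
  exact congrArg (u.app U) (dn'_leibniz f U a b)

theorem kills_base (G : X.Modules) (D : (Coh.structureModule X).presheaf ⟶ G.presheaf)
    (hD : PrinPart.IsDiffOpLE f (Coh.structureModule X) G 1 D) (V : S.Opens) (c : Γ(S, V)) :
    D.app (op (f ⁻¹ᵁ V)) (OmegaSh.strSect X (f ⁻¹ᵁ V) (f.app V c)) =
      f.app V c • D.app (op (f ⁻¹ᵁ V)) (OmegaSh.strSect X (f ⁻¹ᵁ V) 1) := by
  obtain ⟨u, hu⟩ := hD
  rw [hu, hu, ← u.app_smul]
  exact congrArg (u.app (f ⁻¹ᵁ V)) (dn'_base f V c)

/-- Let f : X ⟶ S be a morphism of schemes, G an O_X-module and D : O_X ⟶ G a differential operator of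
order at most 1 relative to S. Then D can be written in exactly one way as v + d with v : O_X ⟶ G an
O_X-linear map and d an S-derivation of O_X into G. -/
theorem result {X S : Scheme.{u}} (f : X ⟶ S) (G : X.Modules)
    (D : (Coh.structureModule X).presheaf ⟶ G.presheaf)
    (hD : PrinPart.IsDiffOpLE f (Coh.structureModule X) G 1 D) :
    ∃! p : (Coh.structureModule X ⟶ G) × OmegaSh.Der f G,
      ∀ (U : X.Opens) (a : Γ(X, U)),
        D.app (op U) (OmegaSh.strSect X U a) = p.1.app U (OmegaSh.strSect X U a) + p.2.app U a := by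
  let d1 : ∀ U : X.Opens, Γ(G, U) := fun U => D.app (op U) (OmegaSh.strSect X U 1)
  have hres : ∀ {U V : X.Opens} (h : V ≤ U) (a : Γ(X, U)),
      D.app (op V) (OmegaSh.strSect X V (X.presheaf.map (homOfLE h).op a)) =
        G.presheaf.map (homOfLE h).op (D.app (op U) (OmegaSh.strSect X U a)) := fun h a =>
    ConcreteCategory.congr_hom (D.naturality (homOfLE h).op) (OmegaSh.strSect X _ a)
  have hres1 : ∀ {U V : X.Opens} (h : V ≤ U), d1 V = G.presheaf.map (homOfLE h).op (d1 U) := fun h => by
    have := hres h 1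
    rw [map_one (X.presheaf.map (homOfLE h).op).hom] at this
    exact this
  let Dv : ∀ U : X.Opens, Γ(X, U) → Γ(G, U) := fun U a => D.app (op U) (OmegaSh.strSect X U a)
  let φ : (Coh.structureModule X).presheaf ⟶ G.presheaf :=
    { app := fun U => AddCommGrpCat.ofHom ((smulAddHom Γ(X, U.unop) Γ(G, U.unop)).flip (d1 U.unop))
      naturality := fun U V i => by
        ext a
        refine Eq.trans ?_ (Scheme.Modules.map_smul G (homOfLE i.unop.le) (show Γ(X, U.unop) from a) (d1 U.unop)).symm
        exact congrArg _ (hres1 i.unop.le) }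
  let e : Coh.structureModule X ⟶ G := ⟨PresheafOfModules.homMk φ fun U r m =>
    mul_smul (show Γ(X, U.unop) from r) (show Γ(X, U.unop) from m) (d1 U.unop)⟩
  let d : OmegaSh.Der f G :=
    { d := fun {U} => AddMonoidHom.mk' (fun a => Dv U.unop a - (show Γ(X, U.unop) from a) • d1 U.unop)
        (fun a b => by simp only [Dv, map_add, add_smul]; abel)
      d_mul := fun {U} (a b : Γ(X, U.unop)) => by
        show Dv U.unop (a * b) - (a * b) • d1 U.unop =
          a • (Dv U.unop b - b • d1 U.unop) +
            b • (Dv U.unop a - a • d1 U.unop)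
        have h := leibniz_one f G D hD U.unop a b
        rw [smul_sub, smul_sub, smul_smul, smul_smul, mul_comm b a]
        linear_combination (norm := abel) h
      d_map := fun {U V} i (a : Γ(X, U.unop)) => by
        show Dv V.unop (show Γ(X, V.unop) from X.presheaf.map i a) - (show Γ(X, V.unop) from X.presheaf.map i a) • d1 V.unop =
          G.presheaf.map i (Dv U.unop a - a • d1 U.unop)
        rw [map_sub]
        refine Eq.trans ?_ (congrArg _ (Scheme.Modules.map_smul G (homOfLE i.unop.le) (show Γ(X, U.unop) from a) (d1 U.unop)).symm)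
        exact congrArg₂ (· - ·) (hres i.unop.le a) (congrArg _ (hres1 i.unop.le))
      d_app := fun {V} c => by
        show D.app _ (OmegaSh.strSect X (f ⁻¹ᵁ V.unop) (f.app V.unop c)) - f.app V.unop c • d1 (f ⁻¹ᵁ V.unop) = 0
        rw [kills_base f G D hD]
        exact sub_self _ }
  refine ⟨(e, d), fun U a => ?_, fun p hp => ?_⟩
  · show _ = a • d1 U + (D.app (op U) (OmegaSh.strSect X U a) - a • d1 U)
    rw [add_sub_cancel]
  · have h1 : ∀ U : X.Opens, p.1.app U (OmegaSh.strSect X U 1) = d1 U := fun U => by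
      have := hp U 1
      rw [show p.2.app U 1 = 0 from PresheafOfModules.Derivation.d_one _ _, add_zero] at this
      exact this.symm
    have he : p.1 = e := by
      refine Scheme.Modules.hom_ext _ _ fun U => ?_
      ext a
      show p.1.app U a = (show Γ(X, U) from a) • d1 U
      rw [← h1 U, ← Scheme.Modules.Hom.app_smul]
      exact congrArg _ (mul_one (show Γ(X, U) from a)).symm
    refine Prod.ext he (PresheafOfModules.Derivation.ext ?_)
    funext U
    ext a
    show p.2.app U.unop a = Dv U.unop a - (show Γ(X, U.unop) from a) • d1 U.unop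
    rw [show Dv U.unop a = _ from hp U.unop a, he]
    exact (add_sub_cancel_left _ _).symm

end Groth.Agent.S5961
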