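import Groth.Statements.S5965
import Mathlib.AlgebraicGeometry.Morphisms.Finite
import Mathlib.AlgebraicGeometry.Morphisms.Affine
import Mathlib.AlgebraicGeometry.Morphisms.UniversallyClosed

set_option autoImplicit false
universe u
open CategoryTheory CategoryTheory.Limits AlgebraicGeometry TopologicalSpace Opposite
open Nrm16

namespace Groth.Agent.S5965

/-- Let g : X ⟶ Y be a morphism locally of finite type with a section f : Y ⟶ X which is a closed
immersion. Then for every n the n-th infinitesimal neighbourhood of Y in X, mapped to Y through its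
inclusion into X followed by g, is finite over Y. (The published statement allows any section f and
says that the structure sheaf of the neighbourhood is a quasi-coherent O_Y-algebra which is an
O_Y-module of finite type; this row assumes f a closed immersion and states the conclusion as
finiteness of the morphism to Y.) -/
theorem result {X Y : Scheme.{u}} (g : X ⟶ Y) [LocallyOfFiniteType g] (f : Y ⟶ X)
    [IsClosedImmersion f] (hf : f ≫ g = 𝟙 Y) (n : ℕ) :
    IsFinite (PrinPart.infNbhdι f n ≫ g) := by
  let t := PrinPart.toInfNbhd f n
  let ι := PrinPart.infNbhdι f n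
  haveI : Surjective t := ⟨PrinPart.toInfNbhd_surjective f n⟩
  haveI : IsClosedImmersion ι := inferInstanceAs (IsClosedImmersion (Scheme.IdealSheafData.subschemeι _))
  have hid : t ≫ ι ≫ g = 𝟙 Y := by
    rw [← Category.assoc]
    show (PrinPart.toInfNbhd f n ≫ PrinPart.infNbhdι f n) ≫ g = _
    rw [PrinPart.toInfNbhd_ι, hf]
  have hl : ∀ y, (ι ≫ g) (t y) = y := fun y => by
    rw [← Scheme.Hom.comp_apply, hid]; rfl
  have hh : IsHomeomorph (ι ≫ g) := by
    rw [isHomeomorph_iff_exists_inverse]
    refine ⟨(ι ≫ g).continuous, t, fun z => ?_, hl, t.continuous⟩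
    obtain ⟨y, rfl⟩ := t.surjective z
    rw [hl]
  haveI : IsAffineHom (ι ≫ g) :=
    isAffineHom_of_isInducing _ hh.isEmbedding.isInducing (hh.surjective.range_eq ▸ isClosed_univ)
  haveI : UniversallyClosed (t ≫ ι ≫ g) := by rw [hid]; infer_instance
  haveI : UniversallyClosed (ι ≫ g) := .of_comp_surjective t _
  exact (IsFinite.iff_isIntegralHom_and_locallyOfFiniteType _).mpr
    ⟨IsIntegralHom.iff_universallyClosed_and_isAffineHom.mpr ⟨inferInstance, inferInstance⟩,
      (inferInstance : LocallyOfFiniteType (ι ≫ g))⟩

end Groth.Agent.S5965
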