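import Groth.Statements.S5966
import Groth.Agent.S5959
import Groth.Agent.ModStalk.AlgMod
import Mathlib.Topology.Sheaves.Functors

set_option autoImplicit false
universe u
open CategoryTheory CategoryTheory.Limits AlgebraicGeometry TopologicalSpace Opposite
open Nrm16

namespace Groth.Agent.S5966

open CategoryTheory CategoryTheory.Limits AlgebraicGeometry

noncomputable def pushIso {T T' : TopCat.{u}} (e : T ≅ T') :
    T.Sheaf AddCommGrpCat.{u} ≌ T'.Sheaf AddCommGrpCat.{u} :=
  CategoryTheory.Equivalence.mk (TopCat.Sheaf.pushforward _ e.hom) (TopCat.Sheaf.pushforward _ e.inv)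
    ((show 𝟭 _ ≅ TopCat.Sheaf.pushforward AddCommGrpCat.{u} (𝟙 T) from Iso.refl _) ≪≫
      eqToIso (congrArg (TopCat.Sheaf.pushforward AddCommGrpCat.{u}) e.hom_inv_id.symm) ≪≫ Iso.refl _)
    ((show TopCat.Sheaf.pushforward AddCommGrpCat.{u} e.inv ⋙ TopCat.Sheaf.pushforward AddCommGrpCat.{u} e.hom ≅
        TopCat.Sheaf.pushforward AddCommGrpCat.{u} (e.inv ≫ e.hom) from Iso.refl _) ≪≫
      eqToIso (congrArg (TopCat.Sheaf.pushforward AddCommGrpCat.{u}) e.inv_hom_id) ≪≫ Iso.refl _)

theorem preservesColimits_pushforward {A B : Scheme.{u}} (g : A ⟶ B) (hg : IsHomeomorph g) :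
    PreservesColimitsOfSize.{u, u} (Scheme.Modules.pushforward g) := by
  refine ⟨fun {K} _ => ?_⟩
  haveI := Groth.Agent.ModStalk.AlgMod.preservesColimits_toSheaf A.ringCatSheaf K
  haveI := Groth.Agent.ModStalk.AlgMod.preservesColimits_toSheaf B.ringCatSheaf K
  haveI : HasColimitsOfShape K (SheafOfModules.{u} B.ringCatSheaf) := inferInstance
  let e : TopCat.of A ≅ TopCat.of B := TopCat.isoOfHomeo hg.homeomorph
  have he : e.hom = g.base := rfl
  let P := (pushIso e).functor
  haveI : PreservesColimitsOfShape K P := inferInstance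
  haveI hA : PreservesColimitsOfShape K (SheafOfModules.toSheaf.{u} A.ringCatSheaf ⋙ P) :=
    @comp_preservesColimitsOfShape _ _ _ _ _ _ _ _ (SheafOfModules.toSheaf.{u} A.ringCatSheaf) P _ (by assumption)
  haveI : PreservesColimitsOfShape K (Scheme.Modules.pushforward g ⋙ SheafOfModules.toSheaf.{u} B.ringCatSheaf) :=
    @preservesColimitsOfShape_of_natIso _ _ _ _ _ _ _ _
      (show SheafOfModules.toSheaf.{u} A.ringCatSheaf ⋙ P ≅
          Scheme.Modules.pushforward g ⋙ SheafOfModules.toSheaf.{u} B.ringCatSheaf from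
        NatIso.ofComponents (fun M => Iso.refl _)) hA
  let T := SheafOfModules.toSheaf.{u} B.ringCatSheaf
  have hR : ReflectsColimitsOfShape K T := reflectsColimitsOfShape_of_reflectsIsomorphisms
  exact @preservesColimitsOfShape_of_reflects_of_preserves _ _ _ _ _ _ _ _ (Scheme.Modules.pushforward g) T (by assumption) hR

/-- Let f : X ⟶ S be a morphism of schemes and n a natural number. The functor F ↦ P^n_{X/S}(F),
pullback along the second projection of the n-th infinitesimal neighbourhood of the diagonal
followed by pushforward along the first, from O_X-modules to O_X-modules, commutes with all small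
colimits (in particular it is right exact). -/
theorem result {X S : Scheme.{u}} (f : X ⟶ S) (n : ℕ) :
    PreservesColimitsOfSize.{u, u}
      ((Scheme.Modules.pullback (PrinPart.pr2 f n)) ⋙ (Scheme.Modules.pushforward (PrinPart.pr1 f n))) := by
  haveI := (Scheme.Modules.pullbackPushforwardAdjunction (PrinPart.pr2 f n)).leftAdjoint_preservesColimits
  haveI := preservesColimits_pushforward (PrinPart.pr1 f n) (Groth.Agent.S5959.isHomeomorph_pr1 f n)
  exact comp_preservesColimits _ _

end Groth.Agent.S5966
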