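import Groth.Statements.S5967
import Groth.Agent.PrinDiff.Symm
import Groth.Agent.S5959
import Groth.Agent.ModStalk.AssPoint
import Groth.Agent.ModStalk.Restrict
import Groth.Agent.ModStalk.Unit
import Mathlib.Algebra.Homology.ShortComplex.ExactFunctor

set_option autoImplicit false
universe u
open CategoryTheory CategoryTheory.Limits AlgebraicGeometry TopologicalSpace Opposite
open Nrm16

namespace Groth.Agent.S5967

open Groth.Agent.ModStalk in
theorem preservesFiniteLimits_pullback {Z Y : Scheme.{u}} (g : Z ⟶ Y) [Flat g] :
    PreservesFiniteLimits (Scheme.Modules.pullback g) := by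
  haveI : (Scheme.Modules.pullback g).IsLeftAdjoint := (Scheme.Modules.pullbackPushforwardAdjunction g).isLeftAdjoint
  haveI : PreservesFiniteColimits (Scheme.Modules.pullback g) := inferInstance
  haveI : (Scheme.Modules.pullback g).PreservesMonomorphisms := ⟨fun {A B} u _ => by
    refine mono_of_stalkMap_injective _ fun z => ?_
    obtain ⟨eA, hA⟩ := exists_pullStalk_equiv g A z
    obtain ⟨eB, hB⟩ := exists_pullStalk_equiv g B z
    letI := (g.stalkMap z).hom.toAlgebra
    haveI : Module.Flat (Y.presheaf.stalk (g z)) (Z.presheaf.stalk z) := Flat.stalkMap g z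
    let L := RefHull.stalkMapₗ u (g z)
    have hcomp : eB.toLinearMap ∘ₗ RefHull.stalkMapₗ ((Scheme.Modules.pullback g).map u) z =
        L.baseChange (Z.presheaf.stalk z) ∘ₗ eA.toLinearMap := by
      refine pullStalk_ext g A _ _ fun v => ?_
      simp only [LinearMap.comp_apply, LinearEquiv.coe_coe, hA, LinearMap.baseChange_tmul]
      rw [stalkMap_pullGerm]
      exact hB _
    have hinj : Function.Injective (eB.toLinearMap ∘ₗ RefHull.stalkMapₗ ((Scheme.Modules.pullback g).map u) z) := by
      rw [hcomp]
      exact (Module.Flat.lTensor_preserves_injective_linearMap L (stalkMap_injective_of_mono u (g z))).comp eA.injective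
    exact fun a b h => hinj (congrArg eB h)⟩
  haveI : PreservesBinaryBiproducts (Scheme.Modules.pullback g) :=
    preservesBinaryBiproducts_of_preservesBinaryCoproducts _
  haveI : (Scheme.Modules.pullback g).Additive := Functor.additive_of_preservesBinaryBiproducts _
  haveI : (Scheme.Modules.pullback g).PreservesHomology :=
    (Scheme.Modules.pullback g).preservesHomology_of_preservesMonos_and_cokernels
  exact (Scheme.Modules.pullback g).preservesFiniteLimits_of_preservesHomology

/-- Let f : X ⟶ S be a morphism of schemes and n a natural number, and assume that P^n_{X/S} is a flat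
O_X-module for its left structure. Then the functor F ↦ P^n_{X/S}(F) on O_X-modules preserves finite
limits (so it is exact). -/
theorem result {X S : Scheme.{u}} (f : X ⟶ S) (n : ℕ)
    (hP : FlatMod.IsFlat (PrinPart.P f n)) :
    PreservesFiniteLimits
      ((Scheme.Modules.pullback (PrinPart.pr2 f n)) ⋙ (Scheme.Modules.pushforward (PrinPart.pr1 f n))) := by
  haveI : (Coh.structureModule X).IsQuasicoherent := Groth.Agent.ModStalk.isQuasicoherent_unit X
  haveI : (PrinPart.P f n).IsQuasicoherent := Groth.Agent.S5959.result f n (Coh.structureModule X) inferInstance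
  haveI := Groth.Agent.PrinDiff.flat_pr1 f n hP
  obtain ⟨σ, -, hσσ, hσ1, -, -⟩ := Groth.Agent.PrinDiff.exists_symm f n
  haveI : IsIso σ := ⟨σ, hσσ, hσσ⟩
  haveI : Flat (PrinPart.pr2 f n) := by rw [← hσ1]; infer_instance
  haveI := preservesFiniteLimits_pullback (PrinPart.pr2 f n)
  haveI : (Scheme.Modules.pushforward (PrinPart.pr1 f n)).IsRightAdjoint :=
    (Scheme.Modules.pullbackPushforwardAdjunction (PrinPart.pr1 f n)).isRightAdjoint
  exact comp_preservesFiniteLimits _ _

end Groth.Agent.S5967
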