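import Groth.Statements.S5972
import Groth.Agent.ModStalk.PrinPartSect
import Mathlib.RingTheory.TensorProduct.Maps

set_option autoImplicit false
universe u
open CategoryTheory CategoryTheory.Limits AlgebraicGeometry TopologicalSpace Opposite
open Nrm16

namespace Groth.Agent.S5972

open scoped TensorProduct

theorem exists_transport {A B R B' : Type u} [CommRing A] [CommRing B] [Algebra A B] [CommRing R] [CommRing B']
    [Algebra R B'] (eA : A ≃+* R) (eB : B ≃+* B') (hc : ∀ a, eB (algebraMap A B a) = algebraMap R B' (eA a)) :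
    ∃ Φ : (B ⊗[A] B) ≃+* (B' ⊗[R] B'), (∀ a b, Φ (a ⊗ₜ b) = eB a ⊗ₜ eB b) ∧
      (KaehlerDifferential.ideal A B).map Φ.toRingHom = KaehlerDifferential.ideal R B' := by
  letI : Algebra A R := eA.toRingHom.toAlgebra
  letI : Algebra A B' := ((algebraMap R B').comp eA.toRingHom).toAlgebra
  haveI : IsScalarTower A R B' := IsScalarTower.of_algebraMap_eq fun _ => rfl
  haveI : TensorProduct.CompatibleSMul A R B' B' := ⟨fun r m n => by
    obtain ⟨a, rfl⟩ := eA.surjective r
    have h : ∀ x : B', eA a • x = a • x := fun x => by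
      rw [show eA a = algebraMap A R a from rfl, algebraMap_smul]
    rw [h, h]
    exact TensorProduct.smul_tmul a m n⟩
  let e : B ≃ₐ[A] B' := AlgEquiv.ofRingEquiv (f := eB) hc
  let Φ : (B ⊗[A] B) ≃+* (B' ⊗[R] B') :=
    (Algebra.TensorProduct.congr e e).toRingEquiv.trans
      (Algebra.TensorProduct.equivOfCompatibleSMul R A A B' B').toRingEquiv
  have hΦ : ∀ a b, Φ (a ⊗ₜ b) = eB a ⊗ₜ eB b := fun a b => by simp [Φ, e]; rfl
  refine ⟨Φ, hΦ, ?_⟩
  have hμ : ∀ t, Algebra.TensorProduct.lmul' (S := B') R (Φ t) = eB (Algebra.TensorProduct.lmul' (S := B) A t) := by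
    intro t
    induction t using TensorProduct.induction_on with
    | zero => simp
    | add a b ha hb => simp only [map_add, ha, hb]
    | tmul a b => rw [hΦ, Algebra.TensorProduct.lmul'_apply_tmul, Algebra.TensorProduct.lmul'_apply_tmul, map_mul]
  ext y
  rw [Ideal.mem_map_iff_of_surjective Φ.toRingHom Φ.surjective]
  refine ⟨?_, fun hy => ⟨Φ.symm y, ?_, Φ.apply_symm_apply y⟩⟩
  · rintro ⟨s, hs, rfl⟩
    show Algebra.TensorProduct.lmul' (S := B') R (Φ s) = 0
    rw [hμ, show Algebra.TensorProduct.lmul' (S := B) A s = 0 from hs, map_zero]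
  · show Algebra.TensorProduct.lmul' (S := B) A (Φ.symm y) = 0
    apply eB.injective
    rw [← hμ, Φ.apply_symm_apply, map_zero]
    exact hy

/-- Let A → B be a ring homomorphism, X = Spec B, S = Spec A with f : X ⟶ S the induced morphism, and n
a natural number; identify B with the ring of global functions on X through the canonical
isomorphism. If ψ : B ⊗_A B → Γ(X, P^n_{X/S}) is the additive map with ψ(b ⊗ b') = b · d^n(b') for
all b, b' in B, then ψ is surjective with kernel the (n+1)-st power of the kernel I of the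
multiplication map B ⊗_A B → B. -/
theorem result (A B : Type u) [CommRing A] [CommRing B] [Algebra A B] (n : ℕ)
    (ψ : TensorProduct A B B →+
      Γ(PrinPart.P (Spec.map (CommRingCat.ofHom (algebraMap A B))) n, (⊤ : (Spec (CommRingCat.of B)).Opens)))
    (hψ : ∀ b b' : B, ψ (b ⊗ₜ[A] b') =
      (Scheme.ΓSpecIso (CommRingCat.of B)).inv b •
        PrinPart.dn (Spec.map (CommRingCat.ofHom (algebraMap A B))) n ⊤
          ((Scheme.ΓSpecIso (CommRingCat.of B)).inv b')) :
    Function.Surjective ψ ∧ ψ.ker = (KaehlerDifferential.ideal A B ^ (n + 1)).toAddSubgroup := by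
  let f := Spec.map (CommRingCat.ofHom (algebraMap A B))
  obtain ⟨ψ', hs, hk, hp⟩ := Groth.Agent.ModStalk.exists_principalPartsEquiv f n (isAffineOpen_top _)
    (isAffineOpen_top _) (le_refl (⊤ : (Spec (CommRingCat.of B)).Opens))
  letI := (f.appLE ⊤ ⊤ (le_refl _)).hom.toAlgebra
  let eA : A ≃+* Γ(Spec (CommRingCat.of A), ⊤) := (Scheme.ΓSpecIso (CommRingCat.of A)).symm.commRingCatIsoToRingEquiv
  let eB : B ≃+* Γ(Spec (CommRingCat.of B), ⊤) := (Scheme.ΓSpecIso (CommRingCat.of B)).symm.commRingCatIsoToRingEquiv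
  have hc : ∀ a, eB (algebraMap A B a) = algebraMap _ _ (eA a) := fun a => by
    show (CommRingCat.ofHom (algebraMap A B) ≫ (Scheme.ΓSpecIso (CommRingCat.of B)).inv) a = _
    rw [Scheme.ΓSpecIso_inv_naturality]
    show f.appTop _ = f.appLE ⊤ ⊤ _ _
    rw [Scheme.Hom.appLE]
    erw [CategoryTheory.Functor.map_id]
    rfl
  obtain ⟨Φ, hΦ, hI⟩ := exists_transport eA eB hc
  have heq : ψ = ψ'.comp Φ.toAddEquiv.toAddMonoidHom := by
    ext t
    show ψ t = ψ' (Φ t)
    induction t using TensorProduct.induction_on with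
    | zero => rw [map_zero ψ, map_zero Φ, map_zero ψ']
    | add a b ha hb => rw [map_add ψ, map_add Φ, map_add ψ', ha, hb]
    | tmul a b => rw [hψ, hΦ, hp]; rfl
  subst heq
  refine ⟨hs.comp Φ.surjective, ?_⟩
  ext t
  rw [AddMonoidHom.mem_ker, Submodule.mem_toAddSubgroup]
  show ψ' (Φ t) = 0 ↔ _
  rw [← AddMonoidHom.mem_ker, hk, Submodule.mem_toAddSubgroup, ← hI, ← Ideal.map_pow,
    Ideal.mem_map_iff_of_surjective Φ.toRingHom Φ.surjective]
  exact ⟨fun ⟨s, hsI, hst⟩ => Φ.injective hst ▸ hsI, fun ht => ⟨t, ht, rfl⟩⟩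

end Groth.Agent.S5972
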