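import Groth.Statements.S5973
import Groth.Agent.ModStalk.IdealMod
import Groth.Agent.ModStalk.NbhdFinite
import Groth.Agent.ModStalk.PullbackQCoh

set_option autoImplicit false
universe u
open CategoryTheory CategoryTheory.Limits AlgebraicGeometry TopologicalSpace Opposite
open Nrm16

namespace Groth.Agent.S5973

/-- Let f : Y ⟶ X be a closed immersion which is locally of finite presentation. Then for every n the
n-th graded piece Gr_n(f) = I^n/I^(n+1) of the ideal of f, as an O_Y-module, is quasi-coherent of
finite type. (The published statement allows any immersion locally of finite presentation; this row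
states the case of a closed immersion.) -/
theorem result {Y X : Scheme.{u}} (f : Y ⟶ X) [IsClosedImmersion f]
    [LocallyOfFinitePresentation f] (n : ℕ) :
    Coh.IsCoh (PrinPart.grMod f n) := by
  haveI : (ClSub.idealMod (f.ker ^ n)).IsQuasicoherent := Groth.Agent.ModStalk.isQuasicoherent_idealMod _
  haveI : SheafOfModules.IsFiniteType (R := X.ringCatSheaf) (ClSub.idealMod (f.ker ^ n)) := by
    refine Groth.Agent.ModStalk.isFiniteType_of_finite _ fun U => ?_
    let l : Γ(ClSub.idealMod (f.ker ^ n), U.1) →ₗ[Γ(X, U.1)] Γ(X, U.1) :=
      { toFun := fun t => (ClSub.idealModι (f.ker ^ n)).app U.1 t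
        map_add' := fun a b => map_add ((ClSub.idealModι (f.ker ^ n)).app U.1).hom a b
        map_smul' := fun r t => Scheme.Modules.Hom.app_smul (ClSub.idealModι (f.ker ^ n)) r t }
    have hr : LinearMap.range l = (f.ker ^ n).ideal U := by
      ext a
      exact (Groth.Agent.ModStalk.exists_idealMod_app (f.ker ^ n) U a).symm
    have hfg : (LinearMap.range l).FG := by
      rw [hr, Scheme.IdealSheafData.ideal_pow, Pi.pow_apply]
      exact (Groth.Agent.ModStalk.fg_ker_ideal f U).pow
    haveI := Module.Finite.iff_fg.mpr hfg
    exact Module.Finite.equiv (LinearEquiv.ofInjective l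
      (Groth.Agent.ModStalk.idealModι_injective (f.ker ^ n) U.1)).symm
  exact ⟨Groth.Agent.ModStalk.isQuasicoherent_pullback f _, Groth.Agent.ModStalk.isFiniteType_pullback f _⟩

end Groth.Agent.S5973
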