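import Groth.Statements.S5974
import Groth.Agent.ModStalk.ConormalClass
import Groth.Agent.ModStalk.ExactSections
import Groth.Agent.ModStalk.PullbackQCoh

set_option autoImplicit false
universe u
open CategoryTheory CategoryTheory.Limits AlgebraicGeometry TopologicalSpace Opposite
open Nrm16

namespace Groth.Agent.S5974

open Groth.Agent.ModStalk
open scoped TensorProduct

theorem res_bij {X : Scheme.{u}} (M : X.Modules) {A B : X.Opens} (h : A ≤ B) (h' : B ≤ A) :
    Function.Bijective (M.presheaf.map (homOfLE h).op) := by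
  haveI : IsIso (homOfLE h) := ⟨homOfLE h', Subsingleton.elim _ _, Subsingleton.elim _ _⟩
  exact ConcreteCategory.bijective_of_isIso _

/-- The class of a section of the ideal, over any smaller open. -/
noncomputable abbrev cls {Z X : Scheme.{u}} (i : Z ⟶ X) {U : X.Opens} {W : Z.Opens} (h : W ≤ i ⁻¹ᵁ U) :
    Γ(ClSub.idealMod i.ker, U) →+ Γ(Omega.conormal i, W) :=
  pullSec i (ClSub.idealMod i.ker) h

theorem cls_eq {Z X : Scheme.{u}} (i : Z ⟶ X) {U : X.Opens} {W : Z.Opens} (h : W ≤ i ⁻¹ᵁ U)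
    (k : Γ(ClSub.idealMod i.ker, U)) :
    cls i h k = (Omega.conormal i).presheaf.map (homOfLE h).op (OmegaSh.conormalSect i U k) := rfl

/-- Let f : Y ⟶ X and j : Y' ⟶ Y be quasi-compact immersions. Let φ₁ : j^* N_{Y/X} ⟶ N_{Y'/X} and φ₂ :
N_{Y'/X} ⟶ N_{Y'/Y} be the canonical maps of conormal sheaves (the first induced by the identity of
X, the second by f, on local sections of the ideals). Then φ₂ is an epimorphism and the image of φ₁
is the kernel of φ₂: the sequence j^* N_{Y/X} ⟶ N_{Y'/X} ⟶ N_{Y'/Y} ⟶ 0 is exact. (The published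
statement allows arbitrary immersions; this row assumes them quasi-compact, the case in which the
conormal sheaves used here are those of the immersions.) -/
theorem result {Y' Y X : Scheme.{u}} (f : Y ⟶ X) [IsImmersion f] [QuasiCompact f]
    (j : Y' ⟶ Y) [IsImmersion j] [QuasiCompact j]
    (φ₁ : (Scheme.Modules.pullback j).obj (Omega.conormal f) ⟶ Omega.conormal (j ≫ f))
    (hφ₁ : OmegaSh.IsConormalMap (j ≫ f) f (𝟙 X) j φ₁)
    (φ₂ : (Scheme.Modules.pullback (𝟙 Y')).obj (Omega.conormal (j ≫ f)) ⟶ Omega.conormal j)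
    (hφ₂ : OmegaSh.IsConormalMap j (j ≫ f) f (𝟙 Y') φ₂) :
    Epi φ₂ ∧
      imageSubobject φ₁ =
        kernelSubobject ((Scheme.Modules.pullbackId Y').inv.app (Omega.conormal (j ≫ f)) ≫ φ₂) := by
  let i := j ≫ f
  let N := (Scheme.Modules.pullbackId Y').inv.app (Omega.conormal i)
  have : (ClSub.idealMod f.ker).IsQuasicoherent := isQuasicoherent_idealMod _
  have : (ClSub.idealMod j.ker).IsQuasicoherent := isQuasicoherent_idealMod _
  have : (ClSub.idealMod i.ker).IsQuasicoherent := isQuasicoherent_idealMod _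
  have : (Omega.conormal f).IsQuasicoherent := isQuasicoherent_pullback f _
  have : (Omega.conormal j).IsQuasicoherent := isQuasicoherent_pullback j _
  have : (Omega.conormal i).IsQuasicoherent := isQuasicoherent_pullback i _
  have : ((Scheme.Modules.pullback j).obj (Omega.conormal f)).IsQuasicoherent := isQuasicoherent_pullback j _
  let ψ : Omega.conormal i ⟶ Omega.conormal j := N ≫ φ₂
  -- the second map on classes
  have hψ : ∀ (V : X.Opens) (W : Y'.Opens) (h : W ≤ i ⁻¹ᵁ V) (h' : W ≤ j ⁻¹ᵁ (f ⁻¹ᵁ V))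
      (k : Γ(ClSub.idealMod i.ker, V)) (m : Γ(ClSub.idealMod j.ker, f ⁻¹ᵁ V)),
      OmegaSh.idealSect j.ker (f ⁻¹ᵁ V) m = f.app V (OmegaSh.idealSect i.ker V k) →
      ψ.app W (cls i h k) = cls j h' m := by
    intro V W h h' k m hkm
    rw [cls_eq i h, cls_eq j h', app_res ψ]
    show (Omega.conormal j).presheaf.map _ (φ₂.app _ (((Scheme.Modules.pullbackId Y').inv.app (Omega.conormal i)).app _ _)) = _
    rw [app_pullbackId_inv, pullSec]
    have key := hφ₂.2 V k m hkm W h h'
    rw [← key]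
    refine congrArg _ (congrArg _ ?_)
    show ((Scheme.Modules.pullback (𝟙 Y')).obj (Omega.conormal i)).presheaf.map _ _ = _
    exact res_self _ _ _
  have hφ₁' : ∀ (V : X.Opens) (W : Y'.Opens) (h : W ≤ i ⁻¹ᵁ V) (h' : W ≤ j ⁻¹ᵁ (f ⁻¹ᵁ V))
      (a : Γ(ClSub.idealMod f.ker, V)) (k : Γ(ClSub.idealMod i.ker, V)),
      OmegaSh.idealSect i.ker V k = OmegaSh.idealSect f.ker V a →
      φ₁.app W (pullSec j (Omega.conormal f) h' (cls f (le_refl (f ⁻¹ᵁ V)) a)) = cls i h k := by
    intro V W h h' a k hak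
    rw [cls_eq i h, cls_eq f, res_self]
    show φ₁.app W (((Scheme.Modules.pullback j).obj (Omega.conormal f)).presheaf.map (homOfLE h').op
      (OmegaSh.pullSect j (Omega.conormal f) (f ⁻¹ᵁ V) (OmegaSh.conormalSect f V a))) = _
    rw [app_res φ₁]
    exact hφ₁.2 V a k hak W h' h
  -- affine charts
  have key : ∀ y : Y', ∃ W : Y'.Opens, IsAffineOpen W ∧ y ∈ W ∧ (∀ a, ψ.app W (φ₁.app W a) = 0) ∧
      Function.Surjective (ψ.app W) ∧ ∀ a, ψ.app W a = 0 → ∃ b, φ₁.app W b = a := by
    intro y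
    obtain ⟨O, hO, hOeq⟩ := f.isEmbedding.isInducing.isOpen_iff.mp j.coborderRange.2
    have hyO : f (j y) ∈ O := by
      show j y ∈ f ⁻¹' O
      rw [hOeq]; exact subset_coborder (Set.mem_range_self y)
    obtain ⟨V, hV, hyV, hVle, hU, hsf⟩ := exists_affine_immersion f (j y) (i.coborderRange ⊓ ⟨O, hO⟩ ⊓ f.coborderRange)
      ⟨⟨subset_coborder ⟨y, rfl⟩, hyO⟩, subset_coborder (Set.mem_range_self _)⟩
    obtain ⟨hW, hsj⟩ := affine_immersion_of_le j hU (fun z hz => by
      have : z ∈ f ⁻¹' O := (hVle hz).1.2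
      rw [hOeq] at this; exact this)
    obtain ⟨hWi, hsi⟩ := affine_immersion_of_le i hV (fun z hz => (hVle hz).1.1)
    let U := f ⁻¹ᵁ V
    have hcomp : ∀ a, i.app V a = j.app (f ⁻¹ᵁ V) (f.app V a) := fun a => by
      show (j ≫ f).app V a = _
      rw [Scheme.Hom.comp_app]
      rfl
    let W := j ⁻¹ᵁ U
    refine ⟨W, hW, hyV, ?_, ?_, ?_⟩
    · intro a
      obtain ⟨e, he⟩ := exists_sectionsEquiv j (Omega.conormal f) hU hW le_rfl
      letI := (j.appLE U W le_rfl).hom.toAlgebra
      obtain ⟨t, rfl⟩ := e.surjective a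
      induction t using TensorProduct.induction_on with
      | zero => simp
      | add t t' h h' => simp only [map_add, h, h', add_zero]
      | tmul b n =>
        obtain ⟨k, rfl⟩ := exists_class f hV hU hsf n
        have hb : ∀ n, e (b ⊗ₜ n) = b • pullSec j (Omega.conormal f) le_rfl n := fun n => by
          rw [← he, ← map_smul, TensorProduct.smul_tmul', smul_eq_mul, mul_one]
        rw [hb]
        erw [φ₁.app_smul, ψ.app_smul]
        obtain ⟨k', hk'⟩ := exists_idealLift i (OmegaSh.idealSect f.ker V k) (by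
          rw [hcomp, app_idealSect_eq_zero, map_zero]; rfl)
        erw [hφ₁' V W le_rfl le_rfl k k' hk', hψ V W le_rfl le_rfl k' 0 (by
          rw [map_zero, show OmegaSh.idealSect i.ker V k' = OmegaSh.idealSect f.ker V k from hk',
            app_idealSect_eq_zero]), map_zero, smul_zero]
    · intro n
      obtain ⟨m, rfl⟩ := exists_class j hU hW hsj n
      obtain ⟨a, ha⟩ := hsf (OmegaSh.idealSect j.ker U m)
      obtain ⟨k, hk⟩ := exists_idealLift i a (by
        rw [hcomp, ha, app_idealSect_eq_zero]; rfl)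
      exact ⟨cls i le_rfl k, hψ V W le_rfl le_rfl k m (by
        rw [show OmegaSh.idealSect i.ker V k = a from hk, ha])⟩
    · intro n hn
      obtain ⟨k, rfl⟩ := exists_class i hV hWi hsi n
      obtain ⟨m, hm⟩ := exists_idealLift j (f.app V (OmegaSh.idealSect i.ker V k)) (by
        have := app_idealSect_eq_zero i V k
        rw [hcomp] at this
        exact this)
      have hcl := (hψ V W le_rfl le_rfl k m hm).symm.trans hn
      have hsq := idealSect_mem_sq_of_class_eq_zero j hU hW hsj m hcl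
      rw [show OmegaSh.idealSect j.ker U m = f.app V (OmegaSh.idealSect i.ker V k) from hm] at hsq
      let K := RingHom.ker (i.app V).hom
      have hJ : RingHom.ker (j.appLE U W le_rfl).hom = K.map (f.app V).hom := by
        ext b
        rw [← Scheme.Hom.app_eq_appLE, Ideal.mem_map_iff_of_surjective _ hsf]
        refine ⟨fun hb => ?_, ?_⟩
        · obtain ⟨a, rfl⟩ := hsf b
          refine ⟨a, ?_, rfl⟩
          show i.app V a = 0
          rw [hcomp]
          exact hb
        · rintro ⟨a, ha, rfl⟩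
          exact (hcomp a).symm.trans ha
      rw [hJ, ← Ideal.map_mul, Ideal.mem_map_iff_of_surjective _ hsf] at hsq
      obtain ⟨a, ha, hfa⟩ := hsq
      have hk2 : ∀ b ∈ K * K, ∃ k₂ : Γ(ClSub.idealMod i.ker, V),
          OmegaSh.idealSect i.ker V k₂ = b ∧ cls i (le_refl (i ⁻¹ᵁ V)) k₂ = 0 := by
        intro b hb
        refine Submodule.mul_induction_on hb ?_ ?_
        · intro p hp q hq
          obtain ⟨kq, hkq⟩ := exists_idealLift i q hq
          refine ⟨p • kq, by rw [idealSect_smul, show OmegaSh.idealSect i.ker V kq = q from hkq], ?_⟩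
          refine (pullSec_smul i (ClSub.idealMod i.ker) (le_refl (i ⁻¹ᵁ V)) p kq).trans ?_
          rw [← Scheme.Hom.app_eq_appLE, RingHom.mem_ker.mp hp, zero_smul]
          rfl
        · intro p q hp hq
          obtain ⟨k₁, h1, h1'⟩ := hp
          obtain ⟨k₂, h2, h2'⟩ := hq
          exact ⟨k₁ + k₂, by rw [map_add, h1, h2], by rw [map_add, h1', h2', add_zero]⟩
      obtain ⟨k₂, hk₂, hk₂'⟩ := hk2 a ha
      obtain ⟨c, hc⟩ := exists_idealLift f (OmegaSh.idealSect i.ker V (k - k₂)) (by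
        rw [map_sub, map_sub (f.app V).hom, hk₂, hfa, sub_self])
      refine ⟨pullSec j (Omega.conormal f) le_rfl (cls f (le_refl (f ⁻¹ᵁ V)) c), ?_⟩
      rw [hφ₁' V W le_rfl le_rfl c (k - k₂) hc.symm, map_sub]
      have hh : cls i (le_refl (i ⁻¹ᵁ V) : W ≤ i ⁻¹ᵁ V) k₂ = 0 := hk₂'
      erw [hh]
      exact sub_zero _
  have hw : φ₁ ≫ ψ = 0 := eq_zero_of_app _ fun y => by
    obtain ⟨W, hW, hy, h0, -⟩ := key y
    exact ⟨W, hW, hy, h0⟩
  have hepi : Epi ψ := epi_of_app_surjective ψ fun y => by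
    obtain ⟨W, hW, hy, -, hs, -⟩ := key y
    exact ⟨W, hW, hy, hs⟩
  refine ⟨epi_of_epi_fac (f := N) (rfl : N ≫ φ₂ = ψ), ?_⟩
  let S := ShortComplex.mk φ₁ ψ hw
  haveI : S.X₁.IsQuasicoherent := ‹((Scheme.Modules.pullback j).obj (Omega.conormal f)).IsQuasicoherent›
  haveI : S.X₂.IsQuasicoherent := ‹(Omega.conormal i).IsQuasicoherent›
  haveI : S.X₃.IsQuasicoherent := ‹(Omega.conormal j).IsQuasicoherent›
  refine (ShortComplex.exact_iff_image_eq_kernel S).mp (exact_of_app S fun y => ?_)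
  obtain ⟨W, hW, hy, -, -, he⟩ := key y
  exact ⟨W, hW, hy, he⟩

end Groth.Agent.S5974
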