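import Groth.Statements.S5975
import Groth.Agent.ModStalk.OmegaExact

set_option autoImplicit false
universe u
open CategoryTheory CategoryTheory.Limits AlgebraicGeometry TopologicalSpace Opposite
open Nrm16

namespace Groth.Agent.S5975

open scoped TensorProduct
open Groth.Agent.ModStalk

set_option linter.style.haveILetI false


/-- Let f : X ⟶ Y and g : Y ⟶ Z be morphisms of schemes. Let (Ω_{Y/Z}, d), (Ω_{X/Z}, d') and (Ω_{X/Y},
d'') be sheaves of differentials (universal derivations) and let c₁ : f^*Ω_{Y/Z} ⟶ Ω_{X/Z} and c₂ :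
Ω_{X/Z} ⟶ Ω_{X/Y} be the canonical maps compatible with the derivations. Then c₂ is an epimorphism
and the image of c₁ is the kernel of c₂: the sequence f^*Ω_{Y/Z} ⟶ Ω_{X/Z} ⟶ Ω_{X/Y} ⟶ 0 is exact. -/
theorem result {X Y Z : Scheme.{u}} (f : X ⟶ Y) (g : Y ⟶ Z)
    (ΩY : Y.Modules) (dY : OmegaSh.Der g ΩY) (hY : OmegaSh.IsUniversal dY)
    (ΩX : X.Modules) (dX : OmegaSh.Der (f ≫ g) ΩX) (hX : OmegaSh.IsUniversal dX)
    (ΩXY : X.Modules) (dXY : OmegaSh.Der f ΩXY) (hXY : OmegaSh.IsUniversal dXY)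
    (c₁ : (Scheme.Modules.pullback f).obj ΩY ⟶ ΩX) (hc₁ : OmegaSh.IsDiffCompat f dY dX c₁)
    (c₂ : (Scheme.Modules.pullback (𝟙 X)).obj ΩX ⟶ ΩXY) (hc₂ : OmegaSh.IsDiffCompat (𝟙 X) dX dXY c₂) :
    Epi c₂ ∧
      imageSubobject c₁ = kernelSubobject ((Scheme.Modules.pullbackId X).inv.app ΩX ≫ c₂) := by
  have : ΩY.IsQuasicoherent := isQCoh_of_isUniversal hY
  have : ΩX.IsQuasicoherent := isQCoh_of_isUniversal hX
  have : ΩXY.IsQuasicoherent := isQCoh_of_isUniversal hXY
  have : ((Scheme.Modules.pullback f).obj ΩY).IsQuasicoherent := isQuasicoherent_pullback f ΩY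
  let v : ΩX ⟶ ΩXY := (Scheme.Modules.pullbackId X).inv.app ΩX ≫ c₂
  have hv : ∀ (W : X.Opens) (s : Γ(X, W)), v.app W (dX.app W s) = dXY.app W s := by
    intro W s
    show c₂.app W (((Scheme.Modules.pullbackId X).inv.app ΩX).app W (dX.app W s)) = _
    rw [app_pullbackId_inv, compat_pullSec hc₂ (le_refl W) s]
    congr 1
    exact congr($(OmegaSh.id_appLE_eq_id (rfl : 𝟙 X = 𝟙 X) _) s)
  have hw : c₁ ≫ v = 0 := by
    refine eq_zero_of_pullSect f hY _ fun U s => ?_
    show v.app (f ⁻¹ᵁ U) (c₁.app (f ⁻¹ᵁ U) (OmegaSh.pullSect f ΩY U (dY.app U s))) = 0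
    rw [hc₁, hv]
    exact dXY.d_app s
  have key : ∀ x : X, ∃ W : X.Opens, IsAffineOpen W ∧ x ∈ W ∧ Function.Surjective (v.app W) ∧
      ∀ a, v.app W a = 0 → ∃ b, c₁.app W b = a := by
    intro x
    obtain ⟨_, ⟨V, hV, rfl⟩, hxV, -⟩ := Z.isBasis_affineOpens.exists_subset_of_mem_open
      (Set.mem_univ (g (f x))) isOpen_univ
    obtain ⟨_, ⟨U, hU, rfl⟩, hxU, hUV⟩ := Y.isBasis_affineOpens.exists_subset_of_mem_open
      (show f x ∈ g ⁻¹ᵁ V from hxV) (g ⁻¹ᵁ V).2
    obtain ⟨_, ⟨W, hW, rfl⟩, hxW, hWU⟩ := X.isBasis_affineOpens.exists_subset_of_mem_open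
      (show x ∈ f ⁻¹ᵁ U from hxU) (f ⁻¹ᵁ U).2
    have hWV : W ≤ (f ≫ g) ⁻¹ᵁ V := fun z hz => hUV (hWU hz)
    letI := (g.appLE V U hUV).hom.toAlgebra
    letI := (f.appLE U W hWU).hom.toAlgebra
    letI := ((f ≫ g).appLE V W hWV).hom.toAlgebra
    haveI : IsScalarTower Γ(Z, V) Γ(Y, U) Γ(X, W) := IsScalarTower.of_algebraMap_eq fun a => by
      exact congr($(Scheme.Hom.appLE_comp_appLE _ _ _ _ _ hUV hWU) a).symm
    obtain ⟨T, hT⟩ := exists_kaehlerEquiv hWV hX hV hW
    obtain ⟨T', hT'⟩ := exists_kaehlerEquiv hWU hXY hU hW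
    have hTT : ∀ ω, v.app W (T ω) = T' (KaehlerDifferential.map Γ(Z, V) Γ(Y, U) Γ(X, W) Γ(X, W) ω) := by
      intro ω
      have hmem : ω ∈ Submodule.span Γ(X, W) (Set.range (KaehlerDifferential.D Γ(Z, V) Γ(X, W))) := by
        rw [KaehlerDifferential.span_range_derivation]; trivial
      induction hmem using Submodule.span_induction with
      | mem ω hω =>
        obtain ⟨s, rfl⟩ := hω
        rw [hT, hv, KaehlerDifferential.map_D, hT', Algebra.algebraMap_self_apply]
      | zero => rw [map_zero, map_zero, map_zero, map_zero]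
      | add a a' _ _ ha ha' => rw [map_add, map_add, map_add, map_add, ha, ha']
      | smul r a _ ha => rw [map_smul, v.app_smul, ha, map_smul, map_smul]
    refine ⟨W, hW, hxW, fun n => ?_, fun a ha => ?_⟩
    · obtain ⟨ω', rfl⟩ := T'.surjective n
      obtain ⟨ω, rfl⟩ := KaehlerDifferential.map_surjective Γ(Z, V) Γ(Y, U) Γ(X, W) ω'
      exact ⟨T ω, hTT ω⟩
    · obtain ⟨ω, rfl⟩ := T.surjective a
      rw [hTT, LinearEquiv.map_eq_zero_iff] at ha
      obtain ⟨t, rfl⟩ := (KaehlerDifferential.exact_mapBaseChange_map Γ(Z, V) Γ(Y, U) Γ(X, W) ω).mp ha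
      clear ha
      induction t using TensorProduct.induction_on with
      | zero => exact ⟨0, by rw [map_zero, map_zero, map_zero]⟩
      | add t t' ht ht' =>
        obtain ⟨b, hb⟩ := ht
        obtain ⟨b', hb'⟩ := ht' 
        exact ⟨b + b', by rw [map_add, map_add, map_add, hb, hb']⟩
      | tmul b y =>
        have hmem : y ∈ Submodule.span Γ(Y, U) (Set.range (KaehlerDifferential.D Γ(Z, V) Γ(Y, U))) := by
          rw [KaehlerDifferential.span_range_derivation]; trivial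
        induction hmem using Submodule.span_induction generalizing b with
        | mem y hy =>
          obtain ⟨s, rfl⟩ := hy
          refine ⟨b • pullSec f ΩY hWU (dY.app U s), ?_⟩
          refine (kaehlerEquiv_compat f hc₁ hWU b s).trans ?_
          rw [KaehlerDifferential.mapBaseChange_tmul, map_smul,
            KaehlerDifferential.map_D, hT]
          rfl
        | zero => exact ⟨0, by rw [TensorProduct.tmul_zero, map_zero, map_zero, map_zero]⟩
        | add y y' _ _ hy hy' =>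
          obtain ⟨c, hc⟩ := hy b
          obtain ⟨c', hc'⟩ := hy' b
          exact ⟨c + c', by rw [TensorProduct.tmul_add, map_add, map_add, map_add, hc, hc']⟩
        | smul r y _ hy =>
          obtain ⟨c, hc⟩ := hy (r • b)
          exact ⟨c, by rw [hc, TensorProduct.smul_tmul]⟩
  have hepi : Epi v := epi_of_app_surjective v fun x => by
    obtain ⟨W, hW, hx, hs, -⟩ := key x
    exact ⟨W, hW, hx, hs⟩
  refine ⟨epi_of_epi ((Scheme.Modules.pullbackId X).inv.app ΩX) c₂, ?_⟩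
  refine (ShortComplex.exact_iff_image_eq_kernel (ShortComplex.mk c₁ v hw)).mp ?_
  haveI : (ShortComplex.mk c₁ v hw).X₁.IsQuasicoherent := ‹((Scheme.Modules.pullback f).obj ΩY).IsQuasicoherent›
  haveI : (ShortComplex.mk c₁ v hw).X₂.IsQuasicoherent := ‹ΩX.IsQuasicoherent›
  haveI : (ShortComplex.mk c₁ v hw).X₃.IsQuasicoherent := ‹ΩXY.IsQuasicoherent›
  refine exact_of_app _ fun x => ?_
  obtain ⟨W, hW, hx, -, he⟩ := key x
  exact ⟨W, hW, hx, he⟩

end Groth.Agent.S5975
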