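import Groth.Statements.S5976
import Groth.Agent.ModStalk.OmegaExact

set_option autoImplicit false
universe u
open CategoryTheory CategoryTheory.Limits AlgebraicGeometry TopologicalSpace Opposite
open Nrm16

namespace Groth.Agent.S5976

open scoped TensorProduct
open Groth.Agent.ModStalk

set_option linter.style.haveILetI false


/-- Let f : Y ⟶ Z be a morphism and j : X ⟶ Y a quasi-compact immersion. Let (Ω_{Y/Z}, d) and (Ω_{X/Z},
d') be sheaves of differentials (universal derivations), φ : N_{X/Y} ⟶ j^*Ω_{Y/Z} the canonical map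
from the conormal sheaf of j (class of a local section s of the ideal ↦ pullback of d s) and c :
j^*Ω_{Y/Z} ⟶ Ω_{X/Z} the canonical map compatible with the derivations. Then c is an epimorphism and
the image of φ is the kernel of c: the sequence N_{X/Y} ⟶ j^*Ω_{Y/Z} ⟶ Ω_{X/Z} ⟶ 0 is exact. (The
published statement allows any immersion j; this row assumes j quasi-compact, the case in which the
conormal sheaf used here is that of j.) -/
theorem result {X Y Z : Scheme.{u}} (f : Y ⟶ Z) (j : X ⟶ Y)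
    [IsImmersion j] [QuasiCompact j]
    (ΩY : Y.Modules) (dY : OmegaSh.Der f ΩY) (hY : OmegaSh.IsUniversal dY)
    (ΩX : X.Modules) (dX : OmegaSh.Der (j ≫ f) ΩX) (hX : OmegaSh.IsUniversal dX)
    (φ : Omega.conormal j ⟶ (Scheme.Modules.pullback j).obj ΩY) (hφ : OmegaSh.IsConormalDiff j dY φ)
    (c : (Scheme.Modules.pullback j).obj ΩY ⟶ ΩX) (hc : OmegaSh.IsDiffCompat j dY dX c) :
    Epi c ∧ imageSubobject φ = kernelSubobject c := by
  have : ΩY.IsQuasicoherent := isQCoh_of_isUniversal hY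
  have : ΩX.IsQuasicoherent := isQCoh_of_isUniversal hX
  have : ((Scheme.Modules.pullback j).obj ΩY).IsQuasicoherent := isQuasicoherent_pullback j ΩY
  have : (ClSub.idealMod j.ker).IsQuasicoherent := isQuasicoherent_idealMod _
  have : (Omega.conormal j).IsQuasicoherent := isQuasicoherent_pullback j _
  have hw : φ ≫ c = 0 := by
    refine hom_ext_pullSect j _ _ fun U k => ?_
    show c.app (j ⁻¹ᵁ U) (φ.app (j ⁻¹ᵁ U) (OmegaSh.conormalSect j U k)) = _
    rw [hφ, hc, app_idealSect_eq_zero, map_zero]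
    rfl
  have key : ∀ x : X, ∃ W : X.Opens, IsAffineOpen W ∧ x ∈ W ∧ Function.Surjective (c.app W) ∧
      ∀ a, c.app W a = 0 → ∃ b, φ.app W b = a := by
    intro x
    obtain ⟨_, ⟨V, hV, rfl⟩, hxV, -⟩ := Z.isBasis_affineOpens.exists_subset_of_mem_open
      (Set.mem_univ (f (j x))) isOpen_univ
    obtain ⟨U, hU, hxU, hUV, hW, hsurj⟩ := exists_affine_immersion j x (f ⁻¹ᵁ V) hxV
    have hWU : j ⁻¹ᵁ U ≤ j ⁻¹ᵁ U := le_rfl
    have hWV : j ⁻¹ᵁ U ≤ (j ≫ f) ⁻¹ᵁ V := fun z hz => hUV hz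
    letI := (f.appLE V U hUV).hom.toAlgebra
    letI := (j.appLE U (j ⁻¹ᵁ U) hWU).hom.toAlgebra
    letI := ((j ≫ f).appLE V (j ⁻¹ᵁ U) hWV).hom.toAlgebra
    haveI : IsScalarTower Γ(Z, V) Γ(Y, U) Γ(X, j ⁻¹ᵁ U) := IsScalarTower.of_algebraMap_eq fun a => by
      exact congr($(Scheme.Hom.appLE_comp_appLE _ _ _ _ _ hUV hWU) a).symm
    have hsurj' : Function.Surjective (algebraMap Γ(Y, U) Γ(X, j ⁻¹ᵁ U)) := fun b => by
      obtain ⟨a, ha⟩ := hsurj b
      refine ⟨a, ?_⟩
      show j.appLE U (j ⁻¹ᵁ U) hWU a = b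
      rw [← Scheme.Hom.app_eq_appLE]
      exact ha
    obtain ⟨T, hT⟩ := exists_kaehlerEquiv hUV hY hV hU
    obtain ⟨T', hT'⟩ := exists_kaehlerEquiv hWV hX hV hW
    obtain ⟨e, he⟩ := exists_sectionsEquiv j ΩY hU hW hWU
    let E := (LinearEquiv.baseChange Γ(Y, U) Γ(X, j ⁻¹ᵁ U) _ _ T).trans e
    have hE : ∀ (b : Γ(X, j ⁻¹ᵁ U)) (s : Γ(Y, U)),
        E (b ⊗ₜ KaehlerDifferential.D Γ(Z, V) Γ(Y, U) s) = b • pullSec j ΩY hWU (dY.app U s) := by
      intro b s
      show e (b ⊗ₜ T (KaehlerDifferential.D Γ(Z, V) Γ(Y, U) s)) = _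
      rw [hT, ← he, ← map_smul, TensorProduct.smul_tmul', smul_eq_mul, mul_one]
    have hcE : ∀ t, c.app (j ⁻¹ᵁ U) (E t) =
        T' (KaehlerDifferential.mapBaseChange Γ(Z, V) Γ(Y, U) Γ(X, j ⁻¹ᵁ U) t) := by
      intro t
      induction t using TensorProduct.induction_on with
      | zero => rw [map_zero, map_zero, map_zero, map_zero]
      | add t t' ht ht' => rw [map_add, map_add, map_add, map_add, ht, ht']
      | tmul b y =>
        have hmem : y ∈ Submodule.span Γ(Y, U) (Set.range (KaehlerDifferential.D Γ(Z, V) Γ(Y, U))) := by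
          rw [KaehlerDifferential.span_range_derivation]; trivial
        induction hmem using Submodule.span_induction generalizing b with
        | mem y hy =>
          obtain ⟨s, rfl⟩ := hy
          rw [hE]
          refine (kaehlerEquiv_compat j hc hWU b s).trans ?_
          rw [KaehlerDifferential.mapBaseChange_tmul, map_smul, KaehlerDifferential.map_D, hT']
          rfl
        | zero => rw [TensorProduct.tmul_zero, map_zero, map_zero, map_zero, map_zero]
        | add y y' _ _ hy hy' => rw [TensorProduct.tmul_add, map_add, map_add, map_add, map_add, hy b, hy' b]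
        | smul r y _ hy => rw [← TensorProduct.smul_tmul]; exact hy (r • b)
    refine ⟨j ⁻¹ᵁ U, hW, hxU, fun n => ?_, fun a ha => ?_⟩
    · obtain ⟨ω, rfl⟩ := T'.surjective n
      obtain ⟨ω', rfl⟩ := KaehlerDifferential.map_surjective_of_surjective Γ(Z, V) Γ(Z, V) Γ(Y, U) Γ(X, j ⁻¹ᵁ U) hsurj' ω
      refine ⟨E (1 ⊗ₜ ω'), ?_⟩
      rw [hcE, KaehlerDifferential.mapBaseChange_tmul, one_smul]
    · obtain ⟨t, rfl⟩ := E.surjective a
      rw [hcE, LinearEquiv.map_eq_zero_iff] at ha
      obtain ⟨q, rfl⟩ :=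
        (KaehlerDifferential.exact_kerCotangentToTensor_mapBaseChange Γ(Z, V) Γ(Y, U) Γ(X, j ⁻¹ᵁ U) hsurj' t).mp ha
      obtain ⟨s, rfl⟩ := Ideal.toCotangent_surjective _ q
      have hs : j.app U s.1 = 0 := by
        have := RingHom.mem_ker.mp s.2
        rw [Scheme.Hom.app_eq_appLE]
        exact this
      obtain ⟨k, hk⟩ := exists_idealLift j s.1 hs
      refine ⟨OmegaSh.conormalSect j U k, ?_⟩
      rw [hφ, KaehlerDifferential.kerCotangentToTensor_toCotangent, hE, one_smul]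
      have hk' : OmegaSh.idealSect j.ker U k = s.1 := hk
      rw [hk']
      show _ = ((Scheme.Modules.pullback j).obj ΩY).presheaf.map (homOfLE hWU).op _
      rw [show (homOfLE hWU).op = 𝟙 _ from rfl, CategoryTheory.Functor.map_id]
      rfl
  refine ⟨epi_of_app_surjective c fun x => ?_,
    (ShortComplex.exact_iff_image_eq_kernel (ShortComplex.mk φ c hw)).mp ?_⟩
  · obtain ⟨W, hW, hx, hs, -⟩ := key x
    exact ⟨W, hW, hx, hs⟩
  haveI : (ShortComplex.mk φ c hw).X₁.IsQuasicoherent := ‹(Omega.conormal j).IsQuasicoherent›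
  haveI : (ShortComplex.mk φ c hw).X₂.IsQuasicoherent := ‹((Scheme.Modules.pullback j).obj ΩY).IsQuasicoherent›
  haveI : (ShortComplex.mk φ c hw).X₃.IsQuasicoherent := ‹ΩX.IsQuasicoherent›
  refine exact_of_app _ fun x => ?_
  obtain ⟨W, hW, hx, -, he⟩ := key x
  exact ⟨W, hW, hx, he⟩

end Groth.Agent.S5976
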