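import Groth.Statements.S5977
import Groth.Agent.PrinDiff.DiffOp
import Groth.Agent.ModStalk.PullbackSections

set_option autoImplicit false
universe u
open CategoryTheory CategoryTheory.Limits AlgebraicGeometry TopologicalSpace Opposite
open Nrm16

namespace Groth.Agent.S5977

open Groth.Agent.ModStalk

theorem dn_res {X S : Scheme.{u}} (f : X ⟶ S) (n : ℕ) {U V : X.Opens} (h : V ≤ U) (b : Γ(X, U)) :
    PrinPart.dn f n V (X.presheaf.map (homOfLE h).op b) =
      (PrinPart.P f n).presheaf.map (homOfLE h).op (PrinPart.dn f n U b) :=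
  PrinPart.dP_map f n (Coh.structureModule X) h (OmegaSh.strSect X U b)

theorem app_pullSec_dn {X S X' S' : Scheme.{u}} (f : X ⟶ S) (f' : X' ⟶ S') (u : X' ⟶ X) (n : ℕ)
    (φ : (Scheme.Modules.pullback u).obj (PrinPart.P f n) ⟶ PrinPart.P f' n) (hφ : PrinPart.IsPMap f f' u n φ)
    {U : X.Opens} {U' : X'.Opens} (h : U' ≤ u ⁻¹ᵁ U) (b : Γ(X, U)) :
    φ.app U' (pullSec u (PrinPart.P f n) h (PrinPart.dn f n U b)) = PrinPart.dn f' n U' (u.appLE U U' h b) := by
  show φ.app U' (((Scheme.Modules.pullback u).obj (PrinPart.P f n)).presheaf.map (homOfLE h).op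
    (OmegaSh.pullSect u (PrinPart.P f n) U (PrinPart.dn f n U b))) = _
  refine (NatTrans.naturality_apply φ.mapPresheaf (homOfLE h).op _).trans ?_
  show (PrinPart.P f' n).presheaf.map (homOfLE h).op (φ.app (u ⁻¹ᵁ U) (OmegaSh.pullSect u (PrinPart.P f n) U
    (PrinPart.dn f n U b))) = _
  rw [hφ, ← dn_res]
  rfl

theorem app_res' {X : Scheme.{u}} {M N : X.Modules} (a : M ⟶ N) {U V : X.Opens} (h : V ≤ U) (s : Γ(M, U)) :
    a.app V (M.presheaf.map (homOfLE h).op s) = N.presheaf.map (homOfLE h).op (a.app U s) :=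
  NatTrans.naturality_apply a.mapPresheaf (homOfLE h).op s

/-- Let f : Y ⟶ Z be a morphism and j : X ⟶ Y a closed immersion, and let φ : j^* P^n_{Y/Z} ⟶ P^n_{X/Z}
be the canonical O_X-linear map of sheaves of principal parts of order n, the one sending the
pullback of d^n b to d^n (j♯ b). Then φ is an epimorphism. (The published statement also identifies
the kernel of φ as the ideal generated by the pullback of d^n of the ideal of j; this row states the
surjectivity.) -/
theorem result {X Y Z : Scheme.{u}} (f : Y ⟶ Z) (j : X ⟶ Y) [IsClosedImmersion j] (n : ℕ)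
    (φ : (Scheme.Modules.pullback j).obj (PrinPart.P f n) ⟶ PrinPart.P (j ≫ f) n)
    (hφ : PrinPart.IsPMap f (j ≫ f) j n φ) :
    Epi φ := by
  refine ⟨fun {G} a b hab => Groth.Agent.PrinDiff.hom_ext_dP (j ≫ f) n (Coh.structureModule X) G a b fun U t => ?_⟩
  refine eq_of_germ_eq G _ _ fun x hx => ?_
  obtain ⟨c, hc⟩ := j.stalkMap_surjective x (X.presheaf.germ U x hx (OmegaSh.fnSect X U t))
  obtain ⟨W, hjx, c, rfl⟩ := Y.presheaf.exists_germ_eq c
  rw [Scheme.Hom.germ_stalkMap_apply] at hc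
  obtain ⟨U', hxU', i₁, i₂, e⟩ := X.presheaf.germ_eq x hjx hx _ _ hc
  have e1 : PrinPart.dn (j ≫ f) n U' (j.appLE W U' i₁.le c) =
      (PrinPart.P (j ≫ f) n).presheaf.map (homOfLE i₂.le).op (PrinPart.dP (j ≫ f) n (Coh.structureModule X) U t) := by
    rw [show j.appLE W U' i₁.le c = X.presheaf.map (homOfLE i₂.le).op (OmegaSh.fnSect X U t) from e, dn_res]
    rfl
  have e2 : a.app U' (PrinPart.dn (j ≫ f) n U' (j.appLE W U' i₁.le c)) =
      b.app U' (PrinPart.dn (j ≫ f) n U' (j.appLE W U' i₁.le c)) := by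
    rw [← app_pullSec_dn f (j ≫ f) j n φ hφ i₁.le c]
    exact congrArg (fun k : (Scheme.Modules.pullback j).obj (PrinPart.P f n) ⟶ G => k.app U' _) hab
  rw [e1, app_res', app_res'] at e2
  rw [← G.presheaf.germ_res_apply (homOfLE i₂.le) x hxU' _, e2, G.presheaf.germ_res_apply]

end Groth.Agent.S5977
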