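import Groth.Statements.S5978
import Groth.Agent.ModStalk.PrinPartSect
import Groth.Agent.ModStalk.OmegaLocal
import Groth.Agent.ModStalk.IsoCriterion
import Groth.Agent.S5959
import Groth.Agent.S5005
import Groth.Agent.ModStalk.IdealMod

set_option autoImplicit false
universe u
open CategoryTheory CategoryTheory.Limits AlgebraicGeometry TopologicalSpace Opposite
open Nrm16

namespace Groth.Agent.S5978

open scoped TensorProduct
open Groth.Agent.ModStalk

theorem app_coprod_eq {X : Scheme.{u}} {M N P : X.Modules} (a : M ⟶ P) (b : N ⟶ P) (U : X.Opens)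
    (z : Γ(M ⨿ N, U)) :
    (coprod.desc a b).app U z = a.app U ((coprod.desc (𝟙 M) 0).app U z) + b.app U ((coprod.desc (0 : M ⟶ N) (𝟙 N)).app U z) := by
  have : coprod.desc a b = coprod.desc (𝟙 M) 0 ≫ a + coprod.desc (0 : M ⟶ N) (𝟙 N) ≫ b := by
    refine coprod.hom_ext ?_ ?_
    · rw [Preadditive.comp_add, coprod.inl_desc, coprod.inl_desc_assoc, coprod.inl_desc_assoc, Category.id_comp,
        zero_comp, add_zero]
    · rw [Preadditive.comp_add, coprod.inr_desc, coprod.inr_desc_assoc, coprod.inr_desc_assoc, Category.id_comp,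
        zero_comp, zero_add]
  rw [this]
  rfl

theorem coprod_ext {X : Scheme.{u}} {M N : X.Modules} (U : X.Opens) (z : Γ(M ⨿ N, U))
    (h1 : (coprod.desc (𝟙 M) (0 : N ⟶ M)).app U z = 0) (h2 : (coprod.desc (0 : M ⟶ N) (𝟙 N)).app U z = 0) : z = 0 := by
  have h := app_coprod_eq (coprod.inl (X := M) (Y := N)) coprod.inr U z
  rw [show coprod.desc (coprod.inl (X := M) (Y := N)) coprod.inr = 𝟙 _ from by refine coprod.hom_ext ?_ ?_ <;> simp] at h
  refine (show z = _ from h).trans ?_
  rw [h1, h2]
  erw [map_zero, map_zero]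
  exact add_zero _


theorem isQuasicoherent_coprod {X : Scheme.{u}} (M N : X.Modules) [M.IsQuasicoherent] [N.IsQuasicoherent] :
    Coh.IsQCoh (M ⨿ N) := by
  let p := coprod.desc (𝟙 M) (0 : N ⟶ M)
  let q := coprod.desc (0 : M ⟶ N) (𝟙 N)
  refine isQuasicoherent_of_localizing _ (fun U hU g t => ?_) fun U hU g s hs => ?_
  · obtain ⟨n₁, a, ha⟩ := exists_extend M hU g (p.app _ t)
    obtain ⟨n₂, b, hb⟩ := exists_extend N hU g (q.app _ t)
    refine ⟨n₁ + n₂, (coprod.inl (X := M) (Y := N)).app U (g ^ n₂ • a) + (coprod.inr (X := M) (Y := N)).app U (g ^ n₁ • b), ?_⟩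
    have h := app_coprod_eq (coprod.inl (X := M) (Y := N)) coprod.inr _ t
    rw [show coprod.desc (coprod.inl (X := M) (Y := N)) coprod.inr = 𝟙 _ from by refine coprod.hom_ext ?_ ?_ <;> simp] at h
    replace h : t = _ := h
    conv_rhs => rw [h]
    rw [map_add ((M ⨿ N).presheaf.map _).hom, ← app_res, ← app_res, smul_res, smul_res, ha, hb,
      map_pow, map_pow, Scheme.Modules.Hom.app_smul, Scheme.Modules.Hom.app_smul, Scheme.Modules.Hom.app_smul,
      Scheme.Modules.Hom.app_smul, smul_smul, smul_smul, ← pow_add, ← pow_add, add_comm n₂ n₁, ← smul_add]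
  · obtain ⟨n₁, hn₁⟩ := exists_pow_smul_eq_zero M hU g (p.app U s) (by rw [← app_res, hs, map_zero])
    obtain ⟨n₂, hn₂⟩ := exists_pow_smul_eq_zero N hU g (q.app U s) (by rw [← app_res, hs, map_zero])
    refine ⟨n₁ + n₂, coprod_ext U _ ?_ ?_⟩
    · show p.app U _ = 0
      rw [p.app_smul, add_comm, pow_add, mul_smul, hn₁, smul_zero]
    · show q.app U _ = 0
      rw [q.app_smul, pow_add, mul_smul, hn₂, smul_zero]

/-- Let f : X ⟶ S be a quasi-separated morphism, Ω_{X/S} its sheaf of differentials (the conormal sheaf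
of the diagonal) with its derivation d, e : O_X ⟶ P^1_{X/S} the O_X-linear map s ↦ s·1 and ι :
Ω_{X/S} ⟶ P^1_{X/S} the O_X-linear map with ι(d s) = d^1 s − s·1 for every local function s. Then
the map O_X ⊕ Ω_{X/S} ⟶ P^1_{X/S} induced by e and ι is an isomorphism of O_X-modules for the left
structure of P^1_{X/S}; in other words Ω_{X/S} is identified with the augmentation ideal of
P^1_{X/S} and d s = d^1 s − s. (The published text takes this as the definition of Ω_{X/S} for every
f; here Ω_{X/S} is the conormal sheaf of the diagonal, formed for quasi-separated f, and the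
identification is stated.) -/
theorem result {X S : Scheme.{u}} (f : X ⟶ S) [QuasiSeparated f]
    (e : Coh.structureModule X ⟶ PrinPart.P f 1)
    (he : ∀ (U : X.Opens) (s : Γ(X, U)), e.app U (OmegaSh.strSect X U s) = s • PrinPart.dn f 1 U 1)
    (ι : Omega.sheaf f ⟶ PrinPart.P f 1)
    (hι : ∀ (U : X.Opens) (s : Γ(X, U)),
      ι.app U ((OmegaSh.dOmega f).app U s) = PrinPart.dn f 1 U s - s • PrinPart.dn f 1 U 1) :
    IsIso (coprod.desc e ι) := by
  have hd := Groth.Agent.S5005.result f
  haveI hΩ : (Omega.sheaf f).IsQuasicoherent := isQCoh_of_isUniversal hd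
  haveI : (PrinPart.P f 1).IsQuasicoherent := Groth.Agent.S5959.result f 1 _ inferInstance
  haveI : (Coh.structureModule X).IsQuasicoherent := inferInstance
  have hk : ∀ x : X, ∃ U : X.Opens, IsAffineOpen U ∧ x ∈ U ∧ Function.Bijective ((coprod.desc e ι).app U) := by
    intro x
    obtain ⟨_, ⟨V, hV, rfl⟩, hxV, -⟩ :=
      S.isBasis_affineOpens.exists_subset_of_mem_open (Set.mem_univ (f x)) isOpen_univ
    obtain ⟨_, ⟨U, hU, rfl⟩, hxU, hle⟩ :=
      X.isBasis_affineOpens.exists_subset_of_mem_open (show x ∈ f ⁻¹ᵁ V from hxV) (f ⁻¹ᵁ V).2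
    refine ⟨U, hU, hxU, ?_⟩
    letI := (f.appLE V U hle).hom.toAlgebra
    let R := Γ(S, V)
    let B := Γ(X, U)
    obtain ⟨ψ, hψs, hψk, hψ⟩ := exists_principalPartsEquiv f 1 hV hU hle
    obtain ⟨T, hT⟩ := exists_kaehlerEquiv hle hd hV hU
    let μ := Algebra.TensorProduct.lmul' (S := B) R
    let lam : B ⊗[R] B →+ Ω[B⁄R] :=
      TensorProduct.liftAddHom
        { toFun := fun a =>
            { toFun := fun b => a • KaehlerDifferential.D R B b
              map_zero' := by simp
              map_add' := fun b c => by simp [smul_add] }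
          map_zero' := by ext; simp
          map_add' := fun a c => by ext; simp [add_smul] }
        (fun r a b => by
          show (r • a) • KaehlerDifferential.D R B b = a • KaehlerDifferential.D R B (r • b)
          rw [Derivation.map_smul, smul_assoc, smul_comm])
    have hlam : ∀ a b, lam (a ⊗ₜ b) = a • KaehlerDifferential.D R B b := fun a b =>
      TensorProduct.liftAddHom_tmul _ _ a b
    have hmem : ∀ t : B ⊗[R] B, t - μ t ⊗ₜ 1 ∈ KaehlerDifferential.ideal R B := fun t => by
      show Algebra.TensorProduct.lmul' (S := B) R _ = 0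
      simp [μ]
    have hlam' : ∀ t, lam t = KaehlerDifferential.fromIdeal R B ⟨t - μ t ⊗ₜ 1, hmem t⟩ := by
      intro t
      induction t using TensorProduct.induction_on with
      | zero =>
        rw [map_zero, eq_comm]
        refine Eq.trans (congrArg _ (Subtype.ext ?_)) (map_zero (KaehlerDifferential.fromIdeal R B))
        simp [μ]
      | add a b ha hb =>
        rw [map_add, ha, hb, ← map_add]
        refine congrArg _ (Subtype.ext ?_)
        show a - μ a ⊗ₜ 1 + (b - μ b ⊗ₜ 1) = a + b - μ (a + b) ⊗ₜ 1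
        rw [map_add, TensorProduct.add_tmul]
        abel
      | tmul a b =>
        rw [hlam, KaehlerDifferential.D_apply, ← algebraMap_smul (B ⊗[R] B) a]
        show _ • KaehlerDifferential.fromIdeal R B _ = _
        rw [← map_smul]
        refine congrArg _ (Subtype.ext ?_)
        show (algebraMap B (B ⊗[R] B) a) * (1 ⊗ₜ b - b ⊗ₜ 1) = a ⊗ₜ b - μ (a ⊗ₜ b) ⊗ₜ 1
        simp [μ, mul_sub]
    have hlmul : ∀ (c : B) s, lam ((c ⊗ₜ 1) * s) = c • lam s := by
      intro c s
      induction s using TensorProduct.induction_on with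
      | zero => simp
      | add a b h1 h2 => rw [mul_add, map_add, map_add, h1, h2, smul_add]
      | tmul a b => rw [Algebra.TensorProduct.tmul_mul_tmul, one_mul, hlam, hlam, mul_smul]
    have hsurj : Function.Surjective lam := by
      intro ω
      have : ω ∈ Submodule.span B (Set.range (KaehlerDifferential.D R B)) := by
        rw [KaehlerDifferential.span_range_derivation]; trivial
      induction this using Submodule.span_induction with
      | mem _ h => obtain ⟨b, rfl⟩ := h; exact ⟨1 ⊗ₜ b, by rw [hlam, one_smul]⟩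
      | zero => exact ⟨0, map_zero _⟩
      | add _ _ _ _ ha hb =>
        obtain ⟨s, rfl⟩ := ha; obtain ⟨t, rfl⟩ := hb
        exact ⟨s + t, map_add _ _ _⟩
      | smul c _ _ ha =>
        obtain ⟨s, rfl⟩ := ha
        exact ⟨(c ⊗ₜ 1) * s, hlmul c s⟩
    have hι' : ∀ t, ι.app U (T (lam t)) = ψ (t - μ t ⊗ₜ 1) := by
      intro t
      induction t using TensorProduct.induction_on with
      | zero =>
        rw [map_zero lam, map_zero T, map_zero (ι.app U).hom, map_zero μ, TensorProduct.zero_tmul, sub_zero, map_zero]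
      | add a b ha hb =>
        rw [map_add lam, map_add T, map_add (ι.app U).hom, map_add μ, TensorProduct.add_tmul,
          show a + b - (μ a ⊗ₜ[R] (1 : B) + μ b ⊗ₜ 1) = (a - μ a ⊗ₜ 1) + (b - μ b ⊗ₜ 1) from by abel, map_add ψ,
          ha, hb]
      | tmul a b =>
        rw [hlam, map_smul, hT, Scheme.Modules.Hom.app_smul, hι, map_sub, hψ,
          show μ (a ⊗ₜ b) = a * b from Algebra.TensorProduct.lmul'_apply_tmul a b, hψ, smul_sub, smul_smul]
    have key : ∀ (z : Γ(Coh.structureModule X ⨿ Omega.sheaf f, U)) (t : B ⊗[R] B),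
        T (lam t) = (coprod.desc (0 : Coh.structureModule X ⟶ Omega.sheaf f) (𝟙 _)).app U z →
        (coprod.desc e ι).app U z = ψ ((OmegaSh.fnSect X U ((coprod.desc (𝟙 (Coh.structureModule X)) 0).app U z)) ⊗ₜ 1
          + (t - μ t ⊗ₜ 1)) := by
      intro z t ht
      rw [app_coprod_eq, ← ht, hι', map_add ψ, hψ]
      congr 1
      exact he U _
    constructor
    · refine (injective_iff_map_eq_zero ((coprod.desc e ι).app U).hom).mpr fun z hz => ?_
      obtain ⟨ω, hω⟩ := T.surjective ((coprod.desc (0 : Coh.structureModule X ⟶ Omega.sheaf f) (𝟙 _)).app U z)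
      obtain ⟨t, rfl⟩ := hsurj ω
      have h0 := (key z t hω).symm.trans hz
      rw [← AddMonoidHom.mem_ker, hψk, Submodule.mem_toAddSubgroup] at h0
      set a := OmegaSh.fnSect X U ((coprod.desc (𝟙 (Coh.structureModule X)) 0).app U z) with ha
      have hI := Ideal.pow_le_self two_ne_zero h0
      have ha0 : a = 0 := by
        have h1 : μ (a ⊗ₜ 1 + (t - μ t ⊗ₜ 1)) = 0 := hI
        simpa [μ] using h1
      refine coprod_ext U z ha0 ?_
      rw [ha0, TensorProduct.zero_tmul, zero_add] at h0
      rw [← hω, hlam', show KaehlerDifferential.fromIdeal R B ⟨_, hmem t⟩ = 0 from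
        (Ideal.toCotangent_eq_zero _ ⟨_, hmem t⟩).mpr h0, map_zero]
    · intro m
      obtain ⟨t, rfl⟩ := hψs m
      refine ⟨(coprod.inl (X := Coh.structureModule X) (Y := Omega.sheaf f)).app U (OmegaSh.strSect X U (μ t)) +
        (coprod.inr (X := Coh.structureModule X) (Y := Omega.sheaf f)).app U (T (lam t)), ?_⟩
      rw [map_add ((coprod.desc e ι).app U).hom]
      have h1 : ∀ s, (coprod.desc e ι).app U ((coprod.inl (X := Coh.structureModule X) (Y := Omega.sheaf f)).app U s) =
          e.app U s := fun s => congrArg (fun φ => Scheme.Modules.Hom.app φ U s) (coprod.inl_desc e ι)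
      have h2 : ∀ s, (coprod.desc e ι).app U ((coprod.inr (X := Coh.structureModule X) (Y := Omega.sheaf f)).app U s) =
          ι.app U s := fun s => congrArg (fun φ => Scheme.Modules.Hom.app φ U s) (coprod.inr_desc e ι)
      rw [h1, h2, hι', he, ← hψ, ← map_add ψ, add_sub_cancel]
  haveI : (Coh.structureModule X ⨿ Omega.sheaf f).IsQuasicoherent := isQuasicoherent_coprod _ _
  exact isIso_of_app_bijective _ hk

end Groth.Agent.S5978
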