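import Groth.Statements.S5979
import Mathlib.AlgebraicGeometry.Modules.Sheaf

set_option autoImplicit false
universe u
open CategoryTheory CategoryTheory.Limits AlgebraicGeometry TopologicalSpace Opposite
open Nrm16

namespace Groth.Agent.S5979

theorem isIso_inclusion_of_eq {P : Scheme.{u}} {I J : P.IdealSheafData} (h : J = I) :
    IsIso (Scheme.IdealSheafData.inclusion (I := J) (J := I) h.le) := by
  subst h
  rw [Scheme.IdealSheafData.inclusion_id]
  infer_instance

theorem isIso_toNbhd {X S : Scheme.{u}} (f : X ⟶ S) : IsIso (PrinPart.toNbhd f 0) := by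
  let i := PrinPart.diagCl f
  haveI : IsIso i.toImage := inferInstance
  haveI : IsIso (Scheme.IdealSheafData.inclusion (PrinPart.ker_pow_succ_le i 0)) :=
    isIso_inclusion_of_eq (pow_one i.ker)
  exact inferInstanceAs (IsIso (i.toImage ≫ Scheme.IdealSheafData.inclusion (PrinPart.ker_pow_succ_le i 0)))

theorem bijective_pullSect {A B : Scheme.{u}} (g : A ⟶ B) [IsIso g] (F : B.Modules) (U : B.Opens) :
    Function.Bijective (OmegaSh.pullSect g F U) := by
  have h := Adjunction.unit_leftAdjointUniq_hom_app (Scheme.Modules.restrictAdjunction g)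
    (Scheme.Modules.pullbackPushforwardAdjunction g) F
  have h2 : ((Scheme.Modules.restrictAdjunction g).unit.app F).app U ≫
      ((Scheme.Modules.pushforward g).map (((Scheme.Modules.restrictAdjunction g).leftAdjointUniq
        (Scheme.Modules.pullbackPushforwardAdjunction g)).hom.app F)).app U =
      OmegaSh.pullSect g F U := by
    exact congrArg (fun φ => Scheme.Modules.Hom.app φ U) h
  have he : U ≤ g ''ᵁ (g ⁻¹ᵁ U) := by
    rw [g.image_preimage_eq_opensRange_inf]
    exact le_inf (fun x _ => g.surjective x) le_rfl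
  haveI : IsIso (homOfLE (g.image_preimage_le U)) := ⟨homOfLE he, Subsingleton.elim _ _, Subsingleton.elim _ _⟩
  haveI : IsIso (homOfLE (g.image_preimage_le U)).op := inferInstance
  have hA : Function.Bijective (F.presheaf.map (homOfLE (g.image_preimage_le U)).op) :=
    ConcreteCategory.bijective_of_isIso _
  have hB : Function.Bijective (((Scheme.Modules.pushforward g).map (((Scheme.Modules.restrictAdjunction g).leftAdjointUniq
        (Scheme.Modules.pullbackPushforwardAdjunction g)).hom.app F)).app U) :=
    ConcreteCategory.bijective_of_isIso _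
  rw [← h2]
  exact hB.comp hA

/-- Let f : X ⟶ S be a morphism of schemes and F an O_X-module. For every open U of X the canonical
operator d^0 : Γ(U, F) ⟶ Γ(U, P^0_{X/S}(F)) is bijective; so P^0_{X/S}(F) is identified with F, and
P^0_{X/S} with O_X, through d^0. -/
theorem result {X S : Scheme.{u}} (f : X ⟶ S) (F : X.Modules) (U : X.Opens) :
    Function.Bijective (PrinPart.dP f 0 F U) := by
  haveI := isIso_toNbhd f
  haveI : IsIso (PrinPart.pr2 f 0) := by
    have : PrinPart.pr2 f 0 = inv (PrinPart.toNbhd f 0) := IsIso.eq_inv_of_hom_inv_id (PrinPart.toNbhd_pr2 f 0)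
    rw [this]; infer_instance
  haveI : IsIso (homOfLE (PrinPart.preimage_pr1 f 0 U).le) :=
    ⟨homOfLE (PrinPart.preimage_pr1 f 0 U).ge, Subsingleton.elim _ _, Subsingleton.elim _ _⟩
  exact (ConcreteCategory.bijective_of_isIso (((Scheme.Modules.pullback (PrinPart.pr2 f 0)).obj F).presheaf.map
    (homOfLE (PrinPart.preimage_pr1 f 0 U).le).op)).comp (bijective_pullSect (PrinPart.pr2 f 0) F U)

end Groth.Agent.S5979
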