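import Groth.Statements.S5980
import Groth.Agent.ModStalk.ConormalClass
import Groth.Agent.ModStalk.IdealMod
import Mathlib.LinearAlgebra.Matrix.Charpoly.LinearMap
import Mathlib.RingTheory.FinitePresentation

set_option autoImplicit false
universe u
open CategoryTheory CategoryTheory.Limits AlgebraicGeometry TopologicalSpace Opposite
open Nrm16

namespace Groth.Agent.S5980

open Groth.Agent.ModStalk

theorem exists_killing {A : Type u} [CommRing A] (I P : Ideal A) [P.IsPrime] (hI : I.FG) (hIP : I ≤ P)
    (h : ∀ k ∈ I, ∃ r ∉ P, r * k ∈ I * I) : ∃ g ∉ P, ∀ k ∈ I, g * k = 0 := by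
  obtain ⟨T, hT⟩ := hI
  have hk : ∀ k : T, ∃ r ∉ P, r * (k : A) ∈ I * I := fun k => h _ (hT ▸ Submodule.subset_span k.2)
  choose r hr hrk using hk
  classical
  let r₀ := ∏ k, r k
  have hr₀ : r₀ ∉ P := fun hc => by
    obtain ⟨k, -, hk⟩ := (Ideal.IsPrime.prod_mem_iff).mp hc
    exact hr k hk
  have h0 : ∀ k ∈ I, r₀ * k ∈ I * I := by
    intro k hk
    rw [← hT] at hk
    induction hk using Submodule.span_induction with
    | mem k hk =>
      show r₀ * k ∈ I * I
      rw [show r₀ = (∏ x ∈ Finset.univ.erase (⟨k, hk⟩ : T), r x) * r ⟨k, hk⟩ from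
        (Finset.prod_erase_mul _ _ (Finset.mem_univ _)).symm, mul_assoc]
      exact Ideal.mul_mem_left _ _ (hrk ⟨k, hk⟩)
    | zero => simp
    | add a b _ _ ha hb => rw [mul_add]; exact add_mem ha hb
    | smul c a _ ha => rw [smul_eq_mul, mul_left_comm]; exact Ideal.mul_mem_left _ _ ha
  haveI : Module.Finite A I := Module.Finite.of_fg ⟨T, hT⟩
  have hrange : (Algebra.lsmul A A (I : Submodule A A) r₀).range ≤ I • (⊤ : Submodule A I) := by
    rintro _ ⟨k, rfl⟩
    have hk := h0 _ k.2
    rw [← smul_eq_mul I I] at hk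
    refine (Submodule.mem_smul_top_iff I I _).mpr ?_
    exact hk
  obtain ⟨p, hp, -, hcoeff, hp0⟩ :=
    LinearMap.exists_monic_and_natDegree_eq_and_coeff_mem_pow_and_aeval_eq_zero A (Algebra.lsmul A A (I : Submodule A A) r₀) I hrange
  refine ⟨p.eval r₀, fun hc => hr₀ ?_, fun k hk => ?_⟩
  · have hsum := Polynomial.eval_eq_sum_range (p := p) r₀
    rw [Finset.sum_range_succ, hp.coeff_natDegree, one_mul] at hsum
    have hrest : ∑ i ∈ Finset.range p.natDegree, p.coeff i * r₀ ^ i ∈ P := by
      refine Ideal.sum_mem _ fun i hi => Ideal.mul_mem_right _ _ (hIP ?_)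
      exact Ideal.pow_le_self (Nat.sub_ne_zero_of_lt (Finset.mem_range.mp hi)) (hcoeff i)
    have : r₀ ^ p.natDegree ∈ P := by
      have := P.sub_mem hc hrest
      rwa [hsum, add_sub_cancel_left] at this
    exact Ideal.IsPrime.mem_of_pow_mem ‹_› _ this
  · have h2 := LinearMap.congr_fun hp0 ⟨k, hk⟩
    rw [Polynomial.aeval_algHom_apply, Polynomial.aeval_def, Polynomial.eval₂_eq_eval_map] at h2
    simp at h2
    exact h2

theorem stalk_eq_zero_of_pullGerm {Z X : Scheme.{u}} (j : Z ⟶ X) (M : X.Modules) (y : Z)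
    (h : ∀ v : M.presheaf.stalk (j y), pullGerm j M y v = 0) :
    Subsingleton (((Scheme.Modules.pullback j).obj M).presheaf.stalk y) := by
  have hs := span_pullGerm j M y
  have hbot : Submodule.span (Z.presheaf.stalk y) (Set.range (pullGerm j M y)) = ⊥ :=
    Submodule.span_eq_bot.mpr (by rintro _ ⟨v, rfl⟩; exact h v)
  rw [hbot] at hs
  exact (Submodule.subsingleton_iff _).mp (subsingleton_of_bot_eq_top hs)

/-- Consider a point y of Y and an immersion j : Y ⟶ X that is quasi-compact and locally of finite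
presentation. The stalk at y of the conormal sheaf N_{Y/X} = I/I² is zero exactly when y has an open
neighbourhood U in Y on which the restriction of j is an open immersion. (The published statement
covers every immersion locally of finite presentation. Here j is additionally assumed quasi-compact,
since in that case the conormal sheaf used here is the one attached to j.) -/
theorem result {Y X : Scheme.{u}} (j : Y ⟶ X) [IsImmersion j]
    [QuasiCompact j] [LocallyOfFinitePresentation j] (y : Y) :
    (∃ U : Y.Opens, y ∈ U ∧ IsOpenImmersion (U.ι ≫ j)) ↔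
      Subsingleton ((Omega.conormal j).presheaf.stalk y) := by
  obtain ⟨W, hW, hyW, hWc, hWj, hsj⟩ := exists_affine_immersion j y j.coborderRange (subset_coborder (Set.mem_range_self y))
  let N := Omega.conormal j
  let Z0 := j ⁻¹ᵁ W
  let I := RingHom.ker (j.app W).hom
  have hIker : j.ker.ideal ⟨W, hW⟩ = I := Scheme.Hom.ker_apply j ⟨W, hW⟩
  constructor
  · rintro ⟨U, hyU, hU⟩
    refine stalk_eq_zero_of_pullGerm j _ y fun v => ?_
    haveI : (ClSub.idealMod j.ker).IsQuasicoherent := isQuasicoherent_idealMod _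
    obtain ⟨O, hjyO, k, rfl⟩ := (ClSub.idealMod j.ker).presheaf.exists_germ_eq (x := j y) v
    let Im := (U.ι ≫ j).opensRange
    have hmem : j y ∈ Im ⊓ O := ⟨⟨⟨y, hyU⟩, rfl⟩, hjyO⟩
    obtain ⟨_, ⟨W', hW', rfl⟩, hjyW', hW'le⟩ :=
      X.isBasis_affineOpens.exists_subset_of_mem_open hmem (Im ⊓ O).2
    have hk0 : (ClSub.idealMod j.ker).presheaf.map (homOfLE (fun _ h => (hW'le h).2 : W' ≤ O)).op k = 0 := by
      refine idealModι_injective j.ker W' ?_
      rw [map_zero]
      let k' := (ClSub.idealMod j.ker).presheaf.map (homOfLE (fun _ h => (hW'le h).2 : W' ≤ O)).op k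
      have h1 : j.app W' (OmegaSh.idealSect j.ker W' k') = 0 := app_idealSect_eq_zero j W' k'
      have hinj : Function.Injective ((U.ι ≫ j).app W') := by
        haveI : IsIso ((U.ι ≫ j).app W') := Scheme.Hom.isIso_app _ _ (fun _ h => (hW'le h).1)
        exact (ConcreteCategory.bijective_of_isIso _).1
      refine hinj (Eq.trans ?_ (map_zero ((U.ι ≫ j).app W').hom).symm)
      rw [Scheme.Hom.comp_app]
      exact (congrArg (U.ι.app _) h1).trans (map_zero (U.ι.app _).hom)
    rw [← TopCat.Presheaf.germ_res_apply (ClSub.idealMod j.ker).presheaf (homOfLE (fun _ h => (hW'le h).2 : W' ≤ O)) (j y) hjyW' k,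
      hk0, map_zero, map_zero]
  · intro hsub
    let P := (hW.primeIdealOf ⟨j y, hyW⟩).asIdeal
    have hI : I.FG := by
      have hfp := j.finitePresentation_appLE hW hWj le_rfl
      rw [← Scheme.Hom.app_eq_appLE] at hfp
      algebraize [(j.app W).hom]
      exact Algebra.FinitePresentation.ker_fG_of_surjective (Algebra.ofId Γ(X, W) Γ(Y, Z0)) hsj
    have hIP : I ≤ P := fun a ha => by
      by_contra hc
      have h1 : j y ∈ X.basicOpen a := (Groth.Agent.ModStalk.germ_mem_primeIdeal_iff hW ⟨j y, hyW⟩ a).mp hc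
      have h2 : y ∈ Y.basicOpen (j.app W a) := by rw [← Scheme.preimage_basicOpen]; exact h1
      rw [RingHom.mem_ker.mp ha, Scheme.basicOpen_zero] at h2
      exact h2
    obtain ⟨g, hg, hgI⟩ := exists_killing I P hI hIP (fun a ha => by
      haveI : (ClSub.idealMod j.ker).IsQuasicoherent := isQuasicoherent_idealMod _
      haveI : N.IsQuasicoherent := isQuasicoherent_pullback j _
      obtain ⟨k, rfl⟩ := (exists_idealMod_app j.ker ⟨W, hW⟩ a).mp (hIker ▸ ha)
      obtain ⟨c, hyc, hc⟩ := exists_smul_eq_zero_of_germ N hWj y hyW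
        (pullSec j (ClSub.idealMod j.ker) (le_refl _) k) (Subsingleton.elim _ _)
      obtain ⟨r, rfl⟩ := hsj c
      refine ⟨r, fun hr => ?_, ?_⟩
      · have : j y ∈ X.basicOpen r := by
          have h2 : y ∈ j ⁻¹ᵁ X.basicOpen r := by rw [Scheme.preimage_basicOpen]; exact hyc
          exact h2
        exact (Groth.Agent.ModStalk.germ_mem_primeIdeal_iff hW ⟨j y, hyW⟩ r).mpr this hr
      · have h2 := idealSect_mem_sq_of_class_eq_zero j hW hWj hsj (r • k)
          (by rw [pullSec_smul, ← Scheme.Hom.app_eq_appLE]; exact hc)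
        rw [idealSect_smul, ← Scheme.Hom.app_eq_appLE] at h2
        exact h2)
    let D := X.basicOpen g
    have hD : IsAffineOpen D := hW.basicOpen g
    have hyD : j y ∈ D := (Groth.Agent.ModStalk.germ_mem_primeIdeal_iff hW ⟨j y, hyW⟩ g).mp hg
    refine ⟨j ⁻¹ᵁ D, hyD, ?_⟩
    obtain ⟨hjD, hsD⟩ := affine_immersion_of_le j hD (fun x hx => hWc (X.basicOpen_le g hx))
    have hbij : Function.Bijective (j.app D) := by
      refine ⟨(injective_iff_map_eq_zero (j.app D).hom).mpr fun t ht => ?_, hsD⟩
      haveI := hW.isLocalization_basicOpen g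
      obtain ⟨⟨a, ⟨_, n, rfl⟩⟩, ha⟩ := IsLocalization.surj (Submonoid.powers g) t
      have h0 := congrArg (j.app D) ha
      rw [map_mul (j.app D).hom, ht, zero_mul] at h0
      have hna : j.app D (algebraMap Γ(X, W) Γ(X, D) a) =
          Y.presheaf.map ((Opens.map j.base).map (homOfLE (X.basicOpen_le g))).op (j.app W a) :=
        ConcreteCategory.congr_hom (j.naturality (homOfLE (X.basicOpen_le g)).op) a
      rw [hna] at h0
      have hpre : j ⁻¹ᵁ D = Y.basicOpen (j.app W g) := Scheme.preimage_basicOpen j g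
      have h1 : Y.presheaf.map (homOfLE (Y.basicOpen_le (j.app W g))).op (j.app W a) = 0 := by
        have := congrArg (Y.presheaf.map (homOfLE hpre.ge).op) h0
        rw [map_zero, ← ConcreteCategory.comp_apply, ← Functor.map_comp] at this
        exact this.symm
      haveI := hWj.isLocalization_basicOpen (j.app W g)
      obtain ⟨⟨_, m, rfl⟩, hm⟩ := (IsLocalization.map_eq_zero_iff (Submonoid.powers (j.app W g))
        Γ(Y, Y.basicOpen (j.app W g)) _).mp h1
      have hmI : g ^ m * a ∈ I := by
        rw [RingHom.mem_ker, map_mul, map_pow]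
        exact hm
      have hga : g ^ (m + 1) * a = 0 := by rw [pow_succ', mul_assoc]; exact hgI _ hmI
      have hu : IsUnit (algebraMap Γ(X, W) Γ(X, D) g) :=
        IsLocalization.map_units _ (⟨g, 1, pow_one g⟩ : Submonoid.powers g)
      have ha0 := congrArg (algebraMap Γ(X, W) Γ(X, D)) hga
      rw [map_mul, map_pow, map_zero, ← ha] at ha0
      have := (hu.pow (m+1)).mul_right_eq_zero.mp ha0
      rw [map_pow] at this
      exact (hu.pow n).mul_left_eq_zero.mp this
    haveI : IsAffine (D : Scheme.{u}) := hD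
    haveI : IsAffine (j ⁻¹ᵁ D : Scheme.{u}) := hjD
    haveI : IsIso (j ∣_ D).appTop := by
      haveI : IsIso (j.app (D.ι ''ᵁ ⊤)) := by
        have key : ∀ D' : X.Opens, D' = D → IsIso (j.app D') := by
          rintro D' rfl
          exact (ConcreteCategory.isIso_iff_bijective _).mpr hbij
        exact key _ D.ι_image_top
      rw [morphismRestrict_appTop]
      refine IsIso.comp_isIso' ‹IsIso (j.app (D.ι ''ᵁ ⊤))› ?_
      rw [eqToHom_op]
      exact Functor.map_isIso Y.presheaf _
    haveI : IsIso (j ∣_ D) := by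
      rw [← MorphismProperty.isomorphisms.iff, MorphismProperty.arrow_mk_iso_iff (MorphismProperty.isomorphisms _) (arrowIsoSpecΓOfIsAffine (j ∣_ D)), MorphismProperty.isomorphisms.iff]
      infer_instance
    rw [← morphismRestrict_ι]
    infer_instance

end Groth.Agent.S5980
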