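import Groth.Statements.S5998
import Groth.Prelude
import Groth.Agent.Alg.ZariskiJacobian
import Mathlib.RingTheory.Smooth.Locus
import Mathlib.RingTheory.FiniteType

set_option autoImplicit false
universe u
open SGA1

namespace Groth.Agent.S5998
set_option backward.isDefEq.respectTransparency false
set_option maxHeartbeats 800000

open TensorProduct in
/-- Let R be a Noetherian ring, A a smooth R-algebra, I an ideal of A, P a prime ideal of A/I and q its
preimage in A. Then A/I is smooth over R at P (that is, the local ring of A/I at P is formally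
smooth over R) exactly when there are finitely many elements g_1, ..., g_p of I generating the ideal
I·A_q whose differentials dg_i have linearly independent images in κ(q) ⊗_A Ω_{A/R}. -/
theorem result
    (R A : Type u) [CommRing R] [CommRing A] [IsNoetherianRing R] [Algebra R A] [Algebra.Smooth R A]
    (I : Ideal A) (P : Ideal (A ⧸ I)) [P.IsPrime] :
    letI q : Ideal A := P.comap (Ideal.Quotient.mk I)
    Algebra.IsSmoothAt R P ↔ ∃ s : Finset A, (↑s : Set A) ⊆ (I : Set A) ∧
      Ideal.map (algebraMap A (Localization.AtPrime q)) I =
        Ideal.span ((algebraMap A (Localization.AtPrime q)) '' (↑s : Set A)) ∧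
      LinearIndependent q.ResidueField
        (fun g : ↥s => (1 : q.ResidueField) ⊗ₜ[A] KaehlerDifferential.D R A (g : A)) := by
  classical
  let q : Ideal A := P.comap (Ideal.Quotient.mk I)
  have : IsNoetherianRing A := Algebra.FiniteType.isNoetherianRing R A
  have hIq : I ≤ q := fun x hx => by
    change Ideal.Quotient.mk I x ∈ P
    rw [Ideal.Quotient.eq_zero_iff_mem.mpr hx]; exact P.zero_mem
  have hP : q.map (Ideal.Quotient.mk I) = P :=
    Ideal.map_comap_of_surjective _ Ideal.Quotient.mk_surjective P
  have hprime : (q.map (Ideal.Quotient.mk I)).IsPrime := hP ▸ ‹P.IsPrime›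
  have key := Groth.Agent.Alg.ZariskiJacobian.formallySmooth_iff (k₀ := R) I q hIq
  have hiff : Algebra.IsSmoothAt R P ↔
      Algebra.FormallySmooth R (Localization.AtPrime (q.map (Ideal.Quotient.mk I))) := by
    change Algebra.FormallySmooth R (Localization.AtPrime P) ↔ _
    revert hprime key
    rw [hP]
    exact fun _ _ => Iff.rfl
  rw [hiff, key]
  constructor
  · rintro ⟨m, f, Dv, hf, hgen, hdet⟩
    let M : Matrix (Fin m) (Fin m) q.ResidueField :=
      Matrix.of fun i j => algebraMap A q.ResidueField (Dv j (f i))
    have hM : IsUnit M := by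
      rw [Matrix.isUnit_iff_isUnit_det, isUnit_iff_ne_zero,
        show M.det = algebraMap A q.ResidueField (Matrix.det (Matrix.of fun i j => Dv j (f i))) from
          (RingHom.map_det _ _).symm]
      exact fun h => hdet (Ideal.algebraMap_residueField_eq_zero.mp h)
    have hli : LinearIndependent q.ResidueField
        (fun i => (1 : q.ResidueField) ⊗ₜ[A] KaehlerDifferential.D R A (f i)) := by
      rw [Fintype.linearIndependent_iff]
      intro c hc
      have hc0 : Matrix.vecMul c M = Matrix.vecMul 0 M := by
        funext j
        let φ : q.ResidueField ⊗[A] Ω[A⁄R] →ₗ[q.ResidueField] q.ResidueField :=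
          ((Algebra.linearMap A q.ResidueField).comp (Dv j).liftKaehlerDifferential).liftBaseChange _
        have hφ : ∀ i, φ (1 ⊗ₜ[A] KaehlerDifferential.D R A (f i)) = M i j := fun i => by
          change (1 : q.ResidueField) • algebraMap A q.ResidueField
            ((Dv j).liftKaehlerDifferential (KaehlerDifferential.D R A (f i))) = _
          rw [one_smul, Derivation.liftKaehlerDifferential_comp_D]
          rfl
        have h1 := congrArg φ hc
        rw [map_sum, map_zero] at h1
        rw [Matrix.zero_vecMul]
        refine Eq.trans ?_ h1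
        change ∑ i, c i * M i j = _
        refine Finset.sum_congr rfl fun i _ => ?_
        rw [map_smul, hφ, smul_eq_mul]
      exact congrFun (Matrix.vecMul_injective_iff_isUnit.mpr hM hc0)
    have hinj : Function.Injective f := fun a b hab => hli.injective (by simp only [hab])
    refine ⟨Finset.univ.image f, ?_, ?_, ?_⟩
    · intro x hx
      obtain ⟨i, -, rfl⟩ := Finset.mem_image.mp hx
      exact hf i
    · rw [hgen, Finset.coe_image, Finset.coe_univ, Set.image_univ, ← Set.range_comp]
      rfl
    · let e : Fin m ≃ ↥(Finset.univ.image f) :=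
        (Equiv.ofInjective f hinj).trans (Equiv.subtypeEquivRight fun x => by simp)
      exact (linearIndependent_equiv e).mp hli
  · rintro ⟨s, hs, hgen, hli⟩
    let e := s.equivFin.symm
    let f : Fin s.card → A := fun i => (e i).1
    have hli' : LinearIndependent q.ResidueField
        (fun i => (1 : q.ResidueField) ⊗ₜ[A] KaehlerDifferential.D R A (f i)) :=
      hli.comp e e.injective
    obtain ⟨σ, hσ⟩ := Module.projective_def.mp (inferInstance : Module.Projective A Ω[A⁄R])
    let w : Ω[A⁄R] → Fin s.card → q.ResidueField := fun o i =>
      algebraMap A q.ResidueField (σ (KaehlerDifferential.D R A (f i)) o)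
    obtain ⟨o, ho⟩ := Groth.Agent.Alg.ZariskiJacobian.exists_columns w fun c hc => by
      refine funext (Fintype.linearIndependent_iff.mp hli' c ?_)
      let T : Finset Ω[A⁄R] := Finset.univ.biUnion fun i => (σ (KaehlerDifferential.D R A (f i))).support
      have hdf : ∀ i, (1 : q.ResidueField) ⊗ₜ[A] KaehlerDifferential.D R A (f i) =
          ∑ t ∈ T, w t i • ((1 : q.ResidueField) ⊗ₜ[A] t) := fun i => by
        conv_lhs => rw [← hσ (KaehlerDifferential.D R A (f i)), Finsupp.linearCombination_apply,
          Finsupp.sum_of_support_subset _ (Finset.subset_biUnion_of_mem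
            (fun i => (σ (KaehlerDifferential.D R A (f i))).support) (Finset.mem_univ i))
            (fun t a => a • id t) (fun _ _ => zero_smul _ _), tmul_sum]
        refine Finset.sum_congr rfl fun t _ => ?_
        rw [tmul_smul, algebraMap_smul]
        rfl
      simp only [hdf, Finset.smul_sum, smul_smul]
      rw [Finset.sum_comm]
      refine Finset.sum_eq_zero fun t _ => ?_
      rw [← Finset.sum_smul, hc t, zero_smul]
    refine ⟨s.card, f, fun j => ((Finsupp.lapply (o j)).comp σ).compDer (KaehlerDifferential.D R A),
      fun i => hs (e i).2, ?_, fun h => ho ?_⟩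
    · rw [hgen]; congr 1; ext x
      constructor
      · rintro ⟨y, hy, rfl⟩; exact ⟨e.symm ⟨y, hy⟩, by simp [f]; rfl⟩
      · rintro ⟨i, rfl⟩; exact ⟨f i, (e i).2, rfl⟩
    · have h0 := Ideal.algebraMap_residueField_eq_zero.mpr h
      rw [RingHom.map_det] at h0
      convert! h0

end Groth.Agent.S5998
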