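import Groth.Statements.S6012
import Groth.Agent.FibClv.Basic

set_option autoImplicit false
open CategoryTheory
universe v₁ v₂ u₁ u₂
open FibCat FibCat.Cleavage

namespace Groth.Agent.S6012

set_option backward.isDefEq.respectTransparency false
open Groth.Agent.FibClv.Basic


/-- Let `K` be a cleavage of an arbitrary functor `p : 𝒳 ⥤ 𝒮` (one chosen cartesian lift of every base
morphism at every object over its target; `p` is not assumed fibred). Then `p` is a fibred category
(composites of cartesian morphisms are cartesian) if and only if, for all composable base morphisms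
`g : R ⟶ T` and `f : T ⟶ S`, the comparison natural transformation `c_{f,g}` from `g^* f^*` to
`(fg)^*` determined by `K` is an isomorphism. -/
theorem result (𝒮 : Type u₁) (𝒳 : Type u₂) [Category.{v₁} 𝒮] [Category.{v₂} 𝒳] (p : 𝒳 ⥤ 𝒮) (K : FibCat.Cleavage p) :
    p.IsFibered ↔ ∀ (R S T : 𝒮) (f : T ⟶ S) (g : R ⟶ T), IsIso (K.comp f g) := by
  constructor
  · intro hp R S T f g
    haveI := hp
    exact isIso_comp K f g
  · intro hK
    haveI := K.isPreFibered
    refine { comp := fun {R S T} f g {a b c} φ ψ hφ hψ => ?_ }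
    have hc : p.obj c = T := IsHomLift.codomain_eq p g ψ
    let e := Functor.IsCartesian.domainUniqueUpToIso p g (K.lift hc g) ψ
    haveI : p.IsCartesian f (φ ≫ e.hom) := inferInstance
    let e₁ := Functor.IsCartesian.domainUniqueUpToIso p f (K.lift (K.obj_proj hc g) f) (φ ≫ e.hom)
    let c' : p.Fiber T := ⟨c, hc⟩
    haveI : IsIso ((K.comp g f).app c') := by haveI := hK R T S g f; infer_instance
    let u := Functor.Fiber.fiberInclusion.mapIso (asIso ((K.comp g f).app c'))
    haveI : p.IsHomLift (𝟙 R) u.hom := ((K.comp g f).app c').2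
    haveI : p.IsHomLift (𝟙 R) (e₁ ≪≫ u).hom := by
      rw [Iso.trans_hom, ← Category.id_comp (𝟙 R)]
      infer_instance
    have h2 : φ ≫ ψ = (e₁ ≪≫ u).hom ≫ K.lift hc (f ≫ g) := by
      rw [Iso.trans_hom, Category.assoc]
      refine Eq.trans ?_ (congrArg (e₁.hom ≫ ·) (comp_fac K g f c').symm)
      have hψ' : ψ = e.hom ≫ K.lift hc g := (Functor.IsCartesian.fac p g (K.lift hc g) ψ).symm
      have hφ' : φ ≫ e.hom = e₁.hom ≫ K.lift (K.obj_proj hc g) f :=
        (Functor.IsCartesian.fac p f (K.lift (K.obj_proj hc g) f) (φ ≫ e.hom)).symm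
      refine (congrArg (φ ≫ ·) hψ').trans ?_
      exact (Category.assoc _ _ _).symm.trans ((congrArg (· ≫ K.lift hc g) hφ').trans (Category.assoc _ _ _))
    rw [h2]
    exact Functor.IsCartesian.of_iso_comp p (f ≫ g) (K.lift hc (f ≫ g)) _

end Groth.Agent.S6012
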