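import Groth.Statements.S6013
import Groth.Agent.FibClv.Basic

set_option autoImplicit false
open CategoryTheory
universe v₁ v₂ u₁ u₂
open FibCat FibCat.Cleavage

namespace Groth.Agent.S6013

set_option backward.isDefEq.respectTransparency false
open Groth.Agent.FibClv.Basic


/-- Let `p : 𝒳 ⥤ 𝒮` be a fibred category with a cleavage `K`, and let `f : T ⟶ S` be an isomorphism of
the base. Then the inverse-image functor `f^*` of `K`, from the fibre over `S` to the fibre over
`T`, is an equivalence of categories. -/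
theorem result (𝒮 : Type u₁) (𝒳 : Type u₂) [Category.{v₁} 𝒮] [Category.{v₂} 𝒳] (p : 𝒳 ⥤ 𝒮) [p.IsFibered] (K : FibCat.Cleavage p)
    (S T : 𝒮) (f : T ⟶ S) [IsIso f] : (K.inverseImage f).IsEquivalence := by
  have tid : ∀ (U : 𝒮), Nonempty (K.inverseImage (𝟙 U) ≅ 𝟭 (p.Fiber U)) := fun U => by
    haveI : ∀ a : p.Fiber U, IsIso (K.lift a.2 (𝟙 U)) := fun a =>
      Functor.IsStronglyCartesian.isIso_of_base_isIso p (𝟙 U) (K.lift a.2 (𝟙 U))
    haveI : ∀ a : p.Fiber U, IsIso (Functor.Fiber.homMk p U (K.lift a.2 (𝟙 U))) := fun a => by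
      haveI : IsIso (Functor.Fiber.fiberInclusion.map (Functor.Fiber.homMk p U (K.lift a.2 (𝟙 U)))) := by
        rw [Functor.Fiber.fiberInclusion_homMk]; infer_instance
      exact isIso_of_isIso_map _
    exact ⟨NatIso.ofComponents (fun a => asIso (Functor.Fiber.homMk p U (K.lift a.2 (𝟙 U))))
      (fun {a b} φ => Functor.Fiber.hom_ext (by
        simp only [Functor.map_comp, asIso_hom, Functor.Fiber.fiberInclusion_homMk, Functor.id_map]
        exact map_fac K (𝟙 U) φ))⟩
  haveI := isIso_comp K f (inv f)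
  haveI := isIso_comp K (inv f) f
  exact Functor.IsEquivalence.mk' (K.inverseImage (inv f))
    ((tid S).some.symm ≪≫ K.inverseImageCongr (IsIso.inv_hom_id f).symm ≪≫ (asIso (K.comp f (inv f))).symm)
    (asIso (K.comp (inv f) f) ≪≫ K.inverseImageCongr (IsIso.hom_inv_id f) ≪≫ (tid T).some)

end Groth.Agent.S6013
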