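import Groth.Statements.S6016
import Groth.Agent.FibClv.Basic

set_option autoImplicit false
open CategoryTheory
universe v₁ v₂ u₁ u₂
open FibCat FibCat.Cleavage

namespace Groth.Agent.S6016

set_option backward.isDefEq.respectTransparency false
open Groth.Agent.FibClv.Basic

open CategoryTheory CategoryTheory.Functor in
theorem map_fac_assoc_aux {𝒮 : Type u₁} {𝒳 : Type u₂} [Category.{v₁} 𝒮] [Category.{v₂} 𝒳] {p : 𝒳 ⥤ 𝒮}
    (K : FibCat.Cleavage p) {S T U V : 𝒮} (f : T ⟶ S) (g : U ⟶ T) (h : V ⟶ U) (a : p.Fiber S) :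
    K.lift (K.obj_proj ((K.inverseImage f).obj a).2 g) h ≫ K.lift ((K.inverseImage f).obj a).2 g ≫ K.lift a.2 f =
      Fiber.fiberInclusion.map ((K.inverseImage h).map ((K.comp f g).app a)) ≫
        K.lift (K.obj_proj a.2 (g ≫ f)) h ≫ K.lift a.2 (g ≫ f) := by
  have h1 := map_fac K h ((K.comp f g).app a)
  have h2 := comp_fac K f g a
  refine ((congrArg (K.lift (K.obj_proj (K.obj_proj a.2 f) g) h ≫ ·) h2).symm.trans ?_)
  exact (Category.assoc _ _ _).symm.trans ((congrArg (· ≫ K.lift a.2 (g ≫ f)) h1.symm).trans (Category.assoc _ _ _))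


/-- Let `K` be a cleavage of an arbitrary functor `p : 𝒳 ⥤ 𝒮` (not assumed normalised, `p` not assumed
fibred) and let `h : V ⟶ U`, `g : U ⟶ T`, `f : T ⟶ S` be base morphisms. Then the two natural
transformations from `h^* g^* f^*` to `(fgh)^*` built from the comparison morphisms agree: `c_{g,h}`
whiskered on the left by `f^*`, followed by `c_{f,gh}`, equals `c_{f,g}` whiskered on the right by
`h^*`, followed by `c_{fg,h}` (the inverse images along the two bracketings of the triple composite
being identified). -/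
theorem result (𝒮 : Type u₁) (𝒳 : Type u₂) [Category.{v₁} 𝒮] [Category.{v₂} 𝒳] (p : 𝒳 ⥤ 𝒮) (K : FibCat.Cleavage p) (S T U V : 𝒮) (f : T ⟶ S) (g : U ⟶ T) (h : V ⟶ U) :
    Functor.whiskerLeft (K.inverseImage f) (K.comp g h) ≫ K.comp f (h ≫ g) ≫ (K.inverseImageCongr (Category.assoc h g f)).hom =
      Functor.whiskerRight (K.comp f g) (K.inverseImage h) ≫ K.comp (g ≫ f) h := by
  refine NatTrans.ext (funext fun a => ?_)
  refine fiber_ext K (h ≫ g ≫ f) a ?_
  simp only [NatTrans.comp_app, Functor.whiskerLeft_app, Functor.whiskerRight_app, Functor.map_comp, Category.assoc]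
  rw [congr_fac, comp_fac, comp_fac, ← Category.assoc, ← Category.assoc]
  refine (congrArg (· ≫ K.lift a.2 f) (comp_fac K g h ((K.inverseImage f).obj a))).trans ?_
  exact (Category.assoc _ _ _).trans ((map_fac_assoc_aux K f g h a).trans (Category.assoc _ _ _).symm)

end Groth.Agent.S6016
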