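import Groth.Statements.S6019
import Groth.Agent.FibClv.Basic

set_option autoImplicit false
open CategoryTheory
universe v₁ v₂ u₁ u₂
open FibCat FibCat.Cleavage

namespace Groth.Agent.S6019

set_option backward.isDefEq.respectTransparency false
open Groth.Agent.FibClv.Basic

open CategoryTheory CategoryTheory.Functor in
theorem cart_id {𝒮 : Type u₁} {𝒳 : Type u₂} [Category.{v₁} 𝒮] [Category.{v₂} 𝒳] (p : 𝒳 ⥤ 𝒮)
    {R S : 𝒮} {a b : 𝒳} (hb : b = a) (ha : p.obj a = S) {f : R ⟶ S} (h : ∃ e : R = S, f = eqToHom e) :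
    p.IsCartesian f (eqToHom hb) := by
  obtain ⟨rfl, rfl⟩ := h
  subst hb ha
  simp only [eqToHom_refl]
  haveI : p.IsHomLift (𝟙 (p.obj b)) (Iso.refl b).hom := IsHomLift.id rfl
  haveI : p.IsStronglyCartesian (𝟙 (p.obj b)) (Iso.refl b).hom := IsStronglyCartesian.of_iso p _ (Iso.refl b)
  exact (inferInstance : p.IsCartesian (𝟙 (p.obj b)) (Iso.refl b).hom)

open CategoryTheory CategoryTheory.Functor in
theorem cart_pre {𝒮 : Type u₁} {𝒳 : Type u₂} [Category.{v₁} 𝒮] [Category.{v₂} 𝒳] (p : 𝒳 ⥤ 𝒮)
    {R S : 𝒮} {a b b' : 𝒳} (hb : b' = b) (f : R ⟶ S) (φ : b ⟶ a) [p.IsCartesian f φ] :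
    p.IsCartesian f (eqToHom hb ≫ φ) := by
  subst hb
  simpa using (inferInstance : p.IsCartesian f φ)


/-- A pre-fibred category admits a normalised cleavage: if every base morphism `R ⟶ p(a)` has a
cartesian morphism over it with target `a`, then one cartesian lift can be chosen for every base
morphism at every object over its target in such a way that the chosen lift of each identity `𝟙 S`
at each object `a` over `S` is the identity of `a` (identities are transport morphisms). -/
theorem result (𝒮 : Type u₁) (𝒳 : Type u₂) [Category.{v₁} 𝒮] [Category.{v₂} 𝒳]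
    (p : 𝒳 ⥤ 𝒮) [p.IsPreFibered] : ∃ K : FibCat.Cleavage p, K.IsNormalised := by
  classical
  let K : FibCat.Cleavage p :=
    { obj := fun {R S a} ha f => if ∃ e : R = S, f = eqToHom e then a else Functor.IsPreFibered.pullbackObj ha f
      lift := fun {R S a} ha f => if h : ∃ e : R = S, f = eqToHom e then eqToHom (if_pos h)
        else eqToHom (if_neg h) ≫ Functor.IsPreFibered.pullbackMap ha f
      isCartesian := fun {R S a} ha f => by
        by_cases h : ∃ e : R = S, f = eqToHom e
        · rw [dif_pos h]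
          exact cart_id p _ ha h
        · rw [dif_neg h]
          exact cart_pre p _ f _ }
  refine ⟨K, fun S a ha => ?_⟩
  have h : ∃ e : S = S, 𝟙 S = eqToHom e := ⟨rfl, rfl⟩
  exact ⟨if_pos h, dif_pos h⟩

end Groth.Agent.S6019
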