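import Groth.Statements.S6027
import Groth.Agent.LocZ.Derived

set_option autoImplicit false
universe u
open CategoryTheory CategoryTheory.Limits TopologicalSpace
open LocCohZ

namespace Groth.Agent.S6027

/-- The case of a closed subset. Let X be a topological space and Z a closed subset with open complement
U. For every q the q-th right derived functor of F ↦ Γ_Z(X, F) is isomorphic to the functor F ↦
Ext^q(ℤ_{Z,X}, F), where ℤ_{Z,X} = ℤ_X/ℤ_U. (Existence of an isomorphism of functors for each q;
compatibility with connecting maps is not asserted.) -/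
theorem result {X : TopCat.{u}} (U : Opens X) (q : ℕ) :
    Nonempty (LocCohZ.RHZ U q ≅ ToposFin.HZFunctor (LocCohZ.openSh U) q) := by
  haveI : (LocCohZ.gammaZF U).Additive := inferInstance
  exact ⟨Groth.Agent.LocZ.rightDerivedIso
      (Groth.Agent.LocZ.zqIso (U := U) (le_top : U ≤ ⊤) (top_inf_eq U)).symm q ≪≫
    (Groth.Agent.SpecSeq.extIsoRightDerived (LocCohZ.zq (le_top : U ≤ ⊤)) q).symm ≪≫
    ((Abelian.extFunctor.{u} q).mapIso (LocCohZ.zqIsoQuotZ U).op.symm)⟩

end Groth.Agent.S6027
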