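import Groth.Statements.S6029
import Groth.Agent.SpecSeq.Grothendieck
import Groth.Agent.LocZ.Supp

set_option autoImplicit false
universe u
open CategoryTheory CategoryTheory.Limits TopologicalSpace
open LocCohZ
open scoped ZeroObject

namespace Groth.Agent.S6029

/-- For a closed subset Z = X − U of a topological space X and an abelian sheaf F on X: there is an E₂
spectral sequence of abelian groups with E₂^{p,q} ≅ H^p(X, ℋ^q_Z(F)) for p, q ≥ 0 (and 0 otherwise),
bounded, abutting with finite filtrations to H^n_Z(X, F) (n ≥ 0; 0 for n < 0). (Existence only: the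
E₂ identifications and the abutment isomorphisms are some isomorphisms, not the canonical maps of a
construction, so edge maps and low-degree exact sequences are not part of this statement.) -/
theorem result {X : TopCat.{u}} (F : CohTop.Ab X) (U : Opens X) :
    ∃ (E : E₂CohomologicalSpectralSequence AddCommGrpCat.{u})
      (a : SpSeq.Abutment E (fun n : ℤ =>
        if 0 ≤ n then AddCommGrpCat.of (LocCohZ.HZc F n.toNat U) else AddCommGrpCat.of PUnit.{u + 1})),
      (∀ n : ℤ, a.IsFinite n) ∧ SpSeq.IsBounded E ∧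
      ∀ p q : ℤ, Nonempty ((E.page 2 le_rfl).X (p, q) ≅
        (if 0 ≤ p ∧ 0 ≤ q then AddCommGrpCat.of (CohTop.HU ((LocCohZ.HZsh U q.toNat).obj F) p.toNat ⊤)
          else AddCommGrpCat.of PUnit.{u + 1})) := by
  letI := HasDerivedCategory.standard (CohTop.Ab X)
  letI := HasDerivedCategory.standard AddCommGrpCat.{u}
  have hz : Limits.IsZero (AddCommGrpCat.of PUnit.{u + 1}) := AddCommGrpCat.isZero_of_subsingleton _
  let S := Groth.Agent.SpecSeq.evalFun (Opens.grothendieckTopology X) (⊤ : Opens X)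
  have hT : ∀ Q : CohTop.Ab X, Injective Q →
      Groth.Agent.RFPlus.Acyc S ((LocCohZ.sectSuppF U).obj Q) := fun Q hQ =>
    haveI := Groth.Agent.Lead.Flasque.Top.isFlasque_of_injective Q
    haveI := Groth.Agent.LocZ.isFlasque_sectSuppF U Q
    Groth.Agent.LocZ.acyc_secFun_of_isFlasque ⊤ _
  obtain ⟨E, a, h1, h2, h3⟩ := Groth.Agent.SpecSeq.exists_grothendieck (LocCohZ.sectSuppF U) S hT F
  have e : ∀ n : ℤ, Nonempty ((if 0 ≤ n then ((LocCohZ.sectSuppF U ⋙ S).rightDerived n.toNat).obj F else 0) ≅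
      (if 0 ≤ n then AddCommGrpCat.of (LocCohZ.HZc F n.toNat U) else AddCommGrpCat.of PUnit.{u + 1})) := fun n => by
    by_cases h : 0 ≤ n
    · rw [if_pos h, if_pos h]
      obtain ⟨i⟩ := Groth.Agent.LocZ.nonempty_HZ_iso_rightDerived (U := U) (le_top : U ≤ ⊤) (top_inf_eq U) F n.toNat
      exact ⟨i.symm⟩
    · rw [if_neg h, if_neg h]
      exact ⟨(isZero_zero _).iso hz⟩
  refine ⟨E, Groth.Agent.SpecSeq.transportAbutment a (fun n => (e n).some),
    fun n => Groth.Agent.SpecSeq.isFinite_transportAbutment a _ n (h1 n), h2, fun p q => ?_⟩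
  obtain ⟨e3⟩ := h3 p q
  by_cases h : 0 ≤ p ∧ 0 ≤ q
  · rw [if_pos h]
    obtain ⟨i⟩ := Groth.Agent.SpecSeq.nonempty_HU_iso_rightDerived (Opens.grothendieckTopology X) (⊤ : Opens X)
      ((LocCohZ.HZsh U q.toNat).obj F) p.toNat
    exact ⟨e3 ≪≫ eqToIso (if_pos h) ≪≫ i.symm⟩
  · rw [if_neg h]
    exact ⟨e3 ≪≫ eqToIso (if_neg h) ≪≫ (isZero_zero _).iso hz⟩

end Groth.Agent.S6029
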