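import Groth.Statements.S6037
import Groth.Agent.SpecSeq.Grothendieck
import Groth.Agent.LocZ.Push

set_option autoImplicit false
universe u
open CategoryTheory CategoryTheory.Limits TopologicalSpace
open LocCohZ
open scoped ZeroObject

namespace Groth.Agent.S6037

/-- Let f : X → Y be a continuous map of topological spaces, Y' a closed subset of Y with open
complement V, X' = f⁻¹(Y') and F an abelian sheaf on X. There is an E₂ spectral sequence of abelian
groups with E₂^{p,q} ≅ H^p_{Y'}(Y, R^q f_* F) for p, q ≥ 0 (0 otherwise), bounded, abutting with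
finite filtrations to H^n_{X'}(X, F). (The published statement is for a morphism of ringed spaces
and records module structures over the global sections of O_Y; here only abelian groups. Existence
only: the E₂ identifications and abutment isomorphisms are some isomorphisms, not the canonical
ones.) -/
theorem result {X Y : TopCat.{u}} (f : X ⟶ Y)
    (V : Opens Y) (F : CohTop.Ab X) :
    ∃ (E : E₂CohomologicalSpectralSequence AddCommGrpCat.{u})
      (a : SpSeq.Abutment E (fun n : ℤ =>
        if 0 ≤ n then AddCommGrpCat.of (LocCohZ.HZc F n.toNat ((Opens.map f).obj V))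
          else AddCommGrpCat.of PUnit.{u + 1})),
      (∀ n : ℤ, a.IsFinite n) ∧ SpSeq.IsBounded E ∧
      ∀ p q : ℤ, Nonempty ((E.page 2 le_rfl).X (p, q) ≅
        (if 0 ≤ p ∧ 0 ≤ q then AddCommGrpCat.of (LocCohZ.HZc ((CohTop.Rpush f q.toNat).obj F) p.toNat V)
          else AddCommGrpCat.of PUnit.{u + 1})) := by
  letI := HasDerivedCategory.standard (CohTop.Ab X)
  letI := HasDerivedCategory.standard (CohTop.Ab Y)
  letI := HasDerivedCategory.standard AddCommGrpCat.{u}
  have hz : Limits.IsZero (AddCommGrpCat.of PUnit.{u + 1}) := AddCommGrpCat.isZero_of_subsingleton _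
  let S := LocCohZ.sectSuppF V ⋙ Groth.Agent.LocZ.secFun (⊤ : Opens Y)
  haveI : S.Additive := Groth.Agent.LocZ.additive_suppSec V ⊤
  haveI : PreservesFiniteLimits S := Groth.Agent.LocZ.preservesFiniteLimits_suppSec V ⊤
  have hT : ∀ Q : CohTop.Ab X, Injective Q → Groth.Agent.RFPlus.Acyc S ((CohTop.push f).obj Q) := fun Q hQ =>
    haveI := Groth.Agent.Lead.Flasque.Top.injective_push f Q
    Groth.Agent.RFPlus.Acyc.of_injective S _
  obtain ⟨E, a, h1, h2, h3⟩ := Groth.Agent.SpecSeq.exists_grothendieck (CohTop.push f) S hT F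
  have e : ∀ n : ℤ, Nonempty ((if 0 ≤ n then ((CohTop.push f ⋙ S).rightDerived n.toNat).obj F else 0) ≅
      (if 0 ≤ n then AddCommGrpCat.of (LocCohZ.HZc F n.toNat ((Opens.map f).obj V))
        else AddCommGrpCat.of PUnit.{u + 1})) := fun n => by
    by_cases h : 0 ≤ n
    · rw [if_pos h, if_pos h]
      obtain ⟨i⟩ := Groth.Agent.LocZ.nonempty_HZ_iso_rightDerived (U := (Opens.map f).obj V)
        (le_top : (Opens.map f).obj V ≤ ⊤) (top_inf_eq _) F n.toNat
      exact ⟨(injectiveResolution F).isoRightDerivedObj _ n.toNat ≪≫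
        (HomologicalComplex.homologyFunctor _ _ n.toNat).mapIso
          ((NatIso.mapHomologicalComplex (Groth.Agent.LocZ.pushSuppIso f V ⊤) _).app _) ≪≫
        ((injectiveResolution F).isoRightDerivedObj _ n.toNat).symm ≪≫ i.symm⟩
    · rw [if_neg h, if_neg h]
      exact ⟨(isZero_zero _).iso hz⟩
  refine ⟨E, Groth.Agent.SpecSeq.transportAbutment a (fun n => (e n).some),
    fun n => Groth.Agent.SpecSeq.isFinite_transportAbutment a _ n (h1 n), h2, fun p q => ?_⟩
  obtain ⟨e3⟩ := h3 p q
  by_cases h : 0 ≤ p ∧ 0 ≤ q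
  · rw [if_pos h]
    obtain ⟨i⟩ := Groth.Agent.LocZ.nonempty_HZ_iso_rightDerived (U := V)
      (le_top : V ≤ ⊤) (top_inf_eq _) ((CohTop.Rpush f q.toNat).obj F) p.toNat
    exact ⟨e3 ≪≫ eqToIso (if_pos h) ≪≫ i.symm⟩
  · rw [if_neg h]
    exact ⟨e3 ≪≫ eqToIso (if_neg h) ≪≫ (isZero_zero _).iso hz⟩

end Groth.Agent.S6037
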