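import Groth.Statements.S6059
import Groth.Agent.HopfRep.KernelTrivial

set_option autoImplicit false
open CategoryTheory MonoidalCategory CartesianMonoidalCategory MonObj GrpObj AlgebraicGeometry
universe u
open SGA3x

namespace Groth.Agent.S6059

/-- Let u : H ⟶ G be a homomorphism of S-groups, with H of multiplicative type and of finite type and G
separated over S, and suppose S locally Noetherian or G locally of finite presentation over S. If s
∈ S is a point such that u_s : H_s ⟶ G_s is a monomorphism, then there is an open neighbourhood U of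
s such that the homomorphism H|_U ⟶ G|_U induced above U is a monomorphism. -/
theorem result {S : Scheme.{u}} (H G : Over S) [GrpObj H] [GrpObj G]
    (hH : SGA3x.IsMultTypeFT H) [IsSeparated G.hom] (hG : IsLocallyNoetherian S ∨ LocallyOfFinitePresentation G.hom)
    (u : H ⟶ G) [IsMonHom u] (s : S)
    (hs : Mono ((Over.pullback (S.fromSpecResidueField s)).map u).left) :
    ∃ U : S.Opens, s ∈ U ∧ Mono ((Over.pullback U.ι).map u).left := by
  have key : ∀ {T : Scheme.{u}} (τ : T ⟶ S), Groth.Agent.HopfRep.KernelTrivial.Tr u τ →
      Mono ((Over.pullback τ).map u) := by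
    intro T τ hτ
    refine ⟨fun {Y} a b hab => ?_⟩
    let adj := Over.mapPullbackAdj τ
    obtain ⟨a', rfl⟩ := (adj.homEquiv Y H).surjective a
    obtain ⟨b', rfl⟩ := (adj.homEquiv Y H).surjective b
    rw [← adj.homEquiv_naturality_right, ← adj.homEquiv_naturality_right] at hab
    have hab' := (adj.homEquiv Y G).injective hab
    have h1 := hτ ((Over.map τ).obj Y) (Over.homMk Y.hom rfl) (a' * b'⁻¹) (by
      rw [MonObj.mul_comp, GrpObj.inv_comp, hab', mul_inv_cancel])
    rw [mul_inv_eq_one.1 h1]
  have : Mono ((Over.pullback (S.fromSpecResidueField s)).map u) := Over.mono_of_mono_left _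
  obtain ⟨U, hsU, hU⟩ := Groth.Agent.HopfRep.KernelTrivial.exists_nhd u hH s (fun Y q a ha => by
    let Y' : Over (Spec (S.residueField s)) := Over.mk q.left
    let j : (Over.map (S.fromSpecResidueField s)).obj Y' ⟶ Y :=
      Over.homMk (𝟙 _) (by simpa [Y'] using (Over.w q).symm)
    have : IsIso j := by
      have : IsIso ((Over.forget S).map j) := inferInstanceAs (IsIso (𝟙 _))
      exact isIso_of_reflects_iso j (Over.forget S)
    let adj := Over.mapPullbackAdj (S.fromSpecResidueField s)
    have h1 : adj.homEquiv Y' H (j ≫ a) = adj.homEquiv Y' H 1 := by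
      rw [← cancel_mono ((Over.pullback (S.fromSpecResidueField s)).map u), ← adj.homEquiv_naturality_right,
        ← adj.homEquiv_naturality_right, Category.assoc, ha, MonObj.comp_one, MonObj.one_comp]
    have h2 := (adj.homEquiv Y' H).injective h1
    rw [← cancel_epi j, h2, MonObj.comp_one])
  refine ⟨U, hsU, ?_⟩
  have := key U.ι hU
  exact inferInstanceAs (Mono ((Over.forget (U : Scheme.{u})).map ((Over.pullback U.ι).map u)))

end Groth.Agent.S6059
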