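import Groth.Statements.S6081
import Groth.Agent.HopfRep.ProjComod

set_option autoImplicit false
universe u
open TensorProduct
open SGA3

namespace Groth.Agent.S6081

/-- Let R be a Noetherian ring and A a commutative Hopf algebra over R which is flat and of finite type
as an R-algebra, so that G = Spec A is an affine flat R-group scheme of finite type. Suppose that
the pair (G, Spec R) has the equivariant resolution property: for every A-comodule F which is
finitely generated as an R-module there are an A-comodule E which is finitely generated and
projective as an R-module and a surjective R-linear map E → F compatible with the coactions. Then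
there are a natural number d and a d × d matrix (a_ij) of elements of A with Δ(a_ij) = Σ_l a_il ⊗
a_lj and ε(a_ij) = δ_ij (a matrix corepresentation, i.e. a homomorphism G → GL_{d,R}) whose
determinant is a unit, such that A is generated as an R-algebra by the entries a_ij together with
the inverse of det(a_ij): G is a closed subgroup scheme of GL_{d,R}. (The published statement is
over a Noetherian scheme S, with G-equivariant coherent modules; this row is its assertion (ii), the
case S affine, in Hopf-algebra form.) -/
theorem result (R : Type u) [CommRing R] [IsNoetherianRing R]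
    (A : Type u) [CommRing A] [HopfAlgebra R A] [Module.Flat R A] [Algebra.FiniteType R A]
    (hRE : ∀ (F : Type u) [AddCommGroup F] [Module R F] [HopfRep.Comod R A F] [Module.Finite R F],
      ∃ (E : Type u) (_ : AddCommGroup E) (_ : Module R E) (_ : HopfRep.Comod R A E) (π : E →ₗ[R] F),
        Module.Finite R E ∧ Module.Projective R E ∧ Function.Surjective π ∧
        HopfRep.Comod.coact (k := R) (A := A) ∘ₗ π = π.rTensor A ∘ₗ HopfRep.Comod.coact (k := R) (A := A) (V := E)) :
    ∃ (d : ℕ) (a : Matrix (Fin d) (Fin d) A),
      (∀ i j, CoalgebraStruct.comul (R := R) (a i j) = ∑ l, a i l ⊗ₜ[R] a l j) ∧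
      (∀ i j, CoalgebraStruct.counit (R := R) (a i j) = if i = j then 1 else 0) ∧
      ∃ u : A, u * a.det = 1 ∧ Algebra.adjoin R (Set.range (fun p : Fin d × Fin d => a p.1 p.2) ∪ {u}) = ⊤ := by
  open Groth.Agent.HopfRep.ProjComod TensorProduct in
  classical
  obtain ⟨s, hs⟩ := Algebra.FiniteType.out (R := R) (A := A)
  obtain ⟨N, ρ, hfin, hFN, hρ⟩ := exists_subcomod (R := R) s
  have hinj : Function.Injective (N.subtype.rTensor A) :=
    Module.Flat.rTensor_preserves_injective_linearMap _ N.injective_subtype
  letI cN : HopfRep.Comod R A N :=
    { coact := ρ
      coassoc := by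
        refine LinearMap.ext fun x => ?_
        simp only [LinearMap.comp_apply, LinearEquiv.coe_coe]
        apply Module.Flat.rTensor_preserves_injective_linearMap (M := A ⊗[R] A) _ N.injective_subtype
        have e1 : ∀ z : N ⊗[R] A, N.subtype.rTensor (A ⊗[R] A) (TensorProduct.assoc R N A A (ρ.rTensor A z)) =
            TensorProduct.assoc R A A A ((Coalgebra.comul (R := R) (A := A)).rTensor A (N.subtype.rTensor A z)) := by
          intro z
          induction z with
          | zero => simp
          | add p q hp hq => simp only [map_add, hp, hq]
          | tmul p q =>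
            simp only [LinearMap.rTensor_tmul, Submodule.subtype_apply, ← hρ p]
            generalize ρ p = w
            induction w with
            | zero => simp
            | add a b ha hb => simp only [map_add, TensorProduct.add_tmul, ha, hb]
            | tmul a b => simp
        have e2 : ∀ z : N ⊗[R] A, N.subtype.rTensor (A ⊗[R] A) ((Coalgebra.comul (R := R) (A := A)).lTensor N z) =
            (Coalgebra.comul (R := R) (A := A)).lTensor A (N.subtype.rTensor A z) := by
          intro z
          induction z with
          | zero => simp
          | add p q hp hq => simp only [map_add, hp, hq]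
          | tmul p q => simp
        rw [e1, e2, hρ, Coalgebra.coassoc_apply]
      counit_comp := by
        refine LinearMap.ext fun x => (TensorProduct.rid R N).injective (Subtype.ext ?_)
        have e : ∀ w : N ⊗[R] A, ((TensorProduct.rid R N ((Coalgebra.counit (R := R) (A := A)).lTensor N w) : N) : A) =
            TensorProduct.rid R A ((Coalgebra.counit (R := R) (A := A)).lTensor A (N.subtype.rTensor A w)) := by
          intro w
          induction w with
          | zero => simp
          | add a b ha hb => simp only [map_add, Submodule.coe_add, ha, hb]
          | tmul a b => simp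
        simp only [LinearMap.comp_apply, e, hρ, Coalgebra.lTensor_counit_comul]
        simp }
  obtain ⟨E, _, _, cE, π, hEf, hEp, hπ, hcomm⟩ := hRE N
  have : Module.FinitePresentation R E := Module.finitePresentation_of_finite R E
  obtain ⟨d, a, ha1, ha2, ha3⟩ := exists_corep_of_comod E (HopfRep.Comod.coact (k := R) (A := A))
    (fun x => LinearMap.congr_fun (HopfRep.Comod.coassoc (k := R) (A := A) (V := E)) x)
    (fun x => by
      have h := LinearMap.congr_fun (HopfRep.Comod.counit_comp (k := R) (A := A) (V := E)) x
      simp only [LinearMap.comp_apply] at h
      rw [h]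
      simp)
  refine ⟨d, a, ha1, ha2, (a.map (HopfAlgebraStruct.antipode (R := R))).det, ?_, ?_⟩
  · rw [← Matrix.det_mul]
    have : a.map (HopfAlgebraStruct.antipode (R := R)) * a = 1 := by
      ext i j
      have h := HopfAlgebra.mul_antipode_rTensor_comul_apply (R := R) (a i j)
      simp only [ha1, map_sum, LinearMap.rTensor_tmul, LinearMap.mul'_apply, ha2] at h
      rw [Matrix.mul_apply, Matrix.one_apply]
      simp only [Matrix.map_apply, h]
      split_ifs <;> simp
    rw [this, Matrix.det_one]
  · rw [eq_top_iff, ← hs]
    refine Algebra.adjoin_le fun x hx => ?_
    obtain ⟨e, he⟩ := hπ ⟨x, hFN hx⟩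
    let φ : Module.Dual R E := (Coalgebra.counit (R := R) (A := A)) ∘ₗ N.subtype ∘ₗ π
    have key : x = TensorProduct.lid R A (φ.rTensor A (HopfRep.Comod.coact (k := R) (A := A) e)) := by
      have h := LinearMap.congr_fun hcomm e
      simp only [LinearMap.comp_apply, he] at h
      have e2 : TensorProduct.lid R A ((Coalgebra.counit (R := R) (A := A)).rTensor A
          (N.subtype.rTensor A (ρ ⟨x, hFN hx⟩))) = x := by
        rw [hρ, Coalgebra.rTensor_counit_comul]; simp
      conv_lhs => rw [← e2, show ρ ⟨x, hFN hx⟩ = π.rTensor A (HopfRep.Comod.coact (k := R) (A := A) e) from h]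
      generalize HopfRep.Comod.coact (k := R) (A := A) e = w
      induction w with
      | zero => simp
      | add p q hp hq => simp only [map_add, hp, hq]
      | tmul p q => simp [φ]
    have : Submodule.span R (Set.range fun p : Fin d × Fin d => a p.1 p.2) ≤
        Subalgebra.toSubmodule (Algebra.adjoin R (Set.range (fun p : Fin d × Fin d => a p.1 p.2) ∪
          {(a.map (HopfAlgebraStruct.antipode (R := R))).det})) :=
      Submodule.span_le.2 fun x hx => Algebra.subset_adjoin (Or.inl hx)
    rw [key]
    exact this (ha3 φ e)

end Groth.Agent.S6081
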