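import Groth.Statements.S6121
import Mathlib

set_option autoImplicit false
open CategoryTheory
universe v₁ v₂ u₁ u₂
open SGA4

namespace Groth.Agent.S6121

open CategoryTheory CategoryTheory.Limits Opposite

/-- For a fibered functor `p : E ⥤ B` (every morphism of `B` has a cartesian lift with prescribed
codomain, and cartesian morphisms compose), `p` reflects isomorphisms if and only if every fibre
category of `p` (objects over `b`, morphisms lying over the identity of `b`) is a groupoid. -/
theorem result
    {B : Type u₁} [Category.{v₁} B] {E : Type u₂} [Category.{v₂} E] (p : E ⥤ B) [p.IsFibered] :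
    p.ReflectsIsomorphisms ↔ ∀ b : B, IsGroupoid (p.Fiber b) := by
  constructor
  · intro hp b
    refine ⟨fun {x y} f => ?_⟩
    haveI : IsIso (p.map (Functor.Fiber.fiberInclusion.map f)) := by
      rw [IsHomLift.fac' p (𝟙 b) (Functor.Fiber.fiberInclusion.map f)]; infer_instance
    haveI hi : IsIso f.1 := @isIso_of_reflects_iso _ _ _ _ _ _ f.1 p this hp
    haveI := f.2
    exact ⟨⟨⟨inv f.1, inferInstance⟩, Subtype.ext (IsIso.hom_inv_id f.1), Subtype.ext (IsIso.inv_hom_id f.1)⟩⟩
  · intro h
    refine ⟨fun {x y} f hf => ?_⟩
    obtain ⟨x', φ, hφ⟩ := IsPreFibered.exists_isCartesian p rfl (p.map f : p.obj x ⟶ p.obj y)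
    haveI : p.IsStronglyCartesian (p.map f) φ := inferInstance
    haveI : IsIso φ := Functor.IsStronglyCartesian.isIso_of_base_isIso p (p.map f) φ
    let χ := Functor.IsCartesian.map p (p.map f) φ f
    have hx' := IsHomLift.domain_eq p (p.map f) φ
    haveI : IsIso (Functor.Fiber.homMk p (p.obj x) χ) := (h (p.obj x)).all_isIso _
    haveI : IsIso χ := by
      have : IsIso (Functor.Fiber.fiberInclusion.map (Functor.Fiber.homMk p (p.obj x) χ)) := inferInstance
      simpa using this
    rw [← Functor.IsCartesian.fac p (p.map f) φ f]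
    infer_instance

end Groth.Agent.S6121
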