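import Groth.Statements.S6122
import Mathlib

set_option autoImplicit false
open CategoryTheory
universe v₁ v₂ u₁ u₂
open SGA4

namespace Groth.Agent.S6122

open CategoryTheory CategoryTheory.Limits Opposite

/-- For a fibered functor `p : E ⥤ B` (every morphism of `B` has a cartesian lift with prescribed
codomain, and cartesian morphisms compose), `p` is faithful if and only if every fibre category of
`p` (objects over `b`, morphisms lying over the identity of `b`) has at most one morphism between
any two objects. -/
theorem result
    {B : Type u₁} [Category.{v₁} B] {E : Type u₂} [Category.{v₂} E] (p : E ⥤ B) [p.IsFibered] :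
    p.Faithful ↔ ∀ (b : B) (x y : p.Fiber b), Subsingleton (x ⟶ y) := by
  constructor
  · intro hp b x y
    refine ⟨fun f g => Functor.Fiber.hom_ext (p.map_injective ?_)⟩
    have hf := IsHomLift.fac' p (𝟙 b) (Functor.Fiber.fiberInclusion.map f)
    have hg := IsHomLift.fac' p (𝟙 b) (Functor.Fiber.fiberInclusion.map g)
    rw [hf, hg]
  · intro h
    refine ⟨fun {x y} f g hfg => ?_⟩
    obtain ⟨x', φ, hφ⟩ := IsPreFibered.exists_isCartesian p rfl (p.map f : p.obj x ⟶ p.obj y)
    haveI : p.IsHomLift (p.map f) g := hfg ▸ inferInstance
    let χ := Functor.IsCartesian.map p (p.map f) φ f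
    let χ' := Functor.IsCartesian.map p (p.map f) φ g
    have hx' := IsHomLift.domain_eq p (p.map f) φ
    have e : Functor.Fiber.homMk p (p.obj x) χ = Functor.Fiber.homMk p (p.obj x) χ' :=
      @Subsingleton.elim _ (h (p.obj x) _ _) _ _
    have e' : χ = χ' := by
      have := congrArg Functor.Fiber.fiberInclusion.map e
      simpa using this
    rw [← Functor.IsCartesian.fac p (p.map f) φ f, ← Functor.IsCartesian.fac p (p.map f) φ g]
    exact congrArg (· ≫ φ) e'

end Groth.Agent.S6122
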