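import Groth.Statements.S6124
import Mathlib

set_option autoImplicit false
open CategoryTheory CategoryTheory.Limits Opposite
universe w v₁ v₂ u₁ u₂
open SGA4

namespace Groth.Agent.S6124

open CategoryTheory CategoryTheory.Limits Opposite

/-- Let `E` have pullbacks, let `P` be a detecting family of objects of `E` (a morphism `f` is
invertible as soon as every map out of an object of `P` factors uniquely through `f`), and let `φ i
: E ⥤ E' i` be functors preserving pullbacks. Then the `φ i` jointly reflect isomorphisms if and
only if, for every `X` with `P X` and every subobject `X'` of `X` other than `⊤`, some `φ i` takes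
the inclusion `X' ⟶ X` to a morphism that is not invertible. -/
theorem result
    {E : Type u₁} [Category.{v₁} E] [HasPullbacks E] (P : ObjectProperty E) (hP : P.IsDetecting)
    {κ : Type w} {E' : κ → Type u₂} [∀ k, Category.{v₂} (E' k)] (φ : ∀ k, E ⥤ E' k)
    [∀ k, PreservesLimitsOfShape WalkingCospan (φ k)] :
    (∀ ⦃X Y : E⦄ (f : X ⟶ Y), (∀ k, IsIso ((φ k).map f)) → IsIso f) ↔
      ∀ (X : E), P X → ∀ (X' : Subobject X), X' ≠ ⊤ → ∃ k, ¬ IsIso ((φ k).map X'.arrow) := by
  constructor
  · intro h X _ X' hX'
    by_contra hall
    push Not at hall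
    haveI := h X'.arrow hall
    exact hX' (Subobject.eq_top_of_isIso_arrow X')
  · intro h
    have hmono : ∀ ⦃X Y : E⦄ (f : X ⟶ Y), Mono f → (∀ k, IsIso ((φ k).map f)) → IsIso f := by
      intro X Y f hf hiso
      refine hP f fun G hG g => ?_
      have htop : Subobject.mk (pullback.fst g f) = ⊤ := by
        by_contra hne
        obtain ⟨k, hk⟩ := h G hG _ hne
        apply hk
        haveI := hiso k
        haveI : IsIso ((φ k).map (pullback.fst g f)) := ((IsPullback.of_hasPullback g f).map (φ k)).isIso_fst_of_isIso
        rw [← Subobject.underlyingIso_hom_comp_eq_mk, (φ k).map_comp]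
        infer_instance
      haveI := (Subobject.isIso_iff_mk_eq_top _).mpr htop
      refine ⟨inv (pullback.fst g f) ≫ pullback.snd g f, show (_ ≫ _) ≫ f = g by
        rw [Category.assoc, ← pullback.condition, IsIso.inv_hom_id_assoc], fun h' hh' => ?_⟩
      rw [← cancel_mono f, hh', Category.assoc, ← pullback.condition, IsIso.inv_hom_id_assoc]
    intro X Y f hiso
    haveI : IsIso (pullback.diagonal f) := hmono _ inferInstance fun k => by
      haveI := hiso k
      haveI : IsIso ((φ k).map (pullback.fst f f)) := ((IsPullback.of_hasPullback f f).map (φ k)).isIso_fst_of_isIso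
      haveI : IsIso ((φ k).map (pullback.diagonal f) ≫ (φ k).map (pullback.fst f f)) := by
        rw [← (φ k).map_comp, pullback.diagonal_fst, (φ k).map_id]; infer_instance
      exact IsIso.of_isIso_comp_right _ ((φ k).map (pullback.fst f f))
    haveI : Mono f := ⟨fun {Z} a b hab => by
      have e : pullback.fst f f = pullback.snd f f := by
        rw [← cancel_epi (pullback.diagonal f), pullback.diagonal_fst, pullback.diagonal_snd]
      rw [← pullback.lift_fst a b hab, e, pullback.lift_snd]⟩
    exact hmono f inferInstance hiso

end Groth.Agent.S6124
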