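import Groth.Statements.S6126
import Mathlib

set_option autoImplicit false
open CategoryTheory CategoryTheory.Limits
universe v₁ u₁
open SGA4

namespace Groth.Agent.S6126

/-- Let `E` be a category with `v₁`-small hom-sets admitting a separating family of objects `G t`
indexed by a `v₁`-small type, in which every object admits a monomorphism into an injective object.
Assume that each coproduct `G t ⨿ G t` exists and that every morphism out of `G t ⨿ G t` factors as
an effective epimorphism followed by a monomorphism. Then `E` admits a coseparating family of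
injective objects indexed by a `v₁`-small type. (The published statement moreover bounds the size of
this family in terms of the hom-sets `Hom (G t', G t ⨿ G t)`; only existence is stated here. The
published statement speaks of generating and cogenerating families; its proof uses and produces
joint faithfulness of maps out of, resp. into, the family, which is the sense taken here.) -/
theorem result
    {E : Type u₁} [Category.{v₁} E] {ι : Type v₁} (G : ι → E)
    (hG : (ObjectProperty.ofObj G).IsSeparating)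
    [EnoughInjectives E] [∀ t, HasBinaryCoproduct (G t) (G t)]
    (hfac : ∀ (t : ι) (X : E) (f : G t ⨿ G t ⟶ X),
      ∃ (Y : E) (e : G t ⨿ G t ⟶ Y) (m : Y ⟶ X), EffectiveEpi e ∧ Mono m ∧ e ≫ m = f) :
    ∃ (κ : Type v₁) (H : κ → E),
      (∀ k, Injective (H k)) ∧ (ObjectProperty.ofObj H).IsCoseparating := by
  classical
  let Q : ι → Type v₁ := fun t => Σ t' : ι, (G t' ⟶ G t ⨿ G t) × (G t' ⟶ G t ⨿ G t)
  let ker : ∀ (t : ι) {Y : E} (_ : G t ⨿ G t ⟶ Y), Set (Q t) := fun t Y e => {x | x.2.1 ≫ e = x.2.2 ≫ e}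
  let κ : Type v₁ := Σ t : ι, {R : Set (Q t) // ∃ (Y : E) (e : G t ⨿ G t ⟶ Y), EffectiveEpi e ∧ ker t e = R}
  refine ⟨κ, fun k => Injective.under k.2.2.choose, fun k => inferInstance, fun X Z f g h => ?_⟩
  refine hG f g ?_
  intro A hA a
  rw [ObjectProperty.ofObj_iff] at hA
  obtain ⟨t, rfl⟩ := hA
  obtain ⟨Y, e, m, he, hm, hem⟩ := hfac t Z (coprod.desc (a ≫ f) (a ≫ g))
  let k : κ := ⟨t, ker t e, Y, e, he, rfl⟩
  obtain ⟨e₀, he₀, hR⟩ := k.2.2.choose_spec
  have key : ∀ {Y₁ Y₂ : E} (e₁ : G t ⨿ G t ⟶ Y₁) (e₂ : G t ⨿ G t ⟶ Y₂) [EffectiveEpi e₁],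
      ker t e₁ ⊆ ker t e₂ → ∃ φ : Y₁ ⟶ Y₂, e₁ ≫ φ = e₂ := by
    intro Y₁ Y₂ e₁ e₂ _ hsub
    refine ⟨EffectiveEpi.desc e₁ e₂ (fun {W} g₁ g₂ hg => hG _ _ ?_), EffectiveEpi.fac _ _ _⟩
    intro A hA b
    rw [ObjectProperty.ofObj_iff] at hA
    obtain ⟨t', rfl⟩ := hA
    have hmem : (⟨t', b ≫ g₁, b ≫ g₂⟩ : Q t) ∈ ker t e₁ := by
      show (b ≫ g₁) ≫ e₁ = (b ≫ g₂) ≫ e₁
      rw [Category.assoc, Category.assoc, hg]
    exact (Category.assoc _ _ _).symm.trans ((hsub hmem).trans (Category.assoc _ _ _))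
  obtain ⟨φ, hφ⟩ := key e e₀ (by rw [hR])
  obtain ⟨ψ, hψ⟩ := key e₀ e (by rw [hR])
  have hφψ : φ ≫ ψ = 𝟙 Y := by rw [← cancel_epi e, reassoc_of% hφ, hψ, Category.comp_id]
  let j := Injective.factorThru (φ ≫ Injective.ι k.2.2.choose) m
  have h' := h (Injective.under k.2.2.choose)
    (ObjectProperty.ofObj_apply (fun k : κ => Injective.under k.2.2.choose) k) j
  have h'' : a ≫ f ≫ j = a ≫ g ≫ j := by rw [h']
  have e1 : a ≫ f = coprod.inl ≫ e ≫ m := by rw [hem, coprod.inl_desc]
  have e2 : a ≫ g = coprod.inr ≫ e ≫ m := by rw [hem, coprod.inr_desc]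
  rw [reassoc_of% e1, reassoc_of% e2] at h''
  simp only [j, Injective.comp_factorThru, ← Category.assoc, cancel_mono] at h''
  have h3 := congrArg (· ≫ ψ) h''
  simp only [Category.assoc, hφψ, Category.comp_id] at h3
  rw [e1, e2, reassoc_of% h3]

end Groth.Agent.S6126
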