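import Groth.Statements.S6127
import Mathlib

set_option autoImplicit false
open CategoryTheory CategoryTheory.Limits Opposite
universe u
open SGA4

namespace Groth.Agent.S6127

open CategoryTheory CategoryTheory.Limits

/-- Let `C` be a small category and `P` a strictly full subcategory of the category of presheaves of
sets on `C` whose inclusion admits a left adjoint (a reflector) preserving finite limits. Call a
sieve `S` on `X` covering when the reflector inverts the inclusion of `S`, viewed as a subpresheaf,
into the presheaf represented by `X`. Then these covering sieves form a Grothendieck topology `J` on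
`C`, and a presheaf lies in `P` if and only if it is a sheaf for `J`. (This is the half of the
correspondence between topologies on `C` and such reflective subcategories that produces the
topology; the topology is pinned down by its covering sieves.) -/
theorem result
    {C : Type u} [SmallCategory C] (P : ObjectProperty (Cᵒᵖ ⥤ Type u))
    [P.IsClosedUnderIsomorphisms] [Reflective P.ι] [PreservesFiniteLimits (reflector P.ι)] :
    ∃ J : GrothendieckTopology C,
      (∀ (X : C) (S : Sieve X), S ∈ J X ↔ IsIso ((reflector P.ι).map S.functorInclusion)) ∧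
      ∀ F : Cᵒᵖ ⥤ Type u, P F ↔ Presieve.IsSheaf J F := by
  let L := reflector P.ι
  let adj := reflectorAdjunction P.ι
  have hL : ∀ {A B : Cᵒᵖ ⥤ Type u} (f : A ⟶ B),
      IsIso (L.map f) ↔ ∀ G : P.FullSubcategory, Function.Bijective (fun g : B ⟶ P.ι.obj G => f ≫ g) := by
    intro A B f
    have h2 : ∀ G : P.FullSubcategory, (fun g : B ⟶ P.ι.obj G => f ≫ g) =
        (adj.homEquiv A G) ∘ (fun g : L.obj B ⟶ G => L.map f ≫ g) ∘ (adj.homEquiv B G).symm := by
      intro G; funext g
      show f ≫ g = adj.homEquiv A G (L.map f ≫ (adj.homEquiv B G).symm g)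
      rw [Adjunction.homEquiv_naturality_left, Equiv.apply_symm_apply]
    constructor
    · intro h G
      rw [h2 G]
      exact (adj.homEquiv A G).bijective.comp (((asIso (L.map f)).homFromEquiv (Z := G)).symm.bijective.comp
        (adj.homEquiv B G).symm.bijective)
    · intro h
      refine isIso_of_coyoneda_map_bijective (L.map f) fun G => ?_
      have := h G
      rw [h2 G] at this
      exact ((adj.homEquiv A G).bijective.of_comp_iff' _).mp this |>
        ((adj.homEquiv B G).symm.bijective.of_comp_iff _).mp
  haveI : HasLimits P.FullSubcategory := hasLimits_of_reflective P.ι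
  let J := Sheaf.finestTopology {F : Cᵒᵖ ⥤ Type u | P F}
  have hpb : ∀ {X Y : C} (S : Sieve X) (f : Y ⟶ X), IsIso (L.map S.functorInclusion) →
      IsIso (L.map (S.pullback f).functorInclusion) := by
    intro X Y S f h
    let top : (S.pullback f).functor ⟶ S.functor := ⟨fun Z => ↾fun t => ⟨t.1 ≫ f, t.2⟩, fun Z W g => by ext t; exact Subtype.ext (Category.assoc _ _ _)⟩
    have sq : IsPullback top (S.pullback f).functorInclusion S.functorInclusion (yoneda.map f) := by
      refine ⟨⟨rfl⟩, ⟨PullbackCone.IsLimit.mk _ (fun s => (⟨fun Z => ↾fun t => ⟨s.snd.app Z t, ?_⟩, fun Z W g => ?_⟩ : s.pt ⟶ (S.pullback f).functor)) ?_ ?_ ?_⟩⟩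
      · have hh : (s.fst.app Z t).1 = (s.snd.app Z t : Z.unop ⟶ Y) ≫ f :=
          congr($(congrArg (fun φ => NatTrans.app φ Z) s.condition) t)
        show S _
        rw [← hh]
        exact (s.fst.app Z t).2
      · ext t
        exact Subtype.ext (congr($(s.snd.naturality g) t))
      · intro s
        ext Z t
        exact Subtype.ext (congr($(congrArg (fun φ => NatTrans.app φ Z) s.condition) t)).symm
      · intro s; rfl
      · intro s m hm1 hm2
        ext Z t
        exact Subtype.ext (congr($(congrArg (fun φ => NatTrans.app φ Z) hm2) t))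
    exact (sq.map L).isIso_snd_of_isIso
  have hiff : ∀ (X : C) (S : Sieve X), S ∈ J X ↔ IsIso (L.map S.functorInclusion) := by
    intro X S
    constructor
    · intro hS
      refine (hL _).mpr fun G => ?_
      have := Sheaf.sheaf_for_finestTopology {F : Cᵒᵖ ⥤ Type u | P F} (P := G.obj) G.2 S hS
      rw [Presieve.isSheafFor_iff_yonedaSheafCondition] at this
      exact Function.bijective_iff_existsUnique _ |>.mpr fun g => this g
    · intro hS
      refine Sheaf.mem_finestTopology_of_forall_isSheafFor fun F hF Y f => ?_
      rw [Presieve.isSheafFor_iff_yonedaSheafCondition]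
      exact fun g => ((hL _).mp (hpb S f hS) ⟨F, hF⟩).existsUnique g
  refine ⟨J, hiff, fun F => ⟨fun hF => Sheaf.sheaf_for_finestTopology _ hF, fun hF => ?_⟩⟩
  let G := P.ι.obj (L.obj F)
  have hG : Presieve.IsSheaf J G := Sheaf.sheaf_for_finestTopology _ (L.obj F).2
  let η : F ⟶ G := adj.unit.app F
  have hη : IsIso (L.map η) := by
    have := adj.left_triangle_components F
    exact IsIso.of_isIso_fac_right this
  have hsieve : ∀ {M : Cᵒᵖ ⥤ Type u} {X : C} (p : M ⟶ yoneda.obj X), IsIso (L.map p) →
      Sieve.sieveOfSubfunctor p ∈ J X := by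
    intro M X p hp
    rw [hiff]
    let m : M ⟶ (Sieve.sieveOfSubfunctor p).functor :=
      { app := fun Z => ↾fun t => ⟨p.app Z t, t, rfl⟩
        naturality := fun Z W g => by ext t; exact Subtype.ext (congr($(p.naturality g) t)) }
    have hfac : L.map m ≫ L.map (Sieve.sieveOfSubfunctor p).functorInclusion = L.map p := by
      rw [← L.map_comp]; rfl
    haveI : IsSplitEpi (L.map (Sieve.sieveOfSubfunctor p).functorInclusion) :=
      IsSplitEpi.mk' ⟨inv (L.map p) ≫ L.map m, by rw [Category.assoc, hfac, IsIso.inv_hom_id]⟩
    haveI : Mono (L.map (Sieve.sieveOfSubfunctor p).functorInclusion) := inferInstance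
    exact isIso_of_mono_of_isSplitEpi _
  have happ : ∀ {M : Cᵒᵖ ⥤ Type u} {X : C} (a : M.obj (Opposite.op X)) {Y : C} (f : Y ⟶ X),
      (yonedaEquiv.symm a).app (Opposite.op Y) f = M.map f.op a := fun a Y f => rfl
  have hlinj : ∀ {X : C} (a b : F.obj (Opposite.op X)), η.app _ a = η.app _ b → a = b := by
    intro X a b hab
    have hη' : L.map (yonedaEquiv.symm a) = L.map (yonedaEquiv.symm b) := by
      rw [← cancel_mono (L.map η), ← L.map_comp, ← L.map_comp]
      congr 1
      apply yonedaEquiv.injective
      simpa [yonedaEquiv_comp] using hab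
    haveI : IsIso (L.map (equalizer.ι (yonedaEquiv.symm a) (yonedaEquiv.symm b))) := by
      haveI := equalizer.ι_of_eq hη'
      rw [← equalizerComparison_comp_π _ _ L]
      infer_instance
    refine (hF _ (hsieve _ this)).isSeparatedFor.ext ?_
    rintro Y f ⟨t, rfl⟩
    have := congr($(congrArg (fun φ => NatTrans.app φ (Opposite.op Y))
      (equalizer.condition (yonedaEquiv.symm a) (yonedaEquiv.symm b))) t)
    exact (happ a _).symm.trans (this.trans (happ b _))
  have hsurj : ∀ {X : C} (x : G.obj (Opposite.op X)), ∃ a, η.app _ a = x := by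
    intro X x
    haveI : IsIso (L.map (pullback.fst (yonedaEquiv.symm x) η)) :=
      ((IsPullback.of_hasPullback (yonedaEquiv.symm x) η).map L).isIso_fst_of_isIso
    let S := Sieve.sieveOfSubfunctor (pullback.fst (yonedaEquiv.symm x) η)
    have hS : S ∈ J X := hsieve _ this
    have hex : ∀ ⦃Y : C⦄ (f : Y ⟶ X), S f → ∃ y, η.app (Opposite.op Y) y = G.map f.op x := by
      rintro Y f ⟨t, rfl⟩
      refine ⟨(pullback.snd (yonedaEquiv.symm x) η).app _ t, ?_⟩
      have := congr($(congrArg (fun φ => NatTrans.app φ (Opposite.op Y))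
        (pullback.condition (f := yonedaEquiv.symm x) (g := η))) t)
      exact this.symm.trans (happ x _)
    choose y hy using hex
    let fam : Presieve.FamilyOfElements F S.arrows := fun Y f hf => y f hf
    have hc : fam.Compatible := by
      intro Y₁ Y₂ Z g₁ g₂ f₁ f₂ h₁ h₂ e
      apply hlinj
      rw [NatTrans.naturality_apply, NatTrans.naturality_apply, hy, hy, ← Functor.map_comp_apply,
        ← Functor.map_comp_apply, ← op_comp, ← op_comp, e]
    refine ⟨(hF S hS).amalgamate fam hc, (hG S hS).isSeparatedFor.ext fun Y f hf => ?_⟩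
    rw [← NatTrans.naturality_apply, Presieve.IsSheafFor.valid_glue (hF S hS) hc f hf, hy]
  haveI : ∀ Z, IsIso (η.app Z) := fun Z => by
    rw [isIso_iff_bijective]
    exact ⟨fun a b h => hlinj (X := Z.unop) a b h, fun x => hsurj (X := Z.unop) x⟩
  haveI : IsIso η := NatIso.isIso_of_isIso_app η
  exact P.prop_of_iso (asIso η).symm (L.obj F).2

end Groth.Agent.S6127
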