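import Groth.Statements.S6131
import Mathlib

set_option autoImplicit false
open CategoryTheory CategoryTheory.Limits
universe u
open SGA4

namespace Groth.Agent.S6131

open CategoryTheory CategoryTheory.Limits Opposite

/-- For a small site `(C, J)` and an object `X` of `C`, the sheaf associated to the presheaf represented
by `X` is an initial object of the category of sheaves of sets if and only if the empty sieve covers
`X`. -/
theorem result
    {C : Type u} [SmallCategory C] (J : GrothendieckTopology C) (X : C) :
    Nonempty (IsInitial ((presheafToSheaf J (Type u)).obj (yoneda.obj X))) ↔ (⊥ : Sieve X) ∈ J X := by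
  constructor
  · rintro ⟨hI⟩
    have hsheaf : Presheaf.IsSheaf J (Functor.closedSieves J).toFunctor :=
      (isSheaf_iff_isSheaf_of_type _ _).mpr (classifier_isSheaf J)
    have key : ∀ a b : (Functor.closedSieves J).toFunctor.obj (op X), a = b := by
      intro a b
      apply yonedaEquiv.symm.injective
      exact ((sheafificationAdjunction J (Type u)).homEquiv _ ⟨_, hsheaf⟩).symm.injective (hI.hom_ext _ _)
    have he := congrArg Subtype.val (key ⟨J.close ⊥, J.close_isClosed ⊥⟩ ⟨(⊤ : Sieve X), fun Y f _ => trivial⟩)
    exact (J.close_eq_top_iff_mem _).mp he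
  · intro hX
    refine ⟨IsInitial.ofUniqueHom
      (fun F => ((sheafificationAdjunction J (Type u)).homEquiv _ F).symm (yonedaEquiv.symm ?_)) ?_⟩
    · exact ((isSheaf_iff_isSheaf_of_type _ _).mp F.property ⊥ hX).amalgamate (fun Y f hf => hf.elim)
        (fun _ _ _ _ _ _ _ hf => hf.elim)
    · intro F m
      apply ((sheafificationAdjunction J (Type u)).homEquiv _ F).injective
      apply yonedaEquiv.injective
      exact ((isSheaf_iff_isSheaf_of_type _ _).mp F.property ⊥ hX).isSeparatedFor.ext (fun Y f hf => hf.elim)

end Groth.Agent.S6131
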