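import Groth.Statements.S6132
import Groth.Agent.SubTopos.CanTopos
-- import your own Groth.Agent.* helpers here

set_option autoImplicit false
open CategoryTheory CategoryTheory.Limits
universe u
open SGA4

namespace Groth.Agent.S6132

/-- Let `(C, J)` be a small site, `X` an object and `s i : Y i ⟶ X` a family of morphisms all of whose
base changes exist in `C`. If the family is covering, every `s i` is a monomorphism, and for `i ≠ j`
the fibre product `Y i ×_X Y j` is covered by the empty sieve, then the associated sheaf of `X`,
with the maps induced by the `s i`, is a coproduct of the associated sheaves of the `Y i` in the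
category of sheaves of sets. -/
theorem result
    {C : Type u} [SmallCategory C] (J : GrothendieckTopology C) {X : C} {ι : Type u}
    (Y : ι → C) (s : ∀ i, Y i ⟶ X) [∀ (i : ι) (Z : C) (g : Z ⟶ X), HasPullback (s i) g]
    (hcov : Sieve.ofArrows Y s ∈ J X) (hmono : ∀ i, Mono (s i))
    (hdisj : ∀ i j, i ≠ j → (⊥ : Sieve (pullback (s i) (s j))) ∈ J (pullback (s i) (s j))) :
    Nonempty (IsColimit (Cofan.mk ((presheafToSheaf J (Type u)).obj (yoneda.obj X))
      (fun i => (presheafToSheaf J (Type u)).map (yoneda.map (s i))))) := by
  let a := presheafToSheaf J (Type u)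
  let g : ∀ i, SubTopos.CanTopos.ay J (Y i) ⟶ SubTopos.CanTopos.ay J X := fun i => SubTopos.CanTopos.am (s i)
  have hc : SubTopos.Giraud.Cov g := SubTopos.CanTopos.cov_ofArrows Y s hcov
  have hpb : ∀ i j, IsPullback (SubTopos.CanTopos.am (J := J) (pullback.fst (s i) (s j)))
      (SubTopos.CanTopos.am (J := J) (pullback.snd (s i) (s j))) (g i) (g j) := fun i j =>
    (IsPullback.of_hasPullback (s i) (s j)).map (yoneda ⋙ a)
  refine ⟨mkCofanColimit _ (fun t => (SubTopos.CanTopos.glue hc t.inj (fun i j => ?_)).exists.choose)
    (fun t i => (SubTopos.CanTopos.glue hc t.inj (fun i j => ?_)).exists.choose_spec i)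
    (fun t m hm => hc.hom_ext fun i => (hm i).trans ((SubTopos.CanTopos.glue hc t.inj (fun i j => ?_)).exists.choose_spec i).symm)⟩
  all_goals
    rw [← cancel_epi (hpb i j).isoPullback.hom, IsPullback.isoPullback_hom_fst_assoc,
      IsPullback.isoPullback_hom_snd_assoc]
    rcases eq_or_ne i j with rfl | hij
    · haveI := hmono i
      rw [fst_eq_snd_of_mono_eq (s i)]
    · refine (SubTopos.CanTopos.rp J _ _).injective ?_
      exact (((isSheaf_iff_isSheaf_of_type _ _).1 t.pt.property) ⊥ (hdisj i j hij)).isSeparatedFor.ext
        fun W f hf => hf.elim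

end Groth.Agent.S6132
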