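import Groth.Statements.S6139
import Mathlib

set_option autoImplicit false
open CategoryTheory CategoryTheory.Limits
universe v u
open SGA4

namespace Groth.Agent.S6139

open CategoryTheory CategoryTheory.Limits Opposite

/-- For an object `X` of a category `C`, the empty sieve on `X` is covering for the canonical topology
of `C` (the finest topology for which every representable presheaf is a sheaf) if and only if `X` is
a strict initial object: `X` is initial and every morphism with target `X` is an isomorphism. (The
source phrases the first condition as: for some topology coarser than the canonical one the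
associated sheaf of `h_X` is initial; that sheaf is initial exactly when the empty sieve covers `X`,
and coverage by the empty sieve passes to the finer canonical topology.) -/
theorem result
    {C : Type u} [Category.{v} C] (X : C) :
    (⊥ : Sieve X) ∈ Sheaf.canonicalTopology C X ↔
      (Nonempty (IsInitial X) ∧ ∀ (Y : C) (f : Y ⟶ X), IsIso f) := by
  have hsingle : ∀ {Y Z : C}, Presieve.IsSheafFor (yoneda.obj Z) (⊥ : Sieve Y).arrows →
      Nonempty (Unique (Y ⟶ Z)) := fun {Y Z} h =>
    ⟨{ default := h.amalgamate (fun _ _ hf => hf.elim) (fun _ _ _ _ _ _ _ hf => hf.elim)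
       uniq := fun g => h.isSeparatedFor.ext fun _ _ hf => hf.elim }⟩
  constructor
  · intro hX
    have hini : ∀ (Y : C) (f : Y ⟶ X), Nonempty (IsInitial Y) := fun Y f => by
      have hY : (⊥ : Sieve Y) ∈ Sheaf.canonicalTopology C Y := by
        rw [show (⊥ : Sieve Y) = (⊥ : Sieve X).pullback f from rfl]
        exact GrothendieckTopology.pullback_stable _ f hX
      haveI : ∀ Z, Unique (Y ⟶ Z) := fun Z =>
        (hsingle (Sheaf.isSheaf_yoneda_obj Z _ hY)).some
      exact ⟨IsInitial.ofUnique Y⟩
    obtain ⟨hI⟩ := hini X (𝟙 X)
    refine ⟨⟨hI⟩, fun Y f => ?_⟩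
    obtain ⟨hY⟩ := hini Y f
    exact ⟨hI.to Y, hY.hom_ext _ _, hI.hom_ext _ _⟩
  · rintro ⟨⟨hI⟩, hiso⟩
    refine Sheaf.mem_finestTopology_of_forall_isSheafFor ?_
    rintro _ ⟨Z, rfl⟩ Y f
    haveI := hiso Y f
    intro x _
    exact ⟨f ≫ hI.to Z, fun _ g hg => hg.elim, fun t _ => (cancel_epi (inv f)).mp (hI.hom_ext _ _)⟩

end Groth.Agent.S6139
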