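import Groth.Statements.S6144
import Mathlib

set_option autoImplicit false
open CategoryTheory CategoryTheory.Limits
universe w v u
open SGA4

namespace Groth.Agent.S6144

open CategoryTheory CategoryTheory.Limits Opposite

/-- Let `E` be a category with `v`-small hom-sets and pullbacks, admitting a detecting family of objects
indexed by a `v`-small type (maps out of the family jointly reflect isomorphisms). Then every
detecting family `Y : I → E`, indexed by an arbitrary type, contains a detecting subfamily indexed
by a `v`-small subset of `I`. -/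
theorem result
    {E : Type u} [Category.{v} E] [HasPullbacks E] {κ : Type v} (G : κ → E)
    (hG : (ObjectProperty.ofObj G).IsDetecting) {I : Type w} (Y : I → E)
    (hY : (ObjectProperty.ofObj Y).IsDetecting) :
    ∃ J : Set I, Small.{v} J ∧ (ObjectProperty.ofObj (fun j : J => Y j)).IsDetecting := by
  classical
  haveI : WellPowered.{v} E := wellPowered_of_isDetecting hG
  -- for a proper subobject of a member, a map out of some `Y i` which does not factor
  have key : ∀ q : (Σ k, Subobject (G k)), q.2 ≠ ⊤ → ∃ (i : I) (h : Y i ⟶ G q.1), ¬ q.2.Factors h := by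
    rintro ⟨k, P⟩ hP
    by_contra hall
    push Not at hall
    refine hP ?_
    haveI : IsIso P.arrow := hY P.arrow fun T hT h => by
      obtain ⟨i, rfl⟩ := (ObjectProperty.ofObj_iff _ _).mp hT
      have hfac := hall i h
      refine ⟨P.factorThru h hfac, P.factorThru_arrow h hfac, fun h' hh' => ?_⟩
      rw [← cancel_mono P.arrow, hh', P.factorThru_arrow]
    exact Subobject.eq_top_of_isIso_arrow P
  let sel : {q : Σ k, Subobject (G k) // q.2 ≠ ⊤} → I := fun q => (key q.1 q.2).choose
  refine ⟨Set.range sel, inferInstance, ?_⟩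
  have hmono : ∀ ⦃X Z : E⦄ (f : X ⟶ Z), Mono f →
      (∀ (i : Set.range sel) (h : Y i ⟶ Z), ∃ h' : Y i ⟶ X, h' ≫ f = h) → IsIso f := by
    intro X Z f hf hfac
    refine hG f fun T hT g => ?_
    obtain ⟨k, rfl⟩ := (ObjectProperty.ofObj_iff _ _).mp hT
    have htop : Subobject.mk (pullback.fst g f) = ⊤ := by
      by_contra hne
      obtain ⟨h, hh⟩ := (key ⟨k, _⟩ hne).choose_spec
      obtain ⟨h', hh'⟩ := hfac ⟨sel ⟨⟨k, _⟩, hne⟩, ⟨⟨k, _⟩, hne⟩, rfl⟩ (h ≫ g)
      exact hh ((Subobject.mk_factors_iff _ _).mpr ⟨pullback.lift h h' hh'.symm, pullback.lift_fst _ _ _⟩)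
    haveI := (Subobject.isIso_iff_mk_eq_top _).mpr htop
    refine ⟨inv (pullback.fst g f) ≫ pullback.snd g f, show (_ ≫ _) ≫ f = g by
      rw [Category.assoc, ← pullback.condition, IsIso.inv_hom_id_assoc], fun h' hh' => ?_⟩
    rw [← cancel_mono f, hh', Category.assoc, ← pullback.condition, IsIso.inv_hom_id_assoc]
  intro X Z f hf
  have hf' : ∀ (i : Set.range sel) (h : Y i ⟶ Z), ∃! h' : Y i ⟶ X, h' ≫ f = h := fun i h =>
    hf _ ((ObjectProperty.ofObj_iff (fun j : Set.range sel => Y j) _).mpr ⟨i, rfl⟩) h
  haveI : IsIso (pullback.diagonal f) := hmono _ inferInstance fun i h => by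
    refine ⟨h ≫ pullback.fst f f, pullback.hom_ext (by simp) ?_⟩
    rw [Category.assoc, pullback.diagonal_snd, Category.comp_id]
    refine (hf' i (h ≫ pullback.fst f f ≫ f)).unique (Category.assoc _ _ _) ?_
    rw [Category.assoc, pullback.condition]
  haveI : Mono f := ⟨fun {Z} a b hab => by
    have e : pullback.fst f f = pullback.snd f f := by
      rw [← cancel_epi (pullback.diagonal f), pullback.diagonal_fst, pullback.diagonal_snd]
    rw [← pullback.lift_fst a b hab, e, pullback.lift_snd]⟩
  exact hmono f inferInstance fun i h => (hf' i h).exists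

end Groth.Agent.S6144
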