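import Groth.Statements.S6149
import Groth.Agent.ModTensor.Flat
-- import your own Groth.Agent.* helpers here

set_option autoImplicit false
universe u
open CategoryTheory
open ModSite

namespace Groth.Agent.S6149

open CategoryTheory.Limits in
/-- Ringed topos of sheaves on a small site with commutative structure sheaf O: let M be an acyclic
chain complex of flat O-modules with M_i = 0 for i below some bound. Then for every O-module F the
complex M (x)_O F (tensoring termwise with F) is acyclic. The instance binder on the tensor functor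
(it preserves zero morphisms) always holds and is only needed to form the complex. -/
theorem result {C : Type u} [SmallCategory C] {J : GrothendieckTopology C}
    (O : Sheaf J CommRingCat.{u}) (M : ChainComplex (ModSite.Mod O) ℤ) (F : ModSite.Mod O)
    [((ModSite.tensorBi O).flip.obj F).PreservesZeroMorphisms]
    (hb : ∃ i₀ : ℤ, ∀ i, i < i₀ → IsZero (M.X i)) (hM : ∀ i, ModSite.IsFlat (M.X i)) (hac : M.Acyclic) :
    ((((ModSite.tensorBi O).flip.obj F).mapHomologicalComplex (ComplexShape.down ℤ)).obj M).Acyclic := by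
  obtain ⟨i₀, hb⟩ := hb
  let S : ℤ → ShortComplex (ModSite.Mod O) := fun i => ShortComplex.mk (M.iCycles i) (M.toCycles i (i - 1)) (by
    rw [← cancel_mono (M.iCycles (i - 1)), Category.assoc, M.toCycles_i, M.iCycles_d, zero_comp])
  have hepi : ∀ i j : ℤ, j + 1 = i → Epi (M.toCycles i j) := fun i j h =>
    Preadditive.epi_of_isZero_cokernel' _ (M.homologyIsCokernel i j (by simp; omega))
      ((M.exactAt_iff_isZero_homology j).1 (hac j))
  have hS : ∀ i, (S i).ShortExact := fun i =>
    haveI := hepi i (i - 1) (by omega)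
    { exact := ShortComplex.exact_of_f_is_kernel _ (KernelFork.IsLimit.ofι' _ _ fun {W} k hk =>
        ⟨M.liftCycles k (i - 1) (by simp) (by
          have h0 : k ≫ M.toCycles i (i - 1) = 0 := hk
          rw [← M.toCycles_i i (i - 1), reassoc_of% h0, zero_comp]), by simp [S]⟩) }
  have hflat : ∀ (m : ℕ) (i : ℤ), i < i₀ + (m : ℤ) → ModSite.IsFlat (M.cycles i) := by
    intro m
    induction m with
    | zero =>
      intro i hi
      have hz : IsZero (M.cycles i) := by
        rw [IsZero.iff_id_eq_zero, ← cancel_mono (M.iCycles i)]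
        exact (hb i (by simpa using hi)).eq_of_tgt _ _
      refine (Groth.Agent.ModTensor.isFlat_iff _).2 ⟨fun {X Y} f _ => ⟨fun g g' _ => ?_⟩⟩
      haveI : ((ModSite.tensorBi O).obj X).PreservesZeroMorphisms :=
        haveI : PreservesFiniteColimits ((ModSite.tensorBi O).obj X) := inferInstance
        haveI : PreservesColimitsOfShape (Discrete PEmpty.{1}) ((ModSite.tensorBi O).obj X) := inferInstance
        Functor.preservesZeroMorphisms_of_preserves_initial_object
      exact (Functor.map_isZero ((ModSite.tensorBi O).obj X) hz).eq_of_tgt g g'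
    | succ m ih =>
      intro i hi
      exact (Groth.Agent.ModTensor.isFlat_two_of_three (S i) (hS i) (ih (i - 1) (by push_cast at hi ⊢; omega))).2 (hM i)
  have hF : ∀ i, ModSite.IsFlat (M.cycles i) := fun i => hflat (i - i₀ + 1).toNat i (by omega)
  have hse : ∀ i, ((S i).map ((ModSite.tensorBi O).flip.obj F)).ShortExact := fun i =>
    Groth.Agent.ModTensor.shortExact_tensor (S i) (hS i) (hF (i - 1)) F
  let G := (ModSite.tensorBi O).flip.obj F
  intro i
  rw [HomologicalComplex.exactAt_iff' _ (i + 1) i (i - 1) (by simp) (by simp)]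
  let T' : ShortComplex (ModSite.Mod O) := ShortComplex.mk (G.map (M.iCycles i)) (G.map (M.d i (i - 1))) (by
    rw [← Functor.map_comp, M.iCycles_d, Functor.map_zero])
  let φ₁ : ((G.mapHomologicalComplex (ComplexShape.down ℤ)).obj M).sc' (i + 1) i (i - 1) ⟶ T' :=
    { τ₁ := G.map (M.toCycles (i + 1) i)
      τ₂ := 𝟙 _
      τ₃ := 𝟙 _
      comm₁₂ := ((G.map_comp _ _).symm.trans (congrArg G.map (M.toCycles_i (i + 1) i))).trans (Category.comp_id _).symm }
  let φ₂ : (S i).map G ⟶ T' :=
    { τ₁ := 𝟙 _
      τ₂ := 𝟙 _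
      τ₃ := G.map (M.iCycles (i - 1))
      comm₂₃ := (Category.id_comp _).trans ((G.map_comp _ _).symm.trans (congrArg G.map (M.toCycles_i i (i - 1)))).symm }
  haveI := hepi (i + 1) i rfl
  haveI : PreservesFiniteColimits G := inferInstanceAs (PreservesFiniteColimits ((ModSite.tensorBi O).flip.obj F))
  haveI : Epi φ₁.τ₁ := (inferInstance : Epi (G.map (M.toCycles (i + 1) i)))
  haveI : Mono φ₂.τ₃ := (hse (i - 1)).mono_f
  haveI : IsIso φ₁.τ₂ := (inferInstance : IsIso (𝟙 (G.obj (M.X i))))
  haveI : Mono φ₁.τ₃ := (inferInstance : Mono (𝟙 (G.obj (M.X (i - 1)))))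
  haveI : Epi φ₂.τ₁ := (inferInstance : Epi (𝟙 (G.obj (M.cycles i))))
  haveI : IsIso φ₂.τ₂ := (inferInstance : IsIso (𝟙 (G.obj (M.X i))))
  exact (ShortComplex.exact_iff_of_epi_of_isIso_of_mono φ₁).2
    ((ShortComplex.exact_iff_of_epi_of_isIso_of_mono φ₂).1 (hse i).exact)

end Groth.Agent.S6149
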