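import Groth.Statements.S6161
import Groth.Agent.Lead.FreeNerve.Basic

set_option autoImplicit false
set_option backward.isDefEq.respectTransparency false
set_option backward.isDefEq.respectTransparency.types false
set_option backward.defeqAttrib.useBackward true
universe u
open CategoryTheory
open CohSite

namespace Groth.Agent.S6161

open CategoryTheory.Limits Opposite AlgebraicTopology Simplicial Groth.Agent.Lead.FreeNerve

open CategoryTheory.Limits in
/-- Case A = Z; topos of sheaves of sets on a small site: for an epimorphism K' -> K of sheaves of sets,
the chain complex of free abelian sheaves ... -> Z[K' x_K K'] -> Z[K'] (alternating sums of the face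
maps of the Cech nerve), augmented to Z[K], is a resolution of Z[K]: the augmentation is a
quasi-isomorphism to Z[K] placed in degree 0. (An epimorphic family (U_i -> X) is replaced here by
the single epimorphism from its coproduct, which gives the same complex.) -/
theorem result {C : Type u} [SmallCategory C] (J : GrothendieckTopology C)
    {K' K : Sheaf J (Type u)} (f : K' ⟶ K) [Epi f] :
    QuasiIso ((AlgebraicTopology.AlternatingFaceMapComplex.ε (C := Sheaf J AddCommGrpCat.{u})).app
      (((SimplicialObject.Augmented.whiskering _ _).obj (Sheaf.composeAndSheafify J AddCommGrpCat.free.{u})).obj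
        (Arrow.mk f).augmentedCechNerve)) := by
  let P := sheafToPresheaf J (Type u)
  let L := presheafToSheaf J AddCommGrpCat.{u}
  let W := (Functor.whiskeringRight Cᵒᵖ _ _).obj AddCommGrpCat.free.{u}
  let g : K'.obj ⟶ K.obj := f.hom
  let Im := Subfunctor.range g
  let N := (Arrow.mk f).augmentedCechNerve
  have hmem : ∀ (n : SimplexCategoryᵒᵖ),
      Subfunctor.range (P.map (N.hom.app n)) ≤ Im := by
    intro n U
    rintro _ ⟨x, rfl⟩
    refine ⟨(P.map (WidePullback.π (fun _ : Fin (n.unop.len + 1) => (Arrow.mk f).hom) 0)).app U x, ?_⟩
    change ((P.map (WidePullback.π (fun _ : Fin (n.unop.len + 1) => f) 0) ≫ P.map f).app U) x = _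
    rw [← P.map_comp, WidePullback.π_arrow]
    rfl
  -- the presheaf of sets augmented over the image
  let B : SimplicialObject.Augmented (Cᵒᵖ ⥤ Type u) :=
    { left := N.left ⋙ P
      right := Im.toFunctor
      hom :=
        { app := fun n => Subfunctor.lift (P.map (N.hom.app n)) (hmem n)
          naturality := fun n m φ => by
            ext U x
            apply Subtype.ext
            exact congrArg (fun t => (P.map t).app U x) ((N.hom.naturality φ).trans (Category.comp_id _)) } }
  let A' := ((SimplicialObject.Augmented.whiskering _ _).obj W).obj B
  -- pointwise contractibility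
  have hA' : QuasiIso (AlternatingFaceMapComplex.ε.app A') := by
    refine quasiIso_epsilon_of_pointwise A' fun U => ?_
    let F := P ⋙ (evaluation Cᵒᵖ (Type u)).obj U
    obtain ⟨ed⟩ := nonempty_extraDegeneracy_mapped_nerve F (f := Arrow.mk f)
      (R := Im.toFunctor.obj U)
      { app := fun n => (B.hom.app n).app U
        naturality := fun n m φ => congrArg (fun t => t.app U) (B.hom.naturality φ) }
      (Im.ι.app U) ((Subfunctor.toRange g).app U) Subtype.val_injective
      ((epi_iff_surjective _).1 inferInstance) rfl (fun n => rfl)
    exact ⟨(ed.map AddCommGrpCat.free).ofIso (Comma.isoMk (Iso.refl _) (Iso.refl _) (by cat_disch))⟩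
  -- the image presheaf becomes everything after sheafification
  have hW : J.W Im.ι := by
    have : Sheaf.IsLocallySurjective f := (Sheaf.isLocallySurjective_iff_epi' (A := Type u) f).2 inferInstance
    have : Presheaf.IsLocallySurjective J g := this
    have : Presheaf.IsLocallySurjective J Im.ι :=
      Presheaf.isLocallySurjective_of_isLocallySurjective_fac J (Subfunctor.toRange_ι g)
    have : Presheaf.IsLocallyInjective J Im.ι :=
      Presheaf.isLocallyInjective_of_injective _ _ fun _ => Subtype.val_injective
    exact J.W_of_isLocallyBijective _
  have hW' : IsIso (L.map (W.map Im.ι)) :=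
    (J.W_iff _).1 (J.W_of_preservesSheafification AddCommGrpCat.free.{u} _ hW)
  let φ : ((SimplicialObject.Augmented.whiskering _ _).obj L).obj A' ⟶
      ((SimplicialObject.Augmented.whiskering _ _).obj
        (Sheaf.composeAndSheafify J AddCommGrpCat.free.{u})).obj N :=
    CommaMorphism.mk (𝟙 _) (L.map (W.map Im.ι)) (by
      apply NatTrans.ext
      funext n
      dsimp [A', B]
      simp only [Category.id_comp, Category.comp_id, ← Functor.map_comp]
      rfl)
  have : IsIso φ.left := inferInstanceAs (IsIso (𝟙 _))
  have : IsIso φ.right := hW'
  refine quasiIso_epsilon_of_hom φ ?_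
  have := hA'
  exact quasiIso_of_arrow_iso (arrowEpsilonIso L A')
    (HomologicalComplex.quasiIso_map_of_preservesHomology (AlternatingFaceMapComplex.ε.app A') L)

end Groth.Agent.S6161
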