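import Groth.Statements.S6162
import Groth.Agent.SpecSeq.Grothendieck
import Groth.Agent.SpecSeq.Sections
import Groth.Agent.Lead.SiteCoh.PullExact

set_option autoImplicit false
universe u
open CategoryTheory
open CohSite
open scoped ZeroObject

namespace Groth.Agent.S6162

open CategoryTheory.Limits in
/-- Existence form of the Leray spectral sequence; abelian sheaves on small sites: let u : D -> C be a
continuous functor between small sites whose pullback on sheaves of sets is exact (a morphism of
topoi), u_* M = M o u the direct image and R^q u_* its right derived functors. For an abelian sheaf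
M on C and an object V of D there is an E_2 spectral sequence of abelian groups, bounded, with
E_2^{p,q} isomorphic to H^p(V, R^q u_* M) for p, q >= 0 and zero otherwise, together with abutment
data whose filtrations are finite on H^n(u(V), M) (n >= 0; zero for n < 0). The E_2 identifications
and the abutment isomorphisms are asserted to exist only; they are not pinned to the canonical maps
of the construction, so edge maps and low-degree exact sequences are not part of this statement. -/
theorem result {C D : Type u} [SmallCategory C] [SmallCategory D]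
    (J : GrothendieckTopology C) (K : GrothendieckTopology D) (u : D ⥤ C) [u.IsContinuous K J]
    [PreservesFiniteLimits (u.sheafPullback (Type u) K J)] (M : Sheaf J AddCommGrpCat.{u}) (V : D) :
    ∃ (E : E₂CohomologicalSpectralSequence AddCommGrpCat.{u})
      (a : SpSeq.Abutment E (fun n : ℤ =>
        if 0 ≤ n then AddCommGrpCat.of (CohSite.HU M n.toNat (u.obj V)) else AddCommGrpCat.of PUnit.{u + 1})),
      (∀ n, a.IsFinite n) ∧ SpSeq.IsBounded E ∧
      ∀ p q : ℤ, Nonempty ((E.page 2 le_rfl).X (p, q) ≅
        (if 0 ≤ p ∧ 0 ≤ q then AddCommGrpCat.of (CohSite.HU ((CohSite.Rpush J K u q.toNat).obj M) p.toNat V)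
         else AddCommGrpCat.of PUnit.{u + 1})) := by
  letI := HasDerivedCategory.standard (Sheaf J AddCommGrpCat.{u})
  letI := HasDerivedCategory.standard (Sheaf K AddCommGrpCat.{u})
  letI := HasDerivedCategory.standard AddCommGrpCat.{u}
  have hz : Limits.IsZero (AddCommGrpCat.of PUnit.{u + 1}) := AddCommGrpCat.isZero_of_subsingleton _
  have hT : ∀ Q : Sheaf J AddCommGrpCat.{u}, Injective Q →
      Groth.Agent.RFPlus.Acyc (Groth.Agent.SpecSeq.evalFun K V) ((push J K u).obj Q) := fun Q hQ =>
    haveI := Groth.Agent.Lead.SiteCoh.injective_push (J := J) (K := K) (u := u) Q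
    Groth.Agent.RFPlus.Acyc.of_injective (Groth.Agent.SpecSeq.evalFun K V) _
  obtain ⟨E, a, h1, h2, h3⟩ :=
    Groth.Agent.SpecSeq.exists_grothendieck (push J K u) (Groth.Agent.SpecSeq.evalFun K V) hT M
  have e : ∀ n : ℤ, Nonempty ((if 0 ≤ n then
      ((push J K u ⋙ Groth.Agent.SpecSeq.evalFun K V).rightDerived n.toNat).obj M else 0) ≅
      (if 0 ≤ n then AddCommGrpCat.of (CohSite.HU M n.toNat (u.obj V)) else AddCommGrpCat.of PUnit.{u + 1})) := fun n => by
    by_cases h : 0 ≤ n
    · rw [if_pos h, if_pos h]
      obtain ⟨i⟩ := Groth.Agent.SpecSeq.nonempty_HU_iso_rightDerived J (u.obj V) M n.toNat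
      exact ⟨i.symm⟩
    · rw [if_neg h, if_neg h]
      exact ⟨(isZero_zero _).iso hz⟩
  refine ⟨E, Groth.Agent.SpecSeq.transportAbutment a (fun n => (e n).some),
    fun n => Groth.Agent.SpecSeq.isFinite_transportAbutment a _ n (h1 n), h2, fun p q => ?_⟩
  obtain ⟨e3⟩ := h3 p q
  by_cases h : 0 ≤ p ∧ 0 ≤ q
  · rw [if_pos h]
    obtain ⟨i⟩ := Groth.Agent.SpecSeq.nonempty_HU_iso_rightDerived K V ((CohSite.Rpush J K u q.toNat).obj M) p.toNat
    exact ⟨e3 ≪≫ eqToIso (if_pos h) ≪≫ i.symm⟩
  · rw [if_neg h]
    exact ⟨e3 ≪≫ eqToIso (if_neg h) ≪≫ (isZero_zero _).iso hz⟩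

end Groth.Agent.S6162
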