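import Groth.Statements.S6167
import Groth.Agent.ModSite9.LocalFactor
-- import your own Groth.Agent.* helpers here

set_option autoImplicit false
universe u
open CategoryTheory
open ModSite

namespace Groth.Agent.S6167

/-- Ringed site (C, O), small, with commutative structure sheaf: a morphism from an O-module of finite
presentation (Mathlib's notion: over some family of objects covering every object, a cokernel of a
map of finite free modules) to a flat O-module factors, locally on the site, through a finite free
module: for every object X there is a covering family (Y_i -> X) and for each i a factorisation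
F|Y_i -> (O|Y_i)^n -> H|Y_i of the restricted morphism. -/
theorem result {C : Type u} [SmallCategory C] {J : GrothendieckTopology C}
    (O : Sheaf J CommRingCat.{u}) (F H : ModSite.Mod O) [F.IsFinitePresentation] (hH : ModSite.IsFlat H)
    (φ : F ⟶ H) (X : C) :
    ∃ (ι : Type u) (Y : ι → C) (g : ∀ i, Y i ⟶ X), Sieve.ofArrows Y g ∈ J X ∧
      ∀ i, ∃ (n : ℕ) (a : (ModSite.restr O (Y i)).obj F ⟶ SheafOfModules.free (ULift.{u} (Fin n)))
        (b : SheafOfModules.free (ULift.{u} (Fin n)) ⟶ (ModSite.restr O (Y i)).obj H),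
        a ≫ b = (ModSite.restr O (Y i)).map φ := by
  obtain ⟨σ, hσ⟩ := SheafOfModules.IsFinitePresentation.exists_quasicoherentData F
  let Good : ∀ {V : C}, (V ⟶ X) → Prop := fun {V} _ => ∃ (n : ℕ)
      (a : (ModSite.restr O V).obj F ⟶ SheafOfModules.free (ULift.{u} (Fin n)))
      (b : SheafOfModules.free (ULift.{u} (Fin n)) ⟶ (ModSite.restr O V).obj H),
      a ≫ b = (ModSite.restr O V).map φ
  refine ⟨Σ V : C, {g : V ⟶ X // Good g}, fun p => p.1, fun p => p.2.1, ?_, fun p => p.2.2⟩
  choose i q using fun (Y : C) (g : Y ⟶ X) (hg : Sieve.ofObjects σ.X X g) => (Sieve.mem_ofObjects_iff _ g).1 hg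
  choose S hS hS' using fun (Y : C) (g : Y ⟶ X) (hg : Sieve.ofObjects σ.X X g) =>
    Groth.Agent.ModSite9.exists_local_factor F H hH φ (σ.presentation (i Y g hg)) (q Y g hg).some
  refine J.superset_covering ?_ (J.bind_covering (σ.coversTop X) fun {Y} g hg => hS Y g hg)
  rintro W _ ⟨Y, h, g, hg, hh, rfl⟩
  exact Sieve.ofArrows_mk (fun p : Σ V : C, {g : V ⟶ X // Good g} => p.1) (fun p => p.2.1)
    ⟨W, h ≫ g, hS' Y g hg h hh⟩

end Groth.Agent.S6167
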