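import Groth.Statements.S6172
import Mathlib.CategoryTheory.Sites.CartesianClosed
import Mathlib.CategoryTheory.Adjunction.Unique
import Mathlib.CategoryTheory.Comma.Over.Pullback

set_option autoImplicit false
universe u
open CategoryTheory
open SGA4

namespace Groth.Agent.S6172

open CategoryTheory.Limits MonoidalCategory CartesianMonoidalCategory SemiCartesianMonoidalCategory in
noncomputable def starCompForgetIso {E : Type*} [Category E] [CartesianMonoidalCategory E]
    [HasBinaryProducts E] (Z : E) : Over.star Z ⋙ Over.forget Z ≅ tensorLeft Z :=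
  NatIso.ofComponents (fun W =>
    { hom := CartesianMonoidalCategory.lift (prod.fst : Z ⨯ W ⟶ Z) prod.snd
      inv := prod.lift (fst Z W) (snd Z W)
      hom_inv_id := by
        apply Limits.prod.hom_ext
        · exact (by simp : (CartesianMonoidalCategory.lift (prod.fst : Z ⨯ W ⟶ Z) prod.snd ≫
            prod.lift (fst Z W) (snd Z W)) ≫ prod.fst = 𝟙 (Z ⨯ W) ≫ prod.fst)
        · exact (by simp : (CartesianMonoidalCategory.lift (prod.fst : Z ⨯ W ⟶ Z) prod.snd ≫
            prod.lift (fst Z W) (snd Z W)) ≫ prod.snd = 𝟙 (Z ⨯ W) ≫ prod.snd)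
      inv_hom_id := by
        apply CartesianMonoidalCategory.hom_ext
        · exact ((Category.assoc _ _ _).trans ((congrArg (prod.lift (fst Z W) (snd Z W) ≫ ·)
            (lift_fst _ _)).trans (prod.lift_fst _ _))).trans (Category.id_comp _).symm
        · exact ((Category.assoc _ _ _).trans ((congrArg (prod.lift (fst Z W) (snd Z W) ≫ ·)
            (lift_snd _ _)).trans (prod.lift_snd _ _))).trans (Category.id_comp _).symm })
    (fun {W W'} g => by
      change prod.map (𝟙 Z) g ≫ CartesianMonoidalCategory.lift prod.fst prod.snd =
        CartesianMonoidalCategory.lift prod.fst prod.snd ≫ (Z ◁ g)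
      apply CartesianMonoidalCategory.hom_ext <;>
        simp only [Category.assoc, lift_fst, lift_snd, prod.map_fst, prod.map_snd, Category.comp_id,
          whiskerLeft_fst, whiskerLeft_snd, lift_snd_assoc])

open CategoryTheory.Limits MonoidalCategory in
/-- Topos E of sheaves of sets on a small site, localised at an object Z: with j_Z : E/Z -> E the
localisation morphism, j_Z^* X = Z x X over Z, and j_{Z*} its right adjoint (taken as an instance
hypothesis, which holds in any topos), j_{Z*} j_Z^* Y is isomorphic to the internal hom Hom(Z, Y)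
for every object Y. Existence of an isomorphism only (the source's is canonical). -/
theorem result {C : Type u} [SmallCategory C] (J : GrothendieckTopology C)
    (Z Y : Sheaf J (Type u)) [(Over.star Z).IsLeftAdjoint] :
    Nonempty (((Over.star Z).rightAdjoint).obj ((Over.star Z).obj Y) ≅ (ihom Z).obj Y) := by
  let adj₁ := (Adjunction.ofIsLeftAdjoint (Over.star Z)).comp (Over.forgetAdjStar Z)
  let adj₂ := (ihom.adjunction Z)
  let e : Over.star Z ⋙ Over.forget Z ≅ tensorLeft Z :=
    starCompForgetIso Z
  exact ⟨((adj₁.ofNatIsoLeft e).rightAdjointUniq adj₂).app Y⟩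

end Groth.Agent.S6172
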