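import Groth.Statements.S6173
import Groth.Agent.SubTopos.CanTopos
-- import your own Groth.Agent.* helpers here

set_option autoImplicit false
universe u
open CategoryTheory
open SGA4

namespace Groth.Agent.S6173

/-- Second assertion (topos of sheaves on a small site (C, J); E/X_i the induced topoi, modelled by the
sites (C/X_i, J/X_i); 'enough points' = a small conservative family of points, equivalently all
fibre functors together are conservative): if (X_i) is a family of objects covering the final object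
and every E/X_i has enough points, then E has enough points. (The first assertion, that E/X inherits
enough points from E, is Mathlib's instance.) -/
theorem result {C : Type u} [SmallCategory C] (J : GrothendieckTopology C) {ι : Type u}
    (X : ι → C) (hX : J.CoversTop X) (h : ∀ i, GrothendieckTopology.HasEnoughPoints.{u} (J.over (X i))) :
    GrothendieckTopology.HasEnoughPoints.{u} J := by
  have hk : ∀ i, ∃ P : ObjectProperty (GrothendieckTopology.Point.{u} (J.over (X i))),
      ObjectProperty.Small.{u} P ∧ P.IsConservativeFamilyOfPoints := fun i =>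
    (h i).exists_objectProperty
  choose P hsmall hP using hk
  haveI := hsmall
  let pt : (Σ i, Shrink.{u} (Subtype (P i))) → GrothendieckTopology.Point.{u} J := fun p =>
    ((equivShrink _).symm p.2).1.map (Over.forget (X p.1)) J
  refine ⟨ObjectProperty.ofObj pt, inferInstance, ⟨⟨fun {F G} φ hφ => ?_⟩⟩⟩
  have hres : ∀ i, IsIso ((J.overPullback (Type u) (X i)).map φ) := fun i => by
    haveI : ∀ Φ : (P i).FullSubcategory, IsIso (Φ.obj.sheafFiber.map ((J.overPullback (Type u) (X i)).map φ)) := fun Φ => by
      let p : (Σ i, Shrink.{u} (Subtype (P i))) := ⟨i, equivShrink _ ⟨Φ.obj, Φ.property⟩⟩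
      have h1 : IsIso ((pt p).sheafFiber.map φ) := hφ ⟨_, ObjectProperty.ofObj_apply pt p⟩
      have h2 : pt p = Φ.obj.map (Over.forget (X i)) J := by
        simp only [pt, p, Equiv.symm_apply_apply]
      rw [h2] at h1
      exact ((NatIso.isIso_map_iff (GrothendieckTopology.Point.sheafFiberMapIso Φ.obj (Over.forget (X i)) J
        (Type u)) φ)).1 h1
    exact (hP i).jointlyReflectIsomorphisms_type.isIso _
  haveI : ∀ p : (Σ i, Over (X i)), IsIso (φ.hom.app (Opposite.op p.2.left)) := fun p =>
    inferInstanceAs (IsIso ((sheafToPresheaf (J.over (X p.1)) (Type u) ⋙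
      (evaluation _ _).obj (Opposite.op p.2)).map ((J.overPullback (Type u) (X p.1)).map φ)))
  refine SubTopos.SiteLemmas.isDetecting J {Y | ∃ i, Nonempty (Y ⟶ X i)}
    (fun Y => ⟨Σ i, Σ Z : C, (Z ⟶ Y) × (Z ⟶ X i), fun p => p.2.1, fun p => p.2.2.1, ?_, fun p => ⟨p.1, ⟨p.2.2.2⟩⟩⟩)
    φ fun A hA g => ?_
  · refine J.superset_covering ?_ (hX Y)
    rintro Z g ⟨i, ⟨k⟩⟩
    exact Sieve.ofArrows_mk _ _ (⟨i, Z, g, k⟩ : Σ i, Σ Z : C, (Z ⟶ Y) × (Z ⟶ X i))
  · obtain ⟨⟨Y, i, ⟨k⟩⟩⟩ := hA
    haveI : IsIso (φ.hom.app (Opposite.op Y)) := this ⟨i, Over.mk k⟩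
    have hb := (isIso_iff_bijective _).1 ‹IsIso (φ.hom.app (Opposite.op Y))›
    obtain ⟨x, hx⟩ := hb.2 (SubTopos.CanTopos.rp J Y G g)
    refine ⟨(SubTopos.CanTopos.rp J Y F).symm x, ?_, fun g' hg' => ?_⟩
    · refine (SubTopos.CanTopos.rp J Y G).injective ?_
      refine (SubTopos.CanTopos.rp_comp _ _).trans ?_
      rw [Equiv.apply_symm_apply]
      exact hx
    · refine (SubTopos.CanTopos.rp J Y F).injective (hb.1 ?_)
      rw [Equiv.apply_symm_apply]
      refine (SubTopos.CanTopos.rp_comp g' φ).symm.trans ?_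
      rw [hg']
      exact hx.symm

end Groth.Agent.S6173
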