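import Groth.Statements.S6182
import Groth.Agent.ToposQC.Gen
import Mathlib.CategoryTheory.Sites.Pullback

set_option autoImplicit false
open CategoryTheory CategoryTheory.Limits Opposite
universe u
open ToposFin

namespace Groth.Agent.S6182

/-- objects corepresenting the same functor -/
noncomputable def isoOfHomEquiv {A : Type (u + 1)} [Category.{u} A] {a b : A} (e : ∀ Z : A, (a ⟶ Z) ≃ (b ⟶ Z))
    (he : ∀ {Z W : A} (f : a ⟶ Z) (g : Z ⟶ W), e W (f ≫ g) = e Z f ≫ g) : a ≅ b where
  hom := (e b).symm (𝟙 b)
  inv := e a (𝟙 a)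
  hom_inv_id := by
    apply (e a).injective
    rw [he, Equiv.apply_symm_apply, Category.id_comp]
  inv_hom_id := by
    rw [← he, Category.id_comp, Equiv.apply_symm_apply]

/-- inverse image of a representable -/
noncomputable def pullEpsIso {C D : Type u} [SmallCategory C] [SmallCategory D] (J : GrothendieckTopology C)
    (K : GrothendieckTopology D) (G : C ⥤ D) [Functor.IsContinuous G J K] (X : C) :
    (G.sheafPullback (Type u) J K).obj (ToposFin.eps J X) ≅ ToposFin.eps K (G.obj X) :=
  isoOfHomEquiv
    (fun Z => (((G.sheafAdjunctionContinuous (Type u) J K).homEquiv _ Z).trans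
      (Groth.Agent.ToposQC.el X ((G.sheafPushforwardContinuous (Type u) J K).obj Z))).trans
      (Groth.Agent.ToposQC.el (G.obj X) Z).symm)
    (fun {Z W} f g => by
      simp only [Equiv.trans_apply]
      rw [Adjunction.homEquiv_naturality_right, Groth.Agent.ToposQC.el_comp]
      refine ((Groth.Agent.ToposQC.el (G.obj X) W).eq_symm_apply.2 ?_).symm
      rw [Groth.Agent.ToposQC.el_comp]
      exact congrArg _ ((Groth.Agent.ToposQC.el (G.obj X) Z).apply_symm_apply _))



/-- Let (C, J) and (D, K) be small sites with fibre products in which every object is quasi-compact, and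
G : C -> D a continuous functor whose inverse-image functor on sheaves of sets f^* (the sheaf
pullback along G, from sheaves on C to sheaves on D) preserves finite limits, so that G is a
morphism of sites and f a morphism of topoi. Then f is coherent: f^* sends quasi-compact objects to
quasi-compact objects and quasi-separated objects to quasi-separated objects. -/
theorem result {C D : Type u} [SmallCategory C] [SmallCategory D]
    [HasPullbacks C] [HasPullbacks D] (J : GrothendieckTopology C) (K : GrothendieckTopology D)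
    (hC : ∀ X : C, ToposFin.IsQCSite J X) (hD : ∀ Y : D, ToposFin.IsQCSite K Y)
    (G : C ⥤ D) [Functor.IsContinuous G J K] [PreservesFiniteLimits (G.sheafPullback (Type u) J K)] :
    (∀ X : ToposFin.Sh J, ToposFin.IsQC X → ToposFin.IsQC ((G.sheafPullback (Type u) J K).obj X)) ∧
      (∀ X : ToposFin.Sh J, ToposFin.IsQS X → ToposFin.IsQS ((G.sheafPullback (Type u) J K).obj X)) := by
  have adj := G.sheafAdjunctionContinuous (Type u) J K
  have hG : ∀ X : C, ToposFin.IsCoherent ((G.sheafPullback (Type u) J K).obj (ToposFin.eps J X)) := fun X => by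
    obtain ⟨h1, h2⟩ := Groth.Agent.ToposQC.coherent_eps hD (G.obj X)
    exact ⟨Groth.Agent.ToposQC.qc_of_iso (pullEpsIso J K G X).symm h1, Groth.Agent.ToposQC.qs_of_iso (pullEpsIso J K G X).symm h2⟩
  have hE : ToposFin.HasQCGenerators K := fun Y => by
    obtain ⟨ι, a, π, hπ⟩ := Groth.Agent.ToposQC.gen_eps (J := K) Y
    exact ⟨ι, fun i => ToposFin.eps K (a i), π, fun i => Groth.Agent.ToposQC.qc_eps_of_site hD _,
      (Groth.Agent.ToposQC.je_iff_epi π).2 hπ⟩
  exact ⟨fun X hX => Groth.Agent.ToposQC.qc_map adj Groth.Agent.ToposQC.gen_eps (fun a => (hG a).1) hX,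
    fun X hX => Groth.Agent.ToposQC.qs_map adj hE (Groth.Agent.ToposQC.qc_eps_of_site hC) Groth.Agent.ToposQC.gen_eps hG hX⟩

end Groth.Agent.S6182
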