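import Groth.Statements.S6263
import Mathlib.RingTheory.Flat.Basic
import Mathlib.RingTheory.Support
import Mathlib.RingTheory.Spectrum.Prime.RingHom
import Mathlib.LinearAlgebra.TensorProduct.Quotient
import Mathlib.RingTheory.LocalRing.ResidueField.Ideal
import Mathlib.RingTheory.Spectrum.Prime.FreeLocus

set_option autoImplicit false
universe u
open CAlg

namespace Groth.Agent.S6263

open scoped TensorProduct

/-- For a ring map R → S and a finite S-module N which is flat as an R-module, generalizations lift
along the map from the support of N (a subset of Spec S) to Spec R: if p ≤ p' are primes of R and q'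
is a prime of S in the support of N whose inverse image in R is p', then some prime q ≤ q' of S lies
in the support of N and has inverse image p. -/
theorem result {R S : Type u} [CommRing R] [CommRing S] [Algebra R S] (N : Type u) [AddCommGroup N] [Module S N] [Module R N] [IsScalarTower R S N] [Module.Finite S N] [Module.Flat R N] (p p' : Ideal R) [p.IsPrime] [p'.IsPrime] (hle : p ≤ p') (q' : PrimeSpectrum S) (hq' : q' ∈ Module.support S N) (hover : q'.asIdeal.under R = p') : ∃ q : PrimeSpectrum S, q ≤ q' ∧ q ∈ Module.support S N ∧ q.asIdeal.under R = p := by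
  let J : Ideal S := p.map (algebraMap R S) ⊔ Module.annihilator S N
  let U : Submonoid S := (p.primeCompl.map (algebraMap R S)) ⊔ q'.asIdeal.primeCompl
  suffices hd : Disjoint (J : Set S) U by
    obtain ⟨q, hq, hJq, hqU⟩ := Ideal.exists_le_prime_disjoint J U hd
    have hle' : q ≤ q'.asIdeal := fun x hx => by
      by_contra h
      exact Set.disjoint_left.1 hqU hx (Submonoid.mem_sup_right h)
    refine ⟨⟨q, hq⟩, hle', ?_, le_antisymm (fun x hx => ?_) (fun x hx => ?_)⟩
    · rw [Module.support_eq_zeroLocus]
      exact le_sup_right.trans hJq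
    · by_contra h
      exact Set.disjoint_left.1 hqU hx (Submonoid.mem_sup_left (Submonoid.mem_map_of_mem _ h))
    · exact hJq (Ideal.mem_sup_left (Ideal.mem_map_of_mem _ hx))
  rw [Set.disjoint_right]
  intro u hu huJ
  obtain ⟨_, ⟨t, ht, rfl⟩, s, hs, rfl⟩ := Submonoid.mem_sup.1 hu
  -- `p N` as an `R`-submodule
  let P : Submodule R N := p • ⊤
  have hPS : ∀ (a : S) (n : N), n ∈ P → a • n ∈ P := by
    intro a n hn
    induction hn using Submodule.smul_induction_on' with
    | smul r hr m _ => rw [smul_comm]; exact Submodule.smul_mem_smul hr Submodule.mem_top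
    | add _ _ _ _ h h' => rw [smul_add]; exact add_mem h h'
  have hJN : ∀ j ∈ J, ∀ n : N, j • n ∈ P := by
    intro j hj n
    obtain ⟨a, ha, b, hb, rfl⟩ := Submodule.mem_sup.1 hj
    rw [add_smul, Module.mem_annihilator.1 hb, add_zero]
    clear hj
    induction ha using Submodule.span_induction with
    | mem x hx =>
      obtain ⟨r, hr, rfl⟩ := hx
      rw [algebraMap_smul]; exact Submodule.smul_mem_smul hr Submodule.mem_top
    | zero => rw [zero_smul]; exact zero_mem _
    | add _ _ _ _ h h' => rw [add_smul]; exact add_mem h h'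
    | smul c x _ h => rw [smul_assoc]; exact hPS c _ h
  have hsP : ∀ n : N, s • n ∈ P := by
    intro n
    have h1 : t • (s • n) ∈ P := by rw [← algebraMap_smul S t, smul_smul]; exact hJN _ huJ n
    have hinj : Function.Injective ((LinearMap.lsmul R (R ⧸ p) t).rTensor N) := by
      refine Module.Flat.rTensor_preserves_injective_linearMap (M := N) _ fun a b hab => ?_
      obtain ⟨a, rfl⟩ := Ideal.Quotient.mk_surjective a
      obtain ⟨b, rfl⟩ := Ideal.Quotient.mk_surjective b
      have h : Ideal.Quotient.mk p (t * a) = Ideal.Quotient.mk p (t * b) := hab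
      rw [Ideal.Quotient.mk_eq_mk_iff_sub_mem] at h ⊢
      rw [← mul_sub] at h
      exact (Ideal.IsPrime.mem_or_mem inferInstance h).resolve_left ht
    have key : ∀ m : N, m ∈ P ↔ (1 : R ⧸ p) ⊗ₜ[R] m = 0 := fun m => by
      rw [← (TensorProduct.quotTensorEquivQuotSMul N p).map_eq_zero_iff]
      erw [TensorProduct.quotTensorEquivQuotSMul_mk_tmul]
      rw [one_smul, Submodule.Quotient.mk_eq_zero]
    rw [key] at h1 ⊢
    refine hinj ?_
    rw [map_zero, LinearMap.rTensor_tmul, LinearMap.lsmul_apply, TensorProduct.smul_tmul, h1]
  have hnt := (Module.mem_support_iff_nontrivial_residueField_tensorProduct (M := N) q').1 hq'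
  refine not_subsingleton_iff_nontrivial.2 hnt (subsingleton_of_forall_eq 0 fun z => ?_)
  have hP0 : ∀ n ∈ P, (1 : q'.asIdeal.ResidueField) ⊗ₜ[S] n = 0 := by
    intro n hn
    induction hn using Submodule.smul_induction_on' with
    | smul r hr m _ =>
      have : algebraMap R S r ∈ q'.asIdeal := by
        have h2 : r ∈ q'.asIdeal.under R := hover ▸ hle hr
        exact h2
      rw [← algebraMap_smul S r, TensorProduct.tmul_smul, ← algebraMap_smul q'.asIdeal.ResidueField,
        Ideal.algebraMap_residueField_eq_zero.2 this, zero_smul]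
    | add _ _ _ _ h h' => rw [TensorProduct.tmul_add, h, h', add_zero]
  induction z using TensorProduct.induction_on with
  | zero => rfl
  | add a b ha hb => rw [ha, hb, add_zero]
  | tmul c n =>
    have h0 := hP0 _ (hsP n)
    rw [TensorProduct.tmul_smul, ← algebraMap_smul q'.asIdeal.ResidueField, smul_eq_zero] at h0
    have h1 := h0.resolve_left (fun h => hs (Ideal.algebraMap_residueField_eq_zero.1 h))
    rw [← mul_one c, ← smul_eq_mul, ← TensorProduct.smul_tmul', h1, smul_zero]

end Groth.Agent.S6263
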