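import Groth.Statements.S6265
import Mathlib.RingTheory.Ideal.GoingDown
import Mathlib.RingTheory.Ideal.HasGoingUp
import Mathlib.RingTheory.Localization.AtPrime.Basic
import Mathlib.RingTheory.Localization.Ideal

set_option autoImplicit false
universe u
open CAlg

namespace Groth.Agent.S6265

/-- a localization on a smaller multiplicative set is the localization at `q` when every prime of it lies below `q` -/
lemma atPrime_of_forall {R S : Type u} [CommRing R] [CommRing S] [Algebra R S] (p : Ideal R) [p.IsPrime] (q : Ideal S) [q.IsPrime]
    [q.LiesOver p] (h : ∀ Q : Ideal S, Q.IsPrime → Q.under R ≤ p → Q ≤ q) :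
    IsLocalization.AtPrime (Localization (Algebra.algebraMapSubmonoid S p.primeCompl)) q := by
  let T := Algebra.algebraMapSubmonoid S p.primeCompl
  refine IsLocalization.of_le T _ ?_ fun x hx => ?_
  · rintro _ ⟨r, hr, rfl⟩ hmem
    exact hr (by rw [Ideal.over_def q p]; exact hmem)
  · by_contra hu
    obtain ⟨M, hM, hle⟩ := Ideal.exists_le_maximal (Ideal.span {algebraMap S (Localization T) x})
      (by rw [Ne, Ideal.span_singleton_eq_top]; exact hu)
    have hxQ : x ∈ M.comap (algebraMap S (Localization T)) := hle (Ideal.mem_span_singleton_self _)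
    refine hx (h _ inferInstance (fun r hr => ?_) hxQ)
    by_contra hrp
    exact hM.ne_top (Ideal.eq_top_of_isUnit_mem _ hr (IsLocalization.map_units _ (⟨algebraMap R S r, r, hrp, rfl⟩ : T)))

/-- Let R → S be a ring map with the going-down property such that over every prime of R lies at most
one prime of S, and let p be a prime of R and q a prime of S above it. Then the localization S_p of
S at the image of R - p is a localization of S at q, i.e. S_p = S_q. -/
theorem result {R S : Type u} [CommRing R] [CommRing S] [Algebra R S] [Algebra.HasGoingDown R S] (hinj : ∀ q₁ q₂ : Ideal S, q₁.IsPrime → q₂.IsPrime → q₁.under R = q₂.under R → q₁ = q₂) (p : Ideal R) [p.IsPrime] (q : Ideal S) [q.IsPrime] [q.LiesOver p] : IsLocalization.AtPrime (Localization (Algebra.algebraMapSubmonoid S p.primeCompl)) q := by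
  refine atPrime_of_forall p q fun Q hQ hle => ?_
  obtain ⟨P, hPq, hP, hover⟩ := q.exists_ideal_le_liesOver_of_le (p := Q.under R) (q := p) hle
  exact (hinj Q P hQ hP hover.over).le.trans hPq

end Groth.Agent.S6265
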