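import Groth.Statements.S6266
import Mathlib.RingTheory.Spectrum.Prime.FreeLocus
import Mathlib.RingTheory.LocalRing.Module
import Mathlib.RingTheory.Nilpotent.Basic
import Mathlib.LinearAlgebra.Basis.VectorSpace
import Mathlib.RingTheory.Support
import Mathlib.LinearAlgebra.FiniteDimensional.Lemmas
import Mathlib.LinearAlgebra.Dimension.OrzechProperty
import Mathlib.LinearAlgebra.Dimension.Constructions

set_option autoImplicit false
universe u
open scoped TensorProduct
open CAlg

namespace Groth.Agent.S6266

open TensorProduct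

/-- Let R be a reduced ring and M an R-module. Then M is a finite projective R-module if and only if M
is finitely generated and the function on Spec R sending a prime p to the dimension of κ(p) ⊗ M over
the residue field κ(p) is locally constant for the Zariski topology. -/
theorem result (R : Type u) [CommRing R] [IsReduced R] (M : Type u) [AddCommGroup M] [Module R M] : (Module.Finite R M ∧ Module.Projective R M) ↔ (Module.Finite R M ∧ IsLocallyConstant (fun p : PrimeSpectrum R => Module.finrank p.asIdeal.ResidueField (p.asIdeal.ResidueField ⊗[R] M))) := by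
  classical
  refine ⟨fun ⟨h, hp⟩ => ⟨h, ?_⟩, fun ⟨hfin, hloc⟩ => ⟨hfin, ?_⟩⟩
  · haveI := h; haveI := hp
    haveI : Module.FinitePresentation R M := Module.finitePresentation_of_projective R M
    have h1 : IsLocallyConstant (Module.rankAtStalk (R := R) M) := Module.isLocallyConstant_rankAtStalk
    convert h1 using 1
    exact funext fun p => (Module.rankAtStalk_eq p).symm
  haveI := hfin
  obtain ⟨n, π, hπ⟩ := Module.Finite.exists_fin' R M
  let Sc : Ideal R :=
    { carrier := {c | ∃ σ : M →ₗ[R] (Fin n → R), π ∘ₗ σ = c • LinearMap.id}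
      zero_mem' := ⟨0, by simp⟩
      add_mem' := by
        rintro a b ⟨V, hV⟩ ⟨W, hW⟩
        exact ⟨V + W, by rw [LinearMap.comp_add, hV, hW, add_smul]⟩
      smul_mem' := by
        rintro c a ⟨V, hV⟩
        exact ⟨c • V, by rw [LinearMap.comp_smul, hV, smul_smul, smul_eq_mul]⟩ }
  suffices htop : Sc = ⊤ by
    obtain ⟨σ, hσ⟩ : (1 : R) ∈ Sc := htop ▸ Submodule.mem_top
    exact Module.Projective.of_split σ π (hσ.trans (one_smul _ _))
  by_contra hne
  obtain ⟨m, hm, hle⟩ := Ideal.exists_le_maximal Sc hne
  let p : PrimeSpectrum R := ⟨m, hm.isPrime⟩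
  let κ := p.asIdeal.ResidueField
  -- lift a basis
  have hsp : ⊤ ≤ Submodule.span κ (Set.range fun x : M => (1 : κ) ⊗ₜ[R] x) := by
    rintro z -
    induction z using TensorProduct.induction_on with
    | zero => exact zero_mem _
    | add a b ha hb => exact add_mem ha hb
    | tmul c y =>
      rw [show c ⊗ₜ[R] y = c • ((1 : κ) ⊗ₜ[R] y) by rw [smul_tmul', smul_eq_mul, mul_one]]
      exact Submodule.smul_mem _ _ (Submodule.subset_span ⟨y, rfl⟩)
  obtain ⟨B, hB1, hB2, hB3⟩ := exists_linearIndependent κ (Set.range fun x : M => (1 : κ) ⊗ₜ[R] x)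
  rw [top_le_iff.1 hsp] at hB2
  let bs : Module.Basis B κ (κ ⊗[R] M) := Module.Basis.mk hB3 (by simp [hB2])
  haveI : Finite B := Module.Finite.finite_basis bs
  haveI : Fintype B := Fintype.ofFinite B
  choose y hy using fun b : B => hB1 b.2
  let x : (B → R) →ₗ[R] M := Fintype.linearCombination R y
  have hxs : Function.Surjective (x.lTensor κ) := by
    rw [← LinearMap.range_eq_top, eq_top_iff]
    intro z _
    rw [← bs.sum_repr z]
    refine Submodule.sum_mem _ fun b _ => ⟨(bs.repr z b) ⊗ₜ Pi.single b 1, ?_⟩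
    rw [LinearMap.lTensor_tmul, Module.Basis.mk_apply, show x (Pi.single b 1) = y b by simp [x], ← hy b, smul_tmul',
      smul_eq_mul, mul_one]
  have hnot : p ∉ Module.support R (M ⧸ LinearMap.range x) := by
    rw [Module.mem_support_iff_nontrivial_residueField_tensorProduct, not_nontrivial_iff_subsingleton]
    have hex := lTensor_exact κ (LinearMap.exact_map_mkQ_range x) (Submodule.mkQ_surjective _)
    refine ⟨fun a b => ?_⟩
    have hz : ∀ a : κ ⊗[R] (M ⧸ LinearMap.range x), a = 0 := fun a => by
      obtain ⟨w, rfl⟩ := LinearMap.lTensor_surjective _ (Submodule.mkQ_surjective _) a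
      exact (hex w).2 (hxs w)
    rw [hz a, hz b]
  rw [Module.support_eq_zeroLocus, PrimeSpectrum.mem_zeroLocus, Set.not_subset] at hnot
  obtain ⟨f₁, hf₁, hf₁p⟩ := hnot
  obtain ⟨U, hU, hpU, hUconst⟩ := hloc.exists_open p
  obtain ⟨_, ⟨_, ⟨f₂, rfl⟩, rfl⟩, hf₂p, hf₂U⟩ := PrimeSpectrum.isBasis_basic_opens.exists_subset_of_mem_open hpU hU
  let f := f₁ * f₂
  have hfp : f ∉ m := fun h => (hm.isPrime.mem_or_mem h).elim hf₁p hf₂p
  have hfM : ∀ z : M, f • z ∈ LinearMap.range x := fun z => (Submodule.Quotient.mk_eq_zero _).1 (by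
    rw [Submodule.Quotient.mk_smul]; change (f₁ * f₂) • _ = 0; rw [mul_comm, mul_smul, Module.mem_annihilator.1 hf₁, smul_zero])
  -- the kernel is killed by `f`
  have hker : ∀ v : B → R, x v = 0 → ∀ b, f * v b = 0 := by
    intro v hv b
    refine IsReduced.eq_zero _ ((mem_nilradical).1 ?_)
    rw [nilradical_eq_sInf, Submodule.mem_sInf]
    rintro (Q : Ideal R) hQ
    haveI : Q.IsPrime := hQ
    by_cases hfQ : f ∈ Q
    · exact Ideal.mul_mem_right _ _ hfQ
    refine Ideal.mul_mem_left _ _ ?_
    let q : PrimeSpectrum R := ⟨Q, hQ⟩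
    have hrk : Module.finrank Q.ResidueField (Q.ResidueField ⊗[R] M) = Fintype.card B :=
      (hUconst q (hf₂U (show f₂ ∉ Q from fun h => hfQ (Ideal.mul_mem_left _ _ h)))).trans
        (Module.finrank_eq_card_basis bs)
    have hgen : Submodule.span Q.ResidueField (Set.range fun b => (1 : Q.ResidueField) ⊗ₜ[R] y b) = ⊤ := by
      suffices hz : ∀ z, z ∈ Submodule.span Q.ResidueField (Set.range fun b => (1 : Q.ResidueField) ⊗ₜ[R] y b) from
        eq_top_iff.2 fun z _ => hz z
      intro z
      induction z using TensorProduct.induction_on with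
      | zero => exact zero_mem _
      | add a b ha hb => exact add_mem ha hb
      | tmul c z =>
        have hfu : algebraMap R Q.ResidueField f ≠ 0 := fun h => hfQ (Ideal.algebraMap_residueField_eq_zero.1 h)
        obtain ⟨w, hw⟩ := hfM z
        have e : c ⊗ₜ[R] z = (c * (algebraMap R Q.ResidueField f)⁻¹) • ((1 : Q.ResidueField) ⊗ₜ[R] (f • z)) := by
          rw [tmul_smul, ← algebraMap_smul Q.ResidueField f, smul_smul, smul_tmul', smul_eq_mul, mul_one, mul_assoc,
            inv_mul_cancel₀ hfu, mul_one]
        rw [e, ← hw, Fintype.linearCombination_apply, tmul_sum]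
        refine Submodule.smul_mem _ _ (Submodule.sum_mem _ fun b _ => ?_)
        rw [tmul_smul, ← algebraMap_smul Q.ResidueField]
        exact Submodule.smul_mem _ _ (Submodule.subset_span ⟨b, rfl⟩)
    have hli := linearIndependent_of_top_le_span_of_card_eq_finrank hgen.ge hrk.symm
    have e0 : ∑ b, algebraMap R Q.ResidueField (v b) • ((1 : Q.ResidueField) ⊗ₜ[R] y b) = 0 := by
      simp only [algebraMap_smul, ← tmul_smul, ← tmul_sum]
      rw [show ∑ b, v b • y b = x v from (Fintype.linearCombination_apply R y v).symm, hv, tmul_zero]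
    exact Ideal.algebraMap_residueField_eq_zero.1 (Fintype.linearIndependent_iff.1 hli _ e0 b)
  choose w hw using hfM
  have huniq : ∀ {v v' : B → R}, x v = x v' → f • v = f • v' := fun {v v'} h => funext fun b => by
    have := hker (v - v') (by rw [map_sub, h, sub_self]) b
    rw [Pi.sub_apply, mul_sub, sub_eq_zero] at this
    simpa using this
  let σ : M →ₗ[R] (B → R) :=
    { toFun := fun z => f • w z
      map_add' := fun a b => by
        rw [← smul_add]; exact huniq (by rw [map_add, hw, hw, hw, smul_add])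
      map_smul' := fun c a => by
        rw [RingHom.id_apply, smul_comm c f]; exact huniq (by rw [map_smul, hw, hw, smul_comm]) }
  obtain ⟨x', hx'⟩ := Module.projective_lifting_property π x hπ
  have hmem : f * f ∈ Sc := ⟨x' ∘ₗ σ, LinearMap.ext fun z => by
    rw [← LinearMap.comp_assoc, hx']
    change x (f • w z) = (f * f) • z
    rw [map_smul, hw, smul_smul]⟩
  exact hfp ((hm.isPrime.mem_or_mem (hle hmem)).elim id id)

end Groth.Agent.S6266
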