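import Groth.Statements.S6268
import Groth.Agent.ML.Pure

set_option autoImplicit false
universe u
open CAlg

namespace Groth.Agent.S6268


open TensorProduct

/-- Suppose the structure map R → S of an R-algebra S is universally injective as an R-linear map. Then
tensoring with S detects injectivity and surjectivity of R-linear maps (and hence reflects
isomorphisms): for an R-linear g : M → N, if S ⊗ g is injective then so is g, and if S ⊗ g is
surjective then so is g. -/
theorem result {R S : Type u} [CommRing R] [CommRing S] [Algebra R S] (hS : CAlgX.UniversallyInjective R (Algebra.linearMap R S)) {M N : Type u} [AddCommGroup M] [Module R M] [AddCommGroup N] [Module R N] (g : M →ₗ[R] N) : (Function.Injective (g.lTensor S) → Function.Injective g) ∧ (Function.Surjective (g.lTensor S) → Function.Surjective g) := by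
  have hinj : ∀ (X : Type u) [AddCommGroup X] [Module R X] (x : X), (1 : S) ⊗ₜ[R] x = 0 → x = 0 := by
    intro X _ _ x hx
    have h1 : ((1 : R) ⊗ₜ[R] x) = 0 := hS X (by simpa using hx)
    simpa using congrArg (TensorProduct.lid R X) h1
  refine ⟨fun h => (injective_iff_map_eq_zero g).mpr fun m hm => hinj M m (h ?_), fun h => ?_⟩
  · simp [hm]
  · rw [← LinearMap.range_eq_top, ← Submodule.ker_mkQ (LinearMap.range g), LinearMap.ker_eq_top]
    refine LinearMap.ext fun n => hinj _ _ ?_
    obtain ⟨t, ht⟩ := h ((1 : S) ⊗ₜ n)
    have h2 := congrArg ((LinearMap.range g).mkQ.lTensor S) ht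
    rw [← LinearMap.lTensor_comp_apply, LinearMap.range_mkQ_comp, LinearMap.lTensor_zero] at h2
    simpa using h2.symm

end Groth.Agent.S6268
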