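import Groth.Statements.S6270
import Mathlib.RingTheory.Flat.Equalizer
import Mathlib.RingTheory.Idempotents
import Mathlib.Algebra.Module.Projective
import Mathlib.LinearAlgebra.TensorProduct.Quotient
import Mathlib.LinearAlgebra.TensorProduct.Tower

set_option autoImplicit false
universe u
open scoped TensorProduct
open CAlg

namespace Groth.Agent.S6270

lemma exists_idempotent_near {A : Type u} [Ring A] (e₀ : A) (h : IsNilpotent (e₀ * e₀ - e₀)) :
    ∃ e : A, IsIdempotentElem e ∧ ∃ c : A, e = e₀ + c * (e₀ * e₀ - e₀) := by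
  let P : Polynomial ℤ := Polynomial.X ^ 2 - Polynomial.X
  let φ := Polynomial.aeval (R := ℤ) e₀
  obtain ⟨k', hk'⟩ := h
  obtain ⟨k, hk0, hk⟩ : ∃ k, k ≠ 0 ∧ (e₀ * e₀ - e₀) ^ k = 0 := ⟨k' + 1, Nat.succ_ne_zero _, by rw [pow_succ, hk', zero_mul]⟩
  have hP : φ P = e₀ * e₀ - e₀ := by simp [φ, P, sq]
  let J : Ideal (Polynomial ℤ) := Ideal.span {P ^ k}
  let ψ : (Polynomial ℤ ⧸ J) →+* A := Ideal.Quotient.lift J φ.toRingHom fun a ha => by
    obtain ⟨b, rfl⟩ := Ideal.mem_span_singleton.1 ha
    change φ (P ^ k * b) = 0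
    rw [map_mul, map_pow, hP, hk, zero_mul]
  have hle : J ≤ Ideal.span {P} := Ideal.span_singleton_le_span_singleton.2 (dvd_pow_self P hk0)
  let g := Ideal.Quotient.factor hle
  obtain ⟨e, he, hge⟩ := exists_isIdempotentElem_eq_of_ker_isNilpotent g (fun x hx => by
    obtain ⟨a, rfl⟩ := Ideal.Quotient.mk_surjective x
    rw [RingHom.mem_ker, Ideal.Quotient.factor_mk, Ideal.Quotient.eq_zero_iff_mem, Ideal.mem_span_singleton] at hx
    obtain ⟨b, rfl⟩ := hx
    refine ⟨k, ?_⟩
    rw [← map_pow, Ideal.Quotient.eq_zero_iff_mem, mul_pow]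
    exact Ideal.mem_span_singleton.2 (dvd_mul_right _ _)) (Ideal.Quotient.mk _ Polynomial.X)
    ⟨Ideal.Quotient.mk J Polynomial.X, rfl⟩ (by
      rw [IsIdempotentElem, ← map_mul, Ideal.Quotient.eq, Ideal.mem_span_singleton]
      exact dvd_of_eq (by simp [P, sq]))
  obtain ⟨a, rfl⟩ := Ideal.Quotient.mk_surjective e
  rw [Ideal.Quotient.factor_mk, Ideal.Quotient.eq, Ideal.mem_span_singleton] at hge
  obtain ⟨b, hb⟩ := hge
  refine ⟨φ a, ?_, φ b, ?_⟩
  · have := he.map ψ
    simpa [ψ] using this
  · rw [show a = Polynomial.X + b * P by rw [mul_comm b P, ← hb]; ring, map_add, map_mul, hP]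
    simp [φ]

/-- Let R be a ring, I ⊆ R a nilpotent ideal and M an R-module. If M is flat over R and M/IM (that is,
R/I ⊗ M) is a projective R/I-module, then M is a projective R-module. -/
theorem result {R : Type u} [CommRing R] (I : Ideal R) (hI : IsNilpotent I) (M : Type u) [AddCommGroup M] [Module R M] [Module.Flat R M] (hproj : Module.Projective (R ⧸ I) ((R ⧸ I) ⊗[R] M)) : Module.Projective R M := by
  obtain ⟨k, hk⟩ := hI
  haveI := hproj
  let B := R ⧸ I
  let π : (M →₀ R) →ₗ[R] M := Finsupp.linearCombination R id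
  have hπ : Function.Surjective π := fun m => ⟨Finsupp.single m 1, by simp [π]⟩
  obtain ⟨s, hs⟩ := Module.projective_lifting_property (π.baseChange B) LinearMap.id
    (LinearMap.lTensor_surjective B hπ)
  let u : (M →₀ R) →ₗ[R] B ⊗[R] (M →₀ R) := TensorProduct.mk R B (M →₀ R) 1
  have hu : Function.Surjective u := TensorProduct.mk_surjective R _ _ Ideal.Quotient.mk_surjective
  let ē := s ∘ₗ π.baseChange B
  obtain ⟨e₀, he₀⟩ := Module.projective_lifting_property u ((ē.restrictScalars R) ∘ₗ u) hu
  have hmem : ∀ {X : Type u} [AddCommGroup X] [Module R X] (y : X), (1 : B) ⊗ₜ[R] y = 0 → y ∈ (I • ⊤ : Submodule R X) :=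
    fun {X} _ _ y hy => by
      rwa [← (TensorProduct.quotTensorEquivQuotSMul X I).map_eq_zero_iff,
        show (1 : B) = Ideal.Quotient.mk I 1 from rfl, TensorProduct.quotTensorEquivQuotSMul_mk_tmul, one_smul,
        Submodule.Quotient.mk_eq_zero] at hy
  have hee : ∀ z, ē (ē z) = ē z := fun z => congrArg s (LinearMap.congr_fun hs (π.baseChange B z))
  have hue : ∀ v, u (e₀ v) = ē (u v) := fun v => LinearMap.congr_fun he₀ v
  let d : (M →₀ R) →ₗ[R] (M →₀ R) := e₀ * e₀ - e₀
  have hd : ∀ v, d v ∈ (I • ⊤ : Submodule R (M →₀ R)) := fun v => hmem _ (by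
    change u (e₀ (e₀ v) - e₀ v) = 0
    rw [map_sub, hue, hue, hee, sub_self])
  have hdn : d ^ k = 0 := by
    have h : ∀ j v, (d ^ j) v ∈ (I ^ j • ⊤ : Submodule R (M →₀ R)) := fun j => by
      induction j with
      | zero => simp
      | succ j ih =>
        intro v
        rw [show (d ^ (j + 1)) v = d ((d ^ j) v) by rw [pow_succ']; rfl, pow_succ, Submodule.mul_smul]
        refine Submodule.smul_induction_on (p := fun w => d w ∈ (I ^ j • (I • ⊤) : Submodule R (M →₀ R))) (ih v)
          (fun a ha w _ => by rw [map_smul]; exact Submodule.smul_mem_smul ha (hd w))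
          (fun a b ha hb => by rw [map_add]; exact add_mem ha hb)
    refine LinearMap.ext fun v => ?_
    simpa [hk] using h k v
  obtain ⟨e, he1, c, hc⟩ := exists_idempotent_near e₀ (show IsNilpotent (e₀ * e₀ - e₀) from ⟨k, hdn⟩)
  have hue' : ∀ v, u (e v) = ē (u v) := fun v => by
    have hcd : u (c (d v)) = 0 := by
      refine Submodule.smul_induction_on (p := fun w => u (c w) = 0) (hd v) (fun a ha w _ => ?_)
        (fun a b ha hb => by rw [map_add, map_add, ha, hb, add_zero])
      rw [map_smul, map_smul]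
      change a • ((1 : B) ⊗ₜ[R] c w) = 0
      rw [TensorProduct.smul_tmul', Algebra.smul_def, Ideal.Quotient.algebraMap_eq, Ideal.Quotient.eq_zero_iff_mem.2 ha,
        zero_mul, TensorProduct.zero_tmul]
    have : e v = e₀ v + c (d v) := by rw [hc]; rfl
    rw [this, map_add, hcd, add_zero, hue]
  let P := LinearMap.range e
  haveI : Module.Projective R P := Module.Projective.of_split P.subtype e.rangeRestrict
    (LinearMap.ext fun ⟨x, y, hy⟩ => Subtype.ext (by
      subst hy
      exact LinearMap.congr_fun he1 y))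
  letI : AddCommGroup P := Submodule.addCommGroup _
  let q : P →ₗ[R] M := π ∘ₗ P.subtype
  have hnak : ∀ {X : Type u} [AddCommGroup X] [Module R X], (⊤ : Submodule R X) ≤ I • ⊤ → Subsingleton X := fun {X} _ _ h => by
    have h1 : ∀ j, (⊤ : Submodule R X) ≤ I ^ j • ⊤ := fun j => by
      induction j with
      | zero => simp
      | succ j ih => rw [pow_succ, Submodule.mul_smul]; exact ih.trans (Submodule.smul_mono le_rfl h)
    have h2 := h1 k
    rw [hk, Ideal.zero_eq_bot, Submodule.bot_smul] at h2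
    exact (Submodule.subsingleton_iff R).1 (subsingleton_of_bot_eq_top (le_bot_iff.1 h2).symm)
  have hπu : ∀ v, (1 : B) ⊗ₜ[R] π v = π.baseChange B (u v) := fun v => rfl
  have hq : Function.Surjective q := by
    rw [← LinearMap.range_eq_top]
    refine Submodule.Quotient.subsingleton_iff.1 (hnak fun x _ => ?_)
    obtain ⟨m, rfl⟩ := Submodule.mkQ_surjective _ x
    obtain ⟨v, rfl⟩ := hπ m
    have h1 : π v - π (e v) ∈ (I • ⊤ : Submodule R M) := hmem _ (by
      rw [TensorProduct.tmul_sub, hπu, hπu, hue']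
      change π.baseChange B (u v) - π.baseChange B (s (π.baseChange B (u v))) = 0
      rw [show π.baseChange B (s (π.baseChange B (u v))) = π.baseChange B (u v) from LinearMap.congr_fun hs _, sub_self])
    have h2 := Submodule.mem_map_of_mem (f := (LinearMap.range q).mkQ) h1
    rw [Submodule.map_smul'', map_sub, Submodule.map_top, Submodule.range_mkQ,
      show (LinearMap.range q).mkQ (π (e v)) = 0 from (Submodule.Quotient.mk_eq_zero _).2 ⟨⟨e v, v, rfl⟩, rfl⟩, sub_zero] at h2
    exact h2
  have hker : Subsingleton (LinearMap.ker q) := hnak fun y _ => hmem y (by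
    have h1 : (1 : B) ⊗ₜ[R] (y.1.1 : M →₀ R) = 0 := by
      obtain ⟨v, hv⟩ := y.1.2
      have h2 : u (y.1.1) = ē (u y.1.1) := by
        rw [← hue', ← hv]
        exact congrArg u (LinearMap.congr_fun he1 v).symm
      change u y.1.1 = 0
      rw [h2]
      change s (π.baseChange B (u y.1.1)) = 0
      rw [← hπu, show π y.1.1 = 0 from y.2, TensorProduct.tmul_zero, map_zero]
    have hP : Function.Injective (P.subtype.lTensor B) := fun a b hab => by
      have hsec : e.rangeRestrict ∘ₗ P.subtype = LinearMap.id := LinearMap.ext fun ⟨x, w, hw⟩ => Subtype.ext (by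
        subst hw
        exact LinearMap.congr_fun he1 w)
      have := congrArg (e.rangeRestrict.lTensor B) hab
      rwa [← LinearMap.comp_apply, ← LinearMap.comp_apply, ← LinearMap.lTensor_comp, hsec, LinearMap.lTensor_id] at this
    have hy : (1 : B) ⊗ₜ[R] y.1 = 0 := hP (by rw [LinearMap.lTensor_tmul, map_zero]; exact h1)
    refine LinearMap.lTensor_injective_of_exact_of_flat q hq (LinearMap.ker q).subtype (Submodule.injective_subtype _)
      (LinearMap.exact_subtype_ker_map q) B ?_
    rw [LinearMap.lTensor_tmul, map_zero]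
    exact hy)
  exact Module.Projective.of_equiv (LinearEquiv.ofBijective q ⟨LinearMap.ker_eq_bot.1 Submodule.eq_bot_of_subsingleton, hq⟩)

end Groth.Agent.S6270
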