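import Groth.Statements.S6272
import Mathlib.RingTheory.TensorProduct.Maps
import Mathlib.Algebra.Module.Torsion.Basic
import Mathlib.Algebra.Module.Projective
import Mathlib.RingTheory.Ideal.Maps
import Mathlib.LinearAlgebra.TensorProduct.Tower
import Mathlib.RingTheory.Ideal.Quotient.Operations

set_option autoImplicit false
universe u
open scoped TensorProduct
open CAlg

namespace Groth.Agent.S6272

open TensorProduct in
theorem exists_lift {R : Type u} [CommRing R] (I : Ideal R) (P : Type u) [AddCommGroup P] [Module R P]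
    (hI : Module.Projective (R ⧸ I) ((R ⧸ I) ⊗[R] P)) {G H : Type u} [AddCommGroup G] [Module R G] [AddCommGroup H]
    [Module R H] (hG : Module.IsTorsionBySet R G I) (h : G →ₗ[R] H) (hh : Function.Surjective h) (g : P →ₗ[R] H) :
    ∃ a : P →ₗ[R] G, h ∘ₗ a = g := by
  have hH : Module.IsTorsionBySet R H I := fun x r => by
    obtain ⟨y, rfl⟩ := hh x
    rw [← map_smul, @hG y r, map_zero]
  letI := hG.module
  letI := hH.module
  haveI : IsScalarTower R (R ⧸ I) G := hG.isScalarTower
  haveI : IsScalarTower R (R ⧸ I) H := hH.isScalarTower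
  obtain ⟨l, hl⟩ := Module.projective_lifting_property
    (h.extendScalarsOfSurjective Ideal.Quotient.mk_surjective) (g.liftBaseChange (R ⧸ I)) hh
  refine ⟨l.restrictScalars R ∘ₗ TensorProduct.mk R (R ⧸ I) P 1, LinearMap.ext fun x => ?_⟩
  exact (LinearMap.congr_fun hl (1 ⊗ₜ x)).trans (by simp)

/-- Over a ring R, take two ideals I and J meeting in zero (I ∩ J = 0) and an R-module P. If the
R/I-module P/IP (that is, R/I ⊗ P) and the R/J-module P/JP (that is, R/J ⊗ P) are both projective,
then P itself is projective over R. -/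
theorem result {R : Type u} [CommRing R] (I J : Ideal R) (hIJ : I ⊓ J = ⊥) (P : Type u) [AddCommGroup P] [Module R P] (hI : Module.Projective (R ⧸ I) ((R ⧸ I) ⊗[R] P)) (hJ : Module.Projective (R ⧸ J) ((R ⧸ J) ⊗[R] P)) : Module.Projective R P := by
  classical
  let F := P →₀ R
  let π : F →ₗ[R] P := Finsupp.linearCombination R (fun p : P => p)
  have hπ : Function.Surjective π := fun x => ⟨Finsupp.single x 1, (Finsupp.linearCombination_single R (1 : R) x).trans (one_smul R x)⟩
  let K : Ideal R := I ⊔ J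
  let qF : ∀ L : Ideal R, F →ₗ[R] F ⧸ (L • ⊤ : Submodule R F) := fun L => Submodule.mkQ _
  let qP : ∀ L : Ideal R, P →ₗ[R] P ⧸ (L • ⊤ : Submodule R P) := fun L => Submodule.mkQ _
  let πL : ∀ L : Ideal R, (F ⧸ (L • ⊤ : Submodule R F)) →ₗ[R] (P ⧸ (L • ⊤ : Submodule R P)) := fun L =>
    Submodule.mapQ _ _ π (Submodule.smul_top_le_comap_smul_top L π)
  have hkill : ∀ L : Ideal R, Module.IsTorsionBySet R (F ⧸ (L • ⊤ : Submodule R F)) L := by
    intro L x r
    obtain ⟨f, rfl⟩ := Submodule.mkQ_surjective _ x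
    rw [Submodule.mkQ_apply, ← Submodule.Quotient.mk_smul, Submodule.Quotient.mk_eq_zero]
    exact Submodule.smul_mem_smul r.2 Submodule.mem_top
  obtain ⟨a, ha⟩ := exists_lift I P hI (hkill I) (πL I) (fun x => by
    obtain ⟨y, rfl⟩ := Submodule.mkQ_surjective _ x
    obtain ⟨f, rfl⟩ := hπ y
    exact ⟨qF I f, rfl⟩) (qP I)
  let redI : (F ⧸ (I • ⊤ : Submodule R F)) →ₗ[R] (F ⧸ (K • ⊤ : Submodule R F)) :=
    Submodule.mapQ _ _ LinearMap.id (Submodule.smul_mono_left le_sup_left)
  let redJ : (F ⧸ (J • ⊤ : Submodule R F)) →ₗ[R] (F ⧸ (K • ⊤ : Submodule R F)) :=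
    Submodule.mapQ _ _ LinearMap.id (Submodule.smul_mono_left le_sup_right)
  let h2 := redJ.prod (πL J)
  let g2 := (redI ∘ₗ a).prod (qP J)
  have hg2 : ∀ x, g2 x ∈ LinearMap.range h2 := by
    intro x
    obtain ⟨f, hf⟩ := Submodule.mkQ_surjective _ (a x)
    have h1 : π f - x ∈ (I • ⊤ : Submodule R P) := (Submodule.Quotient.eq _).1
      (show qP I (π f) = qP I x by
        have := LinearMap.congr_fun ha x
        rw [LinearMap.comp_apply, ← hf] at this
        exact this)
    rw [← (LinearMap.range_eq_top.2 hπ), ← Submodule.map_top, ← Submodule.map_smul''] at h1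
    obtain ⟨i, hi, hix⟩ := Submodule.mem_map.1 h1
    refine ⟨qF J (f - i), Prod.ext ?_ ?_⟩
    · change qF K (f - i) = redI (a x)
      rw [← hf]
      refine (Submodule.Quotient.eq _).2 ?_
      rw [LinearMap.id_apply, sub_sub_cancel_left]
      exact neg_mem (Submodule.smul_mono_left le_sup_left hi)
    · change qP J (π (f - i)) = qP J x
      rw [map_sub, hix, sub_sub_cancel]
  obtain ⟨b, hb⟩ := exists_lift J P hJ (hkill J) h2.rangeRestrict h2.surjective_rangeRestrict (g2.codRestrict _ hg2)
  have hb1 : ∀ x, redJ (b x) = redI (a x) ∧ πL J (b x) = qP J x := fun x => by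
    have := congrArg Subtype.val (LinearMap.congr_fun hb x)
    exact ⟨congrArg Prod.fst this, congrArg Prod.snd this⟩
  let e := (qF I).prod (qF J)
  have he : Function.Injective e := by
    rw [← LinearMap.ker_eq_bot, eq_bot_iff]
    intro z hz
    have h1 : z ∈ (I • ⊤ : Submodule R F) := (Submodule.Quotient.mk_eq_zero _).1 (congrArg Prod.fst (LinearMap.mem_ker.1 hz))
    have h2 : z ∈ (J • ⊤ : Submodule R F) := (Submodule.Quotient.mk_eq_zero _).1 (congrArg Prod.snd (LinearMap.mem_ker.1 hz))
    rw [Submodule.mem_bot]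
    refine Finsupp.ext fun p => ?_
    have k : ∀ L : Ideal R, z ∈ (L • ⊤ : Submodule R F) → z p ∈ L := fun L h => by
      have := Submodule.smul_top_le_comap_smul_top L (Finsupp.lapply p : F →ₗ[R] R) h
      rwa [Submodule.mem_comap, smul_eq_mul, Ideal.mul_top] at this
    have : z p ∈ I ⊓ J := ⟨k I h1, k J h2⟩
    rwa [hIJ, Submodule.mem_bot] at this
  have hr : ∀ x, (a.prod b) x ∈ LinearMap.range e := by
    intro x
    obtain ⟨f1, h1⟩ := Submodule.mkQ_surjective _ (a x)
    obtain ⟨f2, h2⟩ := Submodule.mkQ_surjective _ (b x)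
    have h := (hb1 x).1
    rw [← h1, ← h2] at h
    have h' : f2 - f1 ∈ (I • ⊤ ⊔ J • ⊤ : Submodule R F) := by
      rw [← Submodule.sup_smul]; exact (Submodule.Quotient.eq _).1 h
    obtain ⟨u, hu, v, hv, huv⟩ := Submodule.mem_sup.1 h'
    refine ⟨f1 + u, Prod.ext ?_ ?_⟩
    · change qF I (f1 + u) = a x
      rw [← h1]; exact (Submodule.Quotient.eq _).2 (by simpa using hu)
    · change qF J (f1 + u) = b x
      rw [← h2]; refine (Submodule.Quotient.eq _).2 ?_
      rw [show f1 + u - f2 = -v by rw [eq_sub_iff_add_eq] at huv; rw [← huv]; abel]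
      exact neg_mem hv
  let σ : P →ₗ[R] F := (LinearEquiv.ofInjective e he).symm.toLinearMap ∘ₗ (a.prod b).codRestrict _ hr
  have hσ : ∀ x, e (σ x) = (a x, b x) := fun x =>
    congrArg Subtype.val ((LinearEquiv.ofInjective e he).apply_symm_apply _)
  let ε : P →ₗ[R] P := π ∘ₗ σ - LinearMap.id
  have hεI : ∀ x, ε x ∈ (I • ⊤ : Submodule R P) := fun x => (Submodule.Quotient.eq _).1
    (show πL I (qF I (σ x)) = qP I x by
      rw [show qF I (σ x) = a x from congrArg Prod.fst (hσ x)]; exact LinearMap.congr_fun ha x)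
  have hεJ : ∀ x, ε x ∈ (J • ⊤ : Submodule R P) := fun x => (Submodule.Quotient.eq _).1
    (show πL J (qF J (σ x)) = qP J x by
      rw [show qF J (σ x) = b x from congrArg Prod.snd (hσ x)]; exact (hb1 x).2)
  have hεε : ∀ x, ε (ε x) = 0 := by
    intro x
    have h0 : ∀ y ∈ (I • ⊤ : Submodule R P), ε y = 0 := by
      intro y hy
      induction hy using Submodule.smul_induction_on' with
      | smul r hr n _ =>
        rw [map_smul]
        have hrJ : ∀ z ∈ (J • ⊤ : Submodule R P), r • z = 0 := by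
          intro z hz
          induction hz using Submodule.smul_induction_on' with
          | smul s hs m _ =>
            have : r * s ∈ I ⊓ J := ⟨I.mul_mem_right _ hr, J.mul_mem_left _ hs⟩
            rw [hIJ, Submodule.mem_bot] at this
            rw [smul_smul, this, zero_smul]
          | add _ _ _ _ h h' => rw [smul_add, h, h', add_zero]
        exact hrJ _ (hεJ n)
      | add _ _ _ _ h h' => rw [map_add, h, h', add_zero]
    exact h0 _ (hεI x)
  refine Module.Projective.of_split (σ ∘ₗ (LinearMap.id - ε)) π (LinearMap.ext fun x => ?_)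
  have k := hεε x
  have e1 : ∀ y, π (σ y) = y + ε y := fun y => by simp [ε]
  rw [LinearMap.comp_apply, LinearMap.comp_apply, e1]
  simp only [LinearMap.sub_apply, LinearMap.id_apply, map_sub, k]
  abel

end Groth.Agent.S6272
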