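import Groth.Statements.S6273
import Mathlib.RingTheory.Spectrum.Prime.Topology
import Mathlib.RingTheory.Localization.Basic

set_option autoImplicit false
universe u
open CAlg

namespace Groth.Agent.S6273

/-- Let R be a ring, S ⊆ R a multiplicative subset and A = S⁻¹R. If the image of Spec(A) → Spec(R) is
closed, then the localization map R → A is surjective; in particular A is isomorphic to R/I for the
ideal I = ker(R → A). -/
theorem result {R : Type u} [CommRing R] (S : Submonoid R) (A : Type u) [CommRing A] [Algebra R A] [IsLocalization S A] (hcl : IsClosed (Set.range (PrimeSpectrum.comap (algebraMap R A)))) : Function.Surjective (algebraMap R A) := by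
  have hr : Set.range (PrimeSpectrum.comap (algebraMap R A)) = PrimeSpectrum.zeroLocus (RingHom.ker (algebraMap R A) : Set R) := by
    rw [← PrimeSpectrum.closure_range_comap, hcl.closure_eq]
  have hu : ∀ s : S, ∃ r : R, algebraMap R A (r * s) = 1 := fun s => by
    by_contra hne
    have htop : Ideal.span {(s : R)} ⊔ RingHom.ker (algebraMap R A) ≠ ⊤ := fun htop => by
      obtain ⟨a, ha, b, hb, hab⟩ := Submodule.mem_sup.1 (show (1 : R) ∈ Ideal.span {(s : R)} ⊔ RingHom.ker (algebraMap R A) from htop ▸ Submodule.mem_top)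
      obtain ⟨r, rfl⟩ := Ideal.mem_span_singleton'.1 ha
      exact hne ⟨r, by rw [← map_one (algebraMap R A), ← hab, map_add, RingHom.mem_ker.1 hb, add_zero]⟩
    obtain ⟨M, hM, hle⟩ := Ideal.exists_le_maximal _ htop
    have hmem : (⟨M, hM.isPrime⟩ : PrimeSpectrum R) ∈ Set.range (PrimeSpectrum.comap (algebraMap R A)) := by
      rw [hr]
      exact fun x hx => hle (Ideal.mem_sup_right hx)
    obtain ⟨Q, hQ⟩ := hmem
    have hs : (s : R) ∈ (PrimeSpectrum.comap (algebraMap R A) Q).asIdeal := by
      rw [hQ]
      exact hle (Ideal.mem_sup_left (Ideal.mem_span_singleton_self _))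
    exact Q.isPrime.ne_top (Ideal.eq_top_of_isUnit_mem _ hs (IsLocalization.map_units A s))
  intro a
  obtain ⟨⟨b, s⟩, hb⟩ := IsLocalization.surj S a
  obtain ⟨r, hr'⟩ := hu s
  refine ⟨b * r, ?_⟩
  rw [map_mul, ← hb, mul_assoc, ← map_mul, mul_comm (s : R) r, hr', mul_one]

end Groth.Agent.S6273
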