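import Groth.Statements.S6275
import Mathlib.RingTheory.Noetherian.Basic
import Mathlib.RingTheory.Localization.AtPrime.Basic
import Mathlib.RingTheory.Localization.Away.Basic

set_option autoImplicit false
universe u
open CAlg

namespace Groth.Agent.S6275

/-- Let R be a Noetherian ring and p ⊆ R a prime. Then there is f ∈ R, f ∉ p, such that R_f → R_p is
injective; equivalently every x ∈ R mapping to zero in R_p maps to zero in R_f. (The cases of a
domain and of a reduced ring with finitely many minimal primes are not included here.) -/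
theorem result {R : Type u} [CommRing R] [IsNoetherianRing R] (p : Ideal R) [p.IsPrime] : ∃ f : R, f ∉ p ∧ ∀ x : R, algebraMap R (Localization.AtPrime p) x = 0 → algebraMap R (Localization.Away f) x = 0 := by
  classical
  obtain ⟨s, hs⟩ := IsNoetherian.noetherian (RingHom.ker (algebraMap R (Localization.AtPrime p)))
  have hk : ∀ x ∈ s, ∃ t : p.primeCompl, (t : R) * x = 0 := fun x hx => by
    have h0 : algebraMap R (Localization.AtPrime p) x = 0 :=
      (RingHom.mem_ker).1 (hs ▸ Submodule.subset_span hx)
    exact (IsLocalization.map_eq_zero_iff p.primeCompl _ x).1 h0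
  choose! t ht using hk
  let F : p.primeCompl := ∏ x ∈ s, t x
  refine ⟨F, F.2, fun x hx => ?_⟩
  have hmem : x ∈ Submodule.span R (s : Set R) := hs.symm ▸ RingHom.mem_ker.2 hx
  refine (IsLocalization.map_eq_zero_iff (Submonoid.powers (F : R)) _ x).2 ⟨⟨F, Submonoid.mem_powers _⟩, ?_⟩
  refine Submodule.span_induction (p := fun y _ => (F : R) * y = 0) (fun y hy => ?_) (mul_zero _)
    (fun a b _ _ ha hb => by rw [mul_add, ha, hb, add_zero]) (fun c a _ ha => by rw [smul_eq_mul, mul_left_comm, ha, mul_zero]) hmem
  change ((∏ z ∈ s, t z : p.primeCompl) : R) * y = 0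
  rw [← Finset.prod_erase_mul s t hy, Submonoid.coe_mul, mul_assoc, ht y hy, mul_zero]

end Groth.Agent.S6275
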