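import Groth.Statements.S6277
import Mathlib.RingTheory.Noetherian.Orzech
import Mathlib.Order.WellFounded

set_option autoImplicit false
universe u
open CAlg

namespace Groth.Agent.S6277

/-- Any surjective ring endomorphism of a Noetherian ring is an isomorphism (bijective). -/
theorem result {R : Type u} [CommRing R] [IsNoetherianRing R] (f : R →+* R) (hf : Function.Surjective f) : Function.Bijective f := by
  refine ⟨(RingHom.injective_iff_ker_eq_bot f).2 ?_, hf⟩
  let F : ℕ →o Ideal R := ⟨fun n => RingHom.ker (f ^ n), monotone_nat_of_le_succ fun n x hx => by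
    rw [RingHom.mem_ker] at hx ⊢
    rw [RingHom.coe_pow] at hx ⊢
    rw [Function.iterate_succ_apply', hx, map_zero]⟩
  obtain ⟨n, hn⟩ := monotone_stabilizes_iff_noetherian.2 inferInstance F
  rw [eq_bot_iff]
  intro x hx
  obtain ⟨y, rfl⟩ := hf.iterate n x
  have h1 : y ∈ F (n + 1) := by
    show y ∈ RingHom.ker (f ^ (n + 1))
    rw [RingHom.mem_ker, RingHom.coe_pow, Function.iterate_succ_apply']
    exact RingHom.mem_ker.1 hx
  rw [← hn (n + 1) (Nat.le_succ n)] at h1
  rw [Submodule.mem_bot, ← RingHom.coe_pow]
  exact RingHom.mem_ker.1 h1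

end Groth.Agent.S6277
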