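import Groth.Statements.S6278
import Mathlib
-- import your own Groth.Agent.* helpers here

set_option autoImplicit false
set_option backward.isDefEq.respectTransparency false
universe u
open CAlg

namespace Groth.Agent.S6278

/-- A normal ring R (all localizations at primes are integrally closed domains) is integrally closed in
its total ring of fractions. -/
theorem result (R : Type u) [CommRing R] (hR : EGA4.IsNormalRing R) : IsIntegrallyClosedIn R (FractionRing R) := by
  refine isIntegrallyClosedIn_iff.2 ⟨IsFractionRing.injective R (FractionRing R), fun {x} hx => ?_⟩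
  obtain ⟨a, s, rfl⟩ := IsLocalization.exists_mk'_eq (nonZeroDivisors R) x
  obtain ⟨p, hp, hpx⟩ := hx
  suffices h : a ∈ Ideal.span {(s : R)} by
    obtain ⟨c, hc⟩ := Ideal.mem_span_singleton.1 h
    refine ⟨c, ?_⟩
    rw [IsLocalization.eq_mk'_iff_mul_eq, hc, map_mul, mul_comm]
  refine Ideal.mem_of_localization_maximal fun P hP => ?_
  rw [Ideal.map_span, Set.image_singleton, Ideal.mem_span_singleton]
  obtain ⟨hd, hic⟩ := hR P
  let L := Localization.AtPrime P
  let K := FractionRing L
  have hs : algebraMap R L s ∈ nonZeroDivisors L :=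
    IsLocalization.map_nonZeroDivisors_le P.primeCompl L ⟨s, s.2, rfl⟩
  have hs0 : algebraMap L K (algebraMap R L s) ≠ 0 := fun h0 => nonZeroDivisors.ne_zero hs ((map_eq_zero_iff _ (IsFractionRing.injective L K)).1 h0)
  let g : FractionRing R →+* K := IsLocalization.lift (M := nonZeroDivisors R) (g := (algebraMap L K).comp (algebraMap R L))
    (fun y => by
      refine isUnit_iff_ne_zero.2 fun h0 => ?_
      exact nonZeroDivisors.ne_zero (IsLocalization.map_nonZeroDivisors_le P.primeCompl L ⟨y, y.2, rfl⟩)
        ((map_eq_zero_iff _ (IsFractionRing.injective L K)).1 h0))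
  have hg : g.comp (algebraMap R (FractionRing R)) = (algebraMap L K).comp (algebraMap R L) := IsLocalization.lift_comp _
  have hint : IsIntegral L (g (IsLocalization.mk' _ a s)) := by
    refine ⟨p.map (algebraMap R L), hp.map _, ?_⟩
    rw [Polynomial.eval₂_map, ← hg, ← Polynomial.hom_eval₂, hpx, map_zero]
  obtain ⟨y, hy⟩ := IsIntegrallyClosed.isIntegral_iff.1 hint
  refine ⟨y, IsFractionRing.injective L K ?_⟩
  rw [map_mul, hy]
  have := congrArg g (IsLocalization.mk'_spec (FractionRing R) a s)
  rw [map_mul, ← RingHom.comp_apply g, hg, ← RingHom.comp_apply g (algebraMap R (FractionRing R)) a, hg] at this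
  rw [RingHom.comp_apply, RingHom.comp_apply] at this
  rw [mul_comm]
  exact this.symm

end Groth.Agent.S6278
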