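import Groth.Statements.S6279
import Mathlib
-- import your own Groth.Agent.* helpers here

set_option autoImplicit false
set_option backward.isDefEq.respectTransparency false
universe u
open CAlg

open CategoryTheory CategoryTheory.Limits AlgebraicGeometry
namespace Groth.Agent.S6279

/-- A finite product of normal rings is normal (a ring is normal when every localization at a prime is
an integrally closed domain). -/
theorem result {ι : Type u} [Finite ι] (A : ι → Type u) [∀ i, CommRing (A i)] (hA : ∀ i, EGA4.IsNormalRing (A i)) : EGA4.IsNormalRing (∀ i, A i) := by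
  classical
  intro P hP
  obtain ⟨i, q, hq⟩ := PrimeSpectrum.exists_comap_evalRingHom_eq ⟨P, hP⟩
  obtain rfl : q.asIdeal.comap (Pi.evalRingHom A i) = P := congrArg PrimeSpectrum.asIdeal hq
  let φ := Localization.localRingHom (q.asIdeal.comap (Pi.evalRingHom A i)) q.asIdeal (Pi.evalRingHom A i) rfl
  have hb : Function.Bijective φ := by
    constructor
    · refine (injective_iff_map_eq_zero _).2 fun z hz => ?_
      obtain ⟨a, s, rfl⟩ := IsLocalization.exists_mk'_eq (q.asIdeal.comap (Pi.evalRingHom A i)).primeCompl z
      rw [Localization.localRingHom_mk', IsLocalization.mk'_eq_zero_iff] at hz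
      obtain ⟨c, hc⟩ := hz
      rw [IsLocalization.mk'_eq_zero_iff]
      refine ⟨⟨Pi.single i (c : A i), ?_⟩, funext fun j => ?_⟩
      · show Pi.single i (c : A i) i ∉ q.asIdeal
        rw [Pi.single_eq_same]; exact c.2
      · show Pi.single i (c : A i) j * a j = 0
        by_cases hj : j = i
        · subst hj; rw [Pi.single_eq_same]; exact hc
        · rw [Pi.single_eq_of_ne hj, zero_mul]
    · intro z
      obtain ⟨a, s, rfl⟩ := IsLocalization.exists_mk'_eq q.asIdeal.primeCompl z
      refine ⟨IsLocalization.mk' _ (Pi.single i a) (⟨Function.update 1 i (s : A i), ?_⟩ : (q.asIdeal.comap (Pi.evalRingHom A i)).primeCompl), ?_⟩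
      · show Function.update (1 : ∀ j, A j) i (s : A i) i ∉ q.asIdeal
        rw [Function.update_self]; exact s.2
      · rw [Localization.localRingHom_mk']
        congr 1
        · simp
        · exact Subtype.ext (by simp)
  obtain ⟨h1, h2⟩ := hA i q.asIdeal
  let e := RingEquiv.ofBijective φ hb
  exact ⟨e.toMulEquiv.isDomain _, IsIntegrallyClosed.of_equiv e.symm⟩

end Groth.Agent.S6279
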