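import Groth.Statements.S6281
import Mathlib.RingTheory.Flat.FaithfullyFlat.Basic
import Mathlib.RingTheory.Flat.Stability
import Mathlib.LinearAlgebra.TensorProduct.Tower

set_option autoImplicit false
universe u
open CAlg

namespace Groth.Agent.S6281

/-- For an R-algebra S and an S-module M, flatness of S over R follows once M is both flat over R and
faithfully flat over S. -/
theorem result {R S : Type u} [CommRing R] [CommRing S] [Algebra R S] (M : Type u) [AddCommGroup M] [Module S M] [Module R M] [IsScalarTower R S M] [Module.Flat R M] [Module.FaithfullyFlat S M] : Module.Flat R S := by
  rw [Module.Flat.iff_rTensor_preserves_injective_linearMap]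
  intro N N' _ _ _ _ L hL
  rw [← LinearMap.lTensor_inj_iff_rTensor_inj]
  let LS : TensorProduct R S N →ₗ[S] TensorProduct R S N' := TensorProduct.AlgebraTensorModule.map LinearMap.id L
  suffices Function.Injective LS by exact this
  rw [← Module.FaithfullyFlat.lTensor_injective_iff_injective S M]
  let e := TensorProduct.AlgebraTensorModule.cancelBaseChange R S S M N
  let e' := TensorProduct.AlgebraTensorModule.cancelBaseChange R S S M N'
  have hc : ∀ t, e' (LS.lTensor M t) = L.lTensor M (e t) := by
    intro t
    induction t using TensorProduct.induction_on with
    | zero => simp
    | add a b ha hb => simp [ha, hb]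
    | tmul m u =>
      induction u using TensorProduct.induction_on with
      | zero => simp
      | add a b ha hb => simp only [TensorProduct.tmul_add, map_add, ha, hb]
      | tmul s x => simp [e, e', LS]
  intro a b hab
  apply e.injective
  apply Module.Flat.lTensor_preserves_injective_linearMap (M := M) L hL
  rw [← hc, ← hc, hab]

end Groth.Agent.S6281
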