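import Groth.Statements.S6282
import Mathlib.RingTheory.Flat.FaithfullyFlat.Basic
import Mathlib.RingTheory.Flat.Stability
import Mathlib.LinearAlgebra.TensorProduct.Tower

set_option autoImplicit false
universe u
open scoped TensorProduct
open CAlg

namespace Groth.Agent.S6282

/-- Let S → S' be a homomorphism of R-algebras, M an S-module, and M' = S' ⊗_S M with its induced
R-module structure. (1) When S' is flat over S, R-flatness of M passes to M'. (2) When S' is
faithfully flat over S, M is R-flat exactly when M' is. -/
theorem result {R S S' : Type u} [CommRing R] [CommRing S] [CommRing S'] [Algebra R S] [Algebra R S'] [Algebra S S'] [IsScalarTower R S S'] (M : Type u) [AddCommGroup M] [Module S M] [Module R M] [IsScalarTower R S M] : ([Module.Flat S S'] → Module.Flat R M → Module.Flat R (S' ⊗[S] M)) ∧ ([Module.FaithfullyFlat S S'] → (Module.Flat R M ↔ Module.Flat R (S' ⊗[S] M))) := by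
  have key : ∀ {N N' : Type u} [AddCommGroup N] [Module R N] [AddCommGroup N'] [Module R N']
      (L : N →ₗ[R] N') (t : TensorProduct R (TensorProduct S S' M) N),
      TensorProduct.AlgebraTensorModule.assoc R S S S' M N' (L.lTensor (TensorProduct S S' M) t) =
      (TensorProduct.AlgebraTensorModule.map LinearMap.id L :
        TensorProduct R M N →ₗ[S] TensorProduct R M N').lTensor S'
        (TensorProduct.AlgebraTensorModule.assoc R S S S' M N t) := by
    intro N N' _ _ _ _ L t
    induction t using TensorProduct.induction_on with
    | zero => simp
    | add a b ha hb => simp only [map_add, ha, hb]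
    | tmul u x =>
      induction u using TensorProduct.induction_on with
      | zero => simp
      | add a b ha hb => simp only [TensorProduct.add_tmul, map_add, ha, hb]
      | tmul s m => simp
  have fwd : Module.Flat S S' → Module.Flat R M → Module.Flat R (TensorProduct S S' M) := by
    intro _ _
    rw [Module.Flat.iff_lTensor_preserves_injective_linearMap]
    intro N N' _ _ _ _ L hL a b hab
    apply (TensorProduct.AlgebraTensorModule.assoc R S S S' M N).injective
    apply Module.Flat.lTensor_preserves_injective_linearMap (M := S')
      (TensorProduct.AlgebraTensorModule.map LinearMap.id L : TensorProduct R M N →ₗ[S] _)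
      (Module.Flat.lTensor_preserves_injective_linearMap (M := M) L hL)
    rw [← key, ← key, hab]
  refine ⟨fun [Module.Flat S S'] h => fwd inferInstance h,
    fun [Module.FaithfullyFlat S S'] => ⟨fwd inferInstance, fun _ => ?_⟩⟩
  rw [Module.Flat.iff_lTensor_preserves_injective_linearMap]
  intro N N' _ _ _ _ L hL
  suffices Function.Injective
      (TensorProduct.AlgebraTensorModule.map LinearMap.id L : TensorProduct R M N →ₗ[S] TensorProduct R M N') from this
  rw [← Module.FaithfullyFlat.lTensor_injective_iff_injective S S']
  intro a b hab
  obtain ⟨a', rfl⟩ := (TensorProduct.AlgebraTensorModule.assoc R S S S' M N).surjective a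
  obtain ⟨b', rfl⟩ := (TensorProduct.AlgebraTensorModule.assoc R S S S' M N).surjective b
  congr 1
  apply Module.Flat.lTensor_preserves_injective_linearMap (M := TensorProduct S S' M) L hL
  apply (TensorProduct.AlgebraTensorModule.assoc R S S S' M N').injective
  rw [key, key, hab]

end Groth.Agent.S6282
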