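import Groth.Statements.S6283
import Mathlib.RingTheory.Flat.Basic
import Mathlib.RingTheory.Ideal.Maps
import Mathlib.LinearAlgebra.TensorProduct.Quotient
import Mathlib.LinearAlgebra.TensorProduct.Pi

set_option autoImplicit false
universe u
open scoped TensorProduct
open CAlg

namespace Groth.Agent.S6283

lemma map_ker_eq {R S : Type u} [CommRing R] [CommRing S] [Algebra R S] [Module.Flat R S] {N : Type u} [AddCommGroup N] [Module R N]
    (f : R →ₗ[R] N) {J : Ideal R} (hJ : J = LinearMap.ker f) :
    J.map (algebraMap R S) = LinearMap.ker (LinearMap.toSpanSingleton S (S ⊗[R] N) ((1 : S) ⊗ₜ[R] f 1)) := by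
  subst hJ
  let ι : (R ⧸ LinearMap.ker f) →ₗ[R] N := Submodule.liftQ _ f le_rfl
  have hι : Function.Injective ι := LinearMap.ker_eq_bot.1 (Submodule.ker_liftQ_eq_bot _ _ _ le_rfl)
  have hS := Module.Flat.lTensor_preserves_injective_linearMap (M := S) ι hι
  ext s
  rw [LinearMap.mem_ker, LinearMap.toSpanSingleton_apply, TensorProduct.smul_tmul', smul_eq_mul, mul_one,
    show s ⊗ₜ[R] f 1 = ι.lTensor S (s ⊗ₜ[R] Ideal.Quotient.mk (LinearMap.ker f) 1) from (LinearMap.lTensor_tmul _ _ _ _).symm,
    map_eq_zero_iff _ hS, ← (TensorProduct.tensorQuotEquivQuotSMul S (LinearMap.ker f)).map_eq_zero_iff,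
    TensorProduct.tensorQuotEquivQuotSMul_tmul_mk, one_smul, Submodule.Quotient.mk_eq_zero, Ideal.smul_top_eq_map]
  rfl

/-- Let R → S be a flat ring map, M an R-module and m ∈ M. Then Ann_R(m)S = Ann_S(1 ⊗ m), the
annihilator in S of the element 1 ⊗ m of S ⊗_R M. If moreover M is a finite R-module then Ann_R(M)S
= Ann_S(S ⊗_R M). -/
theorem result {R S : Type u} [CommRing R] [CommRing S] [Algebra R S] [Module.Flat R S] (M : Type u) [AddCommGroup M] [Module R M] : (∀ m : M, ((Submodule.span R {m}).annihilator).map (algebraMap R S) = (Submodule.span S {(1 : S) ⊗ₜ[R] m}).annihilator) ∧ (Module.Finite R M → (Module.annihilator R M).map (algebraMap R S) = Module.annihilator S (S ⊗[R] M)) := by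
  refine ⟨fun m => ?_, fun hM => ?_⟩
  · rw [map_ker_eq (LinearMap.toSpanSingleton R M m)]
    rotate_left
    · ext r
      simp [Submodule.mem_annihilator_span_singleton]
    ext s
    rw [Submodule.mem_annihilator_span_singleton]
    simp [TensorProduct.smul_tmul']
  · obtain ⟨k, g, hg⟩ := Module.Finite.exists_fin' R M
    rw [map_ker_eq (LinearMap.pi fun i : Fin k => LinearMap.toSpanSingleton R M (g (Pi.single i 1)))]
    rotate_left
    · ext r
      rw [Module.mem_annihilator, LinearMap.mem_ker]
      refine ⟨fun h => funext fun i => h _, fun h v => ?_⟩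
      obtain ⟨w, rfl⟩ := hg v
      rw [pi_eq_sum_univ' w, map_sum, Finset.smul_sum]
      refine Finset.sum_eq_zero fun i _ => ?_
      rw [map_smul, smul_comm]
      have : r • g (Pi.single i 1) = 0 := congrFun h i
      rw [this, smul_zero]
    ext s
    rw [Module.mem_annihilator]
    constructor
    · intro h v
      rw [LinearMap.mem_ker, LinearMap.toSpanSingleton_apply, TensorProduct.smul_tmul', smul_eq_mul, mul_one] at h
      have h' : ∀ i, s ⊗ₜ[R] g (Pi.single i 1) = 0 := fun i => by
        have := congrArg (fun z => TensorProduct.piRight R R S (fun _ : Fin k => M) z i) h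
        simpa using this
      induction v using TensorProduct.induction_on with
      | zero => simp
      | add a b ha hb => rw [smul_add, ha, hb, add_zero]
      | tmul t v =>
        obtain ⟨w, rfl⟩ := hg v
        rw [pi_eq_sum_univ' w, map_sum, TensorProduct.tmul_sum, Finset.smul_sum]
        refine Finset.sum_eq_zero fun i _ => ?_
        rw [map_smul, TensorProduct.tmul_smul, smul_comm, TensorProduct.smul_tmul', smul_eq_mul, mul_comm s t,
          ← smul_eq_mul, ← TensorProduct.smul_tmul', h', smul_zero, smul_zero]
    · intro h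
      rw [LinearMap.mem_ker, LinearMap.toSpanSingleton_apply, TensorProduct.smul_tmul', smul_eq_mul, mul_one]
      apply (TensorProduct.piRight R R S fun _ : Fin k => M).injective
      ext i
      have := h ((1 : S) ⊗ₜ g (Pi.single i 1))
      simpa [TensorProduct.smul_tmul'] using this

end Groth.Agent.S6283
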