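import Groth.Statements.S6287
import Mathlib
-- import your own Groth.Agent.* helpers here

set_option autoImplicit false
set_option backward.isDefEq.respectTransparency false
universe u
open CAlg

open CategoryTheory CategoryTheory.Limits AlgebraicGeometry
namespace Groth.Agent.S6287

/-- Let (A_i) be a directed system of valuation rings. Then the colimit A = colim A_i is a valuation
ring (in particular a domain). -/
theorem result {ι : Type u} [Preorder ι] [Nonempty ι] [IsDirected ι (· ≤ ·)] (G : ι → Type u) [∀ i, CommRing (G i)] [∀ i, IsDomain (G i)] [∀ i, ValuationRing (G i)] (f : ∀ i j, i ≤ j → G i →+* G j) [DirectedSystem G fun i j h => f i j h] : ∃ _ : IsDomain (Ring.DirectLimit G fun i j h => f i j h), ValuationRing (Ring.DirectLimit G fun i j h => f i j h) := by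
  let L := Ring.DirectLimit G fun i j h => f i j h
  have hf : ∀ {i j} (h : i ≤ j) (x : G i), Ring.DirectLimit.of G (fun i j h => f i j h) j (f i j h x) =
      Ring.DirectLimit.of G (fun i j h => f i j h) i x := fun h x => Ring.DirectLimit.of_f h x
  haveI : Nontrivial L := ⟨⟨0, 1, fun h => by
    obtain ⟨j, hij, hj⟩ := Ring.DirectLimit.of.zero_exact (G := G) (f' := f) (i := Classical.arbitrary ι) (x := 1) (by rw [map_one]; exact h.symm)
    rw [map_one] at hj
    exact one_ne_zero hj⟩⟩
  haveI : NoZeroDivisors L := ⟨fun {a b} hab => by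
    obtain ⟨i, x, rfl⟩ := Ring.DirectLimit.exists_of a
    obtain ⟨j, y, rfl⟩ := Ring.DirectLimit.exists_of b
    obtain ⟨k, hik, hjk⟩ := exists_ge_ge i j
    rw [← hf hik x, ← hf hjk y, ← map_mul] at hab
    obtain ⟨l, hkl, hl⟩ := Ring.DirectLimit.of.zero_exact hab
    rw [map_mul, mul_eq_zero] at hl
    rcases hl with h | h
    · exact Or.inl (by rw [← hf hik x, ← hf hkl, h, map_zero])
    · exact Or.inr (by rw [← hf hjk y, ← hf hkl, h, map_zero])⟩
  haveI hd : IsDomain L := NoZeroDivisors.to_isDomain _
  suffices h : PreValuationRing L from ⟨hd, { toPreValuationRing := h }⟩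
  refine ⟨fun a b => ?_⟩
  obtain ⟨i, x, rfl⟩ := Ring.DirectLimit.exists_of a
  obtain ⟨j, y, rfl⟩ := Ring.DirectLimit.exists_of b
  obtain ⟨k, hik, hjk⟩ := exists_ge_ge i j
  obtain ⟨c, hc | hc⟩ := ValuationRing.cond (f i k hik x) (f j k hjk y)
  · exact ⟨Ring.DirectLimit.of G (fun i j h => f i j h) k c, Or.inl (by rw [← hf hik x, ← map_mul, hc, hf hjk y])⟩
  · exact ⟨Ring.DirectLimit.of G (fun i j h => f i j h) k c, Or.inr (by rw [← hf hjk y, ← map_mul, hc, hf hik x])⟩

end Groth.Agent.S6287
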