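import Groth.Statements.S6289
import Mathlib.RingTheory.Valuation.ValuationSubring
import Mathlib.RingTheory.LocalRing.ResidueField.Basic

set_option autoImplicit false
universe u
open CAlg

namespace Groth.Agent.S6289

/-- Let A' be a valuation ring with residue field K and A ⊆ K a valuation ring with fraction field K.
Then the subring C of A' consisting of the elements whose residue class lies in A is a valuation
ring. -/
theorem result (A' : Type u) [CommRing A'] [IsDomain A'] [ValuationRing A'] (A : ValuationSubring (IsLocalRing.ResidueField A')) : ValuationRing (A.toSubring.comap (IsLocalRing.residue A')) := by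
  rw [ValuationRing.iff_dvd_total]
  constructor
  rintro ⟨x, hx⟩ ⟨y, hy⟩
  suffices key : ∀ (x y z : A') (hx : IsLocalRing.residue A' x ∈ A) (hy : IsLocalRing.residue A' y ∈ A), x * z = y →
      (⟨x, hx⟩ : A.toSubring.comap (IsLocalRing.residue A')) ∣ ⟨y, hy⟩ ∨
      (⟨y, hy⟩ : A.toSubring.comap (IsLocalRing.residue A')) ∣ ⟨x, hx⟩ by
    obtain ⟨z, h | h⟩ := ValuationRing.cond x y
    · exact key x y z hx hy h
    · exact (key y x z hy hx h).symm
  intro x y z hx hy h
  by_cases hz : IsLocalRing.residue A' z ∈ A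
  · exact Or.inl ⟨⟨z, hz⟩, Subtype.ext h.symm⟩
  · obtain ⟨w, hw⟩ : IsUnit z := by
      by_contra hu
      exact hz (by rw [(IsLocalRing.residue_eq_zero_iff z).2 hu]; exact zero_mem A)
    refine Or.inr ⟨⟨↑w⁻¹, ?_⟩, Subtype.ext ?_⟩
    · change IsLocalRing.residue A' ↑w⁻¹ ∈ A
      rw [show IsLocalRing.residue A' ↑w⁻¹ = (IsLocalRing.residue A' z)⁻¹ from
        eq_inv_of_mul_eq_one_left (by rw [← map_mul, ← hw, Units.inv_mul, map_one])]
      exact (A.mem_or_inv_mem _).resolve_left hz
    · change x = y * ↑w⁻¹
      rw [← h, ← hw, mul_assoc, Units.mul_inv, mul_one]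

end Groth.Agent.S6289
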