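import Groth.Statements.S6290
import Mathlib.RingTheory.Filtration

set_option autoImplicit false
universe u
open CAlg

namespace Groth.Agent.S6290

/-- Let R be a Noetherian ring, I ⊆ R an ideal, M a finite R-module and N = ⋂ₙ IⁿM. Then for every prime
p ⊇ I there is f ∈ R, f ∉ p, with N_f = 0, i.e. every element of N is annihilated by some power of
f. -/
theorem result {R : Type u} [CommRing R] [IsNoetherianRing R] (I : Ideal R) (M : Type u) [AddCommGroup M] [Module R M] [Module.Finite R M] (p : Ideal R) [p.IsPrime] (hIp : I ≤ p) : ∃ f : R, f ∉ p ∧ ∀ x ∈ (⨅ n : ℕ, I ^ n • (⊤ : Submodule R M)), ∃ k : ℕ, f ^ k • x = 0 := by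
  classical
  obtain ⟨s, hs⟩ := IsNoetherian.noetherian (⨅ n : ℕ, I ^ n • (⊤ : Submodule R M))
  have hk : ∀ x ∈ s, ∃ r : p.primeCompl, (r : R) • x = 0 := fun x hx => by
    obtain ⟨r, hr⟩ := (I.mem_iInf_smul_pow_eq_bot_iff x).1 (hs ▸ Submodule.subset_span hx)
    refine ⟨⟨1 - r, fun hmem => Ideal.IsPrime.ne_top ‹_› ((Ideal.eq_top_iff_one p).2 ?_)⟩, by simp [sub_smul, hr]⟩
    simpa using add_mem hmem (hIp r.2)
  choose! t ht using hk
  let F : p.primeCompl := ∏ x ∈ s, t x
  refine ⟨F, F.2, fun x hx => ⟨1, ?_⟩⟩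
  rw [pow_one]
  refine Submodule.span_induction (p := fun y _ => (F : R) • y = 0) (fun y hy => ?_) (smul_zero _)
    (fun a b _ _ ha hb => by rw [smul_add, ha, hb, add_zero]) (fun c a _ ha => by rw [smul_comm, ha, smul_zero]) (hs.symm ▸ hx)
  change ((∏ z ∈ s, t z : p.primeCompl) : R) • y = 0
  rw [← Finset.prod_erase_mul s t hy, Submonoid.coe_mul, mul_smul, ht y hy, smul_zero]

end Groth.Agent.S6290
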