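import Groth.Statements.S6291
import Mathlib.RingTheory.FiniteLength
import Mathlib.RingTheory.LocalRing.MaximalIdeal.Basic

set_option autoImplicit false
universe u
open CAlg

namespace Groth.Agent.S6291

/-- Let R be a local ring with maximal ideal m and M an R-module of finite length. Then mⁿM = 0 for some
n. -/
theorem result {R : Type u} [CommRing R] [IsLocalRing R] (M : Type u) [AddCommGroup M] [Module R M] (hM : IsFiniteLength R M) : ∃ n : ℕ, (IsLocalRing.maximalIdeal R) ^ n • (⊤ : Submodule R M) = ⊥ := by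
  induction hM with
  | of_subsingleton => exact ⟨0, Subsingleton.elim _ _⟩
  | @of_simple_quotient W _ _ W₁ _ _ ih =>
    obtain ⟨n, hn⟩ := ih
    obtain ⟨I, hI, ⟨e⟩⟩ := isSimpleModule_iff_quot_maximal.1 ‹IsSimpleModule R (W ⧸ W₁)›
    obtain rfl := IsLocalRing.eq_maximalIdeal hI
    have hle : IsLocalRing.maximalIdeal R • (⊤ : Submodule R W) ≤ W₁ := Submodule.smul_le.2 fun a ha x _ => by
      refine (Submodule.Quotient.mk_eq_zero W₁).1 (e.injective ?_)
      rw [map_zero, Submodule.Quotient.mk_smul, map_smul]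
      obtain ⟨r, hr⟩ := Submodule.Quotient.mk_surjective _ (e (Submodule.Quotient.mk x))
      rw [← hr, ← Submodule.Quotient.mk_smul, Submodule.Quotient.mk_eq_zero]
      exact Ideal.mul_mem_right r _ ha
    refine ⟨n + 1, eq_bot_iff.2 ?_⟩
    rw [pow_succ, Submodule.mul_smul]
    refine (Submodule.smul_mono le_rfl hle).trans ?_
    rw [← Submodule.range_subtype W₁, LinearMap.range_eq_map, ← Submodule.map_smul'', hn, Submodule.map_bot]

end Groth.Agent.S6291
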