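import Groth.Statements.S6292
import Mathlib.RingTheory.FiniteLength
import Mathlib.RingTheory.Finiteness.Ideal
import Mathlib.Algebra.Module.Torsion.Basic
import Mathlib.RingTheory.Artinian.Module
import Mathlib.RingTheory.Length

set_option autoImplicit false
universe u
open CAlg

namespace Groth.Agent.S6292

/-- Let R be a ring and m ⊆ R a finitely generated maximal ideal (for instance R Noetherian). If M is a
finite R-module with mⁿM = 0 for some n, then M has finite length. -/
theorem result {R : Type u} [CommRing R] (m : Ideal R) [m.IsMaximal] (hm : m.FG) (M : Type u) [AddCommGroup M] [Module R M] [Module.Finite R M] (n : ℕ) (hn : m ^ n • (⊤ : Submodule R M) = ⊥) : IsFiniteLength R M := by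
  induction n generalizing M with
  | zero =>
    rw [pow_zero, Ideal.one_eq_top, Submodule.top_smul] at hn
    haveI : Subsingleton M := (Submodule.subsingleton_iff R).1 (subsingleton_of_bot_eq_top hn.symm)
    exact .of_subsingleton
  | succ n ih =>
    have hfg : (m • ⊤ : Submodule R M).FG := Submodule.FG.smul hm Module.Finite.fg_top
    haveI : Module.Finite R (m • ⊤ : Submodule R M) := Module.Finite.iff_fg.2 hfg
    have h1 : IsFiniteLength R (m • ⊤ : Submodule R M) := ih _ (Submodule.map_injective_of_injective
      (Submodule.injective_subtype _) (by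
        rw [Submodule.map_smul'', Submodule.map_top, Submodule.range_subtype, Submodule.map_bot, ← Submodule.mul_smul,
          ← pow_succ, hn]))
    have ht : Module.IsTorsionBySet R (M ⧸ (m • ⊤ : Submodule R M)) m := fun x a => by
      obtain ⟨x, rfl⟩ := Submodule.mkQ_surjective _ x
      rw [← map_smul]
      exact (Submodule.Quotient.mk_eq_zero _).2 (Submodule.smul_mem_smul a.2 Submodule.mem_top)
    letI := ht.module
    haveI : IsScalarTower R (R ⧸ m) (M ⧸ (m • ⊤ : Submodule R M)) := ht.isScalarTower
    letI := Ideal.Quotient.field m
    haveI : Module.Finite (R ⧸ m) (M ⧸ (m • ⊤ : Submodule R M)) := Module.Finite.of_restrictScalars_finite R _ _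
    have h2 : IsFiniteLength R (M ⧸ (m • ⊤ : Submodule R M)) := by
      rw [← Module.length_ne_top_iff, Module.length_eq_of_surjective (Ideal.Quotient.mk_surjective (I := m)),
        Module.length_ne_top_iff, isFiniteLength_iff_isNoetherian_isArtinian]
      exact ⟨inferInstance, inferInstance⟩
    rw [← Module.length_ne_top_iff] at h1 h2 ⊢
    rw [Module.length_eq_add_of_exact _ _ (Submodule.injective_subtype _) (Submodule.mkQ_surjective _)
      (LinearMap.exact_subtype_mkQ (m • ⊤ : Submodule R M))]
    exact WithTop.add_ne_top.2 ⟨h1, h2⟩

end Groth.Agent.S6292
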