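import Groth.Statements.S6294
import Mathlib.RingTheory.Ideal.Operations
import Mathlib.RingTheory.Localization.AtPrime.Basic
import Mathlib.RingTheory.Ideal.MinimalPrime.Basic
import Mathlib.RingTheory.Nilpotent.Lemmas
import Mathlib.Algebra.Group.Pi.Units

set_option autoImplicit false
universe u
open CAlg

namespace Groth.Agent.S6294

/-- Let R be a ring with finitely many minimal primes q₁, …, q_t, and assume that the zerodivisors of R
are precisely the elements of q₁ ∪ … ∪ q_t. Then Q(R), the total ring of fractions of R, equals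
R_{q₁} × … × R_{q_t}: the diagonal map R → ∏ R_{q_i} is a localization of R at its non-zerodivisors. -/
theorem result {R : Type u} [CommRing R] {ι : Type} [Fintype ι] (q : ι → Ideal R) [∀ i, (q i).IsPrime] (hinj : Function.Injective q) (hmin : ∀ P : Ideal R, P ∈ minimalPrimes R ↔ P ∈ Set.range q) (hzd : ∀ x : R, x ∈ nonZeroDivisors R ↔ ∀ i, x ∉ q i) : IsLocalization (nonZeroDivisors R) (∀ i, Localization.AtPrime (q i)) := by
  classical
  have havoid : ∀ D : Ideal R, (∀ i, ¬ D ≤ q i) → ∃ d ∈ D, d ∈ nonZeroDivisors R := by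
    intro D hD
    by_contra hc
    push Not at hc
    have hsub : (D : Set R) ⊆ ⋃ i ∈ ((Finset.univ : Finset ι) : Set ι), (q i : Set R) := by
      intro d hd
      have := hc d hd
      rw [hzd] at this
      push Not at this
      obtain ⟨i, hi⟩ := this
      exact Set.mem_iUnion₂.2 ⟨i, Finset.mem_coe.2 (Finset.mem_univ i), hi⟩
    rcases isEmpty_or_nonempty ι with hι | hι
    · simpa using hsub D.zero_mem
    obtain ⟨i, -, hi⟩ := (Ideal.subset_union_prime (Classical.arbitrary ι) (Classical.arbitrary ι)
      (fun i _ _ _ => inferInstance)).1 hsub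
    exact hD i hi
  have hnil : ∀ i, ∀ t ∈ q i, IsNilpotent (algebraMap R (Localization.AtPrime (q i)) t) := by
    intro i t ht
    rw [nilpotent_iff_mem_prime]
    intro P hP
    have hle : P.comap (algebraMap R (Localization.AtPrime (q i))) ≤ q i := by
      intro r hr
      by_contra hrq
      exact hP.ne_top (Ideal.eq_top_of_isUnit_mem P hr
        (IsLocalization.map_units _ (⟨r, hrq⟩ : (q i).primeCompl)))
    have hm := (hmin (q i)).2 ⟨i, rfl⟩
    exact Ideal.mem_comap.1 (hm.2 ⟨Ideal.IsPrime.comap _, bot_le⟩ hle ht)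
  have halg : ∀ r i, algebraMap R (∀ i, Localization.AtPrime (q i)) r i
      = algebraMap R (Localization.AtPrime (q i)) r := fun _ _ => rfl
  refine ⟨⟨?_, ?_, ?_⟩⟩
  · rintro ⟨s, hs⟩
    exact Pi.isUnit_iff.2 fun i =>
      IsLocalization.map_units _ (⟨s, (hzd s).1 hs i⟩ : (q i).primeCompl)
  · intro x
    let D : Ideal R :=
      { carrier := {d | x * algebraMap R _ d ∈ (algebraMap R (∀ i, Localization.AtPrime (q i))).range}
        add_mem' := fun {a b} ha hb => by
          simp only [Set.mem_setOf_eq, map_add, mul_add]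
          exact add_mem ha hb
        zero_mem' := by simp only [Set.mem_setOf_eq, map_zero, mul_zero]; exact zero_mem _
        smul_mem' := fun c d hd => by
          simp only [Set.mem_setOf_eq, smul_eq_mul, map_mul] at hd ⊢
          rw [mul_left_comm]
          exact mul_mem ⟨c, rfl⟩ hd }
    have hD : ∀ i, ¬ D ≤ q i := by
      intro i hi
      have hj : ∀ j, j ≠ i → ∃ t ∈ q j, t ∉ q i := by
        intro j hji
        by_contra hc
        push Not at hc
        have hm := (hmin (q i)).2 ⟨i, rfl⟩
        exact hji (hinj (le_antisymm hc (hm.2 ⟨inferInstance, bot_le⟩ hc)))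
      choose! t ht hti using hj
      choose N hN using fun (j : {j // j ≠ i}) => hnil j.1 (t j.1) (ht j.1 j.2)
      let T : R := ∏ j : {j // j ≠ i}, t j.1 ^ N j
      have hT : T ∉ q i := fun h => by
        obtain ⟨j, -, hj⟩ := (Ideal.IsPrime.prod_mem_iff).1 h
        exact hti j.1 j.2 (Ideal.IsPrime.mem_of_pow_mem inferInstance _ hj)
      obtain ⟨⟨a, s⟩, has⟩ := IsLocalization.surj (q i).primeCompl (x i)
      have hmem : (s : R) * T ∈ D := by
        refine ⟨a * T, funext fun j => ?_⟩
        rw [Pi.mul_apply, halg, halg]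
        rcases eq_or_ne j i with rfl | hji
        · rw [map_mul, map_mul, ← mul_assoc, has]
        · have hT0 : algebraMap R (Localization.AtPrime (q j)) T = 0 := by
            rw [map_prod]
            refine Finset.prod_eq_zero (Finset.mem_univ ⟨j, hji⟩) ?_
            rw [map_pow]
            exact hN ⟨j, hji⟩
          rw [map_mul, map_mul, hT0, mul_zero, mul_zero, mul_zero]
      rcases Ideal.IsPrime.mem_or_mem inferInstance (hi hmem) with h | h
      · exact s.2 h
      · exact hT h
    obtain ⟨d, ⟨r, hr⟩, hdn⟩ := havoid D hD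
    exact ⟨(r, ⟨d, hdn⟩), hr.symm⟩
  · intro a b hab
    let D : Ideal R :=
      { carrier := {d | d * a = d * b}
        add_mem' := fun {c d} (hc : c * a = c * b) (hd : d * a = d * b) => by
          show (c + d) * a = (c + d) * b
          rw [add_mul, add_mul, hc, hd]
        zero_mem' := by simp
        smul_mem' := fun c d (hd : d * a = d * b) => by
          show (c • d) * a = (c • d) * b
          rw [smul_eq_mul, mul_assoc, mul_assoc, hd] }
    obtain ⟨d, hd, hdn⟩ := havoid D fun i hi => by
      obtain ⟨c, hc⟩ := IsLocalization.exists_of_eq (M := (q i).primeCompl) (congrFun hab i)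
      exact c.2 (hi hc)
    exact ⟨⟨d, hdn⟩, hd⟩

end Groth.Agent.S6294
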