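import Groth.Statements.S6295
import Mathlib.RingTheory.KrullDimension.Zero
import Mathlib.RingTheory.Ideal.MinimalPrime.Localization
import Mathlib.RingTheory.LocalProperties.Reduced
import Mathlib.RingTheory.Localization.AtPrime.Basic
import Mathlib.RingTheory.Nilpotent.Lemmas

set_option autoImplicit false
universe u
open CAlg

namespace Groth.Agent.S6295

/-- Let R be a reduced ring. Then every localization R_p at a minimal prime p is a field and the map R →
∏_{p minimal} R_p is injective (so R is a subring of a product of fields); moreover the set of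
zerodivisors of R is the union of the minimal primes. -/
theorem result (R : Type u) [CommRing R] [IsReduced R] : (∀ p : PrimeSpectrum R, p.asIdeal ∈ minimalPrimes R → IsField (Localization.AtPrime p.asIdeal)) ∧ Function.Injective (algebraMap R (∀ p : {p : PrimeSpectrum R // p.asIdeal ∈ minimalPrimes R}, Localization.AtPrime p.1.asIdeal)) ∧ (∀ x : R, x ∉ nonZeroDivisors R ↔ ∃ p ∈ minimalPrimes R, x ∈ p) := by
  have hfield : ∀ p : PrimeSpectrum R, p.asIdeal ∈ minimalPrimes R → IsField (Localization.AtPrime p.asIdeal) := by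
    intro p hp
    have : Ring.KrullDimLE 0 (Localization.AtPrime p.asIdeal) := .of_isLocalization _ hp _
    exact Ring.KrullDimLE.isField_of_isReduced
  have hzero : ∀ p : PrimeSpectrum R, p.asIdeal ∈ minimalPrimes R → ∀ x ∈ p.asIdeal,
      ∃ s, s ∉ p.asIdeal ∧ s * x = 0 := by
    intro p hp x hx
    obtain ⟨s, hs⟩ := (IsLocalization.map_eq_zero_iff p.asIdeal.primeCompl (Localization.AtPrime p.asIdeal) x).1 (by
      by_contra h0
      obtain ⟨y, hy⟩ := (hfield p hp).mul_inv_cancel h0
      exact ((IsLocalization.AtPrime.to_map_mem_maximal_iff (Localization.AtPrime p.asIdeal) p.asIdeal x).2 hx)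
        (IsUnit.of_mul_eq_one y hy))
    exact ⟨s, s.2, hs⟩
  have hinj : ∀ x : R, (∀ p ∈ minimalPrimes R, x ∈ p) → x = 0 := by
    intro x hx
    refine IsNilpotent.eq_zero (mem_nilradical.1 ?_)
    rw [nilradical_eq_sInf, Submodule.mem_sInf]
    intro (q : Ideal R) hq
    have : Ideal.IsPrime q := hq
    obtain ⟨p, hp, hpq⟩ := Ideal.exists_minimalPrimes_le (J := q) (bot_le (a := q))
    exact hpq (hx p hp)
  refine ⟨hfield, ?_, fun x => ⟨fun hx => ?_, fun ⟨p, hp, hxp⟩ hx => ?_⟩⟩
  · rw [injective_iff_map_eq_zero]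
    intro x hx
    refine hinj x fun p hp => ?_
    have hp' : p.IsPrime := hp.1.1
    have := congrFun hx ⟨⟨p, hp'⟩, hp⟩
    rw [Pi.algebraMap_apply, Pi.zero_apply] at this
    by_contra hxp
    exact not_isUnit_zero (this ▸ IsLocalization.map_units (Localization.AtPrime p) (⟨x, hxp⟩ : p.primeCompl))
  · rw [mem_nonZeroDivisors_iff_right] at hx
    push Not at hx
    obtain ⟨y, hyx, hy0⟩ := hx
    by_contra hc
    push Not at hc
    exact hy0 (hinj y fun p hp => (hp.1.1.mem_or_mem (hyx ▸ p.zero_mem)).resolve_right (hc p hp))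
  · obtain ⟨s, hs, hsx⟩ := hzero ⟨p, hp.1.1⟩ hp x hxp
    exact hs ((mem_nonZeroDivisors_iff_right.1 hx s hsx).symm ▸ p.zero_mem)

end Groth.Agent.S6295
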