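import Groth.Statements.S6297
import Groth.Agent.LocalAlg.Determinantal

set_option autoImplicit false
universe u
open CAlg

namespace Groth.Agent.S6297

/-- Let R be a ring, m ≤ n, A an n × m matrix over R and J the ideal generated by the m × m minors of A.
(1) For every f ∈ J there is an m × n matrix B with BA = f · 1. (2) If BA = f · 1 for some m × n
matrix B, then f^m ∈ J. -/
theorem result {R : Type u} [CommRing R] {n m : ℕ} (hmn : m ≤ n) (A : Matrix (Fin n) (Fin m) R) : (∀ f ∈ CAlgX.minorIdeal A m, ∃ B : Matrix (Fin m) (Fin n) R, B * A = f • (1 : Matrix (Fin m) (Fin m) R)) ∧ (∀ (f : R) (B : Matrix (Fin m) (Fin n) R), B * A = f • (1 : Matrix (Fin m) (Fin m) R) → f ^ m ∈ CAlgX.minorIdeal A m) := by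
  refine ⟨fun f hf => Groth.Agent.LocalAlg.Determinantal.exists_mul_eq_smul_one A hf, fun f B h => ?_⟩
  have := Groth.Agent.LocalAlg.Determinantal.det_mul_mem_minorIdeal A B
  rwa [h, Matrix.det_smul, Matrix.det_one, mul_one, Fintype.card_fin] at this

end Groth.Agent.S6297
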