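import Groth.Statements.S6298
import Mathlib.RingTheory.Ideal.Operations

set_option autoImplicit false
universe u
open CAlg

namespace Groth.Agent.S6298

/-- Let R be a ring, x ∈ R, I ⊆ R an ideal and p₁, …, p_r prime ideals such that for each i the coset x
+ I is not contained in p_i. Then there is y ∈ I with x + y ∉ p_i for all i. -/
theorem result {R : Type u} [CommRing R] (x : R) (I : Ideal R) {r : ℕ} (p : Fin r → Ideal R) [∀ i, (p i).IsPrime] (h : ∀ i, ∃ y ∈ I, x + y ∉ p i) : ∃ y ∈ I, ∀ i, x + y ∉ p i := by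
  classical
  let S := Finset.univ.filter fun i => x ∈ p i
  let T := Finset.univ.filter fun j => x ∉ p j ∧ ∀ i ∈ S, ¬ p j ≤ p i
  have hmemS : ∀ i, i ∈ S ↔ x ∈ p i := fun i => by simp [S]
  have hI : ∀ i ∈ S, ¬ I ≤ p i := fun i hi hle => by
    obtain ⟨y, hy, hxy⟩ := h i
    exact hxy ((p i).add_mem ((hmemS i).1 hi) (hle hy))
  obtain ⟨K, hKI, hKT, hKS⟩ : ∃ K : Ideal R, K ≤ I ∧ (∀ j ∈ T, K ≤ p j) ∧ ∀ i ∈ S, ¬ K ≤ p i := by
    refine ⟨I * T.inf p, Ideal.mul_le_left, fun j hj => Ideal.mul_le_right.trans (Finset.inf_le hj),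
      fun i hi hle => ?_⟩
    rcases (Ideal.IsPrime.mul_le (P := p i) inferInstance).1 hle with h' | h'
    · exact hI i hi h'
    · obtain ⟨j, hj, hji⟩ := (Ideal.IsPrime.inf_le' (P := p i) inferInstance).1 h'
      exact (Finset.mem_filter.1 hj).2.2 i hi hji
  have hJ : ¬ (K : Set R) ⊆ ⋃ i ∈ (S : Set (Fin r)), (p i : Set R) := by
    intro hsub
    obtain ⟨i₀, -, -⟩ := Set.mem_iUnion₂.1 (hsub (K.zero_mem))
    obtain ⟨i, hi, hle⟩ := (Ideal.subset_union_prime (s := S) (f := p)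
      i₀ i₀ (fun i _ _ _ => inferInstance)).1 hsub
    exact hKS i hi hle
  obtain ⟨y, hy, hyS⟩ := Set.not_subset.1 hJ
  refine ⟨y, hKI hy, fun i => ?_⟩
  have keyS : ∀ i ∈ S, x + y ∉ p i := fun i hi hxy => by
    refine hyS (Set.mem_iUnion₂.2 ⟨i, hi, ?_⟩)
    exact ((p i).add_mem_iff_right ((hmemS i).1 hi)).1 hxy
  by_cases hxi : x ∈ p i
  · exact keyS i ((hmemS i).2 hxi)
  by_cases hle : ∀ k ∈ S, ¬ p i ≤ p k
  · have hyi : y ∈ p i := hKT i (Finset.mem_filter.2 ⟨Finset.mem_univ _, hxi, hle⟩) hy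
    exact fun hxy => hxi (((p i).add_mem_iff_left hyi).1 hxy)
  · push Not at hle
    obtain ⟨k, hk, hik⟩ := hle
    exact fun hxy => keyS k hk (hik hxy)

end Groth.Agent.S6298
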