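import Groth.Statements.S6300
import Mathlib
-- import your own Groth.Agent.* helpers here

set_option autoImplicit false
universe u
open CAlg

namespace Groth.Agent.S6300

/-- Let R be a normal ring (every localization at a prime is an integrally closed domain). Then R[x] is
a normal ring. -/
theorem result (R : Type u) [CommRing R] (hR : EGA4.IsNormalRing R) : EGA4.IsNormalRing (Polynomial R) := by
  intro P _
  let p := P.comap Polynomial.C
  obtain ⟨hd, hic⟩ := hR p
  haveI := hd; haveI := hic
  let Rp := Localization.AtPrime p
  let M : Submonoid (Polynomial R) := p.primeCompl.map Polynomial.C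
  letI : Algebra (Polynomial R) (Polynomial Rp) := (Polynomial.mapRingHom (algebraMap R Rp)).toAlgebra
  haveI : IsLocalization M (Polynomial Rp) := Polynomial.isLocalization p.primeCompl Rp
  have hdis : Disjoint (M : Set (Polynomial R)) (P : Set (Polynomial R)) := by
    rw [Set.disjoint_left]
    rintro _ ⟨a, ha, rfl⟩ h
    exact ha h
  let Q : Ideal (Polynomial Rp) := P.map (algebraMap (Polynomial R) (Polynomial Rp))
  haveI hQ : Q.IsPrime := IsLocalization.isPrime_of_isPrime_disjoint M _ P inferInstance hdis
  have hcomap : Q.comap (algebraMap (Polynomial R) (Polynomial Rp)) = P := IsLocalization.comap_map_of_isPrime_disjoint M _ ‹_› hdis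
  haveI : IsLocalization.AtPrime (Localization.AtPrime Q) (Q.comap (algebraMap (Polynomial R) (Polynomial Rp))) :=
    IsLocalization.isLocalization_isLocalization_atPrime_isLocalization M (Localization.AtPrime Q) Q
  have key : ∀ (P' : Ideal (Polynomial R)) [P'.IsPrime], IsLocalization.AtPrime (Localization.AtPrime Q) P' →
      IsDomain (Localization.AtPrime P') ∧ IsIntegrallyClosed (Localization.AtPrime P') := by
    intro P' _ h
    have e := IsLocalization.algEquiv P'.primeCompl (Localization.AtPrime Q) (Localization.AtPrime P')
    haveI : IsDomain (Localization.AtPrime Q) := inferInstance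
    haveI : IsIntegrallyClosed (Localization.AtPrime Q) :=
      isIntegrallyClosed_of_isLocalization _ Q.primeCompl Q.primeCompl_le_nonZeroDivisors
    exact ⟨MulEquiv.isDomain (Localization.AtPrime Q) e.symm.toMulEquiv, IsIntegrallyClosed.of_equiv (R := Localization.AtPrime Q) e.toRingEquiv⟩
  have h2 : ∀ (P' : Ideal (Polynomial R)) (hP' : P'.IsPrime), Q.comap (algebraMap (Polynomial R) (Polynomial Rp)) = P' →
      @IsLocalization.AtPrime _ _ (Localization.AtPrime Q) _ _ P' hP' := by
    rintro _ _ rfl; infer_instance
  exact key P (h2 P inferInstance hcomap)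

end Groth.Agent.S6300
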