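import Groth.Statements.S6301
import Mathlib.RingTheory.Flat.EquationalCriterion

set_option autoImplicit false
universe u
open CAlg

namespace Groth.Agent.S6301

/-- An R-module M is flat exactly when, for every finitely presented R-module P and every surjective
R-module map N → M, the induced map Hom_R(P, N) → Hom_R(P, M) is surjective (modules P, N taken in
the same universe). -/
theorem result {R : Type u} [CommRing R] (M : Type u) [AddCommGroup M] [Module R M] : Module.Flat R M ↔ ∀ (P : Type u) [AddCommGroup P] [Module R P], Module.FinitePresentation R P → ∀ (N : Type u) [AddCommGroup N] [Module R N] (g : N →ₗ[R] M), Function.Surjective g → ∀ h : P →ₗ[R] M, ∃ h' : P →ₗ[R] N, g.comp h' = h := by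
  refine ⟨fun hM P _ _ hP N _ _ g hg h => ?_, fun H => Module.Flat.of_forall_exists_factorization fun {l f x} hf => ?_⟩
  · obtain ⟨k, a, y, hya⟩ := Module.Flat.exists_factorization_of_finitePresentation h
    obtain ⟨y', hy'⟩ := Module.projective_lifting_property g y hg
    exact ⟨y' ∘ₗ a, by rw [← LinearMap.comp_assoc, hy', ← hya]⟩
  · let W := Submodule.span R ({f} : Set (Fin l →₀ R))
    have hW : W ≤ LinearMap.ker x := Submodule.span_le.2 (Set.singleton_subset_iff.2 (LinearMap.mem_ker.2 hf))
    haveI : Module.FinitePresentation R ((Fin l →₀ R) ⧸ W) :=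
      Module.finitePresentation_of_surjective W.mkQ W.mkQ_surjective (by rw [Submodule.ker_mkQ]; exact Submodule.fg_span_singleton f)
    obtain ⟨h', hh'⟩ := H _ ‹_› (M →₀ R) (Finsupp.linearCombination R id) (fun m => ⟨Finsupp.single m 1, by simp⟩) (W.liftQ x hW)
    obtain ⟨k, a, y, hya, haf⟩ := Module.Flat.iff_forall_exists_factorization.1 (inferInstance : Module.Flat R (M →₀ R))
      (f := f) (x := h' ∘ₗ W.mkQ) (by rw [LinearMap.comp_apply, Submodule.mkQ_apply,
        (Submodule.Quotient.mk_eq_zero W).2 (Submodule.mem_span_singleton_self f), map_zero])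
    exact ⟨k, a, Finsupp.linearCombination R id ∘ₗ y, by
      rw [LinearMap.comp_assoc, ← hya, ← LinearMap.comp_assoc, hh', Submodule.liftQ_mkQ], haf⟩

end Groth.Agent.S6301
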