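import Groth.Statements.S6359
import Groth.Agent.ML.Module

set_option autoImplicit false
universe u
open CAlg

namespace Groth.Agent.S6359


open Groth.Agent.ML.Module TensorProduct

/-- Let f : M → N and g : M → M' be maps of R-modules such that the cokernel of f is finitely presented.
Then g dominates f (for every module Q the kernel of f ⊗ id_Q is contained in the kernel of g ⊗
id_Q) if and only if g factors through f. -/
theorem result (R : Type u) [CommRing R] {M N M' : Type u}
    [AddCommGroup M] [Module R M] [AddCommGroup N] [Module R N] [AddCommGroup M'] [Module R M']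
    (f : M →ₗ[R] N) (g : M →ₗ[R] M') [Module.FinitePresentation R (N ⧸ LinearMap.range f)] :
    (∀ (Q : Type u) [AddCommGroup Q] [Module R Q], LinearMap.ker (f.rTensor Q) ≤ LinearMap.ker (g.rTensor Q)) ↔
      ∃ h : N →ₗ[R] M', g = h ∘ₗ f := by
  classical
  constructor
  swap
  · rintro ⟨h, rfl⟩ Q _ _ z hz
    rw [LinearMap.mem_ker] at hz ⊢
    rw [LinearMap.rTensor_comp_apply, hz, map_zero]
  intro hdom
  let d : M →ₗ[R] N × M' := f.prod (-g)
  let B := (N × M') ⧸ LinearMap.range d
  let q : (N × M') →ₗ[R] B := (LinearMap.range d).mkQ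
  let i : M' →ₗ[R] B := q ∘ₗ LinearMap.inr R N M'
  have hi : ∀ (X : Type u) [AddCommGroup X] [Module R X], Function.Injective (i.rTensor X) := by
    intro X _ _
    rw [injective_iff_map_eq_zero]
    intro v hv
    rw [LinearMap.rTensor_comp_apply] at hv
    obtain ⟨z, hz⟩ := (rTensor_exact X (LinearMap.exact_map_mkQ_range d) (LinearMap.range d).mkQ_surjective _).mp hv
    have h1 : f.rTensor X z = 0 := by
      have := congrArg ((LinearMap.fst R N M').rTensor X) hz
      rwa [← LinearMap.rTensor_comp_apply, ← LinearMap.rTensor_comp_apply, LinearMap.fst_prod,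
        LinearMap.fst_comp_inr, LinearMap.rTensor_zero, LinearMap.zero_apply] at this
    have h2 : (-g).rTensor X z = v := by
      have := congrArg ((LinearMap.snd R N M').rTensor X) hz
      rwa [← LinearMap.rTensor_comp_apply, ← LinearMap.rTensor_comp_apply, LinearMap.snd_prod,
        LinearMap.snd_comp_inr, LinearMap.rTensor_id_apply] at this
    rw [← h2, LinearMap.rTensor_neg, LinearMap.neg_apply, neg_eq_zero]
    exact hdom X h1
  let C := N ⧸ LinearMap.range f
  let p : B →ₗ[R] C := (LinearMap.range d).liftQ ((LinearMap.range f).mkQ ∘ₗ LinearMap.fst R N M') (by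
    rintro _ ⟨x, rfl⟩
    exact (Submodule.Quotient.mk_eq_zero (LinearMap.range f)).mpr ⟨x, rfl⟩)
  have hp : ∀ y, p y = 0 → y ∈ LinearMap.range i := by
    intro y hy
    obtain ⟨⟨a, b⟩, rfl⟩ := (LinearMap.range d).mkQ_surjective y
    have hy' : Submodule.Quotient.mk (p := LinearMap.range f) a = 0 := hy
    obtain ⟨x, rfl⟩ := (Submodule.Quotient.mk_eq_zero _).mp hy'
    refine ⟨b + g x, ?_⟩
    show (LinearMap.range d).mkQ (0, b + g x) = (LinearMap.range d).mkQ (f x, b)
    rw [Submodule.mkQ_apply, Submodule.mkQ_apply, Submodule.Quotient.eq]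
    exact ⟨-x, Prod.ext (by simp [d]) (by simp [d])⟩
  have hpi : p ∘ₗ i = 0 := LinearMap.ext fun x => map_zero (LinearMap.range f).mkQ
  have hps : Function.Surjective p := fun c => by
    obtain ⟨a, rfl⟩ := (LinearMap.range f).mkQ_surjective c
    exact ⟨q (a, 0), rfl⟩
  -- choose a presentation of `C` and lift it
  obtain ⟨n, π, hπ⟩ := Module.Finite.exists_fin' R C
  obtain ⟨b, hb⟩ := Module.projective_lifting_property p π hps
  haveI : Module.Finite R (LinearMap.ker π) :=
    Module.Finite.iff_fg.mpr (Module.FinitePresentation.fg_ker π hπ)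
  obtain ⟨k, r, hr⟩ := Module.Finite.exists_fin' R (LinearMap.ker π)
  let r' := (LinearMap.ker π).subtype ∘ₗ r
  have hrange : ∀ l, ∃ β : M', i β = b (r' (Pi.single l 1)) := fun l => hp _ (by
    rw [← LinearMap.comp_apply, hb]; exact (r (Pi.single l 1)).2)
  choose β hβ using hrange
  let β' : (Fin k → R) →ₗ[R] M' := Fintype.linearCombination R β
  have hβ' : i ∘ₗ β' = b ∘ₗ r' := (Pi.basisFun R (Fin k)).ext fun l => by simp [β', hβ]
  obtain ⟨γ, hγ⟩ := exists_factor_of_ker_le r' β' fun X _ _ z hz => by
    rw [LinearMap.mem_ker] at hz ⊢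
    apply hi X
    rw [map_zero, ← LinearMap.rTensor_comp_apply, hβ', LinearMap.rTensor_comp_apply, hz, map_zero]
  -- the section
  have hker : LinearMap.ker π ≤ LinearMap.ker (b - i ∘ₗ γ) := by
    intro y hy
    obtain ⟨x, hx⟩ := hr ⟨y, hy⟩
    have h1 := LinearMap.congr_fun hγ x
    have h2 := LinearMap.congr_fun hβ' x
    simp only [LinearMap.comp_apply, r', Submodule.coe_subtype, hx] at h1 h2
    rw [LinearMap.mem_ker, LinearMap.sub_apply, LinearMap.comp_apply, h1, h2, sub_self]
  let s : C →ₗ[R] B :=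
    (LinearMap.ker π).liftQ _ hker ∘ₗ (π.quotKerEquivOfSurjective hπ).symm.toLinearMap
  have hs : ∀ c, p (s c) = c := fun c => by
    obtain ⟨y, rfl⟩ := hπ c
    simp only [s, LinearMap.comp_apply, LinearEquiv.coe_coe,
      LinearMap.quotKerEquivOfSurjective_symm_apply, Submodule.liftQ_apply, LinearMap.sub_apply, map_sub]
    rw [← LinearMap.comp_apply p i, hpi, LinearMap.zero_apply, sub_zero, ← LinearMap.comp_apply p b, hb]
  have hiinj : Function.Injective i := fun x y hxy => by
    have h1 : x ⊗ₜ[R] (1 : R) = y ⊗ₜ[R] (1 : R) := hi R (by simp [hxy])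
    simpa using congrArg (TensorProduct.rid R M') h1
  let ret : B →ₗ[R] M' := (LinearEquiv.ofInjective i hiinj).symm.toLinearMap ∘ₗ
    (LinearMap.id - s ∘ₗ p).codRestrict (LinearMap.range i) fun y => hp _ (by simp [hs])
  have hret : ∀ x, ret (i x) = x := fun x => by
    apply (LinearEquiv.ofInjective i hiinj).injective
    refine Subtype.ext ?_
    simp [ret, ← LinearMap.comp_apply p i, hpi]
  refine ⟨ret ∘ₗ q ∘ₗ LinearMap.inl R N M', LinearMap.ext fun x => ?_⟩
  have : q (f x, 0) = i (g x) := by
    show (LinearMap.range d).mkQ (f x, 0) = (LinearMap.range d).mkQ (0, g x)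
    rw [Submodule.mkQ_apply, Submodule.mkQ_apply, Submodule.Quotient.eq]
    exact ⟨x, Prod.ext (by simp [d]) (by simp [d])⟩
  show g x = ret (q (f x, 0))
  rw [this, hret]

end Groth.Agent.S6359
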