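import Groth.Statements.S6302
import Groth.Agent.S6359

set_option autoImplicit false
universe u
open CAlg

namespace Groth.Agent.S6302

/-- Let 0 → M₁ → M₂ → M₃ → 0 be a short exact sequence of R-modules with M₃ of finite presentation. If
the sequence is universally exact (its first map is universally injective) then it is split: M₂ → M₃
admits a section. (The converse, split implies universally exact, is elementary and not stated.) -/
theorem result {R : Type u} [CommRing R] {M₁ M₂ M₃ : Type u} [AddCommGroup M₁] [Module R M₁] [AddCommGroup M₂] [Module R M₂] [AddCommGroup M₃] [Module R M₃] [Module.FinitePresentation R M₃] (f : M₁ →ₗ[R] M₂) (g : M₂ →ₗ[R] M₃) (hexact : Function.Exact f g) (hg : Function.Surjective g) (hf : CAlgX.UniversallyInjective R f) : ∃ s : M₃ →ₗ[R] M₂, g.comp s = LinearMap.id := by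
  let e : (M₂ ⧸ LinearMap.range f) ≃ₗ[R] M₃ :=
    (Submodule.quotEquivOfEq _ _ hexact.linearMap_ker_eq.symm).trans (g.quotKerEquivOfSurjective hg)
  haveI : Module.FinitePresentation R (M₂ ⧸ LinearMap.range f) := Module.FinitePresentation.of_equiv e.symm
  obtain ⟨r, hr⟩ := (Groth.Agent.S6359.result R f (LinearMap.id : M₁ →ₗ[R] M₁)).mp fun Q _ _ z hz => by
    rw [LinearMap.mem_ker] at hz ⊢
    rw [hf Q (hz.trans (map_zero _).symm), map_zero]
  let p : M₂ →ₗ[R] M₂ := LinearMap.id - f ∘ₗ r
  have hle : LinearMap.range f ≤ LinearMap.ker p := by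
    rintro _ ⟨x, rfl⟩
    have := LinearMap.congr_fun hr x
    simp only [LinearMap.id_apply, LinearMap.comp_apply] at this
    simp [p, ← this]
  refine ⟨(LinearMap.range f).liftQ p hle ∘ₗ e.symm.toLinearMap, LinearMap.ext fun y => ?_⟩
  obtain ⟨x, rfl⟩ := hg y
  have he : e.symm (g x) = Submodule.Quotient.mk x := by rw [LinearEquiv.symm_apply_eq]; rfl
  show g ((LinearMap.range f).liftQ p hle (e.symm (g x))) = g x
  rw [he, Submodule.liftQ_apply]
  simp [p, hexact.apply_apply_eq_zero]

end Groth.Agent.S6302
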