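import Groth.Statements.S6303
import Mathlib.RingTheory.Flat.Basic
import Mathlib.LinearAlgebra.TensorProduct.Prod
import Mathlib.LinearAlgebra.TensorProduct.RightExactness

set_option autoImplicit false
universe u
open CAlg

namespace Groth.Agent.S6303

/-- Let R be a ring, I, J ⊆ R ideals and M a flat R-module. Then IM ∩ JM = (I ∩ J)M. -/
theorem result {R : Type u} [CommRing R] (I J : Ideal R) (M : Type u) [AddCommGroup M] [Module R M] [Module.Flat R M] : (I • (⊤ : Submodule R M)) ⊓ (J • ⊤) = (I ⊓ J) • (⊤ : Submodule R M) := by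
  refine le_antisymm ?_ (le_inf (Submodule.smul_mono_left inf_le_left) (Submodule.smul_mono_left inf_le_right))
  intro x hx
  -- kernel of `A -> A/I × A/J` tensored with `M`
  let f : R →ₗ[R] (R ⧸ I) × (R ⧸ J) := (I.mkQ).prod (J.mkQ)
  have hker : LinearMap.ker f = (I ⊓ J : Ideal R) := by simp [f, LinearMap.ker_prod]
  let e := (TensorProduct.rid R M).symm
  have hsub : ∀ (K : Ideal R) (y : M), y ∈ K • (⊤ : Submodule R M) → (K.mkQ).lTensor M (e y) = 0 := by
    intro K y hy
    refine Submodule.smul_induction_on hy (fun c hc w _ => ?_) (fun w w' hw hw' => ?_)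
    · rw [TensorProduct.rid_symm_apply, TensorProduct.smul_tmul, LinearMap.lTensor_tmul, Submodule.mkQ_apply,
        (Submodule.Quotient.mk_eq_zero K).2 (by simpa using hc), TensorProduct.tmul_zero]
    · rw [map_add, map_add, hw, hw', add_zero]
  have h0 : f.lTensor M (e x) = 0 := by
    apply (TensorProduct.prodRight R R M (R ⧸ I) (R ⧸ J)).injective
    rw [map_zero]
    have : ∀ t, TensorProduct.prodRight R R M (R ⧸ I) (R ⧸ J) (f.lTensor M t) =
        ((I.mkQ).lTensor M t, (J.mkQ).lTensor M t) := by
      intro t
      induction t using TensorProduct.induction_on with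
      | zero => simp; rfl
      | tmul m r => simp [f]
      | add a b ha hb => simp [ha, hb]
    rw [this, hsub I x hx.1, hsub J x hx.2]
    rfl
  obtain ⟨v, hv⟩ := (Module.Flat.lTensor_exact M (LinearMap.exact_subtype_ker_map f) _).1 h0
  have hx' : x = TensorProduct.rid R M ((LinearMap.ker f).subtype.lTensor M v) := by simp [hv, e]
  rw [hx']
  clear hv h0 hx' hx
  induction v using TensorProduct.induction_on with
  | zero => simp
  | add a b ha hb => rw [map_add, map_add]; exact add_mem ha hb
  | tmul m r =>
    simp only [LinearMap.lTensor_tmul, TensorProduct.rid_tmul, Submodule.subtype_apply]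
    exact Submodule.smul_mem_smul (hker ▸ r.2) Submodule.mem_top

end Groth.Agent.S6303
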