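import Groth.Statements.S6305
import Groth.Agent.ML.Pure

set_option autoImplicit false
universe u
open CAlg

namespace Groth.Agent.S6305

/-- An R-module M is flat exactly when every short exact sequence 0 → M₁ → M₂ → M → 0 of R-modules is
universally exact, i.e. its first map M₁ → M₂ is universally injective. -/
theorem result {R : Type u} [CommRing R] (M : Type u) [AddCommGroup M] [Module R M] : Module.Flat R M ↔ ∀ (M₁ M₂ : Type u) [AddCommGroup M₁] [Module R M₁] [AddCommGroup M₂] [Module R M₂] (f : M₁ →ₗ[R] M₂) (g : M₂ →ₗ[R] M), Function.Injective f → Function.Exact f g → Function.Surjective g → CAlgX.UniversallyInjective R f := by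
  classical
  refine ⟨fun _ M₁ M₂ _ _ _ _ f g hf hfg hg => Groth.Agent.ML.Pure.universallyInjective_of_flat f g hf hfg hg,
    fun h => ?_⟩
  obtain ⟨F, _, _, _, π, hπ⟩ : ∃ (F : Type u) (_ : AddCommGroup F) (_ : Module R F)
      (_ : Module.Flat R F) (π : F →ₗ[R] M), Function.Surjective π :=
    ⟨M →₀ R, inferInstance, inferInstance, inferInstance, Finsupp.linearCombination R id,
      Finsupp.linearCombination_surjective R Function.surjective_id⟩
  exact Groth.Agent.ML.Pure.flat_of_universallyInjective _ π (LinearMap.exact_subtype_ker_map π) hπ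
    (h _ _ _ π (LinearMap.ker π).injective_subtype (LinearMap.exact_subtype_ker_map π) hπ)

end Groth.Agent.S6305
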