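import Groth.Statements.S6306
import Mathlib.RingTheory.Ideal.Maximal
import Mathlib.RingTheory.Nilpotent.Lemmas

set_option autoImplicit false
universe u
open CAlg

namespace Groth.Agent.S6306

/-- Let R be a nonzero ring such that every nonzero prime ideal of R contains a non-zerodivisor. Then R
is a domain. -/
theorem result (R : Type u) [CommRing R] [Nontrivial R] (h : ∀ p : Ideal R, p.IsPrime → p ≠ ⊥ → ∃ x ∈ p, x ∈ nonZeroDivisors R) : IsDomain R := by
  refine (isDomain_iff_noZeroDivisors_and_nontrivial R).2 ⟨⟨fun {a b} hab => ?_⟩, inferInstance⟩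
  by_contra hne
  push Not at hne
  obtain ⟨p, hp, hdisj⟩ := Ideal.exists_le_prime_disjoint (⊥ : Ideal R) (nonZeroDivisors R)
    (Set.disjoint_left.2 fun x hx hx' => nonZeroDivisors.ne_zero hx' hx)
  have hp0 : p = ⊥ := by
    by_contra hp0
    obtain ⟨x, hx, hx'⟩ := h p hp hp0
    exact Set.disjoint_left.1 hdisj.2 hx hx'
  subst hp0
  rcases hp.mem_or_mem (show a * b ∈ (⊥ : Ideal R) from hab) with h' | h'
  · exact hne.1 h'
  · exact hne.2 h'

end Groth.Agent.S6306
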