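import Groth.Statements.S6307
import Mathlib.RingTheory.Ideal.Colon
import Mathlib.RingTheory.Ideal.Operations

set_option autoImplicit false
universe u
open CAlg

namespace Groth.Agent.S6307

/-- Let R be a ring, J ⊆ R a principal ideal and I ⊆ J an ideal. Then I = J · (I : J). -/
theorem result {R : Type u} [CommRing R] (I J : Ideal R) (hJ : J.IsPrincipal) (hIJ : I ≤ J) : I = J * I.colon J := by
  obtain ⟨g, rfl⟩ := hJ.principal
  refine le_antisymm (fun x hx => ?_) ?_
  · obtain ⟨c, rfl⟩ := Ideal.mem_span_singleton'.1 (hIJ hx)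
    rw [Ideal.submodule_span_eq, Ideal.mem_span_singleton_mul]
    refine ⟨c, Submodule.mem_colon.2 fun p hp => ?_, mul_comm _ _⟩
    obtain ⟨d, rfl⟩ := Ideal.mem_span_singleton'.1 hp
    rw [smul_eq_mul, show c * (d * g) = d * (c * g) by ring]
    exact I.mul_mem_left d hx
  · rw [Ideal.mul_le]
    intro r hr s hs
    rw [mul_comm]
    exact Submodule.mem_colon.1 hs r hr

end Groth.Agent.S6307
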