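import Groth.Statements.S6308
import Mathlib.RingTheory.Support
import Mathlib.RingTheory.LocalRing.Module
import Mathlib.RingTheory.Spectrum.Prime.Topology
import Mathlib.LinearAlgebra.TensorProduct.RightExactness
import Mathlib.RingTheory.LocalRing.ResidueField.Ideal

set_option autoImplicit false
universe u
open scoped TensorProduct
open CAlg

namespace Groth.Agent.S6308

/-- surjectivity after localization -/
lemma surjective_localizedMap_iff {R : Type u} [CommRing R] (S : Submonoid R) {M N : Type u} [AddCommGroup M] [Module R M]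
    [AddCommGroup N] [Module R N] (φ : M →ₗ[R] N) :
    Function.Surjective (LocalizedModule.map S φ) ↔ ∀ n, ∃ s ∈ S, (s : R) • n ∈ LinearMap.range φ := by
  refine ⟨fun h n => ?_, fun h x => ?_⟩
  · obtain ⟨y, hy⟩ := h (LocalizedModule.mk n 1)
    induction y using LocalizedModule.induction_on with
    | h m s =>
      rw [LocalizedModule.map_mk, LocalizedModule.mk_eq] at hy
      obtain ⟨t, ht⟩ := hy
      refine ⟨t * s, S.mul_mem t.2 s.2, (t : R) • m, ?_⟩
      simpa [Submonoid.smul_def, mul_smul] using ht
  · induction x using LocalizedModule.induction_on with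
    | h n s =>
      obtain ⟨t, ht, m, hm⟩ := h n
      refine ⟨LocalizedModule.mk m (⟨t, ht⟩ * s), ?_⟩
      rw [LocalizedModule.map_mk, LocalizedModule.mk_eq]
      refine ⟨1, ?_⟩
      simp only [one_smul, Submonoid.smul_def, Submonoid.coe_mul, mul_smul, hm]
      rw [smul_comm]

open TensorProduct in
/-- the locus of surjectivity is the complement of the support of the cokernel -/
lemma surjective_lTensor_iff {R : Type u} [CommRing R] {M N : Type u} [AddCommGroup M] [Module R M] [AddCommGroup N] [Module R N]
    [Module.Finite R N] (φ : M →ₗ[R] N) (p : PrimeSpectrum R) :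
    (Function.Surjective (LocalizedModule.map p.asIdeal.primeCompl φ) ↔ p ∉ Module.support R (N ⧸ LinearMap.range φ)) ∧
      (Function.Surjective (φ.lTensor p.asIdeal.ResidueField) ↔ p ∉ Module.support R (N ⧸ LinearMap.range φ)) := by
  constructor
  · rw [surjective_localizedMap_iff, Module.notMem_support_iff']
    refine ⟨fun h m => ?_, fun h n => ?_⟩
    · obtain ⟨n, rfl⟩ := Submodule.mkQ_surjective _ m
      obtain ⟨s, hs, hsn⟩ := h n
      exact ⟨s, hs, (Submodule.Quotient.mk_eq_zero _).2 hsn⟩
    · obtain ⟨s, hs, hsn⟩ := h (Submodule.Quotient.mk n)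
      exact ⟨s, hs, (Submodule.Quotient.mk_eq_zero _).1 hsn⟩
  · rw [Module.mem_support_iff_nontrivial_residueField_tensorProduct, not_nontrivial_iff_subsingleton]
    have hex := lTensor_exact p.asIdeal.ResidueField (LinearMap.exact_map_mkQ_range φ) (Submodule.mkQ_surjective _)
    refine ⟨fun h => ⟨fun a b => ?_⟩, fun h y => (hex y).1 (Subsingleton.elim _ _)⟩
    have hz : ∀ a : p.asIdeal.ResidueField ⊗[R] (N ⧸ LinearMap.range φ), a = 0 := fun a => by
      obtain ⟨y, rfl⟩ := LinearMap.lTensor_surjective _ (Submodule.mkQ_surjective _) a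
      exact (hex y).2 (h y)
    rw [hz a, hz b]

/-- Let R be a ring and φ : M → N a map of R-modules with N finite. For a prime p, the localization φ_p
: M_p → N_p is surjective if and only if φ ⊗ κ(p) : M ⊗ κ(p) → N ⊗ κ(p) is surjective; the set U of
such primes is open in Spec(R); and for every f ∈ R with D(f) ⊆ U the map M_f → N_f is surjective. -/
theorem result {R : Type u} [CommRing R] {M N : Type u} [AddCommGroup M] [Module R M] [AddCommGroup N] [Module R N] [Module.Finite R N] (φ : M →ₗ[R] N) : (∀ p : PrimeSpectrum R, Function.Surjective (LocalizedModule.map p.asIdeal.primeCompl φ) ↔ Function.Surjective (φ.lTensor p.asIdeal.ResidueField)) ∧ IsOpen {p : PrimeSpectrum R | Function.Surjective (LocalizedModule.map p.asIdeal.primeCompl φ)} ∧ (∀ f : R, (↑(PrimeSpectrum.basicOpen f) : Set (PrimeSpectrum R)) ⊆ {p : PrimeSpectrum R | Function.Surjective (LocalizedModule.map p.asIdeal.primeCompl φ)} → Function.Surjective (LocalizedModule.map (Submonoid.powers f) φ)) := by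
  refine ⟨fun p => (surjective_lTensor_iff φ p).1.trans (surjective_lTensor_iff φ p).2.symm, ?_, fun f hf => ?_⟩
  · rw [show {p : PrimeSpectrum R | Function.Surjective (LocalizedModule.map p.asIdeal.primeCompl φ)} =
        (Module.support R (N ⧸ LinearMap.range φ))ᶜ from Set.ext fun p => (surjective_lTensor_iff φ p).1,
      Module.support_eq_zeroLocus]
    exact (PrimeSpectrum.isClosed_zeroLocus _).isOpen_compl
  · have hrad : f ∈ (Module.annihilator R (N ⧸ LinearMap.range φ)).radical := by
      rw [← PrimeSpectrum.vanishingIdeal_zeroLocus_eq_radical, PrimeSpectrum.mem_vanishingIdeal]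
      intro p hp
      by_contra hfp
      have hs : p ∈ Module.support R (N ⧸ LinearMap.range φ) := by rw [Module.support_eq_zeroLocus]; exact hp
      exact (surjective_lTensor_iff φ p).1.1 (hf (show p ∈ PrimeSpectrum.basicOpen f from hfp)) hs
    obtain ⟨k, hk⟩ := hrad
    rw [surjective_localizedMap_iff]
    exact fun n => ⟨f ^ k, ⟨k, rfl⟩, (Submodule.Quotient.mk_eq_zero _).1 (by
      rw [Submodule.Quotient.mk_smul]; exact Module.mem_annihilator.1 hk _)⟩

end Groth.Agent.S6308
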