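import Groth.Statements.S6309
import Groth.Agent.S4530
import Mathlib.RingTheory.Localization.BaseChange
import Mathlib.Algebra.Module.LocalizedModule.Basic
import Mathlib.RingTheory.Localization.Finiteness
import Mathlib.RingTheory.TensorProduct.Free

set_option autoImplicit false
universe u
open scoped TensorProduct
open CAlg

namespace Groth.Agent.S6309

/-- Let R be a ring and φ : P₁ → P₂ a map of finite projective R-modules. The set U of primes p of R
such that φ ⊗ κ(p) is injective is open, and for every f ∈ R with D(f) ⊆ U the map (P₁)_f → (P₂)_f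
is injective and Coker(φ)_f is a finite projective module over R_f. -/
theorem result {R : Type u} [CommRing R] {P₁ P₂ : Type u} [AddCommGroup P₁] [Module R P₁] [AddCommGroup P₂] [Module R P₂] [Module.Finite R P₁] [Module.Projective R P₁] [Module.Finite R P₂] [Module.Projective R P₂] (φ : P₁ →ₗ[R] P₂) : IsOpen {p : PrimeSpectrum R | Function.Injective (φ.lTensor p.asIdeal.ResidueField)} ∧ ∀ f : R, (↑(PrimeSpectrum.basicOpen f) : Set (PrimeSpectrum R)) ⊆ {p : PrimeSpectrum R | Function.Injective (φ.lTensor p.asIdeal.ResidueField)} → Function.Injective (LocalizedModule.map (Submonoid.powers f) φ) ∧ Module.Finite (Localization.Away f) (LocalizedModule (Submonoid.powers f) (P₂ ⧸ LinearMap.range φ)) ∧ Module.Projective (Localization.Away f) (LocalizedModule (Submonoid.powers f) (P₂ ⧸ LinearMap.range φ)) := by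
  let Sc : Ideal R :=
    { carrier := {c | ∃ W : P₂ →ₗ[R] P₁, W ∘ₗ φ = c • LinearMap.id}
      zero_mem' := ⟨0, by simp⟩
      add_mem' := by
        rintro a b ⟨V, hV⟩ ⟨W, hW⟩
        exact ⟨V + W, by rw [LinearMap.add_comp, hV, hW, add_smul]⟩
      smul_mem' := by
        rintro c a ⟨V, hV⟩
        exact ⟨c • V, by rw [LinearMap.smul_comp, hV, smul_smul, smul_eq_mul]⟩ }
  have hset : ∀ p : PrimeSpectrum R, Function.Injective (φ.lTensor p.asIdeal.ResidueField) ↔ ¬ Sc ≤ p.asIdeal := fun p => by
    refine ⟨fun h hle => ?_, fun h => ?_⟩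
    · obtain ⟨c, hc, W, hW⟩ := Groth.Agent.S4530.good_of_residue φ p.asIdeal h
      exact hc (hle ⟨W, hW⟩)
    · obtain ⟨c, ⟨W, hW⟩, hc⟩ := SetLike.not_le_iff_exists.1 h
      exact (((Groth.Agent.S4530.result φ).1 p).out 0 1).1 (Groth.Agent.S4530.good_localized φ _ c hc W hW)
  refine ⟨?_, fun f hf => ?_⟩
  · rw [show {p : PrimeSpectrum R | Function.Injective (φ.lTensor p.asIdeal.ResidueField)} =
      (PrimeSpectrum.zeroLocus (Sc : Set R))ᶜ from Set.ext hset]
    exact (PrimeSpectrum.isClosed_zeroLocus _).isOpen_compl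
  have hrad : f ∈ Sc.radical := by
    rw [← PrimeSpectrum.vanishingIdeal_zeroLocus_eq_radical, PrimeSpectrum.mem_vanishingIdeal]
    intro p hp
    by_contra hfp
    exact (hset p).1 (hf (show p ∈ PrimeSpectrum.basicOpen f from hfp)) hp
  obtain ⟨k, W, hW⟩ := hrad
  let S := Submonoid.powers f
  obtain ⟨w, hw⟩ := Groth.Agent.S4530.good_localized φ S (f ^ k) ⟨k, rfl⟩ W hW
  refine ⟨Function.LeftInverse.injective (g := w) (LinearMap.congr_fun hw), inferInstance, ?_⟩
  let C := P₂ ⧸ LinearMap.range φ
  let v : C →ₗ[R] P₂ := Submodule.liftQ _ (f ^ k • LinearMap.id - φ ∘ₗ W) (by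
    rintro _ ⟨x, rfl⟩
    have : W (φ x) = f ^ k • x := LinearMap.congr_fun hW x
    simp [LinearMap.mem_ker, this])
  have hv : (LinearMap.range φ).mkQ ∘ₗ v = f ^ k • LinearMap.id := Submodule.linearMap_qext _ (LinearMap.ext fun x => by
    change (LinearMap.range φ).mkQ (f ^ k • x - φ (W x)) = f ^ k • (LinearMap.range φ).mkQ x
    rw [map_sub, map_smul, show (LinearMap.range φ).mkQ (φ (W x)) = 0 from (Submodule.Quotient.mk_eq_zero _).2 ⟨_, rfl⟩, sub_zero])
  haveI : Module.Projective (Localization S) (LocalizedModule S P₂) :=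
    Module.Projective.of_equiv (LocalizedModule.equivTensorProduct S P₂).symm
  obtain ⟨i, hi⟩ : ∃ i : Localization S, algebraMap R _ (f ^ k) * i = 1 :=
    ⟨IsLocalization.mk' _ 1 (⟨f ^ k, k, rfl⟩ : S), by rw [mul_comm, IsLocalization.mk'_spec, map_one]⟩
  refine Module.Projective.of_split (i • LocalizedModule.map S v) (LocalizedModule.map S (LinearMap.range φ).mkQ)
    (LinearMap.ext fun x => ?_)
  induction x using LocalizedModule.induction_on with
  | h m s =>
    rw [LinearMap.comp_apply, LinearMap.smul_apply, map_smul, LocalizedModule.map_mk, LocalizedModule.map_mk,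
      show (LinearMap.range φ).mkQ (v m) = f ^ k • m from LinearMap.congr_fun hv m, ← LocalizedModule.smul'_mk,
      ← algebraMap_smul (Localization S) (f ^ k), smul_smul, mul_comm, hi, one_smul]
    rfl

end Groth.Agent.S6309
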