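import Groth.Statements.S6310
import Mathlib.LinearAlgebra.Matrix.Charpoly.LinearMap
import Mathlib.RingTheory.Localization.Away.Basic
import Mathlib.Algebra.Module.LocalizedModule.Submodule
import Mathlib.RingTheory.Finiteness.Basic

set_option autoImplicit false
universe u
open CAlg

namespace Groth.Agent.S6310

/-- Let R be a ring, S ⊆ R a multiplicative subset, I ⊆ R an ideal and M a finite R-module. If x₁, …,
x_r ∈ M have images generating S⁻¹(M/IM) as an S⁻¹R-module, then there is f ∈ S + I (f = s + i with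
s ∈ S, i ∈ I) such that x₁, …, x_r generate M_f as an R_f-module. -/
theorem result {R : Type u} [CommRing R] (S : Submonoid R) (I : Ideal R) (M : Type u) [AddCommGroup M] [Module R M] [Module.Finite R M] {r : ℕ} (x : Fin r → M) (hx : Submodule.span (Localization S) (Set.range fun j => LocalizedModule.mkLinearMap S (M ⧸ (I • (⊤ : Submodule R M))) (Submodule.Quotient.mk (x j))) = ⊤) : ∃ (s : R) (i : R), s ∈ S ∧ i ∈ I ∧ Submodule.span (Localization.Away (s + i)) (Set.range fun j => LocalizedModule.mkLinearMap (Submonoid.powers (s + i)) M (x j)) = ⊤ := by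
  classical
  let N := Submodule.span R (Set.range x)
  let J : Submodule R M := I • ⊤
  have key : ∀ m : M, ∃ s ∈ S, (s : R) • m ∈ N ⊔ J := fun m => by
    have hm : LocalizedModule.mkLinearMap S (M ⧸ J) (Submodule.Quotient.mk m) ∈
        Submodule.span (Localization S) (Set.range fun j => LocalizedModule.mkLinearMap S (M ⧸ J) (Submodule.Quotient.mk (x j))) :=
      hx ▸ Submodule.mem_top
    obtain ⟨c, hc⟩ := Finsupp.mem_span_range_iff_exists_finsupp.1 hm
    obtain ⟨⟨b, hb⟩, hbc⟩ := IsLocalization.exist_integer_multiples_of_finset S (Finset.univ.image c)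
    choose a ha using fun j => hbc (c j) (Finset.mem_image_of_mem _ (Finset.mem_univ j))
    have e : LocalizedModule.mkLinearMap S (M ⧸ J) (Submodule.Quotient.mk (b • m)) =
        LocalizedModule.mkLinearMap S (M ⧸ J) (Submodule.Quotient.mk (∑ j, a j • x j)) := by
      rw [Submodule.Quotient.mk_smul, map_smul, ← hc, Finsupp.sum_fintype _ _ (by simp), Finset.smul_sum,
        ← Submodule.mkQ_apply, map_sum, map_sum]
      refine Finset.sum_congr rfl fun j _ => ?_
      rw [← smul_assoc, map_smul, map_smul, Submodule.mkQ_apply]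
      change ((b : R) • c j) • _ = _
      rw [show (b : R) • c j = algebraMap R (Localization S) (a j) from (ha j).symm, algebraMap_smul]
    obtain ⟨t, ht⟩ := (IsLocalizedModule.eq_iff_exists S (LocalizedModule.mkLinearMap S (M ⧸ J))).1 e
    refine ⟨t * b, S.mul_mem t.2 hb, ?_⟩
    rw [Submonoid.smul_def, Submonoid.smul_def, ← Submodule.Quotient.mk_smul, ← Submodule.Quotient.mk_smul,
      Submodule.Quotient.eq] at ht
    rw [mul_smul]
    have h2 : (t : R) • ∑ j, a j • x j ∈ N :=
      N.smul_mem _ (Submodule.sum_mem _ fun j _ => N.smul_mem _ (Submodule.subset_span ⟨j, rfl⟩))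
    rw [← sub_add_cancel ((t : R) • b • m) ((t : R) • ∑ j, a j • x j)]
    exact add_mem (Submodule.mem_sup_right ht) (Submodule.mem_sup_left h2)
  obtain ⟨g, hg⟩ := (Module.Finite.fg_top : (⊤ : Submodule R M).FG)
  choose! s hs hs' using key
  let s₀ := ∏ m ∈ g, s m
  have hs₀ : s₀ ∈ S := Submonoid.prod_mem _ fun m _ => hs m
  let Q := M ⧸ N
  have hrange : LinearMap.range (s₀ • (LinearMap.id : Q →ₗ[R] Q)) ≤ I • ⊤ := by
    rintro _ ⟨q, rfl⟩
    obtain ⟨m, rfl⟩ := Submodule.mkQ_surjective _ q
    have hm : m ∈ Submodule.span R (g : Set M) := hg ▸ Submodule.mem_top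
    refine Submodule.span_induction (p := fun y _ => s₀ • N.mkQ y ∈ (I • ⊤ : Submodule R Q)) (fun y hy => ?_)
      (by simp) (fun a b _ _ ha hb => by rw [map_add, smul_add]; exact add_mem ha hb)
      (fun c a _ ha => by rw [map_smul, smul_comm]; exact Submodule.smul_mem _ c ha) hm
    have h1 := Submodule.mem_map_of_mem (f := N.mkQ) (hs' y)
    rw [Submodule.map_sup, Submodule.mkQ_map_self, bot_sup_eq, Submodule.map_smul'', Submodule.map_top,
      Submodule.range_mkQ, map_smul] at h1
    change (∏ m ∈ g, s m) • N.mkQ y ∈ _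
    rw [← Finset.prod_erase_mul g s hy, mul_smul]
    exact Submodule.smul_mem _ _ h1
  obtain ⟨P, hmonic, hcoeff, hP⟩ : ∃ P : Polynomial R, P.Monic ∧ (∀ k, P.coeff k ∈ I ^ (P.natDegree - k)) ∧
      Polynomial.aeval (s₀ • (LinearMap.id : Q →ₗ[R] Q)) P = 0 := by
    obtain ⟨P, h1, -, h2, h3⟩ :=
      LinearMap.exists_monic_and_natDegree_eq_and_coeff_mem_pow_and_aeval_eq_zero R (s₀ • (LinearMap.id : Q →ₗ[R] Q)) I hrange
    exact ⟨P, h1, h2, h3⟩
  let i := ∑ k ∈ Finset.range P.natDegree, P.coeff k * s₀ ^ k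
  have hi : i ∈ I := Submodule.sum_mem _ fun k hk => Ideal.mul_mem_right _ _
    (Ideal.pow_le_self (by have := Finset.mem_range.1 hk; omega) (hcoeff k))
  have heval : P.eval s₀ = s₀ ^ P.natDegree + i := by
    rw [Polynomial.eval_eq_sum_range, Finset.sum_range_succ, hmonic.coeff_natDegree, one_mul, add_comm]
  have hkill : ∀ q : Q, (s₀ ^ P.natDegree + i) • q = 0 := fun q => by
    rw [← heval]
    have h1 := LinearMap.congr_fun hP q
    rw [show s₀ • (LinearMap.id : Q →ₗ[R] Q) = algebraMap R (Module.End R Q) s₀ from rfl,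
      Polynomial.aeval_algebraMap_apply_eq_algebraMap_eval] at h1
    exact h1
  refine ⟨s₀ ^ P.natDegree, i, S.pow_mem hs₀ _, hi, eq_top_iff.2 fun z _ => ?_⟩
  induction z using LocalizedModule.induction_on with
  | h m t =>
    have hgm : (s₀ ^ P.natDegree + i) • m ∈ N := (Submodule.Quotient.mk_eq_zero N).1 (by
      rw [Submodule.Quotient.mk_smul]; exact hkill _)
    obtain ⟨c, hc⟩ := Finsupp.mem_span_range_iff_exists_finsupp.1 hgm
    let u : Submonoid.powers (s₀ ^ P.natDegree + i) := ⟨_, Submonoid.mem_powers _⟩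
    have e : LocalizedModule.mk m t = (Localization.mk 1 (u * t) : Localization.Away (s₀ ^ P.natDegree + i)) •
        LocalizedModule.mkLinearMap (Submonoid.powers (s₀ ^ P.natDegree + i)) M ((s₀ ^ P.natDegree + i) • m) := by
      rw [LocalizedModule.mkLinearMap_apply, LocalizedModule.mk_smul_mk, one_smul, mul_one, LocalizedModule.mk_eq]
      exact ⟨1, by simp only [u, one_smul, Submonoid.smul_def, Submonoid.coe_mul, mul_smul]; rw [smul_comm]⟩
    rw [e]
    refine Submodule.smul_mem _ _ ?_
    rw [← hc, Finsupp.sum, map_sum]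
    refine Submodule.sum_mem _ fun j _ => ?_
    rw [map_smul, ← algebraMap_smul (Localization.Away (s₀ ^ P.natDegree + i))]
    exact Submodule.smul_mem _ _ (Submodule.subset_span ⟨j, rfl⟩)

end Groth.Agent.S6310
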