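import Groth.Statements.S6312
import Mathlib.RingTheory.Length
import Mathlib.Algebra.Module.LocalizedModule.Basic
import Mathlib.Algebra.Module.LocalizedModule.Submodule

set_option autoImplicit false
universe u
open CAlg

namespace Groth.Agent.S6312

/-- Let R be a ring, M an R-module and S ⊆ R a multiplicative subset. Then length_{S⁻¹R}(S⁻¹M) ≤
length_R(M). -/
theorem result {R : Type u} [CommRing R] (S : Submonoid R) (M : Type u) [AddCommGroup M] [Module R M] : Module.length (Localization S) (LocalizedModule S M) ≤ Module.length R M := by
  let f := LocalizedModule.mkLinearMap S M
  let g : Submodule (Localization S) (LocalizedModule S M) → Submodule R M := fun N => (N.restrictScalars R).comap f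
  have hg : StrictMono g := by
    refine Monotone.strictMono_of_injective (fun a b h => Submodule.comap_mono h) fun a b h => ?_
    have key : ∀ a b : Submodule (Localization S) (LocalizedModule S M), g a ≤ g b → a ≤ b := fun a b h x hx => by
      obtain ⟨⟨m, s⟩, hs⟩ := IsLocalizedModule.surj S f x
      have hm : m ∈ g a := by
        change f m ∈ a
        rw [← hs]
        exact (a.restrictScalars R).smul_mem (s : R) hx
      have hmb : f m ∈ b := h hm
      have hx' : x = (Localization.mk 1 s : Localization S) • f m := by
        rw [← hs, Submonoid.smul_def, ← algebraMap_smul (Localization S) (s : R) x, ← mul_smul,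
          ← Localization.mk_one_eq_algebraMap, Localization.mk_mul, one_mul, mul_one]
        exact (Localization.mk_self s).symm ▸ (one_smul _ x).symm
      rw [hx']
      exact b.smul_mem _ hmb
    exact le_antisymm (key a b h.le) (key b a h.ge)
  rw [← WithBot.coe_le_coe, Module.coe_length, Module.coe_length]
  exact Order.krullDim_le_of_strictMono g hg

end Groth.Agent.S6312
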