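import Groth.Statements.S6318
import Mathlib.CategoryTheory.Preadditive.Projective.Resolution
import Mathlib.Algebra.Category.ModuleCat.Projective
import Mathlib.RingTheory.Noetherian.Basic
import Mathlib.Algebra.Homology.ShortComplex.ModuleCat

set_option autoImplicit false
universe u
open CategoryTheory
open CAlg

namespace Groth.Agent.S6318

variable {R : Type u} [CommRing R]

/-- the number of generators -/
noncomputable def rk (Z : {N : ModuleCat.{u} R // Module.Finite R N}) : ℕ :=
  haveI := Z.2
  (Module.Finite.exists_fin' R Z.1).choose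

/-- a free cover -/
noncomputable def cover (Z : {N : ModuleCat.{u} R // Module.Finite R N}) : (Fin (rk Z) → R) →ₗ[R] Z.1 :=
  haveI := Z.2
  (Module.Finite.exists_fin' R Z.1).choose_spec.choose

lemma cover_surjective (Z : {N : ModuleCat.{u} R // Module.Finite R N}) : Function.Surjective (cover Z) :=
  haveI := Z.2
  (Module.Finite.exists_fin' R Z.1).choose_spec.choose_spec

variable (R) in
/-- syzygies -/
noncomputable def syz [IsNoetherianRing R] (Z : {N : ModuleCat.{u} R // Module.Finite R N}) :
    ℕ → {N : ModuleCat.{u} R // Module.Finite R N}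
  | 0 => Z
  | k + 1 => ⟨ModuleCat.of R (LinearMap.ker (cover (syz Z k))), Module.Finite.iff_fg.2 (IsNoetherian.noetherian _)⟩

/-- Let R be a Noetherian ring and M a finite R-module. Then M has a resolution … → F₂ → F₁ → F₀ → M → 0
with every Fᵢ finite free; stated as the existence of a projective resolution of M in the category
of R-modules all of whose terms are finite free. -/
theorem result (R : Type u) [CommRing R] [IsNoetherianRing R] (M : Type u) [AddCommGroup M] [Module R M] [Module.Finite R M] : ∃ F : ProjectiveResolution (ModuleCat.of R M), ∀ n : ℕ, Module.Finite R (F.complex.X n) ∧ Module.Free R (F.complex.X n) := by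
  let Z := syz R ⟨ModuleCat.of R M, ‹Module.Finite R M›⟩
  let C : ChainComplex (ModuleCat.{u} R) ℕ := ChainComplex.of (fun k => ModuleCat.of R (Fin (rk (Z k)) → R))
    (fun k => ModuleCat.ofHom ((LinearMap.ker (cover (Z k))).subtype ∘ₗ cover (Z (k + 1))))
    fun k => ModuleCat.hom_ext (LinearMap.ext fun x => by
      change ((LinearMap.ker (cover (Z k))).subtype (cover (Z (k + 1)) (cover (Z (k + 1 + 1)) x).1)) = 0
      rw [show cover (Z (k + 1)) (cover (Z (k + 1 + 1)) x).1 = 0 from (cover (Z (k + 1 + 1)) x).2]
      exact map_zero _)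
  have hd : ∀ k, (C.d (k + 1) k).hom = (LinearMap.ker (cover (Z k))).subtype ∘ₗ cover (Z (k + 1)) := fun k => by
    simp only [C, ChainComplex.of_d]
    rfl
  have hd0 : C.d 1 0 ≫ ModuleCat.ofHom (cover (Z 0)) = 0 := ModuleCat.hom_ext (LinearMap.ext fun x => by
    change cover (Z 0) ((C.d 1 0).hom x) = 0
    rw [hd 0]
    exact (cover (Z 1) x).2)
  let F : ProjectiveResolution (ModuleCat.of R M) :=
    { complex := C
      projective := fun k => (IsProjective.iff_projective (C.X k)).1 (Module.Projective.of_free (R := R) (P := Fin (rk (Z k)) → R))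
      π := (ChainComplex.toSingle₀Equiv _ _).symm ⟨ModuleCat.ofHom (cover (Z 0)), hd0⟩
      quasiIso := ⟨fun k => by
        cases k with
        | zero =>
          rw [ChainComplex.quasiIsoAt₀_iff, ShortComplex.quasiIso_iff_of_zeros']
          · refine (ShortComplex.exact_and_epi_g_iff_of_iso ?_).1
              (⟨(ShortComplex.moduleCat_exact_iff _).2 fun x hx => ?_, (ModuleCat.epi_iff_surjective _).2 (cover_surjective (Z 0))⟩ :
                (ShortComplex.mk (C.d 1 0) (ModuleCat.ofHom (cover (Z 0))) hd0).Exact ∧ Epi (ModuleCat.ofHom (cover (Z 0))))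
            · refine ShortComplex.isoMk (Iso.refl _) (Iso.refl _) (Iso.refl _) ?_ ?_
              · exact (Category.id_comp _).trans (Category.comp_id _).symm
              · exact ((Category.id_comp _).trans (ChainComplex.toSingle₀Equiv_symm_apply_f_zero (C := C) (X := ModuleCat.of R M) (ModuleCat.ofHom (cover (Z 0))) hd0)).trans (Category.comp_id _).symm
            · obtain ⟨w, hw⟩ := cover_surjective (Z 1) ⟨x, hx⟩
              exact ⟨w, ((LinearMap.congr_fun (hd 0) w).trans (congrArg Subtype.val hw) :)⟩
          all_goals rfl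
        | succ k =>
          rw [quasiIsoAt_iff_exactAt' _ _ (ChainComplex.exactAt_succ_single_obj _ _),
            C.exactAt_iff' (k + 1 + 1) (k + 1) k (by simp) (by simp), ShortComplex.moduleCat_exact_iff]
          intro x hx
          have hx' : cover (Z (k + 1)) x = 0 := Subtype.ext ((LinearMap.congr_fun (hd k) x).symm.trans hx)
          obtain ⟨w, hw⟩ := cover_surjective (Z (k + 1 + 1)) ⟨x, hx'⟩
          exact ⟨w, ((LinearMap.congr_fun (hd (k + 1)) w).trans (congrArg Subtype.val hw) :)⟩⟩ }
  exact ⟨F, fun k => ⟨inferInstanceAs (Module.Finite R (Fin (rk (Z k)) → R)), inferInstanceAs (Module.Free R (Fin (rk (Z k)) → R))⟩⟩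

end Groth.Agent.S6318
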