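import Groth.Statements.S6321
import Mathlib.RingTheory.RingHom.FaithfullyFlat
import Mathlib.RingTheory.Flat.EquationalCriterion
import Mathlib.Algebra.Colimit.Ring

set_option autoImplicit false
universe u
open CAlg

namespace Groth.Agent.S6321

/-- Let R be a ring and (Sᵢ, φᵢⱼ) a directed system of faithfully flat R-algebras whose transition maps
are R-algebra maps. Then S = colim Sᵢ is a faithfully flat R-algebra: for any index i the composite
R → Sᵢ → S is faithfully flat. -/
theorem result {R : Type u} [CommRing R] {ι : Type u} [Preorder ι] [Nonempty ι] [IsDirected ι (· ≤ ·)] (G : ι → Type u) [∀ i, CommRing (G i)] [∀ i, Algebra R (G i)] (f : ∀ i j, i ≤ j → G i →+* G j) [DirectedSystem G fun i j h => f i j h] (hcompat : ∀ i j (h : i ≤ j), (f i j h).comp (algebraMap R (G i)) = algebraMap R (G j)) (hff : ∀ i, (algebraMap R (G i)).FaithfullyFlat) (i : ι) : ((Ring.DirectLimit.of G (fun i j h => f i j h) i).comp (algebraMap R (G i))).FaithfullyFlat := by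
  classical
  let S := Ring.DirectLimit G (fun i j h => f i j h)
  letI : Algebra R S := ((Ring.DirectLimit.of G (fun i j h => f i j h) i).comp (algebraMap R (G i))).toAlgebra
  haveI : ∀ k, Module.FaithfullyFlat R (G k) := fun k => RingHom.faithfullyFlat_algebraMap_iff.1 (hff k)
  let φ : ∀ k, G k →ₐ[R] S := fun k =>
    { Ring.DirectLimit.of G (fun i j h => f i j h) k with
      commutes' := fun r => by
        obtain ⟨l, hkl, hil⟩ := exists_ge_ge k i
        change Ring.DirectLimit.of G (fun i j h => f i j h) k (algebraMap R (G k) r) = Ring.DirectLimit.of G (fun i j h => f i j h) i (algebraMap R (G i) r)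
        rw [← Ring.DirectLimit.of_f hkl, ← Ring.DirectLimit.of_f hil]
        congr 1
        exact (DFunLike.congr_fun (hcompat k l hkl) r).trans (DFunLike.congr_fun (hcompat i l hil) r).symm }
  let τ : ∀ a b, a ≤ b → (G a →ₐ[R] G b) := fun a b h =>
    { f a b h with commutes' := fun r => DFunLike.congr_fun (hcompat a b h) r }
  have hτ : ∀ a b h x, φ b (τ a b h x) = φ a x := fun a b h x => Ring.DirectLimit.of_f h x
  have hsurj : ∀ z : S, ∃ k y, φ k y = z := fun z => Ring.DirectLimit.exists_of z
  have hzero : ∀ k (y : G k), φ k y = 0 → ∃ l h, τ k l h y = 0 := fun k y h => Ring.DirectLimit.of.zero_exact h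
  change Module.FaithfullyFlat R S
  haveI : Module.Flat R S := by
    refine Module.Flat.of_forall_isTrivialRelation fun {l r x} hx => ?_
    choose k y hy using fun a => hsurj (x a)
    obtain ⟨K, hK⟩ := Finite.exists_le k
    have h0 : φ K (∑ a, r a • τ (k a) K (hK a) (y a)) = 0 := by
      simp only [map_sum, map_smul, hτ, hy, hx]
    obtain ⟨L, hKL, hL⟩ := hzero K _ h0
    simp only [map_sum, map_smul] at hL
    obtain ⟨d, a, z, hz, ha⟩ := Module.Flat.isTrivialRelation_of_sum_smul_eq_zero hL
    refine ⟨d, a, fun j => φ L (z j), fun b => ?_, ha⟩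
    simpa only [hτ, hy, map_sum, map_smul] using congrArg (φ L) (hz b)
  refine ⟨fun m hm htop => ?_⟩
  have key : ∀ z ∈ m • (⊤ : Submodule R S), ∃ k y, y ∈ m • (⊤ : Submodule R (G k)) ∧ φ k y = z := by
    intro z hz
    induction hz using Submodule.smul_induction_on' with
    | smul r hr n _ =>
      obtain ⟨k, y, rfl⟩ := hsurj n
      exact ⟨k, r • y, Submodule.smul_mem_smul hr Submodule.mem_top, map_smul _ _ _⟩
    | add a _ b _ ha hb =>
      obtain ⟨k, y, hy, rfl⟩ := ha
      obtain ⟨k', y', hy', rfl⟩ := hb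
      obtain ⟨K, h, h'⟩ := exists_ge_ge k k'
      refine ⟨K, τ k K h y + τ k' K h' y', add_mem ?_ ?_, by rw [map_add, hτ, hτ]⟩
      · exact Submodule.smul_top_le_comap_smul_top m (τ k K h).toLinearMap hy
      · exact Submodule.smul_top_le_comap_smul_top m (τ k' K h').toLinearMap hy'
  obtain ⟨k, y, hy, hy1⟩ := key 1 (by rw [htop]; exact Submodule.mem_top)
  obtain ⟨L, h, hL⟩ := hzero k (y - 1) (by rw [map_sub, hy1, map_one, sub_self])
  rw [map_sub, map_one, sub_eq_zero] at hL
  have h1 : (1 : G L) ∈ m • (⊤ : Submodule R (G L)) := hL ▸ Submodule.smul_top_le_comap_smul_top m (τ k L h).toLinearMap hy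
  apply Module.FaithfullyFlat.submodule_ne_top (M := G L) hm
  rw [eq_top_iff]
  rintro x -
  simpa using Submodule.smul_top_le_comap_smul_top m (LinearMap.mulLeft R x) h1

end Groth.Agent.S6321
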