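import Groth.Statements.S6322
import Mathlib.CategoryTheory.Abelian.Projective.Resolution
import Mathlib.Algebra.Category.ModuleCat.Projective
import Mathlib.Algebra.Category.ModuleCat.Abelian

set_option autoImplicit false
universe u
open CategoryTheory
open CAlg

namespace Groth.Agent.S6322

open CategoryTheory Category Limits in
set_option backward.isDefEq.respectTransparency.types false in
set_option backward.defeqAttrib.useBackward true in
noncomputable def cok {R : Type u} [CommRing R] {N : ModuleCat.{u} R} (Nc : ChainComplex (ModuleCat.{u} R) ℕ)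
    (εN : Nc ⟶ (ChainComplex.single₀ (ModuleCat.{u} R)).obj N) [QuasiIso εN] (hd0 : Nc.d 1 0 ≫ εN.f 0 = 0) :
    IsColimit (CokernelCofork.ofπ (f := Nc.d 1 0) _ hd0) := by
  refine IsColimit.ofIsoColimit (Nc.opcyclesIsCokernel 1 0 (by simp)) ?_
  refine Cofork.ext (Nc.isoHomologyι₀.symm ≪≫ isoOfQuasiIsoAt εN 0 ≪≫
    HomologicalComplex.singleObjHomologySelfIso _ _ _) ?_
  rw [← cancel_mono (HomologicalComplex.singleObjHomologySelfIso (ComplexShape.down ℕ) 0 _).inv,
    ← cancel_mono (ChainComplex.isoHomologyι₀ _).hom]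
  dsimp
  simp only [ChainComplex.isoHomologyι₀_inv_naturality_assoc, HomologicalComplex.p_opcyclesMap_assoc, ChainComplex.single₀_obj_zero, assoc,
    Iso.hom_inv_id, comp_id, HomologicalComplex.isoHomologyι_inv_hom_id, HomologicalComplex.singleObjHomologySelfIso_inv_homologyι,
    HomologicalComplex.singleObjOpcyclesSelfIso_hom, HomologicalComplex.singleObjXSelf, Iso.refl_inv, id_comp]
  simp [HomologicalComplex.singleObjXIsoOfEq]

open CategoryTheory Category Limits

/-- Let R be a ring, M → N a map of R-modules, N• → N a resolution (a chain complex with a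
quasi-isomorphism onto N placed in degree 0) and … → F₁ → F₀ → M a complex with every Fᵢ free (F• a
chain complex with an augmentation to M in degree 0, exactness not required). Then (1) there is a
map of complexes F• → N• compatible with M → N through the augmentations, and (2) any two such maps
are homotopic. -/
theorem result (R : Type u) [CommRing R] (M N : ModuleCat.{u} R) (g : M ⟶ N) (F Nc : ChainComplex (ModuleCat.{u} R) ℕ) (hF : ∀ i, Module.Free R (F.X i)) (εF : F ⟶ (ChainComplex.single₀ (ModuleCat.{u} R)).obj M) (εN : Nc ⟶ (ChainComplex.single₀ (ModuleCat.{u} R)).obj N) [QuasiIso εN] : (∃ φ : F ⟶ Nc, φ ≫ εN = εF ≫ (ChainComplex.single₀ (ModuleCat.{u} R)).map g) ∧ ∀ α β : F ⟶ Nc, α ≫ εN = εF ≫ (ChainComplex.single₀ (ModuleCat.{u} R)).map g → β ≫ εN = εF ≫ (ChainComplex.single₀ (ModuleCat.{u} R)).map g → Nonempty (Homotopy α β) := by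
  haveI : ∀ i, Projective (F.X i) := fun i => by
    haveI := hF i
    exact (IsProjective.iff_projective (F.X i)).1 inferInstance
  have hd0 : Nc.d 1 0 ≫ εN.f 0 = 0 := by rw [← εN.comm 1 0, HomologicalComplex.single_obj_d, comp_zero]
  have hexs : ∀ n, (ShortComplex.mk _ _ (Nc.d_comp_d (n + 2) (n + 1) n)).Exact := fun n => by
    have h : Nc.ExactAt (n + 1) := by
      rw [← quasiIsoAt_iff_exactAt' εN (n + 1) (ChainComplex.exactAt_succ_single_obj _ _)]
      infer_instance
    exact ((HomologicalComplex.exactAt_iff' _ (n + 2) (n + 1) n (by simp) (by simp)).1 h)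
  let hcok : IsColimit (CokernelCofork.ofπ (f := Nc.d 1 0) _ hd0) := cok Nc εN hd0
  have hex0 : (ShortComplex.mk _ _ hd0).Exact := ShortComplex.exact_of_g_is_cokernel _ hcok
  haveI : Epi (εN.f 0) := epi_of_isColimit_cofork hcok
  haveI hepi : Epi (εN.f 0) := inferInstance
  have comm0 : F.d 1 0 ≫ εF.f 0 = 0 := by rw [← εF.comm 1 0, HomologicalComplex.single_obj_d, comp_zero]
  constructor
  · let f0 : F.X 0 ⟶ Nc.X 0 := Projective.factorThru (εF.f 0 ≫ ((ChainComplex.single₀ _).map g).f 0) (εN.f 0)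
    have hf0 : f0 ≫ εN.f 0 = εF.f 0 ≫ ((ChainComplex.single₀ _).map g).f 0 := Projective.factorThru_comp _ _
    have h1 : (F.d 1 0 ≫ f0) ≫ εN.f 0 = 0 := by rw [assoc, hf0, reassoc_of% comm0, zero_comp]
    refine ⟨ChainComplex.mkHom _ _ f0 (hex0.liftFromProjective _ h1) (hex0.liftFromProjective_comp _ h1)
      (fun n p => ⟨(hexs n).liftFromProjective (F.d (n + 2) (n + 1) ≫ p.2.1) (by simp [p.2.2]),
        (hexs n).liftFromProjective_comp _ _⟩), ?_⟩
    refine HomologicalComplex.to_single_hom_ext ?_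
    simpa using hf0
  intro α β hα hβ
  let f : F ⟶ Nc := α - β
  have hf : f ≫ εN = 0 := by simp [f, hα, hβ]
  have z0 : f.f 0 ≫ εN.f 0 = 0 := by rw [← HomologicalComplex.comp_f, hf, HomologicalComplex.zero_f]
  let s0 := hex0.liftFromProjective (f.f 0) z0
  have hs0 : s0 ≫ Nc.d 1 0 = f.f 0 := hex0.liftFromProjective_comp _ z0
  have z1 : (f.f 1 - F.d 1 0 ≫ s0) ≫ Nc.d 1 0 = 0 := by
    rw [Preadditive.sub_comp, assoc, HomologicalComplex.Hom.comm, hs0, sub_self]
  let s1 := (hexs 0).liftFromProjective (f.f 1 - F.d 1 0 ≫ s0) z1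
  have hs1 : s1 ≫ Nc.d 2 1 = f.f 1 - F.d 1 0 ≫ s0 := (hexs 0).liftFromProjective_comp _ z1
  refine ⟨Homotopy.equivSubZero.invFun (Homotopy.mkInductive f s0 hs0.symm s1 (by rw [hs1]; abel)
    (fun n p => ⟨(hexs (n + 1)).liftFromProjective (f.f (n + 2) - F.d _ _ ≫ p.2.1) (by simp [p.2.2]), ?_⟩))⟩
  have := (hexs (n + 1)).liftFromProjective_comp (f.f (n + 2) - F.d _ _ ≫ p.2.1) (by simp [p.2.2])
  dsimp at this ⊢
  rw [this]
  abel

end Groth.Agent.S6322
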