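import Groth.Statements.S6324
import Mathlib.RingTheory.ReesAlgebra
import Mathlib.RingTheory.IntegralClosure.IsIntegral.Defs
import Mathlib.Algebra.Polynomial.Monic
import Mathlib.Algebra.Polynomial.Eval.Degree
import Mathlib.Algebra.BigOperators.Intervals

set_option autoImplicit false
universe u
open CAlg

namespace Groth.Agent.S6324

/-- Let R → S be a ring map, I ⊆ R an ideal and A = Σ Iⁿtⁿ ⊆ R[t] the Rees algebra of I. For s ∈ S,
being integral over I is equivalent to s·t ∈ S[t] being integral over A (via A ⊆ R[t] → S[t]). -/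
theorem result {R S : Type u} [CommRing R] [CommRing S] [Algebra R S] (I : Ideal R) (s : S) : W4stkalgebra1.IsIntegralOverIdeal I s ↔ ((Polynomial.mapRingHom (algebraMap R S)).comp (reesAlgebra I).val.toRingHom).IsIntegralElem (Polynomial.C s * Polynomial.X) := by
  classical
  rcases subsingleton_or_nontrivial R with hR | hR
  · haveI : Subsingleton S := (algebraMap R S).codomain_trivial
    exact ⟨fun _ => ⟨1, Polynomial.monic_one, Subsingleton.elim _ _⟩,
      fun _ => ⟨1, Polynomial.monic_one, by intro j hj; simp at hj, Subsingleton.elim _ _⟩⟩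
  let θ : reesAlgebra I →+* Polynomial S := (Polynomial.mapRingHom (algebraMap R S)).comp (reesAlgebra I).val.toRingHom
  constructor
  · rintro ⟨p, hp, hc, he⟩
    let d := p.natDegree
    let co : Fin d → reesAlgebra I := fun j => ⟨Polynomial.monomial (d - j) (p.coeff j), reesAlgebra.monomial_mem.2 (hc j j.2)⟩
    refine ⟨Polynomial.X ^ d + ∑ j : Fin d, Polynomial.C (co j) * Polynomial.X ^ (j : ℕ),
      Polynomial.monic_X_pow_add (Polynomial.degree_sum_fin_lt co), ?_⟩
    rw [Polynomial.eval₂_add, Polynomial.eval₂_X_pow, Polynomial.eval₂_finsetSum]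
    have hterm : ∀ j : Fin d, Polynomial.eval₂ θ (Polynomial.C s * Polynomial.X) (Polynomial.C (co j) * Polynomial.X ^ (j : ℕ)) =
        Polynomial.C (algebraMap R S (p.coeff j) * s ^ (j : ℕ)) * Polynomial.X ^ d := fun j => by
      rw [Polynomial.eval₂_mul, Polynomial.eval₂_C, Polynomial.eval₂_X_pow]
      show Polynomial.map (algebraMap R S) (Polynomial.monomial (d - j) (p.coeff j)) * _ = _
      rw [Polynomial.map_monomial, ← Polynomial.C_mul_X_pow_eq_monomial, mul_pow, map_mul, map_pow,
        mul_mul_mul_comm, ← pow_add, Nat.sub_add_cancel j.2.le]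
    rw [Finset.sum_congr rfl fun j _ => hterm j, mul_pow, ← map_pow, ← Finset.sum_mul, ← map_sum, ← add_mul, ← map_add]
    have : s ^ d + ∑ j : Fin d, algebraMap R S (p.coeff j) * s ^ (j : ℕ) = 0 := by
      rw [← he, Polynomial.eval₂_eq_sum_range, Finset.sum_range_succ, hp.coeff_natDegree, map_one, one_mul,
        Finset.sum_range, add_comm]
    rw [this, map_zero, zero_mul]
  · rintro ⟨P, hP, he⟩
    let d := P.natDegree
    let r : Fin d → R := fun j => (P.coeff j).1.coeff (d - j)
    refine ⟨Polynomial.X ^ d + ∑ j : Fin d, Polynomial.C (r j) * Polynomial.X ^ (j : ℕ),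
      Polynomial.monic_X_pow_add (Polynomial.degree_sum_fin_lt r), ?_, ?_⟩
    · have hdeg : (Polynomial.X ^ d + ∑ j : Fin d, Polynomial.C (r j) * Polynomial.X ^ (j : ℕ)).natDegree = d :=
        Polynomial.natDegree_eq_of_degree_eq_some (by
          rw [Polynomial.degree_add_eq_left_of_degree_lt (by rw [Polynomial.degree_X_pow]; exact Polynomial.degree_sum_fin_lt r),
            Polynomial.degree_X_pow])
      rw [hdeg]
      intro j hj
      rw [Polynomial.coeff_add, Polynomial.coeff_X_pow, if_neg hj.ne, zero_add, Polynomial.finsetSum_coeff,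
        Finset.sum_eq_single (⟨j, hj⟩ : Fin d)]
      · rw [Polynomial.coeff_C_mul_X_pow, if_pos rfl]
        exact (mem_reesAlgebra_iff I _).1 (P.coeff j).2 (d - j)
      · intro b _ hb
        rw [Polynomial.coeff_C_mul_X_pow, if_neg fun h => hb (Fin.ext h.symm)]
      · simp
    · have h := congrArg (fun q => Polynomial.coeff q d) he
      simp only [Polynomial.coeff_zero] at h
      rw [Polynomial.eval₂_eq_sum_range, Finset.sum_range_succ, hP.coeff_natDegree, map_one, one_mul, Finset.sum_range,
        Polynomial.coeff_add, Polynomial.finsetSum_coeff, mul_pow, ← map_pow, Polynomial.coeff_C_mul_X_pow, if_pos rfl, add_comm] at h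
      rw [Polynomial.eval₂_add, Polynomial.eval₂_X_pow, Polynomial.eval₂_finsetSum]
      refine Eq.trans (congrArg (s ^ d + ·) (Finset.sum_congr rfl fun j _ => ?_)) h
      rw [Polynomial.eval₂_mul, Polynomial.eval₂_C, Polynomial.eval₂_X_pow]
      show _ = (Polynomial.map (algebraMap R S) (P.coeff j).1 * (Polynomial.C s * Polynomial.X) ^ (j : ℕ)).coeff d
      rw [mul_pow, ← map_pow, ← mul_assoc, Polynomial.coeff_mul_X_pow', if_pos j.2.le, Polynomial.coeff_mul_C, Polynomial.coeff_map]

end Groth.Agent.S6324
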