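import Groth.Statements.S6325
import Groth.Agent.S6324
import Mathlib.RingTheory.IntegralClosure.IsIntegral.Basic
import Mathlib.RingTheory.IntegralClosure.Algebra.Basic

set_option autoImplicit false
universe u
open CAlg

namespace Groth.Agent.S6325

/-- Let R → S be a ring map and I ⊆ R an ideal. The elements of S integral over I form an R-submodule of
S; moreover, the product s s' is integral over I for any s ∈ S integral over R and any s' ∈ S
integral over I. -/
theorem result {R S : Type u} [CommRing R] [CommRing S] [Algebra R S] (I : Ideal R) : (∃ N : Submodule R S, ∀ s : S, s ∈ N ↔ W4stkalgebra1.IsIntegralOverIdeal I s) ∧ (∀ s s' : S, IsIntegral R s → W4stkalgebra1.IsIntegralOverIdeal I s' → W4stkalgebra1.IsIntegralOverIdeal I (s * s')) := by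
  classical
  let θ : reesAlgebra I →+* Polynomial S := (Polynomial.mapRingHom (algebraMap R S)).comp (reesAlgebra I).val.toRingHom
  have hiff : ∀ t : S, W4stkalgebra1.IsIntegralOverIdeal I t ↔ θ.IsIntegralElem (Polynomial.C t * Polynomial.X) :=
    fun t => Groth.Agent.S6324.result I t
  have hC : ∀ t : S, IsIntegral R t → θ.IsIntegralElem (Polynomial.C t) := by
    rintro t ⟨q, hq, hq0⟩
    refine ⟨q.map (algebraMap R (reesAlgebra I)), hq.map _, ?_⟩
    have hθ : θ.comp (algebraMap R (reesAlgebra I)) = (Polynomial.C : S →+* Polynomial S).comp (algebraMap R S) :=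
      RingHom.ext fun r => by
        show Polynomial.map (algebraMap R S) (Polynomial.C r) = _
        rw [Polynomial.map_C]; rfl
    rw [Polynomial.eval₂_map, hθ, ← Polynomial.hom_eval₂, hq0, map_zero]
  refine ⟨⟨{ carrier := {t | W4stkalgebra1.IsIntegralOverIdeal I t}, add_mem' := ?_, zero_mem' := ?_, smul_mem' := ?_ }, fun t => Iff.rfl⟩,
    fun t t' ht ht' => ?_⟩
  · intro a b ha hb
    show W4stkalgebra1.IsIntegralOverIdeal I (a + b)
    rw [hiff, map_add, add_mul]
    exact (@IsIntegral.add _ _ _ _ θ.toAlgebra _ _) ((hiff a).1 ha) ((hiff b).1 hb)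
  · show W4stkalgebra1.IsIntegralOverIdeal I 0
    rw [hiff, map_zero, zero_mul]
    exact @isIntegral_zero _ _ _ _ θ.toAlgebra
  · intro r t ht
    show W4stkalgebra1.IsIntegralOverIdeal I (r • t)
    rw [hiff, Algebra.smul_def, map_mul, mul_assoc]
    exact (@IsIntegral.mul _ _ _ _ θ.toAlgebra _ _) (hC _ isIntegral_algebraMap) ((hiff t).1 ht)
  · rw [hiff, map_mul, mul_assoc]
    exact (@IsIntegral.mul _ _ _ _ θ.toAlgebra _ _) (hC t ht) ((hiff t').1 ht')

end Groth.Agent.S6325
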