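import Groth.Statements.S6326
import Mathlib.Algebra.Category.ModuleCat.Colimits
import Mathlib.Algebra.Category.ModuleCat.FilteredColimits
import Mathlib.CategoryTheory.Limits.Types.Filtered
import Mathlib.CategoryTheory.Limits.Preserves.Filtered
import Mathlib.RingTheory.Finiteness.Basic
import Mathlib.CategoryTheory.Limits.ConcreteCategory.Basic

set_option autoImplicit false
universe u
open CategoryTheory CategoryTheory.Limits
open CAlg

namespace Groth.Agent.S6326

/-- Let R be a ring and N an R-module such that whenever M is the colimit of a filtered diagram (Mᵢ) of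
R-modules (indexed by a filtered category in the same universe), the comparison map colim Hom_R(N,
Mᵢ) → Hom_R(N, M) is injective. Then N is finitely generated. (The implication from finite
generation back to this injectivity also holds; only the characterizing direction is stated here.) -/
theorem result (R : Type u) [CommRing R] (N : Type u) [AddCommGroup N] [Module R N] (h : ∀ (J : Type u) [SmallCategory J] [IsFiltered J] (F : J ⥤ ModuleCat.{u} R), Function.Injective (colimit.post F (coyoneda.obj (Opposite.op (ModuleCat.of R N))))) : Module.Finite R N := by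
  classical
  let J : Type u := {N' : Submodule R N // N'.FG}
  haveI : IsDirected J (· ≤ ·) := ⟨fun a b => ⟨⟨a.1 ⊔ b.1, a.2.sup b.2⟩, le_sup_left (a := a.1), le_sup_right (b := b.1)⟩⟩
  haveI : Nonempty J := ⟨⟨⊥, Submodule.fg_bot⟩⟩
  let F : J ⥤ ModuleCat.{u} R :=
    { obj := fun j => ModuleCat.of R (N ⧸ j.1)
      map := fun {i j} hij => ModuleCat.ofHom (Submodule.mapQ i.1 j.1 LinearMap.id (leOfHom hij))
      map_id := fun j => ModuleCat.hom_ext (Submodule.linearMap_qext _ (LinearMap.ext fun x => rfl))
      map_comp := fun f g => ModuleCat.hom_ext (Submodule.linearMap_qext _ (LinearMap.ext fun x => rfl)) }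
  have hzero : ∀ z : (colimit F : ModuleCat.{u} R), z = 0 := fun z => by
    obtain ⟨j, y, rfl⟩ := Concrete.colimit_exists_rep F z
    obtain ⟨x, rfl⟩ := Submodule.mkQ_surjective _ y
    let k : J := ⟨j.1 ⊔ Submodule.span R {x}, j.2.sup (Submodule.fg_span_singleton x)⟩
    have hjk : j ≤ k := le_sup_left (a := j.1)
    rw [← colimit.w F (homOfLE hjk), ConcreteCategory.comp_apply]
    refine Eq.trans (congrArg _ ?_) (map_zero (colimit.ι F k).hom)
    exact (Submodule.Quotient.mk_eq_zero _).2 (Submodule.mem_sup_right (Submodule.mem_span_singleton_self x))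
  let G := F ⋙ coyoneda.obj (Opposite.op (ModuleCat.of R N))
  let j₀ : J := ⟨⊥, Submodule.fg_bot⟩
  let a : G.obj j₀ := ModuleCat.ofHom (j₀.1.mkQ)
  let b : G.obj j₀ := ModuleCat.ofHom 0
  have he : colimit.ι G j₀ a = colimit.ι G j₀ b := by
    refine h J F (ModuleCat.hom_ext (LinearMap.ext fun x => ?_))
    exact (hzero _).trans (hzero _).symm
  obtain ⟨k, f, g, hfg⟩ := (Types.FilteredColimit.colimit_eq_iff G).1 he
  refine ⟨?_⟩
  rw [show (⊤ : Submodule R N) = k.1 from (eq_top_iff.2 fun x _ => ?_).symm]
  · exact k.2
  · have := congrArg (fun φ : ModuleCat.of R N ⟶ F.obj k => φ.hom x) hfg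
    exact (Submodule.Quotient.mk_eq_zero _).1 (this.trans (map_zero (F.map g).hom))

end Groth.Agent.S6326
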