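import Groth.Statements.S6327
import Groth.Agent.Alg.FPColimit
import Mathlib.Algebra.Category.ModuleCat.Limits
import Mathlib.Algebra.Category.ModuleCat.Colimits
import Mathlib.CategoryTheory.Filtered.Basic

set_option autoImplicit false
universe u
open CategoryTheory CategoryTheory.Limits
open CAlg

namespace Groth.Agent.S6327

/-- Let R be a ring and N an R-module such that whenever M is the colimit of a filtered diagram (Mᵢ) of
R-modules (indexed by a filtered category in the same universe), the comparison map colim Hom_R(N,
Mᵢ) → Hom_R(N, M) is bijective. Then N is finitely presented. (The implication from finite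
presentation back to this bijectivity also holds; only the characterizing direction is stated here.) -/
theorem result (R : Type u) [CommRing R] (N : Type u) [AddCommGroup N] [Module R N] (h : ∀ (J : Type u) [SmallCategory J] [IsFiltered J] (F : J ⥤ ModuleCat.{u} R), Function.Bijective (colimit.post F (coyoneda.obj (Opposite.op (ModuleCat.of R N))))) : Module.FinitePresentation R N := by
  classical
  let D := ModuleCat.directLimitDiagram (R := R) (Groth.Agent.Alg.FPColimit.G (R := R) (M := N))
    Groth.Agent.Alg.FPColimit.tr
  let c := ModuleCat.directLimitCocone (R := R) (Groth.Agent.Alg.FPColimit.G (R := R) (M := N))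
    Groth.Agent.Alg.FPColimit.tr
  let hc : IsColimit c := ModuleCat.directLimitIsColimit _ _
  let iso := colimit.isoColimitCocone ⟨c, hc⟩
  let e := LinearEquiv.ofBijective _ (Groth.Agent.Alg.FPColimit.bijective_lift (R := R) (M := N))
  haveI : IsFiltered (Groth.Agent.Alg.FPColimit.Idx R N) := inferInstance
  obtain ⟨y, hy⟩ := (h _ D).2 ((ModuleCat.ofHom e.symm.toLinearMap ≫ iso.inv :
    ModuleCat.of R N ⟶ colimit D))
  obtain ⟨i, s, rfl⟩ := Types.jointly_surjective' y
  have h1 := ConcreteCategory.congr_hom (colimit.ι_post D (coyoneda.obj (Opposite.op (ModuleCat.of R N))) i) s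
  have h2 : s ≫ colimit.ι D i = ModuleCat.ofHom e.symm.toLinearMap ≫ iso.inv := by
    rw [← hy]; exact h1.symm
  have h3 : s ≫ c.ι.app i = ModuleCat.ofHom e.symm.toLinearMap := by
    have h4 := congrArg (· ≫ iso.hom) h2
    simp only [Category.assoc, iso, colimit.isoColimitCocone_ι_hom] at h4
    refine h4.trans ?_
    erw [Iso.inv_hom_id, Category.comp_id]
  let p : Groth.Agent.Alg.FPColimit.G i →ₗ[R] N :=
    Groth.Agent.Alg.FPColimit.proj (R := R) (M := N) i
  have hps : p ∘ₗ s.hom = LinearMap.id := LinearMap.ext fun x => by
    have h5 : Module.DirectLimit.of R _ Groth.Agent.Alg.FPColimit.G Groth.Agent.Alg.FPColimit.tr i (s.hom x) =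
        e.symm x := congrArg (fun φ : ModuleCat.of R N ⟶ c.pt => φ.hom x) h3
    have h6 := congrArg e h5
    rw [LinearEquiv.apply_symm_apply] at h6
    refine Eq.trans ?_ h6
    exact (Module.DirectLimit.lift_of (f := Groth.Agent.Alg.FPColimit.tr) Groth.Agent.Alg.FPColimit.proj
      Groth.Agent.Alg.FPColimit.proj_tr (s.hom x)).symm
  haveI := Groth.Agent.Alg.FPColimit.fp (R := R) (M := N) i
  refine Module.finitePresentation_of_surjective p (fun x => ⟨s.hom x, LinearMap.congr_fun hps x⟩) ?_
  rw [LinearMap.ker_eq_range_of_comp_eq_id hps]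
  exact Module.Finite.iff_fg.mp (Module.Finite.range _)

end Groth.Agent.S6327
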