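import Groth.Statements.S6330
import Groth.Agent.S6308
import Mathlib.RingTheory.Localization.BaseChange
import Mathlib.RingTheory.Localization.Finiteness
import Mathlib.RingTheory.TensorProduct.Free

set_option autoImplicit false
universe u
open scoped TensorProduct
open CAlg

namespace Groth.Agent.S6330

/-- Let R be a ring and φ : P₁ → P₂ a map of finite projective R-modules. The set W of primes p of R
such that φ ⊗ κ(p) is surjective is open, and for every f ∈ R with D(f) ⊆ W the map (P₁)_f → (P₂)_f
is surjective and Ker(φ)_f is a finite projective module over R_f. -/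
theorem result {R : Type u} [CommRing R] {P₁ P₂ : Type u} [AddCommGroup P₁] [Module R P₁] [AddCommGroup P₂] [Module R P₂] [Module.Finite R P₁] [Module.Projective R P₁] [Module.Finite R P₂] [Module.Projective R P₂] (φ : P₁ →ₗ[R] P₂) : IsOpen {p : PrimeSpectrum R | Function.Surjective (φ.lTensor p.asIdeal.ResidueField)} ∧ ∀ f : R, (↑(PrimeSpectrum.basicOpen f) : Set (PrimeSpectrum R)) ⊆ {p : PrimeSpectrum R | Function.Surjective (φ.lTensor p.asIdeal.ResidueField)} → Function.Surjective (LocalizedModule.map (Submonoid.powers f) φ) ∧ Module.Finite (Localization.Away f) (LocalizedModule (Submonoid.powers f) (LinearMap.ker φ)) ∧ Module.Projective (Localization.Away f) (LocalizedModule (Submonoid.powers f) (LinearMap.ker φ)) := by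
  obtain ⟨h1, h2, h3⟩ := Groth.Agent.S6308.result φ
  have hset : {p : PrimeSpectrum R | Function.Surjective (φ.lTensor p.asIdeal.ResidueField)} =
      {p : PrimeSpectrum R | Function.Surjective (LocalizedModule.map p.asIdeal.primeCompl φ)} := Set.ext fun p => (h1 p).symm
  refine ⟨hset ▸ h2, fun f hf => ?_⟩
  have hs := h3 f (hset ▸ hf)
  refine ⟨hs, ?_⟩
  let S := Submonoid.powers f
  obtain ⟨g, hg⟩ := (Module.Finite.fg_top : (⊤ : Submodule R P₂).FG)
  classical
  have hk : ∃ k : ℕ, ∀ x : P₂, f ^ k • x ∈ LinearMap.range φ := by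
    have key := (Groth.Agent.S6308.surjective_localizedMap_iff S φ).1 hs
    choose s hsS hs' using key
    choose e he using hsS
    refine ⟨g.sup e, fun x => ?_⟩
    have hx : x ∈ Submodule.span R (g : Set P₂) := hg ▸ Submodule.mem_top
    refine Submodule.span_induction (p := fun y _ => f ^ (g.sup e) • y ∈ LinearMap.range φ) (fun y hy => ?_)
      (by simp) (fun a b _ _ ha hb => by rw [smul_add]; exact add_mem ha hb)
      (fun c a _ ha => by rw [smul_comm]; exact Submodule.smul_mem _ c ha) hx
    have h4 := hs' y
    rw [← show f ^ (e y) = s y from he y] at h4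
    rw [← Nat.sub_add_cancel (Finset.le_sup (f := e) hy), pow_add, mul_smul]
    exact Submodule.smul_mem _ _ h4
  obtain ⟨k, hk⟩ := hk
  obtain ⟨W, hW⟩ := Module.projective_lifting_property φ.rangeRestrict
    ((f ^ k • LinearMap.id : P₂ →ₗ[R] P₂).codRestrict _ hk) φ.surjective_rangeRestrict
  have hW' : ∀ y, φ (W y) = f ^ k • y := fun y => congrArg Subtype.val (LinearMap.congr_fun hW y)
  let r : P₁ →ₗ[R] LinearMap.ker φ := (f ^ k • LinearMap.id - W ∘ₗ φ).codRestrict _ fun x => by
    simp [LinearMap.mem_ker, hW']
  obtain ⟨i, hi⟩ : ∃ i : Localization S, algebraMap R _ (f ^ k) * i = 1 :=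
    ⟨IsLocalization.mk' _ 1 (⟨f ^ k, k, rfl⟩ : S), by rw [mul_comm, IsLocalization.mk'_spec, map_one]⟩
  have hsec : (i • LocalizedModule.map S r) ∘ₗ LocalizedModule.map S (LinearMap.ker φ).subtype = LinearMap.id :=
    LinearMap.ext fun x => by
      induction x using LocalizedModule.induction_on with
      | h m s =>
        rw [LinearMap.comp_apply, LinearMap.smul_apply, LocalizedModule.map_mk, LocalizedModule.map_mk,
          show r ((LinearMap.ker φ).subtype m) = f ^ k • m from Subtype.ext (by
            simp [r, show φ (m : P₁) = 0 from m.2]), ← LocalizedModule.smul'_mk,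
          ← algebraMap_smul (Localization S) (f ^ k), smul_smul, mul_comm, hi, one_smul]
        rfl
  haveI : Module.Projective (Localization S) (LocalizedModule S P₁) :=
    Module.Projective.of_equiv (LocalizedModule.equivTensorProduct S P₁).symm
  exact ⟨Module.Finite.of_surjective (i • LocalizedModule.map S r) (fun y => ⟨_, LinearMap.congr_fun hsec y⟩),
    Module.Projective.of_split _ _ hsec⟩

end Groth.Agent.S6330
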