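import Groth.Statements.S6331
import Mathlib.Dynamics.Newton
import Mathlib.RingTheory.Ideal.Quotient.Operations
import Mathlib.RingTheory.Nilpotent.Basic

set_option autoImplicit false
universe u
open CAlg

namespace Groth.Agent.S6331

/-- Let R be a ring, I ⊆ R an ideal all of whose elements are nilpotent, and n ≥ 1 an integer whose
image in R/I is invertible. Then (1) raising to the n-th power is a bijection of the subset 1 + I of
R onto itself: for every y ∈ I there is exactly one x ∈ I with (1 + x)ⁿ = 1 + y; (2) a unit u of R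
has an n-th root in R exactly when the residue class of u has an n-th root in R/I. -/
theorem result {R : Type u} [CommRing R] (I : Ideal R) (hI : ∀ x ∈ I, IsNilpotent x) (n : ℕ) (hn : 1 ≤ n) (hinv : IsUnit ((n : ℕ) : R ⧸ I)) : (∀ y ∈ I, ∃! x : R, x ∈ I ∧ (1 + x) ^ n = 1 + y) ∧ (∀ u : Rˣ, (∃ v : R, v ^ n = (u : R)) ↔ ∃ w : R ⧸ I, w ^ n = Ideal.Quotient.mk I (u : R)) := by
  have hunit : IsUnit (n : R) := by
    obtain ⟨v, hv⟩ := isUnit_iff_exists_inv.1 hinv
    obtain ⟨v, rfl⟩ := Ideal.Quotient.mk_surjective v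
    rw [← map_natCast (Ideal.Quotient.mk I), ← map_mul, ← sub_eq_zero, ← map_one (Ideal.Quotient.mk I), ← map_sub,
      Ideal.Quotient.eq_zero_iff_mem] at hv
    have := (hI _ hv).isUnit_one_add
    rw [add_sub_cancel] at this
    exact isUnit_of_mul_isUnit_left this
  have h1 : ∀ y ∈ I, ∃! x : R, x ∈ I ∧ (1 + x) ^ n = 1 + y := fun y hy => by
    let P : Polynomial R := Polynomial.X ^ n - Polynomial.C (1 + y)
    have haev : ∀ r : R, Polynomial.aeval r P = r ^ n - (1 + y) := fun r => by simp [P]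
    obtain ⟨r, ⟨hr, hr'⟩, huniq⟩ := Polynomial.existsUnique_nilpotent_sub_and_aeval_eq_zero (x := (1 : R)) (P := P)
      (by simpa [haev] using (hI y hy).neg) (by simpa [P, Polynomial.derivative_X_pow] using hunit)
    rw [haev, sub_eq_zero] at hr'
    have hrI : r - 1 ∈ I := by
      have hnil : IsNilpotent (Ideal.Quotient.mk I r - 1) := by
        simpa using (hr.map (Ideal.Quotient.mk I)).neg
      have hg : (Ideal.Quotient.mk I r) ^ n = 1 := by
        rw [← map_pow, hr', map_add, map_one, Ideal.Quotient.eq_zero_iff_mem.2 hy, add_zero]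
      rw [← Ideal.Quotient.eq_zero_iff_mem, map_sub, map_one]
      have e := geom_sum_mul (Ideal.Quotient.mk I r) n
      rw [hg, sub_self] at e
      have hu : IsUnit (∑ i ∈ Finset.range n, (Ideal.Quotient.mk I r) ^ i) := by
        have hdiff : IsNilpotent (∑ i ∈ Finset.range n, ((Ideal.Quotient.mk I r) ^ i - 1)) :=
          isNilpotent_sum fun i _ => by
            rw [← geom_sum_mul]
            exact (Commute.all _ _).isNilpotent_mul_left hnil
        have := hdiff.isUnit_add_left_of_commute hinv (Commute.all _ _)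
        simpa [Finset.sum_sub_distrib] using this
      exact hu.mul_right_eq_zero.1 e
    refine ⟨r - 1, ⟨hrI, by rw [add_sub_cancel, hr']⟩, fun x ⟨hx, hx'⟩ => ?_⟩
    rw [← huniq (1 + x) ⟨by simpa using (hI x hx).neg, by rw [haev, hx', sub_self]⟩]
    ring
  refine ⟨h1, fun u => ⟨fun ⟨v, hv⟩ => ⟨Ideal.Quotient.mk I v, by rw [← map_pow, hv]⟩, fun ⟨w, hw⟩ => ?_⟩⟩
  obtain ⟨v, rfl⟩ := Ideal.Quotient.mk_surjective w
  have hy : (↑u⁻¹ : R) * v ^ n - 1 ∈ I := by
    rw [← Ideal.Quotient.eq_zero_iff_mem, map_sub, map_mul, map_pow, hw, ← map_mul, Units.inv_mul, sub_self]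
  obtain ⟨x, ⟨hx, hxe⟩, -⟩ := h1 _ hy
  obtain ⟨w, hw'⟩ := (hI x hx).isUnit_one_add
  refine ⟨v * ↑w⁻¹, ?_⟩
  rw [add_sub_cancel, ← hw'] at hxe
  calc (v * ↑w⁻¹) ^ n = ↑u * (↑u⁻¹ * v ^ n) * (↑w⁻¹ : R) ^ n := by rw [mul_pow, Units.mul_inv_cancel_left]
    _ = ↑u := by rw [← hxe, mul_assoc, ← mul_pow, Units.mul_inv, one_pow, mul_one]

end Groth.Agent.S6331
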