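import Groth.Statements.S6336
-- import your own Groth.Agent.* helpers here

set_option autoImplicit false
universe u
open Fields

namespace Groth.Agent.S6336

open IntermediateField Polynomial in
/-- With an added hypothesis: let L/K be a finite extension of degree e generated by a single element a
whose e-th power lies in K, and assume that the polynomial X ^ e - 1 splits into linear factors over
K (so every e-th root of unity of any extension of K already lies in K; this holds when K contains a
primitive e-th root of unity, and when e is a power of the characteristic). Then every intermediate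
field of L/K is generated by a ^ d for some divisor d of e. (The published statement has no
hypothesis on roots of unity; for K the rationals and a a primitive 8-th root of unity, e = 4 and a
^ 4 = -1, the intermediate field generated by a + a⁻¹, a square root of 2, is none of K(a), K(a ^
2), K(a ^ 4); the published proof uses that the e-th roots of unity met are fixed by the
automorphisms it constructs, which the splitting hypothesis guarantees.) -/
theorem result {K L : Type u} [Field K] [Field L] [Algebra K L]
    [FiniteDimensional K L] (a : L) (ha : K⟮a⟯ = ⊤)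
    (hpow : a ^ Module.finrank K L ∈ Set.range (algebraMap K L))
    (hroots : (X ^ Module.finrank K L - 1 : K[X]).Splits) (L' : IntermediateField K L) :
    ∃ d : ℕ, d ∣ Module.finrank K L ∧ L' = K⟮a ^ d⟯ := by
  classical
  set e := Module.finrank K L with he
  have he0 : 0 < e := Module.finrank_pos
  rcases eq_or_ne a 0 with rfl | ha0
  · have hbot : (⊥ : IntermediateField K L) = ⊤ := by rw [← ha, IntermediateField.adjoin_zero]
    refine ⟨1, one_dvd _, ?_⟩
    rw [pow_one, ha]
    exact le_antisymm le_top (hbot ▸ bot_le)
  obtain ⟨c, hc⟩ := hpow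
  have hint : IsIntegral L' a := Algebra.IsIntegral.isIntegral a
  set P : L'[X] := minpoly L' a with hP
  set d := P.natDegree with hd
  have htop : L'⟮a⟯ = ⊤ := IntermediateField.adjoin_eq_top_of_adjoin_eq_top (F := K) (E := L') (K := L) ha
  have hdL : d = Module.finrank L' L := by
    rw [hd, hP, ← IntermediateField.adjoin.finrank hint, htop, IntermediateField.finrank_top']
  have hmul : Module.finrank K L' * d = e := by rw [hdL]; exact Module.finrank_mul_finrank K L' L
  -- the roots of `P` are `a` times elements of `K`
  have hQdvd : P ∣ X ^ e - C (algebraMap K L' c) := minpoly.dvd _ _ (by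
    rw [aeval_sub, aeval_X_pow, aeval_C, ← IsScalarTower.algebraMap_apply, hc, sub_self])
  have hQdvd' : P.map (algebraMap L' L) ∣ X ^ e - C (a ^ e) := by
    have h := Polynomial.map_dvd (algebraMap L' L) hQdvd
    rwa [Polynomial.map_sub, Polynomial.map_pow, Polynomial.map_X, Polynomial.map_C,
      ← IsScalarTower.algebraMap_apply, hc] at h
  have hQ : (X ^ e - C (a ^ e) : L[X]) = C (a ^ e) * ((X ^ e - 1 : K[X]).map (algebraMap K L)).comp (C a⁻¹ * X) := by
    rw [Polynomial.map_sub, Polynomial.map_pow, Polynomial.map_X, Polynomial.map_one, sub_comp, pow_comp,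
      X_comp, one_comp, mul_pow, mul_sub, mul_one, ← mul_assoc, ← C_pow, ← C_mul, inv_pow,
      mul_inv_cancel₀ (pow_ne_zero e ha0), map_one, one_mul]
  have hQ0 : (X ^ e - C (a ^ e) : L[X]) ≠ 0 := X_pow_sub_C_ne_zero he0 _
  have hPs : (P.map (algebraMap L' L)).Splits := by
    refine Splits.of_dvd ?_ hQ0 hQdvd'
    rw [hQ]
    exact (Splits.C (a ^ e)).mul ((hroots.map (algebraMap K L)).comp_of_natDegree_le_one
      ((natDegree_C_mul_le _ _).trans natDegree_X_le))
  have hroot : ∀ y ∈ (P.map (algebraMap L' L)).roots, ∃ z : K, y = a * algebraMap K L z := by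
    intro y hy
    have h1 : y ^ e = a ^ e := by
      obtain ⟨w, hw⟩ := hQdvd'
      have h2 : (X ^ e - C (a ^ e) : L[X]).eval y = 0 := by
        rw [hw, eval_mul, (mem_roots'.mp hy).2.eq_zero, zero_mul]
      rwa [eval_sub, eval_pow, eval_X, eval_C, sub_eq_zero] at h2
    obtain ⟨z, hz⟩ := hroots.mem_range_of_isRoot (X_pow_sub_C_ne_zero he0 1)
      (i := algebraMap K L) (x := y / a) (by
        simp [IsRoot, div_pow, h1, ha0])
    exact ⟨z, by rw [hz, mul_div_cancel₀ _ ha0]⟩
  have hprod : ∀ s : Multiset L, (∀ y ∈ s, ∃ z : K, y = a * algebraMap K L z) →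
      ∃ z : K, s.prod = a ^ Multiset.card s * algebraMap K L z := by
    intro s
    induction s using Multiset.induction with
    | empty => exact fun _ => ⟨1, by simp⟩
    | cons y s ih =>
      intro hs
      obtain ⟨z, hz⟩ := ih fun w hw => hs w (Multiset.mem_cons_of_mem hw)
      obtain ⟨z', hz'⟩ := hs y (Multiset.mem_cons_self y s)
      refine ⟨z' * z, ?_⟩
      rw [Multiset.prod_cons, Multiset.card_cons, hz, hz', map_mul]
      ring
  obtain ⟨z, hz⟩ := hprod _ hroot
  have hcard : Multiset.card (P.map (algebraMap L' L)).roots = d := by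
    rw [← hPs.natDegree_eq_card_roots, natDegree_map]
  rw [hcard] at hz
  have hz0 : algebraMap K L z ≠ 0 := by
    intro h0
    rw [h0, mul_zero, Multiset.prod_eq_zero_iff] at hz
    have h1 : (P.map (algebraMap L' L)).coeff 0 = 0 := by
      rw [coeff_zero_eq_eval_zero]
      exact (mem_roots'.mp hz).2
    rw [coeff_map, map_eq_zero] at h1
    exact minpoly.coeff_zero_ne_zero hint ha0 h1
  have hmem : a ^ d ∈ L' := by
    have h0 := hPs.coeff_zero_eq_prod_roots_of_monic ((minpoly.monic hint).map _)
    rw [hz, coeff_map, natDegree_map] at h0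
    have h1 : a ^ d = (-1) ^ d * algebraMap L' L (P.coeff 0) * (algebraMap K L z)⁻¹ := by
      rw [h0, ← mul_assoc ((-1 : L) ^ d), ← mul_pow, neg_one_mul, neg_neg, one_pow, one_mul,
        mul_assoc, mul_inv_cancel₀ hz0, mul_one]
    rw [h1]
    refine mul_mem (mul_mem (pow_mem (neg_mem (one_mem L')) _) (P.coeff 0).2) (inv_mem ?_)
    exact L'.algebraMap_mem z
  refine ⟨d, Dvd.intro_left _ hmul, ?_⟩
  have hle : K⟮a ^ d⟯ ≤ L' := IntermediateField.adjoin_simple_le_iff.mpr hmem
  set M : IntermediateField K L := K⟮a ^ d⟯
  have htop' : M⟮a⟯ = ⊤ := IntermediateField.adjoin_eq_top_of_adjoin_eq_top (F := K) (E := M) (K := L) ha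
  have hMd : Module.finrank M L ≤ d := by
    have hint' : IsIntegral M a := Algebra.IsIntegral.isIntegral a
    rw [← IntermediateField.finrank_top' (F := M) (E := L), ← htop', IntermediateField.adjoin.finrank hint']
    have hdpos : 0 < d := minpoly.natDegree_pos hint
    have := natDegree_le_of_dvd (minpoly.dvd M a (p := X ^ d - C (⟨a ^ d, IntermediateField.mem_adjoin_simple_self K _⟩ : M))
      (by simp)) (X_pow_sub_C_ne_zero hdpos _)
    rwa [natDegree_X_pow_sub_C] at this
  refine (IntermediateField.eq_of_le_of_finrank_le hle ?_).symm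
  have hm : Module.finrank K M * Module.finrank M L = e := Module.finrank_mul_finrank K M L
  have hdpos : 0 < d := minpoly.natDegree_pos hint
  refine Nat.le_of_mul_le_mul_right ?_ hdpos
  rw [hmul, ← hm]
  exact Nat.mul_le_mul_left _ hMd

end Groth.Agent.S6336
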