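import Groth.Statements.S6337
import Groth.Agent.ML.Module
import Mathlib.LinearAlgebra.DirectSum.TensorProduct

set_option autoImplicit false
universe u
open CAlg

namespace Groth.Agent.S6337


open Groth.Agent.ML.Module TensorProduct

/-- A direct sum of modules is Mittag-Leffler if and only if each summand is Mittag-Leffler. -/
theorem result (R : Type u) [CommRing R] {ι : Type u} (M : ι → Type u)
    [∀ i, AddCommGroup (M i)] [∀ i, Module R (M i)] :
    CAlg.IsMittagLeffler R (DirectSum ι M) ↔ ∀ i, CAlg.IsMittagLeffler R (M i) := by
  classical
  constructor
  · intro h i
    refine of_universallyInjective (DirectSum.lof R ι M i) (fun N _ _ => ?_) h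
    refine Function.LeftInverse.injective (g := (DirectSum.component R ι M i).rTensor N) fun x => ?_
    rw [← LinearMap.rTensor_comp_apply]
    have : DirectSum.component R ι M i ∘ₗ DirectSum.lof R ι M i = LinearMap.id := by
      ext y; simp [DirectSum.component.lof_self]
    rw [this, LinearMap.rTensor_id]; rfl
  · intro h A Q _ _
    rw [injective_iff_map_eq_zero]
    intro z hz
    apply (TensorProduct.directSumLeft R R M (∀ a, Q a)).injective
    rw [map_zero]
    refine DirectSum.ext_component R fun i => ?_
    have h2 : (DirectSum.component R ι M i).rTensor _ z = 0 :=
      h i A Q (funext fun a => by rw [pi_natural, hz]; simp)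
    rw [map_zero]
    refine Eq.trans ?_ h2
    clear hz h2
    induction z using TensorProduct.induction_on with
    | zero => simp
    | add x y hx hy => simp [hx, hy]
    | tmul x q =>
      induction x using DirectSum.induction_on with
      | zero => simp
      | add x y hx hy => simp [TensorProduct.add_tmul, hx, hy]
      | of j m =>
        rw [← DirectSum.lof_eq_of R, TensorProduct.directSumLeft_tmul_lof, LinearMap.rTensor_tmul]
        rcases eq_or_ne j i with rfl | hj
        · simp [DirectSum.component.lof_self]
        · simp [DirectSum.component.of, hj]

end Groth.Agent.S6337
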