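import Groth.Statements.S6339
import Groth.Agent.ML.Module

set_option autoImplicit false
universe u
open CAlg

namespace Groth.Agent.S6339


open Groth.Agent.ML.Module TensorProduct

/-- Let 0 → M₁ → M₂ → M₃ → 0 be a universally exact short exact sequence of modules over a commutative
ring (the first map is universally injective, the second is surjective with kernel the image of the
first). If M₁ and M₃ are Mittag-Leffler then so is M₂. -/
theorem result (R : Type u) [CommRing R] {M₁ M₂ M₃ : Type u}
    [AddCommGroup M₁] [Module R M₁] [AddCommGroup M₂] [Module R M₂] [AddCommGroup M₃] [Module R M₃]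
    (f : M₁ →ₗ[R] M₂) (g : M₂ →ₗ[R] M₃) (hf : CAlgX.UniversallyInjective R f)
    (hg : Function.Surjective g) (hfg : LinearMap.range f = LinearMap.ker g)
    (h₁ : CAlg.IsMittagLeffler R M₁) (h₃ : CAlg.IsMittagLeffler R M₃) :
    CAlg.IsMittagLeffler R M₂ := by
  intro ι Q _ _
  rw [injective_iff_map_eq_zero]
  intro z hz
  have hex : ∀ (X : Type u) [AddCommGroup X] [Module R X],
      Function.Exact (f.rTensor X) (g.rTensor X) := fun X _ _ =>
    rTensor_exact X (LinearMap.exact_iff.mpr hfg.symm) hg
  have h3 : g.rTensor _ z = 0 := h₃ ι Q (funext fun i => by rw [pi_natural, hz]; simp)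
  obtain ⟨w, rfl⟩ := (hex _ _).mp h3
  suffices w = 0 by rw [this, map_zero]
  refine h₁ ι Q (funext fun i => hf (Q i) ?_)
  rw [← pi_natural, hz]
  simp

end Groth.Agent.S6339
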