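import Groth.Statements.S6341
import Groth.Agent.ML.Module
import Mathlib.LinearAlgebra.TensorProduct.DirectLimit

set_option autoImplicit false
universe u
open CAlg

namespace Groth.Agent.S6341


open Groth.Agent.ML.Module TensorProduct

section aux
variable {R : Type u} [CommRing R] {ι : Type u} [Preorder ι] [IsDirected ι (· ≤ ·)] [DecidableEq ι]
  {G : ι → Type u} [∀ i, AddCommGroup (G i)] [∀ i, Module R (G i)]
  {f : ∀ i j, i ≤ j → G i →ₗ[R] G j} [DirectedSystem G fun i j h => f i j h]

lemma exists_rTensor_eq_zero {X : Type u} [AddCommGroup X] [Module R X] {i : ι} (z : G i ⊗[R] X)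
    (hz : (Module.DirectLimit.of R ι G f i).rTensor X z = 0) :
    ∃ j, ∃ h : i ≤ j, (f i j h).rTensor X z = 0 := by
  have h1 : TensorProduct.directLimitLeft f X ((Module.DirectLimit.of R ι G f i).rTensor X z) =
      Module.DirectLimit.of R ι (fun i => G i ⊗[R] X) (fun i j h => (f i j h).rTensor X) i z := by
    clear hz
    induction z using TensorProduct.induction_on with
    | zero => simp
    | add x y hx hy => simp [hx, hy]
    | tmul a b => simp
  rw [hz, map_zero] at h1
  exact Module.DirectLimit.of.zero_exact h1.symm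

lemma exists_rTensor_lift [Nonempty ι] {X : Type u} [AddCommGroup X] [Module R X]
    (z : Module.DirectLimit G f ⊗[R] X) :
    ∃ i w, (Module.DirectLimit.of R ι G f i).rTensor X w = z := by
  induction z using TensorProduct.induction_on with
  | zero => exact ⟨Classical.arbitrary ι, 0, map_zero _⟩
  | tmul a b =>
    obtain ⟨i, a, rfl⟩ := Module.DirectLimit.exists_of a
    exact ⟨i, a ⊗ₜ b, rfl⟩
  | add x y hx hy =>
    obtain ⟨i, v, rfl⟩ := hx
    obtain ⟨j, w, rfl⟩ := hy
    obtain ⟨k, hik, hjk⟩ := exists_ge_ge i j
    refine ⟨k, (f i k hik).rTensor X v + (f j k hjk).rTensor X w, ?_⟩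
    rw [map_add, ← LinearMap.rTensor_comp_apply, ← LinearMap.rTensor_comp_apply]
    congr 2 <;> · ext a; simp

end aux

/-- The colimit of a directed system of Mittag-Leffler modules with universally injective transition
maps is Mittag-Leffler. -/
theorem result (R : Type u) [CommRing R] {ι : Type u}
    [Preorder ι] [IsDirected ι (· ≤ ·)] [DecidableEq ι] (G : ι → Type u) [∀ i, AddCommGroup (G i)]
    [∀ i, Module R (G i)] (f : ∀ i j, i ≤ j → G i →ₗ[R] G j) [DirectedSystem G fun i j h => f i j h]
    (hf : ∀ i j (h : i ≤ j), CAlgX.UniversallyInjective R (f i j h))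
    (hG : ∀ i, CAlg.IsMittagLeffler R (G i)) :
    CAlg.IsMittagLeffler R (Module.DirectLimit G f) := by
  intro A Q _ _
  rw [injective_iff_map_eq_zero]
  intro z hz
  rcases isEmpty_or_nonempty ι with hι | hι
  · have : Subsingleton (Module.DirectLimit G f) := by
      refine subsingleton_of_forall_eq 0 fun x => ?_
      have : (LinearMap.id : Module.DirectLimit G f →ₗ[R] Module.DirectLimit G f) = 0 :=
        Module.DirectLimit.hom_ext fun i => isEmptyElim i
      exact LinearMap.congr_fun this x
    exact Subsingleton.elim _ _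
  obtain ⟨i, w, rfl⟩ := exists_rTensor_lift z
  have hu : CAlgX.UniversallyInjective R (Module.DirectLimit.of R ι G f i) := by
    intro X _ _
    rw [injective_iff_map_eq_zero]
    intro v hv
    obtain ⟨j, hij, hj⟩ := exists_rTensor_eq_zero v hv
    exact (injective_iff_map_eq_zero _).mp (hf i j hij X) _ hj
  suffices w = 0 by rw [this, map_zero]
  refine hG i A Q (funext fun a => hu (Q a) ?_)
  rw [← pi_natural, hz]
  simp

end Groth.Agent.S6341
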