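import Groth.Statements.S6343
import Groth.Agent.ML.Module

set_option autoImplicit false
universe u
open scoped TensorProduct
open CAlg

namespace Groth.Agent.S6343


open Groth.Agent.ML.Module TensorProduct

/-- The tensor product of two Mittag-Leffler modules over a commutative ring is Mittag-Leffler. -/
theorem result (R : Type u) [CommRing R] (M N : Type u) [AddCommGroup M] [Module R M]
    [AddCommGroup N] [Module R N] (hM : CAlg.IsMittagLeffler R M) (hN : CAlg.IsMittagLeffler R N) :
    CAlg.IsMittagLeffler R (M ⊗[R] N) := by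
  classical
  intro ι Q _ _
  rw [injective_iff_map_eq_zero]
  intro z hz
  obtain ⟨k, t, q, rfl⟩ := TensorProduct.exists_sum_tmul_eq z
  obtain ⟨M', hM', hN'⟩ := TensorProduct.exists_finite_submodule_left_of_setFinite (Set.range t) (Set.finite_range t)
  choose t₁ ht₁ using fun j => hN' ⟨j, rfl⟩
  obtain ⟨N', hN'f, hN''⟩ := TensorProduct.exists_finite_submodule_right_of_setFinite (Set.range t₁) (Set.finite_range t₁)
  choose t₂ ht₂ using fun j => hN'' ⟨j, rfl⟩
  obtain ⟨a, π₁, hπ₁⟩ := Module.Finite.exists_fin' R M'
  obtain ⟨b, π₂, hπ₂⟩ := Module.Finite.exists_fin' R N'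
  choose t₃ ht₃ using fun j => TensorProduct.map_surjective hπ₁ hπ₂ (t₂ j)
  let f₁ := M'.subtype ∘ₗ π₁
  let f₂ := N'.subtype ∘ₗ π₂
  obtain ⟨A, _, _, _, g₁, h₁, hg₁, hd₁⟩ := dominate hM f₁
  obtain ⟨B, _, _, _, g₂, h₂, hg₂, hd₂⟩ := dominate hN f₂
  have ht : ∀ j, TensorProduct.map f₁ f₂ (t₃ j) = t j := fun j => by
    rw [← ht₁ j, ← ht₂ j, ← ht₃ j, TensorProduct.map_comp]
    simp only [LinearMap.rTensor, LinearMap.lTensor, ← LinearMap.comp_apply, ← TensorProduct.map_comp,
      LinearMap.id_comp, LinearMap.comp_id]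
  let w : ((Fin a → R) ⊗[R] (Fin b → R)) ⊗[R] ∀ i, Q i := ∑ j, t₃ j ⊗ₜ q j
  have hw : (TensorProduct.map f₁ f₂).rTensor _ w = ∑ j, t j ⊗ₜ q j := by
    simp [w, map_sum, ht]
  rw [← hw] at hz ⊢
  suffices (TensorProduct.map g₁ g₂).rTensor _ w = 0 by
    rw [← hg₁, ← hg₂, TensorProduct.map_comp, LinearMap.rTensor_comp_apply, this, map_zero]
  obtain ⟨na, pa, hpa⟩ := Module.Finite.exists_fin' R A
  obtain ⟨nb, pb, hpb⟩ := Module.Finite.exists_fin' R B
  have : Module.FinitePresentation R (A ⊗[R] B) := by
    have : Module.FinitePresentation R ((Fin na → R) ⊗[R] (Fin nb → R)) :=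
      Module.finitePresentation_of_projective _ _
    have : Module.FinitePresentation R ((Fin na → R) ⊗[R] B) :=
      Module.finitePresentation_of_surjective
        ((pb.lTensor (Fin na → R))) (LinearMap.lTensor_surjective _ hpb) (by
          have : Module.Finite R (LinearMap.ker pb) := Module.Finite.iff_fg.mpr (Module.FinitePresentation.fg_ker pb hpb)
          rw [LinearMap.exact_iff.mp (lTensor_exact _ (M := LinearMap.ker pb) (LinearMap.exact_subtype_ker_map pb) hpb),
            ← Module.Finite.iff_fg]
          exact Module.Finite.range _)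
    exact Module.finitePresentation_of_surjective
      (pa.rTensor B) (LinearMap.rTensor_surjective B hpa) (by
        have : Module.Finite R (LinearMap.ker pa) := Module.Finite.iff_fg.mpr (Module.FinitePresentation.fg_ker pa hpa)
        rw [LinearMap.exact_iff.mp (rTensor_exact B (M := LinearMap.ker pa) (LinearMap.exact_subtype_ker_map pa) hpa),
          ← Module.Finite.iff_fg]
        exact Module.Finite.range _)
  refine of_finitePresentation (A ⊗[R] B) ι Q (funext fun i => ?_)
  rw [map_zero, pi_natural, Pi.zero_apply]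
  have h0 : (TensorProduct.map f₁ f₂).rTensor (Q i) (piRightHom R R _ Q w i) = 0 := by
    rw [← pi_natural, hz]; rfl
  generalize piRightHom R R _ Q w i = v at h0 ⊢
  let as₁ := (TensorProduct.assoc R (Fin a → R) (Fin b → R) (Q i))
  have key : ∀ {X Y : Type u} [AddCommGroup X] [Module R X] [AddCommGroup Y] [Module R Y]
      (p : (Fin a → R) →ₗ[R] X) (p' : (Fin b → R) →ₗ[R] Y) (v),
      TensorProduct.assoc R X Y (Q i) ((TensorProduct.map p p').rTensor (Q i) v) =
        p.rTensor _ ((p'.rTensor (Q i)).lTensor _ (as₁ v)) := by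
    intro X Y _ _ _ _ p p' v
    induction v using TensorProduct.induction_on with
    | zero => simp
    | add x y hx hy => simp [hx, hy]
    | tmul x y =>
      induction x using TensorProduct.induction_on with
      | zero => simp
      | add x y hx hy =>
        simp [TensorProduct.add_tmul, as₁] at hx hy ⊢; rw [hx, hy]
      | tmul x x' => simp [as₁]
  apply (TensorProduct.assoc R A B (Q i)).injective
  rw [map_zero, key]
  -- replace `f₁` by `g₁`
  have e1 : g₁.rTensor _ ((f₂.rTensor (Q i)).lTensor _ (as₁ v)) = 0 := by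
    rw [← LinearMap.mem_ker, ← hd₁, LinearMap.mem_ker, ← key, h0, map_zero]
  -- replace `f₂` by `g₂`
  have e2 : f₂.rTensor (Q i ⊗[R] A) ((TensorProduct.assoc R (Fin b → R) (Q i) A)
      (TensorProduct.comm R A ((Fin b → R) ⊗[R] Q i) (g₁.rTensor _ (as₁ v)))) = 0 := by
    have : ∀ u : A ⊗[R] ((Fin b → R) ⊗[R] Q i), f₂.rTensor (Q i ⊗[R] A)
        (TensorProduct.assoc R (Fin b → R) (Q i) A (TensorProduct.comm R A _ u)) =
        TensorProduct.assoc R N (Q i) A (TensorProduct.comm R A _ ((f₂.rTensor (Q i)).lTensor A u)) := by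
      intro u
      induction u using TensorProduct.induction_on with
      | zero => simp
      | add x y hx hy => simp [hx, hy]
      | tmul x y =>
        induction y using TensorProduct.induction_on with
        | zero => simp
        | add p r hp hr =>
          simp [TensorProduct.tmul_add, TensorProduct.add_tmul] at hp hr ⊢; rw [hp, hr]
        | tmul p r => simp
    rw [this, ← LinearMap.comp_apply ((f₂.rTensor (Q i)).lTensor A), LinearMap.lTensor_comp_rTensor,
      ← LinearMap.rTensor_comp_lTensor, LinearMap.comp_apply, e1, map_zero, map_zero]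
  rw [← LinearMap.mem_ker, hd₂, LinearMap.mem_ker] at e2
  rw [← LinearMap.comp_apply, LinearMap.rTensor_comp_lTensor, ← LinearMap.lTensor_comp_rTensor,
    LinearMap.comp_apply]
  apply (TensorProduct.comm R A _).injective
  apply (TensorProduct.assoc R B (Q i) A).injective
  rw [map_zero, map_zero]
  refine Eq.trans ?_ e2
  generalize g₁.rTensor _ (as₁ v) = u
  induction u using TensorProduct.induction_on with
  | zero => simp
  | add x y hx hy => simp [hx, hy]
  | tmul x y =>
    induction y using TensorProduct.induction_on with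
    | zero => simp
    | add p r hp hr =>
      simp [TensorProduct.tmul_add, TensorProduct.add_tmul] at hp hr ⊢; rw [hp, hr]
    | tmul p r => simp

end Groth.Agent.S6343
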