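import Groth.Statements.S6345
import Groth.Agent.ML.BaseChange

set_option autoImplicit false
universe u
open CAlg

namespace Groth.Agent.S6345


open TensorProduct

/-- Let I be a finitely generated ideal of a commutative ring R and M an R/I-module. Then M is
Mittag-Leffler over R if and only if it is Mittag-Leffler over R/I. -/
theorem result (R : Type u) [CommRing R] (I : Ideal R) (hI : I.FG)
    (M : Type u) [AddCommGroup M] [Module (R ⧸ I) M] [Module R M] [IsScalarTower R (R ⧸ I) M] :
    CAlg.IsMittagLeffler R M ↔ CAlg.IsMittagLeffler (R ⧸ I) M := by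
  haveI : Module.FinitePresentation R (R ⧸ I) :=
    Module.finitePresentation_of_surjective I.mkQ I.mkQ_surjective (by rwa [Submodule.ker_mkQ])
  refine ⟨fun hM => ?_, fun hM => Groth.Agent.ML.BaseChange.restrict_finitePresentation (R ⧸ I) M hM⟩
  let f : TensorProduct R (R ⧸ I) M →ₗ[R ⧸ I] M :=
    TensorProduct.AlgebraTensorModule.lift ((LinearMap.lsmul (R ⧸ I) M).flip.restrictScalars R).flip
  refine Groth.Agent.ML.Module.of_equiv (LinearEquiv.ofBijective f ⟨?_, ?_⟩).symm
    (Groth.Agent.ML.BaseChange.baseChange (R ⧸ I) hM)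
  · refine Function.LeftInverse.injective (g := fun m : M => (1 : R ⧸ I) ⊗ₜ[R] m) fun z => ?_
    induction z using TensorProduct.induction_on with
    | zero => simp
    | add x y hx hy => simp only [map_add, TensorProduct.tmul_add] at hx hy ⊢; rw [hx, hy]
    | tmul s m =>
      obtain ⟨r, rfl⟩ := Ideal.Quotient.mk_surjective s
      have h1 : (Ideal.Quotient.mk I r) • m = r • m := by
        rw [← Ideal.Quotient.algebraMap_eq, algebraMap_smul]
      simp only [f, TensorProduct.AlgebraTensorModule.lift_tmul, LinearMap.flip_apply,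
        LinearMap.restrictScalars_apply, LinearMap.lsmul_apply, h1]
      rw [← TensorProduct.smul_tmul, Algebra.smul_def, Ideal.Quotient.algebraMap_eq, mul_one]
  · exact fun m => ⟨1 ⊗ₜ m, by simp [f]⟩

end Groth.Agent.S6345
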