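import Groth.Statements.S6346
import Groth.Agent.ML.Module

set_option autoImplicit false
universe u
open scoped TensorProduct
open CAlg

namespace Groth.Agent.S6346


open Groth.Agent.ML.Module TensorProduct

lemma mem_range_iff {R : Type u} [CommRing R] {F M : Type u} [AddCommGroup F] [Module R F] [AddCommGroup M]
    [Module R M] (G : Submodule R F) (x : F ⊗[R] M) :
    x ∈ LinearMap.range (G.subtype.rTensor M) ↔ G.mkQ.rTensor M x = 0 :=
  ((rTensor_exact M (LinearMap.exact_subtype_mkQ G) G.mkQ_surjective) x).symm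

lemma smallest {R : Type u} [CommRing R] {M : Type u} [AddCommGroup M] [Module R M] [Module.Flat R M]
    (hM : CAlg.IsMittagLeffler R M) (F : Type u) [AddCommGroup F] [Module R F] (x : F ⊗[R] M) :
    ∃ F' : Submodule R F, F'.FG ∧ x ∈ LinearMap.range (F'.subtype.rTensor M) ∧
      ∀ F'' : Submodule R F, x ∈ LinearMap.range (F''.subtype.rTensor M) → F' ≤ F'' := by
  classical
  let ι : Type u := {G : Submodule R F // x ∈ LinearMap.range (G.subtype.rTensor M)}
  let T : Submodule R F := ⨅ G : ι, G.1
  let φ : F ⧸ T →ₗ[R] ∀ G : ι, F ⧸ G.1 := T.liftQ (LinearMap.pi fun G : ι => G.1.mkQ) fun y hy => by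
    rw [LinearMap.mem_ker]
    exact funext fun G => (Submodule.Quotient.mk_eq_zero _).mpr ((Submodule.mem_iInf _).mp hy G)
  have hφ : Function.Injective φ := by
    rw [injective_iff_map_eq_zero]
    intro y hy
    obtain ⟨y, rfl⟩ := T.mkQ_surjective y
    rw [Submodule.mkQ_apply, Submodule.Quotient.mk_eq_zero, Submodule.mem_iInf]
    exact fun G => (Submodule.Quotient.mk_eq_zero _).mp (congr_fun hy G)
  have hT : x ∈ LinearMap.range (T.subtype.rTensor M) := by
    rw [mem_range_iff]
    apply Module.Flat.rTensor_preserves_injective_linearMap (M := M) φ hφ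
    rw [map_zero]
    apply (TensorProduct.comm R (∀ G : ι, F ⧸ G.1) M).injective
    apply hM ι fun G => F ⧸ G.1
    funext G
    have h : ∀ z : F ⊗[R] M, piRightHom R R M (fun G : ι => F ⧸ G.1)
        (TensorProduct.comm R (∀ G : ι, F ⧸ G.1) M (φ.rTensor M (T.mkQ.rTensor M z))) G =
        TensorProduct.comm R (F ⧸ G.1) M (G.1.mkQ.rTensor M z) := fun z => by
      induction z using TensorProduct.induction_on with
      | zero => simp
      | add x y hx hy => simp [hx, hy]
      | tmul a b => simp [φ]
    rw [h, (mem_range_iff G.1 x).mp G.2]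
    simp
  have hmin : ∀ F'' : Submodule R F, x ∈ LinearMap.range (F''.subtype.rTensor M) → T ≤ F'' :=
    fun F'' h => iInf_le (fun G : ι => G.1) ⟨F'', h⟩
  refine ⟨T, ?_, hT, hmin⟩
  obtain ⟨w, hw⟩ := hT
  obtain ⟨K, hK, hwK⟩ := TensorProduct.exists_finite_submodule_left_of_setFinite {w} (Set.finite_singleton w)
  obtain ⟨v, hv⟩ := hwK rfl
  obtain ⟨k, g, hg⟩ := Module.Finite.exists_fin' R K
  obtain ⟨v', rfl⟩ := LinearMap.rTensor_surjective M hg v
  let g' : (Fin k → R) →ₗ[R] F := T.subtype ∘ₗ K.subtype ∘ₗ g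
  have hle : T ≤ LinearMap.range g' := hmin _ ⟨(g'.rangeRestrict).rTensor M v', by
    rw [← LinearMap.rTensor_comp_apply, show (LinearMap.range g').subtype ∘ₗ g'.rangeRestrict = g' from rfl,
      LinearMap.rTensor_comp_apply, LinearMap.rTensor_comp_apply, hv, hw]⟩
  have : T = LinearMap.range g' := le_antisymm hle (by rintro _ ⟨y, rfl⟩; exact (K.subtype (g y)).2)
  rw [this, ← Module.Finite.iff_fg]
  exact Module.Finite.range _

/-- Let M be a flat module over a commutative ring R. Then M is Mittag-Leffler exactly when, for each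
finite free module F = R^n and each element x of F ⊗ M there is a smallest submodule F' of F such
that x lies in the image of F' ⊗ M → F ⊗ M. -/
theorem result (R : Type u) [CommRing R] (M : Type u)
    [AddCommGroup M] [Module R M] [Module.Flat R M] :
    CAlg.IsMittagLeffler R M ↔
      ∀ (n : ℕ) (x : (Fin n → R) ⊗[R] M), ∃ F' : Submodule R (Fin n → R),
        x ∈ LinearMap.range (F'.subtype.rTensor M) ∧
        ∀ F'' : Submodule R (Fin n → R), x ∈ LinearMap.range (F''.subtype.rTensor M) → F' ≤ F'' := by
  classical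
  refine ⟨fun hM n x => ?_, fun h => of_dominate fun n f => ?_⟩
  · obtain ⟨F', -, h1, h2⟩ := smallest hM (Fin n → R) x
    exact ⟨F', h1, h2⟩
  let x : (Fin n → R) ⊗[R] M := ∑ i, Pi.single i 1 ⊗ₜ f (Pi.single i 1)
  obtain ⟨F', hF', hmin⟩ := h n x
  obtain ⟨k, v, y, hx⟩ : ∃ (k : ℕ) (v : Fin k → F') (y : Fin k → M),
      ∑ j, (v j : Fin n → R) ⊗ₜ[R] y j = x := by
    obtain ⟨w, hw⟩ := hF'
    obtain ⟨k, v, y, rfl⟩ := TensorProduct.exists_sum_tmul_eq w
    exact ⟨k, v, y, by simpa [map_sum] using hw⟩
  let g : (Fin n → R) →ₗ[R] (Fin k → R) :=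
    Fintype.linearCombination R fun i => fun j => (v j : Fin n → R) i
  refine ⟨Fin k → R, inferInstance, inferInstance, inferInstance, g, fun N _ _ => ?_⟩
  ext z
  let ν : Fin n → N := TensorProduct.piScalarRight R R N (Fin n) (TensorProduct.comm R _ _ z)
  have hz : z = ∑ i, Pi.single i 1 ⊗ₜ ν i := by
    apply (TensorProduct.comm R _ _).injective
    apply (TensorProduct.piScalarRight R R N (Fin n)).injective
    funext i
    simp [ν, map_sum, Finset.sum_apply, Pi.single_apply]
  let ν' : (Fin n → R) →ₗ[R] N := Fintype.linearCombination R ν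
  have hfz : TensorProduct.comm R M N (f.rTensor N z) = ν'.rTensor M x := by
    simp [hz, x, ν', map_sum, Fintype.linearCombination_apply, Pi.single_apply]
  have hgz : TensorProduct.piScalarRight R R N (Fin k) (TensorProduct.comm R _ _ (g.rTensor N z)) =
      fun j => ν' (v j) := by
    funext j
    simp [hz, g, ν', map_sum, Finset.sum_apply, Fintype.linearCombination_apply, Pi.single_apply]
  have e : LinearMap.range ((LinearMap.ker ν').subtype.rTensor M) = LinearMap.ker (ν'.rTensor M) := by
    let q : (Fin n → R) ⧸ LinearMap.ker ν' →ₗ[R] N := (LinearMap.ker ν').liftQ ν' le_rfl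
    have hq : q ∘ₗ (LinearMap.ker ν').mkQ = ν' := (LinearMap.ker ν').liftQ_mkQ _ _
    have hqi : Function.Injective (q.rTensor M) := by
      refine Module.Flat.rTensor_preserves_injective_linearMap q ?_
      rw [← LinearMap.ker_eq_bot]
      exact Submodule.ker_liftQ_eq_bot _ _ _ le_rfl
    ext u
    rw [mem_range_iff, LinearMap.mem_ker, ← hq, LinearMap.rTensor_comp_apply, hqi.eq_iff' (map_zero _), hq]
  simp only [LinearMap.mem_ker]
  constructor
  · intro hf0
    rw [hf0, map_zero] at hfz
    have hle : F' ≤ LinearMap.ker ν' := hmin _ (by rw [e, LinearMap.mem_ker, ← hfz])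
    apply (TensorProduct.comm R _ _).injective
    apply (TensorProduct.piScalarRight R R N (Fin k)).injective
    rw [hgz, map_zero, map_zero]
    exact funext fun j => hle (v j).2
  · intro hg0
    rw [hg0, map_zero, map_zero] at hgz
    apply (TensorProduct.comm R M N).injective
    rw [map_zero, hfz, ← hx]
    simp only [map_sum, LinearMap.rTensor_tmul]
    refine Finset.sum_eq_zero fun j _ => ?_
    rw [← congr_fun hgz j, Pi.zero_apply, TensorProduct.zero_tmul]

end Groth.Agent.S6346
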