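import Groth.Statements.S6349
import Groth.Agent.Flat.TorDevissage

set_option autoImplicit false
universe u
open scoped TensorProduct
open CAlg

namespace Groth.Agent.S6349

open CategoryTheory Groth.Agent.Flat.LocalCriterion Groth.Agent.Flat.TorOne Groth.Agent.Flat.TorDim Groth.Agent.Flat.TorDevissage

/-- Let I be an ideal of a commutative ring R and M an R-module such that M/IM is flat over R/I and
Tor_1^R(R/I, M) = 0, i.e. the map I ⊗_R M → M is injective. Then M/IⁿM is flat over R/Iⁿ for every n
≥ 1. (When I is nilpotent this yields flatness of M itself, a standard companion statement.) -/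
theorem result (R : Type u) [CommRing R] (I : Ideal R) (M : Type u)
    [AddCommGroup M] [Module R M] [Module.Flat (R ⧸ I) ((R ⧸ I) ⊗[R] M)]
    (htor : Function.Injective ((Submodule.subtype I).rTensor M)) (n : ℕ) (hn : 1 ≤ n) :
    Module.Flat (R ⧸ I ^ n) ((R ⧸ I ^ n) ⊗[R] M) := by
  let B := R ⧸ I ^ n
  let N := B ⊗[R] M
  refine Module.Flat.iff_rTensor_injective'.2 fun J => ?_
  have hJ : TorZero R M (B ⧸ J) := torZero_of_killed_pow I htor inferInstance n (B ⧸ J) fun a ha x => by
    obtain ⟨x, rfl⟩ := Submodule.mkQ_surjective J x
    change a • Submodule.mkQ J x = 0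
    rw [← IsScalarTower.algebraMap_smul B a (Submodule.mkQ J x), Ideal.Quotient.algebraMap_eq,
      Ideal.Quotient.eq_zero_iff_mem.2 ha, zero_smul]
  have hinj : Function.Injective ((J.subtype.restrictScalars R).rTensor M) :=
    (LinearMap.lTensor_inj_iff_rTensor_inj M _).1 (hJ.lTensor_injective (g := (Submodule.mkQ J).restrictScalars R)
      J.injective_subtype (LinearMap.exact_subtype_mkQ J) (Submodule.mkQ_surjective J))
  have key : ∀ x : J ⊗[B] N,
      TensorProduct.AlgebraTensorModule.cancelBaseChange R B B B M (J.subtype.rTensor N x) =
        (J.subtype.restrictScalars R).rTensor M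
          (TensorProduct.AlgebraTensorModule.cancelBaseChange R B B J M x) := fun x => by
    induction x using TensorProduct.induction_on with
    | zero => simp
    | add x y hx hy => simp only [map_add, hx, hy]
    | tmul j t =>
      induction t using TensorProduct.induction_on with
      | zero => simp
      | add x y hx hy => simp only [TensorProduct.tmul_add, map_add, hx, hy]
      | tmul a p => rfl
  intro x y hxy
  refine (TensorProduct.AlgebraTensorModule.cancelBaseChange R B B J M).injective (hinj ?_)
  rw [← key, ← key, hxy]

end Groth.Agent.S6349
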