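import Groth.Statements.S6351
import Groth.Agent.Flat.TorDim
import Mathlib.LinearAlgebra.TensorProduct.Quotient
import Mathlib.LinearAlgebra.DirectSum.Finsupp

set_option autoImplicit false
universe u
open scoped TensorProduct
open CAlg

namespace Groth.Agent.S6351

open Groth.Agent.Flat.LocalCriterion

/-- a family giving a basis modulo a nilpotent ideal, with `Tor₁` vanishing -/
lemma bijective_of_mod {R : Type u} [CommRing R] (I : Ideal R) (hI : IsNilpotent I) {M : Type u} [AddCommGroup M] [Module R M]
    (htor : Function.Injective ((Submodule.subtype I).rTensor M)) {A : Type u} (x : A → M)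
    (hli : LinearIndependent (R ⧸ I) (fun a => (1 : R ⧸ I) ⊗ₜ[R] x a))
    (hsp : Submodule.span (R ⧸ I) (Set.range fun a => (1 : R ⧸ I) ⊗ₜ[R] x a) = ⊤) :
    LinearIndependent R x ∧ Submodule.span R (Set.range x) = ⊤ := by
  classical
  obtain ⟨k, hk⟩ := hI
  have hnak : ∀ (N : Type u) [AddCommGroup N] [Module R N], (⊤ : Submodule R N) ≤ I • ⊤ → Subsingleton N := fun N _ _ h => by
    have h1 : ∀ j, (⊤ : Submodule R N) ≤ I ^ j • ⊤ := fun j => by
      induction j with
      | zero => simp
      | succ j ih =>
        rw [pow_succ, Submodule.mul_smul]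
        exact ih.trans (Submodule.smul_mono le_rfl h)
    have h2 := h1 k
    rw [hk, Ideal.zero_eq_bot, Submodule.bot_smul] at h2
    exact (Submodule.subsingleton_iff R).1 (subsingleton_of_bot_eq_top (le_bot_iff.1 h2).symm)
  have hzero : ∀ (N : Type u) [AddCommGroup N] [Module R N] (y : N), (1 : R ⧸ I) ⊗ₜ[R] y = 0 → y ∈ (I • ⊤ : Submodule R N) :=
    fun N _ _ y hy => by
      rwa [← (TensorProduct.quotTensorEquivQuotSMul N I).map_eq_zero_iff,
        show (1 : R ⧸ I) = Ideal.Quotient.mk I 1 from rfl, TensorProduct.quotTensorEquivQuotSMul_mk_tmul, one_smul,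
        Submodule.Quotient.mk_eq_zero] at hy
  let π := Finsupp.linearCombination R x
  have hπ : Function.Surjective π := by
    rw [← LinearMap.range_eq_top, Finsupp.range_linearCombination]
    haveI := hnak (M ⧸ Submodule.span R (Set.range x)) ?_
    · exact Submodule.Quotient.subsingleton_iff.1 this
    rintro q -
    obtain ⟨m, rfl⟩ := Submodule.mkQ_surjective _ q
    have hm : (1 : R ⧸ I) ⊗ₜ[R] m ∈ Submodule.span (R ⧸ I) (Set.range fun a => (1 : R ⧸ I) ⊗ₜ[R] x a) := hsp ▸ Submodule.mem_top
    rw [Finsupp.mem_span_range_iff_exists_finsupp] at hm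
    obtain ⟨c, hc⟩ := hm
    let c' : A →₀ R := Finsupp.onFinset c.support (fun a => if c a = 0 then 0 else Function.surjInv Ideal.Quotient.mk_surjective (c a))
        (fun a ha => Finsupp.mem_support_iff.2 fun h => ha (if_pos h))
    have hd : m - π c' ∈ (I • ⊤ : Submodule R M) := hzero M _ (by
      rw [TensorProduct.tmul_sub, sub_eq_zero, ← hc]
      simp only [π, Finsupp.linearCombination_apply, c']
      rw [Finsupp.onFinset_sum _ (fun a => zero_smul R (x a)), TensorProduct.tmul_sum, Finsupp.sum]
      refine Finset.sum_congr rfl fun a ha => ?_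
      rw [TensorProduct.tmul_smul, if_neg (Finsupp.mem_support_iff.1 ha),
        ← IsScalarTower.algebraMap_smul (R ⧸ I) (Function.surjInv (Ideal.Quotient.mk_surjective (I := I)) (c a))
          ((1 : R ⧸ I) ⊗ₜ[R] x a), Ideal.Quotient.algebraMap_eq, Function.surjInv_eq Ideal.Quotient.mk_surjective])
    have := Submodule.mem_map_of_mem (f := (Submodule.span R (Set.range x)).mkQ) hd
    rw [Submodule.map_smul'', map_sub, Submodule.map_top, Submodule.range_mkQ,
      show (Submodule.span R (Set.range x)).mkQ (π c') = 0 from (Submodule.Quotient.mk_eq_zero _).2 (by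
        rw [← Finsupp.range_linearCombination]; exact LinearMap.mem_range_self _ _), sub_zero] at this
    exact this
  refine ⟨?_, by rw [← Finsupp.range_linearCombination]; exact LinearMap.range_eq_top.2 hπ⟩
  have ht : TorZero R M (R ⧸ I) := torZero_quot I htor
  have hinj : Function.Injective ((LinearMap.ker π).subtype.lTensor (R ⧸ I)) :=
    (Groth.Agent.Flat.TorOne.torZero_iff_lTensor_injective π hπ).2 ht
  have hK : Subsingleton (LinearMap.ker π) := hnak _ fun y _ => hzero _ y (hinj (by
    rw [map_zero, LinearMap.lTensor_tmul]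
    change (1 : R ⧸ I) ⊗ₜ[R] (y : A →₀ R) = 0
    let e := TensorProduct.finsuppScalarRight R (R ⧸ I) (R ⧸ I) A
    apply e.injective
    rw [map_zero]
    refine (linearIndependent_iff.1 hli) _ ?_
    have hy : π y = 0 := y.2
    have hlin : ∀ v : A →₀ R, Finsupp.linearCombination (R ⧸ I) (fun a => (1 : R ⧸ I) ⊗ₜ[R] x a) (e ((1 : R ⧸ I) ⊗ₜ[R] v)) =
        (1 : R ⧸ I) ⊗ₜ[R] π v := fun v => by
      induction v using Finsupp.induction_linear with
      | zero => simp
      | add v w hv hw => simp only [TensorProduct.tmul_add, map_add, hv, hw]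
      | single a r =>
        simp only [e, π, TensorProduct.finsuppScalarRight_apply_tmul, Finsupp.linearCombination_single, TensorProduct.tmul_smul]
        rw [Finsupp.sum_single_index (by simp), Finsupp.linearCombination_single, ← IsScalarTower.algebraMap_smul (R ⧸ I) r ((1 : R ⧸ I) ⊗ₜ[R] x a)]
        simp [Algebra.smul_def]
    rw [hlin, hy, TensorProduct.tmul_zero]))
  exact linearIndependent_iff_ker.2 Submodule.eq_bot_of_subsingleton

/-- Let I be a nilpotent ideal of a commutative ring R and M an R-module with Tor_1^R(R/I, M) = 0, i.e.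
I ⊗_R M → M injective. If a family of elements of M maps to a basis of the R/I-module M/IM = R/I ⊗
M, then it is a basis of M over R. -/
theorem result (R : Type u) [CommRing R] (I : Ideal R)
    (hI : IsNilpotent I) (M : Type u) [AddCommGroup M] [Module R M]
    (htor : Function.Injective ((Submodule.subtype I).rTensor M)) {A : Type u} (x : A → M)
    (hli : LinearIndependent (R ⧸ I) (fun a => (1 : R ⧸ I) ⊗ₜ[R] x a))
    (hsp : Submodule.span (R ⧸ I) (Set.range fun a => (1 : R ⧸ I) ⊗ₜ[R] x a) = ⊤) :
    LinearIndependent R x ∧ Submodule.span R (Set.range x) = ⊤ := by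
  exact bijective_of_mod I hI htor x hli hsp

end Groth.Agent.S6351
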