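import Groth.Statements.S6384
import Groth.Agent.Flat.SqZero
import Mathlib.RingTheory.Flat.Stability
import Mathlib.RingTheory.TensorProduct.Maps

set_option autoImplicit false
universe u
open scoped TensorProduct
open CAlg

namespace Groth.Agent.S6384

open TensorProduct in
theorem flat_core (R R' : Type u) [CommRing R] [CommRing R'] [Algebra R R'] (hinj : Function.Injective (algebraMap R R'))
    (I : Ideal R) (hI : I ^ 2 = ⊥) (M : Type u) [AddCommGroup M] [Module R M] [Module.Flat (R ⧸ I) ((R ⧸ I) ⊗[R] M)]
    [Module.Flat R' (R' ⊗[R] M)] : Module.Flat R M := by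
  refine Groth.Agent.Flat.SqZero.flat_of_sq_zero I hI M ?_
  let J : Ideal R' := I.map (algebraMap R R')
  let ι : I →ₗ[R] J :=
    { toFun := fun j => ⟨algebraMap R R' j, Ideal.mem_map_of_mem _ j.2⟩
      map_add' := fun a b => Subtype.ext (map_add _ _ _)
      map_smul' := fun a b => Subtype.ext (by simp [Algebra.smul_def]) }
  have h1 : Function.Injective (ι.rTensor M) := by
    refine Groth.Agent.Flat.SqZero.rTensor_injective_of_annihilated I M (fun a ha x => Subtype.ext ?_)
      (fun a ha x => Subtype.ext ?_) ι (fun a b h => Subtype.ext (hinj (congrArg Subtype.val h)))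
    · change a * (x : R) = 0
      rw [← Ideal.mem_bot, ← hI, pow_two]
      exact Ideal.mul_mem_mul ha x.2
    · change a • (x : R') = 0
      have h : algebraMap R R' a * x ∈ (I ^ 2).map (algebraMap R R') := by
        rw [Ideal.map_pow, pow_two]
        exact Ideal.mul_mem_mul (Ideal.mem_map_of_mem _ ha) x.2
      rw [hI, Ideal.map_bot, Ideal.mem_bot] at h
      rw [Algebra.smul_def, h]
  have h2 : Function.Injective ((J.subtype.restrictScalars R).rTensor M) := by
    let e := TensorProduct.AlgebraTensorModule.cancelBaseChange R R' R' J M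
    let e' := TensorProduct.AlgebraTensorModule.cancelBaseChange R R' R' R' M
    have key : ∀ z, (J.subtype.restrictScalars R).rTensor M (e z) = e' (J.subtype.rTensor (R' ⊗[R] M) z) := by
      intro z
      induction z using TensorProduct.induction_on with
      | zero => simp
      | add a b ha hb => simp only [map_add, ha, hb]
      | tmul x w =>
        induction w using TensorProduct.induction_on with
        | zero => simp
        | add a b ha hb => simp only [TensorProduct.tmul_add, map_add, ha, hb]
        | tmul c m => simp [e, e']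
    intro a b hab
    rw [← e.apply_symm_apply a, ← e.apply_symm_apply b, key, key] at hab
    exact e.symm.injective (Module.Flat.rTensor_preserves_injective_linearMap (M := R' ⊗[R] M) J.subtype
      Subtype.val_injective (e'.injective hab))
  intro a b hab
  refine h1 (h2 ?_)
  have he : (J.subtype.restrictScalars R) ∘ₗ ι = Algebra.linearMap R R' ∘ₗ I.subtype := rfl
  rw [← LinearMap.comp_apply, ← LinearMap.comp_apply (f := LinearMap.rTensor M _) (g := LinearMap.rTensor M ι),
    ← LinearMap.rTensor_comp, he, LinearMap.rTensor_comp, LinearMap.comp_apply, LinearMap.comp_apply, hab]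

/-- Let φ : R → R' be a ring map, I ⊆ R an ideal and M an R-module such that M/IM is R/I-flat and R' ⊗_R
M is R'-flat. Put I₂ = φ⁻¹(φ(I²) R'). Then M/I₂M is flat over R/I₂. -/
theorem result (R R' : Type u) [CommRing R] [CommRing R'] [Algebra R R']
    (I : Ideal R) (M : Type u) [AddCommGroup M] [Module R M] [Module.Flat (R ⧸ I) ((R ⧸ I) ⊗[R] M)]
    [Module.Flat R' (R' ⊗[R] M)] :
    Module.Flat (R ⧸ ((I ^ 2).map (algebraMap R R')).comap (algebraMap R R'))
      ((R ⧸ ((I ^ 2).map (algebraMap R R')).comap (algebraMap R R')) ⊗[R] M) := by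
  let I₂ := ((I ^ 2).map (algebraMap R R')).comap (algebraMap R R')
  let J₂ := (I ^ 2).map (algebraMap R R')
  let A := R ⧸ I₂
  let B := R' ⧸ J₂
  letI : Algebra A B := (Ideal.quotientMap J₂ (algebraMap R R') le_rfl).toAlgebra
  haveI : IsScalarTower R A B := IsScalarTower.of_algebraMap_eq' rfl
  let I' : Ideal A := I.map (algebraMap R A)
  haveI hA : Module.Flat (A ⧸ I') ((A ⧸ I') ⊗[A] (A ⊗[R] M)) := by
    letI : Algebra (R ⧸ I) (A ⧸ I') := (Ideal.quotientMap I' (algebraMap R A) Ideal.le_comap_map).toAlgebra
    haveI : IsScalarTower R (R ⧸ I) (A ⧸ I') := IsScalarTower.of_algebraMap_eq' rfl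
    exact Module.Flat.of_linearEquiv ((TensorProduct.AlgebraTensorModule.cancelBaseChange R A (A ⧸ I') (A ⧸ I') M).trans
      (TensorProduct.AlgebraTensorModule.cancelBaseChange R (R ⧸ I) (A ⧸ I') (A ⧸ I') M).symm)
  haveI hB : Module.Flat B (B ⊗[A] (A ⊗[R] M)) :=
    Module.Flat.of_linearEquiv ((TensorProduct.AlgebraTensorModule.cancelBaseChange R A B B M).trans
      (TensorProduct.AlgebraTensorModule.cancelBaseChange R R' B B M).symm)
  have hI' : I' ^ 2 = ⊥ := by
    rw [← Ideal.map_pow, Ideal.map_eq_bot_iff_le_ker, Ideal.Quotient.algebraMap_eq, Ideal.mk_ker]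
    exact Ideal.le_comap_map
  exact flat_core A B Ideal.quotientMap_injective I' hI' (A ⊗[R] M)

end Groth.Agent.S6384
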