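import Groth.Statements.S6352
import Groth.Agent.S6384
import Mathlib.RingTheory.Flat.Stability

set_option autoImplicit false
universe u
open scoped TensorProduct
open CAlg

namespace Groth.Agent.S6352

/-- Let R → R' be an injective ring map, I ⊆ R a nilpotent ideal and M an R-module. Then flatness of M
over R follows from flatness of M/IM over R/I together with flatness of R' ⊗_R M over R'. -/
theorem result (R R' : Type u) [CommRing R] [CommRing R']
    [Algebra R R'] (hinj : Function.Injective (algebraMap R R')) (I : Ideal R) (hI : IsNilpotent I)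
    (M : Type u) [AddCommGroup M] [Module R M] [Module.Flat (R ⧸ I) ((R ⧸ I) ⊗[R] M)]
    [Module.Flat R' (R' ⊗[R] M)] : Module.Flat R M := by
  have step : ∀ j : ℕ, ∃ J : Ideal R, J.map (algebraMap R R') ≤ (I.map (algebraMap R R')) ^ (2 ^ j) ∧
      Module.Flat (R ⧸ J) ((R ⧸ J) ⊗[R] M) := by
    intro j
    induction j with
    | zero => exact ⟨I, by simp, inferInstance⟩
    | succ j ih =>
      obtain ⟨J, hJ, hfl⟩ := ih
      haveI := hfl
      refine ⟨((J ^ 2).map (algebraMap R R')).comap (algebraMap R R'), ?_, Groth.Agent.S6384.result R R' J M⟩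
      refine Ideal.map_comap_le.trans ?_
      rw [Ideal.map_pow, pow_succ 2 j, pow_mul]
      exact Ideal.pow_right_mono hJ 2
  obtain ⟨n, hn⟩ := hI
  obtain ⟨J, hJ, hfl⟩ := step n
  have hJ0 : J = ⊥ := by
    have h : J.map (algebraMap R R') ≤ ⊥ := hJ.trans <| by
      rw [← Ideal.map_pow]
      refine (Ideal.map_mono (Ideal.pow_le_pow_right n.lt_two_pow_self.le)).trans (le_of_eq ?_)
      rw [hn, Ideal.zero_eq_bot, Ideal.map_bot]
    rw [le_bot_iff, Ideal.map_eq_bot_iff_le_ker, (RingHom.injective_iff_ker_eq_bot _).1 hinj] at h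
    exact le_bot_iff.1 h
  subst hJ0
  haveI : Module.Flat R (R ⧸ (⊥ : Ideal R)) := Module.Flat.of_linearEquiv (Submodule.quotEquivOfEqBot (⊥ : Ideal R) rfl)
  haveI := hfl
  haveI : Module.Flat R ((R ⧸ (⊥ : Ideal R)) ⊗[R] M) := Module.Flat.trans R (R ⧸ (⊥ : Ideal R)) _
  exact Module.Flat.of_linearEquiv
    ((LinearEquiv.rTensor M (Submodule.quotEquivOfEqBot (⊥ : Ideal R) rfl)).trans (TensorProduct.lid R M)).symm

end Groth.Agent.S6352
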