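import Groth.Statements.S6353
import Mathlib.RingTheory.Ideal.Pure
import Mathlib.RingTheory.Spectrum.Prime.Topology

set_option autoImplicit false
universe u
open CAlg

namespace Groth.Agent.S6353

open PrimeSpectrum in
/-- For a commutative ring R, I ↦ V(I) is a bijection between pure ideals (R/I flat over R) and closed
subsets of Spec R stable under generalization. Stated here as: V(I) is stable under generalization
for I pure, and every closed generalization-stable subset is V(I) for some pure I (injectivity on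
pure ideals being the standard fact that pure ideals with the same zero locus coincide). -/
theorem result (R : Type u) [CommRing R] :
    (∀ I : Ideal R, I.Pure → StableUnderGeneralization (zeroLocus (I : Set R))) ∧
      ∀ Z : Set (PrimeSpectrum R), IsClosed Z → StableUnderGeneralization Z →
        ∃ I : Ideal R, I.Pure ∧ zeroLocus (I : Set R) = Z := by
  refine ⟨fun I hI p q hqp hp => ?_, fun Z hZ hgen => ?_⟩
  · haveI := hI
    intro x hx
    obtain ⟨y, hy, hxy⟩ := Ideal.exists_eq_mul_of_pure (show x ∈ I from hx)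
    have hle : q.asIdeal ≤ p.asIdeal := (PrimeSpectrum.le_iff_specializes q p).2 hqp
    refine (q.isPrime.mem_or_mem (show x * (1 - y) ∈ q.asIdeal by rw [mul_sub, mul_one, ← hxy, sub_self]; exact zero_mem _)).resolve_right fun h1 => p.isPrime.one_notMem ?_
    have h3 := add_mem (hle h1) (hp hy)
    rwa [sub_add_cancel] at h3
  obtain ⟨J, hJ⟩ := (PrimeSpectrum.isClosed_iff_zeroLocus_ideal Z).1 hZ
  let I : Ideal R :=
    { carrier := {x | ∀ p ∈ Z, ∃ s ∉ p.asIdeal, s * x = 0}
      add_mem' := fun {x y} hx hy p hp => by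
        obtain ⟨s, hs, h1⟩ := hx p hp
        obtain ⟨t, ht, h2⟩ := hy p hp
        exact ⟨s * t, p.isPrime.mul_notMem hs ht, by rw [mul_add, show s * t * x = t * (s * x) by ring, show s * t * y = s * (t * y) by ring, h1, h2, mul_zero, mul_zero, add_zero]⟩
      zero_mem' := fun p hp => ⟨1, p.isPrime.one_notMem, mul_zero 1⟩
      smul_mem' := fun r x hx p hp => by
        obtain ⟨s, hs, h1⟩ := hx p hp
        exact ⟨s, hs, by rw [smul_eq_mul, show s * (r * x) = r * (s * x) by ring, h1, mul_zero]⟩ }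
  have hloc : ∀ p ∈ Z, ∀ j ∈ J, ∃ s ∉ p.asIdeal, ∃ k : ℕ, s * j ^ k = 0 := by
    intro p hp j hj
    by_contra hno
    simp only [not_exists, not_and] at hno
    let S : Submonoid R := p.asIdeal.primeCompl ⊔ Submonoid.powers j
    have hdis : Disjoint ((⊥ : Ideal R) : Set R) (S : Set R) := Set.disjoint_left.2 fun y hy hy' => by
      obtain ⟨s, hs, z, ⟨k, rfl⟩, rfl⟩ := Submonoid.mem_sup.1 hy'
      exact hno s hs k hy
    obtain ⟨q, hq, -, hqS⟩ := Ideal.exists_le_prime_disjoint ⊥ S hdis
    have hqp : q ≤ p.asIdeal := fun y hy => by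
      by_contra hyp
      exact Set.disjoint_left.1 hqS hy (Submonoid.mem_sup_left hyp)
    have hqZ : (⟨q, hq⟩ : PrimeSpectrum R) ∈ Z := hgen ((PrimeSpectrum.le_iff_specializes _ p).1 hqp) hp
    rw [hJ] at hqZ
    exact Set.disjoint_left.1 hqS (hqZ hj) (Submonoid.mem_sup_right (Submonoid.mem_powers j))
  have hV : zeroLocus (I : Set R) = Z := by
    refine Set.Subset.antisymm (fun q hq => ?_) fun p hp x hx => ?_
    · by_contra hqZ
      have hsup : q.asIdeal ⊔ J = ⊤ := by
        by_contra hne
        obtain ⟨m, hm, hle⟩ := Ideal.exists_le_maximal _ hne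
        have hmZ : (⟨m, hm.isPrime⟩ : PrimeSpectrum R) ∈ Z := hJ ▸ fun y hy => hle (Submodule.mem_sup_right hy)
        exact hqZ (hgen ((PrimeSpectrum.le_iff_specializes _ _).1 (show q.asIdeal ≤ m from le_sup_left.trans hle)) hmZ)
      rw [Ideal.eq_top_iff_one, Submodule.mem_sup] at hsup
      obtain ⟨a, ha, j, hj, haj⟩ := hsup
      let O : ℕ → Set (PrimeSpectrum R) := fun k => {p | ∃ s ∉ p.asIdeal, s * j ^ k = 0}
      have hO : ∀ k, IsOpen (O k) := fun k => by
        rw [show O k = ⋃ s ∈ {s : R | s * j ^ k = 0}, (PrimeSpectrum.basicOpen s : Set (PrimeSpectrum R)) by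
          ext p; simp [O, PrimeSpectrum.mem_basicOpen, and_comm]]
        exact isOpen_biUnion fun s _ => (PrimeSpectrum.basicOpen s).isOpen
      have hmono : Monotone O := fun k l hkl p ⟨s, hs, h⟩ => ⟨s, hs, by
        rw [← Nat.add_sub_cancel' hkl, pow_add, ← mul_assoc, h, zero_mul]⟩
      obtain ⟨k, hk⟩ := hZ.isCompact.elim_directed_cover O hO (fun p hp => by
        obtain ⟨s, hs, k, h⟩ := hloc p hp j hj
        exact Set.mem_iUnion.2 ⟨k, s, hs, h⟩) hmono.directed_le
      have hjq : j ∉ q.asIdeal := fun h => q.isPrime.one_notMem (haj ▸ add_mem ha h)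
      exact hjq (q.isPrime.mem_of_pow_mem k (hq (show j ^ k ∈ I from fun p hp => hk hp)))
    · obtain ⟨s, hs, h⟩ := hx p hp
      exact (p.isPrime.mem_or_mem (h ▸ zero_mem _ : s * x ∈ p.asIdeal)).resolve_left hs
  refine ⟨I, Ideal.Pure.of_inf_eq_mul I fun K _ => le_antisymm (fun z hz => ?_) Ideal.mul_le_inf, hV⟩
  obtain ⟨y, hy, hzy⟩ : ∃ y ∈ I, z = y * z := by
    by_contra hno
    simp only [not_exists, not_and] at hno
    have hne : I ⊔ LinearMap.ker (LinearMap.toSpanSingleton R R z) ≠ ⊤ := fun htop => by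
      rw [Ideal.eq_top_iff_one, Submodule.mem_sup] at htop
      obtain ⟨y, hy, t, ht, hyt⟩ := htop
      simp only [LinearMap.mem_ker, LinearMap.toSpanSingleton_apply, smul_eq_mul] at ht
      refine hno y hy ?_
      calc z = (y + t) * z := by rw [hyt, one_mul]
        _ = y * z := by rw [add_mul, ht, add_zero]
    obtain ⟨m, hm, hle⟩ := Ideal.exists_le_maximal _ hne
    have hmZ : (⟨m, hm.isPrime⟩ : PrimeSpectrum R) ∈ Z := hV ▸ fun y hy => hle (Submodule.mem_sup_left hy)
    obtain ⟨s, hs, h⟩ := (show z ∈ I from hz.1) _ hmZ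
    exact hs (hle (Submodule.mem_sup_right (by simpa using h)))
  rw [hzy]
  exact Ideal.mul_mem_mul hy hz.2

end Groth.Agent.S6353
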