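import Groth.Statements.S6354
import Mathlib.RingTheory.Ideal.Pure
import Mathlib.RingTheory.Idempotents
import Mathlib.RingTheory.Flat.Basic
import Mathlib.RingTheory.Ideal.Quotient.Operations
import Mathlib.RingTheory.Spectrum.Prime.Topology

set_option autoImplicit false
universe u
open CAlg

namespace Groth.Agent.S6354

open PrimeSpectrum in
/-- For an ideal I of a commutative ring R these four conditions are equivalent: (1) I is finitely
generated and pure; (2) I = (e) for some idempotent e; (3) I is pure with V(I) open in Spec R; (4)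
R/I is projective as an R-module. -/
theorem result (R : Type u) [CommRing R] (I : Ideal R) :
    List.TFAE [I.Pure ∧ I.FG, ∃ e : R, IsIdempotentElem e ∧ I = Ideal.span {e},
      I.Pure ∧ IsOpen (zeroLocus (I : Set R)), Module.Projective R (R ⧸ I)] := by
  classical
  tfae_have 1 → 2
  | ⟨hp, hfg⟩ => by
    haveI := hp
    obtain ⟨e, he, h⟩ := (Ideal.isIdempotentElem_iff_of_fg I hfg).mp (Ideal.isIdempotentElem_of_pure I)
    exact ⟨e, he, h⟩
  tfae_have 2 → 4
  | ⟨e, he, h⟩ => by
    have hle : I ≤ LinearMap.ker (LinearMap.mulLeft R (1 - e)) := fun x hx => by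
      rw [h, Ideal.mem_span_singleton'] at hx
      obtain ⟨c, rfl⟩ := hx
      show (1 - e) * (c * e) = 0
      rw [mul_comm c, ← mul_assoc, sub_mul, one_mul, he.eq, sub_self, zero_mul]
    refine Module.Projective.of_split (Submodule.liftQ I _ hle) I.mkQ (LinearMap.ext fun z => ?_)
    obtain ⟨z, rfl⟩ := I.mkQ_surjective z
    simp only [LinearMap.comp_apply, Submodule.mkQ_apply, Submodule.liftQ_apply, LinearMap.id_apply]
    rw [Submodule.Quotient.eq, LinearMap.mulLeft_apply, h, Ideal.mem_span_singleton']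
    exact ⟨-z, by ring⟩
  tfae_have 4 → 2 := fun hproj => by
    obtain ⟨s, hs⟩ := Module.projective_lifting_property (I.mkQ) LinearMap.id (Submodule.mkQ_surjective I)
    let u := s (I.mkQ 1)
    have h1 : u - 1 ∈ I := by
      have := LinearMap.congr_fun hs (I.mkQ 1)
      exact (Submodule.Quotient.eq I).mp this
    have h2 : ∀ x ∈ I, x * u = 0 := fun x hx => by
      show x * s (I.mkQ 1) = 0
      rw [← smul_eq_mul, ← map_smul, ← map_smul, smul_eq_mul, mul_one,
        show I.mkQ x = 0 from (Submodule.Quotient.mk_eq_zero I).mpr hx, map_zero]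
    have h3 : (1 - u) ∈ I := by simpa using neg_mem h1
    refine ⟨1 - u, ?_, le_antisymm (fun x hx => Ideal.mem_span_singleton'.mpr ⟨x, by rw [mul_sub, mul_one, h2 x hx, sub_zero]⟩)
      ((Ideal.span_singleton_le_iff_mem _).mpr h3)⟩
    show (1 - u) * (1 - u) = 1 - u
    rw [mul_sub, mul_one, h2 _ h3, sub_zero]
  tfae_have 2 → 1
  | ⟨e, he, h⟩ => by
    have hfg : I.FG := h ▸ Submodule.fg_span_singleton e
    exact ⟨Ideal.Pure.of_isIdempotentElem hfg ((Ideal.isIdempotentElem_iff_of_fg I hfg).mpr ⟨e, he, h⟩), hfg⟩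
  tfae_have 2 → 3
  | ⟨e, he, h⟩ => by
    have hfg : I.FG := h ▸ Submodule.fg_span_singleton e
    refine ⟨Ideal.Pure.of_isIdempotentElem hfg ((Ideal.isIdempotentElem_iff_of_fg I hfg).mpr ⟨e, he, h⟩), ?_⟩
    rw [h, PrimeSpectrum.zeroLocus_span]
    exact (PrimeSpectrum.isClopen_iff_mul_add_zeroLocus.mpr
      ⟨e, 1 - e, by rw [mul_sub, mul_one, he.eq, sub_self], by ring, rfl⟩).isOpen
  tfae_have 3 → 2
  | ⟨hp, hopen⟩ => by
    haveI := hp
    obtain ⟨a, f, mul, add, hV⟩ := PrimeSpectrum.isClopen_iff_mul_add_zeroLocus.mp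
      (⟨PrimeSpectrum.isClosed_zeroLocus _, hopen⟩ : IsClopen (zeroLocus (I : Set R)))
    have ha : IsIdempotentElem a := by
      show a * a = a
      conv_rhs => rw [← mul_one a, ← add, mul_add, mul, add_zero]
    haveI : (Ideal.span {a}).Pure := Ideal.Pure.of_isIdempotentElem (Submodule.fg_span_singleton _)
      ((Ideal.isIdempotentElem_iff_of_fg _ (Submodule.fg_span_singleton _)).mpr ⟨a, ha, rfl⟩)
    refine ⟨a, ha, Ideal.zeroLocus_inj_of_pure.mp ?_⟩
    rw [hV, PrimeSpectrum.zeroLocus_span]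
  tfae_finish

end Groth.Agent.S6354
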