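import Groth.Statements.S6355
import Mathlib.RingTheory.Flat.LocallyFree
import Mathlib.RingTheory.LocalProperties.FinitePresentation
import Mathlib.RingTheory.Ideal.Pure
import Mathlib.RingTheory.Flat.Basic
import Mathlib.RingTheory.LocalRing.Module

set_option autoImplicit false
set_option backward.isDefEq.respectTransparency false
universe u
open CAlg

namespace Groth.Agent.S6355

/-- For a commutative ring R the following are equivalent: (1) every subset of Spec R which is closed
and stable under generalization is open; (2) every finite flat R-module is finite locally free, i.e.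
(for finite modules) projective. -/
theorem result (R : Type u) [CommRing R] :
    (∀ Z : Set (PrimeSpectrum R), IsClosed Z → StableUnderGeneralization Z → IsOpen Z) ↔
      ∀ (M : Type u) [AddCommGroup M] [Module R M], Module.Finite R M → Module.Flat R M →
        Module.Projective R M := by
  constructor
  · intro h M _ _ hfin hflat
    haveI := hfin; haveI := hflat
    have key : ∀ p : PrimeSpectrum R, ∃ a ∉ p.asIdeal,
        (∀ q : PrimeSpectrum R, a ∉ q.asIdeal → Module.rankAtStalk M q ≤ Module.rankAtStalk M p) ∧
        (∀ b, (∀ q : PrimeSpectrum R, a * b ∉ q.asIdeal → Module.rankAtStalk M q = Module.rankAtStalk M p) →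
          Module.Free (Localization.Away (a * b)) (LocalizedModule.Away (a * b) M)) := by
      intro p
      rcases subsingleton_or_nontrivial R with hR | _
      · exact absurd (Subsingleton.elim p.asIdeal ⊤) p.2.ne_top
      let Rₚ := Localization.AtPrime p.asIdeal
      let n := Module.rankAtStalk M p
      haveI : Module.Free Rₚ (LocalizedModule.AtPrime p.asIdeal M) := Module.free_of_flat_of_isLocalRing
      let f : (Fin n →₀ R) →ₗ[R] Fin n →₀ Rₚ := Finsupp.mapRange.linearMap (Algebra.linearMap R Rₚ)
      let g : M →ₗ[R] LocalizedModule.AtPrime p.asIdeal M := LocalizedModule.mkLinearMap p.asIdeal.primeCompl M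
      obtain ⟨φ, -, -, hφps⟩ := Module.exists_localizedMap_surjective_of_surjective p.asIdeal.primeCompl f g
        ((Module.finBasis Rₚ (LocalizedModule.AtPrime p.asIdeal M)).repr.restrictScalars R).symm.surjective
      obtain ⟨a, hap, hφas⟩ := by
        refine Module.exists_localizedMap_away_surjective_of_localizedMap_atPrime_surjective p.asIdeal φ ?_
        simpa [LocalizedModule.coe_map_eq f g]
      have hgen : ∀ m : M, ∃ (k : ℕ), a ^ k • m ∈ LinearMap.range φ := by
        intro m
        obtain ⟨z, hz⟩ := hφas (LocalizedModule.mkLinearMap (Submonoid.powers a) M m)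
        induction z using LocalizedModule.induction_on with
        | h x s =>
          rw [LocalizedModule.map_mk, LocalizedModule.mkLinearMap_apply, LocalizedModule.mk_eq] at hz
          obtain ⟨⟨_, k, rfl⟩, hk⟩ := hz
          obtain ⟨l, hl⟩ := s.2
          refine ⟨k + l, a ^ k • x, ?_⟩
          simp only [Submonoid.smul_def, one_smul] at hk
          rw [← hl] at hk
          rw [map_smul, hk, pow_add, mul_smul]
      have hloc : ∀ (S : Submonoid R), (∃ s ∈ S, a ∣ s) → Function.Surjective (LocalizedModule.map S φ) := by
        intro S ⟨s, hs, c, hc⟩ z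
        induction z using LocalizedModule.induction_on with
        | h m t =>
          obtain ⟨k, x, hx⟩ := hgen m
          refine ⟨LocalizedModule.mk (c ^ k • x) (⟨s ^ k, S.pow_mem hs k⟩ * t), ?_⟩
          rw [LocalizedModule.map_mk, LocalizedModule.mk_eq]
          refine ⟨1, ?_⟩
          simp only [Submonoid.smul_def, Submonoid.coe_mul, Submonoid.coe_one, one_smul, map_smul, hx, smul_smul]
          congr 1
          rw [hc]
          ring
      have hle : ∀ q : PrimeSpectrum R, a ∉ q.asIdeal → Module.rankAtStalk M q ≤ n := by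
        intro q hq
        have h1 := LinearMap.finrank_le_finrank_of_surjective (hloc q.asIdeal.primeCompl ⟨a, hq, dvd_rfl⟩)
        have h2 : Module.rankAtStalk (R := R) (Fin n →₀ R) q = n := by
          rw [Module.rankAtStalk_eq_finrank_of_free]
          simp
        exact h1.trans_eq h2
      refine ⟨a, hap, hle, fun b hconst => ?_⟩
      haveI : Module.Free (Localization.Away (a * b)) (LocalizedModule.Away (a * b) (Fin n →₀ R)) := by
        exact Module.free_of_isLocalizedModule (M := Fin n →₀ R) (Rₛ := Localization.Away (a * b)) (Mₛ := LocalizedModule.Away (a * b) (Fin n →₀ R)) (Submonoid.powers (a * b)) (LocalizedModule.mkLinearMap (Submonoid.powers (a * b)) (Fin n →₀ R))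
      let φb := LocalizedModule.map (Submonoid.powers (a * b)) φ
      have hsb : Function.Surjective φb := hloc _ ⟨a * b, Submonoid.mem_powers _, dvd_mul_right a b⟩
      refine Module.Free.of_equiv (LinearEquiv.ofBijective φb
        (Module.bijective_of_surjective_of_rankAtStalk_eq hsb fun m _ => ?_))
      rw [Module.rankAtStalk_isBaseChange (LocalizedModule.isBaseChange (Submonoid.powers (a * b)) _),
        Module.rankAtStalk_isBaseChange (LocalizedModule.isBaseChange (Submonoid.powers (a * b)) _),
        Module.rankAtStalk_eq_finrank_of_free, hconst]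
      · simp [n]
      · intro hmem
        have hu : IsUnit (algebraMap R (Localization.Away (a * b)) (a * b)) :=
          IsLocalization.map_units (Localization.Away (a * b)) ⟨a * b, Submonoid.mem_powers _⟩
        exact Ideal.IsMaximal.ne_top ‹m.IsMaximal› (Ideal.eq_top_of_isUnit_mem m hmem hu)
    have hZopen : ∀ n, IsOpen {q : PrimeSpectrum R | n < Module.rankAtStalk M q} := by
      intro n
      refine h _ ⟨isOpen_iff_forall_mem_open.2 fun p hp => ?_⟩ fun p q hqp hp => ?_
      · obtain ⟨a, hap, hle, -⟩ := key p
        exact ⟨PrimeSpectrum.basicOpen a, fun q hq hlt => hp (hlt.trans_le (hle q hq)),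
          (PrimeSpectrum.basicOpen a).isOpen, hap⟩
      · rw [Set.mem_setOf_eq] at hp ⊢
        rwa [Module.rankAtStalk_eq_of_le_of_finite_of_flat M ((PrimeSpectrum.le_iff_specializes q p).2 hqp)]
    have hloc : ∀ p : PrimeSpectrum R, ∃ b, b ∉ p.asIdeal ∧ Module.Free (Localization.Away b) (LocalizedModule.Away b M) := by
      intro p
      obtain ⟨a, hap, hle, hfree⟩ := key p
      have hopen : IsOpen ((PrimeSpectrum.basicOpen a : Set (PrimeSpectrum R)) ∩
          {q | Module.rankAtStalk M p ≤ Module.rankAtStalk M q}) := by
        refine (PrimeSpectrum.basicOpen a).isOpen.inter ?_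
        rcases Nat.eq_zero_or_pos (Module.rankAtStalk M p) with h0 | hpos
        · simp [h0]
        · have : {q | Module.rankAtStalk M p ≤ Module.rankAtStalk M q} =
              {q : PrimeSpectrum R | Module.rankAtStalk M p - 1 < Module.rankAtStalk M q} := by
            ext q; simp only [Set.mem_setOf_eq]; omega
          rw [this]; exact hZopen _
      obtain ⟨_, ⟨_, ⟨a', rfl⟩, rfl⟩, hpa', hsub⟩ := PrimeSpectrum.isBasis_basic_opens.exists_subset_of_mem_open
        (a := p) (by exact ⟨hap, Set.mem_setOf_eq.symm ▸ le_rfl⟩) hopen
      refine ⟨a * a', fun hmem => (p.2.mem_or_mem hmem).elim hap hpa', hfree a' fun q hq => ?_⟩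
      have hqa : a ∉ q.asIdeal := fun hmem => hq (q.asIdeal.mul_mem_right _ hmem)
      exact le_antisymm (hle q hqa) (hsub (show q ∈ (PrimeSpectrum.basicOpen a' : Set (PrimeSpectrum R)) from fun hmem => hq (q.asIdeal.mul_mem_left _ hmem))).2
    haveI : Module.FinitePresentation R M := by
      choose b hb hfree using hloc
      refine Module.FinitePresentation.of_localizationSpan (Set.range b) ?_ ?_
      · refine PrimeSpectrum.iSup_basicOpen_eq_top_iff.1 (eq_top_iff.2 fun p _ => TopologicalSpace.Opens.mem_iSup.2 ⟨p, hb p⟩)
      · rintro ⟨_, p, rfl⟩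
        haveI := hfree p
        exact Module.finitePresentation_of_projective _ _
    exact Module.Flat.projective_of_finitePresentation
  · intro h Z hZ hgen
    let J := PrimeSpectrum.vanishingIdeal Z
    let T : Submonoid R :=
      { carrier := {x | 1 - x ∈ J}
        one_mem' := by simp
        mul_mem' := fun {x y} hx hy => by
          have : 1 - x * y = (1 - x) + x * (1 - y) := by ring
          simp only [Set.mem_setOf_eq] at *
          rw [this]; exact J.add_mem hx (J.mul_mem_left _ hy) }
    let I := RingHom.ker (algebraMap R (Localization T))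
    have hI : ∀ x, x ∈ I ↔ ∃ j ∈ J, x = x * j := fun x => by
      rw [RingHom.mem_ker, IsLocalization.map_eq_zero_iff T]
      constructor
      · rintro ⟨⟨t, ht⟩, htx⟩
        exact ⟨1 - t, ht, by rw [mul_sub, mul_one, mul_comm x t, htx, sub_zero]⟩
      · rintro ⟨j, hj, hx⟩
        exact ⟨⟨1 - j, by show 1 - (1 - j) ∈ J; simpa using hj⟩, by rw [sub_mul, one_mul, mul_comm j x, ← hx, sub_self]⟩
    have hrange : Set.range (PrimeSpectrum.comap (algebraMap R (Localization T))) ⊆ Z := by
      rintro _ ⟨q, rfl⟩
      set p := PrimeSpectrum.comap (algebraMap R (Localization T)) q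
      have hne : p.asIdeal ⊔ J ≠ ⊤ := fun htop => by
        obtain ⟨x, hx, j, hj, hxj⟩ := Submodule.mem_sup.1 ((Ideal.eq_top_iff_one _).1 htop)
        have hxT : x ∈ T := by show 1 - x ∈ J; rw [← hxj, add_sub_cancel_left]; exact hj
        exact q.2.ne_top (Ideal.eq_top_of_isUnit_mem _ hx (IsLocalization.map_units (Localization T) ⟨x, hxT⟩))
      obtain ⟨m, hm, hle⟩ := Ideal.exists_le_maximal _ hne
      have hmZ : (⟨m, hm.isPrime⟩ : PrimeSpectrum R) ∈ Z := by
        rw [← hZ.closure_eq, ← PrimeSpectrum.zeroLocus_vanishingIdeal_eq_closure]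
        exact le_sup_right.trans hle
      exact hgen ((PrimeSpectrum.le_iff_specializes p ⟨m, hm.isPrime⟩).1 (le_sup_left.trans hle)) hmZ
    have hVI : PrimeSpectrum.zeroLocus (I : Set R) = Z := by
      refine Set.Subset.antisymm ?_ fun p hp x hx => ?_
      · rw [← PrimeSpectrum.closure_range_comap]
        exact (closure_mono hrange).trans hZ.closure_eq.le
      · obtain ⟨j, hj, hxj⟩ := (hI x).1 hx
        have : x * (1 - j) ∈ p.asIdeal := by rw [mul_sub, mul_one, ← hxj, sub_self]; exact p.asIdeal.zero_mem
        refine (p.2.mem_or_mem this).resolve_right fun h1 => p.2.ne_top ((Ideal.eq_top_iff_one _).2 ?_)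
        have := p.asIdeal.add_mem h1 ((PrimeSpectrum.mem_vanishingIdeal _ _).1 hj p hp)
        simpa using this
    haveI : I.Pure := by
      refine Ideal.Pure.of_inf_eq_mul I fun K _ => le_antisymm (fun x hx => ?_) Ideal.mul_le_inf
      obtain ⟨j, hj, hxj⟩ := (hI x).1 hx.1
      have hjI : j ∈ I.radical := by
        rw [← PrimeSpectrum.vanishingIdeal_zeroLocus_eq_radical, hVI]; exact hj
      obtain ⟨n, hn⟩ := hjI
      have hxn : ∀ k, x = x * j ^ k := fun k => by
        induction k with
        | zero => simp
        | succ k ih => rw [pow_succ, ← mul_assoc, ← ih, ← hxj]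
      rw [hxn n, mul_comm x]
      exact Ideal.mul_mem_mul hn hx.2
    haveI : Module.Projective R (R ⧸ I) := h (R ⧸ I) inferInstance inferInstance
    haveI : Module.FinitePresentation R (R ⧸ I) := Module.finitePresentation_of_projective _ _
    have hfg : I.FG := by
      have := Module.FinitePresentation.fg_ker (Submodule.mkQ I) (Submodule.mkQ_surjective I)
      rwa [Submodule.ker_mkQ] at this
    obtain ⟨e, he, hIe⟩ := (Ideal.isIdempotentElem_iff_of_fg _ hfg).1 (Ideal.isIdempotentElem_of_pure I)
    rw [← hVI, show (I : Ideal R) = Ideal.span {e} from hIe, PrimeSpectrum.zeroLocus_span]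
    have heq : PrimeSpectrum.zeroLocus ({e} : Set R) = (PrimeSpectrum.basicOpen (1 - e) : Set (PrimeSpectrum R)) := by
      ext p
      simp only [PrimeSpectrum.mem_zeroLocus, Set.singleton_subset_iff, SetLike.mem_coe, PrimeSpectrum.mem_basicOpen]
      refine ⟨fun h1 h2 => p.2.ne_top ((Ideal.eq_top_iff_one _).2 ?_), fun h2 => ?_⟩
      · simpa using p.asIdeal.add_mem h1 h2
      · refine (p.2.mem_or_mem ?_).resolve_right h2
        rw [mul_sub, mul_one, he, sub_self]
        exact p.asIdeal.zero_mem
    rw [heq]
    exact (PrimeSpectrum.basicOpen (1 - e)).isOpen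

end Groth.Agent.S6355
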