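import Groth.Statements.S6357
import Groth.Agent.ML.Module
import Mathlib.LinearAlgebra.TensorProduct.DirectLimit

set_option autoImplicit false
universe u
open CAlg

namespace Groth.Agent.S6357


open Groth.Agent.ML.Module TensorProduct

section aux
variable {R : Type u} [CommRing R] {ι : Type u} [Preorder ι] [IsDirected ι (· ≤ ·)] [DecidableEq ι]
  {G : ι → Type u} [∀ i, AddCommGroup (G i)] [∀ i, Module R (G i)]
  {f : ∀ i j, i ≤ j → G i →ₗ[R] G j} [DirectedSystem G fun i j h => f i j h]

lemma exists_rTensor_eq_zero {X : Type u} [AddCommGroup X] [Module R X] {i : ι} (z : G i ⊗[R] X)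
    (hz : (Module.DirectLimit.of R ι G f i).rTensor X z = 0) :
    ∃ j, ∃ h : i ≤ j, (f i j h).rTensor X z = 0 := by
  have h1 : TensorProduct.directLimitLeft f X ((Module.DirectLimit.of R ι G f i).rTensor X z) =
      Module.DirectLimit.of R ι (fun i => G i ⊗[R] X) (fun i j h => (f i j h).rTensor X) i z := by
    clear hz
    induction z using TensorProduct.induction_on with
    | zero => simp
    | add x y hx hy => simp [hx, hy]
    | tmul a b => simp
  rw [hz, map_zero] at h1
  exact Module.DirectLimit.of.zero_exact h1.symm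

lemma exists_rTensor_lift [Nonempty ι] {X : Type u} [AddCommGroup X] [Module R X]
    (z : Module.DirectLimit G f ⊗[R] X) :
    ∃ i w, (Module.DirectLimit.of R ι G f i).rTensor X w = z := by
  induction z using TensorProduct.induction_on with
  | zero => exact ⟨Classical.arbitrary ι, 0, map_zero _⟩
  | tmul a b =>
    obtain ⟨i, a, rfl⟩ := Module.DirectLimit.exists_of a
    exact ⟨i, a ⊗ₜ b, rfl⟩
  | add x y hx hy =>
    obtain ⟨i, v, rfl⟩ := hx
    obtain ⟨j, w, rfl⟩ := hy
    obtain ⟨k, hik, hjk⟩ := exists_ge_ge i j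
    refine ⟨k, (f i k hik).rTensor X v + (f j k hjk).rTensor X w, ?_⟩
    rw [map_add, ← LinearMap.rTensor_comp_apply, ← LinearMap.rTensor_comp_apply]
    congr 2 <;> · ext a; simp

end aux

/-- Given finitely presented R-modules G_i forming a directed system over a nonempty directed index set,
with transition maps f_ij and colimit M, the module M is Mittag-Leffler exactly when every index i
admits some j ≥ i for which f_ij factors through f_ik whenever k ≥ i. -/
theorem result (R : Type u) [CommRing R] {ι : Type u}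
    [Preorder ι] [IsDirected ι (· ≤ ·)] [Nonempty ι] [DecidableEq ι] (G : ι → Type u)
    [∀ i, AddCommGroup (G i)] [∀ i, Module R (G i)] [∀ i, Module.FinitePresentation R (G i)]
    (f : ∀ i j, i ≤ j → G i →ₗ[R] G j) [DirectedSystem G fun i j h => f i j h] :
    CAlg.IsMittagLeffler R (Module.DirectLimit G f) ↔
      ∀ i, ∃ (j : ι) (hij : i ≤ j), ∀ (k : ι) (hik : i ≤ k),
        ∃ h : G k →ₗ[R] G j, f i j hij = h ∘ₗ f i k hik := by
  classical
  constructor
  · intro hM i
    by_contra hcon
    push Not at hcon
    have hw : ∀ j : {j // i ≤ j}, ∃ (N : Type u) (_ : AddCommGroup N) (_ : Module R N) (z : G i ⊗[R] N),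
        (Module.DirectLimit.of R ι G f i).rTensor N z = 0 ∧ (f i j.1 j.2).rTensor N z ≠ 0 := by
      rintro ⟨j, hij⟩
      by_contra hc
      push Not at hc
      obtain ⟨k, hik, hk⟩ := hcon j hij
      obtain ⟨t, ht⟩ := exists_factor_of_ker_le (f i k hik) (f i j hij) fun N _ _ z hz => by
        refine LinearMap.mem_ker.mpr (hc N inferInstance inferInstance z ?_)
        have : Module.DirectLimit.of R ι G f i = Module.DirectLimit.of R ι G f k ∘ₗ f i k hik := by
          ext x; simp
        rw [this, LinearMap.rTensor_comp_apply, LinearMap.mem_ker.mp hz, map_zero]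
      exact hk t ht.symm
    choose N i₁ i₂ z hz hne using hw
    obtain ⟨w, hw⟩ := pi_surjective (R := R) (Q := N) (G i) z
    have h0 : (Module.DirectLimit.of R ι G f i).rTensor _ w = 0 :=
      hM _ N (funext fun j => by rw [pi_natural, hw, hz]; simp)
    obtain ⟨j, hij, hj⟩ := exists_rTensor_eq_zero w h0
    apply hne ⟨j, hij⟩
    rw [← hw, ← pi_natural, hj]
    simp
  · intro h
    refine of_dominate fun n a => ?_
    have hlift : ∃ (i : ι) (b : (Fin n → R) →ₗ[R] G i), Module.DirectLimit.of R ι G f i ∘ₗ b = a := by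
      choose i x hx using fun k => Module.DirectLimit.exists_of (a (Pi.single k 1))
      obtain ⟨m, hm⟩ := Finite.exists_le i
      refine ⟨m, Fintype.linearCombination R fun k => f (i k) m (hm k) (x k),
        (Pi.basisFun R (Fin n)).ext fun k => ?_⟩
      simp [hx]
    obtain ⟨i, b, rfl⟩ := hlift
    obtain ⟨j, hij, hj⟩ := h i
    refine ⟨G j, inferInstance, inferInstance, inferInstance, f i j hij ∘ₗ b, fun N _ _ => ?_⟩
    refine le_antisymm (fun z hz => ?_) (fun z hz => ?_)
    · rw [LinearMap.mem_ker, LinearMap.rTensor_comp_apply] at hz ⊢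
      obtain ⟨k, hik, hk⟩ := exists_rTensor_eq_zero _ hz
      obtain ⟨t, ht⟩ := hj k hik
      rw [ht, LinearMap.rTensor_comp_apply, hk, map_zero]
    · rw [LinearMap.mem_ker] at hz ⊢
      have : Module.DirectLimit.of R ι G f i ∘ₗ b =
          Module.DirectLimit.of R ι G f j ∘ₗ f i j hij ∘ₗ b := by
        ext x; simp
      rw [this, LinearMap.rTensor_comp_apply, hz, map_zero]

end Groth.Agent.S6357
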