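import Groth.Statements.S6369
import Mathlib

set_option autoImplicit false
universe u
open CAlg

namespace Groth.Agent.S6369

open scoped nonZeroDivisors

theorem dedekind_aux (R : Type u) [CommRing R] [IsDomain R]
    (h : ∀ I : Ideal R, I ≠ ⊥ → ∃! s : Multiset (Ideal R), (∀ p ∈ s, p.IsPrime ∧ p ≠ ⊥) ∧ s.prod = I) :
    IsDedekindDomain R := by
  classical
  have cancel : ∀ I J J' : Ideal R, I ≠ ⊥ → J ≠ ⊥ → J' ≠ ⊥ → I * J = I * J' → J = J' := by
    intro I J J' hI hJ hJ' e
    obtain ⟨s, ⟨hs, hse⟩, -⟩ := h I hI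
    obtain ⟨t, ⟨ht, hte⟩, -⟩ := h J hJ
    obtain ⟨t', ⟨ht', hte'⟩, -⟩ := h J' hJ'
    have hu := (h (I * J) (mul_ne_zero hI hJ)).unique
      (y₁ := s + t) (y₂ := s + t')
      ⟨fun p hp => (Multiset.mem_add.1 hp).elim (hs p) (ht p), by rw [Multiset.prod_add, hse, hte]⟩
      ⟨fun p hp => (Multiset.mem_add.1 hp).elim (hs p) (ht' p), by rw [Multiset.prod_add, hse, hte', e]⟩
    rw [← hte, ← hte', add_left_cancel hu]
  have hmax : ∀ P : Ideal R, P.IsPrime → P ≠ ⊥ → P.IsMaximal := by
    intro P hP hP0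
    refine Ideal.isMaximal_iff.2 ⟨fun h1 => hP.ne_top ((Ideal.eq_top_iff_one P).2 h1), fun J a hPJ haP haJ => ?_⟩
    have key : ∀ p ∈ P, p * a ∈ P * (P ⊔ Ideal.span {a * a}) := by
      intro p hp
      rcases eq_or_ne p 0 with rfl | hp0
      · simp
      have hne : ∀ x y : R, x ≠ 0 → Ideal.span {x, y} ≠ ⊥ := fun x y hx h' =>
        hx (Ideal.mem_bot.1 (h' ▸ Ideal.subset_span (Set.mem_insert x _)))
      have e : Ideal.span {p, a} * Ideal.span {p, a} = Ideal.span {p * p, a * a} := by
        refine cancel (Ideal.span {p, a}) _ _ (hne _ _ hp0) (mul_ne_zero (hne _ _ hp0) (hne _ _ hp0))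
          (hne _ _ (mul_ne_zero hp0 hp0)) ?_
        simp only [Ideal.span_insert, ← Ideal.span_singleton_mul_span_singleton, Ideal.mul_sup, Ideal.sup_mul,
          mul_assoc, mul_comm, mul_left_comm, sup_comm, sup_left_comm, sup_idem, sup_left_idem]
      have hpa : p * a ∈ Ideal.span {p * p, a * a} :=
        e ▸ Ideal.mul_mem_mul (Ideal.subset_span (by simp)) (Ideal.subset_span (by simp))
      obtain ⟨x, y, hxy⟩ := Ideal.mem_span_pair.1 hpa
      have hy : y * (a * a) ∈ P := by
        rw [show y * (a * a) = p * a - x * (p * p) by rw [← hxy]; ring]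
        exact sub_mem (P.mul_mem_right _ hp) (P.mul_mem_left _ (P.mul_mem_right _ hp))
      have hyP : y ∈ P := (hP.mem_or_mem hy).resolve_right fun h2 => haP ((hP.mem_or_mem h2).elim id id)
      rw [← hxy]
      refine add_mem ?_ (Ideal.mul_mem_mul hyP (Ideal.mem_sup_right (Ideal.mem_span_singleton_self _)))
      rw [← mul_assoc]
      exact Ideal.mul_mem_mul (P.mul_mem_left _ hp) (Ideal.mem_sup_left hp)
    have ha0 : a ≠ 0 := fun h => haP (h ▸ P.zero_mem)
    have hle : P * (P ⊔ Ideal.span {a}) = P * (P ⊔ Ideal.span {a * a}) := by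
      refine le_antisymm ?_ (Ideal.mul_mono_right (sup_le le_sup_left ((Ideal.span_singleton_le_iff_mem _).2
        (Ideal.mem_sup_right (Ideal.mul_mem_left _ _ (Ideal.mem_span_singleton_self a))))))
      rw [Ideal.mul_sup, Ideal.mul_sup]
      refine sup_le le_sup_left (Ideal.mul_le.2 fun p hp c hc => ?_)
      obtain ⟨c, rfl⟩ := Ideal.mem_span_singleton'.1 hc
      rw [← Ideal.mul_sup, mul_left_comm]
      exact Ideal.mul_mem_left _ _ (key p hp)
    have hsup : ∀ c : R, c ≠ 0 → P ⊔ Ideal.span {c} ≠ ⊥ := fun c hc h' =>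
      hP0 (le_bot_iff.1 (h' ▸ le_sup_left))
    have heq := cancel P _ _ hP0 (hsup a ha0) (hsup _ (mul_ne_zero ha0 ha0)) hle
    have hmem : a ∈ P ⊔ Ideal.span {a * a} := heq ▸ Ideal.mem_sup_right (Ideal.mem_span_singleton_self a)
    obtain ⟨q, hq, z, hz, hqz⟩ := Submodule.mem_sup.1 hmem
    obtain ⟨r, rfl⟩ := Ideal.mem_span_singleton'.1 hz
    have h1 : a * (1 - r * a) ∈ P := by
      rw [show a * (1 - r * a) = a - r * (a * a) by ring]
      nth_rewrite 1 [← hqz]
      simpa using hq
    have h2 := (hP.mem_or_mem h1).resolve_left haP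
    have : (1 : R) = (1 - r * a) + r * a := by ring
    rw [this]
    exact add_mem (hPJ h2) (J.mul_mem_left _ haJ)
  have hinv : ∀ P : Ideal R, P.IsPrime → P ≠ ⊥ → IsUnit (P : FractionalIdeal R⁰ (FractionRing R)) := by
    intro P hP hP0
    obtain ⟨a, ha, ha0⟩ := Submodule.exists_mem_ne_zero_of_ne_bot hP0
    obtain ⟨s, ⟨hs, hse⟩, -⟩ := h (Ideal.span {a}) (by simpa using ha0)
    obtain ⟨Q, hQs, hQP⟩ := (Ideal.IsPrime.multiset_prod_le hP).1 (hse ▸ (Ideal.span_singleton_le_iff_mem _).2 ha)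
    obtain rfl : Q = P := (hmax Q (hs Q hQs).1 (hs Q hQs).2).eq_of_le hP.ne_top hQP
    obtain ⟨t, rfl⟩ := Multiset.exists_cons_of_mem hQs
    rw [Multiset.prod_cons] at hse
    have hu : IsUnit ((Ideal.span {a} : Ideal R) : FractionalIdeal R⁰ (FractionRing R)) := by
      rw [FractionalIdeal.coeIdeal_span_singleton]
      refine IsUnit.of_mul_eq_one (FractionalIdeal.spanSingleton R⁰ ((algebraMap R (FractionRing R) a)⁻¹)) ?_
      rw [FractionalIdeal.spanSingleton_mul_spanSingleton, mul_inv_cancel₀, FractionalIdeal.spanSingleton_one]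
      simpa using ha0
    rw [← hse, FractionalIdeal.coeIdeal_mul] at hu
    exact isUnit_of_mul_isUnit_left hu
  refine (isDedekindDomain_iff_mul_inv_cancel (A := R) (K := FractionRing R)).2 fun J hJ => ?_
  obtain ⟨d, I, hd, rfl⟩ := FractionalIdeal.exists_eq_spanSingleton_mul J
  have hI : I ≠ ⊥ := fun h' => hJ (by rw [h', FractionalIdeal.coeIdeal_bot, mul_zero]; rfl)
  obtain ⟨s, ⟨hs, rfl⟩, -⟩ := h I hI
  rw [FractionalIdeal.mul_inv_cancel_iff_isUnit]
  refine IsUnit.mul ?_ ?_
  · refine IsUnit.of_mul_eq_one (FractionalIdeal.spanSingleton R⁰ (algebraMap R (FractionRing R) d)) ?_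
    rw [FractionalIdeal.spanSingleton_mul_spanSingleton, inv_mul_cancel₀ (by simpa using hd), FractionalIdeal.spanSingleton_one]
  · clear hJ hI
    induction s using Multiset.induction_on with
    | empty => simp
    | cons Q s ih =>
      rw [Multiset.prod_cons, FractionalIdeal.coeIdeal_mul]
      refine IsUnit.mul (hinv Q (hs Q (Multiset.mem_cons_self _ _)).1 (hs Q (Multiset.mem_cons_self _ _)).2) ?_
      have hs' : ∀ p ∈ s, p.IsPrime ∧ p ≠ ⊥ := fun p hp => hs p (Multiset.mem_cons_of_mem hp)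
      exact ih hs'


/-- (1) ⇒ (3): let R be a domain such that every nonzero ideal is a product of nonzero prime ideals,
uniquely up to permutation of the factors. Then R is Noetherian, integrally closed and of dimension
at most one, i.e. a Dedekind domain in the Noetherian sense. (The converse and the description by
discrete valuation rings at maximal ideals are the standard equivalences.) -/
theorem result (R : Type u) [CommRing R] [IsDomain R]
    (h : ∀ I : Ideal R, I ≠ ⊥ → ∃! s : Multiset (Ideal R), (∀ p ∈ s, p.IsPrime ∧ p ≠ ⊥) ∧ s.prod = I) :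
    IsDedekindDomain R := by
  exact dedekind_aux R h

end Groth.Agent.S6369
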