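import Groth.Statements.S6370
import Groth.Agent.Misc9.DimOneGlue
-- import your own Groth.Agent.* helpers here

set_option autoImplicit false
universe u
open CAlg

namespace Groth.Agent.S6370

/-- For a one-dimensional Noetherian domain A with fraction field K, a finite field extension L of K
(separable or not) and B the integral closure of A in L: B is a Dedekind domain, Spec B → Spec A is
surjective and has finite fibres, and at every maximal ideal Q of B the residue field B/Q is finite
over A/(Q ∩ A). -/
theorem result (A K L B : Type u) [CommRing A] [IsDomain A]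
    [IsNoetherianRing A] (hdim : ringKrullDim A = 1) [Field K] [Algebra A K] [IsFractionRing A K]
    [Field L] [Algebra K L] [FiniteDimensional K L] [Algebra A L] [IsScalarTower A K L]
    [CommRing B] [IsDomain B] [Algebra A B] [Algebra B L] [IsScalarTower A B L] [IsIntegralClosure B A L] :
    IsDedekindDomain B ∧ Function.Surjective (PrimeSpectrum.comap (algebraMap A B)) ∧
      (∀ p : PrimeSpectrum A, (PrimeSpectrum.comap (algebraMap A B) ⁻¹' {p}).Finite) ∧
      ∀ Q : Ideal B, Q.IsMaximal → Module.Finite (A ⧸ Q.comap (algebraMap A B)) (B ⧸ Q) := by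
  have := Misc9.DimOne.krullDimLE hdim
  have : FaithfulSMul B L :=
    (faithfulSMul_iff_algebraMap_injective _ _).2 (IsIntegralClosure.algebraMap_injective B A L)
  have hint : Algebra.IsIntegral A B := IsIntegralClosure.isIntegral_algebra A L
  have : IsFractionRing B L := IsIntegralClosure.isFractionRing_of_finite_extension A K L B
  have hinj : Function.Injective (algebraMap A B) :=
    Misc9.DimOne.algebraMap_injective (C := B) A K L
  have hA := Misc9.DimOne.not_isField hdim
  refine ⟨?_, ?_, fun p => ?_, fun Q hQ => ?_⟩
  · refine (isDedekindDomain_iff B L).2 ⟨inferInstance, Misc9.DimOne.isNoetherianRing A K L,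
      Misc9.DimOne.dimensionLEOne A K L, fun {x} hx => ?_⟩
    exact (IsIntegralClosure.isIntegral_iff (R := A) (A := B)).1 (isIntegral_trans x hx)
  · exact (algebraMap_isIntegral_iff.2 hint).comap_surjective hinj
  · by_cases hp : p.asIdeal = ⊥
    · refine (Set.finite_singleton (⟨⊥, Ideal.isPrime_bot⟩ : PrimeSpectrum B)).subset fun q hq => ?_
      refine PrimeSpectrum.ext ?_
      by_contra h
      exact Misc9.DimOne.comap_ne_bot A K L h ((congrArg PrimeSpectrum.asIdeal hq).trans hp)
    · obtain ⟨f, hfp, hf⟩ := Submodule.exists_mem_ne_zero_of_ne_bot hp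
      refine (Misc9.DimOne.finite_primes_over (C := B) A K L hf).subset fun q hq => ?_
      have hqp : q.asIdeal.comap (algebraMap A B) = p.asIdeal := congrArg PrimeSpectrum.asIdeal hq
      exact Ideal.mem_comap.1 (hqp.symm ▸ hfp)
  · have hQ0 : Q ≠ ⊥ := Ring.ne_bot_of_isMaximal_of_not_isField hQ
      fun h => hA (isField_of_isIntegral_of_isField hinj h)
    have := Misc9.DimOne.finite_quotient_over A K L hQ0
    exact Module.Finite.of_restrictScalars_finite A _ _

end Groth.Agent.S6370
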