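import Groth.Statements.S6371
import Mathlib.Algebra.Algebra.Epi
import Mathlib.RingTheory.Localization.BaseChange
import Mathlib.RingTheory.Localization.AtPrime.Basic

set_option autoImplicit false
universe u
open CAlg

namespace Groth.Agent.S6371

open TensorProduct IsLocalization

/-- A ring map R → S is an epimorphism of rings if and only if for every prime p of R the localized map
R_p → S_p is an epimorphism, where S_p is S localized at the image of R ∖ p. -/
theorem result (R S : Type u) [CommRing R] [CommRing S] [Algebra R S] :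
    Algebra.IsEpi R S ↔ ∀ (p : Ideal R) [p.IsPrime],
      Algebra.IsEpi (Localization.AtPrime p) (Localization (Algebra.algebraMapSubmonoid S p.primeCompl)) := by
  constructor
  · intro h p _
    let Rp := Localization.AtPrime p
    let Sp := Localization (Algebra.algebraMapSubmonoid S p.primeCompl)
    refine (Algebra.isEpi_iff_forall_one_tmul_eq Rp Sp).2 fun x => ?_
    obtain ⟨⟨s, ⟨_, t, ht, rfl⟩⟩, hst⟩ := IsLocalization.surj (Algebra.algebraMapSubmonoid S p.primeCompl) x
    let B : S →ₗ[R] S →ₗ[R] Sp ⊗[Rp] Sp :=
      LinearMap.mk₂ R (fun a b => algebraMap S Sp a ⊗ₜ[Rp] algebraMap S Sp b)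
        (fun a a' b => by rw [map_add, add_tmul]) (fun c a b => by rw [show algebraMap S Sp (c • a) = c • algebraMap S Sp a from (IsScalarTower.toAlgHom R S Sp).toLinearMap.map_smul c a, smul_tmul'])
        (fun a b b' => by rw [map_add, tmul_add]) (fun c a b => by rw [show algebraMap S Sp (c • b) = c • algebraMap S Sp b from (IsScalarTower.toAlgHom R S Sp).toLinearMap.map_smul c b, tmul_smul])
    have e := congrArg (TensorProduct.lift B) ((Algebra.isEpi_iff_forall_one_tmul_eq R S).1 h s)
    simp only [TensorProduct.lift.tmul, B, LinearMap.mk₂_apply, map_one] at e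
    obtain ⟨u, hu⟩ := IsLocalization.map_units Rp (⟨t, ht⟩ : p.primeCompl)
    have hx : (u : Rp) • x = algebraMap S Sp s := by
      rw [hu, algebraMap_smul, Algebra.smul_def, IsScalarTower.algebraMap_apply R S Sp, mul_comm]
      exact hst
    rw [← hx, tmul_smul, ← smul_tmul'] at e
    exact u.isUnit.smul_left_cancel.1 e
  · intro h
    refine (Algebra.isEpi_iff_forall_one_tmul_eq R S).2 fun s => ?_
    rw [← sub_eq_zero]
    let d : S ⊗[R] S := (1 : S) ⊗ₜ[R] s - s ⊗ₜ[R] 1
    by_contra hd
    have hne : LinearMap.ker (LinearMap.toSpanSingleton R (S ⊗[R] S) d) ≠ ⊤ := fun htop => hd (by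
      have h1 : (1 : R) ∈ LinearMap.ker (LinearMap.toSpanSingleton R (S ⊗[R] S) d) := htop ▸ Submodule.mem_top
      simpa using h1)
    obtain ⟨p, hp, hle⟩ := Ideal.exists_le_maximal (LinearMap.ker (LinearMap.toSpanSingleton R (S ⊗[R] S) d)) hne
    haveI := hp.isPrime
    let Rp := Localization.AtPrime p
    let Sp := Localization (Algebra.algebraMapSubmonoid S p.primeCompl)
    let f : S →ₗ[R] Sp := (IsScalarTower.toAlgHom R S Sp).toLinearMap
    haveI : IsLocalizedModule p.primeCompl f := isLocalizedModule_iff_isLocalization.2 inferInstance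
    haveI := tensorProduct_compatibleSMul p.primeCompl Rp Sp Sp
    have h0 : TensorProduct.map f f d = 0 := by
      have e := congrArg (equivOfCompatibleSMul R Rp Rp Sp Sp)
        ((Algebra.isEpi_iff_forall_one_tmul_eq Rp Sp).1 (h p) (algebraMap S Sp s))
      rw [map_sub, map_tmul, map_tmul, sub_eq_zero]
      rw [show f 1 = 1 from map_one (algebraMap S Sp)]
      exact e
    obtain ⟨t, ht⟩ := (IsLocalizedModule.eq_iff_exists p.primeCompl (TensorProduct.map f f)).1 (h0.trans (map_zero _).symm)
    exact t.2 (hle (by simpa [Submonoid.smul_def] using ht))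

end Groth.Agent.S6371
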