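import Groth.Statements.S6372
import Mathlib.RingTheory.Flat.FaithfullyFlat.Algebra
import Mathlib.Algebra.Algebra.Epi

set_option autoImplicit false
universe u
open CAlg

namespace Groth.Agent.S6372

/-- A faithfully flat epimorphism of rings is an isomorphism: if R → S is faithfully flat and an
epimorphism in the category of rings then it is bijective. -/
theorem result (R S : Type u) [CommRing R] [CommRing S] [Algebra R S]
    [Module.FaithfullyFlat R S] [Algebra.IsEpi R S] : Function.Bijective (algebraMap R S) := by
  have key := (Algebra.isEpi_iff_forall_one_tmul_eq R S).1 inferInstance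
  refine (Module.FaithfullyFlat.lTensor_bijective_iff_bijective R S (f := Algebra.linearMap R S)).1
    ⟨fun a b hab => ?_, fun t => ?_⟩
  · have h1 : ∀ t, TensorProduct.lift (LinearMap.mul R S) ((Algebra.linearMap R S).lTensor S t) =
        TensorProduct.rid R S t := by
      intro t
      induction t using TensorProduct.induction_on with
      | zero => simp
      | add a b ha hb => simp [ha, hb]
      | tmul s r => simp [Algebra.smul_def, mul_comm]
    exact (TensorProduct.rid R S).injective (by rw [← h1, ← h1, hab])
  · induction t using TensorProduct.induction_on with
    | zero => exact ⟨0, by simp⟩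
    | add a b ha hb =>
      obtain ⟨x, rfl⟩ := ha; obtain ⟨y, rfl⟩ := hb
      exact ⟨x + y, map_add _ _ _⟩
    | tmul u v =>
      refine ⟨TensorProduct.tmul R (u * v) 1, ?_⟩
      rw [LinearMap.lTensor_tmul, Algebra.linearMap_apply, map_one]
      have : (TensorProduct.tmul R u (1 : S)) * (TensorProduct.tmul R (1 : S) v) =
          (TensorProduct.tmul R u (1 : S)) * (TensorProduct.tmul R v (1 : S)) := by rw [key v]
      simpa using this.symm

end Groth.Agent.S6372
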