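import Groth.Statements.S6373
import Mathlib.Algebra.Algebra.Epi
import Mathlib.LinearAlgebra.Basis.VectorSpace
import Mathlib.LinearAlgebra.Dual.Lemmas

set_option autoImplicit false
universe u
open CAlg

namespace Groth.Agent.S6373

/-- If k is a field and k → S is an epimorphism of rings, then S is the zero ring or k → S is an
isomorphism. -/
theorem result (k S : Type u) [Field k] [CommRing S] [Algebra k S] [Algebra.IsEpi k S] :
    Subsingleton S ∨ Function.Bijective (algebraMap k S) := by
  rcases subsingleton_or_nontrivial S with h | h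
  · exact Or.inl h
  refine Or.inr ⟨(algebraMap k S).injective, fun x => ?_⟩
  by_contra hx
  have hx' : x ∉ Submodule.span k ({1} : Set S) := fun hmem => by
    obtain ⟨c, hc⟩ := Submodule.mem_span_singleton.1 hmem
    exact hx ⟨c, by rw [Algebra.algebraMap_eq_smul_one, hc]⟩
  obtain ⟨φ, hφx, hφ⟩ := Submodule.exists_dual_map_eq_bot_of_notMem hx' inferInstance
  have h1 : φ 1 = 0 := by
    have := Submodule.mem_map_of_mem (f := φ) (Submodule.mem_span_singleton_self (1 : S))
    rwa [hφ, Submodule.mem_bot] at this
  let B : S →ₗ[k] S →ₗ[k] S := (LinearMap.lsmul k S).comp φ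
  have e := congrArg (TensorProduct.lift B) ((Algebra.isEpi_iff_forall_one_tmul_eq (R := k) (A := S)).1 inferInstance x)
  simp only [TensorProduct.lift.tmul, B, LinearMap.comp_apply, LinearMap.lsmul_apply, h1, zero_smul] at e
  exact (smul_ne_zero hφx (one_ne_zero (α := S))) e.symm

end Groth.Agent.S6373
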