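import Groth.Statements.S6374
import Groth.Agent.S6373
import Mathlib.RingTheory.LocalRing.ResidueField.Fiber

set_option autoImplicit false
universe u
open CAlg

namespace Groth.Agent.S6374

open TensorProduct

/-- For an epimorphism of rings R → S, the induced map Spec S → Spec R is injective and induces trivial
residue field extensions; stated in the form the proof gives: for every prime p of R the fibre ring
S ⊗_R κ(p) is either zero or κ(p) → S ⊗_R κ(p) is bijective, together with injectivity of Spec S →
Spec R. -/
theorem result (R S : Type u) [CommRing R] [CommRing S] [Algebra R S]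
    [Algebra.IsEpi R S] :
    Function.Injective (PrimeSpectrum.comap (algebraMap R S)) ∧
      ∀ (p : Ideal R) [p.IsPrime],
        Subsingleton (p.Fiber S) ∨ Function.Bijective (algebraMap p.ResidueField (p.Fiber S)) := by
  have key : ∀ (p : Ideal R) [p.IsPrime], Subsingleton (p.Fiber S) ∨ Function.Bijective (algebraMap p.ResidueField (p.Fiber S)) := by
    intro p _
    haveI : Algebra.IsEpi p.ResidueField (p.ResidueField ⊗[R] S) := by
      refine (Algebra.isEpi_iff_forall_one_tmul_eq _ _).2 fun z => ?_
      let B : S →ₗ[R] S →ₗ[R] (p.ResidueField ⊗[R] S) ⊗[p.ResidueField] (p.ResidueField ⊗[R] S) :=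
        LinearMap.mk₂ R (fun a b => ((1 : p.ResidueField) ⊗ₜ[R] a) ⊗ₜ[p.ResidueField] ((1 : p.ResidueField) ⊗ₜ[R] b))
          (fun a a' b => by simp only [tmul_add, add_tmul]) (fun c a b => by simp only [tmul_smul, smul_tmul'])
          (fun a b b' => by simp only [tmul_add]) (fun c a b => by simp only [tmul_smul])
      induction z using TensorProduct.induction_on with
      | zero => simp
      | add a b ha hb => rw [tmul_add, add_tmul, ha, hb]
      | tmul c s =>
        have e := congrArg (TensorProduct.lift B) ((Algebra.isEpi_iff_forall_one_tmul_eq R S).1 inferInstance s)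
        simp only [TensorProduct.lift.tmul, B, LinearMap.mk₂_apply] at e
        have hc : c ⊗ₜ[R] s = c • ((1 : p.ResidueField) ⊗ₜ[R] s) := by rw [smul_tmul', smul_eq_mul, mul_one]
        rw [hc, tmul_smul, ← smul_tmul']
        exact congrArg (c • ·) e
    exact Groth.Agent.S6373.result p.ResidueField (p.ResidueField ⊗[R] S)
  refine ⟨fun q₁ q₂ hq => ?_, key⟩
  let p := PrimeSpectrum.comap (algebraMap R S) q₁
  haveI : Subsingleton (PrimeSpectrum (p.asIdeal.Fiber S)) := by
    rcases key p.asIdeal with h | h
    · exact ⟨fun a _ => (a.isPrime.ne_top (Subsingleton.elim _ _)).elim⟩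
    · haveI : Subsingleton (PrimeSpectrum p.asIdeal.ResidueField) := inferInstance
      exact (PrimeSpectrum.comap_injective_of_surjective _ h.2).subsingleton
  exact congrArg Subtype.val ((PrimeSpectrum.preimageEquivFiber R S p).injective
    (Subsingleton.elim (PrimeSpectrum.preimageEquivFiber R S p ⟨q₁, rfl⟩) (PrimeSpectrum.preimageEquivFiber R S p ⟨q₂, hq.symm⟩)))

end Groth.Agent.S6374
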