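import Groth.Statements.S6375
import Mathlib.RingTheory.TensorProduct.Basic
import Mathlib.LinearAlgebra.TensorProduct.RightExactness
import Mathlib.RingTheory.Flat.FaithfullyFlat.Basic
import Mathlib.Algebra.Algebra.Epi
import Mathlib.LinearAlgebra.Finsupp.LinearCombination
import Mathlib.SetTheory.Cardinal.Finsupp

set_option autoImplicit false
universe u
open CAlg

namespace Groth.Agent.S6375

open scoped TensorProduct
/-- For an infinite source ring: if R → S is an epimorphism of rings with R infinite, then |S| ≤ |R| as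
cardinals. (For finite R the published statement also asserts |S| ≤ |R|, but its proof only gives
that S is countable and omits the rest, so that case is not included.) -/
theorem result (R S : Type u) [CommRing R] [CommRing S] [Algebra R S] [Algebra.IsEpi R S]
    [Infinite R] : Cardinal.mk S ≤ Cardinal.mk R := by
  classical
  have key : ∀ s : S, ∃ d : ℕ × ℕ × Finset (ℕ →₀ R), ∃ π : (ℕ →₀ R) →ₗ[R] S,
      π (Finsupp.single d.1 1) = s ∧ π (Finsupp.single d.2.1 1) = 1 ∧
      (∀ k ∈ d.2.2, π k = 0) ∧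
      Finsupp.single d.1 (1 : R) ⊗ₜ[R] Finsupp.single d.2.1 (1 : R) -
        Finsupp.single d.2.1 (1 : R) ⊗ₜ[R] Finsupp.single d.1 (1 : R) ∈
        Submodule.span R {w : (ℕ →₀ R) ⊗[R] (ℕ →₀ R) | ∃ k ∈ d.2.2, ∃ g, w = k ⊗ₜ g ∨ w = g ⊗ₜ k} := by
    intro s
    let p : (S →₀ R) →ₗ[R] S := Finsupp.linearCombination R id
    have hp : Function.Surjective p := fun x => ⟨Finsupp.single x 1, by simp [p]⟩
    let w₀ : (S →₀ R) ⊗[R] (S →₀ R) := Finsupp.single s (1 : R) ⊗ₜ Finsupp.single (1 : S) (1 : R) -
      Finsupp.single (1 : S) (1 : R) ⊗ₜ Finsupp.single s (1 : R)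
    have hw₀ : w₀ ∈ LinearMap.ker (TensorProduct.map p p) := by
      rw [LinearMap.mem_ker]
      simp only [w₀, map_sub, TensorProduct.map_tmul]
      simp only [p, Finsupp.linearCombination_single, id_eq, one_smul]
      rw [(Algebra.isEpi_iff_forall_one_tmul_eq R S).1 inferInstance s, sub_self]
    rw [TensorProduct.map_ker (M := LinearMap.ker p) (LinearMap.exact_subtype_ker_map p) hp
      (M' := LinearMap.ker p) (LinearMap.exact_subtype_ker_map p) hp] at hw₀
    have hspan : w₀ ∈ Submodule.span R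
        {w : (S →₀ R) ⊗[R] (S →₀ R) | ∃ k ∈ LinearMap.ker p, ∃ g, w = k ⊗ₜ g ∨ w = g ⊗ₜ k} := by
      refine (sup_le ?_ ?_ : _ ≤ Submodule.span R _) hw₀
      · rintro _ ⟨u, rfl⟩
        induction u using TensorProduct.induction_on with
        | zero => simp
        | add a b ha hb => rw [map_add]; exact add_mem ha hb
        | tmul a b => exact Submodule.subset_span ⟨b, b.2, a, Or.inr (by simp)⟩
      · rintro _ ⟨u, rfl⟩
        induction u using TensorProduct.induction_on with
        | zero => simp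
        | add a b ha hb => rw [map_add]; exact add_mem ha hb
        | tmul a b => exact Submodule.subset_span ⟨a, a.2, b, Or.inl (by simp)⟩
    obtain ⟨F, hF, hmem⟩ := Submodule.mem_span_finite_of_mem_span hspan
    choose k hk g hg using fun w : (F : Set ((S →₀ R) ⊗[R] (S →₀ R))) => hF w.2
    let T : Finset S := {s, 1} ∪ Finset.univ.biUnion (fun w => (k w).support)
    let ρ : S → ℕ := fun x => if h : x ∈ T then (T.equivFin ⟨x, h⟩ : ℕ) else 0
    let π : (ℕ →₀ R) →ₗ[R] S := Finsupp.linearCombination R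
      (fun i => if h : i < T.card then ((T.equivFin.symm ⟨i, h⟩ : S)) else 0)
    have hπ : ∀ x ∈ T, π (Finsupp.single (ρ x) 1) = x := by
      intro x hx
      simp [π, ρ, hx]
    let Φ := Finsupp.lmapDomain R R ρ
    refine ⟨(ρ s, ρ 1, Finset.univ.image fun w => Φ (k w)), π, hπ s (by simp [T]), hπ 1 (by simp [T]), ?_, ?_⟩
    · intro q hq
      obtain ⟨w, -, rfl⟩ := Finset.mem_image.1 hq
      have hsum : Φ (k w) = ∑ x ∈ (k w).support, (k w) x • Finsupp.single (ρ x) (1 : R) := by
        simp [Φ, Finsupp.mapDomain, Finsupp.sum]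
      rw [hsum, map_sum]
      rw [← (LinearMap.mem_ker.1 (hk w) : p (k w) = 0)]
      simp only [p, Finsupp.linearCombination_apply, Finsupp.sum, id_eq]
      refine Finset.sum_congr rfl fun x hx => ?_
      rw [map_smul, hπ x (Finset.mem_union_right _ (Finset.mem_biUnion.2 ⟨w, Finset.mem_univ _, hx⟩))]
    · have h := Submodule.mem_map_of_mem (f := TensorProduct.map Φ Φ) hmem
      rw [Submodule.map_span] at h
      simp only [w₀, map_sub, TensorProduct.map_tmul] at h
      simp only [Φ, Finsupp.lmapDomain_apply, Finsupp.mapDomain_single] at h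
      refine Submodule.span_mono ?_ h
      rintro _ ⟨w, hw, rfl⟩
      refine ⟨Φ (k ⟨w, hw⟩), Finset.mem_image_of_mem _ (Finset.mem_univ _), Φ (g ⟨w, hw⟩), ?_⟩
      rcases hg ⟨w, hw⟩ with h' | h'
      · exact Or.inl ((congrArg (TensorProduct.map Φ Φ) h').trans (TensorProduct.map_tmul _ _ _ _))
      · exact Or.inr ((congrArg (TensorProduct.map Φ Φ) h').trans (TensorProduct.map_tmul _ _ _ _))
  choose d π hs h1 hk hmem using key
  have hinj : Function.Injective d := by
    intro s s' he
    let B : (ℕ →₀ R) ⊗[R] (ℕ →₀ R) →ₗ[R] S :=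
      LinearMap.mul' R S ∘ₗ TensorProduct.map (π s) (π s')
    have hzero : Submodule.span R {w : (ℕ →₀ R) ⊗[R] (ℕ →₀ R) | ∃ k ∈ (d s).2.2, ∃ g, w = k ⊗ₜ g ∨ w = g ⊗ₜ k} ≤
        LinearMap.ker B := by
      rw [Submodule.span_le]
      rintro _ ⟨q, hq, g, rfl | rfl⟩
      · simp [B, hk s q hq]
      · simp [B, hk s' q (he ▸ hq)]
    have h := hzero (hmem s)
    have e1 : π s' (Finsupp.single (d s).1 1) = s' := by rw [he]; exact hs s'
    have e2 : π s' (Finsupp.single (d s).2.1 1) = 1 := by rw [he]; exact h1 s'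
    simp only [B, LinearMap.mem_ker, LinearMap.comp_apply, map_sub, TensorProduct.map_tmul,
      LinearMap.mul'_apply, hs s, h1 s, e1, e2] at h
    rw [one_mul, mul_one] at h
    exact sub_eq_zero.1 h
  refine (Cardinal.mk_le_of_injective hinj).trans ?_
  have hR : Cardinal.aleph0 ≤ Cardinal.mk R := Cardinal.aleph0_le_mk R
  simp only [Cardinal.mk_prod, Cardinal.mk_nat, Cardinal.mk_finset_of_infinite,
    Cardinal.mk_finsupp_lift_of_infinite, Cardinal.lift_uzero, Cardinal.lift_aleph0]
  simp [max_eq_right hR, Cardinal.aleph0_mul_eq hR]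

end Groth.Agent.S6375
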