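import Groth.Statements.S6377
import Groth.Agent.Flat.TorDevissage
import Groth.Agent.PseudoCoh.Truncation
import Mathlib.RingTheory.Localization.BaseChange
import Mathlib.RingTheory.Ideal.Operations

set_option autoImplicit false
universe u
open CategoryTheory
open scoped TensorProduct
open CAlg

namespace Groth.Agent.S6377

open CategoryTheory CategoryTheory.Limits Groth.Agent.Flat.LocalCriterion Groth.Agent.Flat.TorDim Groth.Agent.Flat.TorDevissage

variable {A : Type u} [CommRing A] {S Q : ℕ → Type u} [∀ i, AddCommGroup (S i)] [∀ i, Module A (S i)]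
  [∀ i, AddCommGroup (Q i)] [∀ i, Module A (Q i)]

lemma flat_tensor_syz (s : Syz A S Q) (B : Type u) [CommRing B] [Algebra A B] (h0 : Module.Flat B (B ⊗[A] S 0)) :
    ∀ k, (∀ j, j < k → TorZero A (S j) B) → Module.Flat B (B ⊗[A] S k) := by
  intro k
  induction k with
  | zero => exact fun _ => h0
  | succ k ih =>
    intro h
    haveI := ih fun j hj => h j (by omega)
    haveI := s.flat k
    have hi : Function.Injective ((s.ι k).baseChange B) :=
      (LinearMap.lTensor_inj_iff_rTensor_inj B (s.ι k)).2
        ((torZero_iff_rTensor (s.ι k) (s.π k) (s.inj k) (s.exact k) (s.surj k)).1 (h k (Nat.lt_succ_self k)))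
    let g := (s.π k).baseChange B
    have hg : Function.Surjective g := LinearMap.lTensor_surjective _ (s.surj k)
    have he : Function.Exact ((s.ι k).baseChange B) g := lTensor_exact B (s.exact k) (s.surj k)
    haveI := Groth.Agent.PseudoCoh.flat_ker g hg
    exact Module.Flat.of_linearEquiv ((LinearEquiv.ofInjective _ hi).trans
      (LinearEquiv.ofEq _ _ (LinearMap.exact_iff.1 he).symm))

lemma torZero_module (s : Syz A S Q) (B : Type u) [CommRing B] [Algebra A B] (k : ℕ)
    (hB : Module.Flat B (B ⊗[A] S k)) (h : TorZero A (S k) B) (L : Type u) [AddCommGroup L] [Module A L] [Module B L]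
    [IsScalarTower A B L] : TorZero A (S k) L := by
  haveI := s.flat k
  haveI := hB
  have hi : Function.Injective ((s.ι k).baseChange B) :=
    (LinearMap.lTensor_inj_iff_rTensor_inj B (s.ι k)).2
      ((torZero_iff_rTensor (s.ι k) (s.π k) (s.inj k) (s.exact k) (s.surj k)).1 h)
  have hL : Function.Injective (((s.ι k).baseChange B).lTensor L) :=
    LinearMap.lTensor_injective_of_exact_of_flat ((s.π k).baseChange B) (LinearMap.lTensor_surjective _ (s.surj k))
      ((s.ι k).baseChange B) hi (lTensor_exact B (s.exact k) (s.surj k)) L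
  rw [torZero_iff_rTensor (s.ι k) (s.π k) (s.inj k) (s.exact k) (s.surj k), ← LinearMap.lTensor_inj_iff_rTensor_inj]
  intro x y hxy
  obtain ⟨x, rfl⟩ := (TensorProduct.AlgebraTensorModule.cancelBaseChange A B B L (S (k + 1))).surjective x
  obtain ⟨y, rfl⟩ := (TensorProduct.AlgebraTensorModule.cancelBaseChange A B B L (S (k + 1))).surjective y
  rw [← cancel_lTensor, ← cancel_lTensor] at hxy
  exact congrArg _ (hL ((LinearEquiv.injective _) hxy))

lemma exists_forall_pow {N : Type u} [AddCommGroup N] [Module A N] {r : ℕ} (f : Fin r → A)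
    (h : ∀ i, ∀ x : N, ∃ n : ℕ, f i ^ n • x = 0) (x : N) :
    ∃ n : ℕ, ∀ a ∈ Ideal.span (Set.range f) ^ n, a • x = 0 := by
  have hr : Ideal.span (Set.range f) ≤ Ideal.radical (LinearMap.ker (LinearMap.toSpanSingleton A N x)) :=
    Ideal.span_le.2 (Set.range_subset_iff.2 fun i => by
      obtain ⟨n, hn⟩ := h i x
      exact ⟨n, hn⟩)
  obtain ⟨n, hn⟩ := Ideal.exists_pow_le_of_le_radical_of_fg hr (Submodule.fg_span (Set.finite_range f))
  exact ⟨n, fun a ha => hn ha⟩


/-- Let A be a ring, M an A-module and I = (f_1, ..., f_r) an ideal generated by r ≥ 1 elements. If (1)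
M_{f_i} is flat over A_{f_i} for each i, (2) M/IM is flat over A/I, and (3) Tor_i^A(M, A/I) = 0 for
i = 1, ..., r + 1, then M is flat over A. (The published statement adds the same with 'faithfully
flat', whose proof it omits; that variant is not included.) -/
theorem result (A : Type u) [CommRing A] (M : Type u) [AddCommGroup M]
    [Module A M] {r : ℕ} (hr : 1 ≤ r) (f : Fin r → A)
    (h1 : ∀ i, Module.Flat (Localization.Away (f i)) (LocalizedModule (Submonoid.powers (f i)) M))
    (h2 : Module.Flat (A ⧸ Ideal.span (Set.range f)) ((A ⧸ Ideal.span (Set.range f)) ⊗[A] M))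
    (h3 : ∀ i : ℕ, 1 ≤ i → i ≤ r + 1 →
      Limits.IsZero (((CategoryTheory.Tor (ModuleCat.{u} A) i).obj (ModuleCat.of A M)).obj (ModuleCat.of A (A ⧸ Ideal.span (Set.range f))))) :
    Module.Flat A M := by
  let I := Ideal.span (Set.range f)
  obtain ⟨T, W, t, hT, htor⟩ := exists_syz (R := A) (A ⧸ I)
  obtain ⟨S, Q, s, hS, -⟩ := exists_syz (R := A) M
  have hk : ∀ k, k ≤ r → TorZero A (S k) (A ⧸ I) := fun k hk => by
    have h4 : TorZero A (T k) M := (htor M k).1 (h3 (k + 1) (by omega) (by omega))
    have h5 : TorZero A (T k) (S 0) := by rw [hS]; exact h4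
    have h6 := (s.flip t k 0).2 (torZero_symm h5)
    rw [hT] at h6
    exact h6
  have hfl : ∀ k, k ≤ r → Module.Flat (A ⧸ I) ((A ⧸ I) ⊗[A] S k) := fun k hkr =>
    flat_tensor_syz s (A ⧸ I) (by rw [hS]; exact h2) k fun j hj => hk j (by omega)
  have hkill : ∀ k, k ≤ r → ∀ (N : Type u) [AddCommGroup N] [Module A N],
      (∃ m : ℕ, ∀ a ∈ I ^ m, ∀ x : N, a • x = 0) → TorZero A (S k) N := fun k hkr N _ _ ⟨m, hm⟩ =>
    torZero_of_killed_pow I ((LinearMap.lTensor_inj_iff_rTensor_inj _ _).1
      ((hk k hkr).lTensor_injective (Submodule.injective_subtype _) (LinearMap.exact_subtype_mkQ I)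
        (Submodule.mkQ_surjective I))) (hfl k hkr) m N hm
  have haway : ∀ i k, ∀ (N : Type u) [AddCommGroup N] [Module A N],
      TorZero A (S k) (LocalizedModule (Submonoid.powers (f i)) N) := fun i k N _ _ => by
    let B := Localization.Away (f i)
    have hB : ∀ k, TorZero A (S k) B := fun k => torZero_symm (flat_iff_torZero.1 inferInstance (S k))
    have h0 : Module.Flat B (B ⊗[A] S 0) := by
      rw [hS]
      haveI := h1 i
      exact Module.Flat.of_linearEquiv (LocalizedModule.equivTensorProduct (Submonoid.powers (f i)) M).symm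
    exact torZero_module s B k (flat_tensor_syz s B h0 k fun j _ => hB j) (hB k) _
  suffices key : ∀ (j : ℕ) (F : Finset (Fin r)), F.card + j = r → ∀ (N : Type u) [AddCommGroup N] [Module A N],
      (∀ i ∈ F, ∀ x : N, ∃ n : ℕ, f i ^ n • x = 0) → ∀ k, k ≤ F.card → TorZero A (S k) N by
    have h0 : Module.Flat A (S 0) := flat_iff_torZero.2 fun N _ _ =>
      key r ∅ (by simp) N (by simp) 0 le_rfl
    rw [hS] at h0
    exact h0
  intro j
  induction j with
  | zero =>
    intro F hF N _ _ hN k hk'
    have hall : ∀ i, i ∈ F := fun i => by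
      rw [Finset.eq_univ_of_card F (by simpa using hF)]
      exact Finset.mem_univ i
    let U : ULift.{u} ℕ → Submodule A N := fun n =>
      { carrier := {x | ∀ a ∈ I ^ n.down, a • x = 0}
        zero_mem' := fun a _ => smul_zero a
        add_mem' := fun hx hy a ha => by rw [smul_add, hx a ha, hy a ha, add_zero]
        smul_mem' := fun c x hx a ha => by rw [smul_comm, hx a ha, smul_zero] }
    refine torZero_union U (fun m n hmn x hx a ha => hx a (Ideal.pow_le_pow_right hmn ha)) (fun x => ?_)
      fun n => hkill k (by omega) _ ⟨n.down, fun a ha x => Subtype.ext (x.2 a ha)⟩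
    obtain ⟨n, hn⟩ := exists_forall_pow f (fun i => hN i (hall i)) x
    exact ⟨⟨n⟩, hn⟩
  | succ j ih =>
    intro F hF N _ _ hN k hk'
    obtain ⟨i, hi⟩ : ∃ i, i ∉ F := by
      by_contra hne
      push Not at hne
      rw [Finset.eq_univ_of_forall hne, Finset.card_fin] at hF
      omega
    have hcard : (insert i F).card = F.card + 1 := Finset.card_insert_of_notMem hi
    let L := LocalizedModule (Submonoid.powers (f i)) N
    let ι : N →ₗ[A] L := LocalizedModule.mkLinearMap (Submonoid.powers (f i)) N
    have hLtor : ∀ i' ∈ F, ∀ x : L, ∃ n : ℕ, f i' ^ n • x = 0 := fun i' hi' x => by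
      induction x using LocalizedModule.induction_on with
      | h m s =>
        obtain ⟨n, hn⟩ := hN i' hi' m
        exact ⟨n, by rw [LocalizedModule.smul'_mk, hn, LocalizedModule.zero_mk]⟩
    refine TorZero.ext (LinearMap.ker ι) (ih (insert i F) (by omega) _ ?_ k (by omega)) ?_
    · intro i' hi' x
      rcases Finset.mem_insert.1 hi' with rfl | hi'
      · obtain ⟨⟨_, n, rfl⟩, hn⟩ := (IsLocalizedModule.eq_iff_exists (Submonoid.powers (f i')) ι).1 (x.2.trans (map_zero ι).symm)
        refine ⟨n, Subtype.ext ?_⟩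
        simpa [Submonoid.smul_def] using hn
      · obtain ⟨n, hn⟩ := hN i' hi' x.1
        exact ⟨n, Subtype.ext hn⟩
    refine torZero_congr ι.quotKerEquivRange.symm ?_
    haveI := s.flat k
    refine torZero_left (s.ι k) (s.π k) (s.inj k) (s.exact k) (s.surj k) (LinearMap.range ι) (haway i k N)
      (ih (insert i F) (by omega) _ ?_ (k + 1) (by omega))
    intro i' hi' x
    obtain ⟨x, rfl⟩ := Submodule.mkQ_surjective _ x
    rcases Finset.mem_insert.1 hi' with rfl | hi'
    · obtain ⟨⟨m, ⟨_, n, rfl⟩⟩, hm⟩ := IsLocalizedModule.surj (Submonoid.powers (f i')) ι x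
      refine ⟨n, ?_⟩
      rw [← map_smul]
      exact (Submodule.Quotient.mk_eq_zero _).2 ⟨m, hm.symm⟩
    · obtain ⟨n, hn⟩ := hLtor i' hi' x
      exact ⟨n, by rw [← map_smul, hn, map_zero]⟩

end Groth.Agent.S6377
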