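import Groth.Statements.S6378
import Groth.Agent.Flat.TorDevissage
import Mathlib.RingTheory.FiniteLength

set_option autoImplicit false
universe u
open CategoryTheory
open CAlg

namespace Groth.Agent.S6378

open CategoryTheory Groth.Agent.Flat.LocalCriterion Groth.Agent.Flat.TorOne Groth.Agent.Flat.TorDim
open Groth.Agent.Flat.TorDevissage

/-- Let (R, m, κ) be a local ring and M an R-module with Tor_1^R(κ, M) = 0. Then Tor_1^R(N, M) = 0 for
every finite length R-module N. -/
theorem result (R : Type u) [CommRing R] [IsLocalRing R]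
    (M : Type u) [AddCommGroup M] [Module R M]
    (h : Limits.IsZero (((CategoryTheory.Tor (ModuleCat.{u} R) 1).obj (ModuleCat.of R (IsLocalRing.ResidueField R))).obj (ModuleCat.of R M)))
    (N : Type u) [AddCommGroup N] [Module R N] (hN : IsFiniteLength R N) :
    Limits.IsZero (((CategoryTheory.Tor (ModuleCat.{u} R) 1).obj (ModuleCat.of R N)).obj (ModuleCat.of R M)) := by
  have hκ : TorZero R M (IsLocalRing.ResidueField R) := (isZero_Tor_one_iff M (IsLocalRing.ResidueField R)).1 h
  refine (isZero_Tor_one_iff M N).2 ?_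
  induction hN with
  | of_subsingleton => intro x y _; exact Subsingleton.elim x y
  | @of_simple_quotient W _ _ W₁ _ _ ih =>
    refine TorZero.ext W₁ ih ?_
    obtain ⟨I, hI, ⟨e⟩⟩ := isSimpleModule_iff_quot_maximal.1 ‹IsSimpleModule R (W ⧸ W₁)›
    obtain rfl := IsLocalRing.eq_maximalIdeal hI
    exact torZero_congr e.symm hκ

end Groth.Agent.S6378
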