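import Groth.Statements.S6379
import Groth.Agent.ML.Module

set_option autoImplicit false
universe u
open scoped TensorProduct
open CAlg

namespace Groth.Agent.S6379


open Groth.Agent.ML.Module TensorProduct

lemma mem_range_iff {R : Type u} [CommRing R] {F M : Type u} [AddCommGroup F] [Module R F] [AddCommGroup M]
    [Module R M] (G : Submodule R F) (x : F ⊗[R] M) :
    x ∈ LinearMap.range (G.subtype.rTensor M) ↔ G.mkQ.rTensor M x = 0 :=
  ((rTensor_exact M (LinearMap.exact_subtype_mkQ G) G.mkQ_surjective) x).symm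

lemma smallest {R : Type u} [CommRing R] {M : Type u} [AddCommGroup M] [Module R M] [Module.Flat R M]
    (hM : CAlg.IsMittagLeffler R M) (F : Type u) [AddCommGroup F] [Module R F] (x : F ⊗[R] M) :
    ∃ F' : Submodule R F, F'.FG ∧ x ∈ LinearMap.range (F'.subtype.rTensor M) ∧
      ∀ F'' : Submodule R F, x ∈ LinearMap.range (F''.subtype.rTensor M) → F' ≤ F'' := by
  classical
  let ι : Type u := {G : Submodule R F // x ∈ LinearMap.range (G.subtype.rTensor M)}
  let T : Submodule R F := ⨅ G : ι, G.1
  let φ : F ⧸ T →ₗ[R] ∀ G : ι, F ⧸ G.1 := T.liftQ (LinearMap.pi fun G : ι => G.1.mkQ) fun y hy => by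
    rw [LinearMap.mem_ker]
    exact funext fun G => (Submodule.Quotient.mk_eq_zero _).mpr ((Submodule.mem_iInf _).mp hy G)
  have hφ : Function.Injective φ := by
    rw [injective_iff_map_eq_zero]
    intro y hy
    obtain ⟨y, rfl⟩ := T.mkQ_surjective y
    rw [Submodule.mkQ_apply, Submodule.Quotient.mk_eq_zero, Submodule.mem_iInf]
    exact fun G => (Submodule.Quotient.mk_eq_zero _).mp (congr_fun hy G)
  have hT : x ∈ LinearMap.range (T.subtype.rTensor M) := by
    rw [mem_range_iff]
    apply Module.Flat.rTensor_preserves_injective_linearMap (M := M) φ hφ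
    rw [map_zero]
    apply (TensorProduct.comm R (∀ G : ι, F ⧸ G.1) M).injective
    apply hM ι fun G => F ⧸ G.1
    funext G
    have h : ∀ z : F ⊗[R] M, piRightHom R R M (fun G : ι => F ⧸ G.1)
        (TensorProduct.comm R (∀ G : ι, F ⧸ G.1) M (φ.rTensor M (T.mkQ.rTensor M z))) G =
        TensorProduct.comm R (F ⧸ G.1) M (G.1.mkQ.rTensor M z) := fun z => by
      induction z using TensorProduct.induction_on with
      | zero => simp
      | add x y hx hy => simp [hx, hy]
      | tmul a b => simp [φ]
    rw [h, (mem_range_iff G.1 x).mp G.2]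
    simp
  have hmin : ∀ F'' : Submodule R F, x ∈ LinearMap.range (F''.subtype.rTensor M) → T ≤ F'' :=
    fun F'' h => iInf_le (fun G : ι => G.1) ⟨F'', h⟩
  refine ⟨T, ?_, hT, hmin⟩
  obtain ⟨w, hw⟩ := hT
  obtain ⟨K, hK, hwK⟩ := TensorProduct.exists_finite_submodule_left_of_setFinite {w} (Set.finite_singleton w)
  obtain ⟨v, hv⟩ := hwK rfl
  obtain ⟨k, g, hg⟩ := Module.Finite.exists_fin' R K
  obtain ⟨v', rfl⟩ := LinearMap.rTensor_surjective M hg v
  let g' : (Fin k → R) →ₗ[R] F := T.subtype ∘ₗ K.subtype ∘ₗ g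
  have hle : T ≤ LinearMap.range g' := hmin _ ⟨(g'.rangeRestrict).rTensor M v', by
    rw [← LinearMap.rTensor_comp_apply, show (LinearMap.range g').subtype ∘ₗ g'.rangeRestrict = g' from rfl,
      LinearMap.rTensor_comp_apply, LinearMap.rTensor_comp_apply, hv, hw]⟩
  have : T = LinearMap.range g' := le_antisymm hle (by rintro _ ⟨y, rfl⟩; exact (K.subtype (g y)).2)
  rw [this, ← Module.Finite.iff_fg]
  exact Module.Finite.range _

/-- Let M be a flat Mittag-Leffler module over a commutative ring R, F an R-module and x ∈ F ⊗_R M. Then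
among the submodules F' of F with x in the image of F' ⊗ M → F ⊗ M there is a smallest one, and it
is a finitely generated module. -/
theorem result (R : Type u) [CommRing R] (M : Type u)
    [AddCommGroup M] [Module R M] [Module.Flat R M] (hM : CAlg.IsMittagLeffler R M)
    (F : Type u) [AddCommGroup F] [Module R F] (x : F ⊗[R] M) :
    ∃ F' : Submodule R F, F'.FG ∧ x ∈ LinearMap.range (F'.subtype.rTensor M) ∧
      ∀ F'' : Submodule R F, x ∈ LinearMap.range (F''.subtype.rTensor M) → F' ≤ F'' := by
  exact smallest hM F x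

end Groth.Agent.S6379
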