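import Groth.Statements.S6380
import Groth.Agent.ML.Module

set_option autoImplicit false
universe u
open scoped TensorProduct
open CAlg

namespace Groth.Agent.S6380


open Groth.Agent.ML.Module TensorProduct

/-- Given a linear map f : P → M of R-modules with P finitely presented, an R-module Q and an element x
of P ⊗ Q in the kernel of f ⊗ id_Q, one can factor f as h ∘ f' through some finitely presented
module P' (with f' : P → P' and h : P' → M) so that already f' ⊗ id_Q sends x to zero. -/
theorem result (R : Type u) [CommRing R] {P M Q : Type u}
    [AddCommGroup P] [Module R P] [Module.FinitePresentation R P] [AddCommGroup M] [Module R M]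
    [AddCommGroup Q] [Module R Q] (f : P →ₗ[R] M) (x : P ⊗[R] Q) (hx : f.rTensor Q x = 0) :
    ∃ (P' : Type u) (_ : AddCommGroup P') (_ : Module R P') (_ : Module.FinitePresentation R P')
      (f' : P →ₗ[R] P') (h : P' →ₗ[R] M), f = h ∘ₗ f' ∧ f'.rTensor Q x = 0 := by
  obtain ⟨m, k, a, r, hr, hg⟩ := exists_fp_factor f x hx
  have hle : Submodule.span R (Set.range r) ≤ LinearMap.ker (f.coprod (Fintype.linearCombination R a)) := by
    rw [Submodule.span_le]; rintro _ ⟨l, rfl⟩; exact hr l
  refine ⟨_, inferInstance, inferInstance,
    Module.finitePresentation_of_surjective (Submodule.span R (Set.range r)).mkQ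
      (Submodule.span R (Set.range r)).mkQ_surjective
      (by rw [Submodule.ker_mkQ]; exact Submodule.fg_span (Set.finite_range _)),
    _, (Submodule.span R (Set.range r)).liftQ _ hle, LinearMap.ext fun y => ?_, hg⟩
  show f y = f.coprod (Fintype.linearCombination R a) (y, 0)
  simp

end Groth.Agent.S6380
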