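import Groth.Statements.S6382
import Groth.Agent.Flat.Criteria
import Mathlib.RingTheory.IsTensorProduct
import Mathlib.RingTheory.Flat.Stability
import Mathlib.RingTheory.TensorProduct.Finite

set_option autoImplicit false
universe u
open CAlg

namespace Groth.Agent.S6382


open TensorProduct

theorem flat_tensor {R S : Type u} [CommRing R] [CommRing S] [Algebra R S] (S' : Type u) [CommRing S']
    [Algebra S S'] [Algebra R S'] [IsScalarTower R S S'] [Module.Flat S S'] (M : Type u) [AddCommGroup M]
    [Module S M] [Module R M] [IsScalarTower R S M] [Module.Flat R M] : Module.Flat R (S' ⊗[S] M) := by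
  refine Module.Flat.iff_lTensor_injective'.mpr fun a => ?_
  let e : ∀ (Q : Type u) [AddCommGroup Q] [Module R Q], (S' ⊗[S] M) ⊗[R] Q ≃ₗ[S'] S' ⊗[S] (M ⊗[R] Q) :=
    fun Q _ _ => TensorProduct.AlgebraTensorModule.assoc R S S' S' M Q
  let g : M ⊗[R] a →ₗ[S] M ⊗[R] R := TensorProduct.AlgebraTensorModule.map (LinearMap.id : M →ₗ[S] M) a.subtype
  have hg : Function.Injective g := Module.Flat.lTensor_preserves_injective_linearMap (M := M) a.subtype a.subtype_injective
  have hinj : Function.Injective (g.lTensor S') := Module.Flat.lTensor_preserves_injective_linearMap g hg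
  have hcomm : ∀ z, e R (a.subtype.lTensor (S' ⊗[S] M) z) = g.lTensor S' (e a z) := fun z => by
    induction z using TensorProduct.induction_on with
    | zero => simp
    | add x y hx hy => simp [hx, hy]
    | tmul x b =>
      induction x using TensorProduct.induction_on with
      | zero => simp
      | add x y hx hy =>
        simp only [add_tmul, map_add, LinearMap.lTensor_tmul] at hx hy ⊢
        rw [hx, hy]
      | tmul s m => rfl
  intro x y hxy
  apply (e a).injective
  apply hinj
  rw [← hcomm, ← hcomm, hxy]

theorem injective_rTensor {R R' : Type u} [CommRing R] [CommRing R'] [Algebra R R'] {m : Ideal R}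
    {I : Ideal R'} (hI : I = m.map (algebraMap R R')) (M' : Type u) [AddCommGroup M'] [Module R M']
    [Module R' M'] [IsScalarTower R R' M'] [Module.Flat R M'] :
    Function.Injective (I.subtype.rTensor M') := by
  have hmem : ∀ r : m, algebraMap R R' r ∈ I := fun r => hI ▸ Ideal.mem_map_of_mem _ r.2
  let θ : m ⊗[R] M' →ₗ[R] I ⊗[R'] M' := TensorProduct.lift (LinearMap.mk₂ R
    (fun (r : m) (x : M') => (⟨algebraMap R R' r, hmem r⟩ : I) ⊗ₜ[R'] x)
    (fun a b x => by rw [← add_tmul]; congr 1; exact Subtype.ext (map_add (algebraMap R R') _ _))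
    (fun c a x => by
      rw [TensorProduct.smul_tmul']; congr 1
      exact Subtype.ext (by
        show algebraMap R R' (c * a) = c • algebraMap R R' (a : R)
        rw [map_mul, Algebra.smul_def]))
    (fun a x y => tmul_add _ x y)
    (fun c a x => by rw [← IsScalarTower.algebraMap_smul R' c x, tmul_smul, IsScalarTower.algebraMap_smul]))
  have hθ : Function.Surjective θ := by
    intro z
    induction z using TensorProduct.induction_on with
    | zero => exact ⟨0, map_zero _⟩
    | add x y hx hy =>
      obtain ⟨a, rfl⟩ := hx; obtain ⟨b, rfl⟩ := hy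
      exact ⟨a + b, map_add _ _ _⟩
    | tmul i x =>
      obtain ⟨i, hi⟩ := i
      revert x hi
      suffices h : ∀ i ∈ m.map (algebraMap R R'), ∀ (hi : i ∈ I) (x : M'), ∃ a, θ a = (⟨i, hi⟩ : I) ⊗ₜ[R'] x by
        intro x hi; exact h i (hI ▸ hi) hi x
      intro i hi'
      refine Submodule.span_induction ?_ ?_ ?_ ?_ hi'
      · rintro _ ⟨r, hr, rfl⟩ hi x; exact ⟨⟨r, hr⟩ ⊗ₜ x, rfl⟩
      · intro hi x; exact ⟨0, by rw [map_zero, show (⟨0, hi⟩ : I) = 0 from rfl, zero_tmul]⟩
      · intro a b ha hb iha ihb hi x
        obtain ⟨p, hp⟩ := iha (hI ▸ ha) x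
        obtain ⟨q, hq⟩ := ihb (hI ▸ hb) x
        exact ⟨p + q, by rw [map_add, hp, hq, ← add_tmul]; rfl⟩
      · intro c a ha iha hi x
        obtain ⟨p, hp⟩ := iha (hI ▸ ha) (c • x)
        exact ⟨p, by rw [hp, ← smul_tmul]; rfl⟩
  have hmu : ∀ z, TensorProduct.lid R' M' (I.subtype.rTensor M' (θ z)) =
      TensorProduct.lid R M' ((m.subtype : m →ₗ[R] R).rTensor M' z) := fun z => by
    induction z using TensorProduct.induction_on with
    | zero => simp
    | add x y hx hy => simp [hx, hy]
    | tmul r x =>
      show (algebraMap R R' r) • x = (r : R) • x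
      rw [IsScalarTower.algebraMap_smul]
  have hflat : Function.Injective ((m.subtype : m →ₗ[R] R).rTensor M') :=
    Module.Flat.rTensor_preserves_injective_linearMap _ m.subtype_injective
  intro a b hab
  obtain ⟨a, rfl⟩ := hθ a
  obtain ⟨b, rfl⟩ := hθ b
  congr 1
  apply hflat
  apply (TensorProduct.lid R M').injective
  rw [← hmu, ← hmu, hab]

/-- Consider a commutative square of local rings and local homomorphisms R → S, R → R', S → S', R' → S',
and a finite S-module M. Assume the maps R → R' and S → S' are flat, M is flat over R, the maximal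
ideal of R generates the maximal ideal of R', and R', S' are Noetherian. Then M' = M ⊗_S S' (any
base change of M along S → S') is flat over R'. -/
theorem result (R S R' S' : Type u) [CommRing R] [CommRing S]
    [CommRing R'] [CommRing S'] [IsLocalRing R] [IsLocalRing S] [IsLocalRing R'] [IsLocalRing S']
    [Algebra R S] [Algebra R R'] [Algebra S S'] [Algebra R' S'] [Algebra R S']
    [IsScalarTower R S S'] [IsScalarTower R R' S']
    [IsLocalHom (algebraMap R S)] [IsLocalHom (algebraMap R R')] [IsLocalHom (algebraMap S S')]
    [IsLocalHom (algebraMap R' S')] [Module.Flat R R'] [Module.Flat S S']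
    [IsNoetherianRing R'] [IsNoetherianRing S']
    (hm : (IsLocalRing.maximalIdeal R).map (algebraMap R R') = IsLocalRing.maximalIdeal R')
    (M : Type u) [AddCommGroup M] [Module S M] [Module R M] [IsScalarTower R S M] [Module.Finite S M]
    [Module.Flat R M]
    (M' : Type u) [AddCommGroup M'] [Module S' M'] [Module S M'] [IsScalarTower S S' M'] [Module R' M']
    [IsScalarTower R' S' M'] (j : M →ₗ[S] M') (hj : IsBaseChange S' j) :
    Module.Flat R' M' := by
  letI : Module R M' := Module.compHom M' (algebraMap R S')
  haveI : IsScalarTower R S' M' := .of_algebraMap_smul fun r x => rfl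
  haveI : IsScalarTower R R' M' := .of_algebraMap_smul fun r x => by
    rw [← algebraMap_smul S' (algebraMap R R' r) x, ← IsScalarTower.algebraMap_apply R R' S', algebraMap_smul]
  haveI : IsScalarTower R S M' := .of_algebraMap_smul fun r x => by
    rw [← algebraMap_smul S' (algebraMap R S r) x, ← IsScalarTower.algebraMap_apply R S S', algebraMap_smul]
  haveI hflat : Module.Flat R M' := by
    have := flat_tensor (R := R) (S := S) S' M
    exact Module.Flat.of_linearEquiv (hj.equiv.restrictScalars R).symm
  haveI : Module.Finite S' M' := Module.Finite.equiv hj.equiv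
  let I := IsLocalRing.maximalIdeal R'
  refine Flat.Criteria.local_criterion (S := S') I ?_ ?_ ?_
  · rw [IsLocalRing.jacobson_eq_maximalIdeal ⊥ bot_ne_top]
    exact ((IsLocalRing.local_hom_TFAE (algebraMap R' S')).out 0 2).mp ‹IsLocalHom (algebraMap R' S')›
  · exact injective_rTensor hm.symm M'
  · letI := Ideal.Quotient.field I
    exact Module.Flat.of_free

end Groth.Agent.S6382
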