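import Groth.Statements.S6383
import Mathlib.LinearAlgebra.TensorProduct.Finiteness
import Mathlib.LinearAlgebra.TensorProduct.Tower

set_option autoImplicit false
universe u
open scoped TensorProduct
open CAlg

namespace Groth.Agent.S6383


open TensorProduct

/-- For a ring map R → S and an R-module M whose base change S ⊗_R M is an internal direct sum of
countably generated S-submodules Q_i (i ∈ I), every countably generated submodule N ≤ M can be
enlarged to a countably generated submodule N' ≤ M, together with a subset I' ⊆ I, so that the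
S-span of the image 1 ⊗ N' inside S ⊗_R M equals the sum of the Q_i over i ∈ I'. -/
theorem result (R S : Type u) [CommRing R] [CommRing S] [Algebra R S]
    (M : Type u) [AddCommGroup M] [Module R M] {I : Type u} [DecidableEq I] (Q : I → Submodule S (S ⊗[R] M))
    (hQ : DirectSum.IsInternal Q) (hQc : ∀ i, ∃ t : Set (S ⊗[R] M), t.Countable ∧ Submodule.span S t = Q i)
    (N : Submodule R M) (hN : ∃ s : Set M, s.Countable ∧ Submodule.span R s = N) :
    ∃ (N' : Submodule R M) (I' : Set I), N ≤ N' ∧ (∃ s : Set M, s.Countable ∧ Submodule.span R s = N') ∧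
      Submodule.span S ((TensorProduct.mk R S M 1) '' (N' : Set M)) = ⨆ i ∈ I', Q i := by
  classical
  obtain ⟨s₀, hs₀, rfl⟩ := hN
  obtain ⟨hind, htop⟩ := (DirectSum.isInternal_submodule_iff_iSupIndep_and_iSup_eq_top Q).mp hQ
  choose g hgc hgspan using hQc
  have hsup : ∀ z : S ⊗[R] M, ∃ F : Finset I, z ∈ ⨆ i ∈ (F : Set I), Q i := fun z => by
    obtain ⟨F, hF⟩ := Submodule.exists_finset_of_mem_iSup Q (htop ▸ Submodule.mem_top : z ∈ _)
    exact ⟨F, by simpa using hF⟩
  choose F hF using hsup
  choose T hT using fun z : S ⊗[R] M => TensorProduct.exists_finset (R := R) z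
  let gens : Set I → Set M := fun K => s₀ ∪ ⋃ i ∈ K, ⋃ m ∈ g i, ((T m).image Prod.snd : Finset M)
  let nxt : Set I → Set I := fun K => K ∪ ⋃ x ∈ gens K, (F ((1 : S) ⊗ₜ x) : Set I)
  let K : ℕ → Set I := fun n => nxt^[n] ∅
  have hg : ∀ K : Set I, K.Countable → (gens K).Countable := fun K hK =>
    hs₀.union (hK.biUnion fun i _ => (hgc i).biUnion fun m _ => Finset.countable_toSet _)
  have hK : ∀ n, (K n).Countable := by
    intro n
    induction n with
    | zero => exact Set.countable_empty
    | succ n ih =>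
      simp only [K, Function.iterate_succ', Function.comp_apply]
      exact ih.union ((hg _ ih).biUnion fun x _ => Finset.countable_toSet _)
  refine ⟨Submodule.span R (⋃ n, gens (K n)), ⋃ n, K n,
    Submodule.span_mono fun x hx => Set.mem_iUnion.2 ⟨0, Or.inl hx⟩,
    ⟨_, Set.countable_iUnion fun n => hg _ (hK n), rfl⟩, le_antisymm ?_ ?_⟩
  · rw [Submodule.span_le, Set.image_subset_iff]
    show Submodule.span R (⋃ n, gens (K n)) ≤
      ((⨆ i ∈ ⋃ n, K n, Q i).restrictScalars R).comap (TensorProduct.mk R S M 1)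
    rw [Submodule.span_le]
    intro x hx
    obtain ⟨n, hn⟩ := Set.mem_iUnion.1 hx
    refine (biSup_mono (f := Q) (fun j hj => ?_) :
      ⨆ i ∈ (F ((1 : S) ⊗ₜ[R] x) : Set I), Q i ≤ _) (hF ((1 : S) ⊗ₜ x))
    refine Set.mem_iUnion.2 ⟨n + 1, ?_⟩
    simp only [K, Function.iterate_succ', Function.comp_apply]
    exact Or.inr (Set.mem_biUnion hn hj)
  · refine iSup₂_le fun i hi => ?_
    obtain ⟨n, hn⟩ := Set.mem_iUnion.1 hi
    rw [← hgspan i, Submodule.span_le]
    intro m hm
    rw [hT m]
    refine Submodule.sum_mem _ fun p hp => ?_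
    rw [show p.1 ⊗ₜ[R] p.2 = p.1 • ((1 : S) ⊗ₜ[R] p.2) by simp [TensorProduct.smul_tmul']]
    refine Submodule.smul_mem _ _ (Submodule.subset_span ⟨p.2, Submodule.subset_span ?_, rfl⟩)
    exact Set.mem_iUnion.2 ⟨n, Or.inr (Set.mem_biUnion hn (Set.mem_biUnion hm
      (Finset.mem_coe.mpr (Finset.mem_image_of_mem Prod.snd hp))))⟩

end Groth.Agent.S6383
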