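import Groth.Statements.S6386
import Mathlib.RingTheory.Flat.EquationalCriterion
import Mathlib.Algebra.FreeAlgebra.Cardinality
import Mathlib.SetTheory.Cardinal.Basic

set_option autoImplicit false
universe u
open CAlg

namespace Groth.Agent.S6386

open Cardinal

theorem exists_step {A B : Type u} [CommRing A] [CommRing B] [Algebra A B] [Module.Flat A B]
    (S : Subalgebra A B) (hS : #S ≤ max (#A) ℵ₀) :
    ∃ T : Subalgebra A B, S ≤ T ∧ #T ≤ max (#A) ℵ₀ ∧ ∀ (l : ℕ) (c : Fin l → A) (x : Fin l → S),
      ∑ i, c i • (x i : B) = 0 → ∃ (k : ℕ) (a : Fin l → Fin k → A) (y : Fin k → B),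
        (∀ j, y j ∈ T) ∧ (∀ i, (x i : B) = ∑ j, a i j • y j) ∧ ∀ j, ∑ i, c i * a i j = 0 := by
  classical
  let κ := max (#A) ℵ₀
  have hκ : ℵ₀ ≤ κ := le_max_right _ _
  let Rel : Type u := {L : List (A × S) // ∑ i : Fin L.length, (L.get i).1 • ((L.get i).2 : B) = 0}
  choose k a y hxy hca using fun L : Rel => Module.Flat.iff_forall_isTrivialRelation.mp
    (inferInstance : Module.Flat A B) (f := fun i => (L.1.get i).1) (x := fun i => ((L.1.get i).2 : B)) L.2
  let Y : Rel × ULift.{u} ℕ → B := fun p => if h : p.2.down < k p.1 then y p.1 ⟨p.2.down, h⟩ else 0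
  refine ⟨Algebra.adjoin A ((S : Set B) ∪ Set.range Y), fun b hb => Algebra.subset_adjoin (Or.inl hb), ?_, ?_⟩
  · refine (Algebra.cardinalMk_adjoin_le A _).trans ?_
    have hA : #(A × S) ≤ κ := by
      rw [mk_prod, lift_id, lift_id]
      exact (mul_le_mul' (le_max_left _ _) hS).trans (mul_eq_self hκ).le
    have hRel : #Rel ≤ κ := (mk_subtype_le _).trans ((mk_list_le_max _).trans (max_le hκ hA))
    have hY : #(Set.range Y) ≤ κ := by
      refine mk_range_le.trans ?_
      rw [mk_prod, lift_id, lift_id]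
      refine (mul_le_mul' hRel ?_).trans (mul_eq_self hκ).le
      simp [hκ]
    exact sup_le (sup_le (le_max_left _ _) ((mk_union_le _ _).trans ((add_le_add hS hY).trans (add_eq_self hκ).le))) hκ
  · intro l c x hcx
    have hlen : (List.ofFn fun i => (c i, x i)).length = l := List.length_ofFn
    let L : Rel := ⟨List.ofFn fun i => (c i, x i), by
      rw [← hcx, ← Equiv.sum_comp (finCongr hlen)]
      exact Finset.sum_congr rfl fun i _ => by simp; rfl⟩
    refine ⟨k L, fun i j => a L (finCongr hlen.symm i) j, y L, fun j => Algebra.subset_adjoin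
      (Or.inr ⟨(L, ⟨j.1⟩), by simp [Y]⟩), fun i => ?_, fun j => ?_⟩
    · have h := hxy L (finCongr hlen.symm i)
      simpa [L] using h
    · rw [← hca L j, ← Equiv.sum_comp (finCongr hlen)]
      exact Finset.sum_congr rfl fun i _ => by simp [L]; rfl

/-- The key step of its proof: let A be a ring, κ = max(|A|, ℵ₀), and B a flat A-algebra. Then every
A-subalgebra E ⊆ B with at most κ elements lies inside a flat A-subalgebra B' ⊆ B with at most κ
elements. Consequently B is the filtered colimit (union) of its flat A-subalgebras of cardinality at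
most κ. -/
theorem result (A B : Type u) [CommRing A] [CommRing B] [Algebra A B]
    [Module.Flat A B] (E : Subalgebra A B) (hE : Cardinal.mk E ≤ max (Cardinal.mk A) Cardinal.aleph0) :
    ∃ B' : Subalgebra A B, E ≤ B' ∧ Module.Flat A B' ∧ Cardinal.mk B' ≤ max (Cardinal.mk A) Cardinal.aleph0 := by
  classical
  choose next hnext hnextc hnextt using fun (S : {S : Subalgebra A B // #S ≤ max (#A) ℵ₀}) => exists_step S.1 S.2
  let seq : ℕ → {S : Subalgebra A B // #S ≤ max (#A) ℵ₀} := fun n =>
    Nat.rec ⟨E, hE⟩ (fun _ S => ⟨next S, hnextc S⟩) n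
  have hmono : Monotone fun n => (seq n).1 := monotone_nat_of_le_succ fun n => hnext (seq n)
  have hdir : Directed (· ≤ ·) fun n => (seq n).1 := hmono.directed_le
  refine ⟨⨆ n, (seq n).1, le_iSup (fun n => (seq n).1) 0, ?_, ?_⟩
  · rw [Module.Flat.iff_forall_isTrivialRelation]
    intro l c x hcx
    have hx : ∀ i, ∃ n, (x i : B) ∈ (seq n).1 := fun i => by
      have h := (x i).2
      rw [← SetLike.mem_coe, Subalgebra.coe_iSup_of_directed hdir, Set.mem_iUnion] at h
      exact h
    choose N hN using hx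
    let n := Finset.univ.sup N
    have hxn : ∀ i, (x i : B) ∈ (seq n).1 := fun i => hmono (Finset.le_sup (Finset.mem_univ i)) (hN i)
    have h0 : ∑ i, c i • ((⟨x i, hxn i⟩ : (seq n).1) : B) = 0 := by
      simpa using congrArg Subtype.val hcx
    obtain ⟨k, a, y, hy, hxy, hca⟩ := hnextt (seq n) l c (fun i => ⟨x i, hxn i⟩) h0
    refine ⟨k, a, fun j => ⟨y j, le_iSup (fun n => (seq n).1) (n + 1) (hy j)⟩, fun i => ?_, hca⟩
    apply Subtype.ext
    simpa using hxy i
  · have h : #(↑(⨆ n, (seq n).1) : Set B) ≤ max (#A) ℵ₀ := by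
      rw [Subalgebra.coe_iSup_of_directed hdir]
      have h1 := mk_iUnion_le_lift fun n => ((seq n).1 : Set B)
      simp only [lift_id', mk_nat, lift_uzero, lift_aleph0] at h1
      exact h1.trans ((mul_le_mul' (le_max_right (#A) ℵ₀) (ciSup_le' fun n => (seq n).2)).trans
        (mul_eq_self (le_max_right _ _)).le)
    exact h

end Groth.Agent.S6386
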