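import Groth.Statements.S6387
import Groth.Agent.Flat.Criteria
import Mathlib.Algebra.Homology.ShortComplex.ModuleCat

set_option autoImplicit false
universe u
open CategoryTheory
open CAlg

namespace Groth.Agent.S6387

open CategoryTheory CategoryTheory.Limits
open scoped TensorProduct

lemma one_tmul_eq_zero {A : Type u} [CommRing A] (I : Ideal A) (P : Type u) [AddCommGroup P] [Module A P] (p : P) :
    (1 : A ⧸ I) ⊗ₜ[A] p = 0 ↔ p ∈ (I • ⊤ : Submodule A P) := by
  rw [← (TensorProduct.quotTensorEquivQuotSMul P I).map_eq_zero_iff,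
    show (1 : A ⧸ I) = Ideal.Quotient.mk I 1 from rfl, TensorProduct.quotTensorEquivQuotSMul_mk_tmul, one_smul,
    Submodule.Quotient.mk_eq_zero]

lemma mem_smul_top_map {R S N : Type u} [CommRing R] [CommRing S] [Algebra R S] [AddCommGroup N] [Module R N]
    [Module S N] [IsScalarTower R S N] (I : Ideal R) {y : N} :
    y ∈ (I • ⊤ : Submodule R N) ↔ y ∈ (I.map (algebraMap R S) • ⊤ : Submodule S N) := by
  refine ((Submodule.restrictScalars_mem R (I.map (algebraMap R S) • ⊤ : Submodule S N) y).symm.trans ?_).symm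
  simp only [Ideal.smul_top_eq_map, Ideal.smul_restrictScalars, Submodule.restrictScalars_top]

/-- Let R and S be Noetherian local rings, R → S a local ring map, and m the maximal ideal of R. Take a
bounded complex F_e → … → F_1 → F_0 of finitely generated S-modules, zero to the left of F_e (a
chain complex C with C_j = 0 for j > e) such that every F_j is flat over R and the complex 0 →
F_e/mF_e → … → F_0/mF_0 (C tensored over S with S/mS) is exact at F_e, …, F_1. Then 0 → F_e → … →
F_0 is exact at F_e, …, F_1 and the cokernel of F_1 → F_0 (the homology of C in degree 0) is flat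
over R. -/
theorem result {R S : Type u} [CommRing R] [CommRing S]
    [IsLocalRing R] [IsLocalRing S] [IsNoetherianRing R] [IsNoetherianRing S] [Algebra R S]
    [IsLocalHom (algebraMap R S)] (C : ChainComplex (ModuleCat.{u} S) ℕ) (e : ℕ)
    (hzero : ∀ j, e < j → Limits.IsZero (C.X j)) (hfin : ∀ j, Module.Finite S (C.X j))
    (hflat : ∀ j, Module.Flat R ((ModuleCat.restrictScalars (algebraMap R S)).obj (C.X j)))
    (hex : ∀ j, 1 ≤ j → j ≤ e →
      (((MonoidalCategory.tensorLeft
          (ModuleCat.of S (S ⧸ (IsLocalRing.maximalIdeal R).map (algebraMap R S)))).mapHomologicalComplex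
          (ComplexShape.down ℕ)).obj C).ExactAt j) :
    (∀ j, 1 ≤ j → j ≤ e → C.ExactAt j) ∧
      Module.Flat R ((ModuleCat.restrictScalars (algebraMap R S)).obj (C.homology 0)) := by
  letI : ∀ j, Module R (C.X j) := fun j => ((ModuleCat.restrictScalars.{u} (algebraMap R S)).obj (C.X j)).isModule
  haveI : ∀ j, IsScalarTower R S (C.X j) := fun j => ⟨fun r s x =>
    (congrArg (· • x) (Algebra.smul_def r s)).trans (mul_smul (algebraMap R S r) s x)⟩
  haveI : ∀ j, Module.Flat R (C.X j) := hflat
  haveI := hfin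
  let m := IsLocalRing.maximalIdeal R
  let J := m.map (algebraMap R S)
  have key : ∀ j, Function.Exact (C.d (j + 2) (j + 1)).hom (C.d (j + 1) j).hom ∧
      Module.Flat R (C.X j ⧸ LinearMap.range (C.d (j + 1) j).hom) := by
    intro j
    let R1 := LinearMap.range (C.d (j + 2) (j + 1)).hom
    let u : (C.X (j + 1) ⧸ R1) →ₗ[S] C.X j := Submodule.liftQ R1 (C.d (j + 1) j).hom (by
      rintro _ ⟨x, rfl⟩
      exact ConcreteCategory.congr_hom (C.d_comp_d (j + 2) (j + 1) j) x)
    have hu : Function.Injective ((u.restrictScalars R).lTensor (R ⧸ m)) := by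
      refine (injective_iff_map_eq_zero _).2 fun z hz => ?_
      obtain ⟨q, rfl⟩ := TensorProduct.mk_surjective R (C.X (j + 1) ⧸ R1) (R ⧸ m) Ideal.Quotient.mk_surjective z
      obtain ⟨x, rfl⟩ := Submodule.Quotient.mk_surjective R1 q
      refine (one_tmul_eq_zero m _ _).2 ?_
      have hx : (C.d (j + 1) j).hom x ∈ (m • ⊤ : Submodule R (C.X j)) := (one_tmul_eq_zero m _ _).1 hz
      rw [mem_smul_top_map m (S := S)] at hx ⊢
      rcases le_or_gt (j + 1) e with hj | hj
      · have h := hex (j + 1) (by omega) hj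
        rw [HomologicalComplex.exactAt_iff' _ (j + 2) (j + 1) j (by simp) (by simp),
          ShortComplex.ShortExact.moduleCat_exact_iff_function_exact] at h
        have h' : Function.Exact ((C.d (j + 2) (j + 1)).hom.lTensor (S ⧸ J)) ((C.d (j + 1) j).hom.lTensor (S ⧸ J)) := h
        obtain ⟨w, hw⟩ := (h' (1 ⊗ₜ x)).1 ((one_tmul_eq_zero J _ _).2 hx)
        obtain ⟨y, rfl⟩ := TensorProduct.mk_surjective S (C.X (j + 2)) (S ⧸ J) Ideal.Quotient.mk_surjective w
        have h1 : x - (C.d (j + 2) (j + 1)).hom y ∈ (J • ⊤ : Submodule S (C.X (j + 1))) :=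
          (one_tmul_eq_zero J _ _).1 (by rw [TensorProduct.tmul_sub, sub_eq_zero]; exact hw.symm)
        have h2 := Submodule.mem_map_of_mem (f := R1.mkQ) h1
        rw [Submodule.map_smul'', map_sub,
          show R1.mkQ ((C.d (j + 2) (j + 1)).hom y) = 0 from (Submodule.Quotient.mk_eq_zero R1).2 ⟨y, rfl⟩, sub_zero] at h2
        exact Submodule.smul_mono le_rfl le_top h2
      · haveI := ModuleCat.subsingleton_of_isZero (hzero (j + 1) hj)
        rw [Subsingleton.elim x 0, Submodule.Quotient.mk_zero]
        exact zero_mem _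
    obtain ⟨hinj, hflat'⟩ := Groth.Agent.Flat.Criteria.injective_and_flat_quotient (S := S) (u.restrictScalars R) m
      (le_trans (Ideal.map_le_iff_le_comap.2 fun r hr => by
          rw [Ideal.mem_comap, IsLocalRing.mem_maximalIdeal, map_mem_nonunits_iff]; exact hr)
        (IsLocalRing.maximalIdeal_le_jacobson ⊥)) hu
    refine ⟨fun x => ⟨fun hx => (Submodule.Quotient.mk_eq_zero R1).1 (hinj (hx.trans (map_zero _).symm)), ?_⟩, ?_⟩
    · rintro ⟨y, rfl⟩
      exact ConcreteCategory.congr_hom (C.d_comp_d (j + 2) (j + 1) j) y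
    · let W := LinearMap.range (C.d (j + 1) j).hom
      have hW : LinearMap.range (u.restrictScalars R) = W.restrictScalars R :=
        (LinearMap.range_restrictScalars u).trans (congrArg (Submodule.restrictScalars R) (Submodule.range_liftQ _ _ _))
      haveI := hflat'
      exact Module.Flat.of_linearEquiv ((Submodule.Quotient.restrictScalarsEquiv R W).symm.trans
        (Submodule.quotEquivOfEq _ _ hW).symm)
  refine ⟨fun j h1 _ => ?_, ?_⟩
  · obtain ⟨j, rfl⟩ : ∃ i, i + 1 = j := ⟨j - 1, by omega⟩
    rw [HomologicalComplex.exactAt_iff' _ (j + 2) (j + 1) j (by simp) (by simp),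
      ShortComplex.ShortExact.moduleCat_exact_iff_function_exact]
    exact (key j).1
  · let e0 : C.homology 0 ≅ ModuleCat.of S (C.X 0 ⧸ LinearMap.range (C.d 1 0).hom) :=
      @asIso _ _ _ _ (C.homologyι 0) (C.isIso_homologyι 0 _ rfl (C.shape _ _ (by simp))) ≪≫
        ShortComplex.opcyclesMapIso (C.isoSc' 1 0 0 (by simp) (by simp)) ≪≫ (C.sc' 1 0 0).moduleCatOpcyclesIso
    let eR := ((ModuleCat.restrictScalars.{u} (algebraMap R S)).mapIso e0).toLinearEquiv
    haveI hq : Module.Flat R ((ModuleCat.restrictScalars.{u} (algebraMap R S)).obj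
        (ModuleCat.of S (C.X 0 ⧸ LinearMap.range (C.d 1 0).hom))) := by
      haveI := (key 0).2
      exact Module.Flat.of_linearEquiv (R := R) (M := (C.X 0 ⧸ LinearMap.range (C.d 1 0).hom))
        { toFun := fun x => (show C.X 0 ⧸ LinearMap.range (C.d 1 0).hom from x), invFun := fun x => (show C.X 0 ⧸ LinearMap.range (C.d 1 0).hom from x), left_inv := fun _ => rfl, right_inv := fun _ => rfl, map_add' := fun _ _ => rfl, map_smul' := fun r x => algebraMap_smul S r (show C.X 0 ⧸ LinearMap.range (C.d 1 0).hom from x) }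
    exact Module.Flat.of_linearEquiv eR

end Groth.Agent.S6387
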