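import Groth.Statements.S6390
import Groth.Agent.Alg.Devissage

set_option autoImplicit false
universe u
open scoped Classical
open CAlg

namespace Groth.Agent.S6390

/-- An R-module M is a direct sum of countably generated modules if and only if it admits a Kaplansky
dévissage, i.e. an increasing family of submodules (M_s) indexed by a well-ordered set S with M_s =
⋃_{t<s} M_t at non-successor indices (so the first term is 0), ⋃_s M_s = M, and, whenever t is the
successor of s, M_s a direct summand of M_t with M_t/M_s countably generated. -/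
theorem result (R : Type u) [CommRing R] (M : Type u)
    [AddCommGroup M] [Module R M] :
    (∃ (ι : Type u) (N : ι → Submodule R M), DirectSum.IsInternal N ∧ ∀ i, CAlg.IsCountablyGenerated R (N i)) ↔
      ∃ (S : Type u) (_ : LinearOrder S) (_ : WellFoundedLT S) (Mf : S → Submodule R M), Monotone Mf ∧
        (∀ s : S, Order.IsSuccPrelimit s → Mf s = ⨆ t : {t : S // t < s}, Mf t.1) ∧
        (⨆ s, Mf s) = ⊤ ∧
        (∀ s t : S, s ⋖ t → ∃ C : Submodule R M, Mf s ⊓ C = ⊥ ∧ Mf s ⊔ C = Mf t ∧
          CAlg.IsCountablyGenerated R (↥(Mf t) ⧸ Submodule.comap (Mf t).subtype (Mf s))) := by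
  classical
  constructor
  · rintro ⟨ι, N, hN, hc⟩
    obtain ⟨hind, htop⟩ := (DirectSum.isInternal_submodule_iff_iSupIndep_and_iSup_eq_top N).mp hN
    obtain ⟨_, _⟩ := exists_wellFoundedLT ι
    let Mf : WithTop ι → Submodule R M := fun s => ⨆ i ∈ {i : ι | (i : WithTop ι) < s}, N i
    refine ⟨WithTop ι, inferInstance, inferInstance, Mf,
      fun a b hab => biSup_mono fun i hi => lt_of_lt_of_le hi hab, fun s hs => ?_, ?_, fun s t hst => ?_⟩
    · refine le_antisymm (iSup₂_le fun i hi => ?_) (iSup_le fun t => biSup_mono fun i hi => hi.trans t.2)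
      obtain ⟨t, hit, hts⟩ := (not_covBy_iff hi).mp (hs (i : WithTop ι))
      exact le_iSup_of_le ⟨t, hts⟩ (le_biSup N (show (i : WithTop ι) < t from hit))
    · rw [eq_top_iff, ← htop]
      exact iSup_le fun i => le_iSup_of_le ⊤ (le_biSup N (WithTop.coe_lt_top i))
    · obtain ⟨i, rfl⟩ : ∃ i : ι, (i : WithTop ι) = s := WithTop.ne_top_iff_exists.mp hst.1.ne_top
      have hset : {j : ι | (j : WithTop ι) < t} = {j : ι | (j : WithTop ι) < (i : WithTop ι)} ∪ {i} := by
        ext j
        simp only [Set.mem_setOf_eq, Set.mem_union, Set.mem_singleton_iff]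
        constructor
        · intro hj
          rcases lt_trichotomy (j : WithTop ι) (i : WithTop ι) with h | h | h
          · exact Or.inl h
          · exact Or.inr (by exact_mod_cast h)
          · exact absurd hj (hst.2 h)
        · rintro (h | rfl)
          exacts [h.trans hst.1, hst.1]
      have hsup' : Mf (i : WithTop ι) ⊔ N i = Mf t := by
        show (⨆ j ∈ _, N j) ⊔ N i = ⨆ j ∈ _, N j
        rw [hset, iSup_union, iSup_singleton]
      have hinf' : Mf (i : WithTop ι) ⊓ N i = ⊥ := by
        refine le_bot_iff.mp ((inf_le_inf_right _ ?_).trans (hind i).symm.le_bot)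
        exact iSup₂_le fun j hj => le_iSup₂_of_le j (ne_of_lt (by exact_mod_cast hj)) le_rfl
      refine ⟨N i, hinf', hsup', ?_⟩
      obtain ⟨g, hg, hgspan⟩ := hc i
      refine ⟨(Submodule.comap (Mf t).subtype (Mf (i : WithTop ι))).mkQ ''
        (Submodule.inclusion (le_sup_right.trans hsup'.le) '' g), (hg.image _).image _, ?_⟩
      rw [← Submodule.map_span, ← Submodule.map_span, hgspan, eq_top_iff]
      rintro x -
      obtain ⟨⟨y, hy⟩, rfl⟩ := Submodule.mkQ_surjective _ x
      obtain ⟨a, ha, c, hc', rfl⟩ := Submodule.mem_sup.mp (hsup'.ge hy)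
      refine ⟨Submodule.inclusion (le_sup_right.trans hsup'.le) ⟨c, hc'⟩, ⟨⟨c, hc'⟩, trivial, rfl⟩, ?_⟩
      rw [Submodule.mkQ_apply, Submodule.mkQ_apply, Submodule.Quotient.eq]
      show (c - (a + c) : M) ∈ Mf (i : WithTop ι)
      simpa using neg_mem ha
  · rintro ⟨S, _, _, Mf, hmono, hlim, htop, hsucc⟩
    have h' : ∀ p : {p : S × S // p.1 ⋖ p.2}, ∃ C : Submodule R M, Mf p.1.1 ⊓ C = ⊥ ∧
        Mf p.1.1 ⊔ C = Mf p.1.2 ∧ CAlg.IsCountablyGenerated R
          (↥(Mf p.1.2) ⧸ Submodule.comap (Mf p.1.2).subtype (Mf p.1.1)) := fun p => hsucc _ _ p.2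
    choose C hinf hsup hcg using h'
    refine ⟨_, C, ?_, fun p => ?_⟩
    · convert Groth.Agent.Alg.Devissage.isInternal Mf hmono C hinf hsup hlim htop
    · obtain ⟨e⟩ := Groth.Agent.Alg.Devissage.nonempty_quotEquiv Mf C hinf hsup p
      exact Groth.Agent.Alg.Devissage.countablyGenerated_of_equiv e.symm (hcg p)

end Groth.Agent.S6390
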