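import Groth.Statements.S6391
import Groth.Agent.HensPoint.Lifting
import Groth.Agent.HensPoint.IndEtale

set_option autoImplicit false
universe u
open CAlg

namespace Groth.Agent.S6391

/-- Let R be a ring, S and S' henselian local rings which are filtered colimits of étale R-algebras, and
K a field together with R-algebra maps S → K and S' → K identifying K with the residue field of each
(surjective with kernel the maximal ideal). Then exactly one isomorphism of R-algebras S → S'
commutes with the two maps to K. -/
theorem result (R S S' K : Type u) [CommRing R]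
    [CommRing S] [CommRing S'] [Field K] [HenselianLocalRing S] [HenselianLocalRing S']
    [Algebra R S] [Algebra R S'] [Algebra R K] (hS : EtPBC.IsIndEtale R S) (hS' : EtPBC.IsIndEtale R S')
    (u : S →ₐ[R] K) (u' : S' →ₐ[R] K) (hu : Function.Surjective u) (hu' : Function.Surjective u')
    (hku : RingHom.ker u.toRingHom = IsLocalRing.maximalIdeal S)
    (hku' : RingHom.ker u'.toRingHom = IsLocalRing.maximalIdeal S') :
    ∃! e : S ≃ₐ[R] S', u'.comp (e : S →ₐ[R] S') = u := by
  have hE := HensPoint.IndEtale.isEtColim_of_isIndEtale hS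
  have hE' := HensPoint.IndEtale.isEtColim_of_isIndEtale hS'
  let e' := (Ideal.quotientEquivAlgOfEq R
    (show IsLocalRing.maximalIdeal S' = RingHom.ker u' from hku'.symm)).trans
    (Ideal.quotientKerAlgEquivOfSurjective hu')
  let e₀ := (Ideal.quotientEquivAlgOfEq R
    (show IsLocalRing.maximalIdeal S = RingHom.ker u from hku.symm)).trans
    (Ideal.quotientKerAlgEquivOfSurjective hu)
  obtain ⟨g, hg, -⟩ := HensPoint.Lifting.existsUnique_algHom hE (e'.symm.toAlgHom.comp u)
  obtain ⟨g', hg', -⟩ := HensPoint.Lifting.existsUnique_algHom hE' (e₀.symm.toAlgHom.comp u')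
  have h1 : ∀ x, u' (g x) = u x := fun x =>
    (congrArg e' (DFunLike.congr_fun hg x)).trans (e'.apply_symm_apply _)
  have h2 : ∀ x, u (g' x) = u' x := fun x =>
    (congrArg e₀ (DFunLike.congr_fun hg' x)).trans (e₀.apply_symm_apply _)
  have hgg' : g'.comp g = AlgHom.id R S := HensPoint.Lifting.algHom_ext
    (J := IsLocalRing.maximalIdeal S) hE fun x => by
    rw [← hku]; show u _ = 0
    simp [h1, h2]
  have hg'g : g.comp g' = AlgHom.id R S' := HensPoint.Lifting.algHom_ext
    (J := IsLocalRing.maximalIdeal S') hE' fun x => by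
    rw [← hku']; show u' _ = 0
    simp [h1, h2]
  refine ⟨AlgEquiv.ofAlgHom g g' hg'g hgg', AlgHom.ext h1, fun e he => AlgEquiv.ext fun x => ?_⟩
  have := HensPoint.Lifting.algHom_ext (J := IsLocalRing.maximalIdeal S') hE
    (τ₁ := (e : S →ₐ[R] S')) (τ₂ := g) fun y => by
      rw [← hku']; show u' _ = 0
      rw [map_sub, h1, ← he]; simp
  exact DFunLike.congr_fun this x

end Groth.Agent.S6391
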