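import Groth.Statements.S6392
import Groth.Agent.ML.Module
import Mathlib.Algebra.Colimit.Module

set_option autoImplicit false
universe u
open CAlg

namespace Groth.Agent.S6392


variable {R : Type u} [CommRing R] {ι : Type u} [Preorder ι] [IsDirected ι (· ≤ ·)] [Nonempty ι]
  [DecidableEq ι] {G : ι → Type u} [∀ i, AddCommGroup (G i)] [∀ i, Module R (G i)]
  (f : ∀ i j, i ≤ j → G i →ₗ[R] G j) [DirectedSystem G fun i j h => f i j h]

theorem exists_eq_stage {P : Type u} [AddCommGroup P] [Module R P] (i j : ι) [Module.Finite R P]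
    (d : P →ₗ[R] G j) (hd : ∀ x, Module.DirectLimit.of R ι G f j (d x) = 0) :
    ∃ k, ∃ h : j ≤ k, ∀ x, f j k h (d x) = 0 := by
  obtain ⟨n, π, hπ⟩ := Module.Finite.exists_fin' R P
  choose K hK hK0 using fun l : Fin n => Module.DirectLimit.of.zero_exact (hd (π (Pi.single l 1)))
  obtain ⟨k, hk⟩ := Finite.exists_le (α := ι) fun o : Option (Fin n) => o.elim j K
  refine ⟨k, hk none, fun x => ?_⟩
  obtain ⟨v, rfl⟩ := hπ x
  have h : f j k (hk none) ∘ₗ d ∘ₗ π = 0 := by
    refine LinearMap.pi_ext' fun l => LinearMap.ext_ring ?_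
    show f j k (hk none) (d (π (Pi.single l 1))) = 0
    rw [← DirectedSystem.map_map (f := fun i j h => f i j h) (hK l) (hk (some l)), hK0 l, map_zero]
  exact LinearMap.congr_fun h v

theorem exists_stage {Q : Type u} [AddCommGroup Q] [Module R Q] [Module.FinitePresentation R Q]
    (h : Q →ₗ[R] Module.DirectLimit G f) :
    ∃ j, ∃ t : Q →ₗ[R] G j, Module.DirectLimit.of R ι G f j ∘ₗ t = h := by
  obtain ⟨n, π, hπ⟩ := Module.Finite.exists_fin' R Q
  choose I x hx using fun l : Fin n => Module.DirectLimit.exists_of (h (π (Pi.single l 1)))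
  obtain ⟨i, hi⟩ := Finite.exists_le (α := ι) I
  let y : (Fin n → R) →ₗ[R] G i := Fintype.linearCombination R fun l => f (I l) i (hi l) (x l)
  have hy : Module.DirectLimit.of R ι G f i ∘ₗ y = h ∘ₗ π := by
    refine LinearMap.pi_ext' fun l => LinearMap.ext_ring ?_
    show Module.DirectLimit.of R ι G f i (y (Pi.single l 1)) = h (π (Pi.single l 1))
    rw [show y (Pi.single l 1) = f (I l) i (hi l) (x l) by simp [y], Module.DirectLimit.of_f, hx]
  haveI : Module.Finite R (LinearMap.ker π) :=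
    Module.Finite.iff_fg.mpr (Module.FinitePresentation.fg_ker π hπ)
  obtain ⟨k, hik, hk⟩ := exists_eq_stage f i i (y ∘ₗ (LinearMap.ker π).subtype) fun v => by
    show (Module.DirectLimit.of R ι G f i ∘ₗ y) v.1 = 0
    rw [hy, LinearMap.comp_apply, LinearMap.mem_ker.mp v.2, map_zero]
  refine ⟨k, (LinearMap.ker π).liftQ (f i k hik ∘ₗ y) (fun v hv => hk ⟨v, hv⟩) ∘ₗ
    (π.quotKerEquivOfSurjective hπ).symm.toLinearMap, LinearMap.ext fun q => ?_⟩
  obtain ⟨v, rfl⟩ := hπ q
  simp only [LinearMap.comp_apply, LinearEquiv.coe_coe, LinearMap.quotKerEquivOfSurjective_symm_apply]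
  show Module.DirectLimit.of R ι G f k (f i k hik (y v)) = h (π v)
  rw [Module.DirectLimit.of_f]
  exact LinearMap.congr_fun hy v

/-- Suppose M is the colimit of finitely presented R-modules G_i along a directed system over a nonempty
directed index set (transition maps f_ij), and M is both Mittag-Leffler and countably generated.
Then some countable directed subset I' of the indices already computes M: the canonical map from the
colimit of the G_i with i ∈ I' to M is bijective. -/
theorem result (R : Type u) [CommRing R]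
    {ι : Type u} [Preorder ι] [IsDirected ι (· ≤ ·)] [Nonempty ι] [DecidableEq ι] (G : ι → Type u)
    [∀ i, AddCommGroup (G i)] [∀ i, Module R (G i)] [∀ i, Module.FinitePresentation R (G i)]
    (f : ∀ i j, i ≤ j → G i →ₗ[R] G j) [DirectedSystem G fun i j h => f i j h]
    (hML : CAlg.IsMittagLeffler R (Module.DirectLimit G f))
    (hc : CAlg.IsCountablyGenerated R (Module.DirectLimit G f)) :
    ∃ I' : Set ι, I'.Countable ∧ DirectedOn (· ≤ ·) I' ∧
      Function.Bijective (Module.DirectLimit.lift R I' (fun i : I' => G i.1)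
        (fun (i j : I') (h : i ≤ j) => f i.1 j.1 h)
        (fun i : I' => Module.DirectLimit.of R ι G f i.1)
        (fun (i j : I') (h : i ≤ j) (x : G i.1) => Module.DirectLimit.of_f)) := by
  classical
  let φ : ∀ i, G i →ₗ[R] Module.DirectLimit G f := fun i => Module.DirectLimit.of R ι G f i
  have hφ : ∀ i j (h : i ≤ j) (x : G i), φ j (f i j h x) = φ i x := fun i j h x => Module.DirectLimit.of_f
  have hker : ∀ i, ∃ j, ∃ h : i ≤ j, ∀ x, φ i x = 0 → f i j h x = 0 := by
    intro i
    obtain ⟨Q, _, _, _, g, h, hgh, hd⟩ := ML.Module.dominate hML (φ i)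
    have hg0 : ∀ x, φ i x = 0 → g x = 0 := by
      intro x hx
      have h1 : x ⊗ₜ[R] (1 : R) ∈ LinearMap.ker ((φ i).rTensor R) := by simp [hx]
      rw [hd, LinearMap.mem_ker, LinearMap.rTensor_tmul] at h1
      simpa using congrArg (TensorProduct.rid R Q) h1
    obtain ⟨j₁, t, ht⟩ := exists_stage f h
    obtain ⟨j₂, hij₂, hjj₂⟩ := directed_of (· ≤ ·) i j₁
    obtain ⟨j, hj, hd2⟩ := exists_eq_stage f i j₂ (f i j₂ hij₂ - f j₁ j₂ hjj₂ ∘ₗ t ∘ₗ g) fun x => by
      show φ j₂ (f i j₂ hij₂ x - f j₁ j₂ hjj₂ (t (g x))) = 0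
      rw [map_sub, hφ, hφ, show φ j₁ (t (g x)) = h (g x) from LinearMap.congr_fun ht (g x),
        show h (g x) = φ i x from LinearMap.congr_fun hgh x, sub_self]
    refine ⟨j, hij₂.trans hj, fun x hx => ?_⟩
    have h2 := hd2 x
    rw [LinearMap.sub_apply, LinearMap.comp_apply, LinearMap.comp_apply, hg0 x hx, map_zero, map_zero,
      sub_zero] at h2
    rw [← DirectedSystem.map_map (f := fun i j h => f i j h) hij₂ hj x]
    exact h2
  choose J hJ hJ0 using hker
  obtain ⟨s, hs, hspan⟩ := hc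
  obtain ⟨m, hm⟩ := (hs.insert 0).exists_eq_range (Set.insert_nonempty _ _)
  choose I0 X0 hX0 using fun k => Module.DirectLimit.exists_of (m k)
  choose U hU1 hU2 using fun (a b : ι) => directed_of (· ≤ ·) a b
  let c : ℕ → ι := fun n => Nat.rec (I0 0) (fun k prev => U (U (J prev) (I0 k)) prev) n
  have hmono : Monotone c := monotone_nat_of_le_succ fun k => hU2 _ _
  have hdir : DirectedOn (· ≤ ·) (Set.range c) := by
    rintro _ ⟨a, rfl⟩ _ ⟨b, rfl⟩
    exact ⟨c (max a b), ⟨_, rfl⟩, hmono (le_max_left a b), hmono (le_max_right a b)⟩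
  haveI : IsDirectedOrder (Set.range c) := ⟨directedOn_iff_directed.mp hdir⟩
  haveI : Nonempty (Set.range c) := ⟨⟨c 0, 0, rfl⟩⟩
  refine ⟨Set.range c, Set.countable_range c, hdir, ?_, ?_⟩
  · rw [injective_iff_map_eq_zero]
    intro z hz
    obtain ⟨⟨_, k, rfl⟩, x, rfl⟩ := Module.DirectLimit.exists_of z
    rw [Module.DirectLimit.lift_of] at hz
    have h1 : J (c k) ≤ c (k + 1) := (hU1 _ _).trans (hU1 _ _)
    have h2 : f (c k) (c (k + 1)) ((hJ _).trans h1) x = 0 := by
      rw [← DirectedSystem.map_map (f := fun i j h => f i j h) (hJ (c k)) h1 x, hJ0 (c k) x hz, map_zero]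
    rw [← Module.DirectLimit.of_f (i := (⟨c k, k, rfl⟩ : Set.range c))
      (j := (⟨c (k + 1), k + 1, rfl⟩ : Set.range c)) (hij := hmono (Nat.le_succ k))]
    exact (congrArg (Module.DirectLimit.of R (Set.range c) (fun i => G i.1) (fun i j h => f i.1 j.1 h)
      ⟨c (k + 1), k + 1, rfl⟩) h2).trans (map_zero _)
  · rw [← LinearMap.range_eq_top, ← top_le_iff, ← hspan, Submodule.span_le]
    intro y hy
    obtain ⟨k, hk⟩ : y ∈ Set.range m := hm ▸ Set.mem_insert_of_mem _ hy
    have h1 : I0 k ≤ c (k + 1) := (hU2 _ _).trans (hU1 _ _)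
    refine ⟨Module.DirectLimit.of R _ _ _ ⟨c (k + 1), k + 1, rfl⟩ (f (I0 k) (c (k + 1)) h1 (X0 k)), ?_⟩
    rw [Module.DirectLimit.lift_of]
    show φ (c (k + 1)) (f (I0 k) (c (k + 1)) h1 (X0 k)) = y
    rw [hφ, ← hk]
    exact hX0 k

end Groth.Agent.S6392
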