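import Groth.Statements.S6393
import Groth.Agent.FibClv.DiscFib

set_option autoImplicit false
open CategoryTheory
universe v₂ u₂ v u
open FibCat

namespace Groth.Agent.S6393

open Groth.Agent.FibClv.DiscFib


/-- Given `p : S ⥤ C`, saying that p is fibred in groupoids is equivalent to saying that p is a fibred
functor whose fibre category over every object of C is a groupoid. -/
theorem result {C : Type u} [Category.{v} C] {S : Type u₂} [Category.{v₂} S] (p : S ⥤ C) :
    FibCat.IsFibGrpd p ↔ (p.IsFibered ∧ ∀ U : C, IsGroupoid (p.Fiber U)) := by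
  constructor
  · intro h
    refine ⟨Functor.IsFibered.of_exists_isStronglyCartesian fun a R f => ?_, fun U => ⟨fun {x y} u => ?_⟩⟩
    · obtain ⟨b, φ, hφ⟩ := h.exists_lift (x := a) f
      haveI := h.isStronglyCartesian φ
      refine ⟨b, φ, ?_⟩
      obtain rfl := IsHomLift.domain_eq p f φ
      rw [IsHomLift.eq_of_isHomLift p f φ]
      infer_instance
    · haveI : p.IsHomLift (𝟙 U) u.1 := u.2
      haveI := h.isStronglyCartesian u.1
      haveI : IsIso (p.map u.1) := by rw [IsHomLift.fac' p (𝟙 U) u.1]; infer_instance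
      haveI : IsIso u.1 := Functor.IsStronglyCartesian.isIso_of_base_isIso p (p.map u.1) u.1
      refine ⟨⟨inv u.1, inferInstance⟩, ?_, ?_⟩
      · exact Functor.Fiber.hom_ext (IsIso.hom_inv_id u.1)
      · exact Functor.Fiber.hom_ext (IsIso.inv_hom_id u.1)
  · rintro ⟨hp, hg⟩
    haveI := hp
    refine ⟨fun {x V} f => ?_, fun {y x} φ => ?_⟩
    · obtain ⟨b, φ, hφ, -⟩ := exists_strongly p f
      exact ⟨b, φ, hφ⟩
    · obtain ⟨b, ψ, hψ, hs⟩ := exists_strongly p (p.map φ)
      haveI := hψ
      haveI := hs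
      obtain ⟨c, hc⟩ := Functor.IsPreFibered.exists_isCartesian' (p := p) (p.map φ)
      obtain ⟨χ, hχ⟩ := hc
      haveI := hχ
      let τ := Functor.IsCartesian.map p (p.map φ) χ φ
      let t : Quiver.Hom (V := p.Fiber (p.obj y)) (Subtype.mk y rfl)
          (Subtype.mk c (IsHomLift.domain_eq p (p.map φ) χ)) := ⟨τ, inferInstance⟩
      haveI : IsIso t := (hg (p.obj y)).all_isIso t
      haveI : IsIso τ := (Functor.Fiber.fiberInclusion.mapIso (asIso t)).isIso_hom
      haveI : p.IsCartesian (p.map φ) φ := by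
        have h1 : φ = (asIso τ).hom ≫ χ := (Functor.IsCartesian.fac p (p.map φ) χ φ).symm
        haveI : p.IsHomLift (𝟙 (p.obj y)) (asIso τ).hom := t.2
        have h2 := Functor.IsCartesian.of_iso_comp p (p.map φ) χ (asIso τ)
        rwa [← h1] at h2
      infer_instance

end Groth.Agent.S6393
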