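import Groth.Statements.S6408
import Groth.Agent.FibClv.DiscFib

set_option autoImplicit false
open CategoryTheory
universe v u
open FibCat

namespace Groth.Agent.S6408

open Groth.Agent.FibClv.DiscFib

open CategoryTheory in
theorem aux {C : Type u} [Category.{v} C] {𝒴 : BasedCategory.{v, max u v} C} (hu : UniqueLifts 𝒴.p)
    {a b : 𝒴.obj} {U : C} (hb : 𝒴.p.obj b = U) (t : a ⟶ b) [𝒴.p.IsHomLift (𝟙 U) t] :
    ∃ e : a = b, t = eqToHom e := by
  subst hb
  obtain ⟨e, he⟩ := Sigma.mk.inj (sigma_eq hu (f := 𝟙 (𝒴.p.obj b)) t (𝟙 b))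
  subst e
  exact ⟨rfl, eq_of_heq he⟩


/-- Between categories fibred in sets over `C` the only 2-morphisms over `C` are identities. -/
theorem result {C : Type u} [Category.{v} C] {𝒳 𝒴 : BasedCategory.{v, max u v} C} (h𝒳 : FibCat.IsFibSet 𝒳.p) (h𝒴 : FibCat.IsFibSet 𝒴.p) {F G : 𝒳 ⥤ᵇ 𝒴} (α : F ⟶ G) :
    ∃ h : F = G, α = eqToHom h := by
  have hu := uniqueLifts_of_isFibSet h𝒴
  have key : ∀ x : 𝒳.obj, ∃ e : F.obj x = G.obj x, α.toNatTrans.app x = eqToHom e := by
    intro x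
    haveI : 𝒴.p.IsHomLift (𝟙 (𝒳.p.obj x)) (α.toNatTrans.app x) := α.isHomLift' x
    exact aux hu (G.w_obj x) (α.toNatTrans.app x)
  have hFG : F.toFunctor = G.toFunctor := CategoryTheory.Functor.ext (fun x => (key x).choose) (fun x y f => by
    have hn := α.toNatTrans.naturality f
    rw [(key x).choose_spec, (key y).choose_spec] at hn
    rw [← reassoc_of% hn]
    simp)
  obtain ⟨F₀, wF⟩ := F
  obtain ⟨G₀, wG⟩ := G
  obtain rfl : F₀ = G₀ := hFG
  refine ⟨rfl, ?_⟩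
  ext x
  exact (key x).choose_spec

end Groth.Agent.S6408
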