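import Groth.Statements.S6417
import Mathlib

set_option autoImplicit false
open CategoryTheory CategoryTheory.Limits
universe v₁ u₁ v₂ u₂
open FibCat

namespace Groth.Agent.S6417

open CategoryTheory CategoryTheory.Limits Opposite

/-- For `p : 𝒮 ⥤ C`, a strongly cartesian `φ : x ⟶ y`, any `ψ : z ⟶ y`, and a strongly cartesian `a : w
⟶ z` lying over the second projection of `p x ×_{p y} p z`, the object `w` is a fibre product `x ×_y
z`: there is `b : w ⟶ x` over the first projection with `(b, a)` a pullback square. -/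
theorem result {𝒮 : Type u₁} [Category.{v₁} 𝒮] {C : Type u₂} [Category.{v₂} C] (p : 𝒮 ⥤ C) {x y z w : 𝒮} (φ : x ⟶ y) (ψ : z ⟶ y)
    [p.IsStronglyCartesian (p.map φ) φ] [HasPullback (p.map φ) (p.map ψ)] (a : w ⟶ z)
    [p.IsStronglyCartesian (pullback.snd (p.map φ) (p.map ψ)) a] :
    ∃ b : w ⟶ x, p.IsHomLift (pullback.fst (p.map φ) (p.map ψ)) b ∧ IsPullback b a φ ψ := by
  set f := p.map φ
  set g := p.map ψ
  haveI : p.IsHomLift (pullback.fst f g ≫ f) (a ≫ ψ) := by
    rw [pullback.condition]; infer_instance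
  refine ⟨Functor.IsStronglyCartesian.map p f φ (g := pullback.fst f g) rfl (a ≫ ψ), inferInstance, ?_⟩
  set b := Functor.IsStronglyCartesian.map p f φ (g := pullback.fst f g) rfl (a ≫ ψ) with hb
  have hbφ : b ≫ φ = a ≫ ψ := Functor.IsStronglyCartesian.fac p f φ rfl (a ≫ ψ)
  have hw : p.obj w = pullback f g := IsHomLift.domain_eq p (pullback.snd f g) a
  have hlift : ∀ s : PullbackCone φ ψ, p.map s.fst ≫ f = p.map s.snd ≫ g := fun s => by
    rw [← p.map_comp, ← p.map_comp, s.condition]
  have hL : ∀ s : PullbackCone φ ψ, p.map s.snd = pullback.lift (p.map s.fst) (p.map s.snd) (hlift s) ≫ pullback.snd f g :=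
    fun s => (pullback.lift_snd _ _ _).symm
  let l : ∀ s : PullbackCone φ ψ, s.pt ⟶ w := fun s =>
    Functor.IsStronglyCartesian.map p (pullback.snd f g) a (hL s) s.snd
  have hla : ∀ s, l s ≫ a = s.snd := fun s => Functor.IsStronglyCartesian.fac p (pullback.snd f g) a (hL s) s.snd
  have hpb : p.IsHomLift (pullback.fst f g) b := inferInstance
  have hb' : p.map b = eqToHom hw ≫ pullback.fst f g ≫ eqToHom rfl := IsHomLift.fac' p (pullback.fst f g) b
  have ha' : p.map a = eqToHom hw ≫ pullback.snd f g ≫ eqToHom rfl := IsHomLift.fac' p (pullback.snd f g) a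
  refine IsPullback.of_isLimit (c := PullbackCone.mk b a hbφ) (PullbackCone.IsLimit.mk hbφ l (fun s => ?_) hla ?_)
  · haveI : p.IsHomLift (pullback.lift (p.map s.fst) (p.map s.snd) (hlift s) ≫ pullback.fst f g) (l s ≫ b) := inferInstance
    haveI : p.IsHomLift (p.map s.fst) (l s ≫ b) := by
      rw [← pullback.lift_fst (p.map s.fst) (p.map s.snd) (hlift s)]; infer_instance
    exact Functor.IsStronglyCartesian.ext p f φ (p.map s.fst) (by rw [Category.assoc, hbφ, reassoc_of% hla, s.condition])
  · intro s m hm1 hm2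
    haveI : p.IsHomLift (pullback.lift (p.map s.fst) (p.map s.snd) (hlift s)) m := by
      refine IsHomLift.of_fac' p _ m rfl hw ?_
      rw [eqToHom_refl, Category.id_comp, ← cancel_mono (eqToHom hw), Category.assoc, eqToHom_trans, eqToHom_refl,
        Category.comp_id]
      apply pullback.hom_ext
      · rw [pullback.lift_fst, ← hm1, p.map_comp, hb', eqToHom_refl, Category.comp_id, Category.assoc]
      · rw [pullback.lift_snd, ← hm2, p.map_comp, ha', eqToHom_refl, Category.comp_id, Category.assoc]
    exact Functor.IsStronglyCartesian.ext p (pullback.snd f g) a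
      (pullback.lift (p.map s.fst) (p.map s.snd) (hlift s)) (hm2.trans (hla s).symm)

end Groth.Agent.S6417
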