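import Groth.Statements.S6419
import Groth.Agent.FibClv.DiscFib

set_option autoImplicit false
open CategoryTheory
universe v₁ u₁ v₂ u₂
open FibCat

namespace Groth.Agent.S6419

open Groth.Agent.FibClv.DiscFib
open Groth.Agent.FibClv.DiscFib CategoryTheory in
theorem overForget {C : Type u₂} [Category.{v₂} C] (U : C) : UniqueLifts (Over.forget U) := by
  intro η R f
  let h : Over.mk (f ≫ η.hom) ⟶ η := Over.homMk f
  refine ⟨⟨_, h⟩, IsHomLift.map (Over.forget U) h, ?_⟩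
  rintro ⟨ξ, ψ⟩ (hψ : (Over.forget U).IsHomLift f ψ)
  obtain rfl := IsHomLift.domain_eq (Over.forget U) f ψ
  obtain rfl := IsHomLift.eq_of_isHomLift (Over.forget U) f ψ
  have aux : ∀ (hom' : ξ.left ⟶ U) (h' : hom' = ξ.hom),
      (⟨ξ, ψ⟩ : Σ ξ : Over U, (ξ ⟶ η)) = ⟨Over.mk hom', Over.homMk ψ.left (by rw [h']; exact Over.w ψ)⟩ := by
    rintro _ rfl
    rfl
  exact aux _ (Over.w ψ)


/-- If `p' : 𝒮 ⥤ C/U` composed with the forgetful functor `C/U ⥤ C` is fibred in groupoids, then so is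
`p'`. -/
theorem result {𝒮 : Type u₁} [Category.{v₁} 𝒮] {C : Type u₂} [Category.{v₂} C] {U : C} (p' : 𝒮 ⥤ Over U) (h : FibCat.IsFibGrpd (p' ⋙ Over.forget U)) : FibCat.IsFibGrpd p' := by
  refine ⟨fun {a R} f => ?_, fun φ => ?_⟩
  · obtain ⟨b, φ, hφ⟩ := h.exists_lift (x := a) ((Over.forget U).map f)
    haveI := hφ
    exact ⟨b, φ, homLift_descend (overForget U) p' f φ⟩
  · haveI := h.isStronglyCartesian φ
    exact strongly_descend (overForget U) p' φ

end Groth.Agent.S6419
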