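import Groth.Statements.S6423
import Mathlib

set_option autoImplicit false
open CategoryTheory CategoryTheory.Limits
universe v u
open CatLim

namespace Groth.Agent.S6423

open CategoryTheory CategoryTheory.Limits

/-- (2) ⇒ (1): a category with equalizers and fibre products has all finite connected limits. -/
theorem result {C : Type u} [Category.{v} C] [HasEqualizers C] [HasPullbacks C]
    (J : Type) [SmallCategory J] [FinCategory J] [IsConnected J] : HasLimitsOfShape J C := by
  classical
  refine ⟨fun F => ?_⟩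
  let Arr := Σ' (i j : J), i ⟶ j
  let Rep : Finset J → Set Arr → Prop := fun S A =>
    (∀ a ∈ A, a.1 ∈ S ∧ a.2.1 ∈ S) ∧
    ∃ (L : C) (p : ∀ j, j ∈ S → (L ⟶ F.obj j)),
      (∀ a ∈ A, ∀ (h : a.1 ∈ S) (h' : a.2.1 ∈ S), p _ h ≫ F.map a.2.2 = p _ h') ∧
      ∀ (T : C) (q : ∀ j, j ∈ S → (T ⟶ F.obj j)),
        (∀ a ∈ A, ∀ (h : a.1 ∈ S) (h' : a.2.1 ∈ S), q _ h ≫ F.map a.2.2 = q _ h') →
        ∃! u : T ⟶ L, ∀ j h, u ≫ p j h = q j h
  let j₀ : J := Classical.arbitrary J
  have h0 : Rep {j₀} ∅ := by
    refine ⟨by simp, F.obj j₀, fun j h => eqToHom (by rw [Finset.mem_singleton.mp h]), by simp,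
      fun T q _ => ⟨q j₀ (Finset.mem_singleton_self _), fun j h => ?_, fun u hu => ?_⟩⟩
    · obtain rfl := Finset.mem_singleton.mp h
      simp
    · simpa using hu j₀ (Finset.mem_singleton_self _)
  obtain ⟨S, ⟨A, hA⟩, hmax⟩ := Set.Finite.exists_maximal
    (Set.toFinite {S : Finset J | ∃ A, Rep S A}) ⟨{j₀}, ∅, h0⟩
  obtain ⟨hAS, L, p, hp, huniv⟩ := hA
  have hfwd : ∀ {i j : J} (f : i ⟶ j), i ∈ S → j ∈ S := by
    intro i j f hi
    by_contra hj
    refine hj ((hmax (y := insert j S) ⟨insert ⟨i, j, f⟩ A, ?_⟩ (Finset.subset_insert j S)) (Finset.mem_insert_self j S))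
    have hne : ∀ {k : J}, k ∈ S → k ≠ j := fun hk e => hj (e ▸ hk)
    have hmem : ∀ {k : J}, k ∈ insert j S → k ≠ j → k ∈ S := fun hk h => (Finset.mem_insert.mp hk).resolve_left h
    refine ⟨?_, L, fun k hk => if h : k = j then p i hi ≫ F.map f ≫ eqToHom (by rw [h]) else p k (hmem hk h), ?_, ?_⟩
    · rintro a (rfl | ha)
      · exact ⟨Finset.mem_insert_of_mem hi, Finset.mem_insert_self _ _⟩
      · exact ⟨Finset.mem_insert_of_mem (hAS a ha).1, Finset.mem_insert_of_mem (hAS a ha).2⟩
    · rintro a (rfl | ha) h h'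
      · simp [hne hi]
      · simp only [hne (hAS a ha).1, hne (hAS a ha).2, dite_false]
        exact hp a ha _ _
    · intro T q hq
      obtain ⟨u, hu, hu'⟩ := huniv T (fun k hk => q k (Finset.mem_insert_of_mem hk))
        (fun a ha h h' => hq a (Set.mem_insert_of_mem _ ha) _ _)
      refine ⟨u, fun k hk => ?_, fun v hv => hu' v fun k hk => ?_⟩
      · dsimp only
        split_ifs with h
        · subst h
          have := hq ⟨i, k, f⟩ (Set.mem_insert _ _) (Finset.mem_insert_of_mem hi) hk
          simp only [eqToHom_refl, Category.comp_id, ← Category.assoc]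
          rw [hu i hi]
          exact this
        · exact hu k _
      · have := hv k (Finset.mem_insert_of_mem hk)
        simpa [hne hk] using this
  have hbwd : ∀ {i j : J} (f : i ⟶ j), j ∈ S → i ∈ S := by
    intro i j f hj
    by_contra hi
    refine hi ((hmax (y := insert i S) ⟨insert ⟨i, j, f⟩ A, ?_⟩ (Finset.subset_insert i S)) (Finset.mem_insert_self i S))
    have hne : ∀ {k : J}, k ∈ S → k ≠ i := fun hk e => hi (e ▸ hk)
    have hmem : ∀ {k : J}, k ∈ insert i S → k ≠ i → k ∈ S := fun hk h => (Finset.mem_insert.mp hk).resolve_left h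
    refine ⟨?_, pullback (p j hj) (F.map f), fun k hk => if h : k = i then pullback.snd _ _ ≫ eqToHom (by rw [h])
      else pullback.fst _ _ ≫ p k (hmem hk h), ?_, ?_⟩
    · rintro a (rfl | ha)
      · exact ⟨Finset.mem_insert_self _ _, Finset.mem_insert_of_mem hj⟩
      · exact ⟨Finset.mem_insert_of_mem (hAS a ha).1, Finset.mem_insert_of_mem (hAS a ha).2⟩
    · rintro a (rfl | ha) h h'
      · simp [hne hj, ← pullback.condition]
      · simp only [hne (hAS a ha).1, hne (hAS a ha).2, dite_false, Category.assoc]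
        rw [hp a ha _ _]
    · intro T q hq
      obtain ⟨u, hu, hu'⟩ := huniv T (fun k hk => q k (Finset.mem_insert_of_mem hk))
        (fun a ha h h' => hq a (Set.mem_insert_of_mem _ ha) _ _)
      have hw : u ≫ p j hj = q i (Finset.mem_insert_self _ _) ≫ F.map f := by
        rw [hu j hj]; exact (hq ⟨i, j, f⟩ (Set.mem_insert _ _) (Finset.mem_insert_self _ _) _).symm
      refine ⟨pullback.lift u (q i (Finset.mem_insert_self _ _)) hw, fun k hk => ?_, fun v hv => ?_⟩
      · dsimp only
        split_ifs with h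
        · subst h; simp only [eqToHom_refl, Category.comp_id]; exact pullback.lift_snd _ _ _
        · rw [← Category.assoc, show pullback.lift u (q i (Finset.mem_insert_self _ _)) hw ≫ pullback.fst _ _ = u from pullback.lift_fst _ _ _]; exact hu k _
      · apply pullback.hom_ext
        · rw [pullback.lift_fst]
          refine hu' _ fun k hk => ?_
          have := hv k (Finset.mem_insert_of_mem hk)
          simpa [hne hk] using this
        · rw [pullback.lift_snd]
          simpa using hv i (Finset.mem_insert_self _ _)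
  have hall : ∀ j, j ∈ S := by
    obtain ⟨k, hk⟩ : S.Nonempty := by
      by_contra hS
      rw [Finset.not_nonempty_iff_eq_empty] at hS
      subst hS
      exact Finset.notMem_empty j₀ ((hmax (y := {j₀}) ⟨∅, h0⟩ (Finset.empty_subset _)) (Finset.mem_singleton_self _))
    exact fun j => induct_on_objects (p := {j | j ∈ S}) hk (fun f => ⟨hfwd f, hbwd f⟩) j
  have hstep : ∀ B : Finset Arr, Rep S (A ∪ ↑B) := by
    intro B
    induction B using Finset.induction_on with
    | empty => rw [Finset.coe_empty, Set.union_empty]; exact ⟨hAS, L, p, hp, huniv⟩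
    | insert a B ha ih =>
      obtain ⟨-, L', p', hp', hu'⟩ := ih
      have h1 := hall a.1
      have h2 := hall a.2.1
      let e := equalizer.ι (p' _ h1 ≫ F.map a.2.2) (p' _ h2)
      rw [Finset.coe_insert, Set.union_insert]
      refine ⟨fun b _ => ⟨hall _, hall _⟩, _, fun k hk => e ≫ p' k hk, ?_, fun T q hq => ?_⟩
      · rintro b (rfl | hb) h h'
        · rw [Category.assoc]; exact equalizer.condition _ _
        · rw [Category.assoc, hp' b hb]
      · obtain ⟨u, hu, huu⟩ := hu' T q fun b hb => hq b (Set.mem_insert_of_mem _ hb)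
        have hw : u ≫ p' _ h1 ≫ F.map a.2.2 = u ≫ p' _ h2 := by
          rw [← Category.assoc, hu, hu]; exact hq a (Set.mem_insert _ _) h1 h2
        refine ⟨equalizer.lift u hw, fun k hk => by simp [e, hu], fun v hv => equalizer.hom_ext ?_⟩
        rw [equalizer.lift_ι]
        exact huu _ fun k hk => by rw [Category.assoc]; exact hv k hk
  haveI : Fintype Arr := Fintype.ofFinite _
  obtain ⟨-, L', p', hp', hu'⟩ := hstep Finset.univ
  have hnat : ∀ {i j : J} (f : i ⟶ j), p' i (hall i) ≫ F.map f = p' j (hall j) := fun {i j} f =>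
    hp' ⟨i, j, f⟩ (Or.inr (Finset.mem_univ _)) _ _
  let c : Cone F := { pt := L', π := { app := fun j => p' j (hall j), naturality := fun i j f => by simp [hnat] } }
  have huq : ∀ s : Cone F, ∃! u : s.pt ⟶ L', ∀ j h, u ≫ p' j h = s.π.app j := fun s =>
    hu' s.pt (fun j _ => s.π.app j) fun a _ _ _ => s.w a.2.2
  choose u hu huu using huq
  exact ⟨⟨c, { lift := u, fac := fun s j => hu s j _, uniq := fun s m hm => huu s m fun j _ => hm j }⟩⟩

end Groth.Agent.S6423
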