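import Groth.Statements.S6424
import Mathlib

set_option autoImplicit false
open CategoryTheory CategoryTheory.Limits
universe v u
open CatLim

namespace Groth.Agent.S6424

open CategoryTheory CategoryTheory.Limits

/-- (2) ⇒ (1): a category with products of pairs and equalizers has all finite nonempty limits. -/
theorem result {C : Type u} [Category.{v} C] [HasBinaryProducts C] [HasEqualizers C]
    (J : Type) [SmallCategory J] [FinCategory J] [Nonempty J] : HasLimitsOfShape J C := by
  have hfin : ∀ (n : ℕ) (f : Fin (n + 1) → C), HasProduct f := by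
    intro n
    induction n with
    | zero =>
      intro f
      haveI : Subsingleton (Fin (0 + 1)) := inferInstanceAs (Subsingleton (Fin 1))
      exact HasLimit.mk ⟨Fan.mk (f 0) fun i => eqToHom (congrArg f (Subsingleton.elim 0 i)),
        mkFanLimit _ (fun s => s.proj 0) (fun s j => by
          obtain rfl := Subsingleton.elim j 0; simp) (fun s m h => by simpa using h 0)⟩
    | succ n ih =>
      intro f
      haveI := ih (fun i => f i.succ)
      exact HasLimit.mk ⟨_, extendFanIsLimit f (limit.isLimit (Discrete.functor fun i : Fin (n + 1) => f i.succ))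
        (limit.isLimit (pair (f 0) _))⟩
  have hT : ∀ (T : Type) [Finite T] [Nonempty T], HasLimitsOfShape (Discrete T) C := by
    intro T _ _
    obtain ⟨m, ⟨e⟩⟩ := Finite.exists_equiv_fin T
    cases m with
    | zero => exact (IsEmpty.false (e (Classical.arbitrary T))).elim
    | succ n =>
      haveI : HasLimitsOfShape (Discrete (Fin (n + 1))) C := ⟨fun F => by
        haveI := hfin n (fun i => F.obj ⟨i⟩)
        exact hasLimit_of_iso Discrete.natIsoFunctor.symm⟩
      exact hasLimitsOfShape_of_equivalence (Discrete.equivalence e.symm)
  haveI := hT J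
  haveI : Nonempty (Σ p : J × J, p.1 ⟶ p.2) := ⟨⟨(Classical.arbitrary J, Classical.arbitrary J), 𝟙 _⟩⟩
  haveI := hT (Σ p : J × J, p.1 ⟶ p.2)
  exact ⟨fun F => hasLimit_of_equalizer_and_product F⟩

end Groth.Agent.S6424
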