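import Groth.Statements.S6425
import Mathlib

set_option autoImplicit false
open CategoryTheory CategoryTheory.Limits
universe v
open CatLim

namespace Groth.Agent.S6425

open CategoryTheory CategoryTheory.Limits

/-- Over an index category in which any two objects map to a common object, the comparison map `colim (M
× N) → colim M × colim N` for diagrams of sets is surjective. -/
theorem result {I : Type v} [SmallCategory I]
    (hI : ∀ x y : I, ∃ (z : I) (_ : x ⟶ z) (_ : y ⟶ z), True) (M N : I ⥤ Type v) :
    Function.Surjective (prodComparison (colim : (I ⥤ Type v) ⥤ Type v) M N) := by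
  intro p
  let pb := (Types.binaryProductIso ((colim : (I ⥤ Type v) ⥤ Type v).obj M) (colim.obj N))
  obtain ⟨i, x, hx⟩ := Types.jointly_surjective' (F := M) ((pb.hom p).1)
  obtain ⟨j, y, hy⟩ := Types.jointly_surjective' (F := N) ((pb.hom p).2)
  obtain ⟨z, f, g, -⟩ := hI i j
  set w : (M ⨯ N).obj z := inv (prodComparison ((evaluation I (Type v)).obj z) M N)
      ((Types.binaryProductIso (M.obj z) (N.obj z)).inv (M.map f x, N.map g y)) with hw
  refine ⟨colimit.ι (M ⨯ N) z w, ?_⟩
  apply pb.toEquiv.injective
  have h1 : (prod.fst : M ⨯ N ⟶ M).app z w = M.map f x := by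
    have e := prodComparison_fst ((evaluation I (Type v)).obj z) (A := M) (B := N)
    have e' := ConcreteCategory.congr_hom e w
    simp only [evaluation_obj_map] at e'
    erw [← e', ← ConcreteCategory.comp_apply, IsIso.inv_hom_id_assoc]
    exact ConcreteCategory.congr_hom (Types.binaryProductIso_inv_comp_fst (M.obj z) (N.obj z)) _
  have h2 : (prod.snd : M ⨯ N ⟶ N).app z w = N.map g y := by
    have e := prodComparison_snd ((evaluation I (Type v)).obj z) (A := M) (B := N)
    have e' := ConcreteCategory.congr_hom e w
    simp only [evaluation_obj_map] at e'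
    erw [← e', ← ConcreteCategory.comp_apply, IsIso.inv_hom_id_assoc]
    exact ConcreteCategory.congr_hom (Types.binaryProductIso_inv_comp_snd (M.obj z) (N.obj z)) _
  refine Prod.ext ?_ ?_
  · show (pb.hom (prodComparison colim M N (colimit.ι (M ⨯ N) z w))).1 = (pb.hom p).1
    refine Eq.trans ?_ hx
    show (ConcreteCategory.hom (pb.hom ≫ TypeCat.ofHom Prod.fst)) _ = _
    erw [Types.binaryProductIso_hom_comp_fst]
    erw [ConcreteCategory.congr_hom (prodComparison_fst (colim : (I ⥤ Type v) ⥤ Type v) M N)]
    erw [ConcreteCategory.congr_hom (ι_colimMap (prod.fst : M ⨯ N ⟶ M) z) w]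
    rw [ConcreteCategory.comp_apply, h1]
    exact Types.Colimit.w_apply (F := M) (x := x) f
  · show (pb.hom (prodComparison colim M N (colimit.ι (M ⨯ N) z w))).2 = (pb.hom p).2
    refine Eq.trans ?_ hy
    show (ConcreteCategory.hom (pb.hom ≫ TypeCat.ofHom Prod.snd)) _ = _
    erw [Types.binaryProductIso_hom_comp_snd]
    erw [ConcreteCategory.congr_hom (prodComparison_snd (colim : (I ⥤ Type v) ⥤ Type v) M N)]
    erw [ConcreteCategory.congr_hom (ι_colimMap (prod.snd : M ⨯ N ⟶ N) z) w]
    rw [ConcreteCategory.comp_apply, h2]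
    exact Types.Colimit.w_apply (F := N) (x := y) g

end Groth.Agent.S6425
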