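import Groth.Statements.S6426
import Mathlib

set_option autoImplicit false
open CategoryTheory CategoryTheory.Limits
universe v
open CatLim

namespace Groth.Agent.S6426

open CategoryTheory CategoryTheory.Limits

/-- Over a nonempty index category in which any two objects map to a common object, the set-theoretic
colimit of a diagram of abelian groups surjects onto its colimit in abelian groups. (The published
statement does not require the index category to be nonempty; this row assumes it, because for the
empty index category the colimit of sets is empty while the colimit of abelian groups is the zero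
group.) -/
theorem result {I : Type v} [SmallCategory I] [Nonempty I]
    (hI : ∀ x y : I, ∃ (z : I) (_ : x ⟶ z) (_ : y ⟶ z), True) (M : I ⥤ AddCommGrpCat.{v}) :
    Function.Surjective (colimit.post M (forget AddCommGrpCat.{v})) := by
  let p := colimit.post M (forget AddCommGrpCat.{v})
  have hι : ∀ (i : I) (x : M.obj i), (colimit.ι M i).hom x ∈ Set.range p := fun i x =>
    ⟨colimit.ι (M ⋙ forget AddCommGrpCat.{v}) i x,
      ConcreteCategory.congr_hom (colimit.ι_post M (forget AddCommGrpCat.{v}) i) x⟩
  have hrep : ∀ z : Set.range p, ∃ (i : I) (x : M.obj i), (colimit.ι M i).hom x = z.1 := by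
    rintro ⟨_, w, rfl⟩
    obtain ⟨i, x, rfl⟩ := Types.jointly_surjective' w
    exact ⟨i, x, (ConcreteCategory.congr_hom (colimit.ι_post M (forget AddCommGrpCat.{v}) i) x).symm⟩
  let S : AddSubgroup (colimit M : AddCommGrpCat.{v}) :=
    { carrier := Set.range p
      zero_mem' := by simpa using hι (Classical.arbitrary I) 0
      add_mem' := fun {a b} ha hb => by
        obtain ⟨i, x, rfl⟩ := hrep ⟨a, ha⟩
        obtain ⟨j, y, rfl⟩ := hrep ⟨b, hb⟩
        obtain ⟨z, f, g, -⟩ := hI i j
        have h := hι z ((M.map f).hom x + (M.map g).hom y)
        rw [map_add] at h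
        erw [ConcreteCategory.congr_hom (colimit.w M f), ConcreteCategory.congr_hom (colimit.w M g)] at h
        exact h
      neg_mem' := fun {a} ha => by
        obtain ⟨i, x, rfl⟩ := hrep ⟨a, ha⟩
        simpa using hι i (-x) }
  have hq : AddCommGrpCat.ofHom (QuotientAddGroup.mk' S) = 0 := colimit.hom_ext fun i => by
    ext x
    exact (QuotientAddGroup.eq_zero_iff _).mpr (hι i x)
  intro z
  exact (QuotientAddGroup.eq_zero_iff z).mp (ConcreteCategory.congr_hom hq z)

end Groth.Agent.S6426
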