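import Groth.Statements.S6427
import Mathlib

set_option autoImplicit false
open CategoryTheory CategoryTheory.Limits
universe v
open CatLim

namespace Groth.Agent.S6427

open CategoryTheory CategoryTheory.Limits

/-- Over an index category in which every pair of morphisms with common source can be completed to a
commutative square, colimits of sets preserve injective morphisms of diagrams. -/
theorem result {I : Type v} [SmallCategory I]
    (hI : ∀ ⦃x y z : I⦄ (f : x ⟶ y) (g : x ⟶ z), ∃ (w : I) (f' : y ⟶ w) (g' : z ⟶ w), f ≫ f' = g ≫ g')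
    {M N : I ⥤ Type v} (φ : M ⟶ N) (hφ : ∀ i, Function.Injective (φ.app i)) :
    Function.Injective (colimMap φ) := by
  intro a b hab
  obtain ⟨i, x, rfl⟩ := Types.jointly_surjective' a
  obtain ⟨j, y, rfl⟩ := Types.jointly_surjective' b
  have key : ∀ p q : (Σ k, N.obj k), Relation.EqvGen N.ColimitTypeRel p q →
      ∃ (k : I) (f : p.1 ⟶ k) (g : q.1 ⟶ k), N.map f p.2 = N.map g q.2 := by
    intro p q h
    induction h with
    | rel p q h =>
      obtain ⟨f, hf⟩ := h
      exact ⟨q.1, f, 𝟙 _, by simp [hf]⟩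
    | refl p => exact ⟨p.1, 𝟙 _, 𝟙 _, rfl⟩
    | symm p q _ ih => obtain ⟨k, f, g, h⟩ := ih; exact ⟨k, g, f, h.symm⟩
    | trans p q r _ _ ih ih' =>
      obtain ⟨k, f, g, h⟩ := ih
      obtain ⟨k', f', g', h'⟩ := ih'
      obtain ⟨w, a, b, hw⟩ := hI g f'
      refine ⟨w, f ≫ a, g' ≫ b, ?_⟩
      rw [FunctorToTypes.map_comp_apply, FunctorToTypes.map_comp_apply, h, ← h',
        ← FunctorToTypes.map_comp_apply, ← FunctorToTypes.map_comp_apply, hw]
  erw [← ConcreteCategory.comp_apply, ← ConcreteCategory.comp_apply, ι_colimMap, ι_colimMap] at hab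
  obtain ⟨k, f, g, h⟩ := key ⟨i, φ.app i x⟩ ⟨j, φ.app j y⟩ (Types.colimit_eq hab)
  have h' : M.map f x = M.map g y := hφ k (by
    rw [NatTrans.naturality_apply, NatTrans.naturality_apply]; exact h)
  rw [← Types.Colimit.w_apply (F := M) (x := x) f, h', Types.Colimit.w_apply (F := M) (x := y) g]

end Groth.Agent.S6427
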