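import Groth.Statements.S6428
import Mathlib

set_option autoImplicit false
open CategoryTheory CategoryTheory.Limits
universe v₁ u₁ v₂ u₂ v₃ u₃
open CatLim

namespace Groth.Agent.S6428

/-- If `F : I ⥤ I'` has connected fibre categories and is surjective on morphisms, then for every
diagram `M : I' ⥤ C` the colimit of `F ⋙ M` exists if and only if that of `M` does, and the
canonical comparison between them is then an isomorphism. -/
theorem result {I : Type u₁} [Category.{v₁} I] {I' : Type u₂} [Category.{v₂} I'] {C : Type u₃} [Category.{v₃} C] (F : I ⥤ I')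
    (h1 : ∀ x' : I', IsConnected (F.Fiber x'))
    (h2 : ∀ ⦃x' y' : I'⦄ (α' : x' ⟶ y'), ∃ (x y : I) (hx : F.obj x = x') (hy : F.obj y = y') (α : x ⟶ y), F.map α = eqToHom hx ≫ α' ≫ eqToHom hy.symm)
    (M : I' ⥤ C) :
    (HasColimit (F ⋙ M) ↔ HasColimit M) ∧ ∀ [HasColimit (F ⋙ M)] [HasColimit M], IsIso (colimit.pre M F) := by
  haveI : F.Final := by
    refine ⟨fun d => ?_⟩
    obtain ⟨x₀⟩ := (h1 d).is_nonempty
    let P₀ : StructuredArrow d F := StructuredArrow.mk (Y := x₀.1) (eqToHom x₀.2.symm)
    haveI : Nonempty (StructuredArrow d F) := ⟨P₀⟩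
    have fib : ∀ {x' : I'} (a b : F.Fiber x') (α : d ⟶ x'),
        Zigzag (StructuredArrow.mk (Y := a.1) (α ≫ eqToHom a.2.symm) : StructuredArrow d F)
          (StructuredArrow.mk (Y := b.1) (α ≫ eqToHom b.2.symm)) := by
      intro x' a b α
      haveI := h1 x'
      let G : F.Fiber x' ⥤ StructuredArrow d F :=
        { obj := fun z => StructuredArrow.mk (Y := z.1) (α ≫ eqToHom z.2.symm)
          map := fun {z w} f => StructuredArrow.homMk f.1 (by
            haveI := f.2
            have h := IsHomLift.fac F (𝟙 x') f.1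
            simp only [StructuredArrow.mk_hom_eq_self]
            rw [Category.assoc]
            congr 1
            rw [IsHomLift.fac' F (𝟙 x') f.1]
            simp) }
      exact zigzag_obj_of_zigzag G (isPreconnected_zigzag a b)
    refine zigzag_isConnected fun P Q => ?_
    have key : ∀ R : StructuredArrow d F, Zigzag R P₀ := by
      intro R
      obtain ⟨x, y, hx, hy, a, ha⟩ := h2 R.hom
      have e1 : Zigzag R (StructuredArrow.mk (Y := y) (R.hom ≫ eqToHom hy.symm)) := by
        have := fib (x' := F.obj R.right) ⟨R.right, rfl⟩ ⟨y, hy⟩ R.hom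
        simpa [StructuredArrow.eq_mk R |>.symm] using this
      have e2 : Zigzag (StructuredArrow.mk (Y := y) (R.hom ≫ eqToHom hy.symm) : StructuredArrow d F)
          (StructuredArrow.mk (Y := x) (eqToHom hx.symm)) :=
        Relation.ReflTransGen.single (Or.inr ⟨StructuredArrow.homMk a (by simp [ha])⟩)
      have e3 := fib (x' := d) ⟨x, hx⟩ x₀ (𝟙 d)
      simp only [Category.id_comp] at e3
      exact (e1.trans e2).trans e3
    exact (key P).trans (key Q).symm
  refine ⟨⟨fun h => Functor.Final.hasColimit_of_comp F, fun h => inferInstance⟩, fun {_ _} => inferInstance⟩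

end Groth.Agent.S6428
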