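import Groth.Statements.S6429
import Mathlib.CategoryTheory.Monoidal.Category
import Mathlib.CategoryTheory.Equivalence

set_option autoImplicit false
open CategoryTheory CategoryTheory.MonoidalCategory
universe v u
open MonCat

namespace Groth.Agent.S6429

/-- An object `X` of a monoidal category is invertible (some `X'` has `X ⊗ X' ≅ 𝟙` and `X' ⊗ X ≅ 𝟙`) if
and only if tensoring on the left by `X` is an equivalence, if and only if tensoring on the right by
`X` is an equivalence. -/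
theorem result {C : Type u} [Category.{v} C] [MonoidalCategory C] (X : C) :
    ((tensorLeft X).IsEquivalence ↔ ∃ X' : C, Nonempty (X ⊗ X' ≅ 𝟙_ C) ∧ Nonempty (X' ⊗ X ≅ 𝟙_ C)) ∧
      ((tensorRight X).IsEquivalence ↔ ∃ X' : C, Nonempty (X ⊗ X' ≅ 𝟙_ C) ∧ Nonempty (X' ⊗ X ≅ 𝟙_ C)) := by
  constructor
  · constructor
    · intro hE
      let X' := (tensorLeft X).objPreimage (𝟙_ C)
      let i : X ⊗ X' ≅ 𝟙_ C := (tensorLeft X).objObjPreimageIso _
      refine ⟨X', ⟨i⟩, ⟨(tensorLeft X).preimageIso ?_⟩⟩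
      exact (α_ X X' X).symm ≪≫ whiskerRightIso i X ≪≫ λ_ X ≪≫ (ρ_ X).symm
    · rintro ⟨X', ⟨i⟩, ⟨j⟩⟩
      exact Functor.IsEquivalence.mk' (tensorLeft X')
        ((leftUnitorNatIso C).symm ≪≫ (curriedTensor C).mapIso j.symm ≪≫ tensorLeftTensor X' X)
        ((tensorLeftTensor X X').symm ≪≫ (curriedTensor C).mapIso i ≪≫ leftUnitorNatIso C)
  · constructor
    · intro hE
      let X' := (tensorRight X).objPreimage (𝟙_ C)
      let i : X' ⊗ X ≅ 𝟙_ C := (tensorRight X).objObjPreimageIso _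
      refine ⟨X', ⟨(tensorRight X).preimageIso ?_⟩, ⟨i⟩⟩
      exact α_ X X' X ≪≫ whiskerLeftIso X i ≪≫ ρ_ X ≪≫ (λ_ X).symm
    · rintro ⟨X', ⟨i⟩, ⟨j⟩⟩
      exact Functor.IsEquivalence.mk' (tensorRight X')
        ((rightUnitorNatIso C).symm ≪≫ (curriedTensor C).flip.mapIso i.symm ≪≫ tensorRightTensor X X')
        ((tensorRightTensor X' X).symm ≪≫ (curriedTensor C).flip.mapIso j ≪≫ rightUnitorNatIso C)

end Groth.Agent.S6429
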