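import Groth.Statements.S6433
import Mathlib

set_option autoImplicit false
open CategoryTheory
universe v u v' u'
open CatLoc

namespace Groth.Agent.S6433

open CategoryTheory CategoryTheory.Limits

/-- For a left multiplicative system `W` and a localization functor `L`, any finite family of morphisms
`L X_i ⟶ L Y` admits a common denominator: some `s : Y ⟶ Y'` in `W` and morphisms `f_i : X_i ⟶ Y'`
with `g_i = L(s)⁻¹ L(f_i)`. -/
theorem result {C : Type u} [Category.{v} C] {D : Type u'} [Category.{v'} D] (W : MorphismProperty C) (L : C ⥤ D) [L.IsLocalization W] [W.HasLeftCalculusOfFractions]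
    {ι : Type} [Finite ι] (X : ι → C) (Y : C) (g : ∀ i, L.obj (X i) ⟶ L.obj Y) :
    ∃ (Y' : C) (s : Y ⟶ Y') (_ : W s) (f : ∀ i, X i ⟶ Y'), ∀ i, g i ≫ L.map s = L.map (f i) := by
  classical
  haveI : Fintype ι := Fintype.ofFinite ι
  suffices H : ∀ T : Finset ι, ∃ (Y' : C) (s : Y ⟶ Y') (_ : W s),
      ∀ i ∈ T, ∃ f : X i ⟶ Y', g i ≫ L.map s = L.map f by
    obtain ⟨Y', s, hs, h⟩ := H Finset.univ
    choose f hf using fun i => h i (Finset.mem_univ i)
    exact ⟨Y', s, hs, f, hf⟩
  intro T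
  induction T using Finset.induction_on with
  | empty => exact ⟨Y, 𝟙 Y, W.id_mem Y, fun i hi => absurd hi (Finset.notMem_empty i)⟩
  | @insert a T _ ih =>
    obtain ⟨Y', s, hs, h⟩ := ih
    obtain ⟨φ, hφ⟩ := Localization.exists_leftFraction L W (g a ≫ L.map s)
    refine ⟨φ.Y', s ≫ φ.s, W.comp_mem _ _ hs φ.hs, fun i hi => ?_⟩
    rcases Finset.mem_insert.mp hi with rfl | hi
    · exact ⟨φ.f, by rw [L.map_comp, ← Category.assoc, hφ, MorphismProperty.LeftFraction.map_comp_map_s]⟩
    · obtain ⟨f, hf⟩ := h i hi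
      exact ⟨f ≫ φ.s, by rw [L.map_comp, L.map_comp, ← Category.assoc, hf]⟩

end Groth.Agent.S6433
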