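import Groth.Statements.S6436
import Mathlib

set_option autoImplicit false
open CategoryTheory
universe v₁ u₁ v₂ u₂
open CatLim

namespace Groth.Agent.S6436

open CategoryTheory CategoryTheory.Limits

/-- For an adjunction `u ⊣ v`, if `v ∘ u` is fully faithful then so is `u`, and if `u ∘ v` is fully
faithful then so is `v`. -/
theorem result {C : Type u₁} [Category.{v₁} C] {D : Type u₂} [Category.{v₂} D] {u : C ⥤ D} {v : D ⥤ C} (adj : u ⊣ v) :
    ((u ⋙ v).Full → (u ⋙ v).Faithful → u.Full ∧ u.Faithful) ∧ ((v ⋙ u).Full → (v ⋙ u).Faithful → v.Full ∧ v.Faithful) := by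
  refine ⟨fun hf hff => ?_, fun hf hff => ?_⟩
  · haveI : u.Faithful := Functor.Faithful.of_comp u v
    refine ⟨⟨fun {X Y} h => ⟨(u ⋙ v).preimage (v.map h), ?_⟩⟩, inferInstance⟩
    apply (adj.homEquiv X (u.obj Y)).injective
    rw [Adjunction.homEquiv_unit, Adjunction.homEquiv_unit]
    congr 1
    exact (u ⋙ v).map_preimage (v.map h)
  · haveI : v.Faithful := Functor.Faithful.of_comp v u
    refine ⟨⟨fun {X Y} h => ⟨(v ⋙ u).preimage (u.map h), ?_⟩⟩, inferInstance⟩
    apply (adj.homEquiv (v.obj X) Y).symm.injective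
    rw [Adjunction.homEquiv_counit, Adjunction.homEquiv_counit]
    congr 1
    exact (v ⋙ u).map_preimage (u.map h)

end Groth.Agent.S6436
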