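import Groth.Statements.S6437
import Mathlib

set_option autoImplicit false
open CategoryTheory CategoryTheory.Limits
universe v
open CatLim

namespace Groth.Agent.S6437

open CategoryTheory CategoryTheory.Limits

/-- Over an index category in which spans can be completed to commutative squares and parallel pairs can
be coequalized (a disjoint union of filtered categories), colimits of sets commute with finite
connected limits. -/
theorem result {I : Type v} [SmallCategory I]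
    (h1 : ∀ ⦃w x y : I⦄ (a : w ⟶ x) (b : w ⟶ y), ∃ (z : I) (c : x ⟶ z) (d : y ⟶ z), a ≫ c = b ≫ d)
    (h2 : ∀ ⦃x y : I⦄ (a b : x ⟶ y), ∃ (z : I) (c : y ⟶ z), a ≫ c = b ≫ c)
    (J : Type) [SmallCategory J] [FinCategory J] [IsConnected J] :
    PreservesLimitsOfShape J (colim : (I ⥤ Type v) ⥤ Type v) := by
  classical
  refine ⟨fun {G} => preservesLimit_of_preserves_limit_cone (limit.isLimit G) ((Types.isLimit_iff _).mpr ?_).some⟩
  let c := limit.cone G
  have hev : ∀ i, IsLimit (((evaluation I (Type v)).obj i).mapCone c) := fun i =>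
    isLimitOfPreserves _ (limit.isLimit G)
  have hrel : ∀ {H : I ⥤ Type v} {i i' : I} (x : H.obj i) (x' : H.obj i'),
      colimit.ι H i x = colimit.ι H i' x' → ∃ (k : I) (a : i ⟶ k) (b : i' ⟶ k), H.map a x = H.map b x' := by
    intro H i i' x x' h
    let R : (Σ i, H.obj i) → (Σ i, H.obj i) → Prop := fun p q =>
      ∃ (k : I) (a : p.1 ⟶ k) (b : q.1 ⟶ k), H.map a p.2 = H.map b q.2
    have hR : Equivalence R := by
      refine ⟨fun p => ⟨p.1, 𝟙 _, 𝟙 _, rfl⟩, fun ⟨k, a, b, e⟩ => ⟨k, b, a, e.symm⟩, ?_⟩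
      rintro p q r ⟨k, a, b, e⟩ ⟨k', a', b', e'⟩
      obtain ⟨m, s, t, hst⟩ := h1 b a'
      refine ⟨m, a ≫ s, b' ≫ t, ?_⟩
      rw [Functor.map_comp_apply, Functor.map_comp_apply, e, ← e', ← Functor.map_comp_apply,
        ← Functor.map_comp_apply, hst]
    refine hR.eqvGen_iff.mp (Relation.EqvGen.mono ?_ _ _ (Types.colimit_eq h))
    rintro p q ⟨f, hf⟩
    exact ⟨q.1, f, 𝟙 _, by rw [Functor.map_id_apply]; exact hf.symm⟩
  intro σ hσ
  choose i y hy using fun j => Types.jointly_surjective' (σ j)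
  have hcoh : ∀ {j j' : J} (f : j ⟶ j'),
      colimit.ι (G.obj j') (i j) ((G.map f).app (i j) (y j)) = colimit.ι (G.obj j') (i j') (y j') := by
    intro j j' f
    rw [hy j', ← hσ f, ← hy j]
    exact congr($((ι_colimMap (G.map f) (i j)).symm) (y j))
  -- one index for all components
  obtain ⟨k₀, hk₀⟩ : ∃ k₀, ∀ j, Nonempty (i j ⟶ k₀) := by
    let rel : I → I → Prop := fun a b => ∃ k, Nonempty (a ⟶ k) ∧ Nonempty (b ⟶ k)
    have hrel' : Equivalence rel := by
      refine ⟨fun a => ⟨a, ⟨𝟙 _⟩, ⟨𝟙 _⟩⟩, fun ⟨k, a, b⟩ => ⟨k, b, a⟩, ?_⟩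
      rintro a b c ⟨k, ⟨f⟩, ⟨g⟩⟩ ⟨k', ⟨f'⟩, ⟨g'⟩⟩
      obtain ⟨m, s, t, -⟩ := h1 g f'
      exact ⟨m, ⟨f ≫ s⟩, ⟨g' ≫ t⟩⟩
    let j₀ : J := Classical.arbitrary J
    have hconn : ∀ j, rel (i j₀) (i j) := fun j =>
      induct_on_objects (p := {j | rel (i j₀) (i j)}) (hrel'.refl _) (fun {a b} f => by
        obtain ⟨k, s, t, -⟩ := hrel _ _ (hcoh f)
        exact ⟨fun h => hrel'.trans h ⟨k, ⟨s⟩, ⟨t⟩⟩, fun h => hrel'.trans h (hrel'.symm ⟨k, ⟨s⟩, ⟨t⟩⟩)⟩) j
    have : ∀ S : Finset J, ∃ k₀, Nonempty (i j₀ ⟶ k₀) ∧ ∀ j ∈ S, Nonempty (i j ⟶ k₀) := by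
      intro S
      induction S using Finset.induction_on with
      | empty => exact ⟨i j₀, ⟨𝟙 _⟩, by simp⟩
      | insert j S _ ih =>
        obtain ⟨k, ⟨f⟩, hS⟩ := ih
        obtain ⟨k', ⟨f'⟩, ⟨g'⟩⟩ := hconn j
        obtain ⟨m, s, t, -⟩ := h1 f f'
        refine ⟨m, ⟨f ≫ s⟩, fun a ha => ?_⟩
        obtain rfl | ha := Finset.mem_insert.mp ha
        · exact ⟨g' ≫ t⟩
        · exact ⟨(hS a ha).some ≫ s⟩
    obtain ⟨k₀, -, h⟩ := this Finset.univ
    exact ⟨k₀, fun j => h j (Finset.mem_univ j)⟩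
  let g := fun j => (hk₀ j).some
  let Arr := Σ' (j j' : J), j ⟶ j'
  haveI : Fintype Arr := Fintype.ofFinite _
  obtain ⟨k, e, he⟩ : ∃ (k : I) (e : k₀ ⟶ k), ∀ a : Arr, (G.map a.2.2).app k ((G.obj a.1).map (g a.1 ≫ e) (y a.1)) =
      (G.obj a.2.1).map (g a.2.1 ≫ e) (y a.2.1) := by
    suffices ∀ S : Finset Arr, ∃ (k : I) (e : k₀ ⟶ k), ∀ a ∈ S, (G.map a.2.2).app k ((G.obj a.1).map (g a.1 ≫ e) (y a.1)) =
        (G.obj a.2.1).map (g a.2.1 ≫ e) (y a.2.1) by
      obtain ⟨k, e, h⟩ := this Finset.univ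
      exact ⟨k, e, fun a => h a (Finset.mem_univ a)⟩
    intro S
    induction S using Finset.induction_on with
    | empty => exact ⟨k₀, 𝟙 _, by simp⟩
    | insert a S _ ih =>
      obtain ⟨k, e, hS⟩ := ih
      obtain ⟨j, j', f⟩ := a
      have h2' : colimit.ι (G.obj j') k ((G.map f).app k ((G.obj j).map (g j ≫ e) (y j))) =
          colimit.ι (G.obj j') k ((G.obj j').map (g j' ≫ e) (y j')) := by
        rw [NatTrans.naturality_apply, Types.Colimit.w_apply, Types.Colimit.w_apply, hcoh f]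
      obtain ⟨m, s, t, hst⟩ := hrel _ _ h2'
      obtain ⟨n, u, hu⟩ := h2 s t
      refine ⟨n, e ≫ s ≫ u, fun b hb => ?_⟩
      obtain rfl | hb := Finset.mem_insert.mp hb
      · dsimp only
        rw [← Category.assoc (g j), Functor.map_comp_apply _ (g j ≫ e), NatTrans.naturality_apply,
          Functor.map_comp_apply _ s u, hst, ← Functor.map_comp_apply, ← hu, ← Functor.map_comp_apply,
          Category.assoc]
      · rw [← Category.assoc (g b.1), ← Category.assoc (g b.2.1), Functor.map_comp_apply _ (g b.1 ≫ e),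
          NatTrans.naturality_apply, hS b hb, ← Functor.map_comp_apply]
  obtain ⟨w, hw, -⟩ := ((Types.isLimit_iff _).mp ⟨hev k⟩) (fun j => (G.obj j).map (g j ≫ e) (y j))
    (fun {j j'} f => he ⟨j, j', f⟩)
  have hπ : ∀ (j : J) (i : I) (z : c.pt.obj i),
      (colim.map (c.π.app j)) (colimit.ι c.pt i z) = colimit.ι (G.obj j) i ((c.π.app j).app i z) := fun j i z =>
    congr($(ι_colimMap (c.π.app j) i) z)
  have hwj : ∀ j, (c.π.app j).app k w = (G.obj j).map (g j ≫ e) (y j) := hw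
  refine ⟨colimit.ι c.pt k w, fun j => ?_, fun x hx => ?_⟩
  · refine (hπ j k w).trans ?_
    rw [hwj, Types.Colimit.w_apply, hy]
  · obtain ⟨i', w', rfl⟩ := Types.jointly_surjective' x
    have hr : ∀ j, ∃ (m : I) (a : i' ⟶ m) (b : k ⟶ m),
        (G.obj j).map a ((c.π.app j).app i' w') = (G.obj j).map b ((c.π.app j).app k w) := fun j => hrel _ _ (by
      rw [hwj, Types.Colimit.w_apply, hy]
      exact (hπ j i' w').symm.trans (hx j))
    obtain ⟨m, a, b, hab⟩ : ∃ (m : I) (a : i' ⟶ m) (b : k ⟶ m), ∀ j,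
        (G.obj j).map a ((c.π.app j).app i' w') = (G.obj j).map b ((c.π.app j).app k w) := by
      suffices ∀ S : Finset J, ∃ (m : I) (a : i' ⟶ m) (b : k ⟶ m), ∀ j ∈ S,
          (G.obj j).map a ((c.π.app j).app i' w') = (G.obj j).map b ((c.π.app j).app k w) by
        obtain ⟨m, a, b, h⟩ := this Finset.univ
        exact ⟨m, a, b, fun j => h j (Finset.mem_univ j)⟩
      intro S
      induction S using Finset.induction_on with
      | empty =>
        obtain ⟨m, a, b, -⟩ := hr (Classical.arbitrary J)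
        exact ⟨m, a, b, by simp⟩
      | insert j S _ ih =>
        obtain ⟨m, a, b, hS⟩ := ih
        obtain ⟨m', a', b', hj⟩ := hr j
        obtain ⟨p, s, t, hst⟩ := h1 a a'
        obtain ⟨q, u, hu⟩ := h2 (b ≫ s) (b' ≫ t)
        refine ⟨q, a ≫ s ≫ u, b ≫ s ≫ u, fun l hl => ?_⟩
        obtain rfl | hl := Finset.mem_insert.mp hl
        · calc _ = (G.obj l).map (a' ≫ t ≫ u) ((c.π.app l).app i' w') := by rw [← Category.assoc a, hst, Category.assoc]
            _ = (G.obj l).map (b' ≫ t ≫ u) ((c.π.app l).app k w) := by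
              rw [Functor.map_comp_apply, hj, ← Functor.map_comp_apply]
            _ = _ := by rw [← Category.assoc b', ← hu, Category.assoc]
        · rw [Functor.map_comp_apply, hS l hl, ← Functor.map_comp_apply]
    have heq : c.pt.map a w' = c.pt.map b w := Concrete.isLimit_ext _ (hev m) _ _ fun j => by
      show (c.π.app j).app m (c.pt.map a w') = (c.π.app j).app m (c.pt.map b w)
      exact (NatTrans.naturality_apply (c.π.app j) a w').trans ((hab j).trans (NatTrans.naturality_apply (c.π.app j) b w).symm)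
    calc colimit.ι c.pt i' w' = colimit.ι c.pt m (c.pt.map a w') := (Types.Colimit.w_apply a).symm
      _ = colimit.ι c.pt m (c.pt.map b w) := by rw [heq]
      _ = colimit.ι c.pt k w := Types.Colimit.w_apply b

end Groth.Agent.S6437
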