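import Groth.Statements.S6438
import Mathlib

set_option autoImplicit false
open CategoryTheory
universe v u
open CatLim

namespace Groth.Agent.S6438

open CategoryTheory CategoryTheory.Limits

/-- subdivision of a finite graph -/
inductive SubdivHom {N M : ℕ} (e : Fin M → Bool → Fin N) : Fin N ⊕ Fin M → Fin N ⊕ Fin M → Type
  | id (p) : SubdivHom e p p
  | edge (m : Fin M) (b : Bool) (j : Fin N) (h : e m b = j) : SubdivHom e (.inr m) (.inl j)

variable {N M : ℕ} (e : Fin M → Bool → Fin N)

noncomputable def subdivComp : ∀ {p q r : Fin N ⊕ Fin M}, SubdivHom e p q → SubdivHom e q r → SubdivHom e p r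
  | _, _, _, .id _, g => g
  | _, _, _, .edge m b j h, .id _ => .edge m b j h

noncomputable abbrev subdivCategory : SmallCategory (Fin N ⊕ Fin M) where
  Hom := SubdivHom e
  id := SubdivHom.id
  comp := subdivComp e
  id_comp _ := rfl
  comp_id f := by cases f <;> rfl
  assoc f g h := by
    cases f with
    | id => rfl
    | edge m b j hj => cases g with
      | id => rfl

def subdivCode {p q : Fin N ⊕ Fin M} : SubdivHom e p q → Option Bool
  | .id _ => none
  | .edge _ b _ _ => some b

theorem subdivCode_injective {p q : Fin N ⊕ Fin M} : Function.Injective (subdivCode e (p := p) (q := q)) := by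
  intro f g h
  cases f with
  | id => cases g with | id => rfl
  | edge m b j hj => cases g with
    | edge m' b' j' hj' =>
      simp [subdivCode] at h
      subst h
      rfl

noncomputable abbrev subdivFin : @FinCategory (Fin N ⊕ Fin M) (subdivCategory e) :=
  letI := subdivCategory e
  { fintypeHom := fun _ _ => @Fintype.ofFinite _ (Finite.of_injective _ (subdivCode_injective e)) }


/-- A category with finitely many objects whose morphisms are generated under composition by finitely
many of them receives a functor from a finite category which is both final and initial, the finite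
category being connected (resp. nonempty) exactly when the given one is. (The published statement
says that limits and colimits of every diagram are computed after restriction along the functor;
this is expressed here through finality and initiality.) -/
theorem result {I : Type u} [Category.{v} I] [Finite I]
    (gen : Finset (Σ x y : I, x ⟶ y))
    (hgen : ∀ P : MorphismProperty I, P.IsMultiplicative → (∀ a ∈ gen, P a.2.2) → P = ⊤) :
    ∃ (J : Type) (_ : SmallCategory J) (_ : FinCategory J) (F : J ⥤ I),
      F.Final ∧ F.Initial ∧ (IsConnected J ↔ IsConnected I) ∧ (Nonempty J ↔ Nonempty I) := by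
  classical
  obtain ⟨N, ⟨eI⟩⟩ := Finite.exists_equiv_fin I
  let M := gen.card
  let a : Fin M → (Σ x y : I, x ⟶ y) := fun m => (gen.equivFin.symm m : Σ x y : I, x ⟶ y)
  let V := Fin N ⊕ Fin M
  let endp : Fin M → Bool → Fin N := fun m b => eI (bif b then (a m).2.1 else (a m).1)
  letI cat : SmallCategory V := subdivCategory endp
  letI fc : FinCategory V := subdivFin endp
  let ob : V → I := fun p => match p with | .inl i => eI.symm i | .inr m => (a m).1
  let mp : ∀ (m : Fin M) (b : Bool), (a m).1 ⟶ eI.symm (endp m b) := fun m b => match b with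
    | false => eqToHom (eI.symm_apply_apply _).symm
    | true => (a m).2.2 ≫ eqToHom (eI.symm_apply_apply _).symm
  let F : V ⥤ I :=
    { obj := ob
      map := fun {p q} f => match f with
        | .id _ => 𝟙 _
        | .edge m b _ h => mp m b ≫ eqToHom (congrArg eI.symm h)
      map_id := fun p => rfl
      map_comp := fun {p q r} f g => by
        change SubdivHom endp p q at f
        change SubdivHom endp q r at g
        cases f with
        | id => exact (Category.id_comp _).symm
        | edge m b j h => cases g with
          | id => exact (Category.comp_id _).symm }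
  let s : ∀ m, (Sum.inr m : V) ⟶ Sum.inl (eI (a m).1) := fun m => SubdivHom.edge m false _ rfl
  let t : ∀ m, (Sum.inr m : V) ⟶ Sum.inl (eI (a m).2.1) := fun m => SubdivHom.edge m true _ rfl
  let v : I → V := fun x => Sum.inl (eI x)
  let ε : ∀ x : I, F.obj (v x) ⟶ x := fun x => eqToHom (eI.symm_apply_apply x)
  let ε' : ∀ x : I, x ⟶ F.obj (v x) := fun x => eqToHom (eI.symm_apply_apply x).symm
  have hs : ∀ m, F.map (s m) = ε' (a m).1 := fun m => Category.comp_id _
  have ht : ∀ m, F.map (t m) = (a m).2.2 ≫ ε' (a m).2.1 := fun m => Category.comp_id _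
  have hgen' : ∀ g ∈ gen, ∃ m, a m = g := fun g hg => ⟨gen.equivFin ⟨g, hg⟩, by simp [a]⟩
  have hfinal : F.Final := ⟨fun i => by
    let mk : ∀ x : I, (i ⟶ x) → StructuredArrow i F := fun x h => StructuredArrow.mk (Y := v x) (h ≫ ε' x)
    let Q : MorphismProperty I := fun x y g => ∀ h : i ⟶ x, Zigzag (mk x h) (mk y (h ≫ g))
    have hQ : Q = ⊤ := by
      refine hgen Q { id_mem := fun x h => ?_, comp_mem := fun f g hf hg h => ?_ } fun g hg h => ?_
      · rw [Category.comp_id]
      · rw [← Category.assoc]; exact (hf h).trans (hg _)
      · obtain ⟨m, rfl⟩ := hgen' g hg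
        exact Zigzag.of_inv_hom (j₂ := StructuredArrow.mk (S := i) (T := F) (Y := Sum.inr m) h)
          (StructuredArrow.homMk (s m) (congrArg (h ≫ ·) (hs m)))
          (StructuredArrow.homMk (t m) ((congrArg (h ≫ ·) (ht m)).trans (Category.assoc _ _ _).symm))
    have hto : ∀ A : StructuredArrow i F, Zigzag (mk i (𝟙 i)) A := by
      intro A
      obtain ⟨p, h, rfl⟩ := StructuredArrow.mk_surjective A
      cases p with
      | inl j =>
        obtain ⟨x, hx⟩ := eI.surjective j
        subst hx
        have := (hQ ▸ trivial : Q (h ≫ ε x)) (𝟙 i)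
        rw [Category.id_comp] at this
        have e : (h ≫ ε x) ≫ ε' x = h := by simp [ε, ε']
        have hA : mk x (h ≫ ε x) = StructuredArrow.mk (S := i) (T := F) (Y := Sum.inl (eI x)) h :=
          congrArg StructuredArrow.mk e
        exact hA ▸ this
      | inr m =>
        have := (hQ ▸ trivial : Q (show i ⟶ (a m).1 from h)) (𝟙 i)
        rw [Category.id_comp] at this
        exact this.trans (Zigzag.of_inv (StructuredArrow.homMk (s m) (congrArg (h ≫ ·) (hs m))))
    haveI : Nonempty (StructuredArrow i F) := ⟨mk i (𝟙 i)⟩
    exact zigzag_isConnected fun A B => (hto A).symm.trans (hto B)⟩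
  have hinitial : F.Initial := ⟨fun i => by
    let mk : ∀ x : I, (x ⟶ i) → CostructuredArrow F i := fun x h => CostructuredArrow.mk (Y := v x) (ε x ≫ h)
    let Q : MorphismProperty I := fun x y g => ∀ h : y ⟶ i, Zigzag (mk x (g ≫ h)) (mk y h)
    have hQ : Q = ⊤ := by
      refine hgen Q { id_mem := fun x h => ?_, comp_mem := fun f g hf hg h => ?_ } fun g hg h => ?_
      · rw [Category.id_comp]
      · rw [Category.assoc]; exact (hf _).trans (hg h)
      · obtain ⟨m, rfl⟩ := hgen' g hg
        exact Zigzag.of_inv_hom (j₂ := CostructuredArrow.mk (S := F) (T := i) (Y := Sum.inr m) ((a m).2.2 ≫ h))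
          (CostructuredArrow.homMk (s m) (by simp [mk, hs, ε, ε']))
          (CostructuredArrow.homMk (t m) (by simp [mk, ht, ε, ε']))
    have hto : ∀ A : CostructuredArrow F i, Zigzag (mk i (𝟙 i)) A := by
      intro A
      obtain ⟨p, h, rfl⟩ := CostructuredArrow.mk_surjective A
      cases p with
      | inl j =>
        obtain ⟨x, hx⟩ := eI.surjective j
        subst hx
        have := (hQ ▸ trivial : Q (ε' x ≫ h)) (𝟙 i)
        rw [Category.comp_id] at this
        have e : ε x ≫ ε' x ≫ h = h := by simp [ε, ε']
        have hA : mk x (ε' x ≫ h) = CostructuredArrow.mk (S := F) (T := i) (Y := Sum.inl (eI x)) h :=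
          congrArg CostructuredArrow.mk e
        exact hA ▸ this.symm
      | inr m =>
        have := (hQ ▸ trivial : Q (show (a m).1 ⟶ i from h)) (𝟙 i)
        rw [Category.comp_id] at this
        exact this.symm.trans (Zigzag.of_inv (CostructuredArrow.homMk (s m) (by simp [mk, hs, ε, ε'])))
    haveI : Nonempty (CostructuredArrow F i) := ⟨mk i (𝟙 i)⟩
    exact zigzag_isConnected fun A B => (hto A).symm.trans (hto B)⟩
  exact ⟨V, cat, fc, F, hfinal, hinitial, Functor.isConnected_iff_of_final F,
    ⟨fun ⟨p⟩ => ⟨F.obj p⟩, fun ⟨x⟩ => ⟨v x⟩⟩⟩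

end Groth.Agent.S6438
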