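import Groth.Statements.S6439
import Groth.Agent.Lead.FibCat.Basic
import Mathlib.CategoryTheory.Bicategory.Basic

set_option autoImplicit false
open CategoryTheory
universe v u
open FibCat

namespace Groth.Agent.S6439

/-- For categories fibred in groupoids over `C` and equivalences `φ : 𝒮₁ ⟶ 𝒮₂`, `ψ : 𝒮₃ ⟶ 𝒮₄` over `C`,
the functor `α ↦ ψ ∘ α ∘ φ` between the categories of functors over `C` is an equivalence of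
categories. -/
theorem result {C : Type u} [Category.{v} C] {𝒮₁ 𝒮₂ 𝒮₃ 𝒮₄ : BasedCategory.{v, max u v} C}
    (h₁ : FibCat.IsFibGrpd 𝒮₁.p) (h₂ : FibCat.IsFibGrpd 𝒮₂.p) (h₃ : FibCat.IsFibGrpd 𝒮₃.p) (h₄ : FibCat.IsFibGrpd 𝒮₄.p)
    (φ : 𝒮₁ ⟶ 𝒮₂) (ψ : 𝒮₃ ⟶ 𝒮₄) (hφ : FibCat.IsEquivOver φ) (hψ : FibCat.IsEquivOver ψ) :
    (Bicategory.precomp 𝒮₃ φ ⋙ Bicategory.postcomp 𝒮₁ ψ).IsEquivalence := by
  obtain ⟨g, ⟨u₁⟩, ⟨c₁⟩⟩ := hφ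
  obtain ⟨k, ⟨u₂⟩, ⟨c₂⟩⟩ := hψ
  let g' : 𝒮₂ ⟶ 𝒮₁ := g
  let k' : 𝒮₄ ⟶ 𝒮₃ := k
  have a : φ ≫ g' ≅ 𝟙 _ := u₁
  have b : g' ≫ φ ≅ 𝟙 _ := c₁
  have a' : ψ ≫ k' ≅ 𝟙 _ := u₂
  have b' : k' ≫ ψ ≅ 𝟙 _ := c₂
  haveI : (Bicategory.precomp 𝒮₃ φ).IsEquivalence :=
    Functor.IsEquivalence.mk' (Bicategory.precomp 𝒮₃ g')
      ((Bicategory.leftUnitorNatIso _ _).symm ≪≫ (Bicategory.precomposing _ _ _).mapIso b.symm ≪≫ Bicategory.associatorNatIsoRight g' φ _)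
      ((Bicategory.associatorNatIsoRight φ g' _).symm ≪≫ (Bicategory.precomposing _ _ _).mapIso a ≪≫ Bicategory.leftUnitorNatIso _ _)
  haveI : (Bicategory.postcomp 𝒮₁ ψ).IsEquivalence :=
    Functor.IsEquivalence.mk' (Bicategory.postcomp 𝒮₁ k')
      ((Bicategory.rightUnitorNatIso _ _).symm ≪≫ (Bicategory.postcomposing _ _ _).mapIso a'.symm ≪≫ (Bicategory.associatorNatIsoLeft _ _ _).symm)
      ((Bicategory.associatorNatIsoLeft _ _ _) ≪≫ (Bicategory.postcomposing _ _ _).mapIso b' ≪≫ Bicategory.rightUnitorNatIso _ _)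
  infer_instance

end Groth.Agent.S6439
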