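import Groth.Statements.S6444
import Mathlib

set_option autoImplicit false
open CategoryTheory
universe v u v' u'
open CatLoc

namespace Groth.Agent.S6444

open CategoryTheory CategoryTheory.Limits

/-- For a left multiplicative system, a commutative square in the localization between the images of two
morphisms `f, f'` of `C` lifts to a commutative diagram `X → X'' ← X'`, `Y → Y'' ← Y'` in `C` over a
third morphism `f''`, the backward arrows lying in `W`. -/
theorem result {C : Type u} [Category.{v} C] {D : Type u'} [Category.{v'} D] (W : MorphismProperty C) (L : C ⥤ D) [L.IsLocalization W] [W.HasLeftCalculusOfFractions]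
    {X Y X' Y' : C} (f : X ⟶ Y) (f' : X' ⟶ Y') (a : L.obj X ⟶ L.obj X') (b : L.obj Y ⟶ L.obj Y') (w : L.map f ≫ b = a ≫ L.map f') :
    ∃ (X'' Y'' : C) (f'' : X'' ⟶ Y'') (g : X ⟶ X'') (h : Y ⟶ Y'') (s : X' ⟶ X'') (t : Y' ⟶ Y''),
      W s ∧ W t ∧ f ≫ h = g ≫ f'' ∧ f' ≫ t = s ≫ f'' ∧ L.map g = a ≫ L.map s ∧ L.map h = b ≫ L.map t := by
  obtain ⟨φ, hφ⟩ := Localization.exists_leftFraction L W b
  obtain ⟨ψ, hψ⟩ := Localization.exists_leftFraction L W a
  have hb : b ≫ L.map φ.s = L.map φ.f := by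
    rw [hφ, MorphismProperty.LeftFraction.map_comp_map_s]
  have ha : a ≫ L.map ψ.s = L.map ψ.f := by
    rw [hψ, MorphismProperty.LeftFraction.map_comp_map_s]
  obtain ⟨χ, hχ⟩ := MorphismProperty.RightFraction.exists_leftFraction
    (MorphismProperty.RightFraction.mk ψ.s ψ.hs (f' ≫ φ.s))
  simp only at hχ
  have heq : L.map (ψ.f ≫ χ.f) = L.map (f ≫ φ.f ≫ χ.s) := by
    rw [L.map_comp, ← ha, L.map_comp, L.map_comp, ← hb, Category.assoc, ← L.map_comp, ← hχ]
    simp only [L.map_comp, Category.assoc]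
    rw [reassoc_of% w]
  obtain ⟨Z, r, hr, hr'⟩ := (MorphismProperty.map_eq_iff_postcomp L W _ _).mp heq
  refine ⟨ψ.Y', Z, χ.f ≫ r, ψ.f, φ.f ≫ χ.s ≫ r, ψ.s, φ.s ≫ χ.s ≫ r, ψ.hs,
    W.comp_mem _ _ φ.hs (W.comp_mem _ _ χ.hs hr), ?_, ?_, ha.symm, ?_⟩
  · rw [Category.assoc, Category.assoc] at hr'
    simpa using hr'.symm
  · rw [← Category.assoc, ← Category.assoc, hχ, Category.assoc]
  · simp only [L.map_comp]
    rw [reassoc_of% hb]

end Groth.Agent.S6444
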