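import Groth.Statements.S6447
import Groth.Agent.Lead.FibCat.Plain

set_option autoImplicit false
open CategoryTheory CategoryTheory.Limits
universe v u
open FibCat

namespace Groth.Agent.S6447

universe w₁ w₂ w₃ w₄ w₅ w₆ z₁ z₂ z₃ z₄ z₅ z₆

theorem map_iso' {A₁ : Type w₁} [Category.{z₁} A₁] {A₂ : Type w₂} [Category.{z₂} A₂] {A₃ : Type w₃} [Category.{z₃} A₃]
    {B₁ : Type w₄} [Category.{z₄} B₁] {B₂ : Type w₅} [Category.{z₅} B₂] {B₃ : Type w₆} [Category.{z₆} B₃]
    {H : A₁ ⥤ A₃} {I : A₂ ⥤ A₃} {F : B₁ ⥤ B₃} {G : B₂ ⥤ B₃} (ψ : CatCospanTransform H I F G) (x : CategoricalPullback H I) :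
    ((FibCat.categoricalPullbackMap ψ).obj x).iso.hom =
      ψ.squareLeft.iso.inv.app x.fst ≫ ψ.base.map x.iso.hom ≫ ψ.squareRight.iso.hom.app x.snd := by
  simp [FibCat.categoricalPullbackMap, CategoricalPullback.toCatCommSqOver, CategoricalPullback.CatCommSqOver.transform,
    CategoricalPullback.CatCommSqOver.precompose, CategoricalPullback.CatCommSqOver.toFunctorToCategoricalPullback]
  rfl

/-- For a 2-fibre product `U = X ×_Y V` of categories, the square formed by `U ⟶ X`, the diagonals `U ⟶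
U ×_V U`, `X ⟶ X ×_Y X` and the induced functor `U ×_V U ⟶ X ×_Y X` is 2-cartesian. (The filling
2-isomorphism is the one whose two components at every object are identities; it exists and is
unique with that property.) -/
theorem result {X Y V : Type u} [Category.{v} X] [Category.{v} Y] [Category.{v} V] (p : X ⥤ Y) (q : V ⥤ Y) :
    ∃ e, (∀ u, (e.hom.app u).fst = 𝟙 _ ∧ (e.hom.app u).snd = 𝟙 _) ∧ FibCat.IsTwoCart
      (CategoricalPullback.π₁ p q)
      ((CategoricalPullback.CatCommSqOver.toFunctorToCategoricalPullback (CategoricalPullback.π₂ p q) (CategoricalPullback.π₂ p q) (CategoricalPullback p q)).obj ⟨𝟭 _, 𝟭 _, Iso.refl _⟩)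
      ((CategoricalPullback.CatCommSqOver.toFunctorToCategoricalPullback p p X).obj ⟨𝟭 _, 𝟭 _, Iso.refl _⟩)
      (FibCat.categoricalPullbackMap (⟨CategoricalPullback.π₁ p q, q, CategoricalPullback.π₁ p q, ⟨(CatCommSq.iso (CategoricalPullback.π₁ p q) (CategoricalPullback.π₂ p q) p q).symm⟩, ⟨(CatCommSq.iso (CategoricalPullback.π₁ p q) (CategoricalPullback.π₂ p q) p q).symm⟩⟩ : CatCospanTransform (CategoricalPullback.π₂ p q) (CategoricalPullback.π₂ p q) p p))
      e := by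
  let T := CategoricalPullback.π₁ p q
  let L := (CategoricalPullback.CatCommSqOver.toFunctorToCategoricalPullback (CategoricalPullback.π₂ p q) (CategoricalPullback.π₂ p q) (CategoricalPullback p q)).obj ⟨𝟭 _, 𝟭 _, Iso.refl _⟩
  let Ψ : CatCospanTransform (CategoricalPullback.π₂ p q) (CategoricalPullback.π₂ p q) p p :=
    ⟨CategoricalPullback.π₁ p q, q, CategoricalPullback.π₁ p q, ⟨(CatCommSq.iso (CategoricalPullback.π₁ p q) (CategoricalPullback.π₂ p q) p q).symm⟩, ⟨(CatCommSq.iso (CategoricalPullback.π₁ p q) (CategoricalPullback.π₂ p q) p q).symm⟩⟩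
  let F := (CategoricalPullback.CatCommSqOver.toFunctorToCategoricalPullback p p X).obj ⟨𝟭 _, 𝟭 _, Iso.refl _⟩
  let e : T ⋙ F ≅ L ⋙ FibCat.categoricalPullbackMap Ψ := NatIso.ofComponents
    (fun u => CategoricalPullback.mkIso (Iso.refl _) (Iso.refl _) (by
      show p.map (𝟙 u.fst) ≫ ((FibCat.categoricalPullbackMap Ψ).obj (L.obj u)).iso.hom = 𝟙 (p.obj u.fst) ≫ p.map (𝟙 u.fst)
      rw [map_iso']
      show p.map (𝟙 u.fst) ≫ u.iso.hom ≫ q.map (𝟙 u.snd) ≫ u.iso.inv = 𝟙 (p.obj u.fst) ≫ p.map (𝟙 u.fst)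
      simp))
    (fun {u v} m => CategoricalPullback.hom_ext ((Category.comp_id _).trans (Category.id_comp _).symm)
      ((Category.comp_id _).trans (Category.id_comp _).symm))
  refine ⟨e, fun u => ⟨rfl, rfl⟩, ?_⟩
  show ((CategoricalPullback.CatCommSqOver.toFunctorToCategoricalPullback F (FibCat.categoricalPullbackMap Ψ) _).obj ⟨T, L, e⟩).IsEquivalence
  let K := (CategoricalPullback.CatCommSqOver.toFunctorToCategoricalPullback F (FibCat.categoricalPullbackMap Ψ) _).obj ⟨T, L, e⟩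
  haveI : K.Faithful := ⟨fun {u v φ φ'} h => congrArg (fun m => m.snd.fst) h⟩
  haveI : K.Full := ⟨fun {u v} χ => by
    have h1 : χ.fst ≫ 𝟙 _ = 𝟙 _ ≫ χ.snd.fst.fst := congrArg (fun m => m.fst) χ.w
    have h2 : χ.fst ≫ 𝟙 _ = 𝟙 _ ≫ χ.snd.snd.fst := congrArg (fun m => m.snd) χ.w
    have h3 : χ.snd.fst.snd ≫ 𝟙 _ = 𝟙 _ ≫ χ.snd.snd.snd := χ.snd.w
    rw [Category.comp_id, Category.id_comp] at h1 h2 h3
    exact ⟨χ.snd.fst, CategoricalPullback.hom_ext h1.symm (CategoricalPullback.hom_ext rfl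
      (CategoricalPullback.hom_ext (h1.symm.trans h2) h3))⟩⟩
  haveI : K.EssSurj := ⟨fun z => by
    let a1 : z.fst ≅ z.snd.fst.fst := (CategoricalPullback.π₁ p p).mapIso z.iso
    let a2 : z.fst ≅ z.snd.snd.fst := (CategoricalPullback.π₂ p p).mapIso z.iso
    let ν : z.snd.fst.snd ≅ z.snd.snd.snd := z.snd.iso
    have hw := z.iso.hom.w
    rw [map_iso'] at hw
    have key : p.map (a1.inv ≫ a2.hom) ≫ z.snd.snd.iso.hom = z.snd.fst.iso.hom ≫ q.map ν.hom := by
      have hw' : p.map a1.hom ≫ z.snd.fst.iso.hom ≫ q.map ν.hom ≫ z.snd.snd.iso.inv = p.map a2.hom :=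
        hw.trans (Category.id_comp _)
      rw [Functor.map_comp, ← hw']
      simp
    let i : z.snd.fst ≅ z.snd.snd := CategoricalPullback.mkIso (a1.symm ≪≫ a2) ν key
    refine ⟨z.snd.fst, ⟨CategoricalPullback.mkIso a1.symm
      (CategoricalPullback.mkIso (Iso.refl _) i ?_) ?_⟩⟩
    · exact (congrArg (fun m => m ≫ ν.hom) ((CategoricalPullback.π₂ p q).map_id z.snd.fst)).trans rfl
    · apply CategoricalPullback.hom_ext
      · exact a1.inv_hom_id.trans (Category.id_comp (𝟙 z.snd.fst.fst)).symm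
      · exact (Category.id_comp (a1.inv ≫ a2.hom)).symm⟩
  exact {}

end Groth.Agent.S6447
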