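import Groth.Statements.S6448
import Mathlib

set_option autoImplicit false
open CategoryTheory
universe v u
open CatLim

namespace Groth.Agent.S6448

open CategoryTheory CategoryTheory.Limits

/-- In a category where spans complete to commutative squares and parallel pairs are coequalized by a
later arrow, every connected component is filtered (so the category is a disjoint union of filtered
categories). -/
theorem result {I : Type u} [Category.{v} I]
    (h1 : ∀ ⦃w x y : I⦄ (a : w ⟶ x) (b : w ⟶ y), ∃ (z : I) (c : x ⟶ z) (d : y ⟶ z), a ≫ c = b ≫ d)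
    (h2 : ∀ ⦃x y : I⦄ (a b : x ⟶ y), ∃ (z : I) (c : y ⟶ z), a ≫ c = b ≫ c)
    (j : ConnectedComponents I) : IsFiltered j.Component := by
  have hrel : ∀ x y : I, Zigzag x y → ∃ (z : I) (_ : x ⟶ z) (_ : y ⟶ z), True := by
    intro x y h
    induction h with
    | refl => exact ⟨x, 𝟙 _, 𝟙 _, trivial⟩
    | tail _ hz ih =>
      obtain ⟨z, f, g, -⟩ := ih
      rcases hz with ⟨⟨a⟩⟩ | ⟨⟨a⟩⟩
      · obtain ⟨w, c, d, -⟩ := h1 g a
        exact ⟨w, f ≫ c, d, trivial⟩
      · exact ⟨z, f, a ≫ g, trivial⟩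
  have hmem : ∀ {x y : I} (_ : x ⟶ y), Quotient.mk (Zigzag.setoid I) x = j → Quotient.mk (Zigzag.setoid I) y = j :=
    fun {x y} f h => (Quotient.sound (s := Zigzag.setoid I) (Zigzag.of_hom f).symm : _).trans h
  haveI : IsFilteredOrEmpty j.Component :=
    { cocone_objs := fun x y => by
        obtain ⟨z, f, g, -⟩ := hrel x.1 y.1 (Quotient.exact (s := Zigzag.setoid I) (x.2.trans y.2.symm))
        exact ⟨⟨z, hmem f x.2⟩, ObjectProperty.homMk f, ObjectProperty.homMk g, trivial⟩
      cocone_maps := fun x y a b => by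
        obtain ⟨z, c, hc⟩ := h2 a.hom b.hom
        exact ⟨⟨z, hmem c y.2⟩, ObjectProperty.homMk c, by ext; exact hc⟩ }
  haveI : Nonempty j.Component := by
    obtain ⟨x, hx⟩ := Quotient.exists_rep (s := Zigzag.setoid I) j
    exact ⟨⟨x, hx⟩⟩
  exact ⟨⟩

end Groth.Agent.S6448
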