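import Groth.Statements.S6459
import Groth.Agent.HensPair.JacobsonDim

set_option autoImplicit false
universe u
open CategoryTheory AlgebraicGeometry
open Cyc

namespace Groth.Agent.S6459

/-- (b) ⇔ (c): let X be integral with generic point η and Z ⊂ X an integral closed subscheme with
generic point ξ. Then Z has codimension 1 in X (the local ring O_{X,ξ} is one-dimensional; Z is a
prime divisor) if and only if dim_δ(Z) = dim_δ(X) − 1. Here a pair (X, δ) with Cyc.IsSetup plays the
role of a scheme locally of finite type over the base (S, δ) (X locally Noetherian with universally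
catenary local rings, δ a dimension function). -/
theorem result (X : Scheme.{u}) [IsIntegral X] (δ : X → ℤ) (hX : Cyc.IsSetup X δ) (ξ : X) : ringKrullDim ↑(X.presheaf.stalk ξ) = 1 ↔ δ ξ = δ (genericPoint X) - 1 := by
  open Groth.Agent.HensPair in
  obtain ⟨hN, -, hd⟩ := hX
  haveI := hN
  have hle : ∀ a b : X, a ⤳ b → δ b ≤ δ a := fun a b h => by
    by_cases e : a = b
    · rw [e]
    · exact (hd a b h e).1.le
  have cod : ∀ (m : ℕ) (w v : X), w ⤳ v → δ w = δ v + m → CatScheme.cd w v = (m : ℕ) := by
    intro m w v h hm
    refine le_antisymm (iSup_le fun l => ?_) ?_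
    · have key : ∀ i : Fin (l.length + 1), δ v + (i : ℕ) ≤ δ (l i).1 := by
        intro i
        induction i using Fin.induction with
        | zero => simpa using hle _ _ (l 0).2.2
        | succ i ih =>
          have h1 : l i.castSucc < l i.succ := l.step i
          have := (hd (l i.succ).1 (l i.castSucc).1 h1.le fun e => h1.ne (Subtype.ext e.symm)).1
          simp only [Fin.val_castSucc] at ih
          simp only [Fin.val_succ, Nat.cast_add, Nat.cast_one]
          omega
      have h1 := key (Fin.last _)
      simp only [Fin.val_last] at h1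
      have h2 := hle w _ (l (Fin.last _)).2.1
      exact_mod_cast (by omega : l.length ≤ m)
    · suffices H : ∃ l : LTSeries ({t : X | w ⤳ t ∧ t ⤳ v} : Set X), l.length = m ∧ l.last.1 = w by
        obtain ⟨l, hl, -⟩ := H
        exact hl ▸ Order.LTSeries.length_le_krullDim l
      induction m generalizing w with
      | zero => exact ⟨RelSeries.singleton _ ⟨w, specializes_rfl, h⟩, rfl, rfl⟩
      | succ m ih =>
        obtain ⟨a, ⟨z, hwz, hzv, hne, rfl⟩, hmax⟩ := Int.exists_greatest_of_bdd
          (P := fun a => ∃ z, w ⤳ z ∧ z ⤳ v ∧ z ≠ w ∧ δ z = a)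
          ⟨δ w, fun a ⟨z, hwz, _, _, e⟩ => e ▸ hle _ _ hwz⟩
          ⟨δ v, v, h, specializes_rfl, fun e => by rw [e] at hm; omega, rfl⟩
        have himm : ∀ t : X, w ⤳ t → t ⤳ z → t = w ∨ t = z := fun t h1 h2 => by
          by_contra hc
          rw [not_or] at hc
          have := hmax (δ t) ⟨t, h1, h2.trans hzv, hc.1, rfl⟩
          have := (hd t z h2 hc.2).1
          omega
        have h1 := (hd w z hwz fun e => hne e.symm).2 himm
        obtain ⟨l, hl, hlast⟩ := ih z hzv (by push_cast at hm; omega)
        let g : ({t : X | z ⤳ t ∧ t ⤳ v} : Set X) → ({t : X | w ⤳ t ∧ t ⤳ v} : Set X) :=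
          fun t => ⟨t.1, hwz.trans t.2.1, t.2.2⟩
        have hlt : (l.map g fun a b hab => hab).last < ⟨w, specializes_rfl, h⟩ := by
          rw [LTSeries.last_map]
          refine lt_iff_le_not_ge.mpr ⟨show w ⤳ l.last.1 by rw [hlast]; exact hwz, fun hh => hne ?_⟩
          have h4 : l.last.1 ⤳ w := hh
          rw [hlast] at h4
          exact (h4.antisymm hwz).eq
        refine ⟨(l.map g fun a b hab => hab).snoc _ hlt, ?_, congrArg Subtype.val (RelSeries.last_snoc _ _ _)⟩
        rw [RelSeries.snoc_length]
        exact congrArg (· + 1) hl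
  have hξ : genericPoint X ⤳ ξ := (genericPoint_spec X).specializes trivial
  have hle' := hle _ _ hξ
  rw [← CatScheme.cd_eq_stalk_of_generic (genericPoint X) ξ (fun t => (genericPoint_spec X).specializes trivial),
    cod (δ (genericPoint X) - δ ξ).toNat _ _ hξ (by omega)]
  constructor
  · intro h
    have h1 : (δ (genericPoint X) - δ ξ).toNat = 1 := by exact_mod_cast h
    omega
  · intro h
    rw [show (δ (genericPoint X) - δ ξ).toNat = 1 by omega]
    rfl

end Groth.Agent.S6459
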