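import Groth.Statements.S6476
import Groth.Agent.Misc9.EndoCoker
-- import your own Groth.Agent.* helpers here

set_option autoImplicit false
universe u v
open CycAlg

namespace Groth.Agent.S6476

/-- Let A be a Noetherian local ring, M a finite A-module of dimension 1, and φ, ψ : M → M injective
with φ(ψ(M)) = ψ(φ(M)) (e.g. φ, ψ commute). Then length_A(M/φψM) is finite and (M/φψM, φ, ψ) is an
exact (2, 1)-periodic complex; here φ', ψ' denote the endomorphisms of M/φψM induced by φ and ψ, and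
exactness says both cohomology modules (CycAlg.perH) are trivial. -/
theorem result {A : Type u} [CommRing A] [IsNoetherianRing A] [IsLocalRing A] {M : Type v} [AddCommGroup M] [Module A M] [Module.Finite A M] (hdim : Module.supportDim A M = 1) (φ ψ : M →ₗ[A] M) (hφ : Function.Injective φ) (hψ : Function.Injective ψ) (hcomm : Submodule.map φ (LinearMap.range ψ) = Submodule.map ψ (LinearMap.range φ)) (φ' ψ' : (M ⧸ LinearMap.range (φ ∘ₗ ψ)) →ₗ[A] (M ⧸ LinearMap.range (φ ∘ₗ ψ))) (hφ' : φ' ∘ₗ (LinearMap.range (φ ∘ₗ ψ)).mkQ = (LinearMap.range (φ ∘ₗ ψ)).mkQ ∘ₗ φ) (hψ' : ψ' ∘ₗ (LinearMap.range (φ ∘ₗ ψ)).mkQ = (LinearMap.range (φ ∘ₗ ψ)).mkQ ∘ₗ ψ) : Module.length A (M ⧸ LinearMap.range (φ ∘ₗ ψ)) < ⊤ ∧ CycAlg.IsPeriodic φ' ψ' ∧ Subsingleton (CycAlg.perH φ' ψ') ∧ Subsingleton (CycAlg.perH ψ' φ') := by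
  have hπ : ∀ (χ : M →ₗ[A] M) (χ' : (M ⧸ LinearMap.range (φ ∘ₗ ψ)) →ₗ[A] (M ⧸ LinearMap.range (φ ∘ₗ ψ))),
      χ' ∘ₗ (LinearMap.range (φ ∘ₗ ψ)).mkQ = (LinearMap.range (φ ∘ₗ ψ)).mkQ ∘ₗ χ →
      ∀ x, χ' (Submodule.Quotient.mk x) = Submodule.Quotient.mk (χ x) :=
    fun χ χ' h x => LinearMap.congr_fun h x
  have hψφ : ∀ x, ∃ y, φ (ψ y) = ψ (φ x) := fun x => by
    have h : ψ (φ x) ∈ Submodule.map φ (LinearMap.range ψ) :=
      hcomm ▸ Submodule.mem_map_of_mem (LinearMap.mem_range_self φ x)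
    obtain ⟨_, ⟨y, rfl⟩, hy⟩ := h
    exact ⟨y, hy⟩
  have hφψ : ∀ x, ∃ y, ψ (φ y) = φ (ψ x) := fun x => by
    have h : φ (ψ x) ∈ Submodule.map ψ (LinearMap.range φ) :=
      hcomm.symm ▸ Submodule.mem_map_of_mem (LinearMap.mem_range_self ψ x)
    obtain ⟨_, ⟨y, rfl⟩, hy⟩ := h
    exact ⟨y, hy⟩
  refine ⟨Groth.Agent.Misc9.EndoCoker.length_coker_lt_top hdim.le _ (hφ.comp hψ), ⟨?_, ?_⟩, ?_, ?_⟩
  · refine LinearMap.ext fun q => ?_
    obtain ⟨x, rfl⟩ := Submodule.Quotient.mk_surjective _ q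
    rw [LinearMap.comp_apply, hπ ψ ψ' hψ', hπ φ φ' hφ', LinearMap.zero_apply, Submodule.Quotient.mk_eq_zero]
    exact ⟨x, rfl⟩
  · refine LinearMap.ext fun q => ?_
    obtain ⟨x, rfl⟩ := Submodule.Quotient.mk_surjective _ q
    rw [LinearMap.comp_apply, hπ φ φ' hφ', hπ ψ ψ' hψ', LinearMap.zero_apply, Submodule.Quotient.mk_eq_zero]
    exact hψφ x
  · refine Submodule.Quotient.subsingleton_iff.mpr (eq_top_iff.mpr ?_)
    rintro ⟨q, hq⟩ -
    obtain ⟨x, rfl⟩ := Submodule.Quotient.mk_surjective _ q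
    rw [LinearMap.mem_ker, hπ φ φ' hφ', Submodule.Quotient.mk_eq_zero] at hq
    obtain ⟨y, hy⟩ := hq
    exact ⟨Submodule.Quotient.mk y, by rw [hπ ψ ψ' hψ']; exact congrArg _ (hφ hy)⟩
  · refine Submodule.Quotient.subsingleton_iff.mpr (eq_top_iff.mpr ?_)
    rintro ⟨q, hq⟩ -
    obtain ⟨x, rfl⟩ := Submodule.Quotient.mk_surjective _ q
    rw [LinearMap.mem_ker, hπ ψ ψ' hψ', Submodule.Quotient.mk_eq_zero] at hq
    obtain ⟨y, hy⟩ := hq
    obtain ⟨w, hw⟩ := hφψ y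
    exact ⟨Submodule.Quotient.mk w, by rw [hπ φ φ' hφ']; exact congrArg _ (hψ (hw.trans hy))⟩

end Groth.Agent.S6476
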