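import Groth.Statements.S6485
import Mathlib

set_option autoImplicit false
universe u
open IntMult

namespace Groth.Agent.S6485

/-- Let k be a field and n ≥ 1. Then the determinant of the generic matrix (x_{ij})_{1 ≤ i, j ≤ n} is an
irreducible element of the polynomial ring k[x_{ij}] (Mathlib's Matrix.mvPolynomialX is the generic
matrix over MvPolynomial (Fin n × Fin n) k). -/
theorem result (k : Type u) [Field k] (n : ℕ) (hn : 1 ≤ n) : Irreducible (Matrix.mvPolynomialX (Fin n) (Fin n) k).det := by
  classical
  induction n with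
  | zero => omega
  | succ n ih =>
    rcases Nat.eq_zero_or_pos n with rfl | hn'
    · rw [Matrix.det_fin_one]
      exact (MvPolynomial.X_prime (R := k)).irreducible
    -- variables other than (0,0)
    let V := {v : Fin (n + 1) × Fin (n + 1) // v ≠ (0, 0)}
    let S := MvPolynomial V k
    let φ : MvPolynomial (Fin (n + 1) × Fin (n + 1)) k ≃ₐ[k] Polynomial S :=
      (MvPolynomial.renameEquiv k (Equiv.optionSubtypeNe ((0 : Fin (n+1)), (0 : Fin (n+1)))).symm).trans
        (MvPolynomial.optionEquivLeft k V)
    let M₀ : Matrix (Fin (n + 1)) (Fin (n + 1)) S := Matrix.of fun i j =>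
      if h : (i, j) = (0, 0) then 0 else MvPolynomial.X ⟨(i, j), h⟩
    let A : Matrix (Fin n) (Fin n) S := M₀.submatrix Fin.succ Fin.succ
    have hφ : ∀ i j, φ (MvPolynomial.X (i, j)) = Polynomial.C (M₀ i j) +
        (if (i, j) = ((0 : Fin (n+1)), (0 : Fin (n+1))) then Polynomial.X else 0) := by
      intro i j
      by_cases h : (i, j) = ((0 : Fin (n+1)), (0 : Fin (n+1)))
      · obtain ⟨rfl, rfl⟩ := Prod.mk.inj h
        simp [φ, M₀]
        exact MvPolynomial.optionEquivLeft_X_none ..
      · have h' : ¬(i = 0 ∧ j = 0) := fun h' => h (Prod.ext h'.1 h'.2)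
        simp [φ, M₀, h', Equiv.optionSubtypeNe_symm_of_ne h]
        exact MvPolynomial.optionEquivLeft_X_some ..
    have hdet : φ (Matrix.mvPolynomialX (Fin (n + 1)) (Fin (n + 1)) k).det =
        Polynomial.C A.det * Polynomial.X + Polynomial.C M₀.det := by
      rw [show φ (Matrix.mvPolynomialX (Fin (n + 1)) (Fin (n + 1)) k).det =
        ((Matrix.mvPolynomialX (Fin (n + 1)) (Fin (n + 1)) k).map φ).det from AlgHom.map_det φ.toAlgHom _]
      rw [Matrix.det_succ_row_zero, Matrix.det_succ_row_zero (A := M₀)]
      rw [Fin.sum_univ_succ, Fin.sum_univ_succ, map_add, map_sum]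
      have hsub : ∀ j : Fin (n + 1), ((Matrix.mvPolynomialX (Fin (n + 1)) (Fin (n + 1)) k).map φ).submatrix Fin.succ j.succAbove =
          (M₀.submatrix Fin.succ j.succAbove).map Polynomial.C := by
        intro j
        ext1 a b
        simp [hφ, Fin.succ_ne_zero]
      simp only [hsub, ← RingHom.mapMatrix_apply, ← RingHom.map_det]
      simp [hφ, A, Fin.succAbove_zero]
      ring
    -- the minor is irreducible
    let incl : Fin n × Fin n → V := fun v => ⟨(v.1.succ, v.2.succ), by simp [Fin.succ_ne_zero]⟩
    have hincl : Function.Injective incl := by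
      intro v w h
      have h' := congrArg Subtype.val h
      simp only [incl, Prod.mk.injEq, Fin.succ_inj] at h'
      exact Prod.ext h'.1 h'.2
    have hAdet : A.det = MvPolynomial.rename incl (Matrix.mvPolynomialX (Fin n) (Fin n) k).det := by
      rw [AlgHom.map_det]
      congr 1
      ext1 a b
      simp [A, M₀, incl, Fin.succ_ne_zero]
    have hAprime : Prime A.det := by
      have h0 : Prime (Matrix.mvPolynomialX (Fin n) (Fin n) k).det := (ih hn').prime
      let e := Equiv.ofInjective incl hincl
      have h1 : Prime (MvPolynomial.rename e (Matrix.mvPolynomialX (Fin n) (Fin n) k).det) :=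
        (MulEquiv.prime_iff (MvPolynomial.renameEquiv k e).toMulEquiv).mpr h0
      rw [hAdet, show incl = Subtype.val ∘ e from rfl, ← MvPolynomial.rename_rename]
      exact (MvPolynomial.prime_rename_iff (Set.range incl)).mpr h1
    have hndvd : ¬ A.det ∣ M₀.det := by
      intro hdvd
      let one' : Fin (n + 1) := (⟨0, hn'⟩ : Fin n).succ
      let σ : Equiv.Perm (Fin (n + 1)) := Equiv.swap 0 one'
      let ev : S →+* k := MvPolynomial.eval fun v : V => if σ v.1.1 = v.1.2 then 1 else 0
      have hev : M₀.map ev = (σ.toPEquiv.toMatrix : Matrix (Fin (n + 1)) (Fin (n + 1)) k) := by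
        ext1 i j
        by_cases h : (i, j) = ((0 : Fin (n+1)), (0 : Fin (n+1)))
        · obtain ⟨rfl, rfl⟩ := Prod.mk.inj h
          simp [M₀, ev, PEquiv.toMatrix_apply, σ, one', Fin.succ_ne_zero]
        · have h' : ¬(i = 0 ∧ j = 0) := fun h' => h (Prod.ext h'.1 h'.2)
          simp [M₀, ev, h', PEquiv.toMatrix_apply, eq_comm]
          exact (MvPolynomial.eval_X (f := fun v : V => if v.1.2 = σ v.1.1 then (1:k) else 0) ⟨(i, j), h⟩).symm
      have h1 : ev M₀.det ≠ 0 := by
        rw [RingHom.map_det, RingHom.mapMatrix_apply, hev, Matrix.det_permutation]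
        exact ((Equiv.Perm.sign σ).isUnit.map (Int.castRingHom k)).ne_zero
      have h2 : ev A.det = 0 := by
        rw [RingHom.map_det, RingHom.mapMatrix_apply,
          show A.map ev = (M₀.map ev).submatrix Fin.succ Fin.succ from rfl, hev]
        refine Matrix.det_eq_zero_of_row_eq_zero ⟨0, hn'⟩ fun j => ?_
        simp [PEquiv.toMatrix_apply, σ, one', Fin.succ_ne_zero, Ne.symm (Fin.succ_ne_zero j)]
      exact h1 (zero_dvd_iff.mp (h2 ▸ map_dvd ev hdvd))
    rw [← MulEquiv.irreducible_iff φ.toMulEquiv]
    show Irreducible (φ _)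
    rw [hdet]
    exact Polynomial.irreducible_C_mul_X_add_C hAprime.ne_zero (hAprime.irreducible.isRelPrime_iff_not_dvd.mpr hndvd)

end Groth.Agent.S6485
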