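import Groth.Statements.S6501
import Mathlib.RingTheory.DividedPowers.Basic
import Mathlib.RingTheory.Ideal.Operations
import Mathlib.Algebra.Module.Torsion.Free
import Mathlib.Tactic.Abel

set_option autoImplicit false
universe u
open DPow

namespace Groth.Agent.S6501

/-- Let A be a commutative ring whose additive group is torsion free and I an ideal of A. Then I carries
at most one divided power structure, and it carries one if and only if I is generated by a set S
such that for every x in S and every n ≥ 1 the power x^n lies in the ideal generated by the products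
of n! with elements of I. -/
theorem result {A : Type u} [CommRing A] [IsAddTorsionFree A] (I : Ideal A) :
    Subsingleton (DividedPowers I) ∧
    (Nonempty (DividedPowers I) ↔ ∃ S : Set A, Ideal.span S = I ∧
      ∀ x ∈ S, ∀ n : ℕ, 1 ≤ n → x ^ n ∈ Ideal.span {(Nat.factorial n : A)} * I) := by
  classical
  have hcan : ∀ (n : ℕ), n ≠ 0 → ∀ a b : A, (n : A) * a = (n : A) * b → a = b := fun n hn a b h =>
    nsmul_right_injective hn (by simpa [nsmul_eq_mul] using h)
  have hfac : ∀ (n : ℕ) (a b : A), (n.factorial : A) * a = (n.factorial : A) * b → a = b :=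
    fun n => hcan _ n.factorial_ne_zero
  refine ⟨⟨fun γ γ' => DividedPowers.ext _ _ fun n x hx => hfac n _ _ ?_⟩, ⟨fun ⟨γ⟩ => ?_, ?_⟩⟩
  · rw [γ.factorial_mul_dpow_eq_pow hx, γ'.factorial_mul_dpow_eq_pow hx]
  · refine ⟨(I : Set A), Ideal.span_eq I, fun x hx n hn => Ideal.mem_span_singleton_mul.2
      ⟨γ.dpow n x, γ.dpow_mem (by omega) hx, γ.factorial_mul_dpow_eq_pow hx⟩⟩
  rintro ⟨S, rfl, hS⟩
  have hall : ∀ x ∈ Ideal.span S, ∀ n : ℕ, ∃ y : A, (n.factorial : A) * y = x ^ n ∧ (n ≠ 0 → y ∈ Ideal.span S) := by
    intro x hx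
    induction hx using Submodule.span_induction with
    | mem x hx =>
      intro n
      rcases Nat.eq_zero_or_pos n with rfl | hn
      · exact ⟨1, by simp, fun h => absurd rfl h⟩
      obtain ⟨y, hy, he⟩ := Ideal.mem_span_singleton_mul.1 (hS x hx n hn)
      exact ⟨y, he, fun _ => hy⟩
    | zero =>
      intro n
      rcases Nat.eq_zero_or_pos n with rfl | hn
      · exact ⟨1, by simp, fun h => absurd rfl h⟩
      exact ⟨0, by rw [mul_zero, zero_pow hn.ne'], fun _ => zero_mem _⟩
    | smul a x _ ih =>
      intro n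
      obtain ⟨y, he, hy⟩ := ih n
      exact ⟨a ^ n * y, by rw [smul_eq_mul, mul_pow, ← he]; ring, fun h => Ideal.mul_mem_left _ _ (hy h)⟩
    | add x z _ _ ihx ihz =>
      intro n
      choose f hf hfm using ihx
      choose g hg hgm using ihz
      refine ⟨∑ k ∈ Finset.antidiagonal n, f k.1 * g k.2, ?_, fun hn => Submodule.sum_mem _ fun k hk => ?_⟩
      · rw [(Commute.all x z).add_pow', Finset.mul_sum]
        refine Finset.sum_congr rfl fun k hk => ?_
        rw [Finset.HasAntidiagonal.mem_antidiagonal] at hk
        have h := Nat.add_choose_mul_factorial_mul_factorial k.1 k.2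
        rw [← Nat.choose_symm_add, hk] at h
        rw [← hf, ← hg, ← h, nsmul_eq_mul]
        push_cast
        ring
      · rw [Finset.HasAntidiagonal.mem_antidiagonal] at hk
        rcases Nat.eq_zero_or_pos k.1 with h | h
        · exact Ideal.mul_mem_left _ _ (hgm _ (by omega))
        · exact Ideal.mul_mem_right _ _ (hfm _ h.ne')
  let d : ℕ → A → A := fun n x => if hx : x ∈ Ideal.span S then (hall x hx n).choose else 0
  have hd : ∀ n x, x ∈ Ideal.span S → (n.factorial : A) * d n x = x ^ n := fun n x hx => by
    simp only [d, dif_pos hx]; exact (hall x hx n).choose_spec.1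
  have hm : ∀ n x, n ≠ 0 → x ∈ Ideal.span S → d n x ∈ Ideal.span S := fun n x hn hx => by
    simp only [d, dif_pos hx]; exact (hall x hx n).choose_spec.2 hn
  refine ⟨
    { dpow := d
      dpow_null := fun hx => dif_neg hx
      dpow_zero := fun hx => hfac 0 _ _ (by rw [hd 0 _ hx]; simp)
      dpow_one := fun hx => hfac 1 _ _ (by rw [hd 1 _ hx]; simp)
      dpow_mem := fun hn hx => hm _ _ hn hx
      dpow_add := fun {n x y} hx hy => hfac n _ _ ?_
      dpow_mul := fun {n a x} hx => hfac n _ _ ?_
      mul_dpow := fun {m n x} hx => hcan _ (Nat.mul_ne_zero m.factorial_ne_zero n.factorial_ne_zero) _ _ ?_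
      dpow_comp := fun {m n x} hn hx =>
        hcan _ (Nat.mul_ne_zero m.factorial_ne_zero (pow_ne_zero m n.factorial_ne_zero)) _ _ ?_ }⟩
  · rw [hd n _ (Ideal.add_mem _ hx hy), (Commute.all x y).add_pow', Finset.mul_sum]
    refine Finset.sum_congr rfl fun k hk => ?_
    rw [Finset.HasAntidiagonal.mem_antidiagonal] at hk
    have h := Nat.add_choose_mul_factorial_mul_factorial k.1 k.2
    rw [← Nat.choose_symm_add, hk] at h
    rw [← hd k.1 x hx, ← hd k.2 y hy, ← h, nsmul_eq_mul]
    push_cast
    ring
  · rw [hd n _ (Ideal.mul_mem_left _ _ hx), mul_left_comm, hd n x hx, mul_pow]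
  · have h := Nat.add_choose_mul_factorial_mul_factorial m n
    rw [← Nat.choose_symm_add] at h
    calc ((m.factorial * n.factorial : ℕ) : A) * (d m x * d n x)
        = ((m.factorial : A) * d m x) * ((n.factorial : A) * d n x) := by push_cast; ring
      _ = ((m + n).factorial : A) * d (m + n) x := by rw [hd m x hx, hd n x hx, hd (m + n) x hx, pow_add]
      _ = _ := by rw [← h]; push_cast; ring
  · have h := Nat.uniformBell_mul_eq m hn
    calc ((m.factorial * n.factorial ^ m : ℕ) : A) * d m (d n x)
        = (n.factorial : A) ^ m * ((m.factorial : A) * d m (d n x)) := by push_cast; ring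
      _ = ((n.factorial : A) * d n x) ^ m := by rw [hd m _ (hm n x hn hx), mul_pow]
      _ = ((m * n).factorial : A) * d (m * n) x := by rw [hd n x hx, hd (m * n) x hx, ← pow_mul, mul_comm]
      _ = _ := by rw [← h]; push_cast; ring

end Groth.Agent.S6501
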