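import Groth.Statements.S6503
import Groth.Agent.EtAlg.DiagSmooth
import Groth.Agent.Locus.FiberCriterion

set_option autoImplicit false
universe u
open TensorProduct
open LCI

namespace Groth.Agent.S6503

/-- Suppose A and B are Noetherian local rings and A → B is a local homomorphism making B a flat
A-algebra that is essentially of finite type, and regard B as an algebra over B ⊗_A B via the
multiplication map. If B has finite Tor-dimension over B ⊗_A B (the diagonal is a perfect ring map),
then there are a smooth A-algebra C and a prime ideal q of C such that B is an A-algebra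
localization of C at q. -/
theorem result {A B : Type u} [CommRing A] [CommRing B]
    [Algebra A B] [IsNoetherianRing A] [IsNoetherianRing B] [IsLocalRing A] [IsLocalRing B]
    [IsLocalHom (algebraMap A B)] [Module.Flat A B] [Algebra.EssFiniteType A B]
    [Algebra (B ⊗[A] B) B]
    (hmul : ∀ x y : B, algebraMap (B ⊗[A] B) B (x ⊗ₜ[A] y) = x * y)
    (h : DRing.HasFiniteTorDim (B ⊗[A] B) B) :
    ∃ (C : Type u) (_ : CommRing C) (_ : Algebra A C) (_ : Algebra C B) (_ : IsScalarTower A C B)
      (q : Ideal C) (_ : q.IsPrime), Algebra.Smooth A C ∧ IsLocalization.AtPrime B q := by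
  classical
  let C₀ := Algebra.EssFiniteType.subalgebra A B
  have : Algebra.FinitePresentation A C₀ := Algebra.FinitePresentation.of_finiteType.mp inferInstance
  let q : Ideal C₀ := (IsLocalRing.maximalIdeal B).comap (algebraMap C₀ B)
  have hq : q.IsPrime := Ideal.comap_isPrime _ _
  have hsub : Algebra.EssFiniteType.submonoid A B = q.primeCompl := by
    ext x
    show IsUnit (algebraMap C₀ B x) ↔ ¬ algebraMap C₀ B x ∈ IsLocalRing.maximalIdeal B
    rw [IsLocalRing.mem_maximalIdeal, mem_nonunits_iff, not_not]
  have hBq : IsLocalization.AtPrime B q :=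
    show IsLocalization q.primeCompl B from hsub ▸ Algebra.EssFiniteType.isLocalization A B
  let K := IsLocalRing.ResidueField B
  let χ : B →ₐ[A] K := IsScalarTower.toAlgHom A B K
  let χ₀ : C₀ →ₐ[A] K := χ.comp (IsScalarTower.toAlgHom A C₀ B)
  let G : K ⊗[A] B →ₐ[K] K :=
    Algebra.TensorProduct.lift (Algebra.ofId K K) χ fun _ _ => .all _ _
  let G₀ : K ⊗[A] C₀ →ₐ[K] K :=
    Algebra.TensorProduct.lift (Algebra.ofId K K) χ₀ fun _ _ => .all _ _
  have hp : (RingHom.ker G₀).IsPrime := RingHom.ker_isPrime _
  have hfd := Groth.Agent.EtAlg.DiagSmooth.finiteTorDim_point hmul h χ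
  letI : Algebra C₀ (K ⊗[A] C₀) := Algebra.TensorProduct.rightAlgebra
  have : Module.Flat C₀ B := IsLocalization.flat B q.primeCompl
  have hfd₀ : DRing.HasFiniteTorDim (K ⊗[A] C₀) ((K ⊗[A] C₀) ⧸ RingHom.ker G₀) :=
    Groth.Agent.EtAlg.DiagSmooth.finiteTorDim_point_restrict hmul h χ
  have hsm : Algebra.IsSmoothAt K (RingHom.ker G₀) :=
    Groth.Agent.EtAlg.DiagSmooth.isSmoothAt_of_point G₀ hfd₀
  have hover : (RingHom.ker G₀).LiesOver q := ⟨by
    ext c
    change algebraMap C₀ B c ∈ IsLocalRing.maximalIdeal B ↔ G₀ (1 ⊗ₜ[A] c) = 0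
    simp only [G₀, Algebra.TensorProduct.lift_tmul, map_one, one_mul]
    exact (IsLocalRing.residue_eq_zero_iff _).symm⟩
  have hflat : Module.Flat A (Localization.AtPrime q) :=
    Module.Flat.of_linearEquiv (M := B)
      ((IsLocalization.algEquiv q.primeCompl (Localization.AtPrime q) B).toLinearEquiv.restrictScalars A)
  have : Algebra.IsSmoothAt A q :=
    Groth.Agent.Locus.FiberCriterion.isSmoothAt_of_flat_of_field (RingHom.ker G₀) q hflat hsm
  obtain ⟨g, hg, hgsm⟩ := Algebra.IsSmoothAt.exists_notMem_smooth A q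
  let C := Localization.Away g
  have hgu : IsUnit (algebraMap C₀ B g) := IsLocalization.map_units B (⟨g, hg⟩ : q.primeCompl)
  let φ : C →+* B := IsLocalization.Away.lift g hgu
  letI : Algebra C B := φ.toAlgebra
  have : IsScalarTower C₀ C B := IsScalarTower.of_algebraMap_eq fun c =>
    (IsLocalization.Away.lift_eq g hgu c).symm
  have : IsScalarTower A C B := IsScalarTower.of_algebraMap_eq fun a => by
    rw [IsScalarTower.algebraMap_apply A C₀ C, ← IsScalarTower.algebraMap_apply C₀ C B,
      ← IsScalarTower.algebraMap_apply A C₀ B]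
  let q' : Ideal C := (IsLocalRing.maximalIdeal B).comap (algebraMap C B)
  have : q'.IsPrime := Ideal.comap_isPrime _ _
  refine ⟨C, inferInstance, inferInstance, inferInstance, inferInstance, q', inferInstance, hgsm, ?_⟩
  have hle : Submonoid.powers g ≤ q.primeCompl := Submonoid.powers_le.mpr hg
  have : IsLocalization q.primeCompl B := hBq
  have hloc := IsLocalization.isLocalization_of_submonoid_le C B (Submonoid.powers g) q.primeCompl hle
  refine IsLocalization.of_le (S := B) (q.primeCompl.map (algebraMap C₀ C)) q'.primeCompl ?_ ?_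
  · rintro _ ⟨c, hc, rfl⟩
    show algebraMap C B (algebraMap C₀ C c) ∉ IsLocalRing.maximalIdeal B
    rw [← IsScalarTower.algebraMap_apply C₀ C B]
    exact hc
  · intro r hr
    by_contra hu
    exact hr hu

end Groth.Agent.S6503
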