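import Groth.Statements.S6524
import Groth.Agent.Lead.SiteCoh.Baer
import Groth.Agent.Lead.SiteCoh.Basic
-- import your own Groth.Agent.* helpers here

set_option autoImplicit false
universe u
open CategoryTheory
open CohSite

namespace Groth.Agent.S6524

/-- Let (C, J) be a small site and I an abelian sheaf. Suppose that for every object X of C, every
abelian subsheaf S of the free abelian sheaf Z_X^# on X (given as a monomorphism S → Z_X^#) and
every morphism S → I, the morphism extends to Z_X^# → I. Then I is an injective abelian sheaf. -/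
theorem result {C : Type u} [SmallCategory C]
    (J : GrothendieckTopology C) (I : Sheaf J AddCommGrpCat.{u})
    (h : ∀ (X : C) (S : Sheaf J AddCommGrpCat.{u}) (i : S ⟶ CohCx.freeSheaf J X) [Mono i] (φ : S ⟶ I),
      ∃ ψ : CohCx.freeSheaf J X ⟶ I, i ≫ ψ = φ) :
    Injective I := by
  refine Groth.Agent.Lead.SiteCoh.Baer.injective_of_extends (fun X : C => CohCx.freeSheaf J X) I
    (fun {S B} p _ hp => ?_) (fun X S j _ φ => h X S j φ)
  by_contra hne
  push Not at hne
  apply hp
  haveI : Mono p.hom := inferInstanceAs (Mono ((sheafToPresheaf J AddCommGrpCat.{u}).map p))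
  haveI : ∀ V, IsIso (p.hom.app V) := fun V => by
    refine (ConcreteCategory.isIso_iff_bijective _).2
      ⟨(AddCommGrpCat.mono_iff_injective _).1 inferInstance, fun y => ?_⟩
    obtain ⟨a, ha⟩ := hne V.unop ((Groth.Agent.Lead.SiteCoh.freeEquiv V.unop B).symm y)
    exact ⟨Groth.Agent.Lead.SiteCoh.freeEquiv V.unop S a, by
      rw [← Groth.Agent.Lead.SiteCoh.freeEquiv_comp, ha, Equiv.apply_symm_apply]⟩
  haveI : IsIso p.hom := NatIso.isIso_of_isIso_app _
  haveI : IsIso ((sheafToPresheaf J AddCommGrpCat.{u}).map p) := this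
  exact isIso_of_fully_faithful (sheafToPresheaf J AddCommGrpCat.{u}) p

end Groth.Agent.S6524
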