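import Groth.Statements.S6532
import Groth.Agent.Flat.TorPeriodic
import Mathlib.RingTheory.Polynomial.Basic
import Mathlib.RingTheory.MvPolynomial.Ideal

set_option autoImplicit false
universe u
open LCI

namespace Groth.Agent.S6532

/-- Let R' → R be a surjection of Noetherian rings whose kernel is generated by a single element f and
has square zero; let I ⊆ R be the image of the annihilator of f. Let S = R[x_1, …, x_n]/(f_1, …,
f_m) and let ∑ r_j f_j = 0 be a relation in R[x_1, …, x_n] such that (1) every coefficient of every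
r_j lies in I, and (2) there are lifts r'_j, f'_j in R'[x_1, …, x_n] and an element g with ∑ r'_j
f'_j = f g, where g maps to a non-nilpotent element of S/IS. Under these hypotheses, the
Tor-dimension of S over R is infinite (so S fails to be a perfect R-algebra). -/
theorem result {R' R : Type u} [CommRing R'] [CommRing R]
    [IsNoetherianRing R'] [IsNoetherianRing R] (π : R' →+* R) (hπ : Function.Surjective π)
    (f : R') (hker : RingHom.ker π = Ideal.span {f}) (hf : f * f = 0)
    {n m : ℕ} (fs r : Fin m → MvPolynomial (Fin n) R) (hrel : ∑ j, r j * fs j = 0)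
    (h1 : ∀ (j : Fin m) (d : Fin n →₀ ℕ),
      MvPolynomial.coeff d (r j) ∈ ((Ideal.span {f}).annihilator).map π)
    (r' f' : Fin m → MvPolynomial (Fin n) R') (g : MvPolynomial (Fin n) R')
    (hr' : ∀ j, MvPolynomial.map π (r' j) = r j) (hf' : ∀ j, MvPolynomial.map π (f' j) = fs j)
    (hsum : ∑ j, r' j * f' j = MvPolynomial.C f * g)
    (hg : ¬ IsNilpotent (Ideal.Quotient.mk
      (Ideal.span (Set.range fs) ⊔ (((Ideal.span {f}).annihilator).map π).map MvPolynomial.C)
      (MvPolynomial.map π g))) :
    ¬ DRing.HasFiniteTorDim R (MvPolynomial (Fin n) R ⧸ Ideal.span (Set.range fs)) := by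
  intro hfd
  letI : Algebra (MvPolynomial (Fin n) R') (MvPolynomial (Fin n) R) :=
    (MvPolynomial.map π).toAlgebra
  let Ann : Ideal R' := (Ideal.span {f}).annihilator
  have hAnn : ∀ a, a ∈ Ann ↔ f * a = 0 := fun a => by
    rw [Submodule.mem_annihilator_span_singleton, smul_eq_mul, mul_comm]
  have hfA : f ∈ Ann := (hAnn f).mpr hf
  obtain ⟨ι, _, _, e, M, hM, hrow, hcol⟩ := Groth.Agent.Flat.TorPeriodic.exists_factorization f' r'
  have hr'A : ∀ j, r' j ∈ Ann.map MvPolynomial.C := by
    intro j
    rw [MvPolynomial.mem_map_C_iff]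
    intro d
    obtain ⟨a, ha, hax⟩ := (Ideal.mem_map_iff_of_surjective π hπ).mp (h1 j d)
    have h0 : MvPolynomial.coeff d (r' j) - a ∈ Ideal.span {f} := by
      rw [← hker, RingHom.mem_ker, map_sub, hax, ← MvPolynomial.coeff_map, hr', sub_self]
    have h2 : MvPolynomial.coeff d (r' j) - a ∈ Ann :=
      Ideal.span_le.mpr (Set.singleton_subset_iff.mpr hfA) h0
    simpa using Ann.add_mem h2 ha
  obtain ⟨k, hk⟩ := Groth.Agent.Flat.TorPeriodic.exists_pow_mem
    (P' := MvPolynomial (Fin n) R') (P := MvPolynomial (Fin n) R) (MvPolynomial.map_surjective π hπ)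
    (MvPolynomial.C f)
    (by
      show RingHom.ker (MvPolynomial.map π) = _
      rw [MvPolynomial.ker_map, hker, Ideal.map_span, Set.image_singleton])
    (by rw [← MvPolynomial.C_mul, hf, MvPolynomial.C_0])
    (Ann.map MvPolynomial.C)
    (fun a => by
      rw [MvPolynomial.mem_map_C_iff, MvPolynomial.ext_iff]
      simp only [hAnn, MvPolynomial.coeff_C_mul, MvPolynomial.coeff_zero])
    (Ann.map π)
    (by
      show (Ann.map π).map MvPolynomial.C = (Ann.map MvPolynomial.C).map (MvPolynomial.map π)
      rw [Ideal.map_map, Ideal.map_map]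
      congr 1
      ext a : 1
      simp)
    e M g (by rw [hM, hsum]) (Ideal.span (Set.range fs))
    (fun i => by
      show MvPolynomial.map π (M e i) ∈ _
      have := Ideal.mem_map_of_mem (MvPolynomial.map π) (hrow i)
      rw [Ideal.map_span, ← Set.range_comp] at this
      rwa [show (MvPolynomial.map π) ∘ f' = fs from funext hf'] at this)
    (fun i => Ideal.span_le.mpr (Set.range_subset_iff.mpr hr'A) (hcol i))
    hfd
  refine hg ⟨k, ?_⟩
  rw [← map_pow, Ideal.Quotient.eq_zero_iff_mem]
  refine (sup_le_sup le_rfl (le_of_eq ?_) : _ ⊔ (Ann.map MvPolynomial.C).map (MvPolynomial.map π) ≤ _ ⊔ (Ann.map π).map MvPolynomial.C) hk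
  rw [Ideal.map_map, Ideal.map_map]
  congr 1
  ext a : 1
  simp

end Groth.Agent.S6532
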