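import Groth.Statements.S6559
import Groth.Agent.Misc9.ExtendAt
-- import your own Groth.Agent.* helpers here

set_option autoImplicit false
set_option backward.isDefEq.respectTransparency false
universe u
open CategoryTheory CategoryTheory.Limits AlgebraicGeometry
open Curves

namespace Groth.Agent.S6559

/-- Let k be a field, X a curve over k (integral, separated and of finite type over k, of dimension
one), Y a proper variety over k (integral, proper over k), U ⊆ X a nonempty open and f : U → Y a
morphism over k. If the local ring of X at a closed point x is a discrete valuation ring, then f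
extends to a k-morphism U' → Y on some open U' ⊇ U of X containing x. -/
theorem result (k : Type u) [Field k]
    (X Y : Scheme.{u}) [X.Over (Spec (CommRingCat.of k))] [Y.Over (Spec (CommRingCat.of k))]
    [IsIntegral X] [IsSeparated (X ↘ (Spec (CommRingCat.of k)))] [LocallyOfFiniteType (X ↘ (Spec (CommRingCat.of k)))] [QuasiCompact (X ↘ (Spec (CommRingCat.of k)))] (hdX : topologicalKrullDim X = 1)
    [IsIntegral Y] [IsProper (Y ↘ (Spec (CommRingCat.of k)))]
    (U : X.Opens) (hU : (U : Set X).Nonempty) (f : (U : Scheme.{u}) ⟶ Y) (hf : f ≫ (Y ↘ (Spec (CommRingCat.of k))) = U.ι ≫ (X ↘ (Spec (CommRingCat.of k))))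
    (x : X) (hx : IsClosed ({x} : Set X)) (hdvr : IsDiscreteValuationRing (X.presheaf.stalk x)) :
    ∃ (U' : X.Opens) (hUU' : U ≤ U') (f' : (U' : Scheme.{u}) ⟶ Y), x ∈ U' ∧
      f' ≫ (Y ↘ (Spec (CommRingCat.of k))) = U'.ι ≫ (X ↘ (Spec (CommRingCat.of k))) ∧ X.homOfLE hUU' ≫ f' = f := by
  haveI : IsDomain (X.presheaf.stalk x) := inferInstance
  haveI := hdvr
  haveI : ValuationRing (X.presheaf.stalk x) := inferInstance
  let K := FractionRing (X.presheaf.stalk x)
  have hz : ∃ z ∈ U, z ⤳ x := by
    obtain ⟨z, hz⟩ := hU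
    exact ⟨genericPoint X, (genericPoint_specializes z).mem_open U.2 hz, genericPoint_specializes x⟩
  let e := IsOpenImmersion.lift U.ι _ (Misc9.ExtendAt.range_gen_subset x K U hz)
  have he : e ≫ U.ι = Misc9.ExtendAt.gen x K := IsOpenImmersion.lift_fac _ _ _
  obtain ⟨φ, h1, h2⟩ := Misc9.ExtendAt.exists_lift_proper x K _ _ U f hf e he
  obtain ⟨W, g, hxW, hg, hc⟩ := Misc9.ExtendAt.spread x K _ _ U f hf e he φ h1 h2
  obtain ⟨U', h, hx', f', hf1, hf2⟩ := Misc9.ExtendAt.glue_two x _ _ U W f g hf hg hxW hc
  exact ⟨U', h, f', hx', hf1, hf2⟩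

end Groth.Agent.S6559
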