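import Groth.Statements.S6580
import Mathlib

set_option autoImplicit false
universe v u
open CategoryTheory CategoryTheory.Limits
open CohDer

namespace Groth.Agent.S6580

open CategoryTheory CategoryTheory.Limits CategoryTheory.Pretriangulated ZeroObject

open CategoryTheory.Pretriangulated in
/-- Let (X, Y, Z, f, g, h) be a distinguished triangle of a pretriangulated category, and let a : X ⟶ X
and c : Z ⟶ Z be idempotents with h ≫ a⟦1⟧ = c ≫ h. Then there is an idempotent b : Y ⟶ Y such that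
(a, b, c) is an endomorphism of the triangle. -/
theorem result {D : Type u} [Category.{v} D] [Preadditive D] [HasZeroObject D] [HasShift D ℤ]
    [∀ n : ℤ, (shiftFunctor D n).Additive] [Pretriangulated D]
    (T : Triangle D) (hT : T ∈ distinguishedTriangles) (a : T.obj₁ ⟶ T.obj₁) (c : T.obj₃ ⟶ T.obj₃)
    (ha : a ≫ a = a) (hc : c ≫ c = c) (comm : T.mor₃ ≫ (shiftFunctor D (1 : ℤ)).map a = c ≫ T.mor₃) :
    ∃ b : T.obj₂ ⟶ T.obj₂, b ≫ b = b ∧ T.mor₁ ≫ b = a ≫ T.mor₁ ∧ T.mor₂ ≫ c = b ≫ T.mor₂ := by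
  obtain ⟨b, hb1, hb2⟩ : ∃ b : T.obj₂ ⟶ T.obj₂, T.mor₁ ≫ b = a ≫ T.mor₁ ∧ T.mor₂ ≫ c = b ≫ T.mor₂ := by
    have hR := rot_of_distTriang _ hT
    obtain ⟨φ, h1, h2⟩ := complete_distinguished_triangle_morphism₂ T T hT hT a c comm
    exact ⟨φ, h1, h2⟩
  set d := b ≫ b - b with hd
  have hfd : T.mor₁ ≫ d = 0 := by
    simp [hd, reassoc_of% hb1, hb1, reassoc_of% ha]
  have hdg : d ≫ T.mor₂ = 0 := by
    simp [hd, ← hb2, ← reassoc_of% hb2, hc]
  obtain ⟨w, hw⟩ := Triangle.yoneda_exact₂ T hT d hfd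
  obtain ⟨v, hv⟩ := Triangle.coyoneda_exact₂ T hT d hdg
  have hdd : d ≫ d = 0 := by
    calc d ≫ d = (v ≫ T.mor₁) ≫ (T.mor₂ ≫ w) := by rw [← hw, ← hv]
      _ = 0 := by simp [comp_distTriang_mor_zero₁₂_assoc T hT]
  refine ⟨3 • (b ≫ b) - 2 • (b ≫ b ≫ b), ?_, ?_, ?_⟩
  · have key : (3 • (b ≫ b) - 2 • (b ≫ b ≫ b)) ≫ (3 • (b ≫ b) - 2 • (b ≫ b ≫ b)) -
        (3 • (b ≫ b) - 2 • (b ≫ b ≫ b)) = 4 • (b ≫ b ≫ d ≫ d) - 4 • (b ≫ d ≫ d) - 3 • (d ≫ d) := by
      simp only [hd, Preadditive.comp_sub, Preadditive.sub_comp, Preadditive.comp_nsmul,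
        Preadditive.nsmul_comp, Category.assoc]
      abel
    rw [hdd] at key
    exact sub_eq_zero.mp (by simpa using key)
  · simp [reassoc_of% hb1, hb1, reassoc_of% ha]
    abel
  · simp [← hb2, ← reassoc_of% hb2, hc]
    abel

end Groth.Agent.S6580
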