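import Groth.Statements.S6582
import Mathlib.CategoryTheory.Triangulated.Subcategory
import Mathlib.CategoryTheory.Limits.Preserves.Shapes.Biproducts

set_option autoImplicit false
universe v u v' u'
open CategoryTheory CategoryTheory.Limits
open CohDer

namespace Groth.Agent.S6582

open CategoryTheory.Pretriangulated in
/-- Let F : D ⥤ D' be an exact functor of pretriangulated categories. The full subcategory of D on the
objects X with F(X) ≅ 0 is a strictly full pretriangulated subcategory (it contains a zero object,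
is stable under shifts and isomorphisms and is closed under extensions) and it is saturated:
whenever X ⊞ Y belongs to it, so do X and Y. -/
theorem result {D : Type u} [Category.{v} D] [Preadditive D] [HasZeroObject D] [HasShift D ℤ]
    [∀ n : ℤ, (shiftFunctor D n).Additive] [Pretriangulated D]
    {D' : Type u'} [Category.{v'} D'] [Preadditive D'] [HasZeroObject D'] [HasShift D' ℤ]
    [∀ n : ℤ, (shiftFunctor D' n).Additive] [Pretriangulated D']
    (F : D ⥤ D') [F.Additive] [F.CommShift ℤ] [F.IsTriangulated] :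
    (ObjectProperty.IsTriangulated (fun X : D => IsZero (F.obj X))) ∧
    (ObjectProperty.IsClosedUnderIsomorphisms (fun X : D => IsZero (F.obj X))) ∧
    (∀ X Y : D, IsZero (F.obj (X ⊞ Y)) → IsZero (F.obj X) ∧ IsZero (F.obj Y)) := by
  open scoped ZeroObject in
  refine ⟨{ exists_zero := ⟨0, isZero_zero D, F.map_isZero (isZero_zero D)⟩
            isStableUnderShiftBy := fun n => ⟨fun X hX => IsZero.of_iso ((shiftFunctor D' n).map_isZero hX) ((F.commShiftIso n).app X)⟩
            ext₂' := fun T hT h₁ h₃ => ⟨_, (Pretriangulated.Triangle.isZero₂_iff _ (F.map_distinguished T hT)).2 ⟨h₁.eq_of_src _ _, h₃.eq_of_tgt _ _⟩, ⟨Iso.refl _⟩⟩ },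
    ⟨fun {X Y} e hX => IsZero.of_iso hX (F.mapIso e.symm)⟩, fun X Y h => ?_⟩
  constructor <;> rw [IsZero.iff_id_eq_zero, ← F.map_id]
  · rw [show 𝟙 X = biprod.inl ≫ (biprod.fst : X ⊞ Y ⟶ X) by simp, F.map_comp, h.eq_of_src (F.map biprod.fst) 0, comp_zero]
  · rw [show 𝟙 Y = biprod.inr ≫ (biprod.snd : X ⊞ Y ⟶ Y) by simp, F.map_comp, h.eq_of_src (F.map biprod.snd) 0, comp_zero]

end Groth.Agent.S6582
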