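import Groth.Statements.S6584
import Mathlib

set_option autoImplicit false
universe v u v' u'
open CategoryTheory CategoryTheory.Limits
open CohDer

namespace Groth.Agent.S6584

open CategoryTheory CategoryTheory.Limits CategoryTheory.Pretriangulated ZeroObject

open CategoryTheory.Pretriangulated in
/-- Let H : D ⥤ A be a homological functor from a pretriangulated category to an abelian category. The
full subcategory of D on the objects X with H(X⟦n⟧) = 0 for all n ≫ 0 is a strictly full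
pretriangulated subcategory (zero object, stable under shifts and isomorphisms, closed under
extensions) and is saturated: if X ⊞ Y belongs to it then so do X and Y. -/
theorem result {D : Type u} [Category.{v} D] [Preadditive D] [HasZeroObject D] [HasShift D ℤ]
    [∀ n : ℤ, (shiftFunctor D n).Additive] [Pretriangulated D]
    {A : Type u'} [Category.{v'} A] [Abelian A] (H : D ⥤ A) [H.IsHomological] :
    (ObjectProperty.IsTriangulated (fun X : D => ∃ N : ℤ, ∀ n : ℤ, N ≤ n → IsZero (H.obj ((shiftFunctor D n).obj X)))) ∧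
    (ObjectProperty.IsClosedUnderIsomorphisms (fun X : D => ∃ N : ℤ, ∀ n : ℤ, N ≤ n → IsZero (H.obj ((shiftFunctor D n).obj X)))) ∧
    (∀ X Y : D, (∃ N : ℤ, ∀ n : ℤ, N ≤ n → IsZero (H.obj ((shiftFunctor D n).obj (X ⊞ Y)))) →
      (∃ N : ℤ, ∀ n : ℤ, N ≤ n → IsZero (H.obj ((shiftFunctor D n).obj X))) ∧
      (∃ N : ℤ, ∀ n : ℤ, N ≤ n → IsZero (H.obj ((shiftFunctor D n).obj Y)))) := by
  let P : ObjectProperty D := fun X => ∃ N : ℤ, ∀ n : ℤ, N ≤ n → IsZero (H.obj ((shiftFunctor D n).obj X))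
  haveI hiso : P.IsClosedUnderIsomorphisms := ⟨fun e ⟨N, h⟩ => ⟨N, fun n hn =>
    (h n hn).of_iso (H.mapIso ((shiftFunctor D n).mapIso e.symm))⟩⟩
  refine ⟨?_, hiso, fun X Y ⟨N, h⟩ => ⟨⟨N, fun n hn => ?_⟩, ⟨N, fun n hn => ?_⟩⟩⟩
  · change P.IsTriangulated
    exact
    { exists_zero := ⟨0, isZero_zero D, 0, fun n _ => H.map_isZero ((shiftFunctor D n).map_isZero (isZero_zero D))⟩
      isStableUnderShiftBy := fun a => ⟨fun X ⟨N, h⟩ => ⟨N - a, fun n hn =>
        (h (a + n) (by omega)).of_iso (H.mapIso ((shiftFunctorAdd D a n).app X).symm)⟩⟩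
      ext₂' := fun T hT ⟨N₁, h₁⟩ ⟨N₃, h₃⟩ => P.le_isoClosure _ ⟨max N₁ N₃, fun n hn => by
        have hex := H.map_distinguished_exact _ (Triangle.shift_distinguished T hT n)
        exact hex.isZero_X₂ ((h₁ n (by omega)).eq_of_src _ _) ((h₃ n (by omega)).eq_of_tgt _ _)⟩ }
  all_goals rw [IsZero.iff_id_eq_zero]
  · have e : 𝟙 (H.obj ((shiftFunctor D n).obj X)) =
        H.map ((shiftFunctor D n).map biprod.inl) ≫ H.map ((shiftFunctor D n).map (biprod.fst : X ⊞ Y ⟶ X)) := by
      simp [← Functor.map_comp]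
    rw [e, (h n hn).eq_of_tgt (H.map ((shiftFunctor D n).map biprod.inl)) 0, zero_comp]
  · have e : 𝟙 (H.obj ((shiftFunctor D n).obj Y)) =
        H.map ((shiftFunctor D n).map biprod.inr) ≫ H.map ((shiftFunctor D n).map (biprod.snd : X ⊞ Y ⟶ Y)) := by
      simp [← Functor.map_comp]
    rw [e, (h n hn).eq_of_tgt (H.map ((shiftFunctor D n).map biprod.inr)) 0, zero_comp]

end Groth.Agent.S6584
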