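import Groth.Statements.S6586
import Mathlib.CategoryTheory.Triangulated.Orthogonal
import Mathlib.CategoryTheory.Triangulated.Generators

set_option autoImplicit false
universe v u
open CategoryTheory CategoryTheory.Limits
open CohDer

namespace Groth.Agent.S6586

/-- Fix a triangulated category D together with an object E in it. Suppose E classically generates D,
i.e. ⟨E⟩ = D; then E is a generator of D: an object K with Hom(E, K⟦n⟧) = 0 for all n is zero. -/
theorem result {D : Type u} [Category.{v} D] [Preadditive D] [HasZeroObject D] [HasShift D ℤ]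
    [∀ n : ℤ, (shiftFunctor D n).Additive] [Pretriangulated D] [IsTriangulated D]
    (E : D) (hE : (ObjectProperty.singleton E).IsClassicalTriangulatedGenerator) :
    CohDer.Generates (fun _ : PUnit.{1} => E) := by
  intro K hK
  have hid : 𝟙 K = 0 := by
    let Q : ObjectProperty D := fun Y => ∀ (n : ℤ) (g : Y ⟶ (shiftFunctor D n).obj K), g = 0
    let P : ObjectProperty D := fun Y => ∃ n : ℤ, Nonempty (Y ≅ (shiftFunctor D n).obj K)
    haveI : P.IsStableUnderShift ℤ := ⟨fun a => ⟨fun Y ⟨n, ⟨e⟩⟩ =>
      ⟨n + a, ⟨(shiftFunctor D a).mapIso e ≪≫ ((shiftFunctorAdd D n a).app K).symm⟩⟩⟩⟩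
    haveI : P.leftOrthogonal.IsStableUnderRetracts := ⟨fun r hY W f hW => by
      rw [← Category.id_comp f, ← r.retract, Category.assoc, hY (r.r ≫ f) hW, Limits.comp_zero]⟩
    have hle : (ObjectProperty.singleton E).triangEnvelope ≤ P.leftOrthogonal := by
      rw [ObjectProperty.triangEnvelope_le_iff, ObjectProperty.singleton_le_iff]
      rintro Y f ⟨n, ⟨e⟩⟩
      rw [← cancel_mono e.hom, Limits.zero_comp]
      exact hK PUnit.unit n _
    exact hle K (by rw [hE]; trivial) (𝟙 K) ⟨0, ⟨((shiftFunctorZero D ℤ).app K).symm⟩⟩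
  exact (IsZero.iff_id_eq_zero K).2 hid

end Groth.Agent.S6586
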