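import Groth.Statements.S6587
import Groth.Agent.ProTri.Basic

set_option autoImplicit false
universe v u
open CategoryTheory CategoryTheory.Limits Opposite
open CohDer

namespace Groth.Agent.S6587

open CategoryTheory.Pretriangulated in
/-- Let D be a triangulated category and let X_n → Y_n → Z_n → X_n⟦1⟧ be an inverse system of
distinguished triangles of D indexed by ℕ (levelwise maps f, g, h of inverse systems, each level
distinguished). If the inverse system (Z_n) is pro-zero, then the levelwise map f : (X_n) → (Y_n) is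
a pro-isomorphism. -/
theorem result {D : Type u} [Category.{v} D] [Preadditive D] [HasZeroObject D] [HasShift D ℤ]
    [∀ n : ℤ, (shiftFunctor D n).Additive] [Pretriangulated D] [IsTriangulated D]
    (X Y Z : ARSys.PS D) (f : X ⟶ Y) (g : Y ⟶ Z) (h : Z ⟶ X ⋙ shiftFunctor D (1 : ℤ))
    (hT : ∀ n : ℕ, Triangle.mk (f.app (op n)) (g.app (op n)) (h.app (op n)) ∈ distinguishedTriangles)
    (hZ : DerCA.IsProZero Z) :
    DerCA.IsProIso f := by
  refine ProTri.isProIso_of_kills X Y f _ (fun n => g.app (op n)) (fun n => h.app (op n)) hT fun n => ?_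
  obtain ⟨m, hm, hz⟩ := hZ n
  refine ⟨m, hm, ?_, ?_⟩
  · rw [ProTri.tr_nat g hm, hz, comp_zero]
  · refine (h.naturality _).symm.trans ?_
    change ARSys.tr Z hm ≫ h.app (op n) = 0
    rw [hz, zero_comp]

end Groth.Agent.S6587
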