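import Groth.Statements.S6592
import Groth.Prelude.Def_DerLim
import Mathlib.Algebra.BigOperators.Intervals

set_option autoImplicit false
universe v u
open CategoryTheory CategoryTheory.Limits
open DerLim

namespace Groth.Agent.S6592

open CategoryTheory.Pretriangulated in
lemma isIso_of_unipotent {D : Type u} [Category.{v} D] [Preadditive D] [Limits.HasZeroObject D]
    [HasShift D ℤ] [∀ n : ℤ, (shiftFunctor D n).Additive] [Pretriangulated D] (T : Triangle D)
    (hT : T ∈ distTriang D) (c : T.obj₃ ⟶ T.obj₃) (h₂ : T.mor₂ ≫ c = T.mor₂)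
    (h₃ : c ≫ T.mor₃ = T.mor₃) : IsIso c := by
  obtain ⟨w, hw⟩ := Triangle.yoneda_exact₃ T hT (c - 𝟙 _)
    (by rw [Preadditive.comp_sub, Category.comp_id, h₂, sub_self])
  have h4 : (c - 𝟙 _) ≫ T.mor₃ = 0 := by
    rw [Preadditive.sub_comp, Category.id_comp, h₃, sub_self]
  have h5 : (c - 𝟙 _) ≫ (c - 𝟙 _) = 0 := by
    calc (c - 𝟙 _) ≫ (c - 𝟙 _) = (c - 𝟙 _) ≫ T.mor₃ ≫ w := by rw [← hw]
      _ = 0 := by rw [← Category.assoc, h4, Limits.zero_comp]
  simp only [Preadditive.comp_sub, Preadditive.sub_comp, Category.comp_id, Category.id_comp] at h5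
  have h6 : c ≫ c = c + c - 𝟙 _ := by
    rw [← sub_eq_zero, ← h5]
    abel
  refine ⟨𝟙 _ + 𝟙 _ - c, ?_, ?_⟩ <;>
  · simp only [Preadditive.comp_sub, Preadditive.sub_comp, Preadditive.comp_add,
      Preadditive.add_comp, Category.comp_id, Category.id_comp, h6]
    abel

/-- Let D be a triangulated category, (K_m, f_m) a system of objects of D indexed by ℕ (given as a
functor F : ℕ ⥤ D) and n₁ < n₂ < … a strictly increasing sequence. Assume ⨁ K_m and ⨁ K_{n_i} exist.
If L is a homotopy colimit of (K_m) and L' a homotopy colimit of the subsequence (K_{n_i}) (with the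
composite transition maps), then there is an isomorphism L' ≅ L under which the structure map
K_{n_i} ⟶ L' corresponds to K_{n_i} ⟶ L for every i. -/
theorem result {D : Type u} [Category.{v} D] [Preadditive D] [HasZeroObject D] [HasShift D ℤ]
    [∀ n : ℤ, (shiftFunctor D n).Additive] [Pretriangulated D] [IsTriangulated D]
    (F : ℕ ⥤ D) (n : ℕ → ℕ) (hn : StrictMono n)
    [HasCoproduct (fun m : ℕ => F.obj m)] [HasCoproduct (fun i : ℕ => F.obj (n i))]
    (L : D) (ι : ∀ m : ℕ, F.obj m ⟶ L)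
    (hL : DerLim.IsHocolim (fun m : ℕ => F.obj m) (fun m : ℕ => F.map (homOfLE (Nat.le_succ m))) L ι)
    (L' : D) (ι' : ∀ i : ℕ, F.obj (n i) ⟶ L')
    (hL' : DerLim.IsHocolim (fun i : ℕ => F.obj (n i)) (fun i : ℕ => F.map (homOfLE (hn.monotone (Nat.le_succ i)))) L' ι') :
    ∃ e : L' ≅ L, ∀ i : ℕ, ι' i ≫ e.hom = ι (n i) := by
  classical
  obtain ⟨δ, hT⟩ := hL
  obtain ⟨δ', hT'⟩ := hL'
  let tr : ∀ {k l : ℕ}, k ≤ l → (F.obj k ⟶ F.obj l) := fun h => F.map (homOfLE h)
  have tr_id : ∀ (k : ℕ) (h : k ≤ k), tr h = 𝟙 (F.obj k) := fun k h => by simp [tr]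
  have tr_comp : ∀ {k l p : ℕ} (h : k ≤ l) (h' : l ≤ p), tr h ≫ tr h' = tr (h.trans h') :=
    fun h h' => by simp [tr, ← F.map_comp, homOfLE_comp]
  have hj : ∀ m, ∃ i, m ≤ n i := fun m => ⟨m, hn.id_le m⟩
  let j : ℕ → ℕ := fun m => Nat.find (hj m)
  have j_spec : ∀ m, m ≤ n (j m) := fun m => Nat.find_spec (hj m)
  have j_min : ∀ m i, m ≤ n i → j m ≤ i := fun m i h => Nat.find_min' (hj m) h
  have j_n : ∀ i, j (n i) = i := fun i => le_antisymm (j_min _ _ le_rfl) (hn.le_iff_le.1 (j_spec _))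
  -- behaviour of `j` at successors
  have j_same : ∀ m, n (j m) ≠ m → j (m + 1) = j m := fun m h =>
    le_antisymm (j_min _ _ (lt_of_le_of_ne (j_spec m) (Ne.symm h)))
      (j_min _ _ ((Nat.le_succ m).trans (j_spec _)))
  have j_next : ∀ m, n (j m) = m → j (m + 1) = j m + 1 := fun m h => by
    refine le_antisymm (j_min _ _ ?_) ?_
    · have := hn (Nat.lt_add_one (j m))
      omega
    · by_contra hc
      have := hn.monotone (Nat.lt_succ_iff.1 (not_le.1 hc))
      have := j_spec (m + 1)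
      omega
  let Φ : ∀ i, ℕ → (F.obj (n i) ⟶ ∐ (fun m : ℕ => F.obj m)) := fun i m =>
    if h : n i ≤ m then tr h ≫ Limits.Sigma.ι (fun m : ℕ => F.obj m) m else 0
  let a : (∐ (fun i : ℕ => F.obj (n i))) ⟶ ∐ (fun m : ℕ => F.obj m) := Limits.Sigma.desc fun i => ∑ m ∈ Finset.Ico (n i) (n (i + 1)), Φ i m
  let θ : (∐ (fun i : ℕ => F.obj (n i))) ⟶ ∐ (fun m : ℕ => F.obj m) := Limits.Sigma.desc fun i => Limits.Sigma.ι (fun m : ℕ => F.obj m) (n i)
  let ρ : (∐ (fun m : ℕ => F.obj m)) ⟶ ∐ (fun i : ℕ => F.obj (n i)) := Limits.Sigma.desc fun m => tr (j_spec m) ≫ Limits.Sigma.ι (fun i : ℕ => F.obj (n i)) (j m)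
  let b : (∐ (fun m : ℕ => F.obj m)) ⟶ ∐ (fun i : ℕ => F.obj (n i)) := Limits.Sigma.desc fun m =>
    if n (j m) = m then tr (j_spec m) ≫ Limits.Sigma.ι (fun i : ℕ => F.obj (n i)) (j m) else 0
  let Ψ : ∀ m, ℕ → (F.obj m ⟶ ∐ (fun m : ℕ => F.obj m)) := fun m k =>
    if h : m ≤ k then tr h ≫ Limits.Sigma.ι (fun m : ℕ => F.obj m) k else 0
  let h : (∐ (fun m : ℕ => F.obj m)) ⟶ ∐ (fun m : ℕ => F.obj m) := Limits.Sigma.desc fun m => -∑ k ∈ Finset.Ico m (n (j m)), Ψ m k
  let u : (∐ (fun m : ℕ => F.obj m)) ⟶ ∐ (fun m : ℕ => F.obj m) :=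
    𝟙 _ - DerLim.shiftMap (fun m : ℕ => F.obj m) (fun m : ℕ => F.map (homOfLE (Nat.le_succ m)))
  let u' : (∐ (fun i : ℕ => F.obj (n i))) ⟶ ∐ (fun i : ℕ => F.obj (n i)) :=
    𝟙 _ - DerLim.shiftMap (fun i : ℕ => F.obj (n i)) (fun i : ℕ => F.map (homOfLE (hn.monotone (Nat.le_succ i))))
  have hu : ∀ m, Limits.Sigma.ι (fun m : ℕ => F.obj m) m ≫ u =
      Limits.Sigma.ι (fun m : ℕ => F.obj m) m - tr (Nat.le_succ m) ≫ Limits.Sigma.ι (fun m : ℕ => F.obj m) (m + 1) := fun m => by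
    simp only [u, DerLim.shiftMap, Preadditive.comp_sub, Category.comp_id, Limits.Sigma.ι_desc]
    rfl
  have hu' : ∀ i, Limits.Sigma.ι (fun i : ℕ => F.obj (n i)) i ≫ u' =
      Limits.Sigma.ι (fun i : ℕ => F.obj (n i)) i - tr (hn.monotone (Nat.le_succ i)) ≫ Limits.Sigma.ι (fun i : ℕ => F.obj (n i)) (i + 1) := fun i => by
    simp only [u', DerLim.shiftMap, Preadditive.comp_sub, Category.comp_id, Limits.Sigma.ι_desc]
    rfl
  have haθ : a ≫ u = u' ≫ θ := by
    refine Limits.Sigma.hom_ext _ _ fun i => ?_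
    rw [← Category.assoc, ← Category.assoc, hu']
    simp only [a, θ, Preadditive.sub_comp, Category.assoc, Limits.Sigma.ι_desc,
      Preadditive.sum_comp]
    have hterm : ∀ m ∈ Finset.Ico (n i) (n (i + 1)), Φ i m ≫ u = Φ i m - Φ i (m + 1) := by
      intro m hm
      have h1 : n i ≤ m := (Finset.mem_Ico.1 hm).1
      simp only [Φ, dif_pos h1, dif_pos (h1.trans (Nat.le_succ m)), Category.assoc, hu,
        Preadditive.comp_sub]
      rw [← Category.assoc, tr_comp]
    rw [Finset.sum_congr rfl hterm, Finset.sum_Ico_eq_sum_range]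
    refine (Finset.sum_range_sub' (fun k => Φ i (n i + k)) (n (i + 1) - n i)).trans ?_
    simp only [add_zero, Nat.add_sub_cancel' (hn.monotone (Nat.le_succ i))]
    simp only [Φ, dif_pos le_rfl, dif_pos (hn.monotone (Nat.le_succ i)), tr_id, Category.id_comp]
  have hρ : u ≫ ρ = b ≫ u' := by
    refine Limits.Sigma.hom_ext _ _ fun m => ?_
    rw [← Category.assoc, ← Category.assoc, hu]
    simp only [ρ, b, Preadditive.sub_comp, Category.assoc, Limits.Sigma.ι_desc]
    rw [← Category.assoc, tr_comp]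
    by_cases hm : n (j m) = m
    · rw [if_pos hm, Category.assoc, hu', Preadditive.comp_sub, ← Category.assoc, tr_comp]
      congr 1
      have : ∀ (p : ℕ) (hp : j (m + 1) = p) (h1 : m ≤ n (j (m + 1))) (h2 : m ≤ n p),
          tr h1 ≫ Limits.Sigma.ι (fun i : ℕ => F.obj (n i)) (j (m + 1)) = tr h2 ≫ Limits.Sigma.ι (fun i : ℕ => F.obj (n i)) p := by
        intro p hp h1 h2
        subst hp
        rfl
      exact this _ (j_next m hm) _ _
    · rw [if_neg hm, Limits.zero_comp, sub_eq_zero]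
      have : ∀ (p : ℕ) (hp : j (m + 1) = p) (h1 : m ≤ n (j (m + 1))) (h2 : m ≤ n p),
          tr h1 ≫ Limits.Sigma.ι (fun i : ℕ => F.obj (n i)) (j (m + 1)) = tr h2 ≫ Limits.Sigma.ι (fun i : ℕ => F.obj (n i)) p := by
        intro p hp h1 h2
        subst hp
        rfl
      exact (this _ (j_same m hm) _ _).symm
  have hθρ : θ ≫ ρ = 𝟙 _ := by
    refine Limits.Sigma.hom_ext _ _ fun i => ?_
    simp only [θ, ρ, Limits.Sigma.ι_desc_assoc, Category.comp_id, Limits.Sigma.ι_desc]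
    have : ∀ (p : ℕ) (hp : p = i) (h1 : n i ≤ n p),
        tr h1 ≫ Limits.Sigma.ι (fun i : ℕ => F.obj (n i)) p = Limits.Sigma.ι (fun i : ℕ => F.obj (n i)) i := by
      intro p hp h1
      subst hp
      rw [tr_id, Category.id_comp]
    exact this _ (j_n i) _
  have hab : a ≫ b = 𝟙 _ := by
    refine Limits.Sigma.hom_ext _ _ fun i => ?_
    simp only [a, Limits.Sigma.ι_desc_assoc, Category.comp_id, Preadditive.sum_comp]
    rw [Finset.sum_eq_single (n i)]
    · simp only [Φ, dif_pos le_rfl, tr_id, Category.id_comp, b, Limits.Sigma.ι_desc,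
        if_pos (congrArg n (j_n i))]
      have : ∀ (p : ℕ) (hp : p = i) (h1 : n i ≤ n p),
          tr h1 ≫ Limits.Sigma.ι (fun i : ℕ => F.obj (n i)) p = Limits.Sigma.ι (fun i : ℕ => F.obj (n i)) i := by
        intro p hp h1
        subst hp
        rw [tr_id, Category.id_comp]
      exact this _ (j_n i) _
    · intro m hm hne
      have hm1 := Finset.mem_Ico.1 hm
      have hnot : n (j m) ≠ m := fun he => by
        have h1 : i ≤ j m := hn.le_iff_le.1 (by omega)
        have h2 : j m < i + 1 := hn.lt_iff_lt.1 (by omega)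
        exact hne (by rw [← he, show j m = i by omega])
      simp [Φ, dif_pos hm1.1, b, if_neg hnot]
    · intro hni
      exact absurd (Finset.mem_Ico.2 ⟨le_rfl, hn (Nat.lt_succ_self i)⟩) hni
  have hba : u ≫ h = b ≫ a - 𝟙 _ := by
    refine Limits.Sigma.hom_ext _ _ fun m => ?_
    rw [← Category.assoc, hu, Preadditive.sub_comp, Category.assoc, Preadditive.comp_sub,
      Category.comp_id]
    simp only [h, b, Limits.Sigma.ι_desc, Limits.Sigma.ι_desc_assoc, Preadditive.comp_neg,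
      Preadditive.comp_sum]
    have htr : ∀ k, m + 1 ≤ k → tr (Nat.le_succ m) ≫ Ψ (m + 1) k = Ψ m k := fun k hk => by
      simp only [Ψ, dif_pos hk, dif_pos ((Nat.le_succ m).trans hk), ← Category.assoc, tr_comp]
    rw [Finset.sum_congr rfl fun k hk => htr k (Finset.mem_Ico.1 hk).1]
    by_cases hm : n (j m) = m
    · rw [if_pos hm, Category.assoc]
      simp only [a, Limits.Sigma.ι_desc, Preadditive.comp_sum]
      rw [show Finset.Ico m (n (j m)) = ∅ by simp [hm], Finset.sum_empty, neg_zero, zero_sub,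
        neg_neg, j_next m hm]
      have hlt : n (j m) < n (j m + 1) := hn (Nat.lt_succ_self _)
      rw [Finset.sum_eq_sum_Ico_succ_bot hlt]
      have hphi : ∀ k, n (j m) ≤ k → tr (j_spec m) ≫ Φ (j m) k = Ψ m k := fun k hk => by
        simp only [Φ, Ψ, dif_pos hk, dif_pos (hm.symm.le.trans hk), ← Category.assoc, tr_comp]
      rw [hphi _ le_rfl,
        Finset.sum_congr rfl fun k hk =>
          hphi k ((Nat.le_succ _).trans (Finset.mem_Ico.1 hk).1), hm]
      simp only [Ψ, dif_pos le_rfl, tr_id, Category.id_comp, add_sub_cancel_left]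
    · rw [if_neg hm, Limits.zero_comp, zero_sub, j_same m hm,
        Finset.sum_eq_sum_Ico_succ_bot (lt_of_le_of_ne (j_spec m) (Ne.symm hm))]
      simp only [Ψ, dif_pos le_rfl, tr_id, Category.id_comp]
      abel
  have hq : ∀ {k l : ℕ} (hkl : k ≤ l), tr hkl ≫ ι l = ι k := by
    intro k l hkl
    induction l, hkl using Nat.le_induction with
    | base => rw [tr_id, Category.id_comp]
    | succ l hkl ih =>
      have hz : Limits.Sigma.ι (fun m : ℕ => F.obj m) l ≫ u ≫ Limits.Sigma.desc ι = 0 := by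
        rw [show u ≫ Limits.Sigma.desc ι = 0 from
          Pretriangulated.comp_distTriang_mor_zero₁₂ _ hT, Limits.comp_zero]
      rw [← Category.assoc, hu, Preadditive.sub_comp, Category.assoc, Limits.Sigma.ι_desc,
        Limits.Sigma.ι_desc, sub_eq_zero] at hz
      rw [← tr_comp hkl (Nat.le_succ l), Category.assoc, ← hz, ih]
  have hρθq : ρ ≫ θ ≫ Limits.Sigma.desc ι = Limits.Sigma.desc ι := by
    refine Limits.Sigma.hom_ext _ _ fun m => ?_
    simp only [ρ, θ, Limits.Sigma.ι_desc_assoc, Category.assoc, Limits.Sigma.ι_desc]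
    exact hq _
  obtain ⟨(e₁ : L' ⟶ L), (he₁ : Limits.Sigma.desc ι' ≫ e₁ = θ ≫ Limits.Sigma.desc ι),
      (he₁' : δ' ≫ a⟦(1 : ℤ)⟧' = e₁ ≫ δ)⟩ :=
    Pretriangulated.complete_distinguished_triangle_morphism _ _ hT' hT a θ haθ.symm
  obtain ⟨(e₂ : L ⟶ L'), (he₂ : Limits.Sigma.desc ι ≫ e₂ = ρ ≫ Limits.Sigma.desc ι'),
      (he₂' : δ ≫ b⟦(1 : ℤ)⟧' = e₂ ≫ δ')⟩ :=
    Pretriangulated.complete_distinguished_triangle_morphism _ _ hT hT' b ρ hρ
  have h12 : IsIso (e₁ ≫ e₂) := by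
    refine isIso_of_unipotent _ hT' (e₁ ≫ e₂) ?_ ?_
    · change Limits.Sigma.desc ι' ≫ e₁ ≫ e₂ = Limits.Sigma.desc ι'
      rw [reassoc_of% he₁, he₂, ← Category.assoc, hθρ, Category.id_comp]
    · change (e₁ ≫ e₂) ≫ δ' = δ'
      rw [Category.assoc, ← he₂', ← reassoc_of% he₁', ← Functor.map_comp, hab,
        CategoryTheory.Functor.map_id, Category.comp_id]
  have h21 : IsIso (e₂ ≫ e₁) := by
    refine isIso_of_unipotent _ hT (e₂ ≫ e₁) ?_ ?_
    · change Limits.Sigma.desc ι ≫ e₂ ≫ e₁ = Limits.Sigma.desc ι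
      rw [reassoc_of% he₂, he₁, hρθq]
    · change (e₂ ≫ e₁) ≫ δ = δ
      have hu0 : δ ≫ u⟦(1 : ℤ)⟧' = 0 := Pretriangulated.comp_distTriang_mor_zero₃₁ _ hT
      rw [Category.assoc, ← he₁', ← reassoc_of% he₂', ← Functor.map_comp,
        show b ≫ a = 𝟙 _ + u ≫ h by rw [hba]; abel, Functor.map_add,
        CategoryTheory.Functor.map_id, Functor.map_comp, Preadditive.comp_add, Category.comp_id,
        reassoc_of% hu0, Limits.zero_comp, add_zero]
  have : IsSplitMono e₁ := ⟨⟨⟨e₂ ≫ inv (e₁ ≫ e₂), by rw [← Category.assoc, IsIso.hom_inv_id]⟩⟩⟩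
  have : Epi e₁ := epi_of_epi e₂ e₁
  have : IsIso e₁ := isIso_of_epi_of_isSplitMono e₁
  refine ⟨asIso e₁, fun i => ?_⟩
  rw [asIso_hom, show ι' i = Limits.Sigma.ι (fun i : ℕ => F.obj (n i)) i ≫ Limits.Sigma.desc ι' from
    (Limits.Sigma.ι_desc _ _).symm, Category.assoc, he₁]
  simp only [θ, Limits.Sigma.ι_desc_assoc]
  exact Limits.Sigma.ι_desc _ _

end Groth.Agent.S6592
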