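import Groth.Statements.S6593
import Mathlib

set_option autoImplicit false
universe w v u
open CategoryTheory CategoryTheory.Limits
open CohDer

namespace Groth.Agent.S6593

open CategoryTheory CategoryTheory.Limits CategoryTheory.Pretriangulated

open CategoryTheory.Pretriangulated in
/-- Let D be a pretriangulated category and (X_i → Y_i → Z_i → X_i⟦1⟧)_{i ∈ I} a family of distinguished
triangles. If the direct sums ⨁ X_i, ⨁ Y_i, ⨁ Z_i exist, then ⨁ X_i → ⨁ Y_i → ⨁ Z_i → (⨁ X_i)⟦1⟧ is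
a distinguished triangle (the last map is induced by the composites Z_i → X_i⟦1⟧ → (⨁ X_i)⟦1⟧). -/
theorem result {D : Type u} [Category.{v} D] [Preadditive D] [HasZeroObject D] [HasShift D ℤ]
    [∀ n : ℤ, (shiftFunctor D n).Additive] [Pretriangulated D]
    {J : Type w} (T : J → Triangle D) (hT : ∀ j, T j ∈ distinguishedTriangles)
    [HasCoproduct (fun j => (T j).obj₁)] [HasCoproduct (fun j => (T j).obj₂)] [HasCoproduct (fun j => (T j).obj₃)] :
    Triangle.mk (Limits.Sigma.map (fun j => (T j).mor₁)) (Limits.Sigma.map (fun j => (T j).mor₂))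
      (Sigma.desc (fun j => (T j).mor₃ ≫ (shiftFunctor D (1 : ℤ)).map (Sigma.ι (fun j => (T j).obj₁) j))) ∈ distinguishedTriangles := by
  let f₁ := Limits.Sigma.map (fun j => (T j).mor₁)
  obtain ⟨Z, f₂, f₃, hT'⟩ := distinguished_cocone_triangle f₁
  let T' := Triangle.mk f₁ f₂ f₃
  let φ : ∀ j, T j ⟶ T' := fun j => completeDistinguishedTriangleMorphism _ _
    (hT j) hT' (Sigma.ι (fun j => (T j).obj₁) j) (Sigma.ι (fun j => (T j).obj₂) j) (by simp [f₁, T']; exact (Sigma.ι_map (fun j => (T j).mor₁) j).symm)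
  obtain ⟨p, c2, c3⟩ : ∃ p : ∀ j, (T j).obj₃ ⟶ Z, (∀ j, (T j).mor₂ ≫ p j = Sigma.ι (fun j => (T j).obj₂) j ≫ f₂) ∧
      (∀ j, p j ≫ f₃ = (T j).mor₃ ≫ (Sigma.ι (fun j => (T j).obj₁) j)⟦(1 : ℤ)⟧') :=
    ⟨fun j => (φ j).hom₃, fun j => (φ j).comm₂, fun j => (φ j).comm₃.symm⟩
  let ψ : (∐ fun j => (T j).obj₃) ⟶ Z := Sigma.desc p
  have hψ : ∀ j, Sigma.ι (fun j => (T j).obj₃) j ≫ ψ = p j := fun j => Sigma.ι_desc _ _
  suffices hiso : IsIso ψ by
    haveI := hiso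
    refine isomorphic_distinguished _ hT' _ (Triangle.isoMk _ _ (Iso.refl _) (Iso.refl _) (@asIso _ _ _ _ ψ hiso) ?_ ?_ ?_)
    · exact (Category.comp_id _).trans (Category.id_comp _).symm
    · show Limits.Sigma.map (fun j => (T j).mor₂) ≫ ψ = 𝟙 _ ≫ f₂
      rw [Category.id_comp]
      refine Sigma.hom_ext _ _ fun j => ?_
      rw [← Category.assoc, Sigma.ι_map, Category.assoc, hψ, c2]
    · show Sigma.desc _ ≫ (shiftFunctor D (1 : ℤ)).map (𝟙 _) = ψ ≫ f₃
      rw [CategoryTheory.Functor.map_id, Category.comp_id]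
      refine Sigma.hom_ext _ _ fun j => ?_
      rw [Sigma.ι_desc, reassoc_of% (hψ j), c3]
  refine isIso_of_coyoneda_map_bijective _ fun A => ⟨?_, ?_⟩
  · have key : ∀ a : Z ⟶ A, ψ ≫ a = 0 → a = 0 := by
      intro a ha
      have ha' : ∀ j, p j ≫ a = 0 := fun j => by rw [← hψ, Category.assoc, ha, comp_zero]
      have h2 : f₂ ≫ a = 0 := Sigma.hom_ext _ _ fun j => by
        rw [← Category.assoc, ← c2, Category.assoc, ha', comp_zero, comp_zero]
      obtain ⟨b, hb⟩ := T'.yoneda_exact₃ hT' a h2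
      change a = f₃ ≫ b at hb
      have h4 : ∀ j, ∃ c, (Sigma.ι (fun j => (T j).obj₁) j)⟦(1 : ℤ)⟧' ≫ b = -(T j).mor₁⟦(1 : ℤ)⟧' ≫ c := fun j => by
        have h5 : (T j).mor₃ ≫ (Sigma.ι (fun j => (T j).obj₁) j)⟦(1 : ℤ)⟧' ≫ b = 0 := by
          rw [← Category.assoc, ← c3, Category.assoc, ← hb, ha']
        obtain ⟨c, hc⟩ := Triangle.yoneda_exact₃ _ (rot_of_distTriang _ (hT j)) _ h5
        exact ⟨c, hc.trans (Preadditive.neg_comp _ _)⟩
      choose c hc using h4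
      let hcol := isColimitCofanMkObjOfIsColimit (shiftFunctor D (1 : ℤ)) (fun j => (T j).obj₂) _ (coproductIsCoproduct _)
      let C' := Cofan.IsColimit.desc hcol c
      have hC : ∀ j, (Sigma.ι (fun j => (T j).obj₂) j)⟦(1 : ℤ)⟧' ≫ C' = c j := fun j => Cofan.IsColimit.fac hcol c j
      have hcol1 := isColimitCofanMkObjOfIsColimit (shiftFunctor D (1 : ℤ)) (fun j => (T j).obj₁) _ (coproductIsCoproduct _)
      have hb' : b = -f₁⟦(1 : ℤ)⟧' ≫ C' := Cofan.IsColimit.hom_ext hcol1 _ _ fun j => by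
        show (Sigma.ι (fun j => (T j).obj₁) j)⟦(1 : ℤ)⟧' ≫ b = (Sigma.ι (fun j => (T j).obj₁) j)⟦(1 : ℤ)⟧' ≫ _
        rw [hc, Preadditive.comp_neg, ← Functor.map_comp_assoc, Sigma.ι_map, Functor.map_comp_assoc, hC]
      have h31 : f₃ ≫ f₁⟦(1 : ℤ)⟧' = 0 := comp_distTriang_mor_zero₃₁ _ hT'
      rw [hb, hb', Preadditive.comp_neg, reassoc_of% h31, zero_comp, neg_zero]
    intro a a' h
    exact sub_eq_zero.mp (key _ (by rw [Preadditive.comp_sub]; exact sub_eq_zero.mpr h))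
  · intro a
    let a₂ : (∐ fun j => (T j).obj₂) ⟶ A := Limits.Sigma.map (fun j => (T j).mor₂) ≫ a
    obtain ⟨a', ha'⟩ : ∃ a' : Z ⟶ A, a₂ = f₂ ≫ a' := by
      apply T'.yoneda_exact₂ hT'
      refine Sigma.hom_ext _ _ fun j => ?_
      show Sigma.ι (fun j => (T j).obj₁) j ≫ f₁ ≫ a₂ = Sigma.ι (fun j => (T j).obj₁) j ≫ 0
      rw [comp_zero]
      simp only [f₁, a₂]
      rw [← Category.assoc, Sigma.ι_map, Category.assoc, ← Category.assoc (Sigma.ι _ j), Sigma.ι_map, Category.assoc]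
      exact (comp_distTriang_mor_zero₁₂_assoc _ (hT j) _).trans zero_comp
    have h4 : ∀ j, ∃ b, Sigma.ι (fun j => (T j).obj₃) j ≫ (a - ψ ≫ a') = (T j).mor₃ ≫ b := fun j => by
      apply Triangle.yoneda_exact₃ _ (hT j)
      rw [Preadditive.comp_sub, reassoc_of% hψ, Preadditive.comp_sub, reassoc_of% (c2 j), ← ha', sub_eq_zero]
      simp [a₂]
    choose b hb using h4
    let hcol1 := isColimitCofanMkObjOfIsColimit (shiftFunctor D (1 : ℤ)) (fun j => (T j).obj₁) _ (coproductIsCoproduct _)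
    let B := Cofan.IsColimit.desc hcol1 b
    have hB : ∀ j, (Sigma.ι (fun j => (T j).obj₁) j)⟦(1 : ℤ)⟧' ≫ B = b j := fun j => Cofan.IsColimit.fac hcol1 b j
    refine ⟨a' + f₃ ≫ B, Sigma.hom_ext _ _ fun j => ?_⟩
    show Sigma.ι _ j ≫ ψ ≫ (a' + f₃ ≫ B) = _
    rw [reassoc_of% hψ, Preadditive.comp_add, reassoc_of% c3, hB, ← hb, Preadditive.comp_sub, reassoc_of% hψ]
    abel

end Groth.Agent.S6593
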