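import Groth.Statements.S6594
import Mathlib.CategoryTheory.Triangulated.Pretriangulated

set_option autoImplicit false
universe v u
open CategoryTheory CategoryTheory.Limits
open CohDer

namespace Groth.Agent.S6594

open CategoryTheory.Pretriangulated in
/-- (1) ⇔ (3): let D be a pretriangulated category and f : X ⟶ Y a morphism. Then f has a kernel if and
only if f is isomorphic to a composite K ⊞ Z → Z → Z ⊞ Q of a projection and a coprojection for some
objects K, Z, Q. -/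
theorem result {D : Type u} [Category.{v} D] [Preadditive D] [HasZeroObject D] [HasShift D ℤ]
    [∀ n : ℤ, (shiftFunctor D n).Additive] [Pretriangulated D]
    {X Y : D} (f : X ⟶ Y) :
    HasKernel f ↔ ∃ (K Z Q : D) (e₁ : X ≅ K ⊞ Z) (e₂ : Y ≅ Z ⊞ Q),
      f = e₁.hom ≫ biprod.snd ≫ biprod.inl ≫ e₂.inv := by
  constructor
  · intro hf
    haveI := hf
    obtain ⟨Z, p, w, hT⟩ := distinguished_cocone_triangle (kernel.ι f)
    obtain ⟨e₁, he₁⟩ : ∃ e₁ : X ≅ kernel f ⊞ Z, kernel.ι f ≫ e₁.hom = biprod.inl := by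
      obtain ⟨e, he, -⟩ := exists_iso_binaryBiproduct_of_distTriang _ hT
        (Triangle.mor₃_eq_zero_of_mono₁ _ hT (inferInstanceAs (Mono (kernel.ι f))))
      exact ⟨e, he⟩
    let j : Z ⟶ Y := biprod.inr ≫ e₁.inv ≫ f
    have hfj : e₁.inv ≫ f = biprod.snd ≫ j := by
      apply biprod.hom_ext'
      · rw [biprod.inl_snd_assoc, zero_comp, ← he₁, Category.assoc, e₁.hom_inv_id_assoc, kernel.condition]
      · rw [biprod.inr_snd_assoc]
    haveI : Mono j := Preadditive.mono_of_cancel_zero j fun {W} a ha => by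
      obtain ⟨l, hl⟩ : ∃ l, l ≫ kernel.ι f = a ≫ biprod.inr ≫ e₁.inv :=
        ⟨kernel.lift f _ (by simpa [j] using ha), kernel.lift_ι _ _ _⟩
      have h2 := congrArg (fun q => q ≫ e₁.hom ≫ biprod.snd) hl
      simpa [reassoc_of% he₁] using h2.symm
    obtain ⟨Q, q, w', hT'⟩ := distinguished_cocone_triangle j
    obtain ⟨e₂, he₂⟩ : ∃ e₂ : Y ≅ Z ⊞ Q, j ≫ e₂.hom = biprod.inl := by
      obtain ⟨e, he, -⟩ := exists_iso_binaryBiproduct_of_distTriang _ hT'
        (Triangle.mor₃_eq_zero_of_mono₁ _ hT' (inferInstanceAs (Mono j)))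
      exact ⟨e, he⟩
    refine ⟨_, Z, Q, e₁, e₂, ?_⟩
    rw [← reassoc_of% he₂, e₂.hom_inv_id, Category.comp_id, ← hfj, e₁.hom_inv_id_assoc]
  · rintro ⟨K, Z, Q, e₁, e₂, rfl⟩
    refine ⟨⟨⟨KernelFork.ofι (biprod.inl ≫ e₁.inv) (by simp), KernelFork.IsLimit.ofι' _ _ fun {W} a ha => ⟨a ≫ e₁.hom ≫ biprod.fst, ?_⟩⟩⟩⟩
    have h2 : a ≫ e₁.hom ≫ biprod.snd = 0 := by simpa using congrArg (fun q => q ≫ e₂.hom ≫ biprod.fst) ha
    rw [← cancel_mono e₁.hom]
    apply biprod.hom_ext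
    · simp
    · simp [h2]

end Groth.Agent.S6594
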