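import Groth.Statements.S6596
import Groth.Agent.Postnikov.Unique

set_option autoImplicit false
universe v u
open CategoryTheory CategoryTheory.Limits
open CohDer

namespace Groth.Agent.S6596

open CategoryTheory.Pretriangulated in
/-- Let D be a triangulated category and φ : X ⟶ X' a morphism of chain complexes in D considered in
degrees ≤ n, where a Postnikov system for the complex X_n → … → X_0 consists of objects Y_k, an
isomorphism Y_0 ⟶ X_0, and for 0 ≤ k < n distinguished triangles Y_{k+1} ⟶ X_{k+1} ⟶ Y_k ⟶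
Y_{k+1}⟦1⟧ with X_{k+1} ⟶ Y_k ⟶ X_k the differential. Suppose X and X' carry Postnikov systems (Y,
a, b, c) and (Y', a', b', c'). If Hom(X_i⟦i - j - 1⟧, X'_j) = 0 for all j + 1 < i ≤ n, then φ
extends to a morphism of Postnikov systems: morphisms y_k : Y_k ⟶ Y'_k for k ≤ n forming, with the
φ_k, morphisms of the distinguished triangles and compatible with Y_0 ⟶ X_0 and Y'_0 ⟶ X'_0. -/
theorem result {D : Type u} [Category.{v} D] [Preadditive D] [HasZeroObject D] [HasShift D ℤ]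
    [∀ n : ℤ, (shiftFunctor D n).Additive] [Pretriangulated D] [IsTriangulated D]
    (X X' : ChainComplex D ℕ) (φ : X ⟶ X') (n : ℕ)
    (Y : ℕ → D) (a : ∀ k, Y k ⟶ X.X k) (b : ∀ k, X.X (k + 1) ⟶ Y k)
    (c : ∀ k, Y k ⟶ (shiftFunctor D (1 : ℤ)).obj (Y (k + 1)))
    (h0 : IsIso (a 0))
    (hP : ∀ k, k < n → Triangle.mk (a (k + 1)) (b k) (c k) ∈ distinguishedTriangles ∧ b k ≫ a k = X.d (k + 1) k)
    (qY : ℕ → D) (qa : ∀ k, qY k ⟶ X'.X k) (qb : ∀ k, X'.X (k + 1) ⟶ qY k)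
    (qc : ∀ k, qY k ⟶ (shiftFunctor D (1 : ℤ)).obj (qY (k + 1)))
    (qh0 : IsIso (qa 0))
    (qhP : ∀ k, k < n → Triangle.mk (qa (k + 1)) (qb k) (qc k) ∈ distinguishedTriangles ∧ qb k ≫ qa k = X'.d (k + 1) k)
    (hX : ∀ i j : ℕ, j + 1 < i → i ≤ n → ∀ ψ : (shiftFunctor D ((i : ℤ) - j - 1)).obj (X.X i) ⟶ X'.X j, ψ = 0) :
    ∃ y : ∀ k, Y k ⟶ qY k,
      (∀ k, k ≤ n → y k ≫ qa k = a k ≫ φ.f k) ∧
      (∀ k, k < n → b k ≫ y k = φ.f (k + 1) ≫ qb k ∧ c k ≫ (shiftFunctor D (1 : ℤ)).map (y (k + 1)) = y k ≫ qc k) := by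
  haveI := h0
  haveI := qh0
  have hsq : ∀ k, k < n → ∀ y : Y k ⟶ qY k, y ≫ qa k = a k ≫ φ.f k → b k ≫ y = φ.f (k + 1) ≫ qb k := by
    intro k hk y hy
    rw [← sub_eq_zero]
    have h : (b k ≫ y - φ.f (k + 1) ≫ qb k) ≫ qa k = 0 := by
      rw [Preadditive.sub_comp, Category.assoc, hy, ← Category.assoc, (hP k hk).2, Category.assoc, (qhP k hk).2,
        φ.comm (k + 1) k, sub_self]
    cases k with
    | zero => exact (cancel_mono (qa 0)).1 (h.trans zero_comp.symm)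
    | succ j =>
      obtain ⟨χ, hχ⟩ := Groth.Agent.Postnikov.exists_factor_c (qhP j (by omega)).1 _ h
      apply (shiftFunctor D (1 : ℤ)).map_injective
      rw [hχ, Functor.map_zero, show χ = 0 from Groth.Agent.Postnikov.hom_eq_zero_of_tgt n (fun i => X'.X i) qY qa qb qc
        (fun i hi => (qhP i hi).1) j (by omega) _ (fun m hm θ => by
          rw [← cancel_epi ((shiftFunctorAdd' D (1 : ℤ) (m : ℤ) ((j + 1 + 1 : ℕ) - (j - m : ℕ) - 1 : ℤ) (by omega)).hom.app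
            (X.X (j + 1 + 1))), comp_zero]
          exact hX (j + 1 + 1) (j - m) (by omega) (by omega) _) χ, zero_comp]
  have step : ∀ k, ∀ y : Y k ⟶ qY k, ∃ y' : Y (k + 1) ⟶ qY (k + 1), k < n → y ≫ qa k = a k ≫ φ.f k →
      y' ≫ qa (k + 1) = a (k + 1) ≫ φ.f (k + 1) ∧ c k ≫ (shiftFunctor D (1 : ℤ)).map y' = y ≫ qc k := by
    intro k y
    by_cases hk : k < n ∧ y ≫ qa k = a k ≫ φ.f k
    · obtain ⟨y', h1, h2⟩ := Pretriangulated.complete_distinguished_triangle_morphism₁ _ _ (hP k hk.1).1 (qhP k hk.1).1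
        (φ.f (k + 1)) y (hsq k hk.1 y hk.2)
      exact ⟨y', fun _ _ => ⟨h1.symm, h2⟩⟩
    · exact ⟨0, fun h h' => absurd ⟨h, h'⟩ hk⟩
  choose next hnext using step
  let y : ∀ k, Y k ⟶ qY k := fun k => Nat.rec (a 0 ≫ φ.f 0 ≫ inv (qa 0)) next k
  have hy : ∀ k, k ≤ n → y k ≫ qa k = a k ≫ φ.f k := by
    intro k
    induction k with
    | zero =>
      intro _
      show (a 0 ≫ φ.f 0 ≫ inv (qa 0)) ≫ qa 0 = _
      simp
    | succ k ih => exact fun hk => (hnext k (y k) hk (ih (by omega))).1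
  exact ⟨y, hy, fun k hk => ⟨hsq k hk (y k) (hy k hk.le), (hnext k (y k) hk (hy k hk.le)).2⟩⟩

end Groth.Agent.S6596
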