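import Groth.Statements.S6600
import Mathlib.CategoryTheory.Triangulated.Orthogonal

set_option autoImplicit false
universe v u
open CategoryTheory CategoryTheory.Limits
open CohDer

namespace Groth.Agent.S6600

open CategoryTheory.Pretriangulated in
/-- Let D be a triangulated category, A ⊂ D a full subcategory invariant under all shifts, and X → Y → Z
→ X⟦1⟧ a distinguished triangle. Then Z lies in the right orthogonal A^⊥ if and only if Hom(A, X) →
Hom(A, Y) is bijective for every object A of A. -/
theorem result {D : Type u} [Category.{v} D] [Preadditive D] [HasZeroObject D] [HasShift D ℤ]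
    [∀ n : ℤ, (shiftFunctor D n).Additive] [Pretriangulated D] [IsTriangulated D]
    (P : ObjectProperty D) [P.IsStableUnderShift ℤ] (T : Triangle D) (hT : T ∈ distinguishedTriangles) :
    P.rightOrthogonal T.obj₃ ↔ ∀ A : D, P A → Function.Bijective (fun u : A ⟶ T.obj₁ => u ≫ T.mor₁) := by
  constructor
  · intro h A hA
    refine ⟨fun a b hab => sub_eq_zero.1 ?_, fun u => ?_⟩
    · obtain ⟨c, hc⟩ := Triangle.coyoneda_exact₂ _ (inv_rot_of_distTriang _ hT) (a - b)
        (by show (a - b) ≫ T.mor₁ = 0; rw [Preadditive.sub_comp, sub_eq_zero]; exact hab)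
      rw [hc, (P.rightOrthogonal.le_shift (-1 : ℤ) _ h) c hA]
      exact Limits.zero_comp
    · obtain ⟨v, hv⟩ := Triangle.coyoneda_exact₂ _ hT u (h _ hA)
      exact ⟨v, hv.symm⟩
  · intro h A f hA
    have hA' : P ((shiftFunctor D (-1 : ℤ)).obj A) := P.le_shift (-1 : ℤ) _ hA
    have h3 : f ≫ T.mor₃ = 0 := by
      obtain ⟨w, hw⟩ := (shiftFunctor D (1 : ℤ)).map_surjective
        (((shiftEquiv D (1 : ℤ)).counitIso.app A).hom ≫ f ≫ T.mor₃)
      have hwz : w ≫ T.mor₁ = 0 := by
        apply (shiftFunctor D (1 : ℤ)).map_injective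
        rw [Functor.map_zero, Functor.map_comp, hw]
        exact (Category.assoc _ _ _).trans ((congrArg (_ ≫ ·) ((Category.assoc _ _ _).trans
          ((congrArg (f ≫ ·) (comp_distTriang_mor_zero₃₁ _ hT)).trans Limits.comp_zero))).trans Limits.comp_zero)
      have hw0 : w = 0 := (h _ hA').1 (a₁ := w) (a₂ := 0) (hwz.trans Limits.zero_comp.symm)
      rw [hw0, Functor.map_zero] at hw
      exact (cancel_epi _).1 (hw.symm.trans Limits.comp_zero.symm)
    obtain ⟨v, hv⟩ := Triangle.coyoneda_exact₃ _ hT f h3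
    obtain ⟨v', hv'⟩ := (h A hA).2 v
    dsimp only at hv'
    rw [hv, ← hv', Category.assoc, comp_distTriang_mor_zero₁₂ _ hT, Limits.comp_zero]

end Groth.Agent.S6600
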