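import Groth.Statements.S6601
import Mathlib.CategoryTheory.Triangulated.Orthogonal

set_option autoImplicit false
universe v u
open CategoryTheory CategoryTheory.Limits
open CohDer

namespace Groth.Agent.S6601

open CategoryTheory.Pretriangulated in
/-- Let D be a triangulated category, B ⊂ D a full subcategory invariant under all shifts, and X → Y → Z
→ X⟦1⟧ a distinguished triangle. Then X lies in the left orthogonal ^⊥B if and only if Hom(Z, B) →
Hom(Y, B) is bijective for every object B of B. -/
theorem result {D : Type u} [Category.{v} D] [Preadditive D] [HasZeroObject D] [HasShift D ℤ]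
    [∀ n : ℤ, (shiftFunctor D n).Additive] [Pretriangulated D] [IsTriangulated D]
    (P : ObjectProperty D) [P.IsStableUnderShift ℤ] (T : Triangle D) (hT : T ∈ distinguishedTriangles) :
    P.leftOrthogonal T.obj₁ ↔ ∀ B : D, P B → Function.Bijective (fun u : T.obj₃ ⟶ B => T.mor₂ ≫ u) := by
  constructor
  · intro h B hB
    refine ⟨fun a b hab => sub_eq_zero.1 ?_, fun u => ?_⟩
    · obtain ⟨c, hc⟩ := Triangle.yoneda_exact₃ _ hT (a - b)
        (by simpa [Preadditive.comp_sub, sub_eq_zero] using hab)
      rw [hc, (P.leftOrthogonal.le_shift (1 : ℤ) _ h) c hB]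
      exact Limits.comp_zero
    · obtain ⟨v, hv⟩ := Triangle.yoneda_exact₂ _ hT u (h _ hB)
      exact ⟨v, hv.symm⟩
  · intro h B f hB
    have hB' : P ((shiftFunctor D (1 : ℤ)).obj B) := P.le_shift (1 : ℤ) _ hB
    have h3 : T.mor₃ ≫ (shiftFunctor D (1 : ℤ)).map f = 0 := (h _ hB').1 (by
      dsimp only
      rw [← Category.assoc, comp_distTriang_mor_zero₂₃ _ hT, Limits.zero_comp, Limits.comp_zero])
    obtain ⟨g, hg⟩ := Triangle.yoneda_exact₂ _ (rot_of_distTriang _ (rot_of_distTriang _ hT))
      ((shiftFunctor D (1 : ℤ)).map f) h3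
    obtain ⟨v, rfl⟩ := (shiftFunctor D (1 : ℤ)).map_surjective g
    replace hg : (shiftFunctor D (1 : ℤ)).map f =
      (-(shiftFunctor D (1 : ℤ)).map T.mor₁) ≫ (shiftFunctor D (1 : ℤ)).map v := hg
    rw [Preadditive.neg_comp, ← Functor.map_comp, ← Functor.map_neg] at hg
    rw [(shiftFunctor D (1 : ℤ)).map_injective hg]
    obtain ⟨v', hv'⟩ := (h B hB).2 v
    dsimp only at hv'
    rw [← hv', ← Category.assoc, comp_distTriang_mor_zero₁₂ _ hT, Limits.zero_comp, neg_zero]

end Groth.Agent.S6601
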