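import Groth.Statements.S6603
import Groth.Agent.TriLoc.Zero
import Mathlib.CategoryTheory.Triangulated.Subcategory
import Mathlib.CategoryTheory.Localization.Triangulated
import Mathlib.CategoryTheory.Monoidal.Cartesian.Basic

set_option autoImplicit false
universe v u v' u'
open CategoryTheory CategoryTheory.Limits
open CohDer

namespace Groth.Agent.S6603

open CategoryTheory CategoryTheory.Pretriangulated CategoryTheory.Limits in
theorem cone_of_zero {D : Type u} [Category.{v} D] [Preadditive D] [HasZeroObject D] [HasShift D ℤ]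
    [∀ n : ℤ, (shiftFunctor D n).Additive] [Pretriangulated D] (S : MorphismProperty D)
    (A B : D) (h : S (0 : (shiftFunctor D (-1 : ℤ)).obj A ⟶ B)) :
    ∃ (T : Triangle D) (_ : T ∈ distinguishedTriangles) (_ : T.obj₃ ≅ A ⊞ B), S T.mor₁ := by
  refine ⟨(binaryBiproductTriangle B A).invRotate, inv_rot_of_distTriang _ (binaryBiproductTriangle_distinguished B A),
    (biprod.braiding B A), ?_⟩
  have : (binaryBiproductTriangle B A).invRotate.mor₁ = 0 := by
    dsimp [Triangle.invRotate, binaryBiproductTriangle]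
    erw [Functor.map_zero, Limits.zero_comp, neg_zero]
    rfl
  rw [this]
  exact h

open CategoryTheory.Pretriangulated in
/-- (1) ⇔ (2) ⇔ (3) ⇔ (4): let D be a pretriangulated category, S a multiplicative system compatible
with the triangulated structure, and Q : D → S⁻¹D the localization functor. For an object Z of D the
following are equivalent: (1) Q(Z) = 0; (2) 0 : Z ⟶ Z' is in S for some Z'; (3) 0 : Z' ⟶ Z is in S
for some Z'; (4) there are an object Z' and a distinguished triangle (X, Y, Z ⊞ Z', f, g, h) with f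
∈ S. (The further equivalences (5)–(7) for saturated S are not asserted.) -/
theorem result {D : Type u} [Category.{v} D] [Preadditive D] [HasZeroObject D] [HasShift D ℤ]
    [∀ n : ℤ, (shiftFunctor D n).Additive] [Pretriangulated D]
    (S : MorphismProperty D) [S.HasLeftCalculusOfFractions] [S.HasRightCalculusOfFractions]
    [S.IsCompatibleWithTriangulation]
    {E : Type u'} [Category.{v'} E] (Q : D ⥤ E) [Q.IsLocalization S] (Z : D) :
    (IsZero (Q.obj Z) ↔ ∃ Z' : D, S (0 : Z ⟶ Z')) ∧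
    (IsZero (Q.obj Z) ↔ ∃ Z' : D, S (0 : Z' ⟶ Z)) ∧
    (IsZero (Q.obj Z) ↔ ∃ (Z' X Y : D) (f : X ⟶ Y) (g : Y ⟶ Z ⊞ Z') (h : Z ⊞ Z' ⟶ (shiftFunctor D (1 : ℤ)).obj X),
      Triangle.mk f g h ∈ distinguishedTriangles ∧ S f) := by
  have h12 := Groth.Agent.TriLoc.Zero.isZero_obj_iff Q S Z
  refine ⟨h12.1, h12.2, fun h => ?_, ?_⟩
  · obtain ⟨Z'', hZ''⟩ := h12.1.1 h
    obtain ⟨W', hW'⟩ : ∃ W', S (0 : (shiftFunctor D (-1 : ℤ)).obj Z ⟶ W') :=
      ⟨_, by simpa using (MorphismProperty.IsCompatibleWithShift.iff S (0 : Z ⟶ Z'') (-1 : ℤ)).2 hZ''⟩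
    obtain ⟨T, hT, e, hS⟩ := cone_of_zero S Z W' hW'
    exact ⟨W', T.obj₁, T.obj₂, T.mor₁, T.mor₂ ≫ e.hom, e.inv ≫ T.mor₃,
      isomorphic_distinguished _ hT _ (Triangle.isoMk _ _ (Iso.refl _) (Iso.refl _) e.symm
        ((Category.comp_id _).trans (Category.id_comp _).symm)
        (((Category.assoc _ _ _).trans ((congrArg (T.mor₂ ≫ ·) e.hom_inv_id).trans (Category.comp_id _))).trans (Category.id_comp _).symm)
        ((congrArg (_ ≫ ·) ((shiftFunctor D (1 : ℤ)).map_id _)).trans (Category.comp_id _))), hS⟩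
  · rintro ⟨Z', X, Y, f, g, h, hT, hf⟩
    obtain ⟨c, hc, -, -⟩ := S.compatible_with_triangulation _ _ (contractible_distinguished X) hT
      (𝟙 _) f (S.id_mem _) hf rfl
    have h0 : c = 0 := (isZero_zero D).eq_of_src _ _
    have hzero : IsZero (Q.obj (Z ⊞ Z')) := (Groth.Agent.TriLoc.Zero.isZero_obj_of_mem Q S (h0 ▸ hc)).2
    refine hzero.of_iso ⟨Q.map biprod.inl, Q.map biprod.fst, ?_, hzero.eq_of_src _ _⟩
    rw [← Q.map_comp, biprod.inl_fst, Q.map_id]

end Groth.Agent.S6603
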