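import Groth.Statements.S6604
import Groth.Agent.TriLoc.Zero
import Mathlib.CategoryTheory.Triangulated.Subcategory
import Mathlib.CategoryTheory.Localization.Triangulated

set_option autoImplicit false
universe v u v' u'
open CategoryTheory CategoryTheory.Limits
open CohDer

namespace Groth.Agent.S6604

/-- Let D be a triangulated category, B a full triangulated subcategory and Q : D → D/B the quotient
functor. Q sends an object Z of D to zero (Q(Z) = 0, i.e. Z belongs to the kernel of Q) exactly
when, for a suitable object Z' of D, the direct sum Z ⊞ Z' is isomorphic to some object lying in B;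
put differently, the kernel is the smallest saturated, strictly full triangulated subcategory that
contains B. -/
theorem result {D : Type u} [Category.{v} D] [Preadditive D] [HasZeroObject D] [HasShift D ℤ]
    [∀ n : ℤ, (shiftFunctor D n).Additive] [Pretriangulated D] [IsTriangulated D]
    (B : ObjectProperty D) [B.IsTriangulated]
    {E : Type u'} [Category.{v'} E] (Q : D ⥤ E) [Q.IsLocalization B.trW] (Z : D) :
    IsZero (Q.obj Z) ↔ ∃ (Z' Y : D), B Y ∧ Nonempty (Z ⊞ Z' ≅ Y) := by
  constructor
  · intro h
    obtain ⟨Z'', hZ''⟩ := ((Groth.Agent.TriLoc.Zero.isZero_obj_iff Q B.trW Z).1).1 h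
    have hs := ObjectProperty.trW.shift (P := B) hZ'' (-1 : ℤ)
    rw [Functor.map_zero] at hs
    obtain ⟨C₀, g, k, hT, hC₀⟩ := hs
    obtain ⟨e, -, -⟩ := Pretriangulated.exists_iso_binaryBiproduct_of_distTriang _
      (Pretriangulated.rot_of_distTriang _ hT) (by
        show -(shiftFunctor D (1 : ℤ)).map (0 : (shiftFunctor D (-1 : ℤ)).obj Z ⟶ _) = 0
        rw [Functor.map_zero, neg_zero])
    exact ⟨_, C₀, hC₀, ⟨biprod.braiding _ _ ≪≫ biprod.mapIso (Iso.refl _)
      ((shiftEquiv D (1 : ℤ)).counitIso.app Z).symm ≪≫ e.symm⟩⟩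
  · rintro ⟨Z', Y, hY, ⟨e⟩⟩
    have hzero : IsZero (Q.obj (Z ⊞ Z')) := by
      refine IsZero.of_iso ?_ (Q.mapIso e)
      exact (Groth.Agent.TriLoc.Zero.isZero_obj_of_mem Q B.trW
        (ObjectProperty.trW.mk B (Pretriangulated.contractible_distinguished₁ Y) hY)).2
    refine hzero.of_iso ⟨Q.map biprod.inl, Q.map biprod.fst, ?_, hzero.eq_of_src _ _⟩
    rw [← Q.map_comp, biprod.inl_fst, Q.map_id]

end Groth.Agent.S6604
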