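import Groth.Statements.S6606
import Mathlib.Algebra.Homology.DerivedCategory.KProjective
import Mathlib.Algebra.Homology.DerivedCategory.TStructure
import Mathlib.Algebra.Homology.DerivedCategory.HomologySequence

set_option autoImplicit false
universe v u
open CategoryTheory CategoryTheory.Limits
open CohDer

namespace Groth.Agent.S6606

/-- Let A be an abelian category, β : P ⟶ L and α : E ⟶ L morphisms of cochain complexes and n an
integer. Assume P is a bounded complex of projective objects with Pⁱ = 0 for i < n, and that Hⁱ(α)
is an isomorphism for i > n and an epimorphism for i = n. Then there is γ : P ⟶ E such that γ ≫ α is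
homotopic to β. -/
theorem result {A : Type u} [Category.{v} A] [Abelian A]
    (P E L : CochainComplex A ℤ) (β : P ⟶ L) (α : E ⟶ L) (n b : ℤ) [P.IsStrictlyGE n] [P.IsStrictlyLE b]
    (hP : ∀ i : ℤ, Projective (P.X i))
    (hiso : ∀ i : ℤ, n < i → IsIso (HomologicalComplex.homologyMap α i)) (hepi : Epi (HomologicalComplex.homologyMap α n)) :
    ∃ γ : P ⟶ E, Nonempty (Homotopy (γ ≫ α) β) := by
  letI := HasDerivedCategory.standard A
  haveI : ∀ i, Projective (P.X i) := hP
  haveI := CochainComplex.isKProjective_of_projective P b
  let ι' := CochainComplex.mappingCone.inr α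
  haveI hC : (CochainComplex.mappingCone α).IsLE (n - 1) := by
    rw [CochainComplex.isLE_iff]
    intro i hi
    rw [HomologicalComplex.exactAt_iff_isZero_homology]
    let T := DerivedCategory.Q.mapTriangle.obj (CochainComplex.mappingCone.triangle α)
    have hT : T ∈ distTriang _ := DerivedCategory.mappingCone_triangle_distinguished α
    let e := fun (K : CochainComplex A ℤ) (j : ℤ) => (DerivedCategory.homologyFunctorFactors A j).app K
    haveI hj : ∀ j, n ≤ j → Epi ((DerivedCategory.homologyFunctor A j).map T.mor₁) := fun j hj => by
      haveI : Epi (HomologicalComplex.homologyMap α j) := by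
        rcases hj.lt_or_eq with h | h
        · haveI := hiso j h; infer_instance
        · subst h; exact hepi
      exact ((MorphismProperty.epimorphisms A).arrow_mk_iso_iff
        (Arrow.isoOfNatIso (DerivedCategory.homologyFunctorFactors A j) (Arrow.mk α))).2 this
    haveI : Mono ((DerivedCategory.homologyFunctor A (i + 1)).map T.mor₁) := by
      haveI := hiso (i + 1) (by omega)
      exact ((MorphismProperty.monomorphisms A).arrow_mk_iso_iff
        (Arrow.isoOfNatIso (DerivedCategory.homologyFunctorFactors A (i + 1)) (Arrow.mk α))).2
          (inferInstanceAs (Mono (HomologicalComplex.homologyMap α (i + 1))))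
    haveI := hj i (by omega)
    refine IsZero.of_iso ?_ ((e (CochainComplex.mappingCone α) i).symm)
    exact (DerivedCategory.HomologySequence.exact₃ T hT i (i + 1) rfl).isZero_of_both_zeros
      (zero_of_epi_comp ((DerivedCategory.homologyFunctor A i).map T.mor₁)
        (((DerivedCategory.homologyFunctor A i).map_comp T.mor₁ T.mor₂).symm.trans
          ((congrArg ((DerivedCategory.homologyFunctor A i).map ·)
            (Pretriangulated.comp_distTriang_mor_zero₁₂ _ hT)).trans (Functor.map_zero _ _ _))))
      (zero_of_comp_mono ((DerivedCategory.homologyFunctor A (i + 1)).map T.mor₁)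
        (DerivedCategory.HomologySequence.δ_comp T hT i (i + 1) rfl))
  have h0 : (HomotopyCategory.quotient A (ComplexShape.up ℤ)).map β ≫
      (HomotopyCategory.quotient A _).map ι' = 0 := by
    rw [← Functor.map_comp]
    let C := CochainComplex.mappingCone α
    haveI : IsIso (DerivedCategory.Qh.map
        ((HomotopyCategory.quotient A (ComplexShape.up ℤ)).map (C.ιTruncLE (n - 1)))) :=
      (NatIso.isIso_map_iff (DerivedCategory.quotientCompQhIso A) (C.ιTruncLE (n - 1))).2
        (inferInstanceAs (IsIso (DerivedCategory.Q.map (C.ιTruncLE (n - 1)))))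
    obtain ⟨g, hg⟩ := (CochainComplex.IsKProjective.Qh_map_bijective P
      ((HomotopyCategory.quotient A _).obj (C.truncLE (n - 1)))).2
        (DerivedCategory.Qh.map ((HomotopyCategory.quotient A _).map (β ≫ ι')) ≫
          inv (DerivedCategory.Qh.map
            ((HomotopyCategory.quotient A _).map (C.ιTruncLE (n - 1)))))
    obtain ⟨g, rfl⟩ := (HomotopyCategory.quotient A _).map_surjective g
    have hg0 : g = 0 := by
      ext k
      by_cases hk : k < n
      · exact (P.isZero_of_isStrictlyGE n k hk).eq_of_src _ _
      · exact ((C.truncLE (n - 1)).isZero_of_isStrictlyLE (n - 1) k (by omega)).eq_of_tgt _ _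
    apply (CochainComplex.IsKProjective.Qh_map_bijective P _).1
    rw [Functor.map_zero]
    rw [hg0, Functor.map_zero, Functor.map_zero, eq_comm, IsIso.comp_inv_eq, zero_comp] at hg
    exact hg
  obtain ⟨γ, hγ⟩ := Pretriangulated.Triangle.coyoneda_exact₂ _
    (HomotopyCategory.mappingCone_triangleh_distinguished α) _ h0
  obtain ⟨γ, rfl⟩ := (HomotopyCategory.quotient A _).map_surjective γ
  exact ⟨γ, ⟨HomotopyCategory.homotopyOfEq _ _ (((HomotopyCategory.quotient A _).map_comp _ _).trans hγ.symm)⟩⟩

end Groth.Agent.S6606
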