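import Groth.Statements.S6612
import Mathlib

set_option autoImplicit false
universe v u
open CategoryTheory CategoryTheory.Limits
open CohDer

namespace Groth.Agent.S6612

open CategoryTheory CategoryTheory.Limits CategoryTheory.Pretriangulated ZeroObject

/-- Let A be an additive category and 0 → A₂ → B₂ → C₂ → 0 a termwise split exact sequence of complexes.
Given a chain map b from a complex B₁ into B₂ and a chain map b' from B₂ into a complex B₃, suppose
that both composites b ≫ (B₂ → C₂) and (A₂ → B₂) ≫ b' are null-homotopic. Then b ≫ b' is homotopic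
to zero. (The published statement has three termwise split sequences Aᵢ → Bᵢ → Cᵢ and asks both
squares of each diagram to commute up to homotopy; this row keeps only the middle sequence and the
two conditions at B₂ that the argument uses, so it is more general.) -/
theorem result {V : Type u} [Category.{v} V] [Preadditive V] [HasBinaryBiproducts V]
    (S : ShortComplex (CochainComplex V ℤ))
    (σ : ∀ n : ℤ, (S.map (HomologicalComplex.eval V (ComplexShape.up ℤ) n)).Splitting)
    {B₁ B₃ : CochainComplex V ℤ} (b : B₁ ⟶ S.X₂) (b' : S.X₂ ⟶ B₃)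
    (hb : Nonempty (Homotopy (b ≫ S.g) 0)) (hb' : Nonempty (Homotopy (S.f ≫ b') 0)) :
    Nonempty (Homotopy (b ≫ b') 0) := by
  obtain ⟨k⟩ := hb
  obtain ⟨k'⟩ := hb'
  let r : ∀ n, S.X₂.X n ⟶ S.X₁.X n := fun n => (σ n).r
  let sec : ∀ n, S.X₃.X n ⟶ S.X₂.X n := fun n => (σ n).s
  have hsg : ∀ n, ((σ n).s : S.X₃.X n ⟶ S.X₂.X n) ≫ S.g.f n = 𝟙 _ := fun n => (σ n).s_g
  have hfr : ∀ n, S.f.f n ≫ ((σ n).r : S.X₂.X n ⟶ S.X₁.X n) = 𝟙 _ := fun n => (σ n).f_r
  have hid : ∀ n, r n ≫ S.f.f n + S.g.f n ≫ sec n = 𝟙 _ := fun n => (σ n).id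
  let h : ∀ i j, B₁.X i ⟶ S.X₂.X j := fun i j => k.hom i j ≫ sec j
  have hz : ∀ i j, ¬ (ComplexShape.up ℤ).Rel j i → h i j = 0 := fun i j hij => by
    simp [h, k.zero i j hij]
  have hbg : Homotopy.nullHomotopicMap h ≫ S.g = b ≫ S.g := by
    rw [Homotopy.nullHomotopicMap_comp]
    ext n
    have e : (fun i j => h i j ≫ S.g.f j) = k.hom := by
      funext i j; simp only [h, Category.assoc]; erw [hsg j]; exact Category.comp_id _
    rw [e]
    have := k.comm n
    simpa [Homotopy.nullHomotopicMap] using this.symm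
  let b₁ := b - Homotopy.nullHomotopicMap h
  have hb₁ : b₁ ≫ S.g = 0 := by simp [b₁, hbg]
  have hf : ∀ n, b₁.f n = (b₁.f n ≫ r n) ≫ S.f.f n := fun n => by
    have h0 : b₁.f n ≫ S.g.f n = 0 := by
      rw [← HomologicalComplex.comp_f, hb₁]; rfl
    conv_lhs => rw [← Category.comp_id (b₁.f n), ← hid n, Preadditive.comp_add, reassoc_of% h0, zero_comp, add_zero]
    rw [Category.assoc]
  let c : B₁ ⟶ S.X₁ :=
    { f := fun n => b₁.f n ≫ r n
      comm' := fun i j _ => by
        haveI : IsSplitMono (S.f.f j) := IsSplitMono.mk' ⟨r j, hfr j⟩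
        rw [← cancel_mono (S.f.f j), Category.assoc _ _ (S.f.f j), Category.assoc _ _ (S.f.f j),
          ← S.f.comm, ← hf j, ← Category.assoc (b₁.f i ≫ r i), ← hf i]
        exact b₁.comm i j }
  have hc : b₁ = c ≫ S.f := by ext n; exact hf n
  have H1 : Homotopy (b₁ ≫ b') 0 :=
    (Homotopy.ofEq (by rw [hc, Category.assoc])).trans ((k'.compLeft c).trans (Homotopy.ofEq comp_zero))
  have H2 : Homotopy (Homotopy.nullHomotopicMap h ≫ b') 0 :=
    ((Homotopy.nullHomotopy h hz).compRight b').trans (Homotopy.ofEq zero_comp)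
  exact ⟨(Homotopy.ofEq (by simp [b₁])).trans ((H1.add H2).trans (Homotopy.ofEq (add_zero 0)))⟩

end Groth.Agent.S6612
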