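import Groth.Statements.S6613
import Mathlib.CategoryTheory.Localization.CalculusOfFractions
import Mathlib.CategoryTheory.Triangulated.Subcategory

set_option autoImplicit false
universe v u v' u'
open CategoryTheory CategoryTheory.Limits
open CohDer

namespace Groth.Agent.S6613

/-- Let D be a pretriangulated category, D' ⊂ D a full pretriangulated subcategory, S a saturated
multiplicative system of D compatible with the triangulated structure and Q : D → S⁻¹D the
localization. Assume every X in D admits some s : X' ⟶ X in S with X' in D'. Then, with S' = S ∩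
Arrows(D'), the functor (S')⁻¹D' → S⁻¹D is an equivalence; equivalently the composite D' → D → S⁻¹D
is a localization of D' at S'. (The published result additionally claims that the intersection S' =
S ∩ Arrows(D') forms a multiplicative system on D' which is saturated and respects the triangulated
structure of D'; this row asserts only the localization property.) -/
theorem result {D : Type u} [Category.{v} D] [Preadditive D] [HasZeroObject D] [HasShift D ℤ]
    [∀ n : ℤ, (shiftFunctor D n).Additive] [Pretriangulated D]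
    (P : ObjectProperty D) [P.IsTriangulated]
    (S : MorphismProperty D) [S.HasLeftCalculusOfFractions] [S.HasRightCalculusOfFractions] [S.IsCompatibleWithTriangulation]
    {E : Type u'} [Category.{v'} E] (Q : D ⥤ E) [Q.IsLocalization S]
    (hsat : ∀ {X Y : D} (f : X ⟶ Y), IsIso (Q.map f) → S f)
    (hP : ∀ X : D, ∃ (X' : D) (s : X' ⟶ X), P X' ∧ S s) :
    (P.ι ⋙ Q).IsLocalization (S.inverseImage P.ι) := by
  let W := S.inverseImage P.ι
  haveI hR : W.HasRightCalculusOfFractions :=
    { exists_rightFraction := fun X Y φ => by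
        obtain ⟨ψ, hψ⟩ := MorphismProperty.HasRightCalculusOfFractions.exists_rightFraction
          (W := S) (MorphismProperty.LeftFraction.mk φ.f.hom φ.s.hom φ.hs)
        obtain ⟨X', t, hX', ht⟩ := hP ψ.X'
        refine ⟨{ X' := ⟨X', hX'⟩, s := ObjectProperty.homMk (t ≫ ψ.s), hs := S.comp_mem _ _ ht ψ.hs,
                  f := ObjectProperty.homMk (t ≫ ψ.f) }, ?_⟩
        ext
        exact (Category.assoc _ _ _).trans ((congrArg (t ≫ ·) hψ).trans (Category.assoc _ _ _).symm)
      ext := fun X Y Y' f₁ f₂ s hs e => by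
        obtain ⟨Z, t, ht, fac⟩ := MorphismProperty.HasRightCalculusOfFractions.ext (W := S)
          f₁.hom f₂.hom s.hom hs (congrArg InducedCategory.Hom.hom e)
        obtain ⟨Z', t', hZ', ht'⟩ := hP Z
        refine ⟨⟨Z', hZ'⟩, ObjectProperty.homMk (t' ≫ t), S.comp_mem _ _ ht' ht, ?_⟩
        ext
        exact (Category.assoc _ _ _).trans ((congrArg (t' ≫ ·) fac).trans (Category.assoc _ _ _).symm) }
  have hW : W.IsInvertedBy (P.ι ⋙ Q) := fun X Y f hf => Localization.inverts Q S f.hom hf
  let G := Localization.lift (P.ι ⋙ Q) hW W.Q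
  let e : W.Q ⋙ G ≅ P.ι ⋙ Q := Localization.Lifting.iso W.Q W (P.ι ⋙ Q) G
  haveI := Localization.essSurj Q S
  haveI : W.Q.EssSurj := Localization.essSurj W.Q W
  haveI : G.EssSurj := ⟨fun Y => by
    obtain ⟨X', s, hX', hs⟩ := hP (Q.objPreimage Y)
    haveI := Localization.inverts Q S s hs
    exact ⟨W.Q.obj ⟨X', hX'⟩, ⟨e.app ⟨X', hX'⟩ ≪≫ asIso (Q.map s) ≪≫ Q.objObjPreimageIso Y⟩⟩⟩
  haveI : G.Full := by
    refine ⟨fun {U V} g => ?_⟩
    let eU := W.Q.objObjPreimageIso U
    let eV := W.Q.objObjPreimageIso V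
    let a : Q.obj (W.Q.objPreimage U).obj ⟶ Q.obj (W.Q.objPreimage V).obj :=
      e.inv.app _ ≫ G.map eU.hom ≫ g ≫ G.map eV.inv ≫ e.hom.app _
    obtain ⟨φ, hφ⟩ := Localization.exists_rightFraction Q S a
    obtain ⟨X', t, hX', ht⟩ := hP φ.X'
    let ψ : W.RightFraction (W.Q.objPreimage U) (W.Q.objPreimage V) :=
      { X' := ⟨X', hX'⟩, s := ObjectProperty.homMk (t ≫ φ.s), hs := S.comp_mem _ _ ht φ.hs,
        f := ObjectProperty.homMk (t ≫ φ.f) }
    refine ⟨eU.inv ≫ ψ.map W.Q (Localization.inverts _ _) ≫ eV.hom, ?_⟩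
    have h1 : G.map (ψ.map W.Q (Localization.inverts _ _)) =
        e.hom.app _ ≫ a ≫ e.inv.app _ := by
      haveI := Localization.inverts W.Q W ψ.s ψ.hs
      rw [← cancel_epi (G.map (W.Q.map ψ.s)), ← G.map_comp, ψ.map_s_comp_map]
      have n1 := e.hom.naturality ψ.s
      have n2 := e.hom.naturality ψ.f
      simp only [Functor.comp_map] at n1 n2
      rw [← cancel_mono (e.hom.app (W.Q.objPreimage V)), n2]
      simp only [Category.assoc, Iso.inv_hom_id_app, Functor.comp_obj]
      rw [reassoc_of% n1]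
      simp only [ψ, ObjectProperty.ι_map, ObjectProperty.homMk_hom, Functor.map_comp, Category.assoc, hφ]
      erw [Category.comp_id]
      rw [φ.map_s_comp_map]
    rw [G.map_comp, G.map_comp, h1]
    simp [a, ← Functor.map_comp_assoc]
  haveI : G.Faithful := by
    refine ⟨fun {U V} g₁ g₂ h => ?_⟩
    let eU := W.Q.objObjPreimageIso U
    let eV := W.Q.objObjPreimageIso V
    suffices eU.hom ≫ g₁ ≫ eV.inv = eU.hom ≫ g₂ ≫ eV.inv by
      simpa using this
    obtain ⟨φ₁, h₁⟩ := Localization.exists_rightFraction W.Q W (eU.hom ≫ g₁ ≫ eV.inv)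
    haveI := Localization.inverts W.Q W φ₁.s φ₁.hs
    rw [← cancel_epi (W.Q.map φ₁.s), h₁, φ₁.map_s_comp_map]
    obtain ⟨φ₂, h₂⟩ := Localization.exists_rightFraction W.Q W
      (W.Q.map φ₁.s ≫ eU.hom ≫ g₂ ≫ eV.inv)
    haveI := Localization.inverts W.Q W φ₂.s φ₂.hs
    rw [← cancel_epi (W.Q.map φ₂.s), h₂, φ₂.map_s_comp_map, ← W.Q.map_comp]
    have hq : Q.map (φ₂.s ≫ φ₁.f).hom = Q.map φ₂.f.hom := by
      have key : G.map (W.Q.map (φ₂.s ≫ φ₁.f)) = G.map (W.Q.map φ₂.f) := by
        rw [← φ₂.map_s_comp_map W.Q (Localization.inverts _ _), ← h₂, W.Q.map_comp,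
          ← φ₁.map_s_comp_map W.Q (Localization.inverts _ _), ← h₁]
        simp only [Functor.map_comp, h]
      exact (cancel_epi (e.hom.app φ₂.X')).1
        (((e.hom.naturality (φ₂.s ≫ φ₁.f)).symm.trans ((congrArg (· ≫ e.hom.app _) key)))
          |>.trans (e.hom.naturality φ₂.f))
    obtain ⟨Z, t, ht, fac⟩ := (MorphismProperty.map_eq_iff_precomp Q S _ _).1 hq
    obtain ⟨Z', t', hZ', ht'⟩ := hP Z
    refine (MorphismProperty.map_eq_iff_precomp W.Q W _ _).2
      ⟨⟨Z', hZ'⟩, ObjectProperty.homMk (t' ≫ t), S.comp_mem _ _ ht' ht, ?_⟩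
    ext
    exact (Category.assoc _ _ _).trans ((congrArg (t' ≫ ·) fac).trans (Category.assoc _ _ _).symm)
  haveI : G.IsEquivalence := {}
  exact Functor.IsLocalization.of_equivalence_target W.Q W (P.ι ⋙ Q) G.asEquivalence e

end Groth.Agent.S6613
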