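import Groth.Statements.S6617
import Groth.Agent.CohDerX.SplitFactor

set_option autoImplicit false
universe v u
open CategoryTheory CategoryTheory.Limits
open CohDer

namespace Groth.Agent.S6617

structure Stage {V : Type u} [Category.{v} V] [Preadditive V] (X : CochainComplex V ℤ) where
  /-- the complex -/
  B : CochainComplex V ℤ
  /-- the equivalence -/
  e : HomotopyEquiv B X

lemma next_stage {V : Type u} [Category.{v} V] [Preadditive V] [HasBinaryBiproducts V]
    [HasZeroObject V] {X Y : CochainComplex V ℤ} (f : X ⟶ Y) (S : Stage X) :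
    ∃ (T : Stage Y) (b : S.B ⟶ T.B), b ≫ T.e.hom = S.e.hom ≫ f ∧
      (∀ n : ℤ, ∃ (C : V) (ε : T.B.X n ≅ S.B.X n ⊞ C), b.f n ≫ ε.hom = biprod.inl) ∧
      ((∃ m : ℤ, S.B.IsStrictlyGE m) → (∃ m : ℤ, Y.IsStrictlyGE m) → ∃ m : ℤ, T.B.IsStrictlyGE m) ∧
      ((∃ m : ℤ, S.B.IsStrictlyLE m) → (∃ m : ℤ, Y.IsStrictlyLE m) → ∃ m : ℤ, T.B.IsStrictlyLE m) := by
  obtain ⟨B', b, π, s, h1, h2, ⟨H⟩, h4, hGE, hLE⟩ :=
    Groth.Agent.CohDerX.inj_factorization S.B Y (S.e.hom ≫ f)
  refine ⟨⟨B', { hom := π, inv := s, homotopyHomInvId := H, homotopyInvHomId := Homotopy.ofEq h2 }⟩, b, h1, h4, ?_, ?_⟩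
  · rintro ⟨p, _⟩ ⟨q, _⟩
    exact hGE (min p q) (S.B.isStrictlyGE_of_ge (min p q) p (by omega))
      (Y.isStrictlyGE_of_ge (min p q) q (by omega))
  · rintro ⟨p, _⟩ ⟨q, _⟩
    exact hLE (max p q) (S.B.isStrictlyLE_of_le p (max p q) (by omega))
      (Y.isStrictlyLE_of_le q (max p q) (by omega))


/-- Let A be an additive category and A₀ → A₁ → A₂ → … a sequence of composable morphisms of complexes.
There are complexes Bᵢ, homotopy equivalences Bᵢ ⟶ Aᵢ and termwise split injections Bᵢ ⟶ Bᵢ₊₁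
forming a commutative ladder over the given sequence. Moreover if all Aᵢ are bounded below, resp.
bounded above, then the Bᵢ may be chosen bounded below, resp. bounded above. (The published
statement is for finite sequences A₁ → … → A_n; this row takes a sequence indexed by ℕ, built by the
same step-by-step construction.) -/
theorem result {V : Type u} [Category.{v} V] [Preadditive V] [HasBinaryBiproducts V] [HasZeroObject V]
    (X : ℕ → CochainComplex V ℤ) (a : ∀ i, X i ⟶ X (i + 1)) :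
    ∃ (B : ℕ → CochainComplex V ℤ) (b : ∀ i, B i ⟶ B (i + 1)) (e : ∀ i, HomotopyEquiv (B i) (X i)),
      (∀ i, b i ≫ (e (i + 1)).hom = (e i).hom ≫ a i) ∧
      (∀ (i : ℕ) (n : ℤ), ∃ (C : V) (ε : (B (i + 1)).X n ≅ (B i).X n ⊞ C), (b i).f n ≫ ε.hom = biprod.inl) ∧
      ((∀ i, ∃ m : ℤ, (X i).IsStrictlyGE m) → ∀ i, ∃ m : ℤ, (B i).IsStrictlyGE m) ∧
      ((∀ i, ∃ m : ℤ, (X i).IsStrictlyLE m) → ∀ i, ∃ m : ℤ, (B i).IsStrictlyLE m) := by
  classical
  choose T b h1 h2 h3 h4 using fun i (S : Stage (X i)) => next_stage (a i) S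
  let S : ∀ i, Stage (X i) :=
    fun i => Nat.rec (motive := fun i => Stage (X i)) ⟨X 0, HomotopyEquiv.refl _⟩
      (fun i S => T i S) i
  refine ⟨fun i => (S i).B, fun i => b i (S i), fun i => (S i).e, fun i => h1 i (S i),
    fun i n => h2 i (S i) n, fun h i => ?_, fun h i => ?_⟩
  · induction i with
    | zero => exact h 0
    | succ i ih => exact h3 i (S i) ih (h (i + 1))
  · induction i with
    | zero => exact h 0
    | succ i ih => exact h4 i (S i) ih (h (i + 1))

end Groth.Agent.S6617
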