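import Groth.Statements.S6621
import Mathlib.CategoryTheory.Triangulated.Subcategory
import Mathlib.CategoryTheory.Localization.Triangulated
import Mathlib.CategoryTheory.Localization.Predicate

set_option autoImplicit false
universe v u v' u'
open CategoryTheory CategoryTheory.Limits
open CohDer

namespace Groth.Agent.S6621

/-- Let D be a triangulated category, S a multiplicative system compatible with the triangulated
structure, Q : D → S⁻¹D the localization and B(S) = Ker(Q) the full subcategory of objects Z with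
Q(Z) = 0. Then the multiplicative system S(B(S)) attached to B(S) (morphisms whose cone lies in B(S)
up to isomorphism) consists exactly of the morphisms f such that Q(f) is an isomorphism, i.e. it is
the saturation of S. -/
theorem result {D : Type u} [Category.{v} D] [Preadditive D] [HasZeroObject D] [HasShift D ℤ]
    [∀ n : ℤ, (shiftFunctor D n).Additive] [Pretriangulated D] [IsTriangulated D]
    (S : MorphismProperty D) [S.HasLeftCalculusOfFractions] [S.HasRightCalculusOfFractions] [S.IsCompatibleWithTriangulation]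
    {E : Type u'} [Category.{v'} E] (Q : D ⥤ E) [Q.IsLocalization S] {X Y : D} (f : X ⟶ Y) :
    ObjectProperty.trW (fun Z : D => IsZero (Q.obj Z)) f ↔ IsIso (Q.map f) := by
  haveI : S.Q.IsLocalization S := inferInstance
  let e := Localization.compUniqFunctor S.Q Q S
  let E' := (Localization.uniq S.Q Q S)
  have hz : ∀ Z : D, IsZero (Q.obj Z) ↔ IsZero (S.Q.obj Z) := fun Z => by
    rw [← (e.app Z).isZero_iff]
    refine ⟨fun h => ⟨fun Y => ?_, fun Y => ?_⟩, fun h => ⟨fun Y => ?_, fun Y => ?_⟩⟩
    · obtain ⟨u⟩ := h.unique_to (E'.functor.obj Y)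
      exact ⟨@Equiv.unique _ _ u E'.fullyFaithfulFunctor.homEquiv⟩
    · obtain ⟨u⟩ := h.unique_from (E'.functor.obj Y)
      exact ⟨@Equiv.unique _ _ u E'.fullyFaithfulFunctor.homEquiv⟩
    · obtain ⟨u⟩ := h.unique_to (E'.inverse.obj Y)
      exact ⟨@Equiv.unique _ _ u (E'.toAdjunction.homEquiv _ _)⟩
    · obtain ⟨u⟩ := h.unique_from (E'.inverse.obj Y)
      exact ⟨@Equiv.unique _ _ u (E'.symm.toAdjunction.homEquiv _ _).symm⟩
  haveI : IsIso e.hom := inferInstance
  have hi : IsIso (Q.map f) ↔ IsIso (S.Q.map f) := by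
    refine (NatIso.isIso_map_iff e f).symm.trans ⟨fun h => ?_, fun h => ?_⟩
    · exact @isIso_of_reflects_iso _ _ _ _ _ _ _ E'.functor h _
    · exact @Functor.map_isIso _ _ _ _ _ _ E'.functor _ h
  rw [hi]
  constructor
  · rintro ⟨Z, g, h, hT, hZ⟩
    exact (Pretriangulated.Triangle.isZero₃_iff_isIso₁ _ (S.Q.map_distinguished _ hT)).1 ((hz Z).1 hZ)
  · intro hf
    obtain ⟨Z, g, h, hT⟩ := Pretriangulated.distinguished_cocone_triangle f
    exact ⟨Z, g, h, hT, (hz Z).2 ((Pretriangulated.Triangle.isZero₃_iff_isIso₁ _ (S.Q.map_distinguished _ hT)).2 hf)⟩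

end Groth.Agent.S6621
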