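import Groth.Statements.S6622
import Mathlib

set_option autoImplicit false
universe v u
open CategoryTheory CategoryTheory.Limits
open CohDer

namespace Groth.Agent.S6622

open Pretriangulated in
lemma of_strict {V : Type u} [Category.{v} V] [Preadditive V] [HasZeroObject V] [HasBinaryBiproducts V]
    (P : CochainComplex V ℤ → Prop) (h0 : ∃ K, P K ∧ IsZero K)
    (hs : ∀ K (n : ℤ), P K → P ((shiftFunctor _ n).obj K))
    (hc : ∀ (K L : CochainComplex V ℤ) (f : K ⟶ L), P K → P L → P (CochainComplex.mappingCone f)) :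
    ObjectProperty.IsTriangulated (fun K : HomotopyCategory V (ComplexShape.up ℤ) => P K.as) := by
  let Q : ObjectProperty (HomotopyCategory V (ComplexShape.up ℤ)) := fun K => P K.as
  have : Q.ContainsZero := by
    obtain ⟨K, hK, hz⟩ := h0
    exact ⟨(HomotopyCategory.quotient _ _).obj K, Functor.map_isZero _ hz, hK⟩
  have : Q.IsStableUnderShift ℤ := ⟨fun n => ⟨fun K hK => by
    obtain ⟨K : CochainComplex _ _, rfl⟩ := K.quotient_obj_surjective
    rw [ObjectProperty.prop_shift_iff, HomotopyCategory.shift_quotient_obj]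
    exact hs K n hK⟩⟩
  have : Q.IsTriangulatedClosed₃ := ⟨fun T hT h₁ h₂ => by
    obtain ⟨f : T.obj₁.as ⟶ T.obj₂.as, hf⟩ :=
      (HomotopyCategory.quotient _ _).map_surjective T.mor₁
    refine ⟨_, hc _ _ f h₁ h₂,
      ⟨Triangle.π₃.mapIso (isoTriangleOfIso₁₂ T _ hT
        (HomotopyCategory.mappingCone_triangleh_distinguished f)
        (Iso.refl _) (Iso.refl _) ?_)⟩⟩
    exact (Category.comp_id _).trans (hf.symm.trans (Category.id_comp _).symm)⟩
  have : Q.IsTriangulatedClosed₂ := .of_isTriangulatedClosed₃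
  exact { toContainsZero := inferInstance, toIsStableUnderShift := inferInstance,
          toIsTriangulatedClosed₂ := inferInstance : Q.IsTriangulated }

lemma cone_le {V : Type u} [Category.{v} V] [Preadditive V] [HasZeroObject V] [HasBinaryBiproducts V]
    {K L : CochainComplex V ℤ} (f : K ⟶ L) (a b n : ℤ) [K.IsStrictlyLE a] [L.IsStrictlyLE b]
    (ha : a ≤ n + 1) (hb : b ≤ n) : CochainComplex.IsStrictlyLE (CochainComplex.mappingCone f) n := by
  rw [CochainComplex.isStrictlyLE_iff]
  intro i hi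
  rw [CochainComplex.mappingCone.isZero_X_iff]
  exact ⟨K.isZero_of_isStrictlyLE a _ (by omega), L.isZero_of_isStrictlyLE b _ (by omega)⟩


/-- Let A be an additive category. The full subcategories K⁻(A) (complexes K with Kⁿ = 0 for n ≫ 0) and
Kᵇ(A) (Kⁿ = 0 for |n| ≫ 0) of the homotopy category K(A) are full triangulated subcategories. -/
theorem result {V : Type u} [Category.{v} V] [Preadditive V] [HasZeroObject V] [HasBinaryBiproducts V] :
    (ObjectProperty.IsTriangulated (fun K : HomotopyCategory V (ComplexShape.up ℤ) => ∃ n : ℤ, CochainComplex.IsStrictlyLE K.as n)) ∧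
    (ObjectProperty.IsTriangulated (fun K : HomotopyCategory V (ComplexShape.up ℤ) =>
      ∃ a b : ℤ, CochainComplex.IsStrictlyGE K.as a ∧ CochainComplex.IsStrictlyLE K.as b)) := by
  refine ⟨of_strict (fun K => ∃ n : ℤ, CochainComplex.IsStrictlyLE K n)
      (by open ZeroObject in exact ⟨0, ⟨0, inferInstance⟩, isZero_zero _⟩) ?_ ?_,
    of_strict (fun K => ∃ a b : ℤ, CochainComplex.IsStrictlyGE K a ∧ CochainComplex.IsStrictlyLE K b)
      (by open ZeroObject in exact ⟨0, ⟨0, 0, inferInstance, inferInstance⟩, isZero_zero _⟩) ?_ ?_⟩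
  · rintro K n ⟨q, _⟩
    exact ⟨q - n, K.isStrictlyLE_shift q n (q - n) (by lia)⟩
  · rintro K L f ⟨a, _⟩ ⟨b, _⟩
    exact ⟨max (a - 1) b, cone_le f a b _ (by omega) (by omega)⟩
  · rintro K n ⟨p, q, _, _⟩
    exact ⟨p - n, q - n, K.isStrictlyGE_shift p n (p - n) (by lia),
      K.isStrictlyLE_shift q n (q - n) (by lia)⟩
  · rintro K L f ⟨a, b, _, _⟩ ⟨c, d, _, _⟩
    exact ⟨min (a - 2) c, max (b - 1) d,
      CochainComplex.isStrictlyGE_mappingCone f a c _ (by omega) (by omega),
      cone_le f b d _ (by omega) (by omega)⟩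

end Groth.Agent.S6622
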