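import Groth.Statements.S6623
import Groth.Agent.Postnikov.Unique

set_option autoImplicit false
universe v u
open CategoryTheory CategoryTheory.Limits
open CohDer

namespace Groth.Agent.S6623

open CategoryTheory.Pretriangulated in
/-- Let D be a triangulated category, φ : X ⟶ X' a morphism of chain complexes in D considered in
degrees ≤ n, where a Postnikov system for the complex X_n → … → X_0 consists of objects Y_k, an
isomorphism Y_0 ⟶ X_0, and for 0 ≤ k < n distinguished triangles Y_{k+1} ⟶ X_{k+1} ⟶ Y_k ⟶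
Y_{k+1}⟦1⟧ with X_{k+1} ⟶ Y_k ⟶ X_k the differential; let (Y, a, b, c) and (Y', a', b', c') be
Postnikov systems for X and X'. If Hom(X_{j-i}⟦1-i⟧, X'_j) = 0 and Hom(X_j, X'_{j-i}⟦-i⟧) = 0 for
all 0 < i ≤ j ≤ n, then there is at most one morphism of Postnikov systems extending φ: two such
morphisms agree on Y_k for every k ≤ n. -/
theorem result {D : Type u} [Category.{v} D] [Preadditive D] [HasZeroObject D] [HasShift D ℤ]
    [∀ n : ℤ, (shiftFunctor D n).Additive] [Pretriangulated D] [IsTriangulated D]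
    (X X' : ChainComplex D ℕ) (φ : X ⟶ X') (n : ℕ)
    (Y : ℕ → D) (a : ∀ k, Y k ⟶ X.X k) (b : ∀ k, X.X (k + 1) ⟶ Y k)
    (c : ∀ k, Y k ⟶ (shiftFunctor D (1 : ℤ)).obj (Y (k + 1)))
    (h0 : IsIso (a 0))
    (hP : ∀ k, k < n → Triangle.mk (a (k + 1)) (b k) (c k) ∈ distinguishedTriangles ∧ b k ≫ a k = X.d (k + 1) k)
    (qY : ℕ → D) (qa : ∀ k, qY k ⟶ X'.X k) (qb : ∀ k, X'.X (k + 1) ⟶ qY k)
    (qc : ∀ k, qY k ⟶ (shiftFunctor D (1 : ℤ)).obj (qY (k + 1)))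
    (qh0 : IsIso (qa 0))
    (qhP : ∀ k, k < n → Triangle.mk (qa (k + 1)) (qb k) (qc k) ∈ distinguishedTriangles ∧ qb k ≫ qa k = X'.d (k + 1) k)
    (hv : ∀ i j : ℕ, 0 < i → i ≤ j → j ≤ n →
      (∀ ψ : (shiftFunctor D (1 - (i : ℤ))).obj (X.X (j - i)) ⟶ X'.X j, ψ = 0) ∧
      (∀ ψ : X.X j ⟶ (shiftFunctor D (-(i : ℤ))).obj (X'.X (j - i)), ψ = 0))
    (y z : ∀ k, Y k ⟶ qY k)
    (hy : (∀ k, k ≤ n → y k ≫ qa k = a k ≫ φ.f k) ∧
      (∀ k, k < n → b k ≫ y k = φ.f (k + 1) ≫ qb k ∧ c k ≫ (shiftFunctor D (1 : ℤ)).map (y (k + 1)) = y k ≫ qc k))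
    (hz : (∀ k, k ≤ n → z k ≫ qa k = a k ≫ φ.f k) ∧
      (∀ k, k < n → b k ≫ z k = φ.f (k + 1) ≫ qb k ∧ c k ≫ (shiftFunctor D (1 : ℤ)).map (z (k + 1)) = z k ≫ qc k))
    (k : ℕ) (hk : k ≤ n) :
    y k = z k := by
  haveI := h0
  haveI := qh0
  obtain ⟨hy₁, hy₂⟩ := hy
  obtain ⟨hz₁, hz₂⟩ := hz
  suffices key : ∀ j, j ≤ n → y j - z j = 0 from sub_eq_zero.1 (key k hk)
  intro j
  induction j with
  | zero =>
    intro _
    rw [sub_eq_zero]
    exact (cancel_mono (qa 0)).1 ((hy₁ 0 (Nat.zero_le _)).trans (hz₁ 0 (Nat.zero_le _)).symm)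
  | succ j ih =>
    intro hj
    have hc : c j ≫ (shiftFunctor D (1 : ℤ)).map (y (j + 1) - z (j + 1)) = 0 := by
      rw [Functor.map_sub, Preadditive.comp_sub, (hy₂ j hj).2, (hz₂ j hj).2, sub_eq_zero.1 (ih (by omega)), sub_self]
    obtain ⟨ψ, hψ⟩ := Groth.Agent.Postnikov.exists_factor_a (hP j hj).1 _ hc
    have h1 : a (j + 1) ≫ ψ ≫ qa (j + 1) = 0 := by
      rw [← Category.assoc, ← hψ, Preadditive.sub_comp, hy₁ (j + 1) hj, hz₁ (j + 1) hj, sub_self]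
    obtain ⟨χ, hχ⟩ := Pretriangulated.Triangle.yoneda_exact₂
      (Pretriangulated.Triangle.mk (a (j + 1)) (b j) (c j)) (hP j hj).1 (ψ ≫ qa (j + 1)) h1
    have hχ0 : χ = 0 := Groth.Agent.Postnikov.hom_eq_zero_of_src n (fun i => X.X i) Y a b c (fun i hi => (hP i hi).1) j (by omega) _
      (fun m hm => Groth.Agent.Postnikov.eq_zero_adj' (m : ℤ) fun θ => by
        obtain ⟨e1, -⟩ := hv (m + 1) (j + 1) (by omega) (by omega) hj
        have h2 := e1
        rw [show j + 1 - (m + 1) = j - m by omega, show (1 : ℤ) - ((m + 1 : ℕ) : ℤ) = -(m : ℤ) by omega] at h2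
        exact h2 θ) χ
    have hψa : ψ ≫ qa (j + 1) = 0 := hχ.trans ((congrArg _ hχ0).trans comp_zero)
    obtain ⟨χ', hχ'⟩ := Groth.Agent.Postnikov.exists_factor_c (qhP j hj).1 ψ hψa
    have hχ0' : χ' = 0 := Groth.Agent.Postnikov.hom_eq_zero_of_tgt n (fun i => X'.X i) qY qa qb qc (fun i hi => (qhP i hi).1) j (by omega) _
      (fun m hm θ => by
        have h2 := (hv (m + 1) (j + 1) (by omega) (by omega) hj).2
        rw [show j + 1 - (m + 1) = j - m by omega] at h2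
        rw [← cancel_epi ((shiftFunctorAdd' D (1 : ℤ) (m : ℤ) ((m + 1 : ℕ) : ℤ) (by omega)).hom.app (X.X (j + 1))), comp_zero]
        exact Groth.Agent.Postnikov.eq_zero_adj _ h2 _) χ'
    rw [hψ, (shiftFunctor D (1 : ℤ)).map_injective (show (shiftFunctor D (1 : ℤ)).map ψ = (shiftFunctor D (1 : ℤ)).map 0 by
      rw [hχ', hχ0', zero_comp, Functor.map_zero]), comp_zero]

end Groth.Agent.S6623
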