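import Groth.Statements.S6637
import Mathlib
-- import your own Groth.Agent.* helpers here

set_option autoImplicit false
open CategoryTheory CategoryTheory.Limits AlgebraicGeometry Opposite
universe u
open BigSite

namespace Groth.Agent.S6637

/-- For the Zariski, etale, smooth and fppf topologies: for a monomorphism of schemes f : X ⟶ Y the
counit f_big⁻¹ f_big,* F ⟶ F is an isomorphism for every sheaf of sets F on the big site of X, and
for every abelian sheaf. (The published statement also covers the syntomic topology; this row treats
the Zariski, etale, smooth and fppf topologies only.) -/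
theorem result {X Y : Scheme.{u}} (f : X ⟶ Y) [Mono f]
    (K : Precoverage Scheme.{u}) (hK : K = Scheme.zariskiPrecoverage ∨ K = Scheme.etalePrecoverage ∨
      K = Scheme.precoverage @Smooth ∨ K = Scheme.fppfPrecoverage) :
    (∀ F : QuotSh.Sh K X, IsIso ((BigSite.bigAdj K f (Type (u + 1))).counit.app F)) ∧
      (∀ F : BigSite.Ab K X, IsIso ((BigSite.bigAdj K f AddCommGrpCat.{u + 1}).counit.app F)) := by
  haveI : IsIso (Over.mapPullbackAdj f).unit := by
    rw [NatTrans.isIso_iff_isIso_app]
    intro V
    haveI : (Over.map f).Full := ⟨fun {A B} g => ⟨Over.homMk g.left ((cancel_mono f).1 (by simpa using Over.w g)), by ext; rfl⟩⟩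
    haveI : (Over.map f).Faithful := ⟨fun {_ _ a b} h => Over.OverMorphism.ext (congrArg (fun t => t.left) h :)⟩
    infer_instance
  refine ⟨fun F => ?_, fun F => ?_⟩ <;>
  · haveI : IsIso (((BigSite.bigAdj K f _).counit.app F).hom) := by
      haveI : ∀ V, IsIso (((BigSite.bigAdj K f _).counit.app F).hom.app V) := fun V =>
        inferInstanceAs (IsIso (F.obj.map ((Over.mapPullbackAdj f).unit.app V.unop).op))
      exact NatIso.isIso_of_isIso_app _
    exact @isIso_of_reflects_iso _ _ _ _ _ _ _ (sheafToPresheaf _ _) ‹_› _

end Groth.Agent.S6637
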