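import Groth.Statements.S6710
import Mathlib.RingTheory.LocalRing.Module
import Mathlib.RingTheory.LocalRing.ResidueField.Ideal
import Mathlib.Algebra.Module.FinitePresentation
import Mathlib.RingTheory.Ideal.MinimalPrime.Localization

set_option autoImplicit false
universe u v
open CategoryTheory
open FunMor

namespace Groth.Agent.S6710

theorem key {A : Type*} [CommRing A] (J : Ideal A) {p : Ideal A} (hp : p ∈ J.minimalPrimes) (a : A) (ha : a ∈ p) :
    ∃ s ∉ p, ∃ k : ℕ, s * a ^ k ∈ J := by
  haveI : p.IsPrime := hp.1.1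
  by_contra hno
  simp only [not_exists, not_and] at hno
  let S : Submonoid A := p.primeCompl ⊔ Submonoid.powers a
  have hdis : Disjoint (J : Set A) (S : Set A) := Set.disjoint_left.2 fun y hy hy' => by
    obtain ⟨s, hs, z, ⟨k, rfl⟩, rfl⟩ := Submonoid.mem_sup.1 hy'
    exact hno s hs k hy
  obtain ⟨q, hq, hJq, hqS⟩ := Ideal.exists_le_prime_disjoint J S hdis
  have hqp : q ≤ p := fun y hy => by
    by_contra hyp
    exact Set.disjoint_left.1 hqS hy (Submonoid.mem_sup_left hyp)
  exact Set.disjoint_left.1 hqS (hp.2 ⟨hq, hJq⟩ hqp ha) (Submonoid.mem_sup_right (Submonoid.mem_powers a))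


/-- The statement for an affine scheme written in terms of modules: let A be a commutative ring, M a
finitely presented A-module and N a nonzero A-module with Supp(N) ⊆ Supp(M). Then Hom_A(M, N) is
nonzero. -/
theorem result
    (A : Type u) [CommRing A] (M : Type v) [AddCommGroup M] [Module A M]
    [Module.FinitePresentation A M] (N : Type v) [AddCommGroup N] [Module A N] [Nontrivial N]
    (h : Module.support A N ⊆ Module.support A M) : Nontrivial (M →ₗ[A] N) := by
  classical
  obtain ⟨x, hx⟩ := exists_ne (0 : N)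
  obtain ⟨p, hp⟩ := Ideal.nonempty_minimalPrimes (I := LinearMap.ker (LinearMap.toSpanSingleton A N x)) (by
    rw [Ideal.ne_top_iff_one]; simpa using hx)
  haveI hpp : p.IsPrime := hp.1.1
  have hxp : ∀ t ∉ p, t • x ≠ 0 := fun t ht h0 => ht (hp.1.2 (by simpa using h0))
  have hnil : ∀ a ∈ p, ∃ k : ℕ, ∃ s ∉ p, (s * a ^ k) • x = 0 := fun a ha => by
    obtain ⟨s, hs, k, hk⟩ := key _ hp a ha
    exact ⟨k, s, hs, by simpa using hk⟩
  have hpM : (⟨p, hpp⟩ : PrimeSpectrum A) ∈ Module.support A M := h (Module.mem_support_iff_exists_annihilator.2 ⟨x, fun r hr => by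
    by_contra hrp
    rw [Submodule.mem_annihilator_span_singleton] at hr
    exact hxp r hrp hr⟩)
  haveI : Nontrivial (TensorProduct A p.ResidueField M) := (Module.mem_support_iff_nontrivial_residueField_tensorProduct (M := M) ⟨p, hpp⟩).1 hpM
  obtain ⟨g, hg⟩ : ∃ g : TensorProduct A p.ResidueField M →ₗ[p.ResidueField] p.ResidueField, g ≠ 0 := exists_ne _
  let φ : M →ₗ[A] p.ResidueField := (g.restrictScalars A).comp (TensorProduct.mk A p.ResidueField M 1)
  have hφ : φ ≠ 0 := fun h0 => hg (by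
    refine TensorProduct.AlgebraTensorModule.ext fun c m => ?_
    have := LinearMap.congr_fun h0 m
    rw [show c ⊗ₜ[A] m = c • ((1 : p.ResidueField) ⊗ₜ[A] m) by rw [TensorProduct.smul_tmul', smul_eq_mul, mul_one], map_smul]
    simp only [φ, LinearMap.comp_apply, TensorProduct.mk_apply, LinearMap.restrictScalars_apply, LinearMap.zero_apply] at this
    rw [this, smul_zero, LinearMap.zero_apply])
  obtain ⟨n, K, e, hK⟩ := Module.FinitePresentation.exists_fin A M
  let π : (Fin n → A) →ₗ[A] M := e.symm.toLinearMap.comp K.mkQ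
  have hπ : Function.Surjective π := e.symm.surjective.comp K.mkQ_surjective
  obtain ⟨⟨d, hd⟩, hd'⟩ := IsLocalization.exist_integer_multiples_of_finite (nonZeroDivisors (A ⧸ p)) (fun i : Fin n => φ (π (Pi.single i 1)))
  obtain ⟨d, rfl⟩ := Ideal.Quotient.mk_surjective d
  have hdp : d ∉ p := fun hh => nonZeroDivisors.ne_zero hd (Ideal.Quotient.eq_zero_iff_mem.2 hh)
  have hlift : ∀ i, ∃ r : A, algebraMap A p.ResidueField r = algebraMap A p.ResidueField d * φ (π (Pi.single i 1)) := fun i => by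
    obtain ⟨r, hr⟩ := hd' i
    obtain ⟨r, rfl⟩ := Ideal.Quotient.mk_surjective r
    refine ⟨r, ?_⟩
    rw [Algebra.smul_def] at hr
    rw [IsScalarTower.algebraMap_apply A (A ⧸ p) p.ResidueField r, IsScalarTower.algebraMap_apply A (A ⧸ p) p.ResidueField d]
    exact hr
  choose ψ hψ using hlift
  have hlin : ∀ v : Fin n → A, algebraMap A p.ResidueField (∑ i, v i * ψ i) = algebraMap A p.ResidueField d * φ (π v) := fun v => by
    have hv : φ (π v) = ∑ i, v i • φ (π (Pi.single i 1)) := by
      conv_lhs => rw [pi_eq_sum_univ' v]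
      simp only [map_sum, map_smul]
    rw [hv, map_sum, Finset.mul_sum]
    refine Finset.sum_congr rfl fun i _ => ?_
    rw [map_mul, hψ, Algebra.smul_def]
    ring
  obtain ⟨S, hS⟩ := hK
  obtain ⟨c, hc0, hcK⟩ : ∃ c : A, (∀ t ∉ p, (t * c) • x ≠ 0) ∧ ∀ v ∈ S, ∃ t ∉ p, (t * c * ∑ i, v i * ψ i) • x = 0 := by
    have hker : ∀ v ∈ S, ∑ i, v i * ψ i ∈ p := fun v hv => by
      have hvK : v ∈ K := hS ▸ Submodule.subset_span hv
      have : π v = 0 := by simp [π, (Submodule.Quotient.mk_eq_zero K).2 hvK]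
      rw [← Ideal.algebraMap_residueField_eq_zero, hlin, this, map_zero, mul_zero]
    clear hS
    induction S using Finset.induction with
    | empty => exact ⟨1, fun t ht => by rw [mul_one]; exact hxp t ht, by simp⟩
    | @insert w S hw ih =>
      obtain ⟨c, hc0, hcK⟩ := ih fun v hv => hker v (Finset.mem_insert_of_mem hv)
      obtain ⟨k, s, hs, hk⟩ := hnil _ (hker w (Finset.mem_insert_self _ _))
      let a := ∑ i, w i * ψ i
      have hex : ∃ k, ∃ s ∉ p, (s * (c * a ^ k)) • x = 0 := ⟨k, s, hs, by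
        rw [show s * (c * a ^ k) = c * (s * a ^ k) by ring, mul_smul, hk, smul_zero]⟩
      have hk0 : Nat.find hex ≠ 0 := fun h0 => by
        obtain ⟨s, hs, h1⟩ := Nat.find_spec hex
        rw [h0, pow_zero, mul_one] at h1
        exact hc0 s hs h1
      obtain ⟨j, hj⟩ := Nat.exists_eq_succ_of_ne_zero hk0
      refine ⟨c * a ^ j, fun t ht h0 => Nat.find_min hex (show j < Nat.find hex by omega) ⟨t, ht, h0⟩, fun v hv => ?_⟩
      rcases Finset.mem_insert.1 hv with rfl | hv
      · obtain ⟨s, hs, h1⟩ := Nat.find_spec hex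
        refine ⟨s, hs, ?_⟩
        rw [hj, pow_succ] at h1
        rw [show s * (c * a ^ j) * ∑ i, v i * ψ i = s * (c * (a ^ j * a)) by ring]
        exact h1
      · obtain ⟨t, ht, h1⟩ := hcK v hv
        refine ⟨t, ht, ?_⟩
        rw [show t * (c * a ^ j) * ∑ i, v i * ψ i = a ^ j * (t * c * ∑ i, v i * ψ i) by ring, mul_smul, h1, smul_zero]
  choose! t ht hc using hcK
  let T := ∏ v ∈ S, t v
  have hT : T ∉ p := fun hh => by
    obtain ⟨v, hv, hv'⟩ := hpp.prod_mem_iff.1 hh
    exact ht v hv hv'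
  let f : (Fin n → A) →ₗ[A] N := (LinearMap.toSpanSingleton A N ((T * c) • x)).comp (Fintype.linearCombination A ψ)
  have hf : K ≤ LinearMap.ker f := by
    rw [← hS, Submodule.span_le]
    intro v hv
    obtain ⟨u, hu⟩ := Finset.dvd_prod_of_mem t hv
    simp only [SetLike.mem_coe, LinearMap.mem_ker, f, LinearMap.comp_apply, Fintype.linearCombination_apply, LinearMap.toSpanSingleton_apply, smul_eq_mul, smul_smul]
    rw [show (∑ i, v i * ψ i) * (T * c) = u * (t v * c * ∑ i, v i * ψ i) by simp only [T, hu]; ring, mul_smul, hc v hv, smul_zero]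
  refine ⟨(K.liftQ f hf).comp e.toLinearMap, 0, fun h0 => hφ ?_⟩
  refine LinearMap.ext fun m => ?_
  obtain ⟨v, rfl⟩ := hπ m
  have h1 := LinearMap.congr_fun h0 (π v)
  simp only [π, LinearMap.comp_apply, LinearEquiv.coe_coe, LinearEquiv.apply_symm_apply, Submodule.mkQ_apply, Submodule.liftQ_apply, LinearMap.zero_apply, f, Fintype.linearCombination_apply, LinearMap.toSpanSingleton_apply, smul_eq_mul, smul_smul] at h1
  by_contra hne
  have hnot : (∑ i, v i * ψ i) ∉ p := fun hh => by
    rw [← Ideal.algebraMap_residueField_eq_zero, hlin] at hh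
    rcases mul_eq_zero.1 hh with h2 | h2
    · exact hdp (Ideal.algebraMap_residueField_eq_zero.1 h2)
    · exact hne h2
  refine hc0 ((∑ i, v i * ψ i) * T) (hpp.mul_notMem hnot hT) ?_
  rw [mul_assoc]
  exact h1

end Groth.Agent.S6710
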