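import Groth.Statements.S6774
import Groth.Agent.DeltaFLib.Universal

set_option autoImplicit false
open CategoryTheory
universe v u v' u'
open DeltaF

namespace Groth.Agent.S6774

/-- Two universal cohomological delta-functors (indexed by `ℕ`) with isomorphic degree-`0` functors are
isomorphic as delta-functors, by a unique isomorphism extending the given one in degree `0`. -/
theorem result {A : Type u} [Category.{v} A] [Abelian A] {B : Type u'} [Category.{v'} B] [Abelian B] (T T' : DeltaF.CohDeltaFunctor A B ℕ) (hT : T.IsUniversal) (hT' : T'.IsUniversal) (e : T.F 0 ≅ T'.F 0) : ∃! φ : T ≅ T', φ.hom.app 0 = e.hom := by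
  obtain ⟨a, ha, -⟩ := hT T' e.hom
  obtain ⟨b, hb, -⟩ := hT' T e.inv
  have h1 : a ≫ b = 𝟙 T := (hT T (𝟙 _)).unique
    (by rw [DeltaF.CohDeltaFunctor.comp_app, ha, hb, e.hom_inv_id]) (DeltaF.CohDeltaFunctor.id_app T 0)
  have h2 : b ≫ a = 𝟙 T' := (hT' T' (𝟙 _)).unique
    (by rw [DeltaF.CohDeltaFunctor.comp_app, ha, hb, e.inv_hom_id]) (DeltaF.CohDeltaFunctor.id_app T' 0)
  exact ⟨⟨a, b, h1, h2⟩, ha, fun φ hφ => Iso.ext ((hT T' e.hom).unique hφ ha)⟩

end Groth.Agent.S6774
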