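import Groth.Statements.S6775
import Mathlib.CategoryTheory.Abelian.Basic
import Mathlib.Algebra.Homology.Square

set_option autoImplicit false
open CategoryTheory CategoryTheory.Limits
universe v u
open CategoryTheory CategoryTheory.Abelian

namespace Groth.Agent.S6775

/-- In an abelian category a cartesian square whose bottom arrow `k` is an epimorphism is also
cocartesian, and the arrow `f` opposite to `k` is an epimorphism. -/
theorem result {A : Type u} [Category.{v} A] [Abelian A] {w x y z : A} (f : w ⟶ y) (g : w ⟶ x) (h : y ⟶ z) (k : x ⟶ z) (sq : IsPullback f g h k) [Epi k] : IsPushout f g h k ∧ Epi f := by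
  let Q : Square A := Square.mk f g h k sq.w
  have hl := Square.IsPullback.isLimitKernelFork (sq := Q) (Square.IsPullback.mk Q sq.isLimit)
  haveI : Epi (biprod.desc h (-k)) := epi_of_epi_fac (f := biprod.inr) (h := -k) (biprod.inr_desc _ _)
  have hc := Abelian.epiIsCokernelOfKernel Q.kernelFork hl
  have push : IsPushout f g h k := by
    refine IsPushout.of_isColimit' sq.toCommSq
      (PushoutCocone.IsColimit.mk _ (fun s => (CokernelCofork.IsColimit.desc' hc (biprod.desc s.inl (-s.inr))
        (by simp [Q, s.condition])).1) (fun s => ?_) (fun s => ?_) (fun s m h₁ h₂ => ?_))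
    · have := (CokernelCofork.IsColimit.desc' hc (biprod.desc s.inl (-s.inr))
        (by simp [Q, s.condition])).2
      simpa [Q] using biprod.inl ≫= this
    · have := (CokernelCofork.IsColimit.desc' hc (biprod.desc s.inl (-s.inr))
        (by simp [Q, s.condition])).2
      simpa [Q] using biprod.inr ≫= this
    · refine Cofork.IsColimit.hom_ext hc ?_
      rw [(CokernelCofork.IsColimit.desc' hc (biprod.desc s.inl (-s.inr))
        (by simp [Q, s.condition])).2]
      apply biprod.hom_ext' <;> simp [Q, h₁, h₂]
  refine ⟨push, Preadditive.epi_of_cancel_zero f fun {T} a ha => ?_⟩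
  obtain ⟨t, h₁, h₂⟩ := push.exists_desc a 0 (by simp [ha])
  rw [← h₁, (cancel_epi k).1 (h₂.trans comp_zero.symm), comp_zero]

end Groth.Agent.S6775
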