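import Groth.Statements.S6776
import Mathlib.CategoryTheory.Abelian.Basic
import Mathlib.Algebra.Homology.Square

set_option autoImplicit false
open CategoryTheory CategoryTheory.Limits
universe v u
open CategoryTheory CategoryTheory.Abelian

namespace Groth.Agent.S6776

/-- In an abelian category a cocartesian square whose left arrow `g` is a monomorphism is also
cartesian, and the arrow `h` opposite to `g` is a monomorphism. -/
theorem result {A : Type u} [Category.{v} A] [Abelian A] {w x y z : A} (f : w ⟶ y) (g : w ⟶ x) (h : y ⟶ z) (k : x ⟶ z) (sq : IsPushout f g h k) [Mono g] : IsPullback f g h k ∧ Mono h := by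
  let Q : Square A := Square.mk f g h k sq.w
  have hl := Square.IsPushout.isColimitCokernelCofork (sq := Q) (Square.IsPushout.mk Q sq.isColimit)
  haveI : Mono (biprod.lift f (-g)) := mono_of_mono_fac (biprod.lift_snd f (-g))
  have hc := Abelian.monoIsKernelOfCokernel Q.cokernelCofork hl
  have pull : IsPullback f g h k := by
    refine IsPullback.of_isLimit' sq.toCommSq
      (PullbackCone.IsLimit.mk _ (fun s => (KernelFork.IsLimit.lift' hc (biprod.lift s.fst (-s.snd))
        (by simp [Q, s.condition])).1) (fun s => ?_) (fun s => ?_) (fun s m h₁ h₂ => ?_))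
    · have := (KernelFork.IsLimit.lift' hc (biprod.lift s.fst (-s.snd))
        (by simp [Q, s.condition])).2
      simpa [Q] using this =≫ biprod.fst
    · have := (KernelFork.IsLimit.lift' hc (biprod.lift s.fst (-s.snd))
        (by simp [Q, s.condition])).2
      simpa [Q] using this =≫ biprod.snd
    · refine Fork.IsLimit.hom_ext hc ?_
      rw [(KernelFork.IsLimit.lift' hc (biprod.lift s.fst (-s.snd))
        (by simp [Q, s.condition])).2]
      apply biprod.hom_ext <;> simp [Q, h₁, h₂]
  refine ⟨pull, Preadditive.mono_of_cancel_zero h fun {T} a ha => ?_⟩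
  obtain ⟨t, h₁, h₂⟩ := pull.exists_lift a 0 (by simp [ha])
  rw [← h₁, (cancel_mono g).1 (h₂.trans zero_comp.symm), zero_comp]

end Groth.Agent.S6776
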