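import Groth.Statements.S6780
import Groth.Agent.SimpGrp.Kan
import Mathlib.Algebra.Category.Grp.Limits
import Mathlib.GroupTheory.QuotientGroup.Basic
import Mathlib.AlgebraicTopology.SimplicialSet.HornColimits

set_option autoImplicit false
open CategoryTheory
universe u
open SSet

namespace Groth.Agent.S6780

open Simplicial Opposite in
/-- the kernel as a simplicial group -/
def kerGrp {X Y : SimplicialObject AddCommGrpCat.{u}} (f : X ⟶ Y) : SimplicialObject GrpCat.{u} where
  obj m := GrpCat.of (Multiplicative (f.app m).hom.ker)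
  map {m m'} g := GrpCat.ofHom (AddMonoidHom.toMultiplicative
    (((X.map g).hom.comp (f.app m).hom.ker.subtype).codRestrict (f.app m').hom.ker (fun x => by
      show f.app m' (X.map g x.1) = 0
      rw [NatTrans.naturality_apply f g]
      exact (congrArg (Y.map g) x.2).trans (map_zero _))))
  map_id m := by
    ext x
    exact Multiplicative.toAdd.injective (Subtype.ext (ConcreteCategory.congr_hom (X.map_id m) (Multiplicative.toAdd x).1))
  map_comp g h := by
    ext x
    exact Multiplicative.toAdd.injective (Subtype.ext (ConcreteCategory.congr_hom (X.map_comp g h) (Multiplicative.toAdd x).1))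



/-- A degreewise surjective homomorphism of simplicial abelian groups is a Kan fibration of the
underlying simplicial sets. -/
theorem result {X Y : SimplicialObject AddCommGrpCat.{u}} (f : X ⟶ Y) (hf : ∀ n : SimplexCategoryᵒᵖ, Function.Surjective (f.app n)) : SSet.modelCategoryQuillen.J.rlp (X := X ⋙ forget AddCommGrpCat.{u}) (Y := Y ⋙ forget AddCommGrpCat.{u}) (Functor.whiskerRight f (forget AddCommGrpCat.{u})) := by
  classical
  rename' X => XX, Y => YY
  intro _ _ _ hι
  simp only [SSet.modelCategoryQuillen.J, MorphismProperty.iSup_iff] at hι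
  obtain ⟨n, ⟨i⟩⟩ := hι
  constructor
  intro t b sq
  have hw := sq.w
  let x : Fin (n + 2) → XX.obj (Opposite.op (SimplexCategory.mk n)) := fun j =>
    if h : j = i then 0 else SSet.yonedaEquiv (SSet.horn.ι i j h ≫ t)
  let b' : YY.obj (Opposite.op (SimplexCategory.mk (n + 1))) := SSet.yonedaEquiv b
  obtain ⟨z, hz⟩ := hf _ b'
  have hker : ∀ j, (if j = i then (0 : XX.obj (Opposite.op (SimplexCategory.mk n))) else x j - XX.δ j z) ∈ (f.app (Opposite.op (SimplexCategory.mk n))).hom.ker := fun j => by
    split
    · exact zero_mem _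
    · next h =>
      show f.app _ (x j - XX.δ j z) = 0
      rw [map_sub, sub_eq_zero]
      simp only [x, dif_neg h]
      refine Eq.trans ?_ (NatTrans.naturality_apply f (SimplexCategory.δ j).op z).symm
      rw [hz]
      refine Eq.trans ?_ (Groth.Agent.SimpGrp.Kan.yonedaEquiv_map_comp (SimplexCategory.δ j) b)
      show (Functor.whiskerRight f (forget AddCommGrpCat.{u})).app _ (SSet.yonedaEquiv (SSet.horn.ι i j h ≫ t)) = _
      rw [← SSet.yonedaEquiv_comp, Category.assoc, hw, SSet.horn.ι_ι_assoc]
      rfl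
  let x' : Fin (n + 2) → (kerGrp f).obj (Opposite.op (SimplexCategory.mk n)) := fun j => Multiplicative.ofAdd ⟨_, hker j⟩
  obtain ⟨w, hw'⟩ := Groth.Agent.SimpGrp.Kan.fill (kerGrp f) i x' (by
    rintro m rfl a b₁ hab ha hb
    have hlt : a.castSucc < b₁.succ := Fin.castSucc_lt_succ_iff.2 hab
    have h := congrArg SSet.yonedaEquiv ((SSet.horn.isCompatible_iff _).1 (SSet.horn.IsCompatible.of_hom t) a.castSucc b₁.succ ha hb hlt)
    simp only [Fin.pred_succ, Fin.castPred_castSucc] at h
    simp only [Fin.cast_eq_self] at ha hb ⊢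
    refine Multiplicative.toAdd.injective (Subtype.ext ?_)
    show XX.δ b₁ (if a.castSucc = i then 0 else x a.castSucc - XX.δ a.castSucc z) = XX.δ a (if b₁.succ = i then 0 else x b₁.succ - XX.δ b₁.succ z)
    rw [if_neg ha, if_neg hb, map_sub, map_sub]
    have h2 : XX.δ b₁ (XX.δ a.castSucc z) = XX.δ a (XX.δ b₁.succ z) :=
      (ConcreteCategory.congr_hom (SimplicialObject.δ_comp_δ XX hab) z).symm
    rw [h2]
    congr 1
    simp only [x, dif_neg ha, dif_neg hb]
    exact ((Groth.Agent.SimpGrp.Kan.yonedaEquiv_map_comp _ _).symm.trans h).trans (Groth.Agent.SimpGrp.Kan.yonedaEquiv_map_comp _ _))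
  refine ⟨⟨{ l := SSet.yonedaEquiv.symm (z + (Multiplicative.toAdd w).1 : XX.obj (Opposite.op (SimplexCategory.mk (n + 1)))), fac_left := ?_, fac_right := ?_ }⟩⟩
  · refine SSet.horn.hom_ext' fun j hj => SSet.yonedaEquiv.injective ?_
    rw [SSet.horn.ι_ι_assoc]
    refine (Groth.Agent.SimpGrp.Kan.yonedaEquiv_map_comp _ _).trans ?_
    rw [Equiv.apply_symm_apply]
    show XX.δ j (z + (Multiplicative.toAdd w).1) = _
    rw [map_add]
    have e : XX.δ j (Multiplicative.toAdd w).1 = (if j = i then 0 else x j - XX.δ j z) :=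
      congrArg (fun q => (Multiplicative.toAdd q).1) (hw' j hj)
    rw [e, if_neg hj, add_sub_cancel]
    simp only [x, dif_neg hj]
  · apply SSet.yonedaEquiv.injective
    rw [SSet.yonedaEquiv_comp, Equiv.apply_symm_apply]
    show f.app _ (z + (Multiplicative.toAdd w).1) = b'
    rw [map_add, (Multiplicative.toAdd w).2, add_zero]
    exact hz

end Groth.Agent.S6780
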