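import Groth.Statements.S6782
import Mathlib.AlgebraicTopology.SimplicialSet.Boundary

set_option autoImplicit false
open CategoryTheory Opposite
universe u
open SSet

namespace Groth.Agent.S6782

open Simplicial Opposite in
theorem boundary_ext {m : ℕ} {U V : SSet.{u}} (f : V ⟶ U) (hinj : ∀ i : ℕ, i < m → Function.Injective (f.app (op (SimplexCategory.mk i))))
    {g h : (∂Δ[m] : SSet.{u}) ⟶ V} (e : g ≫ f = h ≫ f) : g = h := by
  cases m with
  | zero =>
    ext d ⟨x, hx⟩
  | succ m =>
    refine SSet.boundary.hom_ext fun i => SSet.yonedaEquiv.injective ?_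
    apply hinj m (Nat.lt_succ_self m)
    exact ConcreteCategory.congr_hom (NatTrans.congr_app (congrArg (fun q => SSet.boundary.ι i ≫ q) e) (op (SimplexCategory.mk m)))
      (SSet.stdSimplex.objEquiv.symm (𝟙 (SimplexCategory.mk m)))


/-- A map of `n`-coskeletal simplicial sets which is bijective on simplices of dimension `< n` and
surjective on `n`-simplices is a trivial Kan fibration. -/
theorem result {U V : SSet.{u}} (f : V ⟶ U) (n : ℕ) (h1 : ∀ i : ℕ, i < n → Function.Bijective (f.app (op (SimplexCategory.mk i)))) (h2 : Function.Surjective (f.app (op (SimplexCategory.mk n)))) [SimplicialObject.IsCoskeletal U n] [SimplicialObject.IsCoskeletal V n] : SSet.modelCategoryQuillen.I.rlp f := by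
  rintro _ _ _ ⟨m⟩
  constructor
  intro top bot sq
  have hcomm := sq.w
  have hinj : m ≤ n → ∀ i : ℕ, i < m → Function.Injective (f.app (op (SimplexCategory.mk i))) := fun hm i hi => (h1 i (by omega)).1
  rcases Nat.lt_or_ge n m with hm | hm
  · let α := 𝟙 ((SimplexCategory.Truncated.inclusion n).op ⋙ V)
    let α' := 𝟙 ((SimplexCategory.Truncated.inclusion n).op ⋙ U)
    haveI : Functor.IsRightKanExtension V α := SimplicialObject.IsCoskeletal.isRightKanExtension
    haveI : Functor.IsRightKanExtension U α' := SimplicialObject.IsCoskeletal.isRightKanExtension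
    have hmem : ∀ (Y : (SimplexCategory.Truncated n)ᵒᵖ) (x : (SSet.stdSimplex.obj (SimplexCategory.mk m)).obj (op Y.unop.obj)),
        x ∈ (SSet.boundary.{u} m).obj (op Y.unop.obj) := by
      rintro ⟨⟨⟨l⟩, hl⟩⟩ x
      have hl' : l ≤ n := hl
      exact (SSet.boundary_obj_eq_univ l m (by omega)).ge trivial
    let β : (SimplexCategory.Truncated.inclusion n).op ⋙ SSet.stdSimplex.obj (SimplexCategory.mk m) ⟶
        (SimplexCategory.Truncated.inclusion n).op ⋙ V :=
      { app := fun Y => ↾(fun x => top.app (op Y.unop.obj) ⟨x, hmem Y x⟩)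
        naturality := fun Y Y' φ => by
          ext x
          exact NatTrans.naturality_apply top φ.unop.hom.op ⟨x, hmem Y x⟩ }
    let L := Functor.liftOfIsRightKanExtension V α _ β
    have fac : Functor.whiskerLeft _ L ≫ α = β := Functor.liftOfIsRightKanExtension_fac V α _ β
    refine ⟨⟨{ l := L, fac_left := ?_, fac_right := ?_ }⟩⟩
    · refine Functor.hom_ext_of_isRightKanExtension V α _ _ ?_
      ext Y x
      exact ConcreteCategory.congr_hom (NatTrans.congr_app fac Y) x.1
    · refine Functor.hom_ext_of_isRightKanExtension U α' _ _ ?_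
      ext Y x
      refine (congrArg (f.app _) (ConcreteCategory.congr_hom (NatTrans.congr_app fac Y) x)).trans ?_
      exact ConcreteCategory.congr_hom (NatTrans.congr_app hcomm (op Y.unop.obj)) ⟨x, hmem Y x⟩
  · obtain ⟨y, hy⟩ : ∃ y, f.app (op (SimplexCategory.mk m)) y = SSet.yonedaEquiv bot := by
      rcases Nat.lt_or_eq_of_le hm with h | rfl
      · exact (h1 m h).2 _
      · exact h2 _
    have hl : SSet.yonedaEquiv.symm y ≫ f = bot := by
      apply SSet.yonedaEquiv.injective
      rw [SSet.yonedaEquiv_comp, Equiv.apply_symm_apply]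
      exact hy
    exact ⟨⟨{ l := SSet.yonedaEquiv.symm y, fac_left := boundary_ext f (hinj hm) (by rw [Category.assoc, hl]; exact hcomm.symm), fac_right := hl }⟩⟩

end Groth.Agent.S6782
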