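import Groth.Statements.S6784
import Mathlib.AlgebraicTopology.SimplicialSet.StdSimplex
import Mathlib.AlgebraicTopology.SimplicialObject.Coskeletal

set_option autoImplicit false
open CategoryTheory
universe u
open SSet

namespace Groth.Agent.S6784

/-- The standard simplex `Δ[n]` is `1`-coskeletal, i.e. it is the right Kan extension of its
`1`-truncation. -/
theorem result (n : ℕ) : SimplicialObject.IsCoskeletal (SSet.stdSimplex.{u}.obj (SimplexCategory.mk n)) 1 := by
  let α := 𝟙 ((SimplexCategory.Truncated.inclusion 1).op ⋙ SSet.stdSimplex.{u}.obj (SimplexCategory.mk n))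
  let o : ∀ (k : ℕ), k ≤ 1 → (SimplexCategory.Truncated 1) := fun k hk => ⟨SimplexCategory.mk k, hk⟩
  let val : ∀ (G : SimplexCategoryᵒᵖ ⥤ Type u) (_β : (SimplexCategory.Truncated.inclusion 1).op ⋙ G ⟶
      (SimplexCategory.Truncated.inclusion 1).op ⋙ SSet.stdSimplex.{u}.obj (SimplexCategory.mk n))
      (Y : SimplexCategoryᵒᵖ), G.obj Y → Fin (Y.unop.len + 1) → Fin (n + 1) := fun G β Y x k =>
    (SSet.stdSimplex.objEquiv (β.app (Opposite.op (o 0 (Nat.zero_le _))) (G.map (SimplexCategory.const (SimplexCategory.mk 0) Y.unop k).op x))).toOrderHom 0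
  have edge : ∀ G β Y x (k : Fin (Y.unop.len + 1)) (φ : SimplexCategory.mk 1 ⟶ Y.unop) (a : Fin 2), φ.toOrderHom a = k →
      val G β Y x k = (SSet.stdSimplex.objEquiv (β.app (Opposite.op (o 1 le_rfl)) (G.map φ.op x))).toOrderHom a := by
    intro G β Y x k φ a ha
    subst ha
    let c : o 0 (Nat.zero_le _) ⟶ o 1 le_rfl := ⟨SimplexCategory.const (SimplexCategory.mk 0) (SimplexCategory.mk 1) a⟩
    have h := ConcreteCategory.congr_hom (β.naturality c.op) (G.map φ.op x)
    have e : SimplexCategory.const (SimplexCategory.mk 0) Y.unop (φ.toOrderHom a) =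
        SimplexCategory.const (SimplexCategory.mk 0) (SimplexCategory.mk 1) a ≫ φ := by ext z; rfl
    show (SSet.stdSimplex.objEquiv (β.app (Opposite.op (o 0 (Nat.zero_le _))) (G.map (SimplexCategory.const (SimplexCategory.mk 0) Y.unop (φ.toOrderHom a)).op x))).toOrderHom 0 = _
    rw [e, op_comp, FunctorToTypes.map_comp_apply]
    exact congrArg (fun z => (SSet.stdSimplex.objEquiv z).toOrderHom 0) h
  have mono : ∀ G β Y x, Monotone (val G β Y x) := by
    intro G β Y x k l hkl
    let φ : SimplexCategory.mk 1 ⟶ Y.unop := SimplexCategory.mkHom ⟨![k, l], by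
      intro a b hab
      fin_cases a <;> fin_cases b <;> first | exact le_rfl | exact hkl | exact absurd hab (by decide)⟩
    rw [edge G β Y x k φ 0 rfl, edge G β Y x l φ 1 rfl]
    exact OrderHom.monotone _ (Fin.zero_le 1)
  let lift : ∀ (G : SimplexCategoryᵒᵖ ⥤ Type u) (_β : (SimplexCategory.Truncated.inclusion 1).op ⋙ G ⟶
      (SimplexCategory.Truncated.inclusion 1).op ⋙ SSet.stdSimplex.{u}.obj (SimplexCategory.mk n)),
      G ⟶ SSet.stdSimplex.{u}.obj (SimplexCategory.mk n) := fun G β =>
    { app := fun Y => ↾(fun x => SSet.stdSimplex.objEquiv.symm (SimplexCategory.Hom.mk ⟨val G β Y x, mono G β Y x⟩))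
      naturality := fun Y Y' φ => by
        ext x
        apply SSet.stdSimplex.objEquiv.injective
        refine (Equiv.apply_symm_apply _ _).trans ?_
        refine SimplexCategory.Hom.ext _ _ (OrderHom.ext _ _ (funext fun k => ?_))
        show val G β Y' (G.map φ x) k = val G β Y x (φ.unop.toOrderHom k)
        refine congrArg (fun z => (SSet.stdSimplex.objEquiv (β.app (Opposite.op (o 0 (Nat.zero_le _))) z)).toOrderHom 0) ?_
        rw [← FunctorToTypes.map_comp_apply]
        exact congrArg (fun h => G.map h x) (Quiver.Hom.unop_inj (by ext z; rfl)) }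
  have fac : ∀ G β, Functor.whiskerLeft (SimplexCategory.Truncated.inclusion 1).op (lift G β) ≫ α = β := by
    intro G β
    ext ⟨⟨⟨l⟩, hl⟩⟩ x
    apply SSet.stdSimplex.objEquiv.injective
    refine (Equiv.apply_symm_apply _ _).trans ?_
    refine SimplexCategory.Hom.ext _ _ (OrderHom.ext _ _ (funext fun k => ?_))
    let c : o 0 (Nat.zero_le _) ⟶ ⟨SimplexCategory.mk l, hl⟩ := ⟨SimplexCategory.const (SimplexCategory.mk 0) (SimplexCategory.mk l) k⟩
    exact congrArg (fun z => (SSet.stdSimplex.objEquiv z).toOrderHom 0) (ConcreteCategory.congr_hom (β.naturality c.op) x)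
  refine ⟨⟨⟨Limits.IsTerminal.ofUniqueHom (fun E => CostructuredArrow.homMk (lift E.left E.hom) (fac E.left E.hom)) fun E m => ?_⟩⟩⟩
  apply CostructuredArrow.hom_ext
  ext Y x
  apply SSet.stdSimplex.objEquiv.injective
  refine Eq.trans ?_ (Equiv.apply_symm_apply _ _).symm
  refine SimplexCategory.Hom.ext _ _ (OrderHom.ext _ _ (funext fun k => ?_))
  have h1 := ConcreteCategory.congr_hom (m.left.naturality (SimplexCategory.const (SimplexCategory.mk 0) Y.unop k).op) x
  have h2 := ConcreteCategory.congr_hom (NatTrans.congr_app (CostructuredArrow.w m) (Opposite.op (o 0 (Nat.zero_le _))))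
    (E.left.map (SimplexCategory.const (SimplexCategory.mk 0) Y.unop k).op x)
  refine Eq.trans ?_ (congrArg (fun z => (SSet.stdSimplex.objEquiv z).toOrderHom 0) (h1.symm.trans h2))
  rfl

end Groth.Agent.S6784
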