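import Groth.Statements.S6786
import Mathlib
import Groth.Agent.ML.Basic

set_option autoImplicit false
open CategoryTheory CategoryTheory.Limits
universe u
open HomAlg3

namespace Groth.Agent.S6786

open Opposite Groth.Agent.ML.Basic

/-- For a sequence `(A_i) ⟶ (B_i) ⟶ (C_i) ⟶ (D_i)` of inverse systems of abelian groups over `ℕ` that is
exact levelwise at the two middle places, if `(A_i)` is Mittag-Leffler then `lim B_i ⟶ lim C_i ⟶ lim
D_i` is exact. -/
theorem result {A B C D : ℕᵒᵖ ⥤ AddCommGrpCat.{u}} (a : A ⟶ B) (b : B ⟶ C) (c : C ⟶ D) (hB : ∀ i, (b.app i).hom.ker = (a.app i).hom.range) (hC : ∀ i, (c.app i).hom.ker = (b.app i).hom.range) (hA : (A ⋙ forget AddCommGrpCat).IsMittagLeffler) : (limMap c).hom.ker = (limMap b).hom.range := by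
  have hcomp : ∀ (x : (limit B : AddCommGrpCat.{u})) (j : ℕᵒᵖ),
      (limit.π C j).hom ((limMap b).hom x) = (b.app j).hom ((limit.π B j).hom x) := fun x j =>
    ConcreteCategory.congr_hom (limMap_π b j) x
  have hcompc : ∀ (x : (limit C : AddCommGrpCat.{u})) (j : ℕᵒᵖ),
      (limit.π D j).hom ((limMap c).hom x) = (c.app j).hom ((limit.π C j).hom x) := fun x j =>
    ConcreteCategory.congr_hom (limMap_π c j) x
  have nat : ∀ {i k : ℕ} (h : i ≤ k) (x : B.obj (op k)), t C h ((b.app (op k)).hom x) = (b.app (op i)).hom (t B h x) := fun {i k} h x => by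
    exact (ConcreteCategory.congr_hom (b.naturality (homOfLE h).op) x).symm
  have nata : ∀ {i k : ℕ} (h : i ≤ k) (x : A.obj (op k)), t B h ((a.app (op k)).hom x) = (a.app (op i)).hom (t A h x) := fun {i k} h x => by
    exact (ConcreteCategory.congr_hom (a.naturality (homOfLE h).op) x).symm
  ext x
  rw [AddMonoidHom.mem_ker]
  constructor
  swap
  · rintro ⟨y, rfl⟩
    refine limit_ext D fun j => ?_
    rw [hcompc, hcomp, map_zero, ← AddMonoidHom.mem_ker, hC j]
    exact ⟨_, rfl⟩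
  intro hx
  have hy : ∀ i : ℕ, ∃ y, (b.app (op i)).hom y = (limit.π C (op i)).hom x := by
    intro i
    refine (hC (op i)).le (show (c.app (op i)).hom _ = 0 from ?_)
    rw [← hcompc, hx, map_zero]
  choose y hy using hy
  rw [ml_iff] at hA
  choose m hm Hm using hA
  -- stable images
  let E : ∀ i, A.obj (op i) → Prop := fun i α => ∀ k (h : i ≤ k), ∃ β, t A h β = α
  have hE : ∀ i (α : A.obj (op (m i))), E i (t A (hm i) α) := fun i α k h => Hm i k h α
  have hEadd : ∀ i α β, E i α → E i β → E i (α + β) := fun i α β h h' k hk => by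
    obtain ⟨p, hp⟩ := h k hk
    obtain ⟨q, hq⟩ := h' k hk
    exact ⟨p + q, by rw [map_add, hp, hq]⟩
  have hEneg : ∀ i α, E i α → E i (-α) := fun i α h k hk => by
    obtain ⟨p, hp⟩ := h k hk
    exact ⟨-p, by rw [map_neg, hp]⟩
  have hdiff : ∀ {i k : ℕ} (h : i ≤ k), ∃ α, t B h (y k) = y i + (a.app (op i)).hom α := by
    intro i k h
    obtain ⟨α, hα⟩ : t B h (y k) - y i ∈ (a.app (op i)).hom.range := by
      rw [← hB, AddMonoidHom.mem_ker, map_sub, ← nat, hy, hy, limit_compat, sub_self]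
    exact ⟨α, by rw [hα, add_sub_cancel]⟩
  let z : ∀ i, B.obj (op i) := fun i => t B (hm i) (y (m i))
  let P : ∀ i, B.obj (op i) → Prop := fun i w => ∃ α, E i α ∧ w = z i + (a.app (op i)).hom α
  have step : ∀ i, 0 ≤ i → ∀ w, P i w → ∃ w', P (i + 1) w' ∧ t B (Nat.le_succ i) w' = w := by
    rintro i - w ⟨α, hα, rfl⟩
    set M := max (m i) (m (i + 1))
    obtain ⟨β₀, hβ₀⟩ := hdiff (le_max_left (m i) (m (i + 1)))
    obtain ⟨β₁, hβ₁⟩ := hdiff (le_max_right (m i) (m (i + 1)))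
    -- z (i+1) restricted differs from z i by a stable element
    set γ := t A (hm i) β₀ - t A (Nat.le_succ i) (t A (hm (i + 1)) β₁) with hγ
    have hγE : E i γ := by
      rw [hγ, sub_eq_add_neg, ← map_neg]
      refine hEadd _ _ _ (hE i β₀) fun k hk => ?_
      obtain ⟨q, hq⟩ := hE (i + 1) (-β₁) (max k (i + 1)) (le_max_right _ _)
      exact ⟨t A (le_max_left k (i + 1)) q, by rw [t_t, ← map_neg, ← hq, t_t]⟩
    have hz : t B (Nat.le_succ i) (z (i + 1)) = z i + (a.app (op i)).hom γ := by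
      have h1 := congrArg (t B (hm i)) hβ₀
      have h2 := congrArg (t B ((Nat.le_succ i).trans (hm (i + 1)))) hβ₁
      rw [t_t, map_add, nata] at h1
      rw [t_t, map_add, nata, h1] at h2
      simp only [z, hγ, map_sub, t_t]
      rw [← add_sub_assoc, h2, add_sub_cancel_right]
    obtain ⟨δ, hδE, hδ⟩ : ∃ δ, E (i + 1) δ ∧ t A (Nat.le_succ i) δ = α - γ := by
      obtain ⟨q, hq⟩ := (sub_eq_add_neg α γ ▸ hEadd _ _ _ hα (hEneg _ _ hγE) : E i (α - γ)) (m (i + 1))
        ((Nat.le_succ i).trans (hm (i + 1)))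
      exact ⟨t A (hm (i + 1)) q, hE _ _, by rw [t_t]; exact hq⟩
    refine ⟨z (i + 1) + (a.app (op (i + 1))).hom δ, ⟨δ, hδE, rfl⟩, ?_⟩
    rw [map_add, nata, hδ, hz, add_assoc, ← map_add, add_sub_cancel]
  obtain ⟨s, hs, -, hsP⟩ := exists_section B 0 P step (z 0)
    ⟨0, fun k hk => ⟨0, map_zero _⟩, by rw [map_zero, add_zero]⟩
  obtain ⟨w, hw⟩ := exists_limit B s hs
  refine ⟨w, limit_ext C fun j => ?_⟩
  obtain ⟨α, -, hα⟩ := hsP j.unop (Nat.zero_le _)
  rw [hcomp]
  refine (congrArg (b.app j).hom (hw j.unop)).trans ?_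
  rw [hα, map_add]
  have h0 : (b.app (op j.unop)).hom ((a.app (op j.unop)).hom α) = 0 :=
    (hB (op j.unop)).ge ⟨α, rfl⟩
  refine (add_eq_left.mpr h0).trans ?_
  simp only [z]
  rw [← nat, hy, limit_compat]

end Groth.Agent.S6786
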