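import Groth.Statements.S6791
import Mathlib

set_option autoImplicit false
open CategoryTheory CategoryTheory.Limits
universe v u v' u' v'' u''
open CategoryTheory CategoryTheory.SerreClass

namespace Groth.Agent.S6791

open CategoryTheory CategoryTheory.Limits CategoryTheory.Pretriangulated ZeroObject

/-- For an exact functor `F : A ⥤ B` of abelian categories and a Serre class `P` of `A` killed by `F`,
with `L : A ⥤ Q` a model of the quotient `A/P` and `Fbar : Q ⥤ B` the induced functor, `P` is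
exactly the kernel of `F` if and only if `Fbar` is faithful. -/
theorem result {A : Type u} [Category.{v} A] [Abelian A] {B : Type u'} [Category.{v'} B] [Abelian B] (F : A ⥤ B) [F.Additive] [PreservesFiniteLimits F] [PreservesFiniteColimits F] (P : ObjectProperty A) [P.IsSerreClass] (hP : ∀ X : A, P X → IsZero (F.obj X)) {Q : Type u''} [Category.{v''} Q] [Abelian Q] (L : A ⥤ Q) [L.IsLocalization P.isoModSerre] [L.Additive] [PreservesFiniteLimits L] [PreservesFiniteColimits L] (Fbar : Q ⥤ B) (e : L ⋙ Fbar ≅ F) : (∀ X : A, IsZero (F.obj X) → P X) ↔ Fbar.Faithful := by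
  haveI : L.PreservesZeroMorphisms := inferInstance
  constructor
  · intro h
    haveI := Localization.essSurj L P.isoModSerre
    refine ⟨fun {X Y} a b hab => ?_⟩
    obtain ⟨X', ⟨eX⟩⟩ : ∃ X', Nonempty (L.obj X' ≅ X) := ⟨_, ⟨L.objObjPreimageIso X⟩⟩
    obtain ⟨Y', ⟨eY⟩⟩ : ∃ Y', Nonempty (L.obj Y' ≅ Y) := ⟨_, ⟨L.objObjPreimageIso Y⟩⟩
    suffices eX.hom ≫ a ≫ eY.inv = eX.hom ≫ b ≫ eY.inv by simpa using this
    obtain ⟨Z, s, f₁, f₂, hs, h1, h2⟩ : ∃ (Z : A) (s : Y' ⟶ Z) (f₁ f₂ : X' ⟶ Z), P.isoModSerre s ∧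
        (eX.hom ≫ a ≫ eY.inv) ≫ L.map s = L.map f₁ ∧ (eX.hom ≫ b ≫ eY.inv) ≫ L.map s = L.map f₂ := by
      obtain ⟨φ, hφ⟩ := Localization.exists_leftFraction L P.isoModSerre (eX.hom ≫ a ≫ eY.inv)
      obtain ⟨ψ, hψ⟩ := Localization.exists_leftFraction L P.isoModSerre ((eX.hom ≫ b ≫ eY.inv) ≫ L.map φ.s)
      refine ⟨ψ.Y', φ.s ≫ ψ.s, φ.f ≫ ψ.s, ψ.f, MorphismProperty.comp_mem _ _ _ φ.hs ψ.hs, ?_, ?_⟩
      · rw [L.map_comp, L.map_comp, ← Category.assoc, hφ, MorphismProperty.LeftFraction.map_comp_map_s]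
      · rw [L.map_comp, ← Category.assoc, hψ, MorphismProperty.LeftFraction.map_comp_map_s]
    haveI := Localization.inverts L P.isoModSerre s hs
    rw [← cancel_mono (L.map s), h1, h2, ← sub_eq_zero, ← L.map_sub]
    have hF : F.map (f₁ - f₂) = 0 := by
      have hbar : Fbar.map (L.map f₁) = Fbar.map (L.map f₂) := by
        rw [← h1, ← h2]; simp [hab]
      have n1 := e.hom.naturality f₁
      have n2 := e.hom.naturality f₂
      dsimp at n1 n2
      rw [hbar, n2] at n1
      rw [F.map_sub, sub_eq_zero]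
      exact ((cancel_epi (e.hom.app X')).mp n1).symm
    have hfac := Abelian.image.fac (f₁ - f₂)
    have hz : IsZero (F.obj (Abelian.image (f₁ - f₂))) := by
      rw [IsZero.iff_id_eq_zero, ← cancel_mono (F.map (Abelian.image.ι (f₁ - f₂))),
        ← cancel_epi (F.map (Abelian.factorThruImage (f₁ - f₂)))]
      simp [← Functor.map_comp, hF]
    rw [← hfac, L.map_comp,
      ((ObjectProperty.SerreClassLocalization.isZero_obj_iff L P _).mpr (h _ hz)).eq_of_tgt (L.map (Abelian.factorThruImage (f₁ - f₂))) 0, zero_comp]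
  · intro hf X hX
    rw [← ObjectProperty.SerreClassLocalization.isZero_obj_iff L P, IsZero.iff_id_eq_zero]
    apply Fbar.map_injective
    exact ((e.app X).isZero_iff.mpr hX).eq_of_src _ _

end Groth.Agent.S6791
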