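import Groth.Statements.S6795
import Mathlib

set_option autoImplicit false
open CategoryTheory CategoryTheory.Limits
universe v u
open CategoryTheory CategoryTheory.Preadditive

namespace Groth.Agent.S6795

open CategoryTheory CategoryTheory.Limits CategoryTheory.Pretriangulated ZeroObject

/-- A preadditive category with countable products in which split epimorphisms have kernels is
idempotent complete (Karoubian). -/
theorem result {D : Type u} [Category.{v} D] [Preadditive D] [HasCountableProducts D] (hk : ∀ ⦃X Y : D⦄ (f : X ⟶ Y), IsSplitEpi f → HasKernel f) : IsIdempotentComplete D := by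
  refine ⟨fun X e he => ?_⟩
  let Q := ∏ᶜ (fun _ : ℕ => X)
  let π : ∀ n, Q ⟶ X := Pi.π (fun _ : ℕ => X)
  let φ : Q ⟶ Q := Pi.lift fun n => π n ≫ (𝟙 X - e) + π (n + 1) ≫ e
  let ψ : Q ⟶ Q := Pi.lift fun n => match n with
    | 0 => π 0 ≫ (𝟙 X - e)
    | m + 1 => π (m + 1) ≫ (𝟙 X - e) + π m ≫ e
  have hφ : ∀ n, φ ≫ π n = π n ≫ (𝟙 X - e) + π (n + 1) ≫ e := fun n => limit.lift_π _ _
  have hψ0 : ψ ≫ π 0 = π 0 ≫ (𝟙 X - e) := limit.lift_π _ _
  have hψs : ∀ m, ψ ≫ π (m + 1) = π (m + 1) ≫ (𝟙 X - e) + π m ≫ e := fun m => limit.lift_π _ _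
  have h11 : (𝟙 X - e) ≫ (𝟙 X - e) = 𝟙 X - e := by simp [he]
  have h12 : (𝟙 X - e) ≫ e = 0 := by simp [he]
  have h21 : e ≫ (𝟙 X - e) = 0 := by simp [he]
  haveI : IsSplitEpi φ := IsSplitEpi.mk' ⟨ψ, by
    refine Pi.hom_ext _ _ fun n => ?_
    show (ψ ≫ φ) ≫ π n = 𝟙 Q ≫ π n
    rw [Category.assoc, hφ, Preadditive.comp_add, ← Category.assoc, ← Category.assoc, hψs]
    cases n with
    | zero => rw [hψ0]; simp [he]
    | succ m => rw [hψs]; simp [he]⟩
  haveI := hk φ inferInstance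
  let K := kernel φ
  have h0 : ∀ n, kernel.ι φ ≫ π n ≫ (𝟙 X - e) + kernel.ι φ ≫ π (n + 1) ≫ e = 0 := fun n => by
    rw [← Preadditive.comp_add, ← hφ, kernel.condition_assoc, zero_comp]
  have ha : ∀ n, kernel.ι φ ≫ π n ≫ (𝟙 X - e) = 0 := fun n => by
    have := congrArg (· ≫ (𝟙 X - e)) (h0 n)
    simpa only [Preadditive.add_comp, Category.assoc, h11, h21, comp_zero, add_zero, zero_comp] using this
  have hb : ∀ n, kernel.ι φ ≫ π (n + 1) ≫ e = 0 := fun n => by
    simpa only [ha, zero_add] using h0 n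
  have hfix : ∀ n, kernel.ι φ ≫ π n ≫ e = kernel.ι φ ≫ π n := fun n => by
    have := ha n
    rw [Preadditive.comp_sub, Category.comp_id, Preadditive.comp_sub, sub_eq_zero] at this
    exact this.symm
  let p : X ⟶ Q := Pi.lift fun n => if n = 0 then e else 0
  have hp : ∀ n, p ≫ π n = if n = 0 then e else 0 := fun n => limit.lift_π _ _
  have hpφ : p ≫ φ = 0 := by
    refine Pi.hom_ext _ _ fun n => ?_
    show (p ≫ φ) ≫ π n = 0 ≫ π n
    rw [Category.assoc, hφ, Preadditive.comp_add, ← Category.assoc, ← Category.assoc, hp, hp]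
    rcases n with _ | m <;> simp [he]
  refine ⟨K, kernel.ι φ ≫ π 0, kernel.lift φ p hpφ, ?_, ?_⟩
  · rw [← cancel_mono (kernel.ι φ), Category.assoc, kernel.lift_ι, Category.id_comp]
    refine Pi.hom_ext _ _ fun n => ?_
    show ((kernel.ι φ ≫ π 0) ≫ p) ≫ π n = kernel.ι φ ≫ π n
    rw [Category.assoc, hp]
    rcases n with _ | m
    · simpa using hfix 0
    · have := hb m
      rw [hfix] at this
      simp [this]
  · rw [kernel.lift_ι_assoc, hp, if_pos rfl]

end Groth.Agent.S6795
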