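import Groth.Statements.S6796
import Mathlib
import Groth.Agent.S6795

set_option autoImplicit false
open CategoryTheory CategoryTheory.Limits
universe v u
open CategoryTheory CategoryTheory.Preadditive

namespace Groth.Agent.S6796

open CategoryTheory CategoryTheory.Limits CategoryTheory.Pretriangulated ZeroObject

/-- A preadditive category with countable coproducts in which split monomorphisms have cokernels is
idempotent complete (Karoubian). -/
theorem result {D : Type u} [Category.{v} D] [Preadditive D] [HasCountableCoproducts D] (hk : ∀ ⦃X Y : D⦄ (f : X ⟶ Y), IsSplitMono f → HasCokernel f) : IsIdempotentComplete D := by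
  refine Idempotents.isIdempotentComplete_iff_opposite.mp ?_
  haveI : HasCountableProducts Dᵒᵖ := ⟨fun J _ => inferInstance⟩
  refine Groth.Agent.S6795.result fun X Y f hf => ?_
  haveI : IsSplitMono f.unop := IsSplitMono.mk'
    ⟨(section_ f).unop, by rw [← unop_comp, IsSplitEpi.id, unop_id]⟩
  haveI := hk f.unop inferInstance
  exact ⟨⟨⟨KernelFork.ofι (cokernel.π f.unop).op _,
    CokernelCofork.IsColimit.ofπOp (cokernel.π f.unop) (cokernel.condition f.unop) (cokernelIsCokernel f.unop)⟩⟩⟩

end Groth.Agent.S6796
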