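import Groth.Statements.S6799
import Mathlib.AlgebraicTopology.SimplicialSet.Homotopy

set_option autoImplicit false
open CategoryTheory Opposite
universe u
open SSet

namespace Groth.Agent.S6799

open Simplicial Opposite MonoidalCategory in
/-- the simplices of `Δ[1]` that are constantly `0` -/
def Zero' (Y : SimplexCategoryᵒᵖ) (θ : (Δ[1] : SSet.{u}).obj Y) : Prop :=
  ∀ k, (SSet.stdSimplex.objEquiv θ).toOrderHom k = 0

open Simplicial Opposite MonoidalCategory in
open scoped Classical in
/-- the homotopy, levelwise -/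
noncomputable def homApp {U V : SSet.{u}} (f₀ f₁ : V ⟶ U) (Y : SimplexCategoryᵒᵖ)
    (p : V.obj Y × (Δ[1] : SSet.{u}).obj Y) : U.obj Y :=
  if Zero' Y p.2 then f₀.app Y p.1 else f₁.app Y p.1

open Simplicial Opposite MonoidalCategory in
theorem homApp_map {U V : SSet.{u}} (f₀ f₁ : V ⟶ U) (n : ℕ)
    (h : ∀ i : ℕ, i < n → f₀.app (op (SimplexCategory.mk i)) = f₁.app (op (SimplexCategory.mk i)))
    {m m' : SimplexCategory} (hm' : m'.len ≤ n) (φ : m ⟶ m')
    (x : V.obj (op m')) (θ : (Δ[1] : SSet.{u}).obj (op m')) :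
    homApp f₀ f₁ (op m) (V.map φ.op x, (Δ[1] : SSet.{u}).map φ.op θ) =
      U.map φ.op (homApp f₀ f₁ (op m') (x, θ)) := by
  classical
  have n0 : f₀.app (op m) (V.map φ.op x) = U.map φ.op (f₀.app (op m') x) :=
    NatTrans.naturality_apply f₀ φ.op x
  have n1 : f₁.app (op m) (V.map φ.op x) = U.map φ.op (f₁.app (op m') x) :=
    NatTrans.naturality_apply f₁ φ.op x
  by_cases hz : Zero' (op m') θ
  · have hz' : Zero' (op m) ((Δ[1] : SSet.{u}).map φ.op θ) := fun k => hz (φ.toOrderHom k)
    rw [homApp, homApp, if_pos hz', if_pos hz, n0]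
  by_cases hz' : Zero' (op m) ((Δ[1] : SSet.{u}).map φ.op θ)
  swap
  · rw [homApp, homApp, if_neg hz', if_neg hz, n1]
  rw [homApp, homApp, if_pos hz', if_neg hz, n0]
  rcases lt_or_eq_of_le hm' with hlt | heq
  · have e : f₀.app (op m') = f₁.app (op m') := h m'.len hlt
    rw [e]
  have hns : ¬Function.Surjective φ.toOrderHom := fun hs => hz fun k => by
    obtain ⟨j, rfl⟩ := hs k
    exact hz' j
  induction m' using SimplexCategory.rec with
  | mk l =>
    cases l with
    | zero => exact absurd (fun k => ⟨0, Subsingleton.elim (α := Fin 1) _ _⟩) hns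
    | succ l =>
      obtain ⟨i, ψ, rfl⟩ := SimplexCategory.eq_comp_δ_of_not_surjective φ hns
      have e : f₀.app (op (SimplexCategory.mk l)) = f₁.app (op (SimplexCategory.mk l)) :=
        h l (by simpa [← heq] using Nat.lt_succ_self l)
      have a : ∀ (f : V ⟶ U), U.map (ψ ≫ SimplexCategory.δ i).op (f.app (op (SimplexCategory.mk (l + 1))) x) =
          U.map ψ.op (f.app (op (SimplexCategory.mk l)) (V.map (SimplexCategory.δ i).op x)) := fun f => by
        rw [op_comp, FunctorToTypes.map_comp_apply, NatTrans.naturality_apply f]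
      rw [a, a, e]

open Simplicial Opposite MonoidalCategory in
/-- the homotopy on the truncations -/
noncomputable def truncHom {U V : SSet.{u}} (f₀ f₁ : V ⟶ U) (n : ℕ)
    (h : ∀ i : ℕ, i < n → f₀.app (op (SimplexCategory.mk i)) = f₁.app (op (SimplexCategory.mk i))) :
    (SimplexCategory.Truncated.inclusion n).op ⋙ (V ⊗ Δ[1]) ⟶ (SimplexCategory.Truncated.inclusion n).op ⋙ U where
  app Y := ↾(homApp f₀ f₁ (op Y.unop.obj))
  naturality {Y Y'} φ := by
    ext ⟨x, θ⟩
    exact homApp_map f₀ f₁ n h Y.unop.property φ.unop.hom x θ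

/-- Two maps between `n`-coskeletal simplicial sets which agree on simplices of dimension `< n` are
homotopic, by a single homotopy. -/
theorem result {U V : SSet.{u}} (f₀ f₁ : V ⟶ U) (n : ℕ) (h : ∀ i : ℕ, i < n → f₀.app (op (SimplexCategory.mk i)) = f₁.app (op (SimplexCategory.mk i))) [SimplicialObject.IsCoskeletal U n] [SimplicialObject.IsCoskeletal V n] : Nonempty (SSet.Homotopy f₀ f₁) := by
  classical
  let α := 𝟙 ((SimplexCategory.Truncated.inclusion n).op ⋙ U)
  haveI : Functor.IsRightKanExtension U α := SimplicialObject.IsCoskeletal.isRightKanExtension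
  let H := Functor.liftOfIsRightKanExtension U α _ (truncHom f₀ f₁ n h)
  have fac : Functor.whiskerLeft _ H ≫ α = truncHom f₀ f₁ n h :=
    Functor.liftOfIsRightKanExtension_fac U α _ _
  have happ : ∀ (Y : (SimplexCategory.Truncated n)ᵒᵖ) (p),
      H.app (op Y.unop.obj) p = homApp f₀ f₁ (op Y.unop.obj) p := fun Y p =>
    ConcreteCategory.congr_hom (NatTrans.congr_app fac Y) p
  refine ⟨{ h := H, h₀ := ?_, h₁ := ?_, rel := ?_ }⟩
  · refine Functor.hom_ext_of_isRightKanExtension U α _ _ ?_
    ext Y x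
    refine (happ Y _).trans ?_
    exact if_pos (fun k => rfl)
  · refine Functor.hom_ext_of_isRightKanExtension U α _ _ ?_
    ext Y x
    refine (happ Y _).trans ?_
    exact if_neg (fun hz => absurd ((show (1 : Fin 2) = 0 from hz 0)) (by decide))
  · ext Y ⟨⟨x, hx⟩, θ⟩
    exact hx.elim

end Groth.Agent.S6799
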