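import Groth.Statements.S6800
import Mathlib

set_option autoImplicit false
open CategoryTheory CategoryTheory.Limits
universe v u
open CategoryTheory CategoryTheory.SimplicialObject CategoryTheory.SimplicialObject.Truncated

namespace Groth.Agent.S6800

open CategoryTheory CategoryTheory.Limits

/-- In a category with finite limits every truncated simplicial object has a pointwise right Kan
extension along the inclusion of the truncated simplex category, i.e. the coskeleton functors exist
and are given by the limit formula. -/
theorem result {C : Type u} [Category.{v} C] [HasFiniteLimits C] (m : ℕ) (U : (SimplexCategory.Truncated m)ᵒᵖ ⥤ C) : (SimplexCategory.Truncated.inclusion m).op.HasPointwiseRightKanExtension U := by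
  haveI : ∀ a b : SimplexCategory.Truncated m, Finite (a ⟶ b) := fun a b =>
    Finite.of_injective (fun f => f.hom) fun f g h => ObjectProperty.hom_ext _ h
  haveI : Finite (SimplexCategory.Truncated m) :=
    Finite.of_injective (fun a => (⟨a.1.len, Nat.lt_succ_of_le a.2⟩ : Fin (m + 1))) fun a b h => by
      have h' : a.1.len = b.1.len := congrArg Fin.val h
      exact ObjectProperty.FullSubcategory.ext (SimplexCategory.ext h')
  intro Y
  haveI : Finite (StructuredArrow Y (SimplexCategory.Truncated.inclusion m).op) :=
    Finite.of_injective (fun j => (⟨j.right.unop, j.hom.unop⟩ : Σ a : SimplexCategory.Truncated m, ((SimplexCategory.Truncated.inclusion m).obj a) ⟶ Y.unop))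
      fun ⟨⟨⟨⟩⟩, ⟨a⟩, f⟩ ⟨⟨⟨⟩⟩, ⟨b⟩, g⟩ h => by
        obtain rfl : a = b := congrArg Sigma.fst h
        simp only [Sigma.mk.injEq, heq_eq_eq, true_and] at h
        obtain rfl : f = g := Quiver.Hom.unop_inj h
        rfl
  haveI : ∀ j j' : StructuredArrow Y (SimplexCategory.Truncated.inclusion m).op, Finite (j ⟶ j') := fun j j' =>
    Finite.of_injective (fun f => f.right.unop) fun f g h => by
      ext; exact Quiver.Hom.unop_inj h
  letI : FinCategory (StructuredArrow Y (SimplexCategory.Truncated.inclusion m).op) :=
    { fintypeObj := Fintype.ofFinite _, fintypeHom := fun _ _ => Fintype.ofFinite _ }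
  infer_instance

end Groth.Agent.S6800
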