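import Groth.Statements.S6805
import Mathlib

set_option autoImplicit false
open CategoryTheory
universe u
open SSet

namespace Groth.Agent.S6805

/-- The simplicial set freely generated by an `m`-truncated simplicial set (its image under the left
adjoint of `m`-truncation) has only degenerate simplices above dimension `m`. -/
theorem result (m : ℕ) (U : SSet.Truncated.{u} m) : ((SSet.Truncated.sk m).obj U).HasDimensionLT (m + 1) := by
  let X := (SSet.Truncated.sk m).obj U
  let D := X.skeleton (m + 1)
  haveI : IsIso ((SSet.truncation m).map D.ι) := by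
    haveI : ∀ d, IsIso (((SSet.truncation m).map D.ι).app d) := fun d => by
      rw [isIso_iff_bijective]
      refine ⟨fun a b h => Subtype.ext h, fun x => ⟨⟨x, ?_⟩, rfl⟩⟩
      exact X.mem_skeleton x (Nat.lt_succ_of_le d.unop.2)
    exact NatIso.isIso_of_isIso_app _
  let g := (SSet.skAdj m).unit.app U ≫ inv ((SSet.truncation m).map D.ι)
  let s := ((SSet.skAdj m).homEquiv U D.toSSet).symm g
  have hs : s ≫ D.ι = 𝟙 _ := by
    apply ((SSet.skAdj m).homEquiv U X).injective
    rw [Adjunction.homEquiv_naturality_right, Equiv.apply_symm_apply, Adjunction.homEquiv_id]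
    simp [g]
  refine ⟨fun n hn => Set.eq_univ_of_forall fun x => ?_⟩
  by_contra hx
  have hmem : x ∈ D.obj _ := by
    have h := congrArg (fun q => q x) (congrArg (fun q => NatTrans.app q (Opposite.op (SimplexCategory.mk n))) hs)
    exact (show (s.app _ x).1 = x from h) ▸ (s.app _ x).2
  exact absurd ((X.mem_skeleton_obj_iff_of_nonDegenerate ⟨x, hx⟩ (m + 1)).1 hmem) (by omega)

end Groth.Agent.S6805
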