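import Groth.Statements.S6811
import Mathlib

set_option autoImplicit false
open CategoryTheory CategoryTheory.Limits
universe v u
open CategoryTheory CategoryTheory.SimplicialObject

namespace Groth.Agent.S6811

open CategoryTheory Limits in
lemma gen {A B D E : Type*} [Category A] [Category B] [Category D] [Category E]
    (L1 : A ⥤ D) (L2 : B ⥤ D) [L2.Full] (i : A ⥤ B) (e : i ⋙ L2 ≅ L1) (X : D ⥤ E)
    [Functor.IsRightKanExtension X (𝟙 (L1 ⋙ X))] [L1.HasPointwiseRightKanExtension (L1 ⋙ X)] :
    Functor.IsRightKanExtension X (𝟙 (L2 ⋙ X)) := by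
  have hp := Functor.isPointwiseRightKanExtensionOfIsRightKanExtension X (𝟙 (L1 ⋙ X))
  have hext : ∀ (Z : E) (d : D) (p q : Z ⟶ X.obj d), (∀ (a : A) (g : d ⟶ L1.obj a), p ≫ X.map g = q ≫ X.map g) → p = q := by
    intro Z d p q h
    refine (hp d).hom_ext fun j => ?_
    change p ≫ X.map j.hom ≫ 𝟙 _ = q ≫ X.map j.hom ≫ 𝟙 _
    simp only [Category.comp_id]
    exact h j.right j.hom
  let β1 : ∀ s : Functor.RightExtension L2 (L2 ⋙ X), L1 ⋙ s.left ⟶ L1 ⋙ X := fun s =>
    Functor.whiskerRight e.inv s.left ≫ Functor.whiskerLeft i s.hom ≫ Functor.whiskerRight e.hom X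
  have hfac : ∀ (s : Functor.RightExtension L2 (L2 ⋙ X)) (b : B),
      (X.liftOfIsRightKanExtension (𝟙 (L1 ⋙ X)) s.left (β1 s)).app (L2.obj b) = s.hom.app b := by
    intro s b
    refine hext _ _ _ _ fun a g => ?_
    have h1 := X.liftOfIsRightKanExtension_fac_app (𝟙 (L1 ⋙ X)) s.left (β1 s) a
    simp at h1
    obtain ⟨h, hh⟩ := L2.map_surjective (g ≫ e.inv.app a)
    have hg : g = L2.map h ≫ e.hom.app a := by simp [hh]
    have hn := s.hom.naturality h
    simp at hn
    rw [← NatTrans.naturality, h1]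
    rw [hg, X.map_comp, ← reassoc_of% hn]
    simp [β1]
  refine ⟨⟨IsTerminal.ofUniqueHom (fun s => CostructuredArrow.homMk (X.liftOfIsRightKanExtension (𝟙 (L1 ⋙ X)) s.left (β1 s)) ?_) ?_⟩⟩
  · ext b; exact (Category.comp_id _).trans (hfac s b)
  · intro s m
    apply CostructuredArrow.hom_ext
    apply X.hom_ext_of_isRightKanExtension (𝟙 (L1 ⋙ X))
    ext a
    have h1 : (X.liftOfIsRightKanExtension (𝟙 (L1 ⋙ X)) s.left (β1 s)).app (L1.obj a) ≫ 𝟙 _ = (β1 s).app a := X.liftOfIsRightKanExtension_fac_app (𝟙 (L1 ⋙ X)) s.left (β1 s) a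
    have h2 : ∀ b, m.left.app (L2.obj b) = s.hom.app b := fun b =>
      (Category.comp_id _).symm.trans ((congrArg (fun t => t.app b) m.w).trans (Category.comp_id _))
    change m.left.app (L1.obj a) ≫ 𝟙 _ = (X.liftOfIsRightKanExtension (𝟙 (L1 ⋙ X)) s.left (β1 s)).app (L1.obj a) ≫ 𝟙 _
    refine (Category.comp_id _).trans ?_
    have h4 : m.left.app (L1.obj a) = s.left.map (e.inv.app a) ≫ s.hom.app (i.obj a) ≫ X.map (e.hom.app a) := by
      rw [← h2]
      have h3 : s.left.map (e.hom.app a) ≫ m.left.app (L1.obj a) = m.left.app (L2.obj (i.obj a)) ≫ X.map (e.hom.app a) :=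
        m.left.naturality (e.hom.app a)
      refine Eq.trans ?_ (congrArg (fun t => s.left.map (e.inv.app a) ≫ t) h3)
      refine Eq.trans ?_ (Category.assoc _ _ _)
      refine Eq.symm ((congrArg (· ≫ m.left.app (L1.obj a)) ?_).trans (Category.id_comp _))
      exact (s.left.map_comp _ _).symm.trans ((congrArg s.left.map (e.inv_hom_id_app a)).trans (s.left.map_id _))
    exact h4.trans h1.symm

/-- In a category with finite limits, an `n`-coskeletal simplicial object is `m`-coskeletal for every `m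
≥ n`. -/
theorem result {C : Type u} [Category.{v} C] [HasFiniteLimits C] (U : SimplicialObject C) {n m : ℕ} (h : n ≤ m) [U.IsCoskeletal n] : U.IsCoskeletal m := by
  have hfin : ∀ k : ℕ, Finite (SimplexCategory.Truncated k) := fun k =>
    Finite.of_injective (fun x : SimplexCategory.Truncated k => (⟨x.obj.len, Nat.lt_succ_of_le x.property⟩ : Fin (k + 1)))
      (fun x y h => ObjectProperty.FullSubcategory.ext (SimplexCategory.ext (by simpa using h)))
  have := hfin n
  have : Finite (SimplexCategory.Truncated n)ᵒᵖ := Finite.of_equiv _ Opposite.equivToOpposite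
  have : ∀ X Y : (SimplexCategory.Truncated n)ᵒᵖ, Finite (X ⟶ Y) := fun X Y =>
    Finite.of_injective (fun f => f.unop.hom) (fun f g h => by
      apply Quiver.Hom.unop_inj; exact InducedCategory.hom_ext h)
  have : ∀ (F : (SimplexCategory.Truncated n)ᵒᵖ ⥤ C), (SimplexCategory.Truncated.inclusion n).op.HasPointwiseRightKanExtension F := by
    intro F Y
    have : Finite (StructuredArrow Y (SimplexCategory.Truncated.inclusion n).op) := by
      have : ∀ d : (SimplexCategory.Truncated n)ᵒᵖ, Finite (Y ⟶ (SimplexCategory.Truncated.inclusion n).op.obj d) := fun d =>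
        Finite.of_injective Quiver.Hom.unop Quiver.Hom.unop_inj
      exact Finite.of_injective
        (fun x => (⟨x.right, x.hom⟩ : Σ d, (Y ⟶ (SimplexCategory.Truncated.inclusion n).op.obj d)))
        (fun x y h => by obtain ⟨⟨⟨⟩⟩, r, f⟩ := x; obtain ⟨⟨⟨⟩⟩, r', f'⟩ := y; simp at h; obtain ⟨rfl, h'⟩ := h; cases h'; rfl)
    have : ∀ x y : StructuredArrow Y (SimplexCategory.Truncated.inclusion n).op, Finite (x ⟶ y) := fun x y =>
      Finite.of_injective (fun f => f.right) (fun f g h => StructuredArrow.hom_ext _ _ h)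
    let _ : FinCategory (StructuredArrow Y (SimplexCategory.Truncated.inclusion n).op) :=
      { fintypeObj := Fintype.ofFinite _, fintypeHom := fun _ _ => Fintype.ofFinite _ }
    unfold Functor.HasPointwiseRightKanExtensionAt
    infer_instance
  refine ⟨gen (SimplexCategory.Truncated.inclusion n).op (SimplexCategory.Truncated.inclusion m).op
    (SimplexCategory.Truncated.incl n m h).op (Iso.refl _) U⟩

end Groth.Agent.S6811
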