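import Groth.Statements.S6815
import Mathlib

set_option autoImplicit false
open CategoryTheory CategoryTheory.Limits
universe w v u
open CategoryTheory CategoryTheory.SimplicialObject

namespace Groth.Agent.S6815

open CategoryTheory CategoryTheory.Limits CategoryTheory.Pretriangulated

/-- Homotopies between the factors of two product morphisms of simplicial objects assemble to a homotopy
between the products. -/
theorem result {C : Type u} [Category.{v} C] {T : Type w} [HasLimitsOfShape (Discrete T) C] {X Y : T → SimplicialObject C} (a b : ∀ t, X t ⟶ Y t) (h : ∀ t, Nonempty (SimplicialObject.Homotopy (a t) (b t))) : Nonempty (SimplicialObject.Homotopy (Limits.Pi.map a) (Limits.Pi.map b)) := by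
  have H := fun t => (h t).some
  have hc0 : ∀ (W : T → SimplicialObject C) (n : SimplexCategoryᵒᵖ), Nonempty (IsLimit (Fan.mk ((∏ᶜ W).obj n) fun t => (Limits.Pi.π W t).app n)) :=
    fun W n => ⟨isLimitFanMkObjOfIsLimit ((evaluation SimplexCategoryᵒᵖ C).obj n) W (fun t => Limits.Pi.π W t) (productIsProduct W)⟩
  let hc := fun W n => (hc0 W n).some
  let lift : ∀ {Z : C} (n : SimplexCategoryᵒᵖ), (∀ t, Z ⟶ (Y t).obj n) → (Z ⟶ (∏ᶜ Y).obj n) :=
    fun n k => Fan.IsLimit.lift (hc Y n) k
  have hl : ∀ {Z : C} (n : SimplexCategoryᵒᵖ) (k : ∀ t, Z ⟶ (Y t).obj n) t, lift n k ≫ (Limits.Pi.π Y t).app n = k t :=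
    fun n k t => Fan.IsLimit.fac (hc Y n) k t
  have hext : ∀ {Z : C} {n : SimplexCategoryᵒᵖ} (u v : Z ⟶ (∏ᶜ Y).obj n), (∀ t, u ≫ (Limits.Pi.π Y t).app n = v ≫ (Limits.Pi.π Y t).app n) → u = v :=
    fun {Z n} u v huv => Fan.IsLimit.hom_ext (hc Y n) u v huv
  have hmap : ∀ (c : ∀ t, X t ⟶ Y t) n t, (Limits.Pi.map c).app n ≫ (Limits.Pi.π Y t).app n = (Limits.Pi.π X t).app n ≫ (c t).app n := by
    intro c n t
    rw [← NatTrans.comp_app, ← NatTrans.comp_app, Limits.Pi.map_π]
  refine ⟨{ h := fun {n} i => lift _ fun t => (Limits.Pi.π X t).app _ ≫ (H t).h i, h_zero_comp_δ_zero := ?_, h_last_comp_δ_last := ?_, h_succ_comp_δ_castSucc_of_lt := ?_, h_succ_comp_δ_castSucc_succ := ?_, h_castSucc_comp_δ_succ_of_lt := ?_, h_comp_σ_castSucc_of_le := ?_, h_comp_σ_succ_of_lt := ?_ }⟩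
  all_goals
    intros
    apply hext
    intro t
    simp only [Category.assoc, SimplicialObject.δ_naturality, SimplicialObject.σ_naturality,
      SimplicialObject.δ_naturality_assoc, SimplicialObject.σ_naturality_assoc, hmap, reassoc_of% hl, hl]
    first
    | rw [(H t).h_zero_comp_δ_zero]
    | rw [(H t).h_last_comp_δ_last]
    | rw [(H t).h_succ_comp_δ_castSucc_succ]
    | (rw [(H t).h_succ_comp_δ_castSucc_of_lt _ _ (by assumption)])
    | (rw [(H t).h_castSucc_comp_δ_succ_of_lt _ _ (by assumption)])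
    | (rw [(H t).h_comp_σ_castSucc_of_le _ _ (by assumption)])
    | (rw [(H t).h_comp_σ_succ_of_lt _ _ (by assumption)])

end Groth.Agent.S6815
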