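import Groth.Statements.S6816
import Mathlib

set_option autoImplicit false
open CategoryTheory CategoryTheory.Limits
universe v u
open CochainComplex

namespace Groth.Agent.S6816

open CategoryTheory CategoryTheory.Limits CategoryTheory.Pretriangulated ZeroObject

/-- The boundary morphisms `C ⟶ A⟦1⟧` attached to two degreewise splittings of a degreewise split
sequence `A ⟶ B ⟶ C` of cochain complexes are homotopic. -/
theorem result {C : Type u} [Category.{v} C] [Preadditive C] [HasBinaryBiproducts C] (S : ShortComplex (CochainComplex C ℤ)) (σ σ' : ∀ n : ℤ, (S.map (HomologicalComplex.eval C (ComplexShape.up ℤ) n)).Splitting) : Nonempty (Homotopy (CochainComplex.homOfDegreewiseSplit S σ) (CochainComplex.homOfDegreewiseSplit S σ')) := by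
  let r : ∀ n, S.X₂.X n ⟶ S.X₁.X n := fun n => (σ n).r
  let sec : ∀ n, S.X₃.X n ⟶ S.X₂.X n := fun n => (σ n).s
  let r' : ∀ n, S.X₂.X n ⟶ S.X₁.X n := fun n => (σ' n).r
  let sec' : ∀ n, S.X₃.X n ⟶ S.X₂.X n := fun n => (σ' n).s
  let δ : ∀ n, S.X₃.X n ⟶ S.X₁.X n := fun n => (sec n - sec' n) ≫ r' n
  let hom : ∀ i j, S.X₃.X i ⟶ (S.X₁⟦(1 : ℤ)⟧).X j := fun i j =>
    if h : j + 1 = i then -(δ i ≫ (S.X₁.XIsoOfEq h).inv) else 0
  have hz : ∀ i j, ¬ (ComplexShape.up ℤ).Rel j i → hom i j = 0 := fun i j hij => dif_neg hij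
  have hsg : ∀ n, sec n ≫ S.g.f n = 𝟙 _ := fun n => (σ n).s_g
  have hsg' : ∀ n, sec' n ≫ S.g.f n = 𝟙 _ := fun n => (σ' n).s_g
  have hid : ∀ n, r n ≫ S.f.f n + S.g.f n ≫ sec n = 𝟙 _ := fun n => (σ n).id
  have hid' : ∀ n, r' n ≫ S.f.f n + S.g.f n ≫ sec' n = 𝟙 _ := fun n => (σ' n).id
  have hfr' : ∀ n, S.f.f n ≫ r' n = 𝟙 _ := fun n => (σ' n).f_r
  have hδ : ∀ n, δ n ≫ S.f.f n = sec n - sec' n := fun n => by
    show ((sec n - sec' n) ≫ r' n) ≫ S.f.f n = _
    rw [Category.assoc, eq_sub_of_add_eq (hid' n), Preadditive.comp_sub, Category.comp_id]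
    simp [reassoc_of% (hsg n), reassoc_of% (hsg' n)]
  have hr : ∀ n, r n = r' n - S.g.f n ≫ δ n := fun n => by
    haveI : IsSplitMono (S.f.f n) := IsSplitMono.mk' ⟨r' n, hfr' n⟩
    rw [← cancel_mono (S.f.f n), Preadditive.sub_comp, Category.assoc, hδ, eq_sub_of_add_eq (hid n),
      eq_sub_of_add_eq (hid' n), Preadditive.comp_sub]
    abel
  have hfg : ∀ n, S.f.f n ≫ S.g.f n = 0 := fun n => by
    rw [← HomologicalComplex.comp_f, S.zero]; rfl
  refine ⟨(Homotopy.ofEq ?_).trans (((Homotopy.nullHomotopy hom hz).add (Homotopy.refl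
    (CochainComplex.homOfDegreewiseSplit S σ'))).trans (Homotopy.ofEq (zero_add _)))⟩
  ext n
  simp only [HomologicalComplex.add_f_apply, CochainComplex.homOfDegreewiseSplit_f, Homotopy.nullHomotopicMap]
  rw [dNext_eq hom (show (ComplexShape.up ℤ).Rel n (n + 1) from rfl),
    prevD_eq hom (show (ComplexShape.up ℤ).Rel (n - 1) n from sub_add_cancel n 1)]
  simp only [hom, dif_pos (show n + 1 = n + 1 from rfl), dif_pos (sub_add_cancel n 1)]
  simp [CochainComplex.cocycleOfDegreewiseSplit]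
  show sec n ≫ S.X₂.d n (n + 1) ≫ r (n + 1) = _
  have hs : sec n = sec' n + δ n ≫ S.f.f n := by rw [hδ]; abel
  rw [hs, hr (n + 1)]
  simp [reassoc_of% (hsg' n), reassoc_of% (hfg n), sec', r']
  have e1 : S.f.f (n + 1) ≫ ((σ' (n + 1)).r : S.X₂.X (n + 1) ⟶ S.X₁.X (n + 1)) = 𝟙 _ := hfr' _
  have e2 : sec' n ≫ S.X₂.d n (n + 1) ≫ S.g.f (n + 1) = S.X₃.d n (n + 1) := by
    rw [← S.g.comm]; exact (reassoc_of% (hsg' n)) _
  simp only [sec'] at e2
  erw [e1, Category.comp_id, reassoc_of% (hfg (n + 1))]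
  simp [reassoc_of% e2]
  have key : ∀ {G : Type v} [AddCommGroup G] (A B C : G), A + B - C = -C + B + A := fun A B C => by abel
  exact key (G := S.X₃.X n ⟶ S.X₁.X (n + 1)) _ _ _

end Groth.Agent.S6816
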