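import Groth.Statements.S6820
import Mathlib

set_option autoImplicit false
set_option linter.style.haveILetI false
universe u
open Smoothing

namespace Groth.Agent.S6820

/-- Let A be a Noetherian ring, M a finite A-module, S a multiplicative subset of A and π an element of
A such that on the localised module S⁻¹M the kernels of multiplication by π and by π² agree. Then
there is an element s of S such that for every n > 0 the kernels of multiplication by sⁿπ and by
(sⁿπ)² on M agree. (Kernel equalities are written as implications, the reverse inclusions being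
automatic.) -/
theorem result {A : Type u} [CommRing A] [IsNoetherianRing A]
    (M : Type u) [AddCommGroup M] [Module A M] [Module.Finite A M] (S : Submonoid A) (π : A)
    (h : ∀ m : LocalizedModule S M, π ^ 2 • m = 0 → π • m = 0) :
    ∃ s ∈ S, ∀ n : ℕ, 0 < n → ∀ m : M, (s ^ n * π) ^ 2 • m = 0 → (s ^ n * π) • m = 0 := by
  classical
  obtain ⟨g, hg⟩ := IsNoetherian.noetherian (LinearMap.ker (LinearMap.lsmul A M (π ^ 2)))
  have hkill : ∀ x ∈ g, ∃ t ∈ S, t • (π • x) = 0 := by
    intro x hx
    have hx2 : π ^ 2 • x = 0 := hg ▸ Submodule.subset_span hx |> fun h => LinearMap.mem_ker.mp h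
    have h1 := h (LocalizedModule.mkLinearMap S M x) (by rw [← map_smul, hx2, map_zero])
    rw [← map_smul] at h1
    obtain ⟨t, ht⟩ := (IsLocalizedModule.eq_zero_iff S (f := LocalizedModule.mkLinearMap S M)).mp h1
    exact ⟨t, t.2, ht⟩
  choose t ht ht0 using hkill
  let s₁ := ∏ x ∈ g.attach, t x.1 x.2
  have hs₁ : s₁ ∈ S := Submonoid.prod_mem _ fun x _ => ht x.1 x.2
  have hK : ∀ x : M, π ^ 2 • x = 0 → (s₁ * π) • x = 0 := by
    intro x hx
    have hle : LinearMap.ker (LinearMap.lsmul A M (π ^ 2)) ≤ LinearMap.ker (LinearMap.lsmul A M (s₁ * π)) := by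
      rw [← hg, Submodule.span_le]
      intro y hy
      obtain ⟨c, hc⟩ := Finset.dvd_prod_of_mem (fun x : g => t x.1 x.2) (Finset.mem_attach g ⟨y, hy⟩)
      show (s₁ * π) • y = 0
      rw [show s₁ = t y hy * c from hc, mul_comm (t y hy) c, mul_assoc, mul_smul, mul_smul, ht0, smul_zero]
    exact hle hx
  let N : ℕ →o Submodule A M :=
    ⟨fun k => LinearMap.ker (LinearMap.lsmul A M (s₁ ^ k)), fun i j hij x hx => by
      show s₁ ^ j • x = 0
      rw [← Nat.sub_add_cancel hij, pow_add, mul_smul, show s₁ ^ i • x = 0 from hx, smul_zero]⟩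
  obtain ⟨k, hk⟩ := monotone_stabilizes_iff_noetherian.mpr inferInstance N
  refine ⟨s₁ ^ (k + 1), pow_mem hs₁ _, fun n hn m hm => ?_⟩
  have h1 : π ^ 2 • ((s₁ ^ (k + 1)) ^ n) ^ 2 • m = 0 := by
    rw [smul_smul, ← hm]; ring_nf
  have h2 := hK _ h1
  have h3 : π • m ∈ N (2 * ((k + 1) * n) + 1) := by
    show s₁ ^ (2 * ((k + 1) * n) + 1) • π • m = 0
    rw [← h2, smul_smul, smul_smul]
    ring_nf
  rw [← hk _ (by nlinarith)] at h3
  have h4 : s₁ ^ k • π • m = 0 := h3
  obtain ⟨d, hd⟩ : ∃ d, (k + 1) * n = k + d := Nat.exists_eq_add_of_le (by nlinarith)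
  rw [← pow_mul, hd, pow_add, mul_comm (s₁ ^ k), mul_assoc, mul_smul, mul_smul, h4, smul_zero]

end Groth.Agent.S6820
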