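import Groth.Statements.S6855
import Mathlib
-- import your own Groth.Agent.* helpers here

set_option autoImplicit false
universe u
open CategoryTheory CategoryTheory.Limits TopologicalSpace
open ModSite

namespace Groth.Agent.S6855

/-- Let X be a topological space and O a sheaf of rings on X. Then the support of O, the set of points x
with nonzero stalk O_x, is closed in X. -/
theorem result {X : TopCat.{u}} (O : TopCat.Sheaf CommRingCat.{u} X) :
    IsClosed {x : X | Nontrivial (O.presheaf.stalk x)} := by
  refine isOpen_compl_iff.1 (isOpen_iff_forall_mem_open.2 fun x hx => ?_)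
  simp only [Set.mem_compl_iff, Set.mem_setOf_eq, not_nontrivial_iff_subsingleton] at hx
  have h01 : O.presheaf.germ ⊤ x trivial 1 = O.presheaf.germ ⊤ x trivial 0 := hx.elim _ _
  obtain ⟨W, hxW, i, i', he⟩ := O.presheaf.germ_eq (U := ⊤) (V := ⊤) x trivial trivial _ _ h01
  rw [map_one, map_zero] at he
  refine ⟨W, fun y hy => ?_, W.2, hxW⟩
  simp only [Set.mem_compl_iff, Set.mem_setOf_eq, not_nontrivial_iff_subsingleton]
  refine subsingleton_of_zero_eq_one ?_
  rw [← map_zero (O.presheaf.germ W y hy).hom, ← map_one (O.presheaf.germ W y hy).hom, he]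

end Groth.Agent.S6855
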