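import Groth.Statements.S6856
import Groth.Agent.ModSite9.Projection
-- import your own Groth.Agent.* helpers here

set_option autoImplicit false
universe u
open CategoryTheory CategoryTheory.Limits TopologicalSpace
open ModSite

namespace Groth.Agent.S6856

/-- On a ringed space (X, O), (1) if L and N are invertible O-modules (tensoring with each is an
equivalence of Mod(O)) then L ⊗_O N is invertible; (2) if L is invertible then Hom_O(L, O) is
invertible and the evaluation map Hom_O(L, O) ⊗_O L → O, the counit of the adjunction between − ⊗ L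
and Hom_O(L, −) at O, is an isomorphism. -/
theorem result {X : TopCat.{u}} (O : TopCat.Sheaf CommRingCat.{u} X)
    (L N : ModSite.Mod O) (hL : ((ModSite.tensorBi O).obj L).IsEquivalence) [ModSite.HasSheafHom L] :
    (((ModSite.tensorBi O).obj N).IsEquivalence →
        ((ModSite.tensorBi O).obj (((ModSite.tensorBi O).obj L).obj N)).IsEquivalence) ∧
      ((ModSite.tensorBi O).obj ((ModSite.sheafHom L).obj (ModSite.unit O))).IsEquivalence ∧
      IsIso ((ModSite.sheafHomAdj L).counit.app (ModSite.unit O)) := by
  have iso_eq : ∀ F : ModSite.Mod O, ((ModSite.tensorBi O).flip.obj F).IsEquivalence ↔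
      ((ModSite.tensorBi O).obj F).IsEquivalence := fun F =>
    ⟨fun _ => Functor.isEquivalence_of_iso (Groth.Agent.ModTensor.commIso O F).symm,
      fun _ => Functor.isEquivalence_of_iso (Groth.Agent.ModTensor.commIso O F)⟩
  haveI hL' := (iso_eq L).2 hL
  refine ⟨fun hN => ?_, ?_, ?_⟩
  · haveI := (iso_eq N).2 hN
    exact (iso_eq _).1 (Functor.isEquivalence_of_iso (Groth.Agent.ModTensor.assocIso L N))
  · haveI := (ModSite.sheafHomAdj L).isEquivalence_right_of_isEquivalence_left
    have hc : IsIso ((ModSite.sheafHomAdj L).counit.app (ModSite.unit O)) :=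
      (ModSite.sheafHomAdj L).isIso_counit_app_of_iso
        (((ModSite.tensorBi O).flip.obj L).objObjPreimageIso (ModSite.unit O)).symm
    let e : ((ModSite.tensorBi O).obj ((ModSite.sheafHom L).obj (ModSite.unit O))).obj L ≅ ModSite.unit O :=
      @asIso _ _ _ _ _ hc
    haveI : ((ModSite.tensorBi O).obj (ModSite.unit O)).IsEquivalence :=
      Functor.isEquivalence_of_iso (Groth.Agent.ModSite9.unitTensor O).symm
    haveI := (iso_eq (ModSite.unit O)).2 inferInstance
    haveI : ((ModSite.tensorBi O).flip.obj ((ModSite.sheafHom L).obj (ModSite.unit O)) ⋙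
        (ModSite.tensorBi O).flip.obj L).IsEquivalence :=
      Functor.isEquivalence_of_iso ((ModSite.tensorBi O).flip.mapIso e.symm ≪≫ (Groth.Agent.ModTensor.assocIso _ L).symm)
    exact (iso_eq _).1 (Functor.isEquivalence_of_comp_right _ ((ModSite.tensorBi O).flip.obj L))
  · exact (ModSite.sheafHomAdj L).isIso_counit_app_of_iso
      (((ModSite.tensorBi O).flip.obj L).objObjPreimageIso (ModSite.unit O)).symm

end Groth.Agent.S6856
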