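import Groth.Statements.S6862
import Mathlib.Algebra.Module.StablyFree.Basic
import Mathlib.RingTheory.Finiteness.Prod
import Mathlib.Algebra.Exact.Basic
import Mathlib.LinearAlgebra.Prod

set_option autoImplicit false
universe u
open CAlg

namespace Groth.Agent.S6862

/-- Let `R` be a commutative ring and `P'`, `P`, `P''` finitely generated projective `R`-modules in an
exact sequence `0 → P' → P → P'' → 0`. Whenever two of the three are stably free, the remaining one
is stably free too (all three cases are stated). -/
theorem result {R : Type u} [CommRing R] {P' P P'' : Type u}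
    [AddCommGroup P'] [Module R P'] [Module.Finite R P'] [Module.Projective R P']
    [AddCommGroup P] [Module R P] [Module.Finite R P] [Module.Projective R P]
    [AddCommGroup P''] [Module R P''] [Module.Finite R P''] [Module.Projective R P'']
    (f : P' →ₗ[R] P) (g : P →ₗ[R] P'') (hf : Function.Injective f) (hg : Function.Surjective g)
    (hfg : Function.Exact f g) :
    (Module.IsStablyFree R P' → Module.IsStablyFree R P → Module.IsStablyFree R P'') ∧
    (Module.IsStablyFree R P' → Module.IsStablyFree R P'' → Module.IsStablyFree R P) ∧
    (Module.IsStablyFree R P → Module.IsStablyFree R P'' → Module.IsStablyFree R P') := by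
  obtain ⟨s, hs⟩ := Module.projective_lifting_property g LinearMap.id hg
  let e : P ≃ₗ[R] P' × P'' := (hfg.splitSurjectiveEquiv hf ⟨s, hs⟩).1
  refine ⟨fun h' h => ?_, fun h' h'' => ?_, fun h h'' => ?_⟩
  · obtain ⟨F, _, _, _, _, _⟩ := Module.IsStablyFree.exist_free_prod (R := R) (M := P')
    obtain ⟨G, _, _, _, _, _⟩ := Module.IsStablyFree.exist_free_prod (R := R) (M := P)
    let E : ((P × G) × F) ≃ₗ[R] P'' × ((P' × F) × G) :=
      { toFun := fun x => ((e x.1.1).2, (((e x.1.1).1, x.2), x.1.2))
        invFun := fun y => ((e.symm (y.2.1.1, y.1), y.2.2), y.2.1.2)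
        map_add' := fun a b => by simp
        map_smul' := fun c a => by simp
        left_inv := fun x => by simp
        right_inv := fun y => by simp }
    haveI : Module.Free R (P'' × ((P' × F) × G)) := Module.Free.of_equiv E
    exact .of_free_prod R P'' ((P' × F) × G)
  · obtain ⟨F, _, _, _, _, _⟩ := Module.IsStablyFree.exist_free_prod (R := R) (M := P')
    obtain ⟨G, _, _, _, _, _⟩ := Module.IsStablyFree.exist_free_prod (R := R) (M := P'')
    let E : ((P' × F) × (P'' × G)) ≃ₗ[R] P × (F × G) :=
      { toFun := fun x => (e.symm (x.1.1, x.2.1), (x.1.2, x.2.2))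
        invFun := fun y => (((e y.1).1, y.2.1), ((e y.1).2, y.2.2))
        map_add' := fun a b => by simp [← map_add]
        map_smul' := fun c a => by simp [← map_smul]
        left_inv := fun x => by simp
        right_inv := fun y => by simp }
    haveI : Module.Free R (P × (F × G)) := Module.Free.of_equiv E
    exact .of_free_prod R P (F × G)
  · obtain ⟨G, _, _, _, _, _⟩ := Module.IsStablyFree.exist_free_prod (R := R) (M := P)
    obtain ⟨F, _, _, _, _, _⟩ := Module.IsStablyFree.exist_free_prod (R := R) (M := P'')
    let E : ((P × G) × F) ≃ₗ[R] P' × ((P'' × F) × G) :=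
      { toFun := fun x => ((e x.1.1).1, (((e x.1.1).2, x.2), x.1.2))
        invFun := fun y => ((e.symm (y.1, y.2.1.1), y.2.2), y.2.1.2)
        map_add' := fun a b => by simp
        map_smul' := fun c a => by simp
        left_inv := fun x => by simp
        right_inv := fun y => by simp }
    haveI : Module.Free R (P' × ((P'' × F) × G)) := Module.Free.of_equiv E
    exact .of_free_prod R P' ((P'' × F) × G)

end Groth.Agent.S6862
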