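import Groth.Statements.S6864
import Mathlib.RingTheory.Nakayama
import Mathlib.LinearAlgebra.TensorProduct.Quotient
import Mathlib.LinearAlgebra.TensorProduct.Tower
import Mathlib.RingTheory.Finiteness.Basic
import Mathlib.Algebra.Module.Projective

set_option autoImplicit false
universe u
open TensorProduct
open CAlg

namespace Groth.Agent.S6864

/-- Let `I` be an ideal of a commutative ring `R` contained in the Jacobson radical and let `φ : P → P'`
be an `R`-linear map between finite projective `R`-modules. If the induced map `P/IP → P'/IP'` is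
bijective, then `φ` is bijective. -/
theorem result {R : Type u} [CommRing R] (I : Ideal R)
    (hI : I ≤ Ideal.jacobson (⊥ : Ideal R)) {P P' : Type u}
    [AddCommGroup P] [Module R P] [Module.Finite R P] [Module.Projective R P]
    [AddCommGroup P'] [Module R P'] [Module.Finite R P'] [Module.Projective R P'] (φ : P →ₗ[R] P')
    (h : Function.Bijective (φ.baseChange (R ⧸ I))) : Function.Bijective φ := by
  have key : ∀ (Q : Type u) [AddCommGroup Q] [Module R Q] (q : Q),
      (1 : R ⧸ I) ⊗ₜ[R] q = 0 ↔ q ∈ (I • ⊤ : Submodule R Q) := fun Q _ _ q => by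
    rw [← (TensorProduct.quotTensorEquivQuotSMul Q I).map_eq_zero_iff]
    erw [TensorProduct.quotTensorEquivQuotSMul_mk_tmul]
    rw [one_smul, Submodule.Quotient.mk_eq_zero]
  have hsurj : Function.Surjective φ := by
    rw [← LinearMap.range_eq_top, eq_top_iff]
    refine Submodule.le_of_le_smul_of_le_jacobson_bot Module.Finite.fg_top hI fun y _ => ?_
    have hmem : ∀ z : (R ⧸ I) ⊗[R] P, ∃ x : P, z = (1 : R ⧸ I) ⊗ₜ[R] x := fun z => by
      induction z using TensorProduct.induction_on with
      | zero => exact ⟨0, (TensorProduct.tmul_zero _ _).symm⟩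
      | tmul c x =>
        obtain ⟨c, rfl⟩ := Ideal.Quotient.mk_surjective c
        refine ⟨c • x, ?_⟩
        rw [← TensorProduct.smul_tmul, show c • (1 : R ⧸ I) = algebraMap R (R ⧸ I) c from (Algebra.algebraMap_eq_smul_one c).symm]
        rfl
      | add a b ha hb =>
        obtain ⟨x, rfl⟩ := ha
        obtain ⟨x', rfl⟩ := hb
        exact ⟨x + x', (TensorProduct.tmul_add _ _ _).symm⟩
    obtain ⟨z, hz⟩ := h.2 ((1 : R ⧸ I) ⊗ₜ[R] y)
    obtain ⟨x, rfl⟩ := hmem z
    rw [LinearMap.baseChange_tmul, eq_comm, ← sub_eq_zero, ← TensorProduct.tmul_sub, key] at hz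
    rw [← add_sub_cancel (φ x) y]
    exact Submodule.add_mem_sup (LinearMap.mem_range_self φ x) hz
  obtain ⟨s, hs⟩ := Module.projective_lifting_property φ LinearMap.id hsurj
  refine ⟨?_, hsurj⟩
  rw [← LinearMap.ker_eq_bot]
  let e : P →ₗ[R] P := LinearMap.id - s ∘ₗ φ
  have hφs : ∀ y, φ (s y) = y := fun y => LinearMap.congr_fun hs y
  have hfg : (LinearMap.ker φ).FG := by
    have : LinearMap.ker φ = LinearMap.range e := le_antisymm (fun x hx => ⟨x, by simp [e, LinearMap.mem_ker.1 hx]⟩)
      (fun _ ⟨x, hx⟩ => by rw [← hx]; simp [e, hφs])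
    rw [this, LinearMap.range_eq_map]
    exact Module.Finite.fg_top.map e
  refine Submodule.eq_bot_of_le_smul_of_le_jacobson_bot I _ hfg (fun x hx => ?_) hI
  have hxI : x ∈ (I • ⊤ : Submodule R P) := (key P x).1 (h.1 (by
    rw [LinearMap.baseChange_tmul, LinearMap.mem_ker.1 hx, TensorProduct.tmul_zero, map_zero]))
  have hex : e x = x := by simp [e, LinearMap.mem_ker.1 hx]
  rw [← hex]
  have := Submodule.mem_map_of_mem (f := e) hxI
  rw [Submodule.map_smul'', Submodule.map_top] at this
  refine Submodule.smul_mono le_rfl ?_ this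
  rintro _ ⟨y, rfl⟩
  simp [e, hφs]

end Groth.Agent.S6864
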