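import Groth.Statements.S6866
import Mathlib.RingTheory.Flat.Stability
import Mathlib.RingTheory.Flat.TorsionFree
import Mathlib.RingTheory.Localization.FractionRing
import Mathlib.RingTheory.Localization.Module
import Mathlib.RingTheory.Flat.Localization

set_option autoImplicit false
universe u
open TensorProduct
open CAlg

namespace Groth.Agent.S6866

/-- If `M` is a torsion free module over a domain `R` and `R → R'` is a flat ring map to another domain,
then `R' ⊗_R M` is torsion free over `R'`. -/
theorem result (R R' : Type u) [CommRing R] [IsDomain R] [CommRing R']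
    [IsDomain R'] [Algebra R R'] [Module.Flat R R'] (M : Type u) [AddCommGroup M] [Module R M]
    [Module.IsTorsionFree R M] : Module.IsTorsionFree R' (R' ⊗[R] M) := by
  let K := FractionRing R
  let ι : M →ₗ[R] TensorProduct R K M := TensorProduct.mk R K M 1
  have hι : Function.Injective ι := by
    rw [← LinearMap.ker_eq_bot, eq_bot_iff]
    intro m hm
    obtain ⟨s, hs⟩ := (IsLocalizedModule.eq_zero_iff (nonZeroDivisors R) ι).1 (LinearMap.mem_ker.1 hm)
    rw [Submonoid.smul_def] at hs
    simpa [Submodule.mem_bot, nonZeroDivisors.ne_zero s.2] using hs
  have : Module.Flat R (TensorProduct R K M) := Module.Flat.trans R K _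
  let f : TensorProduct R R' M →ₗ[R'] TensorProduct R R' (TensorProduct R K M) :=
    TensorProduct.AlgebraTensorModule.map LinearMap.id ι
  have hf : Function.Injective f :=
    Module.Flat.lTensor_preserves_injective_linearMap (M := R') ι hι
  have h' : Module.IsTorsionFree R' (TensorProduct R R' (TensorProduct R K M)) := inferInstance
  exact hf.moduleIsTorsionFree f (map_smul f)

end Groth.Agent.S6866
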