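import Groth.Statements.S6867
import Mathlib.RingTheory.Localization.BaseChange
import Mathlib.RingTheory.Localization.Integer
import Mathlib.RingTheory.Localization.FractionRing
import Mathlib.RingTheory.TensorProduct.Finite
import Mathlib.LinearAlgebra.Dimension.Free
import Mathlib.LinearAlgebra.Dual.Lemmas
import Mathlib.LinearAlgebra.FiniteDimensional.Defs
import Mathlib.RingTheory.Finiteness.Prod

set_option autoImplicit false
universe u
open CAlg

namespace Groth.Agent.S6867

open scoped TensorProduct in
theorem exists_embedding (R : Type u) [CommRing R] [IsDomain R] (M : Type u) [AddCommGroup M] [Module R M] [Module.Finite R M]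
    [Module.IsTorsionFree R M] : ∃ (n : ℕ) (f : M →ₗ[R] (Fin n → R)), Function.Injective f := by
  classical
  let K := FractionRing R
  let ι : M →ₗ[R] K ⊗[R] M := TensorProduct.mk R K M 1
  haveI : IsLocalizedModule (nonZeroDivisors R) ι := inferInstanceAs (IsLocalizedModule (nonZeroDivisors R) (TensorProduct.mk R K M 1))
  have hι : Function.Injective ι := by
    refine (injective_iff_map_eq_zero ι).2 fun x hx => ?_
    obtain ⟨s, hs⟩ := (IsLocalizedModule.eq_zero_iff (nonZeroDivisors R) ι).1 hx
    exact (smul_eq_zero.1 hs).resolve_left (nonZeroDivisors.ne_zero s.2)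
  let b := Module.finBasis K (K ⊗[R] M)
  let c : M →ₗ[R] (Fin (Module.finrank K (K ⊗[R] M)) → K) := b.equivFun.toLinearMap.restrictScalars R ∘ₗ ι
  obtain ⟨s, hs⟩ := Module.Finite.fg_top (R := R) (M := M)
  obtain ⟨d, hd⟩ := IsLocalization.exist_integer_multiples_of_finite (nonZeroDivisors R)
    (fun q : s × Fin (Module.finrank K (K ⊗[R] M)) => c q.1 q.2)
  let A : (Fin (Module.finrank K (K ⊗[R] M)) → R) →ₗ[R] (Fin (Module.finrank K (K ⊗[R] M)) → K) :=
    LinearMap.compLeft (Algebra.linearMap R K) _
  have hA : Function.Injective A := fun x y h => funext fun i => IsFractionRing.injective R K (congrFun h i)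
  have hr : ∀ x, (d : R) • c x ∈ LinearMap.range A := by
    intro x
    have : x ∈ Submodule.span R (s : Set M) := by rw [hs]; exact Submodule.mem_top
    induction this using Submodule.span_induction with
    | mem x hx =>
      choose a ha using fun i => hd (⟨x, hx⟩, i)
      exact ⟨a, funext fun i => ha i⟩
    | zero => rw [map_zero, smul_zero]; exact zero_mem _
    | add x y _ _ h h' => rw [map_add, smul_add]; exact add_mem h h'
    | smul r x _ h => rw [map_smul, smul_comm]; exact Submodule.smul_mem _ _ h
  refine ⟨Module.finrank K (K ⊗[R] M), (LinearEquiv.ofInjective A hA).symm.toLinearMap ∘ₗ ((d : R) • c).codRestrict _ hr, ?_⟩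
  refine (LinearEquiv.ofInjective A hA).symm.injective.comp fun x y h => ?_
  have h1 : (d : R) • c x = (d : R) • c y := congrArg Subtype.val h
  exact hι (b.equivFun.injective (smul_right_injective _ (nonZeroDivisors.ne_zero d.2) h1))

/-- For a domain `R`, a finite `R`-module `M` is torsion free exactly when it admits an injective
`R`-linear map into `Rⁿ` for some `n`. -/
theorem result (R : Type u) [CommRing R] [IsDomain R] (M : Type u)
    [AddCommGroup M] [Module R M] [Module.Finite R M] :
    Module.IsTorsionFree R M ↔ ∃ (n : ℕ) (f : M →ₗ[R] (Fin n → R)), Function.Injective f := by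
  refine ⟨fun h => exists_embedding R M, fun ⟨n, f, hf⟩ => ?_⟩
  exact hf.moduleIsTorsionFree f (map_smul f)

end Groth.Agent.S6867
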