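import Groth.Statements.S6868
import Groth.Agent.S2085
import Mathlib.RingTheory.Ideal.AssociatedPrime.Finiteness
import Mathlib.RingTheory.Ideal.MinimalPrime.Basic

set_option autoImplicit false
universe u
open CAlg

namespace Groth.Agent.S6868

/-- (1) ⇔ (3) ⇔ (4): for a Noetherian domain `R` and a nonzero finite `R`-module `M`, torsion-freeness
of `M` is equivalent to `(0)` being the unique associated prime of `M`, and also to the conjunction:
`(0)` belongs to the support of `M` and `M` satisfies Serre's condition `(S_1)`. (The published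
statement also lists embedding into a finite free module and the absence of embedded associated
primes; this row states the other three conditions.) -/
theorem result (R : Type u) [CommRing R]
    [IsDomain R] [IsNoetherianRing R] (M : Type u) [AddCommGroup M] [Module R M] [Module.Finite R M] [Nontrivial M] :
    (Module.IsTorsionFree R M ↔ associatedPrimes R M = {⊥}) ∧
    (Module.IsTorsionFree R M ↔
      (⟨⊥, Ideal.isPrime_bot⟩ : PrimeSpectrum R) ∈ Module.support R M ∧ LocCoh.HasSk 1 R M) := by
  classical
  have hsupp : (⟨⊥, Ideal.isPrime_bot⟩ : PrimeSpectrum R) ∈ Module.support R M ↔ Module.annihilator R M = ⊥ := by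
    rw [Module.support_eq_zeroLocus, PrimeSpectrum.mem_zeroLocus, SetLike.coe_subset_coe, le_bot_iff]
  have hass : associatedPrimes R M = {⊥} → Module.IsTorsionFree R M := fun h => by
    refine ⟨fun r hr x y hxy => ?_⟩
    by_contra hne
    have : r ∈ ⋃ p ∈ associatedPrimes R M, (p : Set R) := by
      rw [biUnion_associatedPrimes_eq_zero_divisors R M]
      exact ⟨x - y, sub_ne_zero.2 hne, by rw [smul_sub, sub_eq_zero]; exact hxy⟩
    rw [h, Set.mem_iUnion₂] at this
    obtain ⟨p, hp, hrp⟩ := this
    rw [Set.mem_singleton_iff] at hp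
    subst hp
    exact hr.ne_zero ((Submodule.mem_bot R).1 hrp)
  have htf : Module.IsTorsionFree R M → associatedPrimes R M = {⊥} ∧ Module.annihilator R M = ⊥ := fun h => by
    haveI := h
    have hann : Module.annihilator R M = ⊥ := by
      rw [eq_bot_iff]
      intro r hr
      obtain ⟨x, hx⟩ := exists_ne (0 : M)
      exact (Submodule.mem_bot R).2 ((smul_eq_zero.1 (Module.mem_annihilator.1 hr x)).resolve_right hx)
    refine ⟨Set.eq_singleton_iff_nonempty_unique_mem.2 ⟨associatedPrimes.nonempty R M, fun p hp => ?_⟩, hann⟩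
    rw [eq_bot_iff]
    intro r hr
    have : r ∈ ⋃ p ∈ associatedPrimes R M, (p : Set R) := Set.mem_iUnion₂.2 ⟨p, hp, hr⟩
    rw [biUnion_associatedPrimes_eq_zero_divisors R M] at this
    obtain ⟨x, hx, hrx⟩ := this
    exact (Submodule.mem_bot R).2 ((smul_eq_zero.1 hrx).resolve_right hx)
  refine ⟨⟨fun h => (htf h).1, hass⟩, ⟨fun h => ?_, fun ⟨h1, h2⟩ => hass ?_⟩⟩
  · obtain ⟨h1, h2⟩ := htf h
    refine ⟨hsupp.2 h2, (Groth.Agent.S2085.result (R := R) (M := M)).1 fun p hp => ?_⟩
    rw [h1, Set.mem_singleton_iff] at hp
    subst hp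
    rw [h2, Ideal.minimalPrimes_eq_subsingleton_self]
    exact Set.mem_singleton _
  · refine Set.eq_singleton_iff_nonempty_unique_mem.2 ⟨associatedPrimes.nonempty R M, fun p hp => ?_⟩
    have := (Groth.Agent.S2085.result (R := R) (M := M)).2 h2 p hp
    rw [hsupp.1 h1, Ideal.minimalPrimes_eq_subsingleton_self, Set.mem_singleton_iff] at this
    exact this

end Groth.Agent.S6868
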