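import Groth.Statements.S6869
import Groth.Agent.S6867
import Mathlib.LinearAlgebra.Dual.Lemmas

set_option autoImplicit false
universe u
open CAlg

namespace Groth.Agent.S6869

/-- For a domain `R` and a finite `R`-module `M`, the evaluation map `M → M**` into the double dual is
injective exactly when `M` is torsion free. -/
theorem result (R : Type u) [CommRing R] [IsDomain R] (M : Type u)
    [AddCommGroup M] [Module R M] [Module.Finite R M] :
    Function.Injective (Module.Dual.eval R M) ↔ Module.IsTorsionFree R M := by
  refine ⟨fun h => h.moduleIsTorsionFree (Module.Dual.eval R M) (map_smul _), fun h => ?_⟩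
  obtain ⟨n, f, hf⟩ := (Groth.Agent.S6867.result R M).1 h
  refine (injective_iff_map_eq_zero _).2 fun x hx => hf ?_
  rw [map_zero]
  funext i
  exact LinearMap.congr_fun hx (LinearMap.proj i ∘ₗ f)

end Groth.Agent.S6869
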