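import Groth.Statements.S6870
import Mathlib.LinearAlgebra.LinearIndependent.Lemmas
import Mathlib.RingTheory.Finiteness.Basic
import Mathlib.LinearAlgebra.Dual.Defs
import Mathlib.LinearAlgebra.Basis.Basic
import Mathlib.LinearAlgebra.Finsupp.VectorSpace

set_option autoImplicit false
universe u
open CAlg

namespace Groth.Agent.S6870

/-- Let `R` be a domain, `M` a finite `R`-module and `j : M → M**` the evaluation map into the double
dual. Then one nonzero `c ∈ R` kills the kernel of `j` and multiplies `M**` into the image of `j`.
(The published statement says only that the kernel and cokernel of `j` are torsion; this row gives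
one such `c` for both.) -/
theorem result (R : Type u) [CommRing R] [IsDomain R] (M : Type u)
    [AddCommGroup M] [Module R M] [Module.Finite R M] :
    ∃ c : R, c ≠ 0 ∧ (∀ x : M, Module.Dual.eval R M x = 0 → c • x = 0) ∧
      ∀ y : Module.Dual R (Module.Dual R M), c • y ∈ LinearMap.range (Module.Dual.eval R M) := by
  classical
  obtain ⟨n, m, hm⟩ := Module.Finite.exists_fin (R := R) (M := M)
  obtain ⟨s, hli, hmax⟩ := exists_maximal_linearIndepOn R m
  set F : Submodule R M := Submodule.span R (m '' s) with hF
  have hex : ∀ i, ∃ a : R, a ≠ 0 ∧ a • m i ∈ F := fun i => by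
    by_cases hi : i ∈ s
    · exact ⟨1, one_ne_zero, by rw [one_smul]; exact Submodule.subset_span ⟨i, hi, rfl⟩⟩
    · exact hmax i hi
  choose a ha0 haF using hex
  let c : R := ∏ i, a i
  have hc : ∀ x : M, c • x ∈ F := by
    intro x
    have hx : x ∈ Submodule.span R (Set.range m) := hm ▸ trivial
    induction hx using Submodule.span_induction with
    | mem y hy =>
      obtain ⟨i, rfl⟩ := hy
      obtain ⟨d, hd⟩ : a i ∣ c := Finset.dvd_prod_of_mem a (Finset.mem_univ i)
      rw [hd, mul_comm, mul_smul]
      exact F.smul_mem d (haF i)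
    | zero => rw [smul_zero]; exact F.zero_mem
    | add y z _ _ hy hz => rw [smul_add]; exact F.add_mem hy hz
    | smul r y _ hy => rw [smul_comm]; exact F.smul_mem r hy
  let b : Module.Basis s R F := (Module.Basis.span hli.linearIndependent).map (LinearEquiv.ofEq _ _ (by
    rw [hF]; congr 1; ext z; simp))
  let mulc : M →ₗ[R] F := LinearMap.codRestrict F (c • LinearMap.id) hc
  let proj : s → Module.Dual R M := fun i => (b.coord i).comp mulc
  have hrec : ∀ x : M, c • x = ∑ i, proj i x • (b i : M) := by
    intro x
    have h1 := congrArg (F.subtype) (b.sum_repr (mulc x))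
    rw [map_sum] at h1
    exact h1.symm
  refine ⟨c, Finset.prod_ne_zero_iff.2 fun i _ => ha0 i, fun x hx => ?_, fun y => ?_⟩
  · rw [hrec]
    refine Finset.sum_eq_zero fun i _ => ?_
    have : proj i x = 0 := LinearMap.congr_fun hx (proj i)
    rw [this, zero_smul]
  · refine ⟨∑ i, y (proj i) • (b i : M), ?_⟩
    refine LinearMap.ext fun ψ => ?_
    have hψ : c • ψ = ∑ i, ψ (b i : M) • proj i := by
      refine LinearMap.ext fun x => ?_
      rw [LinearMap.sum_apply, LinearMap.smul_apply, ← map_smul, hrec, map_sum]
      exact Finset.sum_congr rfl fun i _ => by rw [map_smul, LinearMap.smul_apply, smul_eq_mul, smul_eq_mul, mul_comm]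
    rw [Module.Dual.eval_apply, LinearMap.smul_apply, map_sum, ← map_smul, hψ, map_sum]
    exact Finset.sum_congr rfl fun i _ => by rw [map_smul, map_smul, smul_eq_mul, smul_eq_mul, mul_comm]

end Groth.Agent.S6870
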