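import Groth.Statements.S6872
import Groth.Agent.S17764
import Mathlib.LinearAlgebra.Dual.Lemmas
import Mathlib.RingTheory.Localization.Integer
import Mathlib.RingTheory.Localization.FractionRing
import Mathlib.RingTheory.Finiteness.Basic

set_option autoImplicit false
universe u
open CAlg

namespace Groth.Agent.S6872

theorem lift_funct (R : Type u) [CommRing R] [IsDomain R] {A B : Type u} [AddCommGroup A] [Module R A] [AddCommGroup B]
    [Module R B] [Module.Finite R B] (ι : A →ₗ[R] B) (hι : Function.Injective ι) (φ : A →ₗ[R] R) :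
    ∃ c : R, c ≠ 0 ∧ ∃ ψ : B →ₗ[R] R, ∀ a, ψ (ι a) = c * φ a := by
  classical
  let K := FractionRing R
  haveI : NoZeroSMulDivisors R K := ⟨fun {r k} h => by
    rw [Algebra.smul_def, mul_eq_zero] at h
    exact h.imp (fun h => IsFractionRing.injective R K (h.trans (map_zero _).symm)) id⟩
  haveI : Module.Injective R K := Groth.Agent.S17764.result R K fun r hr k =>
    ⟨(algebraMap R K r)⁻¹ * k, by
      show r • _ = k
      rw [Algebra.smul_def, mul_inv_cancel_left₀ (fun h => hr (IsFractionRing.injective R K (h.trans (map_zero _).symm)))]⟩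
  obtain ⟨Φ, hΦ⟩ := Module.Injective.out ι hι ((Algebra.linearMap R K).comp φ)
  obtain ⟨s, hs⟩ := (Module.Finite.fg_top : (⊤ : Submodule R B).FG)
  obtain ⟨c, hc⟩ := IsLocalization.exist_integer_multiples (nonZeroDivisors R) s Φ
  have hrange : ∀ b, ((c : R) • Φ) b ∈ LinearMap.range (Algebra.linearMap R K) := by
    intro b
    have : (⊤ : Submodule R B) ≤ (LinearMap.range (Algebra.linearMap R K)).comap ((c : R) • Φ) := by
      rw [← hs, Submodule.span_le]
      intro x hx
      obtain ⟨r, hr⟩ := hc x hx
      exact ⟨r, hr⟩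
    exact this Submodule.mem_top
  have hinj : Function.Injective (Algebra.linearMap R K) := IsFractionRing.injective R K
  refine ⟨c, nonZeroDivisors.ne_zero c.2, (LinearEquiv.ofInjective _ hinj).symm.toLinearMap ∘ₗ LinearMap.codRestrict _ ((c : R) • Φ) hrange,
    fun a => hinj ?_⟩
  have h1 := congrArg Subtype.val ((LinearEquiv.ofInjective _ hinj).apply_symm_apply ⟨_, hrange (ι a)⟩)
  rw [LinearEquiv.ofInjective_apply] at h1
  refine h1.trans ?_
  show (c : R) • Φ (ι a) = Algebra.linearMap R K ((c : R) * φ a)
  rw [hΦ a, LinearMap.comp_apply, ← map_smul, smul_eq_mul]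


/-- Let `R` be a Noetherian domain and `f : M → M'`, `g : M' → M''` linear maps between finite
`R`-modules with `f` injective and image of `f` equal to kernel of `g` (so `0 → M → M' → M''` is
exact). Then reflexivity of `M'` together with torsion-freeness of `M''` forces `M` to be reflexive. -/
theorem result (R : Type u) [CommRing R] [IsDomain R]
    [IsNoetherianRing R] {M M' M'' : Type u} [AddCommGroup M] [Module R M] [Module.Finite R M]
    [AddCommGroup M'] [Module R M'] [Module.Finite R M'] [AddCommGroup M''] [Module R M''] [Module.Finite R M'']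
    (f : M →ₗ[R] M') (g : M' →ₗ[R] M'') (hf : Function.Injective f) (hfg : Function.Exact f g)
    [Module.IsReflexive R M'] [Module.IsTorsionFree R M''] : Module.IsReflexive R M := by
  have hinj2 : Function.Injective (Module.Dual.eval R M'') := by
    rw [← LinearMap.ker_eq_bot, LinearMap.ker_eq_bot']
    intro x hx
    by_contra hx0
    obtain ⟨c, hc, ψ, hψ⟩ := lift_funct R (LinearMap.toSpanSingleton R M'' x)
      (fun a b h => smul_left_injective R hx0 h) LinearMap.id
    refine hc ?_
    have h1 : ψ x = 0 := LinearMap.congr_fun hx ψ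
    simpa [h1] using (hψ 1).symm
  have hnat : ∀ x, f.dualMap.dualMap (Module.Dual.eval R M x) = Module.Dual.eval R M' (f x) := fun x => rfl
  refine ⟨⟨fun a b h => hf ((Module.bijective_dual_eval R M').1 ?_), fun y => ?_⟩⟩
  · rw [← hnat, ← hnat, h]
  obtain ⟨x', hx'⟩ := (Module.bijective_dual_eval R M').2 (f.dualMap.dualMap y)
  have hg : g x' = 0 := hinj2 (by
    rw [map_zero]
    refine LinearMap.ext fun ψ => ?_
    show (Module.Dual.eval R M' x') (g.dualMap ψ) = 0
    rw [hx']
    show y (f.dualMap (g.dualMap ψ)) = 0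
    have : f.dualMap (g.dualMap ψ) = 0 := LinearMap.ext fun m => by
      show ψ (g (f m)) = 0
      rw [hfg.apply_apply_eq_zero, map_zero]
    rw [this, map_zero])
  obtain ⟨x, rfl⟩ := (hfg x').1 hg
  refine ⟨x, LinearMap.ext fun φ => ?_⟩
  obtain ⟨c, hc, ψ, hψ⟩ := lift_funct R f hf φ
  have he : c • φ = f.dualMap ψ := LinearMap.ext fun m => (hψ m).symm
  have h1 := LinearMap.congr_fun hx' ψ
  have h2 : c * φ x = c * y φ := by
    calc c * φ x = ψ (f x) := (hψ x).symm
      _ = y (f.dualMap ψ) := h1
      _ = c * y φ := by rw [← he, map_smul, smul_eq_mul]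
  exact mul_left_cancel₀ hc h2

end Groth.Agent.S6872
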