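import Groth.Statements.S6873
import Groth.Agent.S6872
import Mathlib.RingTheory.Noetherian.Basic
import Mathlib.LinearAlgebra.Dual.Lemmas

set_option autoImplicit false
universe u
open CAlg

namespace Groth.Agent.S6873

/-- For a Noetherian domain `R`, a finite `R`-module `M` is reflexive if and only if `M` admits an
injective `R`-linear map into `Rⁿ`, for some `n`, whose cokernel is torsion free. -/
theorem result (R : Type u) [CommRing R] [IsDomain R]
    [IsNoetherianRing R] (M : Type u) [AddCommGroup M] [Module R M] [Module.Finite R M] :
    Module.IsReflexive R M ↔ ∃ (n : ℕ) (f : M →ₗ[R] (Fin n → R)), Function.Injective f ∧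
      Module.IsTorsionFree R ((Fin n → R) ⧸ LinearMap.range f) := by
  classical
  constructor
  · intro hr
    haveI : Module.Finite R (Module.Dual R M) := inferInstance
    obtain ⟨n, p, hp⟩ := Module.Finite.exists_fin' R (Module.Dual R M)
    let e := (Pi.basisFun R (Fin n)).toDualEquiv.symm
    let f : M →ₗ[R] (Fin n → R) := e.toLinearMap ∘ₗ p.dualMap ∘ₗ Module.Dual.eval R M
    have hf : Function.Injective f :=
      e.injective.comp ((LinearMap.dualMap_injective_of_surjective hp).comp (Module.bijective_dual_eval R M).1)
    let q : (Fin n → R) →ₗ[R] Module.Dual R (LinearMap.ker p) := (Submodule.subtype _).dualMap ∘ₗ e.symm.toLinearMap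
    have hker : LinearMap.ker q = LinearMap.range f := by
      refine le_antisymm (fun v hv => ?_) ?_
      · have hle : LinearMap.ker p ≤ LinearMap.ker (e.symm v : Module.Dual R (Fin n → R)) := fun w hw =>
          LinearMap.congr_fun hv ⟨w, hw⟩
        obtain ⟨m, hm⟩ := (Module.bijective_dual_eval R M).2
          ((LinearMap.ker p).liftQ (e.symm v) hle ∘ₗ (p.quotKerEquivOfSurjective hp).symm.toLinearMap)
        refine ⟨m, e.symm.injective ?_⟩
        show e.symm (e (p.dualMap (Module.Dual.eval R M m))) = _
        rw [e.symm_apply_apply, hm]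
        refine LinearMap.ext fun w => ?_
        show (LinearMap.ker p).liftQ (e.symm v) hle ((p.quotKerEquivOfSurjective hp).symm (p w)) = _
        have : (p.quotKerEquivOfSurjective hp).symm (p w) = Submodule.Quotient.mk w :=
          (p.quotKerEquivOfSurjective hp).symm_apply_eq.2 rfl
        rw [this]
        rfl
      · rintro _ ⟨m, rfl⟩
        refine LinearMap.ext fun w => ?_
        show (e.symm (e (p.dualMap (Module.Dual.eval R M m)))) w.1 = 0
        rw [e.symm_apply_apply]
        show (Module.Dual.eval R M m) (p w.1) = 0
        rw [LinearMap.mem_ker.1 w.2, map_zero]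
    refine ⟨n, f, hf, ?_⟩
    have hinjq : Function.Injective ((LinearMap.range f).liftQ q hker.ge) := by
      rw [← LinearMap.ker_eq_bot, Submodule.ker_liftQ_eq_bot']
      exact hker.symm
    exact hinjq.moduleIsTorsionFree _ (fun r x => map_smul _ r x)
  · rintro ⟨n, f, hf, htf⟩
    haveI := htf
    exact Groth.Agent.S6872.result R f (LinearMap.range f).mkQ hf
      (LinearMap.exact_iff.2 (Submodule.ker_mkQ _))

end Groth.Agent.S6873
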