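import Groth.Statements.S6875
import Groth.Agent.S6872
import Groth.Agent.S6873
import Mathlib.RingTheory.Noetherian.Basic
import Mathlib.LinearAlgebra.Dual.Lemmas
import Mathlib.LinearAlgebra.FreeModule.Finite.Matrix
import Mathlib.RingTheory.Finiteness.Projective

set_option autoImplicit false
universe u
open CAlg

namespace Groth.Agent.S6875

/-- Let `R` be a Noetherian domain, `M` a finite `R`-module and `N` a finite reflexive `R`-module. Then
`Hom_R(M, N)` is reflexive. -/
theorem result (R : Type u) [CommRing R] [IsDomain R] [IsNoetherianRing R]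
    (M N : Type u) [AddCommGroup M] [Module R M] [Module.Finite R M] [AddCommGroup N] [Module R N] [Module.Finite R N]
    [Module.IsReflexive R N] : Module.IsReflexive R (M →ₗ[R] N) := by
  classical
  obtain ⟨m, j, hj, htf⟩ := (Groth.Agent.S6873.result R N).1 inferInstance
  obtain ⟨n, π, hπ⟩ := Module.Finite.exists_fin' R M
  haveI := htf
  let K := LinearMap.ker π
  haveI : Module.Finite R K := inferInstance
  let f : (M →ₗ[R] N) →ₗ[R] ((Fin n → R) →ₗ[R] (Fin m → R)) := (LinearMap.lcomp R (Fin m → R) π).comp (LinearMap.llcomp R M N (Fin m → R) j)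
  let g : ((Fin n → R) →ₗ[R] (Fin m → R)) →ₗ[R] (K →ₗ[R] (Fin m → R)) × ((Fin n → R) →ₗ[R] (Fin m → R) ⧸ LinearMap.range j) :=
    (LinearMap.lcomp R (Fin m → R) K.subtype).prod (LinearMap.llcomp R (Fin n → R) (Fin m → R) _ (LinearMap.range j).mkQ)
  have hf : Function.Injective f := fun a b h => LinearMap.ext fun x => by
    obtain ⟨v, rfl⟩ := hπ x
    exact hj (LinearMap.congr_fun h v)
  have hfg : Function.Exact f g := fun h => by
    constructor
    · intro hh
      have h1 : ∀ v, π v = 0 → h v = 0 := fun v hv => LinearMap.congr_fun (congrArg Prod.fst hh) ⟨v, hv⟩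
      have h2 : ∀ v, h v ∈ LinearMap.range j := fun v => by
        have := LinearMap.congr_fun (congrArg Prod.snd hh) v
        exact (Submodule.Quotient.mk_eq_zero _).1 this
      let h' : (Fin n → R) →ₗ[R] N := (LinearEquiv.ofInjective j hj).symm.toLinearMap.comp (h.codRestrict _ h2)
      have hjh : ∀ v, j (h' v) = h v := fun v => congrArg Subtype.val ((LinearEquiv.ofInjective j hj).apply_symm_apply ⟨h v, h2 v⟩)
      have hle : LinearMap.ker π ≤ LinearMap.ker h' := fun v hv => hj (by rw [hjh, h1 v hv, map_zero])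
      refine ⟨((LinearMap.ker π).liftQ h' hle).comp (π.quotKerEquivOfSurjective hπ).symm.toLinearMap, LinearMap.ext fun v => ?_⟩
      show j ((LinearMap.ker π).liftQ h' hle ((π.quotKerEquivOfSurjective hπ).symm (π v))) = h v
      rw [show (π.quotKerEquivOfSurjective hπ).symm (π v) = Submodule.Quotient.mk v from (π.quotKerEquivOfSurjective hπ).symm_apply_eq.2 rfl, Submodule.liftQ_apply, hjh]
    · rintro ⟨a, rfl⟩
      refine Prod.ext (LinearMap.ext fun v => ?_) (LinearMap.ext fun v => ?_)
      · show j (a (π v.1)) = 0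
        rw [LinearMap.mem_ker.1 v.2, map_zero, map_zero]
      · exact (Submodule.Quotient.mk_eq_zero _).2 ⟨a (π v), rfl⟩
  haveI : Module.IsTorsionFree R ((K →ₗ[R] (Fin m → R)) × ((Fin n → R) →ₗ[R] (Fin m → R) ⧸ LinearMap.range j)) := by
    refine ⟨fun r hr x y h => Prod.ext (LinearMap.ext fun v => hr.isSMulRegular (LinearMap.congr_fun (congrArg Prod.fst h) v)) (LinearMap.ext fun v => hr.isSMulRegular (LinearMap.congr_fun (congrArg Prod.snd h) v))⟩
  exact Groth.Agent.S6872.result R f g hf hfg

end Groth.Agent.S6875
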