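import Groth.Statements.S6882
import Mathlib.LinearAlgebra.Dual.Lemmas
import Mathlib.LinearAlgebra.FreeModule.PID
import Mathlib.RingTheory.DiscreteValuationRing.Basic
import Mathlib.Algebra.Module.Torsion.Free
import Mathlib.Algebra.Module.Torsion.Basic

set_option autoImplicit false
universe u
open CAlg

namespace Groth.Agent.S6882

/-- For a finite module `M` over a discrete valuation ring `R`, the evaluation map from `M` to its
double dual `M**` is surjective. -/
theorem result (R : Type u) [CommRing R] [IsDomain R]
    [IsDiscreteValuationRing R] (M : Type u) [AddCommGroup M] [Module R M] [Module.Finite R M] :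
    Function.Surjective (Module.Dual.eval R M) := by
  let T := Submodule.torsion R M
  let π := T.mkQ
  haveI : Module.Free R (M ⧸ T) := Module.free_of_finite_type_torsion_free'
  have hπ : Function.Bijective π.dualMap := by
    refine ⟨LinearMap.dualMap_injective_of_surjective T.mkQ_surjective, fun φ => ?_⟩
    refine ⟨T.liftQ φ fun x hx => ?_, LinearMap.ext fun x => rfl⟩
    obtain ⟨a, ha⟩ := Submodule.mem_torsion_iff _ |>.1 hx
    have h1 : (a : R) • φ x = 0 := by rw [← map_smul]; exact (congrArg φ ha).trans (map_zero φ)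
    exact (smul_eq_zero.1 h1).resolve_left (nonZeroDivisors.ne_zero a.2)
  let e := LinearEquiv.ofBijective _ hπ
  intro Φ
  obtain ⟨y, hy⟩ := (Module.evalEquiv R (M ⧸ T)).surjective (Φ ∘ₗ π.dualMap)
  obtain ⟨x, rfl⟩ := T.mkQ_surjective y
  refine ⟨x, LinearMap.ext fun φ => ?_⟩
  obtain ⟨ψ, rfl⟩ := hπ.2 φ
  exact LinearMap.congr_fun hy ψ

end Groth.Agent.S6882
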