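import Groth.Statements.S6887
import Mathlib.LinearAlgebra.Matrix.Charpoly.LinearMap
import Mathlib.RingTheory.Nakayama
import Mathlib.RingTheory.Finiteness.Cardinality

set_option autoImplicit false
universe u
open Polynomial
open CAlg

namespace Groth.Agent.S6887

/-- Let `(A, I)` be a Zariski pair (`I` inside the Jacobson radical) and `A → B` a finite ring map.
Suppose `B/IB ≅ B₁ × B₂` as `A`-algebras with `A → B₁` surjective, and `b ∈ B` maps to `(1, 0)`.
Then there is a monic `f ∈ A[x]` with `f(b) = 0` whose reduction modulo `I` is `(x - 1) x^d` for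
some `d ≥ 1`. -/
theorem result (A B : Type u) [CommRing A] [CommRing B]
    [Algebra A B] [Module.Finite A B] (I : Ideal A) (hI : I ≤ Ideal.jacobson (⊥ : Ideal A))
    (B₁ B₂ : Type u) [CommRing B₁] [CommRing B₂] [Algebra A B₁] [Algebra A B₂]
    (e : (B ⧸ I.map (algebraMap A B)) ≃ₐ[A] B₁ × B₂) (h₁ : Function.Surjective (algebraMap A B₁)) (b : B)
    (hb : e (Ideal.Quotient.mk (I.map (algebraMap A B)) b) = (1, 0)) :
    ∃ (f : A[X]) (d : ℕ), f.Monic ∧ Polynomial.aeval b f = 0 ∧ 1 ≤ d ∧
      f.map (Ideal.Quotient.mk I) = (X - 1) * X ^ d := by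
  classical
  have hmkA : ∀ (a : A) (x : B), e (Ideal.Quotient.mk (I.map (algebraMap A B)) (a • x)) =
      a • e (Ideal.Quotient.mk (I.map (algebraMap A B)) x) := fun a x =>
    (congrArg e (show Ideal.Quotient.mk (I.map (algebraMap A B)) (a • x) = a • Ideal.Quotient.mk _ x from rfl)).trans
      (e.toLinearEquiv.map_smul a _)
  obtain ⟨m, c, hc⟩ := Module.Finite.exists_fin (R := A) (M := B)
  choose y hy using fun i : Fin m => Ideal.Quotient.mk_surjective (e.symm (0, (e (Ideal.Quotient.mk _ (c i))).2))
  let g : Option (Option (Fin m)) → B := fun o => match o with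
    | none => b
    | some none => 0
    | some (some i) => y i
  let D : Option (Option (Fin m)) → A := fun o => match o with
    | none => 1
    | some _ => 0
  have hIB : ∀ x : B, x ∈ I • (⊤ : Submodule A B) ↔ e (Ideal.Quotient.mk (I.map (algebraMap A B)) x) = 0 := by
    intro x
    rw [Ideal.smul_top_eq_map, Submodule.restrictScalars_mem, map_eq_zero_iff e e.injective,
      Ideal.Quotient.eq_zero_iff_mem]
  have hspan : Submodule.span A (Set.range g) = ⊤ := by
    refine top_le_iff.1 (Submodule.le_of_le_smul_of_le_jacobson_bot Module.Finite.fg_top hI fun x _ => ?_)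
    obtain ⟨a, ha⟩ := h₁ (e (Ideal.Quotient.mk _ x)).1
    obtain ⟨t, ht⟩ := Submodule.mem_span_range_iff_exists_fun A |>.1 (hc.ge (Submodule.mem_top (x := x)))
    have hz : x - (a • b + ∑ i, t i • y i) ∈ I • (⊤ : Submodule A B) := by
      rw [hIB, map_sub, map_sub, sub_eq_zero, map_add, map_add, hmkA, hb, map_sum, map_sum]
      simp only [hmkA, hy, AlgEquiv.apply_symm_apply]
      refine Prod.ext ?_ ?_
      · simp [Prod.fst_sum, Algebra.smul_def, ha]
      · rw [Prod.snd_add, Prod.snd_sum]
        conv_lhs => rw [← ht, map_sum, map_sum, Prod.snd_sum]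
        simp [hmkA]
    rw [show x = (a • b + ∑ i, t i • y i) + (x - (a • b + ∑ i, t i • y i)) by abel]
    refine add_mem (Submodule.mem_sup_left (add_mem (Submodule.smul_mem _ _ (Submodule.subset_span ⟨none, rfl⟩))
      (Submodule.sum_mem _ fun i _ => Submodule.smul_mem _ _ (Submodule.subset_span ⟨some (some i), rfl⟩))))
      (Submodule.mem_sup_right hz)
  have hdiff : ∀ j, b * g j - D j • g j ∈ I • Submodule.span A (Set.range g) := by
    intro j
    rw [hspan, hIB, map_sub, map_sub, map_mul, map_mul, hmkA, hb]
    rcases j with _ | _ | i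
    · simp [g, D, hb]
    · simp [g, D]
    · simp [g, D, hy]
  choose a ha hsum using fun j => (Submodule.mem_ideal_smul_span_iff_exists_sum I g _).1 (hdiff j)
  let M : Matrix (Option (Option (Fin m))) (Option (Option (Fin m))) A :=
    Matrix.diagonal D + Matrix.of fun i j => a j i
  have hrep : M.Represents g (LinearMap.mulLeft A b) := by
    rw [Matrix.represents_iff']
    intro j
    have := hsum j
    rw [Finsupp.sum_fintype _ _ (by simp)] at this
    simp only [M, Matrix.add_apply, Matrix.of_apply, add_smul, Finset.sum_add_distrib, this,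
      LinearMap.mulLeft_apply]
    rw [Finset.sum_eq_single j (fun i _ hi => by simp [hi]) (by simp), Matrix.diagonal_apply_eq]
    abel
  refine ⟨M.charpoly, m + 1, M.charpoly_monic, ?_, by omega, ?_⟩
  · let M' : Matrix.isRepresentation A g := ⟨M, _, hrep⟩
    have h0 : aeval (LinearMap.mulLeft A b) M.charpoly = 0 := by
      rw [← Matrix.isRepresentation.eq_toEnd_of_represents A g hspan M' hrep, aeval_algHom_apply,
        ← map_zero (Matrix.isRepresentation.toEnd A g hspan)]
      congr 1
      ext1
      rw [Polynomial.aeval_subalgebra_coe, Matrix.aeval_self_charpoly, Subalgebra.coe_zero]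
    have h1 : aeval (Algebra.lmul A B b) M.charpoly = 0 := h0
    rw [aeval_algHom_apply] at h1
    simpa using LinearMap.congr_fun h1 1
  · rw [← Matrix.charpoly_map, show M.map (Ideal.Quotient.mk I) = Matrix.diagonal (fun o => Ideal.Quotient.mk I (D o)) by
      ext i j
      simp only [M, Matrix.map_apply, Matrix.add_apply, Matrix.of_apply, map_add,
        Ideal.Quotient.eq_zero_iff_mem.2 (ha j i), add_zero]
      by_cases h : i = j <;> simp [h], Matrix.charpoly_diagonal, Fintype.prod_option]
    simp [D]

end Groth.Agent.S6887
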