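import Groth.Statements.S6888
import Mathlib.RingTheory.Henselian
import Mathlib.RingTheory.Idempotents
import Mathlib.Algebra.BigOperators.Fin
import Mathlib.Tactic.LinearCombination

set_option autoImplicit false
universe u
open Polynomial
open CAlg

namespace Groth.Agent.S6888

lemma eq_zero_of_idem_mem {A : Type u} [CommRing A] {I : Ideal A} (hI : I ≤ Ideal.jacobson (⊥ : Ideal A))
    {e : A} (he : IsIdempotentElem e) (h : Ideal.Quotient.mk I e = 0) : e = 0 := by
  have hu := (Ideal.mem_jacobson_bot.1 (hI (Ideal.Quotient.eq_zero_iff_mem.1 h))) (-1)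
  exact hu.mul_left_eq_zero.1 (by rw [mul_add, mul_one, mul_neg, mul_one, mul_neg, he.eq, neg_add_cancel])

/-- Let `A` be absolutely integrally closed (every monic polynomial over `A` is a product of linear
factors) and `I ⊆ A` an ideal contained in the Jacobson radical such that `A → A/I` is surjective
(hence bijective) on idempotents. Then `(A, I)` is a henselian pair. (The published statement also
records the converse, which holds for every henselian pair; this row states the sufficiency only.) -/
theorem result (A : Type u) [CommRing A]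
    (hA : ∀ f : A[X], f.Monic → ∃ s : Multiset A, f = (s.map fun a => X - C a).prod) (I : Ideal A)
    (hI : I ≤ Ideal.jacobson (⊥ : Ideal A))
    (hidem : ∀ e : A ⧸ I, IsIdempotentElem e → ∃ e' : A, IsIdempotentElem e' ∧ Ideal.Quotient.mk I e' = e) :
    HenselianRing A I := by
  classical
  refine ⟨hI, fun f hf a₀ h₀ h₁ => ?_⟩
  obtain ⟨s, hs⟩ := hA f hf
  let n := s.toList.length
  let r : Fin n → A := fun i => s.toList.get i
  have hf' : f = ∏ i, (X - C (r i)) := by
    rw [hs]
    conv_lhs => rw [← Multiset.coe_toList s, Multiset.map_coe, Multiset.prod_coe, ← List.ofFn_get s.toList]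
    rw [List.map_ofFn, List.prod_ofFn]
    rfl
  let π := Ideal.Quotient.mk I
  let P : Fin n → A := fun i => ∏ j ∈ Finset.univ.erase i, (a₀ - r j)
  have hder : f.derivative.eval a₀ = ∑ i, P i := by
    rw [hf', derivative_prod_finset, eval_finsetSum]
    simp [P, eval_prod]
  have hprod : π (∏ j, (a₀ - r j)) = 0 := by
    refine Ideal.Quotient.eq_zero_iff_mem.2 ?_
    convert h₀ using 1
    simp [hf', eval_prod]
  have hP : ∀ i j, i ≠ j → π (P i) * π (P j) = 0 := by
    intro i j hij
    have hi : P i = (a₀ - r j) * ∏ l ∈ (Finset.univ.erase i).erase j, (a₀ - r l) :=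
      (Finset.mul_prod_erase _ _ (Finset.mem_erase.2 ⟨Ne.symm hij, Finset.mem_univ _⟩)).symm
    have hj : (∏ l, (a₀ - r l)) = (a₀ - r j) * P j :=
      (Finset.mul_prod_erase _ _ (Finset.mem_univ _)).symm
    rw [← map_mul, hi, mul_right_comm, ← hj, map_mul, hprod, zero_mul]
  obtain ⟨v, hv⟩ := h₁.exists_left_inv
  let e : Fin n → A ⧸ I := fun i => v * π (P i)
  have he : ∀ i, IsIdempotentElem (e i) := by
    intro i
    have h2 : v * π (P i) * (v * ∑ j, π (P j)) = v * π (P i) * (v * π (P i)) := by
      rw [Finset.mul_sum, Finset.mul_sum, Finset.sum_eq_single i (fun j _ hj => by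
        rw [mul_mul_mul_comm, hP i j (Ne.symm hj), mul_zero]) (by simp)]
    rw [← map_sum, ← hder, show v * π (f.derivative.eval a₀) = 1 from hv, mul_one] at h2
    exact h2.symm
  choose e' he' hee using fun i => hidem (e i) (he i)
  have hortho : ∀ i j, i ≠ j → e' i * e' j = 0 := fun i j hij =>
    eq_zero_of_idem_mem hI ((he' i).mul (he' j)) (by
      rw [map_mul, hee, hee]
      show v * π (P i) * (v * π (P j)) = 0
      rw [mul_mul_mul_comm, hP i j hij, mul_zero])
  have hsum : ∑ i, e' i = 1 := by
    have hid : IsIdempotentElem (∑ i, e' i) :=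
      OrthogonalIdempotents.isIdempotentElem_sum ⟨he', fun i j hij => hortho i j hij⟩
    have h3 := eq_zero_of_idem_mem hI hid.one_sub (by
      rw [map_sub, map_one, map_sum]
      simp only [hee, e]
      rw [← Finset.mul_sum, ← map_sum, ← hder, show v * π (f.derivative.eval a₀) = 1 from hv, sub_self])
    exact (sub_eq_zero.1 h3).symm
  refine ⟨∑ i, e' i * r i, ?_, ?_⟩
  · show f.eval _ = 0
    have hk : ∀ k, e' k * f.eval (∑ i, e' i * r i) = 0 := by
      intro k
      have h4 : e' k * ((∑ i, e' i * r i) - r k) = 0 := by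
        rw [mul_sub, Finset.mul_sum, Finset.sum_eq_single k (fun j _ hj => by
          rw [← mul_assoc, hortho k j (Ne.symm hj), zero_mul]) (by simp), ← mul_assoc, (he' k).eq, sub_self]
      rw [hf', eval_prod, ← Finset.mul_prod_erase _ _ (Finset.mem_univ k), eval_sub, eval_X, eval_C,
        ← mul_assoc, h4, zero_mul]
    conv_lhs => rw [← one_mul (f.eval _), ← hsum, Finset.sum_mul]
    exact Finset.sum_eq_zero fun k _ => hk k
  · rw [← Ideal.Quotient.eq, map_sum]
    simp only [map_mul, hee, e]
    have h5 : ∀ i, v * π (P i) * π (r i) = v * π (P i) * π a₀ := by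
      intro i
      have h6 : (a₀ - r i) * P i = ∏ l, (a₀ - r l) := Finset.mul_prod_erase _ (fun l => a₀ - r l) (Finset.mem_univ i)
      have h7 := congrArg π h6
      rw [hprod, map_mul, map_sub] at h7
      linear_combination (-v) * h7
    rw [Finset.sum_congr rfl fun i _ => h5 i, ← Finset.sum_mul, ← Finset.mul_sum, ← map_sum, ← hder,
      show v * π (f.derivative.eval a₀) = 1 from hv, one_mul]

end Groth.Agent.S6888
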