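import Groth.Statements.S6893
import Groth.Agent.Flat.SqZero
import Mathlib.RingTheory.Flat.Stability

set_option autoImplicit false
universe u
open TensorProduct
open CAlg

namespace Groth.Agent.S6893

open TensorProduct in
theorem flat_core {R : Type u} [CommRing R] (I J : Ideal R) (hIJ : I ⊓ J = ⊥) (M : Type u) [AddCommGroup M] [Module R M]
    (hI : Module.Flat (R ⧸ I) ((R ⧸ I) ⊗[R] M)) (hJ : Module.Flat (R ⧸ J) ((R ⧸ J) ⊗[R] M)) : Module.Flat R M := by
  rw [Module.Flat.iff_rTensor_injective']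
  intro K
  rw [injective_iff_map_eq_zero]
  intro x hx
  let q : K →ₗ[R] R ⧸ I := (Ideal.Quotient.mkₐ R I).toLinearMap ∘ₗ K.subtype
  have hkill : ∀ (L : Ideal R), ∀ a ∈ L, ∀ c : R ⧸ L, a • c = 0 := fun L a ha c => by
    obtain ⟨c, rfl⟩ := Ideal.Quotient.mk_surjective c
    exact Ideal.Quotient.eq_zero_iff_mem.2 (L.mul_mem_right _ ha)
  have h1 : q.rangeRestrict.rTensor M x = 0 := by
    refine Groth.Agent.Flat.SqZero.rTensor_injective_of_annihilated I M
      (fun a ha c => Subtype.ext (hkill I a ha c)) (hkill I) q.range.subtype Subtype.val_injective ?_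
    rw [map_zero, ← LinearMap.comp_apply, ← LinearMap.rTensor_comp]
    show ((Ideal.Quotient.mkₐ R I).toLinearMap ∘ₗ K.subtype).rTensor M x = 0
    rw [LinearMap.rTensor_comp, LinearMap.comp_apply, hx, map_zero]
  obtain ⟨y, rfl⟩ := (rTensor_exact M (f := q.rangeRestrict.ker.subtype) (g := q.rangeRestrict)
    q.rangeRestrict.exact_subtype_ker_map q.surjective_rangeRestrict x).1 h1
  have hk : ∀ z : q.rangeRestrict.ker, ((z : K) : R) ∈ I := fun z => by
    have h2 : q.rangeRestrict (z : K) = 0 := z.2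
    exact Ideal.Quotient.eq_zero_iff_mem.1 (congrArg Subtype.val h2)
  let ι : q.rangeRestrict.ker →ₗ[R] R ⧸ J :=
    (Ideal.Quotient.mkₐ R J).toLinearMap ∘ₗ K.subtype ∘ₗ q.rangeRestrict.ker.subtype
  have hy : y = 0 := by
    refine Groth.Agent.Flat.SqZero.rTensor_injective_of_annihilated J M
      (fun a ha z => Subtype.ext (Subtype.ext ?_)) (hkill J) ι (fun u v huv => Subtype.ext (Subtype.ext ?_)) ?_
    · change a * ((z : K) : R) = 0
      rw [← Ideal.mem_bot, ← hIJ]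
      exact ⟨I.mul_mem_left _ (hk z), J.mul_mem_right _ ha⟩
    · rw [← sub_eq_zero, ← Ideal.mem_bot, ← hIJ]
      exact ⟨sub_mem (hk u) (hk v), Ideal.Quotient.eq.1 huv⟩
    · rw [map_zero, LinearMap.rTensor_comp, LinearMap.rTensor_comp, LinearMap.comp_apply, LinearMap.comp_apply, hx, map_zero]
  rw [hy, map_zero]

/-- Let `M` be a module over a ring `R` and `I₁, I₂ ⊆ R` ideals. Suppose flatness of `M/I₁M` as an
`R/I₁`-module holds, and likewise `M/I₂M` is a flat `R/I₂`-module; then the quotient `M/(I₁ ∩ I₂)M`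
is also flat as a module over `R/(I₁ ∩ I₂)`. -/
theorem result {R : Type u} [CommRing R] (M : Type u) [AddCommGroup M] [Module R M]
    (I₁ I₂ : Ideal R) [Module.Flat (R ⧸ I₁) ((R ⧸ I₁) ⊗[R] M)] [Module.Flat (R ⧸ I₂) ((R ⧸ I₂) ⊗[R] M)] :
    Module.Flat (R ⧸ (I₁ ⊓ I₂)) ((R ⧸ (I₁ ⊓ I₂)) ⊗[R] M) := by
  let A := R ⧸ (I₁ ⊓ I₂)
  haveI inst : ∀ I : Ideal R, [Module.Flat (R ⧸ I) ((R ⧸ I) ⊗[R] M)] →
      Module.Flat (A ⧸ I.map (algebraMap R A)) ((A ⧸ I.map (algebraMap R A)) ⊗[A] (A ⊗[R] M)) := by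
    intro I _
    letI : Algebra (R ⧸ I) (A ⧸ I.map (algebraMap R A)) :=
      (Ideal.quotientMap (I.map (algebraMap R A)) (algebraMap R A) Ideal.le_comap_map).toAlgebra
    haveI : IsScalarTower R (R ⧸ I) (A ⧸ I.map (algebraMap R A)) := IsScalarTower.of_algebraMap_eq' rfl
    exact Module.Flat.of_linearEquiv ((TensorProduct.AlgebraTensorModule.cancelBaseChange R A _ _ M).trans
      (TensorProduct.AlgebraTensorModule.cancelBaseChange R (R ⧸ I) _ _ M).symm)
  refine flat_core (I₁.map (algebraMap R A)) (I₂.map (algebraMap R A)) ?_ (A ⊗[R] M) (inst I₁) (inst I₂)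
  rw [eq_bot_iff]
  rintro x ⟨h1, h2⟩
  obtain ⟨r, rfl⟩ := Ideal.Quotient.mk_surjective x
  have k : ∀ I : Ideal R, I₁ ⊓ I₂ ≤ I → Ideal.Quotient.mk (I₁ ⊓ I₂) r ∈ I.map (algebraMap R A) → r ∈ I := fun I hI h => by
    have h' : r ∈ (I.map (Ideal.Quotient.mk (I₁ ⊓ I₂))).comap (Ideal.Quotient.mk (I₁ ⊓ I₂)) := h
    rwa [Ideal.comap_map_of_surjective _ Ideal.Quotient.mk_surjective, ← RingHom.ker_eq_comap_bot, Ideal.mk_ker,
      sup_eq_left.2 hI] at h'
  rw [Ideal.mem_bot, Ideal.Quotient.eq_zero_iff_mem]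
  exact ⟨k I₁ inf_le_left h1, k I₂ inf_le_right h2⟩

end Groth.Agent.S6893
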