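import Groth.Statements.S6898
import Mathlib.RingTheory.Nakayama
import Mathlib.RingTheory.Flat.Basic
import Mathlib.LinearAlgebra.TensorProduct.Quotient
import Mathlib.RingTheory.LocalRing.ResidueField.Basic

set_option autoImplicit false
universe u
open TensorProduct
open CAlg

namespace Groth.Agent.S6898

open scoped TensorProduct Pointwise

theorem one_tmul_eq_zero {A : Type u} [CommRing A] {N : Type u} [AddCommGroup N] [Module A N] {I : Ideal A} {n : N} :
    (1 : A ⧸ I) ⊗ₜ[A] n = 0 ↔ n ∈ I • (⊤ : Submodule A N) := by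
  rw [← (TensorProduct.quotTensorEquivQuotSMul N I).map_eq_zero_iff]
  rw [show (1 : A ⧸ I) = Ideal.Quotient.mk I 1 from rfl, TensorProduct.quotTensorEquivQuotSMul_mk_tmul, one_smul,
    Submodule.Quotient.mk_eq_zero]

theorem colon_flat {A : Type u} [CommRing A] [IsLocalRing A] {N : Type u} [AddCommGroup N] [Module A N] [Module.Flat A N]
    (J : Ideal A) (a : A) (ha : a ∉ J) (hma : ∀ r ∈ IsLocalRing.maximalIdeal A, r * a ∈ J) (n : N)
    (hn : a • n ∈ J • (⊤ : Submodule A N)) : n ∈ IsLocalRing.maximalIdeal A • (⊤ : Submodule A N) := by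
  let φ : A ⧸ IsLocalRing.maximalIdeal A →ₗ[A] A ⧸ J :=
    Submodule.mapQ _ _ (LinearMap.mulRight A a) (fun r hr => hma r hr)
  have hφ : Function.Injective φ := by
    rw [← LinearMap.ker_eq_bot, LinearMap.ker_eq_bot']
    intro r hr
    obtain ⟨r, rfl⟩ := Ideal.Quotient.mk_surjective r
    rw [Ideal.Quotient.eq_zero_iff_mem]
    have hr' : r * a ∈ J := (Submodule.Quotient.mk_eq_zero _).1 hr
    by_contra hrm
    obtain ⟨v, hv⟩ := (IsLocalRing.notMem_maximalIdeal.1 hrm).exists_left_inv
    exact ha (by simpa [← mul_assoc, hv] using J.mul_mem_left v hr')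
  rw [← one_tmul_eq_zero]
  apply Module.Flat.rTensor_preserves_injective_linearMap (M := N) φ hφ
  rw [LinearMap.rTensor_tmul, map_zero]
  have h1 : φ 1 = a • (1 : A ⧸ J) := by
    show Submodule.Quotient.mk ((1 : A) * a) = Submodule.Quotient.mk (a • (1 : A))
    rw [one_mul, smul_eq_mul, mul_one]
  rw [h1, TensorProduct.smul_tmul, one_tmul_eq_zero]
  exact hn


/-- Let `(A, 𝔪)` be a local ring and `u : M → N` a linear map between flat `A`-modules whose reduction
`M/𝔪M → N/𝔪N` is injective. If `I` is the content ideal of some `x ∈ M` (the least ideal `I` with `x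
∈ IM`), then `I` is also the least ideal `J` with `u(x) ∈ J·N`. -/
theorem result {A : Type u} [CommRing A] [IsLocalRing A] {M N : Type u}
    [AddCommGroup M] [Module A M] [Module.Flat A M] [AddCommGroup N] [Module A N] [Module.Flat A N] (u : M →ₗ[A] N)
    (hu : Function.Injective (u.baseChange (IsLocalRing.ResidueField A))) (x : M) (I : Ideal A)
    (hx : IsLeast {J : Ideal A | x ∈ J • (⊤ : Submodule A M)} I) :
    IsLeast {J : Ideal A | u x ∈ J • (⊤ : Submodule A N)} I := by
  classical
  obtain ⟨hxI, hleast⟩ := hx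
  refine ⟨?_, ?_⟩
  · refine Submodule.smul_induction_on (p := fun y => u y ∈ I • (⊤ : Submodule A N)) hxI ?_ ?_
    · intro r hr m _
      rw [map_smul]
      exact Submodule.smul_mem_smul hr Submodule.mem_top
    · intro y z hy hz
      rw [map_add]
      exact add_mem hy hz
  intro J (hJ : u x ∈ J • (⊤ : Submodule A N))
  obtain ⟨T, hTI, hxT⟩ : ∃ T : Finset A, (T : Set A) ⊆ I ∧ x ∈ Ideal.span (T : Set A) • (⊤ : Submodule A M) := by
    refine Submodule.smul_induction_on (p := fun y => ∃ T : Finset A, (T : Set A) ⊆ I ∧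
      y ∈ Ideal.span (T : Set A) • (⊤ : Submodule A M)) hxI ?_ ?_
    · intro r hr m _
      exact ⟨{r}, by simpa using hr, Submodule.smul_mem_smul (Ideal.subset_span (by simp)) Submodule.mem_top⟩
    · rintro y z ⟨S, hS, hy⟩ ⟨T, hT, hz⟩
      refine ⟨S ∪ T, by simp [hS, hT], add_mem ?_ ?_⟩
      · exact Submodule.smul_mono_left (Ideal.span_mono (by simp)) hy
      · exact Submodule.smul_mono_left (Ideal.span_mono (by simp)) hz
  have hIeq : I = Ideal.span (T : Set A) := le_antisymm (hleast hxT) (Ideal.span_le.2 hTI)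
  by_contra hIJ
  let I' : Ideal A := J ⊔ IsLocalRing.maximalIdeal A • I
  have hI' : ¬ I ≤ I' := fun h => hIJ (Submodule.le_of_le_smul_of_le_jacobson_bot
    (by rw [hIeq]; exact ⟨T, rfl⟩) (IsLocalRing.maximalIdeal_le_jacobson _) h)
  let P := T.powerset.filter fun t : Finset A => I ≤ I' ⊔ Ideal.span (t : Set A)
  obtain ⟨t, ht, htmin⟩ := P.exists_minimal ⟨T, by simp [P, hIeq]⟩
  simp only [P, Finset.mem_filter, Finset.mem_powerset] at ht htmin
  obtain ⟨a, hat⟩ : t.Nonempty := by
    rcases t.eq_empty_or_nonempty with rfl | h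
    · exact absurd (by simpa using ht.2) hI'
    · exact h
  let J' : Ideal A := I' ⊔ Ideal.span ((t.erase a : Finset A) : Set A)
  have hcov : I ≤ J' ⊔ Ideal.span {a} := by
    refine ht.2.trans (sup_le (le_sup_of_le_left le_sup_left) (Ideal.span_le.2 fun r hr => ?_))
    rcases eq_or_ne r a with rfl | hne
    · exact Ideal.mem_sup_right (Ideal.subset_span rfl)
    · exact Ideal.mem_sup_left (Ideal.mem_sup_right (Ideal.subset_span (Finset.mem_coe.2 (Finset.mem_erase.2 ⟨hne, hr⟩))))
  have haJ' : a ∉ J' := fun h => by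
    have hle : I ≤ J' := hcov.trans (sup_le le_rfl (by rwa [Ideal.span_singleton_le_iff_mem]))
    have := htmin ⟨(Finset.erase_subset a t).trans ht.1, hle⟩ (Finset.erase_subset a t) hat
    exact Finset.notMem_erase a t this
  have haI : a ∈ I := hTI (Finset.mem_coe.2 (ht.1 hat))
  have hma : ∀ r ∈ IsLocalRing.maximalIdeal A, r * a ∈ J' := fun r hr =>
    Ideal.mem_sup_left (Ideal.mem_sup_right (Submodule.smul_mem_smul hr haI))
  obtain ⟨y, hy, z, hz, hyz⟩ : ∃ y ∈ J' • (⊤ : Submodule A M),
      ∃ z ∈ Ideal.span {a} • (⊤ : Submodule A M), y + z = x := by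
    rw [← Submodule.mem_sup, ← Submodule.sup_smul]
    exact Submodule.smul_mono_left hcov hxI
  rw [Submodule.ideal_span_singleton_smul] at hz
  obtain ⟨m, -, rfl⟩ := Submodule.mem_smul_pointwise_iff_exists _ _ _ |>.1 hz
  have hum : a • u m ∈ J' • (⊤ : Submodule A N) := by
    have h1 : u x ∈ J' • (⊤ : Submodule A N) :=
      Submodule.smul_mono_left (le_sup_of_le_left le_sup_left) hJ
    have h2 : u y ∈ J' • (⊤ : Submodule A N) := by
      refine Submodule.smul_induction_on (p := fun y => u y ∈ J' • (⊤ : Submodule A N)) hy ?_ ?_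
      · intro r hr m _
        rw [map_smul]
        exact Submodule.smul_mem_smul hr Submodule.mem_top
      · intro y z hy hz
        rw [map_add]
        exact add_mem hy hz
    have : u x = u y + a • u m := by rw [← hyz, map_add, map_smul]
    rw [this] at h1
    simpa using sub_mem h1 h2
  have hm : u m ∈ IsLocalRing.maximalIdeal A • (⊤ : Submodule A N) := colon_flat J' a haJ' hma (u m) hum
  have hmM : m ∈ IsLocalRing.maximalIdeal A • (⊤ : Submodule A M) := by
    rw [← one_tmul_eq_zero] at hm ⊢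
    exact hu (a₁ := (1 : IsLocalRing.ResidueField A) ⊗ₜ[A] m) (a₂ := 0) (by
      rw [LinearMap.baseChange_tmul, map_zero]; exact hm)
  have ham : a • m ∈ J' • (⊤ : Submodule A M) := by
    refine Submodule.smul_induction_on (p := fun y => a • y ∈ J' • (⊤ : Submodule A M)) hmM ?_ ?_
    · intro r hr w _
      rw [smul_smul, mul_comm]
      exact Submodule.smul_mem_smul (hma r hr) Submodule.mem_top
    · intro y z hy hz
      rw [smul_add]
      exact add_mem hy hz
  exact haJ' (hleast (show x ∈ J' • (⊤ : Submodule A M) by rw [← hyz]; exact add_mem hy ham) haI)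

end Groth.Agent.S6898
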