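import Groth.Statements.S6899
import Groth.Agent.EtAlg.Milnor.Glue

set_option autoImplicit false
universe u
open TensorProduct
open EtAlg

namespace Groth.Agent.S6899

/-- Let `B' = B ×_A A'` be a fibre square of rings with `A' → A` surjective, and let `(N₁, M₁', φ₁) →
(N₂, M₂', φ₂)` be a morphism of glueing data (a `B`-linear `u : N₁ → N₂` and an `A'`-linear `v : M₁'
→ M₂'` compatible with the `φ_i`) with `u` and `v` surjective. Then the induced map of glued modules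
`N₁ ×_{φ₁} M₁' → N₂ ×_{φ₂} M₂'` is surjective. -/
theorem result (B' B A' A : Type u) [CommRing B'] [CommRing B] [CommRing A'] [CommRing A]
    [Algebra B' B] [Algebra B' A'] [Algebra B A] [Algebra A' A] [Algebra B' A] [IsScalarTower B' B A] [IsScalarTower B' A' A]
    (hsq : EtMil.IsFibreSquare B' B A' A)
    {N₁ N₂ M₁' M₂' : Type u} [AddCommGroup N₁] [Module B N₁] [Module B' N₁] [IsScalarTower B' B N₁]
    [AddCommGroup N₂] [Module B N₂] [Module B' N₂] [IsScalarTower B' B N₂]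
    [AddCommGroup M₁'] [Module A' M₁'] [Module B' M₁'] [IsScalarTower B' A' M₁']
    [AddCommGroup M₂'] [Module A' M₂'] [Module B' M₂'] [IsScalarTower B' A' M₂']
    (φ₁ : A ⊗[B] N₁ ≃ₗ[A] A ⊗[A'] M₁') (φ₂ : A ⊗[B] N₂ ≃ₗ[A] A ⊗[A'] M₂') (u : N₁ →ₗ[B] N₂) (v : M₁' →ₗ[A'] M₂')
    (hc : (v.baseChange A).comp φ₁.toLinearMap = φ₂.toLinearMap.comp (u.baseChange A))
    (hu : Function.Surjective u) (hv : Function.Surjective v) :
    ∀ y : N₂ × M₂', y ∈ EtMil.glue B' φ₂ → ∃ x : N₁ × M₁', x ∈ EtMil.glue B' φ₁ ∧ u x.1 = y.1 ∧ v x.2 = y.2 := by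
  intro y hy
  obtain ⟨n, hn⟩ := hu y.1
  obtain ⟨m, hm⟩ := hv y.2
  obtain ⟨d, hd⟩ := EtAlg.Milnor.Basic.one_tmul_surjective hsq.1 (φ₁ ((1 : A) ⊗ₜ[B] n) - (1 : A) ⊗ₜ[A'] m)
  have hvd : (1 : A) ⊗ₜ[A'] v d = 0 := by
    have h := congrArg (v.baseChange A) hd
    rw [map_sub, LinearMap.baseChange_tmul, LinearMap.baseChange_tmul, hm] at h
    have hc' := LinearMap.congr_fun hc ((1 : A) ⊗ₜ[B] n)
    simp only [LinearMap.comp_apply, LinearEquiv.coe_coe, LinearMap.baseChange_tmul, hn] at hc'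
    rw [h, hc', show φ₂ ((1 : A) ⊗ₜ[B] y.1) = (1 : A) ⊗ₜ[A'] y.2 from hy, sub_self]
  have hvd' := (EtAlg.Milnor.Basic.one_tmul_eq_zero_iff hsq.1).mp hvd
  rw [← LinearMap.range_eq_top.mpr hv, ← Submodule.map_top, ← Submodule.map_smul''] at hvd'
  obtain ⟨d', hd', hvd''⟩ := hvd'
  refine ⟨(n, m + (d - d')), ?_, hn, ?_⟩
  · show φ₁ ((1 : A) ⊗ₜ[B] n) = (1 : A) ⊗ₜ[A'] (m + (d - d'))
    rw [tmul_add, tmul_sub, (EtAlg.Milnor.Basic.one_tmul_eq_zero_iff hsq.1).mpr hd', sub_zero, hd]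
    abel
  · show v (m + (d - d')) = y.2
    rw [map_add, map_sub, hvd'', sub_self, add_zero, hm]

end Groth.Agent.S6899
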