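import Groth.Statements.S6900
import Groth.Agent.EtAlg.Milnor.Alg
import Mathlib.RingTheory.IsTensorProduct
import Mathlib.RingTheory.RingHom.Etale

set_option autoImplicit false
universe u
open TensorProduct
open EtAlg

namespace Groth.Agent.S6900

/-- Let `B' = B ×_A A'` be a fibre square of rings with `A' → A` surjective. Let `D` be a `B`-algebra
and `C'` an `A'`-algebra with a common base change `C = D ⊗_B A = C' ⊗_{A'} A`, and let `D' = D ×_C
C'` be the fibre product ring with its `B'`-algebra structure. Then `B' → D'` is of finite type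
(resp. flat, resp. flat and of finite presentation, resp. smooth, resp. étale) if and only if `B →
D` and `A' → C'` both are. -/
theorem result (B' B A' A : Type u) [CommRing B'] [CommRing B] [CommRing A'] [CommRing A]
    [Algebra B' B] [Algebra B' A'] [Algebra B A] [Algebra A' A] [Algebra B' A] [IsScalarTower B' B A] [IsScalarTower B' A' A]
    (hsq : EtMil.IsFibreSquare B' B A' A)
    (D' D C' C : Type u) [CommRing D'] [CommRing D] [CommRing C'] [CommRing C]
    [Algebra D' D] [Algebra D' C'] [Algebra D C] [Algebra C' C] [Algebra D' C] [IsScalarTower D' D C] [IsScalarTower D' C' C]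
    (hsq' : EtMil.IsFibreSquare D' D C' C)
    [Algebra B' D'] [Algebra B D] [Algebra A' C'] [Algebra A C]
    [Algebra B' D] [IsScalarTower B' B D] [IsScalarTower B' D' D]
    [Algebra B' C'] [IsScalarTower B' A' C'] [IsScalarTower B' D' C']
    [Algebra B C] [IsScalarTower B A C] [IsScalarTower B D C]
    [Algebra A' C] [IsScalarTower A' A C] [IsScalarTower A' C' C]
    [Algebra.IsPushout B D A C] [Algebra.IsPushout A' C' A C] :
    (Algebra.FiniteType B' D' ↔ Algebra.FiniteType B D ∧ Algebra.FiniteType A' C') ∧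
    (Module.Flat B' D' ↔ Module.Flat B D ∧ Module.Flat A' C') ∧
    (Module.Flat B' D' ∧ Algebra.FinitePresentation B' D' ↔
      (Module.Flat B D ∧ Algebra.FinitePresentation B D) ∧ (Module.Flat A' C' ∧ Algebra.FinitePresentation A' C')) ∧
    (Algebra.Smooth B' D' ↔ Algebra.Smooth B D ∧ Algebra.Smooth A' C') ∧
    (Algebra.Etale B' D' ↔ Algebra.Etale B D ∧ Algebra.Etale A' C') := by
  have hBA : IsBaseChange A (IsScalarTower.toAlgHom B D C).toLinearMap :=
    (Algebra.IsPushout.symm (R := B) (S := D) (R' := A) (S' := C) inferInstance).out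
  have hA'A : IsBaseChange A (IsScalarTower.toAlgHom A' C' C).toLinearMap :=
    (Algebra.IsPushout.symm (R := A') (S := C') (R' := A) (S' := C) inferInstance).out
  let φ : A ⊗[B] D ≃ₗ[A] A ⊗[A'] C' := hBA.equiv.trans hA'A.equiv.symm
  have hφ : ∀ (d : D) (c : C'), φ ((1 : A) ⊗ₜ[B] d) = (1 : A) ⊗ₜ[A'] c ↔ algebraMap D C d = algebraMap C' C c := fun d c => by
    show hA'A.equiv.symm (hBA.equiv ((1 : A) ⊗ₜ[B] d)) = _ ↔ _
    rw [LinearEquiv.symm_apply_eq, IsBaseChange.equiv_tmul, IsBaseChange.equiv_tmul, one_smul, one_smul]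
    rfl
  let g₀ : D' →ₗ[B'] EtMil.glue B' φ := LinearMap.codRestrict _
    ((IsScalarTower.toAlgHom B' D' D).toLinearMap.prod (IsScalarTower.toAlgHom B' D' C').toLinearMap) fun x => by
      show φ ((1 : A) ⊗ₜ[B] algebraMap D' D x) = (1 : A) ⊗ₜ[A'] algebraMap D' C' x
      rw [hφ, ← IsScalarTower.algebraMap_apply, ← IsScalarTower.algebraMap_apply]
  have hg₀ : Function.Bijective g₀ := by
    refine ⟨fun x y h => EtAlg.Milnor.Basic.ext' hsq' (congrArg (fun z => z.1.1) h) (congrArg (fun z => z.1.2) h), ?_⟩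
    rintro ⟨⟨d, c⟩, h⟩
    obtain ⟨x, h1, h2⟩ := EtAlg.Milnor.Basic.exists_pair hsq' ((hφ d c).mp h)
    exact ⟨x, Subtype.ext (Prod.ext h1 h2)⟩
  let g := LinearEquiv.ofBijective g₀ hg₀
  let ψ₁ : B ⊗[B'] D' →ₐ[B] D :=
    Algebra.TensorProduct.lift (Algebra.ofId B D) (IsScalarTower.toAlgHom B' D' D) fun _ _ => Commute.all _ _
  have hψ₁ : Function.Bijective ψ₁ := by
    have e : ∀ z, ψ₁ z = LinearMap.liftBaseChange B (EtMil.glueFst B' φ) (g.toLinearMap.baseChange B z) := fun z => by
      induction z using TensorProduct.induction_on with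
      | zero => simp
      | add a b ha hb => simp only [map_add, ha, hb]
      | tmul b x =>
        rw [LinearMap.baseChange_tmul, LinearMap.liftBaseChange_tmul, Algebra.TensorProduct.lift_tmul, Algebra.smul_def]
        rfl
    rw [show (ψ₁ : B ⊗[B'] D' → D) = LinearMap.liftBaseChange B (EtMil.glueFst B' φ) ∘ g.baseChange B' B D' _ from funext e]
    exact ⟨(EtAlg.Milnor.Glue.injective_fst φ hsq).comp (g.baseChange B' B D' _).injective,
      (EtAlg.Milnor.Glue.surjective_fst φ hsq).comp (g.baseChange B' B D' _).surjective⟩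
  let ψ₂ : A' ⊗[B'] D' →ₐ[A'] C' :=
    Algebra.TensorProduct.lift (Algebra.ofId A' C') (IsScalarTower.toAlgHom B' D' C') fun _ _ => Commute.all _ _
  have hψ₂ : Function.Bijective ψ₂ := by
    have e : ∀ z, ψ₂ z = LinearMap.liftBaseChange A' (EtMil.glueSnd B' φ) (g.toLinearMap.baseChange A' z) := fun z => by
      induction z using TensorProduct.induction_on with
      | zero => simp
      | add a b ha hb => simp only [map_add, ha, hb]
      | tmul b x =>
        rw [LinearMap.baseChange_tmul, LinearMap.liftBaseChange_tmul, Algebra.TensorProduct.lift_tmul, Algebra.smul_def]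
        rfl
    rw [show (ψ₂ : A' ⊗[B'] D' → C') = LinearMap.liftBaseChange A' (EtMil.glueSnd B' φ) ∘ g.baseChange B' A' D' _ from funext e]
    exact ⟨(EtAlg.Milnor.Glue.injective_snd φ hsq).comp (g.baseChange B' A' D' _).injective,
      (EtAlg.Milnor.Glue.surjective_snd φ hsq).comp (g.baseChange B' A' D' _).surjective⟩
  let e₁ : B ⊗[B'] D' ≃ₐ[B] D := AlgEquiv.ofBijective ψ₁ hψ₁
  let e₂ : A' ⊗[B'] D' ≃ₐ[A'] C' := AlgEquiv.ofBijective ψ₂ hψ₂
  have hflat : Module.Flat B' D' ↔ Module.Flat B D ∧ Module.Flat A' C' := by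
    refine ⟨fun h => ⟨Module.Flat.of_linearEquiv e₁.toLinearEquiv.symm, Module.Flat.of_linearEquiv e₂.toLinearEquiv.symm⟩,
      fun ⟨h1, h2⟩ => ?_⟩
    have := Module.Flat.of_linearEquiv e₁.toLinearEquiv
    have := Module.Flat.of_linearEquiv e₂.toLinearEquiv
    exact EtAlg.Milnor.Basic.flat_of_pair hsq
  refine ⟨⟨fun h => ⟨Algebra.FiniteType.equiv inferInstance e₁, Algebra.FiniteType.equiv inferInstance e₂⟩, fun ⟨h1, h2⟩ => ?_⟩,
    hflat, ⟨fun ⟨h, h'⟩ => ⟨⟨(hflat.mp h).1, Algebra.FinitePresentation.equiv e₁⟩, (hflat.mp h).2,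
      Algebra.FinitePresentation.equiv e₂⟩, fun ⟨⟨h1, h1'⟩, h2, h2'⟩ => ⟨hflat.mpr ⟨h1, h2⟩, ?_⟩⟩,
    ⟨fun h => ⟨Algebra.Smooth.of_equiv e₁, Algebra.Smooth.of_equiv e₂⟩, fun ⟨h1, h2⟩ => ?_⟩,
    fun h => ⟨Algebra.Etale.of_equiv e₁, Algebra.Etale.of_equiv e₂⟩, fun ⟨h1, h2⟩ => ?_⟩
  · have := Algebra.FiniteType.equiv h1 e₁.symm
    have := Algebra.FiniteType.equiv h2 e₂.symm
    exact EtAlg.Milnor.Alg.finiteType_of_pair hsq
  · have := hflat.mpr ⟨h1, h2⟩
    have := Algebra.FinitePresentation.equiv e₁.symm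
    have := Algebra.FinitePresentation.equiv e₂.symm
    exact EtAlg.Milnor.Alg.finitePresentation_of_pair' hsq
  · have := Algebra.Smooth.of_equiv e₁.symm
    have := Algebra.Smooth.of_equiv e₂.symm
    exact EtAlg.Milnor.Alg.smooth_of_pair hsq
  · have := Algebra.Etale.of_equiv e₁.symm
    have := Algebra.Etale.of_equiv e₂.symm
    have := EtAlg.Milnor.Alg.smooth_of_pair (L := D') hsq
    have := EtAlg.Milnor.Alg.unramified_of_pair (L := D') hsq
    exact Algebra.Etale.of_formallyUnramified_of_flat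

end Groth.Agent.S6900
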