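import Groth.Statements.S6908
import Groth.Agent.KFlatLib.DRing

set_option autoImplicit false
universe u
open CategoryTheory CategoryTheory.Limits MonoidalCategory
open DRing

namespace Groth.Agent.S6908

/-- For a morphism `a : K• → L•` of complexes of `R`-modules with `K•` K-flat, there are a K-flat
complex `N•`, maps `b : K• → N•` and `c : N• → L•` with `c` a quasi-isomorphism and `a` homotopic to
`c ∘ b`; if the terms of `K•` are flat, `N•` may be chosen with flat terms as well. -/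
theorem result (R : Type u) [CommRing R] (K L : DRing.Cx R) (a : K ⟶ L)
    (hK : (∀ L : DRing.Cx R, (∀ i : ℤ, IsZero (L.homology i)) → ∀ i : ℤ, IsZero ((L ⊗ K).homology i))) :
    (∃ (N : DRing.Cx R) (b : K ⟶ N) (c : N ⟶ L), (∀ L : DRing.Cx R, (∀ i : ℤ, IsZero (L.homology i)) → ∀ i : ℤ, IsZero ((L ⊗ N).homology i)) ∧
      QuasiIso c ∧ Nonempty (Homotopy a (b ≫ c))) ∧
    (DRing.TermwiseFlat K → ∃ (N : DRing.Cx R) (b : K ⟶ N) (c : N ⟶ L), (∀ L : DRing.Cx R, (∀ i : ℤ, IsZero (L.homology i)) → ∀ i : ℤ, IsZero ((L ⊗ N).homology i)) ∧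
      DRing.TermwiseFlat N ∧ QuasiIso c ∧ Nonempty (Homotopy a (b ≫ c))) := by
  obtain ⟨N, b, c, h₁, h₂, h₃, h₄⟩ := Groth.Agent.KFlatLib.exists_factor (Groth.Agent.KFlatLib.TM R) (Groth.Agent.KFlatLib.enough_tflat_module R) a ((Groth.Agent.KFlatLib.isKFlat_module_iff K).1 hK)
  refine ⟨⟨N, b, c, h₁, h₂, ⟨Homotopy.ofEq h₃.symm⟩⟩, fun hf => ⟨N, b, c, h₁, fun n => ?_, h₂, ⟨Homotopy.ofEq h₃.symm⟩⟩⟩
  exact Groth.Agent.KFlatLib.flat_of_tflat (h₄ (fun m => Groth.Agent.KFlatLib.tflat_of_flat (hf m)) n)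

end Groth.Agent.S6908
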