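import Groth.Statements.S6909
import Mathlib.RingTheory.Filtration
import Mathlib.RingTheory.Noetherian.Basic
import Mathlib.Algebra.Exact.Basic

set_option autoImplicit false
universe u
open CAlg

namespace Groth.Agent.S6909

/-- Let `A` be a Noetherian ring, `I ⊆ A` an ideal inside the Jacobson radical, and `L → M → N` two
complexes `(f, g)` and `(f', g')` of finite `A`-modules with `f' ≡ f` modulo `I^{c+1}M` and `g' ≡ g`
modulo `I^{c+1}N`. If `c` works in the Artin–Rees lemma for `f` and for `g` (that is `f(L) ∩ IⁿM ⊆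
f(I^{n-c}L)` for `n ≥ c`, and likewise for `g`) and `(f, g)` is exact, then `c` works for `g'` and
`(f', g')` is exact. -/
theorem result {A : Type u} [CommRing A] [IsNoetherianRing A] (I : Ideal A)
    (hI : I ≤ Ideal.jacobson (⊥ : Ideal A)) {L M N : Type u} [AddCommGroup L] [Module A L] [Module.Finite A L]
    [AddCommGroup M] [Module A M] [Module.Finite A M] [AddCommGroup N] [Module A N] [Module.Finite A N]
    (f f' : L →ₗ[A] M) (g g' : M →ₗ[A] N) (c : ℕ) (hgf : g.comp f = 0) (hgf' : g'.comp f' = 0)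
    (hf : (∀ n : ℕ, c ≤ n → LinearMap.range f ⊓ (I ^ n • (⊤ : Submodule A M)) ≤ Submodule.map f (I ^ (n - c) • (⊤ : Submodule A L))))
    (hg : (∀ n : ℕ, c ≤ n → LinearMap.range g ⊓ (I ^ n • (⊤ : Submodule A N)) ≤ Submodule.map g (I ^ (n - c) • (⊤ : Submodule A M))))
    (hex : Function.Exact f g)
    (hff' : ∀ x : L, f x - f' x ∈ I ^ (c + 1) • (⊤ : Submodule A M))
    (hgg' : ∀ y : M, g y - g' y ∈ I ^ (c + 1) • (⊤ : Submodule A N)) :
    (∀ n : ℕ, c ≤ n → LinearMap.range g' ⊓ (I ^ n • (⊤ : Submodule A N)) ≤ Submodule.map g' (I ^ (n - c) • (⊤ : Submodule A M))) ∧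
    Function.Exact f' g' := by
  have hpert : ∀ {P Q : Type u} [AddCommGroup P] [Module A P] [AddCommGroup Q] [Module A Q]
      (δ : P →ₗ[A] Q) (c' j : ℕ), (∀ x, δ x ∈ (I ^ c' • ⊤ : Submodule A Q)) →
      ∀ x ∈ (I ^ j • ⊤ : Submodule A P), δ x ∈ (I ^ (j + c') • ⊤ : Submodule A Q) := by
    intro P Q _ _ _ _ δ c' j hδ x hx
    refine Submodule.smul_induction_on hx (fun a ha y _ => ?_) (fun a b ha hb => ?_)
    · rw [map_smul, pow_add, Submodule.mul_smul]
      exact Submodule.smul_mem_smul ha (hδ y)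
    · rw [map_add]; exact add_mem ha hb
  have key : ∀ n j, ∀ y : M, g' y ∈ (I ^ n • ⊤ : Submodule A N) → j + c ≤ n →
      ∃ z ∈ (I ^ j • ⊤ : Submodule A M), ∃ x : L, z = y - f' x := by
    intro n j
    induction j with
    | zero => exact fun y _ _ => ⟨y, by simp, 0, by simp⟩
    | succ j ih =>
      intro y hy hjn
      obtain ⟨z, hz, x₀, rfl⟩ := ih y hy (by omega)
      have hg'z : g' (y - f' x₀) = g' y := by
        rw [map_sub, ← LinearMap.comp_apply g' f', hgf', LinearMap.zero_apply, sub_zero]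
      have hgz : g (y - f' x₀) ∈ (I ^ (j + (c + 1)) • ⊤ : Submodule A N) := by
        have h1 := hpert (g - g') (c + 1) j (fun v => hgg' v) _ hz
        rw [LinearMap.sub_apply, hg'z] at h1
        have h2 : g' y ∈ (I ^ (j + (c + 1)) • ⊤ : Submodule A N) :=
          Submodule.smul_mono_left (Ideal.pow_le_pow_right (by omega)) hy
        simpa using add_mem h1 h2
      obtain ⟨w, hw, hwe⟩ := hg _ (by omega) (Submodule.mem_inf.2 ⟨⟨_, rfl⟩, hgz⟩)
      rw [show j + (c + 1) - c = j + 1 by omega] at hw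
      obtain ⟨x, hx⟩ := (hex (y - f' x₀ - w)).1 (by rw [map_sub, hwe, sub_self])
      have hfx : f x ∈ (I ^ j • ⊤ : Submodule A M) := by
        rw [hx]
        exact sub_mem hz (Submodule.smul_mono_left (Ideal.pow_le_pow_right (by omega)) hw)
      obtain ⟨x', hx', hxe⟩ : ∃ x' ∈ (I ^ (j - c) • ⊤ : Submodule A L), f x' = f x := by
        by_cases hjc : c ≤ j
        · exact hf j hjc (Submodule.mem_inf.2 ⟨⟨x, rfl⟩, hfx⟩)
        · exact ⟨x, by simp [Nat.sub_eq_zero_of_le (le_of_not_ge hjc)], rfl⟩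
      refine ⟨y - f' (x₀ + x'), ?_, x₀ + x', rfl⟩
      have h3 : (f - f') x' ∈ (I ^ (j + 1) • ⊤ : Submodule A M) :=
        Submodule.smul_mono_left (Ideal.pow_le_pow_right (by omega)) (hpert (f - f') (c + 1) _ (fun v => hff' v) _ hx')
      have h4 : y - f' (x₀ + x') = w + (f - f') x' := by
        rw [LinearMap.sub_apply, map_add, hxe, hx]; abel
      rw [h4]
      exact add_mem hw h3
  refine ⟨fun n hn v hv => ?_, LinearMap.exact_iff.2 (le_antisymm ?_ ?_)⟩
  · obtain ⟨⟨y, rfl⟩, hy⟩ := hv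
    obtain ⟨z, hz, x, rfl⟩ := key n (n - c) y hy (by omega)
    refine ⟨_, hz, ?_⟩
    rw [map_sub, ← LinearMap.comp_apply g' f', hgf', LinearMap.zero_apply, sub_zero]
  · intro y hy
    rw [← Submodule.Quotient.mk_eq_zero, ← Submodule.mem_bot A,
      ← Ideal.iInf_pow_smul_eq_bot_of_le_jacobson (M := M ⧸ LinearMap.range f') I hI, Submodule.mem_iInf]
    intro j
    obtain ⟨z, hz, x, rfl⟩ := key (j + c) j y (by rw [LinearMap.mem_ker.1 hy]; exact zero_mem _) le_rfl
    have h := Submodule.mem_map_of_mem (f := (LinearMap.range f').mkQ) hz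
    rw [Submodule.map_smul'', Submodule.map_top, Submodule.range_mkQ, map_sub,
      Submodule.mkQ_apply, Submodule.mkQ_apply, (Submodule.Quotient.mk_eq_zero (LinearMap.range f')).2 (LinearMap.mem_range_self f' x), sub_zero] at h
    exact h
  · rintro _ ⟨x, rfl⟩
    exact LinearMap.congr_fun hgf' x

end Groth.Agent.S6909
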