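import Groth.Statements.S6917
import Groth.Agent.EtAlg.Milnor.Basic
import Mathlib.RingTheory.Spectrum.Prime.Topology
import Mathlib.CategoryTheory.Limits.Shapes.Pullback.IsPullback.Basic
import Mathlib.Topology.Category.TopCat.Basic

set_option autoImplicit false
universe u
open CategoryTheory
open EtAlg

namespace Groth.Agent.S6917

/-- Let `B' = B ×_A A'` be a fibre square of rings with `A' → A` surjective. Then `Spec(B') = Spec(B)
⨿_{Spec(A)} Spec(A')`: the square of prime spectra is a pushout of topological spaces. -/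
theorem result (B' B A' A : Type u) [CommRing B'] [CommRing B] [CommRing A'] [CommRing A]
    [Algebra B' B] [Algebra B' A'] [Algebra B A] [Algebra A' A] [Algebra B' A] [IsScalarTower B' B A] [IsScalarTower B' A' A]
    (hsq : EtMil.IsFibreSquare B' B A' A) :
    IsPushout (TopCat.ofHom (ContinuousMap.mk (PrimeSpectrum.comap (algebraMap B A)) (PrimeSpectrum.continuous_comap _))) (TopCat.ofHom (ContinuousMap.mk (PrimeSpectrum.comap (algebraMap A' A)) (PrimeSpectrum.continuous_comap _)))
      (TopCat.ofHom (ContinuousMap.mk (PrimeSpectrum.comap (algebraMap B' B)) (PrimeSpectrum.continuous_comap _)))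
      (TopCat.ofHom (ContinuousMap.mk (PrimeSpectrum.comap (algebraMap B' A')) (PrimeSpectrum.continuous_comap _))) := by
  classical
  let β := algebraMap B' B
  let α := algebraMap B' A'
  have hβs : Function.Surjective β := EtAlg.Milnor.Basic.surjective hsq
  have hβi : Function.Injective (PrimeSpectrum.comap β) := PrimeSpectrum.comap_injective_of_surjective β hβs
  have hαβ : (algebraMap A' A).comp α = (algebraMap B A).comp β :=
    (IsScalarTower.algebraMap_eq B' A' A).symm.trans (IsScalarTower.algebraMap_eq B' B A)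
  -- covering
  have hcov : ∀ p : PrimeSpectrum B', (∃ q, PrimeSpectrum.comap β q = p) ∨ ∃ P, PrimeSpectrum.comap α P = p := by
    intro p
    by_cases hp : RingHom.ker β ≤ p.asIdeal
    · left
      have hmem : p ∈ Set.range (PrimeSpectrum.comap β) := by
        rw [range_comap_of_surjective B β hβs]; exact hp
      exact hmem
    · right
      obtain ⟨j, hj, hjp⟩ := SetLike.not_le_iff_exists.mp hp
      choose k hk hk' using fun a' : A' => EtAlg.Milnor.Basic.exists_mul hsq (RingHom.mem_ker.mp hj) a'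
      have hadd : ∀ a b, k (a + b) = k a + k b := fun a b => EtAlg.Milnor.Basic.ext' hsq
        (by rw [map_add, hk, hk, hk, add_zero]) (by rw [map_add, hk', hk', hk', add_mul])
      have hmul : ∀ a b, k (a * b) * j = k a * k b := fun a b => EtAlg.Milnor.Basic.ext' hsq
        (by rw [map_mul, map_mul, hk, hk, zero_mul, zero_mul]) (by rw [map_mul, map_mul, hk', hk', hk']; ring)
      have hα : ∀ x, k (α x) = x * j := fun x => EtAlg.Milnor.Basic.ext' hsq
        (by rw [map_mul, hk, RingHom.mem_ker.mp hj, mul_zero]) (by rw [map_mul, hk'])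
      let P : Ideal A' :=
        { carrier := {a' | k a' ∈ p.asIdeal}
          zero_mem' := by
            show k 0 ∈ p.asIdeal
            rw [← map_zero α, hα, zero_mul]; exact zero_mem _
          add_mem' := fun {a b} ha hb => by show k (a + b) ∈ p.asIdeal; rw [hadd]; exact add_mem ha hb
          smul_mem' := fun c a ha => by
            show k (c * a) ∈ p.asIdeal
            refine (p.isPrime.mem_or_mem ?_).resolve_right hjp
            rw [hmul]; exact Ideal.mul_mem_left _ _ ha }
      have hP : P.IsPrime := by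
        refine ⟨fun h => hjp ?_, fun {a b} hab => p.isPrime.mem_or_mem ?_⟩
        · have h1 : k 1 ∈ p.asIdeal := (Ideal.eq_top_iff_one P).mp h
          rwa [← map_one α, hα, one_mul] at h1
        · rw [← hmul]; exact Ideal.mul_mem_right _ _ hab
      refine ⟨⟨P, hP⟩, PrimeSpectrum.ext (Ideal.ext fun x => ?_)⟩
      show k (α x) ∈ p.asIdeal ↔ x ∈ p.asIdeal
      rw [hα]
      exact ⟨fun h => (p.isPrime.mem_or_mem h).resolve_right hjp, fun h => Ideal.mul_mem_right _ _ h⟩
  -- points of `A'` over the closed part come from `A`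
  have hA : ∀ P : PrimeSpectrum A', RingHom.ker (algebraMap A' A) ≤ P.asIdeal →
      ∃ r, PrimeSpectrum.comap (algebraMap A' A) r = P := fun P hP => by
    have hmem : P ∈ Set.range (PrimeSpectrum.comap (algebraMap A' A)) := by
      rw [range_comap_of_surjective A (algebraMap A' A) hsq.1]; exact hP
    exact hmem
  have hker : ∀ (q : PrimeSpectrum B) (P : PrimeSpectrum A'), PrimeSpectrum.comap β q = PrimeSpectrum.comap α P →
      RingHom.ker (algebraMap A' A) ≤ P.asIdeal := fun q P h i hi => by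
    obtain ⟨j, hj, rfl⟩ := EtAlg.Milnor.Basic.exists_ker hsq (RingHom.mem_ker.mp hi)
    have h1 : j ∈ (PrimeSpectrum.comap β q).asIdeal := by
      show β j ∈ q.asIdeal
      rw [hj]; exact zero_mem _
    rw [h] at h1; exact h1
  have hqP : ∀ (q : PrimeSpectrum B) (P : PrimeSpectrum A'), PrimeSpectrum.comap β q = PrimeSpectrum.comap α P →
      ∃ r, PrimeSpectrum.comap (algebraMap B A) r = q ∧ PrimeSpectrum.comap (algebraMap A' A) r = P := fun q P h => by
    obtain ⟨r, hr⟩ := hA P (hker q P h)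
    refine ⟨r, hβi ?_, hr⟩
    rw [h, ← hr, ← PrimeSpectrum.comap_comp_apply, ← PrimeSpectrum.comap_comp_apply, hαβ]
  have hPP : ∀ P P' : PrimeSpectrum A', PrimeSpectrum.comap α P = PrimeSpectrum.comap α P' →
      P = P' ∨ ∃ q, PrimeSpectrum.comap β q = PrimeSpectrum.comap α P := fun P P' h => by
    by_cases hP : RingHom.ker (algebraMap A' A) ≤ P.asIdeal
    · right
      obtain ⟨r, hr⟩ := hA P hP
      refine ⟨PrimeSpectrum.comap (algebraMap B A) r, ?_⟩
      rw [← hr, ← PrimeSpectrum.comap_comp_apply, ← PrimeSpectrum.comap_comp_apply, hαβ]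
    · left
      obtain ⟨i, hi, hiP⟩ := SetLike.not_le_iff_exists.mp hP
      obtain ⟨j, hj, rfl⟩ := EtAlg.Milnor.Basic.exists_ker hsq (RingHom.mem_ker.mp hi)
      have hiP' : α j ∉ P'.asIdeal := fun h' => hiP (show j ∈ (PrimeSpectrum.comap α P).asIdeal by rw [h]; exact h')
      refine PrimeSpectrum.ext (Ideal.ext fun a' => ?_)
      obtain ⟨k, -, hk⟩ := EtAlg.Milnor.Basic.exists_mul hsq hj a'
      have h1 : α k ∈ P.asIdeal ↔ α k ∈ P'.asIdeal := by
        show k ∈ (PrimeSpectrum.comap α P).asIdeal ↔ k ∈ (PrimeSpectrum.comap α P').asIdeal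
        rw [h]
      rw [show α k = a' * α j from hk] at h1
      exact ⟨fun ha => (P'.isPrime.mem_or_mem (h1.mp (Ideal.mul_mem_right _ _ ha))).resolve_right hiP',
        fun ha => (P.isPrime.mem_or_mem (h1.mpr (Ideal.mul_mem_right _ _ ha))).resolve_right hiP⟩
  let fA := TopCat.ofHom (ContinuousMap.mk (PrimeSpectrum.comap (algebraMap B A)) (PrimeSpectrum.continuous_comap _))
  let gA := TopCat.ofHom (ContinuousMap.mk (PrimeSpectrum.comap (algebraMap A' A)) (PrimeSpectrum.continuous_comap _))
  have hdesc : ∀ s : CategoryTheory.Limits.PushoutCocone fA gA, ∃ g : C(PrimeSpectrum B', s.pt),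
      (∀ q, g (PrimeSpectrum.comap β q) = s.inl q) ∧ ∀ P, g (PrimeSpectrum.comap α P) = s.inr P := fun s => by
    have hc : ∀ r, s.inl (PrimeSpectrum.comap (algebraMap B A) r) = s.inr (PrimeSpectrum.comap (algebraMap A' A) r) :=
      fun r => CategoryTheory.ConcreteCategory.congr_hom s.condition r
    have hqP' : ∀ q P, PrimeSpectrum.comap β q = PrimeSpectrum.comap α P → s.inl q = s.inr P := fun q P h => by
      obtain ⟨r, rfl, rfl⟩ := hqP q P h
      exact hc r
    let g : PrimeSpectrum B' → s.pt := fun p =>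
      if h : ∃ q, PrimeSpectrum.comap β q = p then s.inl h.choose else s.inr ((hcov p).resolve_left h).choose
    have hl : ∀ q, g (PrimeSpectrum.comap β q) = s.inl q := fun q => by
      have h : ∃ q', PrimeSpectrum.comap β q' = PrimeSpectrum.comap β q := ⟨q, rfl⟩
      simp only [g]
      rw [dif_pos h, hβi h.choose_spec]
    have hr : ∀ P, g (PrimeSpectrum.comap α P) = s.inr P := fun P => by
      by_cases h : ∃ q, PrimeSpectrum.comap β q = PrimeSpectrum.comap α P
      · simp only [g]
        rw [dif_pos h]; exact hqP' _ _ h.choose_spec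
      · simp only [g]
        rw [dif_neg h]
        rcases hPP _ _ ((hcov (PrimeSpectrum.comap α P)).resolve_left h).choose_spec with e | ⟨q, hq⟩
        · rw [e]
        · exact absurd ⟨q, hq.trans ((hcov (PrimeSpectrum.comap α P)).resolve_left h).choose_spec⟩ h
    refine ⟨⟨g, continuous_iff_isClosed.mpr fun Z hZ => ?_⟩, hl, hr⟩
    let Z₀ := g ⁻¹' Z
    have hcl1 : IsClosed (PrimeSpectrum.comap β ⁻¹' Z₀) := by
      rw [show PrimeSpectrum.comap β ⁻¹' Z₀ = s.inl ⁻¹' Z from Set.ext fun q => by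
        show g (PrimeSpectrum.comap β q) ∈ Z ↔ s.inl q ∈ Z
        rw [hl]]
      exact hZ.preimage s.inl.hom.continuous
    have hcl2 : IsClosed (PrimeSpectrum.comap α ⁻¹' Z₀) := by
      rw [show PrimeSpectrum.comap α ⁻¹' Z₀ = s.inr ⁻¹' Z from Set.ext fun P => by
        show g (PrimeSpectrum.comap α P) ∈ Z ↔ s.inr P ∈ Z
        rw [hr]]
      exact hZ.preimage s.inr.hom.continuous
    obtain ⟨c, hc'⟩ := (PrimeSpectrum.isClosed_iff_zeroLocus_ideal _).mp hcl1
    obtain ⟨b, hb⟩ := (PrimeSpectrum.isClosed_iff_zeroLocus_ideal _).mp hcl2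
    have hcz : ∀ q, c ≤ q.asIdeal ↔ PrimeSpectrum.comap β q ∈ Z₀ := fun q =>
      (Set.ext_iff.mp hc' q).symm
    have hbz : ∀ P, b ≤ P.asIdeal ↔ PrimeSpectrum.comap α P ∈ Z₀ := fun P =>
      (Set.ext_iff.mp hb P).symm
    show IsClosed Z₀
    rw [← isOpen_compl_iff, isOpen_iff_forall_mem_open]
    intro p hp
    suffices ∃ x : B', x ∉ p.asIdeal ∧ β x ∈ c ∧ α x ∈ b by
      obtain ⟨x, hx, hxc, hxb⟩ := this
      refine ⟨PrimeSpectrum.basicOpen x, fun p' hp' hmem => ?_, (PrimeSpectrum.basicOpen x).2, hx⟩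
      rcases hcov p' with ⟨q, rfl⟩ | ⟨P, rfl⟩
      · exact hp' ((hcz q).mpr hmem hxc)
      · exact hp' ((hbz P).mpr hmem hxb)
    by_cases h : ∃ q, PrimeSpectrum.comap β q = p
    · obtain ⟨q, rfl⟩ := h
      obtain ⟨t, htc, htq⟩ := SetLike.not_le_iff_exists.mp (fun h => hp ((hcz q).mp h))
      have hrad : algebraMap B A t ∈ (b.map (algebraMap A' A)).radical := by
        rw [Ideal.radical_eq_sInf, Submodule.mem_sInf]
        rintro r ⟨hbr, hr'⟩
        have h1 := (hbz (PrimeSpectrum.comap (algebraMap A' A) ⟨r, hr'⟩)).mp (Ideal.map_le_iff_le_comap.mp hbr)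
        rw [← PrimeSpectrum.comap_comp_apply, hαβ, PrimeSpectrum.comap_comp_apply] at h1
        exact (hcz _).mpr h1 htc
      obtain ⟨n, hn⟩ := hrad
      obtain ⟨b₀, hb₀, hb₀'⟩ :=
        (Ideal.mem_map_iff_of_surjective _ hsq.1).mp (Ideal.mul_mem_left _ (algebraMap B A t) hn)
      obtain ⟨x, hx1, hx2⟩ := EtAlg.Milnor.Basic.exists_pair hsq (b := t ^ (n + 1)) (a' := b₀)
        (by rw [hb₀', map_pow, pow_succ'])
      refine ⟨x, fun hxp => htq (q.isPrime.mem_of_pow_mem (n + 1) ?_), ?_, hx2 ▸ hb₀⟩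
      · rw [← hx1]; exact hxp
      · rw [show β x = t ^ (n + 1) from hx1, pow_succ]; exact Ideal.mul_mem_left _ _ htc
    · obtain ⟨P, rfl⟩ := (hcov p).resolve_left h
      have hPI : ¬ RingHom.ker (algebraMap A' A) ≤ P.asIdeal := fun hle => h (by
        obtain ⟨r, hr'⟩ := hA P hle
        exact ⟨PrimeSpectrum.comap (algebraMap B A) r, by
          rw [← hr', ← PrimeSpectrum.comap_comp_apply, ← PrimeSpectrum.comap_comp_apply, hαβ]⟩)
      obtain ⟨i, hi, hiP⟩ := SetLike.not_le_iff_exists.mp hPI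
      obtain ⟨t, ht, htP⟩ := SetLike.not_le_iff_exists.mp (fun h => hp ((hbz P).mp h))
      obtain ⟨x, hx1, hx2⟩ := EtAlg.Milnor.Basic.exists_ker hsq (i := t * i)
        (by rw [map_mul, RingHom.mem_ker.mp hi, mul_zero])
      refine ⟨x, fun hxp => ?_, ?_, ?_⟩
      · have hxP : α x ∈ P.asIdeal := hxp
        rw [show α x = t * i from hx2] at hxP
        exact (P.isPrime.mem_or_mem hxP).elim htP hiP
      · rw [show β x = 0 from hx1]; exact zero_mem _
      · rw [show α x = t * i from hx2]; exact Ideal.mul_mem_right _ _ ht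
  choose g hgl hgr using hdesc
  refine CategoryTheory.IsPushout.of_isColimit' ⟨?_⟩ ?_
  · refine TopCat.ext fun r => ?_
    show PrimeSpectrum.comap β (PrimeSpectrum.comap (algebraMap B A) r) = PrimeSpectrum.comap α (PrimeSpectrum.comap (algebraMap A' A) r)
    rw [← PrimeSpectrum.comap_comp_apply, ← PrimeSpectrum.comap_comp_apply, hαβ]
  refine CategoryTheory.Limits.PushoutCocone.IsColimit.mk _ (fun s => TopCat.ofHom (g s))
    (fun s => TopCat.ext (hgl s)) (fun s => TopCat.ext (hgr s)) (fun s m h1 h2 => TopCat.ext fun p => ?_)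
  rcases hcov p with ⟨q, rfl⟩ | ⟨P, rfl⟩
  · exact (CategoryTheory.ConcreteCategory.congr_hom h1 q).trans (hgl s q).symm
  · exact (CategoryTheory.ConcreteCategory.congr_hom h2 P).trans (hgr s P).symm

end Groth.Agent.S6917
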