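import Groth.Statements.S6921
import Groth.Agent.EtAlg.Milnor.Rel
import Mathlib.Algebra.Module.FinitePresentation

set_option autoImplicit false
universe u
open TensorProduct
open EtAlg

namespace Groth.Agent.S6921

/-- Let `B' = B ×_A A'` be a fibre square of rings with `A' → A` surjective, `B' → D'` a ring map, and
`D = D' ⊗_{B'} B`, `C' = D' ⊗_{B'} A'`, `C = D' ⊗_{B'} A`. Let `N` be a finite `D`-module, `M'` a
finite `C'`-module and `φ : N ⊗_D C ≅ M' ⊗_{C'} C` a `C`-linear isomorphism. Then the glued module
`N ×_φ M'` is a finite `D'`-module. -/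
theorem result (B' B A' A : Type u) [CommRing B'] [CommRing B] [CommRing A'] [CommRing A]
    [Algebra B' B] [Algebra B' A'] [Algebra B A] [Algebra A' A] [Algebra B' A] [IsScalarTower B' B A] [IsScalarTower B' A' A]
    (hsq : EtMil.IsFibreSquare B' B A' A)
    (D' D C' C : Type u) [CommRing D'] [CommRing D] [CommRing C'] [CommRing C]
    [Algebra B' D'] [Algebra B D] [Algebra A' C'] [Algebra A C]
    [Algebra D' D] [Algebra B' D] [IsScalarTower B' B D] [IsScalarTower B' D' D] [Algebra.IsPushout B' B D' D]
    [Algebra D' C'] [Algebra B' C'] [IsScalarTower B' A' C'] [IsScalarTower B' D' C'] [Algebra.IsPushout B' A' D' C']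
    [Algebra D' C] [Algebra B' C] [IsScalarTower B' A C] [IsScalarTower B' D' C] [Algebra.IsPushout B' A D' C]
    [Algebra D C] [IsScalarTower D' D C] [Algebra B C] [IsScalarTower B A C] [IsScalarTower B D C]
    [Algebra C' C] [IsScalarTower D' C' C] [Algebra A' C] [IsScalarTower A' A C] [IsScalarTower A' C' C]
    {N M' : Type u} [AddCommGroup N] [Module D N] [Module D' N] [IsScalarTower D' D N]
    [AddCommGroup M'] [Module C' M'] [Module D' M'] [IsScalarTower D' C' M'] (φ : C ⊗[D] N ≃ₗ[C] C ⊗[C'] M')
    [Module.Finite D N] [Module.Finite C' M'] : Module.Finite D' ↥(EtMil.glue D' φ) := by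
  let _ : Module B N := Module.compHom N (algebraMap B D)
  have : IsScalarTower B D N := IsScalarTower.of_algebraMap_smul fun r m => rfl
  let _ : Module A' M' := Module.compHom M' (algebraMap A' C')
  have : IsScalarTower A' C' M' := IsScalarTower.of_algebraMap_smul fun r m => rfl
  let _ : Module B' N := Module.compHom N (algebraMap B' B)
  have : IsScalarTower B' B N := IsScalarTower.of_algebraMap_smul fun r m => rfl
  have : IsScalarTower B' D' N := IsScalarTower.of_algebraMap_smul fun r m => by
    show algebraMap B' D' r • m = algebraMap B' B r • m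
    rw [← algebraMap_smul D (algebraMap B' D' r) m, ← IsScalarTower.algebraMap_apply, IsScalarTower.algebraMap_apply B' B D]
    exact algebraMap_smul D (algebraMap B' B r) m
  let _ : Module B' M' := Module.compHom M' (algebraMap B' A')
  have : IsScalarTower B' A' M' := IsScalarTower.of_algebraMap_smul fun r m => rfl
  have : IsScalarTower B' D' M' := IsScalarTower.of_algebraMap_smul fun r m => by
    show algebraMap B' D' r • m = algebraMap B' A' r • m
    rw [← algebraMap_smul C' (algebraMap B' D' r) m, ← IsScalarTower.algebraMap_apply, IsScalarTower.algebraMap_apply B' A' C']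
    exact algebraMap_smul C' (algebraMap B' A' r) m
  obtain ⟨hflat, ⟨e₁⟩, ⟨e₂⟩⟩ := EtAlg.Milnor.Rel.exists_transfer (B' := B') (B := B) (A' := A') (A := A) (D' := D') (D := D) (C' := C') (C := C) (N := N) (M' := M') hsq φ
  have := Module.Finite.equiv e₁.symm
  have := Module.Finite.equiv e₂.symm
  exact EtAlg.Milnor.Rel.finite_rel (B := B) (A' := A') (D := D) (C' := C') hsq

end Groth.Agent.S6921
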