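import Groth.Statements.S6922
import Groth.Agent.EtAlg.Milnor.Rel
import Mathlib.Algebra.Module.FinitePresentation

set_option autoImplicit false
universe u
open TensorProduct
open EtAlg

namespace Groth.Agent.S6922

/-- In the relative situation (`B' = B ×_A A'` with `A' → A` surjective, `B' → D'`, `D = D' ⊗_{B'} B`,
`C' = D' ⊗_{B'} A'`, `C = D' ⊗_{B'} A`), let `N` be a flat `B`-module that is finitely presented as
a `D`-module and `M'` a flat `A'`-module that is finitely presented as a `C'`-module, with a
`C`-isomorphism `φ : N ⊗_D C ≅ M' ⊗_{C'} C`, and suppose `B' → D'` is the composite of a flat ring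
map `B' → D''` and a ring map `D'' → D'` of finite presentation. Then `N ×_φ M'` is finitely
presented over `D'`. -/
theorem result (B' B A' A : Type u) [CommRing B'] [CommRing B] [CommRing A'] [CommRing A]
    [Algebra B' B] [Algebra B' A'] [Algebra B A] [Algebra A' A] [Algebra B' A] [IsScalarTower B' B A] [IsScalarTower B' A' A]
    (hsq : EtMil.IsFibreSquare B' B A' A)
    (D' D C' C : Type u) [CommRing D'] [CommRing D] [CommRing C'] [CommRing C]
    [Algebra B' D'] [Algebra B D] [Algebra A' C'] [Algebra A C]
    [Algebra D' D] [Algebra B' D] [IsScalarTower B' B D] [IsScalarTower B' D' D] [Algebra.IsPushout B' B D' D]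
    [Algebra D' C'] [Algebra B' C'] [IsScalarTower B' A' C'] [IsScalarTower B' D' C'] [Algebra.IsPushout B' A' D' C']
    [Algebra D' C] [Algebra B' C] [IsScalarTower B' A C] [IsScalarTower B' D' C] [Algebra.IsPushout B' A D' C]
    [Algebra D C] [IsScalarTower D' D C] [Algebra B C] [IsScalarTower B A C] [IsScalarTower B D C]
    [Algebra C' C] [IsScalarTower D' C' C] [Algebra A' C] [IsScalarTower A' A C] [IsScalarTower A' C' C]
    {N M' : Type u} [AddCommGroup N] [Module D N] [Module D' N] [IsScalarTower D' D N]
    [AddCommGroup M'] [Module C' M'] [Module D' M'] [IsScalarTower D' C' M'] (φ : C ⊗[D] N ≃ₗ[C] C ⊗[C'] M')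
    [Module B N] [IsScalarTower B D N] [Module A' M'] [IsScalarTower A' C' M']
    [Module.FinitePresentation D N] [Module.Flat B N] [Module.FinitePresentation C' M'] [Module.Flat A' M']
    (D'' : Type u) [CommRing D''] [Algebra B' D''] [Algebra D'' D'] [IsScalarTower B' D'' D'] [Module.Flat B' D'']
    [Algebra.FinitePresentation D'' D'] :
    Module.FinitePresentation D' ↥(EtMil.glue D' φ) := by
  let _ : Module B' N := Module.compHom N (algebraMap B' B)
  have : IsScalarTower B' B N := IsScalarTower.of_algebraMap_smul fun r m => rfl
  have : IsScalarTower B' D' N := IsScalarTower.of_algebraMap_smul fun r m => by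
    show algebraMap B' D' r • m = algebraMap B' B r • m
    rw [← algebraMap_smul D (algebraMap B' D' r) m, ← IsScalarTower.algebraMap_apply, IsScalarTower.algebraMap_apply B' B D]
    exact algebraMap_smul D (algebraMap B' B r) m
  let _ : Module B' M' := Module.compHom M' (algebraMap B' A')
  have : IsScalarTower B' A' M' := IsScalarTower.of_algebraMap_smul fun r m => rfl
  have : IsScalarTower B' D' M' := IsScalarTower.of_algebraMap_smul fun r m => by
    show algebraMap B' D' r • m = algebraMap B' A' r • m
    rw [← algebraMap_smul C' (algebraMap B' D' r) m, ← IsScalarTower.algebraMap_apply, IsScalarTower.algebraMap_apply B' A' C']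
    exact algebraMap_smul C' (algebraMap B' A' r) m
  obtain ⟨hflat, ⟨e₁⟩, ⟨e₂⟩⟩ := EtAlg.Milnor.Rel.exists_transfer (B' := B') (B := B) (A' := A') (A := A) (D' := D') (D := D) (C' := C') (C := C) (N := N) (M' := M') hsq φ
  have := hflat inferInstance inferInstance
  have : Module.FinitePresentation D (D ⊗[D'] EtMil.glue D' φ) := Module.finitePresentation_of_surjective
    e₁.symm.toLinearMap e₁.symm.surjective (by rw [LinearEquiv.ker]; exact Submodule.fg_bot)
  have : Module.FinitePresentation C' (C' ⊗[D'] EtMil.glue D' φ) := Module.finitePresentation_of_surjective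
    e₂.symm.toLinearMap e₂.symm.surjective (by rw [LinearEquiv.ker]; exact Submodule.fg_bot)
  exact EtAlg.Milnor.Rel.finitePresentation_rel (B := B) (A' := A') (D := D) (C' := C') hsq

end Groth.Agent.S6922
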