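import Groth.Statements.S6934
import Mathlib.RingTheory.Localization.Away.Basic

set_option autoImplicit false
universe u
open EtAlg

namespace Groth.Agent.S6934

/-- Let `s : B → R`, `t : R' → R` be ring maps and `B' = B ×_R R'` the fibre product ring, i.e. a ring
`B'` with maps `p : B' → B`, `q : B' → R'`, `s ∘ p = t ∘ q`, such that `(p, q)` is injective with
image the pairs `(b, r')` with `s(b) = t(r')`. Let `h ∈ B'` with images `g = p(h)`, `f = q(h)`. Then
the square of localizations `B'_h → B_g`, `B'_h → R'_f`, `B_g → R_{s(g)}`, `R'_f → R_{t(f)} =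
R_{s(g)}` (the induced maps) is cartesian as well: `B'_h = B_g ×_{R_{s(g)}} R'_f`. -/
theorem result {B R R' B' : Type u} [CommRing B] [CommRing R] [CommRing R'] [CommRing B']
    (s : B →+* R) (t : R' →+* R) (p : B' →+* B) (q : B' →+* R') (hc : s.comp p = t.comp q)
    (hinj : ∀ x y : B', p x = p y → q x = q y → x = y) (hsurj : ∀ (b : B) (r' : R'), s b = t r' → ∃ x : B', p x = b ∧ q x = r')
    (h : B') (Bh Bg Rf Rsg : Type u) [CommRing Bh] [CommRing Bg] [CommRing Rf] [CommRing Rsg]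
    [Algebra B' Bh] [IsLocalization.Away h Bh] [Algebra B Bg] [IsLocalization.Away (p h) Bg]
    [Algebra R' Rf] [IsLocalization.Away (q h) Rf] [Algebra R Rsg] [IsLocalization.Away (s (p h)) Rsg]
    (pL : Bh →+* Bg) (qL : Bh →+* Rf) (sL : Bg →+* Rsg) (tL : Rf →+* Rsg)
    (hp : pL.comp (algebraMap B' Bh) = (algebraMap B Bg).comp p) (hq : qL.comp (algebraMap B' Bh) = (algebraMap R' Rf).comp q)
    (hs : sL.comp (algebraMap B Bg) = (algebraMap R Rsg).comp s) (ht : tL.comp (algebraMap R' Rf) = (algebraMap R Rsg).comp t) :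
    (∀ x y : Bh, pL x = pL y → qL x = qL y → x = y) ∧
    (∀ (b : Bg) (r : Rf), sL b = tL r → ∃ x : Bh, pL x = b ∧ qL x = r) := by
  have hu : ∀ n : ℕ, IsUnit (algebraMap B' Bh h ^ n) := fun n =>
    (IsLocalization.Away.algebraMap_isUnit (S := Bh) h).pow n
  have key : ∀ x : Bh, pL x = 0 → qL x = 0 → x = 0 := fun x h1 h2 => by
    obtain ⟨n, a, ha⟩ := IsLocalization.Away.surj h x
    have hp1 : algebraMap B Bg (p a) = 0 := by
      rw [← RingHom.comp_apply, ← hp, RingHom.comp_apply, ← ha, map_mul, h1, zero_mul]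
    have hq1 : algebraMap R' Rf (q a) = 0 := by
      rw [← RingHom.comp_apply, ← hq, RingHom.comp_apply, ← ha, map_mul, h2, zero_mul]
    obtain ⟨⟨_, m, rfl⟩, hm⟩ := (IsLocalization.map_eq_zero_iff (Submonoid.powers (p h)) _ _).mp hp1
    obtain ⟨⟨_, m', rfl⟩, hm'⟩ := (IsLocalization.map_eq_zero_iff (Submonoid.powers (q h)) _ _).mp hq1
    have ha0 : h ^ (m + m') * a = 0 := hinj _ _
      (by rw [map_zero, map_mul, map_pow, pow_add, mul_comm (p h ^ m), mul_assoc]; erw [hm, mul_zero])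
      (by rw [map_zero, map_mul, map_pow, pow_add, mul_assoc]; erw [hm', mul_zero])
    have h0 : algebraMap B' Bh a = 0 := (hu (m + m')).mul_right_eq_zero.mp (by rw [← map_pow, ← map_mul, ha0, map_zero])
    exact (hu n).mul_left_eq_zero.mp (ha.trans h0)
  refine ⟨fun x y h1 h2 => sub_eq_zero.mp (key _ (by rw [map_sub, h1, sub_self]) (by rw [map_sub, h2, sub_self])),
    fun b r hbr => ?_⟩
  obtain ⟨n, b₀, hb⟩ := IsLocalization.Away.surj (p h) b
  obtain ⟨m, r₀, hr⟩ := IsLocalization.Away.surj (q h) r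
  have hst : s (p h) = t (q h) := RingHom.congr_fun hc h
  have hs' : ∀ x, sL (algebraMap B Bg x) = algebraMap R Rsg (s x) := fun x => RingHom.congr_fun hs x
  have ht' : ∀ x, tL (algebraMap R' Rf x) = algebraMap R Rsg (t x) := fun x => RingHom.congr_fun ht x
  have e1 : algebraMap R Rsg (s b₀) = sL b * algebraMap R Rsg (s (p h)) ^ n := by
    rw [← hs', ← hb, map_mul, map_pow, hs']
  have e2 : algebraMap R Rsg (t r₀) = tL r * algebraMap R Rsg (t (q h)) ^ m := by
    rw [← ht', ← hr, map_mul, map_pow, ht']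
  have h1 : algebraMap R Rsg (s (p h ^ m * b₀) - t (q h ^ n * r₀)) = 0 := by
    simp only [map_sub, map_mul, map_pow]
    rw [e1, e2, hbr, ← hst]
    ring
  obtain ⟨⟨_, k, rfl⟩, hk⟩ := (IsLocalization.map_eq_zero_iff (Submonoid.powers (s (p h))) _ _).mp h1
  obtain ⟨a, ha1, ha2⟩ := hsurj (p h ^ k * (p h ^ m * b₀)) (q h ^ k * (q h ^ n * r₀)) (by
    have hk' : s (p h) ^ k * (s (p h ^ m * b₀) - t (q h ^ n * r₀)) = 0 := hk
    rw [mul_sub, sub_eq_zero] at hk'
    rw [map_mul s, map_pow s, hk', map_mul t (q h ^ k), map_pow t (q h) k, ← hst])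
  refine ⟨algebraMap B' Bh a * ↑((hu (k + m + n)).unit⁻¹), ?_, ?_⟩
  · refine ((hu (k + m + n)).map pL).mul_right_cancel ?_
    rw [← map_mul, mul_assoc, IsUnit.val_inv_mul, mul_one, ← RingHom.comp_apply, hp, RingHom.comp_apply, ha1, map_pow,
      ← RingHom.comp_apply, hp, RingHom.comp_apply, map_mul, map_mul, ← hb, map_pow, map_pow]
    ring
  · refine ((hu (k + m + n)).map qL).mul_right_cancel ?_
    rw [← map_mul, mul_assoc, IsUnit.val_inv_mul, mul_one, ← RingHom.comp_apply, hq, RingHom.comp_apply, ha2, map_pow,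
      ← RingHom.comp_apply, hq, RingHom.comp_apply, map_mul, map_mul, ← hr, map_pow, map_pow]
    ring

end Groth.Agent.S6934
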