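import Groth.Statements.S6935
import Groth.Agent.PseudoCoh.Finite

set_option autoImplicit false
universe u
open CategoryTheory CategoryTheory.Limits
attribute [local instance] HasDerivedCategory.standard
open DRing

namespace Groth.Agent.S6935

open CategoryTheory CategoryTheory.Limits DerivedCategory.TStructure Groth.Agent.PseudoCoh

lemma isLE_iff_subsingleton {R : Type u} [CommRing R] (K : Dual.D R) (b : ℤ) :
    t.IsLE K b ↔ ∀ i : ℤ, b < i → Subsingleton (Dual.HD R K i) :=
  (DerivedCategory.isLE_iff K b).trans ⟨fun h i hi => ModuleCat.subsingleton_of_isZero (h i hi),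
    fun h i hi => @ModuleCat.isZero_of_subsingleton _ _ _ (h i hi)⟩

lemma single_subsingleton {R : Type u} [CommRing R] (M : Type u) [AddCommGroup M] [Module R M] (i : ℤ) (hi : i ≠ 0) :
    Subsingleton (Dual.HD R (Dual.inD R M) i) := by
  refine ModuleCat.subsingleton_of_isZero ?_
  rcases lt_or_gt_of_ne hi with h | h
  · exact DerivedCategory.isZero_of_isGE ((DerivedCategory.singleFunctor (ModuleCat.{u} R) 0).obj (ModuleCat.of R M)) 0 i h
  · exact DerivedCategory.isZero_of_isLE ((DerivedCategory.singleFunctor (ModuleCat.{u} R) 0).obj (ModuleCat.of R M)) 0 i h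

/-- `H^0(M[0]) = M` -/
noncomputable def HD_single {R : Type u} [CommRing R] (M : Type u) [AddCommGroup M] [Module R M] :
    Dual.HD R (Dual.inD R M) 0 ≃ₗ[R] M :=
  ((DerivedCategory.singleFunctorCompHomologyFunctorIso (ModuleCat.{u} R) 0).app (ModuleCat.of R M)).toLinearEquiv

/-- Let R be a commutative ring and M an R-module, viewed as the complex M[0] in D(R). Then M[0] is
0-pseudo-coherent exactly when M is finitely generated over R, and M[0] is (-1)-pseudo-coherent
exactly when M admits a finite presentation over R. -/
theorem result (R : Type u) [CommRing R]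
    (M : Type u) [AddCommGroup M] [Module R M] :
    (DRing.IsPseudoCoherentModule R 0 M ↔ Module.Finite R M) ∧
      (DRing.IsPseudoCoherentModule R (-1) M ↔ Module.FinitePresentation R M) := by
  have hle : t.IsLE (Dual.inD R M) 0 := (isLE_iff_subsingleton _ _).2 fun i hi => single_subsingleton M i hi.ne'
  have hz : ∀ i : ℤ, 0 < i → IsZero ((DerivedCategory.homologyFunctor (ModuleCat.{u} R) i).obj (Dual.inD R M)) :=
    (DerivedCategory.isLE_iff _ 0).1 hle
  refine ⟨⟨fun h => ?_, fun h => ?_⟩, ⟨fun h => ?_, fun h => ?_⟩⟩
  · haveI : Module.Finite R (Dual.HD R (Dual.inD R M) 0) :=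
      finite_HD (sub_add_cancel 0 1) ((approx_iff (sub_add_cancel 0 1) _).1 h) hz
    exact Module.Finite.equiv (HD_single M)
  · haveI := h
    exact (approx_iff (sub_add_cancel 0 1) _).2 (approx_of_finite (hC := hle) (sub_add_cancel 0 1)
      (Module.Finite.equiv (HD_single M).symm))
  · haveI : Module.FinitePresentation R (Dual.HD R (Dual.inD R M) 0) :=
      finitePresentation_HD (by norm_num) ((approx_iff (sub_add_cancel (-1) 1) _).1 h) hz
    exact Module.FinitePresentation.of_equiv (HD_single M)
  · haveI := h
    haveI := single_subsingleton (R := R) M (-1) (by decide)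
    exact (approx_iff (sub_add_cancel (-1) 1) _).2 (approx_of_finitePresentation (hK := hle) (sub_add_cancel (-1) 1)
      (by norm_num) inferInstance (Module.FinitePresentation.of_equiv (HD_single M).symm))

end Groth.Agent.S6935
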