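import Groth.Statements.S6936
import Groth.Agent.PseudoCoh.Finite

set_option autoImplicit false
universe u
open CategoryTheory CategoryTheory.Limits
attribute [local instance] HasDerivedCategory.standard
open DRing

namespace Groth.Agent.S6936

open CategoryTheory CategoryTheory.Limits DerivedCategory.TStructure Groth.Agent.PseudoCoh

lemma isLE_iff_subsingleton {R : Type u} [CommRing R] (K : Dual.D R) (b : ℤ) :
    t.IsLE K b ↔ ∀ i : ℤ, b < i → Subsingleton (Dual.HD R K i) :=
  (DerivedCategory.isLE_iff K b).trans ⟨fun h i hi => ModuleCat.subsingleton_of_isZero (h i hi),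
    fun h i hi => @ModuleCat.isZero_of_subsingleton _ _ _ (h i hi)⟩

lemma single_subsingleton {R : Type u} [CommRing R] (M : Type u) [AddCommGroup M] [Module R M] (i : ℤ) (hi : i ≠ 0) :
    Subsingleton (Dual.HD R (Dual.inD R M) i) := by
  refine ModuleCat.subsingleton_of_isZero ?_
  rcases lt_or_gt_of_ne hi with h | h
  · exact DerivedCategory.isZero_of_isGE ((DerivedCategory.singleFunctor (ModuleCat.{u} R) 0).obj (ModuleCat.of R M)) 0 i h
  · exact DerivedCategory.isZero_of_isLE ((DerivedCategory.singleFunctor (ModuleCat.{u} R) 0).obj (ModuleCat.of R M)) 0 i h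

/-- `H^0(M[0]) = M` -/
noncomputable def HD_single {R : Type u} [CommRing R] (M : Type u) [AddCommGroup M] [Module R M] :
    Dual.HD R (Dual.inD R M) 0 ≃ₗ[R] M :=
  ((DerivedCategory.singleFunctorCompHomologyFunctorIso (ModuleCat.{u} R) 0).app (ModuleCat.of R M)).toLinearEquiv

/-- Let R be a commutative ring, m an integer and K an object of D(R). If H^i(K) = 0 for every i > m +
1, H^(m+1)(K) is a finitely presented R-module and H^m(K) is a finitely generated R-module, then K
is m-pseudo-coherent. -/
theorem result (R : Type u) [CommRing R]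
    (m : ℤ) (K : Dual.D R) (hvan : ∀ i : ℤ, m + 1 < i → Subsingleton (Dual.HD R K i))
    (hfp : Module.FinitePresentation R (Dual.HD R K (m + 1))) (hfin : Module.Finite R (Dual.HD R K m)) :
    DRing.IsPseudoCoherent R m K := by
  haveI : t.IsLE K (m + 1) := (isLE_iff_subsingleton K (m + 1)).2 hvan
  exact (approx_iff (sub_add_cancel m 1) K).2 (approx_of_finitePresentation (sub_add_cancel m 1) rfl hfin hfp)

end Groth.Agent.S6936
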