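import Groth.Statements.S6938
import Groth.Agent.PseudoCoh.Coherent

set_option autoImplicit false
universe u
open CategoryTheory CategoryTheory.Limits
attribute [local instance] HasDerivedCategory.standard
open DRing

namespace Groth.Agent.S6938

open CategoryTheory CategoryTheory.Limits CategoryTheory.Pretriangulated DerivedCategory DerivedCategory.TStructure Groth.Agent.PseudoCoh

lemma isLE_iff_subsingleton {R : Type u} [CommRing R] (K : Dual.D R) (b : ℤ) :
    t.IsLE K b ↔ ∀ i : ℤ, b < i → Subsingleton (Dual.HD R K i) :=
  (DerivedCategory.isLE_iff K b).trans ⟨fun h i hi => ModuleCat.subsingleton_of_isZero (h i hi),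
    fun h i hi => @ModuleCat.isZero_of_subsingleton _ _ _ (h i hi)⟩

/-- Let R be a commutative ring, m an integer and K a bounded above cochain complex of R-modules. If the
module K^i is (m - i)-pseudo-coherent for every i, then K is m-pseudo-coherent in D(R). If every K^i
is a pseudo-coherent module, then K is pseudo-coherent. -/
theorem result (R : Type u) [CommRing R] (m : ℤ)
    (K : DRing.Cx R) (b : ℤ) (hb : DRing.VanishesAbove K b) :
    ((∀ i : ℤ, DRing.IsPseudoCoherentModule R (m - i) (K.X i)) → DRing.IsPseudoCoherent R m (DRing.toD K)) ∧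
      ((∀ i : ℤ, DRing.IsPseudoCoherentModule' R (K.X i)) → DRing.IsPseudoCoherent' R (DRing.toD K)) := by
  have key : ∀ n : ℤ, (∀ i, Approx (n - i) (Dual.inD R (K.X i))) → Approx n (DRing.toD K) := by
    intro n h
    obtain ⟨C, g, k, hT⟩ := distinguished_cocone_triangle (DerivedCategory.Q.map (cutι K (n + 1)))
    have hC : t.IsLE C n := (isLE_obj₃_iff _ hT (n + 1) n rfl).2 ⟨fun i hi => by
        haveI := isIso_homology_cutι (E := K) (n + 1) hi
        exact (NatIso.isIso_map_iff (DerivedCategory.homologyFunctorFactors (ModuleCat.{u} R) i) (cutι K (n + 1))).2 this,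
      ((MorphismProperty.epimorphisms (ModuleCat.{u} R)).arrow_mk_iso_iff
        (Arrow.isoMk ((DerivedCategory.homologyFunctorFactors (ModuleCat.{u} R) (n + 1)).app _)
          ((DerivedCategory.homologyFunctorFactors (ModuleCat.{u} R) (n + 1)).app _)
          ((DerivedCategory.homologyFunctorFactors (ModuleCat.{u} R) (n + 1)).hom.naturality (cutι K (n + 1))).symm)).2
        (epi_homology_cutι (E := K) (n + 1))⟩
    refine approx_obj₂ _ hT n (devissage_terms (Approx n) (fun e hX => approx_of_iso e hX)
      (fun T hT h₁ h₃ => approx_obj₂ T hT n h₁ h₃) K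
      (fun i => (approx_singleD_iff i n (n - i) (sub_add_cancel n i) _).2 (h i)) (n + 1) (max (n + 1) (b + 1)) ?_
      (le_max_left _ _)) (approx_of_isLE hC)
    exact approx_of_isLE (t.isLE_of_isZero (isZero_toD_cut K fun i hi => hb i (by omega)) n)
  refine ⟨fun h => (approx_iff (sub_add_cancel m 1) _).2 (key _ fun i => ?_), fun h => (pc'_iff _).2 fun n => key n fun i => ?_⟩
  · exact (approx_iff (show m - 1 - i + 1 = m - i by omega) _).1 (h i)
  · exact (pc'_iff _).1 (h i) _

end Groth.Agent.S6938
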