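import Groth.Statements.S6939
import Groth.Agent.PseudoCoh.Coherent

set_option autoImplicit false
universe u
open CategoryTheory CategoryTheory.Limits
attribute [local instance] HasDerivedCategory.standard
open DRing

namespace Groth.Agent.S6939

open CategoryTheory CategoryTheory.Limits CategoryTheory.Pretriangulated DerivedCategory DerivedCategory.TStructure Groth.Agent.PseudoCoh

lemma isLE_iff_subsingleton {R : Type u} [CommRing R] (K : Dual.D R) (b : ℤ) :
    t.IsLE K b ↔ ∀ i : ℤ, b < i → Subsingleton (Dual.HD R K i) :=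
  (DerivedCategory.isLE_iff K b).trans ⟨fun h i hi => ModuleCat.subsingleton_of_isZero (h i hi),
    fun h i hi => @ModuleCat.isZero_of_subsingleton _ _ _ (h i hi)⟩

/-- Let R be a commutative ring, m an integer and K an object of D(R) whose cohomology vanishes in large
degrees. If the module H^i(K) is (m - i)-pseudo-coherent for every i, then K is m-pseudo-coherent;
if every H^i(K) is a pseudo-coherent module, then K is pseudo-coherent. -/
theorem result (R : Type u) [CommRing R] (m : ℤ)
    (K : Dual.D R) (hb : ∃ b : ℤ, ∀ i : ℤ, b < i → Subsingleton (Dual.HD R K i)) :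
    ((∀ i : ℤ, DRing.IsPseudoCoherentModule R (m - i) (Dual.HD R K i)) → DRing.IsPseudoCoherent R m K) ∧
      ((∀ i : ℤ, DRing.IsPseudoCoherentModule' R (Dual.HD R K i)) → DRing.IsPseudoCoherent' R K) := by
  obtain ⟨b, hb⟩ := hb
  have key : ∀ n : ℤ, (∀ i, n < i → Approx (n - i) (Dual.inD R (Dual.HD R K i))) → Approx n K := fun n h =>
    devissage_homology (Approx n) (fun e hX => approx_of_iso e hX) (fun T hT h₁ h₃ => approx_obj₂ T hT n h₁ h₃) n K
      (fun K' hK' _ => approx_of_isLE hK') b ((isLE_iff_subsingleton K b).2 hb)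
      fun i hi => (approx_singleD_iff i n (n - i) (sub_add_cancel n i) _).2 (h i hi)
  refine ⟨fun h => (approx_iff (sub_add_cancel m 1) K).2 (key _ fun i _ => ?_), fun h => (pc'_iff K).2 fun n => key n fun i _ => ?_⟩
  · exact (approx_iff (show m - 1 - i + 1 = m - i by omega) _).1 (h i)
  · exact (pc'_iff _).1 (h i) _

end Groth.Agent.S6939
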