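import Groth.Statements.S6942
import Groth.Agent.PseudoCoh.Finite

set_option autoImplicit false
universe u
open CategoryTheory CategoryTheory.Limits
attribute [local instance] HasDerivedCategory.standard
open DRing

namespace Groth.Agent.S6942

open CategoryTheory CategoryTheory.Limits DerivedCategory.TStructure Groth.Agent.PseudoCoh

lemma isLE_iff_subsingleton {R : Type u} [CommRing R] (K : Dual.D R) (b : ℤ) :
    t.IsLE K b ↔ ∀ i : ℤ, b < i → Subsingleton (Dual.HD R K i) :=
  (DerivedCategory.isLE_iff K b).trans ⟨fun h i hi => ModuleCat.subsingleton_of_isZero (h i hi),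
    fun h i hi => @ModuleCat.isZero_of_subsingleton _ _ _ (h i hi)⟩

lemma single_subsingleton {R : Type u} [CommRing R] (M : Type u) [AddCommGroup M] [Module R M] (i : ℤ) (hi : i ≠ 0) :
    Subsingleton (Dual.HD R (Dual.inD R M) i) := by
  refine ModuleCat.subsingleton_of_isZero ?_
  rcases lt_or_gt_of_ne hi with h | h
  · exact DerivedCategory.isZero_of_isGE ((DerivedCategory.singleFunctor (ModuleCat.{u} R) 0).obj (ModuleCat.of R M)) 0 i h
  · exact DerivedCategory.isZero_of_isLE ((DerivedCategory.singleFunctor (ModuleCat.{u} R) 0).obj (ModuleCat.of R M)) 0 i h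

/-- `H^0(M[0]) = M` -/
noncomputable def HD_single {R : Type u} [CommRing R] (M : Type u) [AddCommGroup M] [Module R M] :
    Dual.HD R (Dual.inD R M) 0 ≃ₗ[R] M :=
  ((DerivedCategory.singleFunctorCompHomologyFunctorIso (ModuleCat.{u} R) 0).app (ModuleCat.of R M)).toLinearEquiv

/-- Let R be a Noetherian commutative ring and m an integer. An object K of D(R) is m-pseudo-coherent
exactly when H^i(K) = 0 for all large i and H^i(K) is a finitely generated R-module for each i ≥ m.
Every finitely generated R-module M is pseudo-coherent, and conversely. -/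
theorem result (R : Type u) [CommRing R]
    [IsNoetherianRing R] (m : ℤ) (K : Dual.D R) (M : Type u) [AddCommGroup M] [Module R M] :
    (DRing.IsPseudoCoherent R m K ↔
      (∃ b : ℤ, ∀ i : ℤ, b < i → Subsingleton (Dual.HD R K i)) ∧ ∀ i : ℤ, m ≤ i → Module.Finite R (Dual.HD R K i)) ∧
      (DRing.IsPseudoCoherentModule' R M ↔ Module.Finite R M) := by
  refine ⟨?_, ?_⟩
  · rw [approx_iff (sub_add_cancel m 1), approx_noetherian_iff (sub_add_cancel m 1)]
    simp only [isLE_iff_subsingleton]
  · change DRing.IsPseudoCoherent' R (Dual.inD R M) ↔ _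
    rw [pc'_iff]
    refine ⟨fun h => ?_, fun h n => (approx_noetherian_iff rfl _).2 ⟨⟨0, (isLE_iff_subsingleton _ _).2 fun i hi =>
      single_subsingleton M i hi.ne'⟩, fun i _ => ?_⟩⟩
    · haveI : Module.Finite R (Dual.HD R (Dual.inD R M) 0) :=
        ((approx_noetherian_iff (sub_add_cancel 0 1) (Dual.inD R M)).1 (h _)).2 0 le_rfl
      exact Module.Finite.equiv (HD_single M)
    · rcases eq_or_ne i 0 with rfl | hi
      · haveI := h
        exact Module.Finite.equiv (HD_single M).symm
      · haveI := single_subsingleton (R := R) M i hi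
        exact inferInstanceAs (Module.Finite R (Dual.HD R (Dual.inD R M) i))

end Groth.Agent.S6942
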