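import Groth.Statements.S6943
import Groth.Agent.PseudoCoh.Coherent

set_option autoImplicit false
universe u
open CategoryTheory CategoryTheory.Limits
attribute [local instance] HasDerivedCategory.standard
open DRing

namespace Groth.Agent.S6943

open CategoryTheory CategoryTheory.Limits CategoryTheory.Pretriangulated DerivedCategory DerivedCategory.TStructure Groth.Agent.PseudoCoh

lemma isLE_iff_subsingleton {R : Type u} [CommRing R] (K : Dual.D R) (b : ℤ) :
    t.IsLE K b ↔ ∀ i : ℤ, b < i → Subsingleton (Dual.HD R K i) :=
  (DerivedCategory.isLE_iff K b).trans ⟨fun h i hi => ModuleCat.subsingleton_of_isZero (h i hi),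
    fun h i hi => @ModuleCat.isZero_of_subsingleton _ _ _ (h i hi)⟩

/-- Let R be a coherent commutative ring, i.e. every finitely generated ideal of R is finitely presented
as an R-module. Let K be an object of D(R) whose cohomology vanishes in large degrees and m an
integer. Then K is m-pseudo-coherent if and only if H^m(K) is finitely generated and H^i(K) is
finitely presented for every i > m. Consequently K is pseudo-coherent if and only if every H^i(K) is
finitely presented. -/
theorem result (R : Type u) [CommRing R]
    (hR : ∀ I : Ideal R, I.FG → Module.FinitePresentation R I) (K : Dual.D R)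
    (hb : ∃ b : ℤ, ∀ i : ℤ, b < i → Subsingleton (Dual.HD R K i)) (m : ℤ) :
    (DRing.IsPseudoCoherent R m K ↔
      Module.Finite R (Dual.HD R K m) ∧ ∀ i : ℤ, m < i → Module.FinitePresentation R (Dual.HD R K i)) ∧
      (DRing.IsPseudoCoherent' R K ↔ ∀ i : ℤ, Module.FinitePresentation R (Dual.HD R K i)) := by
  obtain ⟨b, hb⟩ := hb
  have key : ∀ m : ℤ, DRing.IsPseudoCoherent R m K ↔
      Module.Finite R (Dual.HD R K m) ∧ ∀ i : ℤ, m < i → Module.FinitePresentation R (Dual.HD R K i) := by
    intro m
    rw [approx_iff (sub_add_cancel m 1)]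
    constructor
    · rintro ⟨E, C, α, g, k, hE, hT, hC⟩
      obtain ⟨h1, h2⟩ := (isLE_obj₃_iff _ hT m (m - 1) (sub_add_cancel m 1)).1 hC
      have := fp_homology hR hE
      refine ⟨?_, fun i hi => ?_⟩
      · haveI := this m
        exact Module.Finite.of_surjective ((DerivedCategory.homologyFunctor (ModuleCat.{u} R) m).map α).hom
          ((ModuleCat.epi_iff_surjective _).1 h2)
      · haveI := this i
        exact Module.FinitePresentation.of_equiv
          (@asIso _ _ _ _ ((DerivedCategory.homologyFunctor (ModuleCat.{u} R) i).map α) (h1 i hi)).toLinearEquiv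
    · rintro ⟨hfin, hfp⟩
      refine devissage_homology (Approx (m - 1)) (fun e hX => approx_of_iso e hX)
        (fun T hT h₁ h₃ => approx_obj₂ T hT _ h₁ h₃) (m - 1) K (fun K' hK' _ => approx_of_isLE hK') b
        ((isLE_iff_subsingleton K b).2 hb) fun i hi => (approx_singleD_iff i (m - 1) (m - 1 - i) (sub_add_cancel _ i) _).2 ?_
      rcases (show m ≤ i by omega).lt_or_eq with h | rfl
      · haveI := hfp i h
        exact approx_inD_fp hR _ _
      · exact approx_of_finite (hC := isLE_inD (Dual.HD R K m)) (show m - 1 - m + 1 = 0 by omega)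
          (haveI : Module.Finite R ((𝟭 (ModuleCat.{u} R)).obj (ModuleCat.of R (Dual.HD R K m))) := hfin; Module.Finite.equiv
            ((DerivedCategory.singleFunctorCompHomologyFunctorIso (ModuleCat.{u} R) 0).app _).toLinearEquiv.symm)
  refine ⟨key m, fun h i => ?_, fun h => (forall_pc_iff K).1 fun m' => (key m').2 ⟨haveI := h m'; inferInstance, fun i _ => h i⟩⟩
  exact ((key (i - 1)).1 ((forall_pc_iff K).2 h _)).2 i (by omega)

end Groth.Agent.S6943
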