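import Groth.Statements.S6944
import Groth.Agent.PseudoCoh.TorAmp

set_option autoImplicit false
universe u
open CategoryTheory CategoryTheory.Limits
attribute [local instance] HasDerivedCategory.standard
open DRing

namespace Groth.Agent.S6944

open CategoryTheory CategoryTheory.Limits CategoryTheory.Pretriangulated DerivedCategory DerivedCategory.TStructure

attribute [local instance] HasDerivedCategory.standard

/-- Let R be a commutative ring and K a bounded above cochain complex of flat R-modules such that K, as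
an object of D(R), has tor amplitude in [a, c] (it is isomorphic in D(R) to a complex of flat
modules vanishing outside [a, c]). Then the cokernel of the differential K^(a-1) → K^a is a flat
R-module. -/
theorem result (R : Type u) [CommRing R] (K : DRing.Cx R) (b : ℤ)
    (hb : DRing.VanishesAbove K b) (hflat : DRing.TermwiseFlat K) (a c : ℤ)
    (hamp : DRing.HasTorAmplitudeIn R a c (DRing.toD K)) :
    Module.Flat R ((K.X a) ⧸ LinearMap.range (K.d (a - 1) a).hom) := by
  obtain ⟨i₀, hi₀⟩ : ∃ i₀, i₀ = a - 1 := ⟨_, rfl⟩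
  rw [← hi₀]
  have hia : i₀ + 1 = a := by omega
  obtain ⟨P, hPb, hPp, hPK, ⟨eP⟩⟩ := PseudoCoh.exists_projective_le (DRing.toD K) b
    (PseudoCoh.isLE_toD_of_vanishes hb)
  haveI := PseudoCoh.flat_coker_of_torAmplitude hia hPb hPp eP hamp
  haveI := hPK
  obtain ⟨q, hq⟩ := PseudoCoh.exists_Q_map (F := K) eP.hom
  have hz : IsZero (DRing.toD (CochainComplex.mappingCone q)) :=
    Triangle.isZero₃_of_isIso₁ _ (DerivedCategory.mappingCone_triangle_distinguished q)
      (show IsIso (DerivedCategory.Q.map q) by rw [hq]; infer_instance)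
  let C := CochainComplex.mappingCone q
  have hx : ∀ i, C.ExactAt i := fun i =>
    PseudoCoh.exactAt_of_isLE_toD (n := i - 1) (t.isLE_of_isZero hz _) (by omega)
  have hPflat : ∀ i, Module.Flat R (P.X i) := fun i => by
    haveI := hPp i
    haveI : Module.Projective R (P.X i) := (IsProjective.iff_projective (P.X i)).2 inferInstance
    exact Module.Flat.of_projective
  have hCflat : ∀ i, Module.Flat R (C.X i) := fun i => by
    haveI := hPflat (i + 1); haveI := hflat i
    haveI : Module.Flat R (ModuleCat.of R (P.X (i + 1) × K.X i)) :=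
      (PseudoCoh.flat_prod' : Module.Flat R (P.X (i + 1) × K.X i))
    exact Module.Flat.of_linearEquiv
      (HomologicalComplex.homotopyCofiber.XIsoBiprod q i (i + 1) rfl ≪≫ ModuleCat.biprodIsoProd _ _).toLinearEquiv
  haveI := PseudoCoh.flat_coker (E := C) (j := a) (b := b) i₀ hia (fun i hi =>
    (CochainComplex.mappingCone.isZero_X_iff q i).2 ⟨hPb _ (by omega), hb i hi⟩) hCflat (fun l _ => hx l)
  haveI := hPflat (a + 1)
  let fst := fun (i j : ℤ) (h : i + 1 = j) => ((CochainComplex.mappingCone.fst q).1.v i j h).hom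
  let snd := fun (i : ℤ) => ((CochainComplex.mappingCone.snd q).v i i (add_zero i)).hom
  let inl := fun (i j : ℤ) (h : j + 1 = i) => ((CochainComplex.mappingCone.inl q).v i j (by omega)).hom
  let inr := fun (i : ℤ) => ((CochainComplex.mappingCone.inr q).f i).hom
  have dinr : ∀ x, (C.d i₀ a).hom (inr i₀ x) = inr a ((K.d i₀ a).hom x) := fun x =>
    ConcreteCategory.congr_hom ((CochainComplex.mappingCone.inr q).comm i₀ a) x
  have dinl : ∀ x, (C.d i₀ a).hom (inl a i₀ hia x) = inr a ((q.f a).hom x) - inl (a + 1) a rfl ((P.d a (a + 1)).hom x) :=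
    fun x => ConcreteCategory.congr_hom (CochainComplex.mappingCone.inl_v_d q a i₀ (a + 1) (by omega) (by omega)) x
  have fd : ∀ z, fst a (a + 1) rfl ((C.d i₀ a).hom z) = -(P.d a (a + 1)).hom (fst i₀ a hia z) := fun z =>
    ConcreteCategory.congr_hom (CochainComplex.mappingCone.d_fst_v q i₀ a (a + 1) hia rfl) z
  have sd : ∀ z, snd a ((C.d i₀ a).hom z) = (q.f a).hom (fst i₀ a hia z) + (K.d i₀ a).hom (snd i₀ z) := fun z =>
    ConcreteCategory.congr_hom (CochainComplex.mappingCone.d_snd_v q i₀ a hia) z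
  have idX : ∀ z, z = inl (a + 1) a rfl (fst a (a + 1) rfl z) + inr a (snd a z) := fun z =>
    (ConcreteCategory.congr_hom (CochainComplex.mappingCone.id_X q a (a + 1) rfl) z).symm
  let RP := LinearMap.range (P.d i₀ a).hom
  let RK := LinearMap.range (K.d i₀ a).hom
  let RC := LinearMap.range (C.d i₀ a).hom
  let ι : (P.X a ⧸ RP) →ₗ[R] (K.X a ⧸ RK) × P.X (a + 1) := LinearMap.prod
    (Submodule.mapQ RP RK (q.f a).hom (by
      rintro _ ⟨x, rfl⟩
      exact ⟨_, ConcreteCategory.congr_hom (q.comm i₀ a) x⟩))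
    (-Submodule.liftQ RP (P.d a (a + 1)).hom (by
      rintro _ ⟨x, rfl⟩
      exact ConcreteCategory.congr_hom (P.d_comp_d i₀ a (a + 1)) x))
  let π : (K.X a ⧸ RK) × P.X (a + 1) →ₗ[R] C.X a ⧸ RC := LinearMap.coprod
    (Submodule.mapQ RK RC (inr a) (by
      rintro _ ⟨x, rfl⟩
      exact ⟨_, dinr x⟩))
    (RC.mkQ ∘ₗ inl (a + 1) a rfl)
  haveI : Module.Flat R ((K.X a ⧸ RK) × P.X (a + 1)) := by
    refine PseudoCoh.flat_of_exact ι π ((injective_iff_map_eq_zero _).2 fun x hx0 => ?_) (fun y => ?_)
      (fun y => ⟨fun hy => ?_, ?_⟩)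
    · obtain ⟨x, rfl⟩ := Submodule.Quotient.mk_surjective _ x
      obtain ⟨w, hw⟩ := (Submodule.Quotient.mk_eq_zero _).1 (congrArg Prod.fst hx0)
      have hdx : (P.d a (a + 1)).hom x = 0 := neg_eq_zero.1 (congrArg Prod.snd hx0)
      have hc : inl a i₀ hia x - inr i₀ w ∈ LinearMap.ker (C.d i₀ a).hom := by
        rw [LinearMap.mem_ker, map_sub, dinl, dinr, hdx, hw, map_zero, sub_zero, sub_self]
      rw [← PseudoCoh.range_eq_ker C (show i₀ - 1 + 1 = i₀ by omega) hia (hx i₀)] at hc
      obtain ⟨z, hz'⟩ := hc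
      refine (Submodule.Quotient.mk_eq_zero _).2 ⟨-fst (i₀ - 1) i₀ (by omega) z, ?_⟩
      have h1 : fst i₀ a hia ((C.d (i₀ - 1) i₀).hom z) = -(P.d i₀ a).hom (fst (i₀ - 1) i₀ (by omega) z) :=
        ConcreteCategory.congr_hom (CochainComplex.mappingCone.d_fst_v q (i₀ - 1) i₀ a (by omega) hia) z
      rw [hz', map_sub, show fst i₀ a hia (inl a i₀ hia x) = x from
        ConcreteCategory.congr_hom (CochainComplex.mappingCone.inl_v_fst_v q a i₀ hia) x,
        show fst i₀ a hia (inr i₀ w) = 0 from
        ConcreteCategory.congr_hom (CochainComplex.mappingCone.inr_f_fst_v q i₀ a hia) w, sub_zero] at h1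
      rw [map_neg]; exact h1.symm
    · obtain ⟨z, rfl⟩ := Submodule.Quotient.mk_surjective _ y
      refine ⟨(Submodule.Quotient.mk (snd a z), fst a (a + 1) rfl z), ?_⟩
      exact congrArg Submodule.Quotient.mk ((add_comm _ _).trans (idX z).symm)
    · obtain ⟨yk, yp⟩ := y
      obtain ⟨k, rfl⟩ := Submodule.Quotient.mk_surjective _ yk
      obtain ⟨z, hz'⟩ := (Submodule.Quotient.mk_eq_zero _).1 hy
      replace hz' : (C.d i₀ a).hom z = inr a k + inl (a + 1) a rfl yp := hz'
      refine ⟨Submodule.Quotient.mk (fst i₀ a hia z), Prod.ext ?_ ?_⟩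
      · have h2 := sd z
        rw [hz', map_add, show snd a (inr a k) = k from
          ConcreteCategory.congr_hom (CochainComplex.mappingCone.inr_f_snd_v q a) k,
          show snd a (inl (a + 1) a rfl yp) = 0 from
          ConcreteCategory.congr_hom (CochainComplex.mappingCone.inl_v_snd_v q (a + 1) a (by omega)) yp, add_zero] at h2
        exact (Submodule.Quotient.eq _).2 ⟨-snd i₀ z, by rw [map_neg, h2]; abel⟩
      · have h2 := fd z
        rw [hz', map_add, show fst a (a + 1) rfl (inr a k) = 0 from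
          ConcreteCategory.congr_hom (CochainComplex.mappingCone.inr_f_fst_v q a (a + 1) rfl) k,
          show fst a (a + 1) rfl (inl (a + 1) a rfl yp) = yp from
          ConcreteCategory.congr_hom (CochainComplex.mappingCone.inl_v_fst_v q (a + 1) a rfl) yp, zero_add] at h2
        exact h2.symm
    · rintro ⟨x, rfl⟩
      obtain ⟨x, rfl⟩ := Submodule.Quotient.mk_surjective _ x
      refine (Submodule.Quotient.mk_eq_zero _).2 ⟨inl a i₀ hia x, ?_⟩
      rw [dinl]; change _ = inr a ((q.f a).hom x) + inl (a + 1) a rfl (-(P.d a (a + 1)).hom x)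
      rw [map_neg, sub_eq_add_neg]
  exact Module.Flat.of_retract (LinearMap.inl R (K.X a ⧸ RK) (P.X (a + 1))) (LinearMap.fst R _ _) (LinearMap.fst_comp_inl R _ _)

end Groth.Agent.S6944
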