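import Groth.Statements.S6945
import Groth.Agent.KFlatLib.LCompute
import Groth.Agent.KFlatLib.TensorFlat
import Groth.Agent.PseudoCoh.TorAmp

set_option autoImplicit false
universe u
open CategoryTheory CategoryTheory.Limits
attribute [local instance] HasDerivedCategory.standard
open DRing DerivedCategory.TStructure
open scoped MonoidalCategory

namespace Groth.Agent.S6945

open MonoidalCategory in
theorem flat_quotient_of_exact {R : Type u} [CommRing R] {M₀ M₁ M₂ : Type u} [AddCommGroup M₀] [Module R M₀]
    [AddCommGroup M₁] [Module R M₁] [AddCommGroup M₂] [Module R M₂] [Module.Flat R M₀]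
    (f : M₂ →ₗ[R] M₁) (g : M₁ →ₗ[R] M₀) (hgf : g.comp f = 0)
    (h : ∀ (N : Type u) [AddCommGroup N] [Module R N], Function.Exact (f.rTensor N) (g.rTensor N)) :
    Module.Flat R (M₀ ⧸ LinearMap.range g) := by
  rw [Module.Flat.iff_lTensor_preserves_injective_linearMap]
  intro N N' _ _ _ _ l hl
  let p := (LinearMap.range g).mkQ
  have hpg : Function.Exact g p := LinearMap.exact_map_mkQ_range g
  let π := (LinearMap.range l).mkQ
  have hlπ : Function.Exact l π := LinearMap.exact_map_mkQ_range l
  have hπ : Function.Surjective π := Submodule.mkQ_surjective _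
  have hp : Function.Surjective p := Submodule.mkQ_surjective _
  rw [injective_iff_map_eq_zero]
  intro q hq
  obtain ⟨x, rfl⟩ := LinearMap.rTensor_surjective N hp q
  rw [← LinearMap.comp_apply, LinearMap.lTensor_comp_rTensor, ← LinearMap.rTensor_comp_lTensor,
    LinearMap.comp_apply] at hq
  obtain ⟨y, hy⟩ := (rTensor_exact N' hpg hp _).1 hq
  have h₀ : g.rTensor (N' ⧸ LinearMap.range l) (π.lTensor M₁ y) = 0 := by
    rw [← LinearMap.comp_apply, LinearMap.rTensor_comp_lTensor, ← LinearMap.lTensor_comp_rTensor,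
      LinearMap.comp_apply, hy, (lTensor_exact M₀ hlπ hπ).apply_apply_eq_zero]
  obtain ⟨z, hz⟩ := (h _ _).1 h₀
  obtain ⟨z', rfl⟩ := LinearMap.lTensor_surjective M₂ hπ z
  have h₁ : π.lTensor M₁ (y - f.rTensor N' z') = 0 := by
    rw [map_sub, ← hz, ← LinearMap.comp_apply (π.lTensor M₁), LinearMap.lTensor_comp_rTensor,
      ← LinearMap.rTensor_comp_lTensor, LinearMap.comp_apply, sub_self]
  obtain ⟨d, hd⟩ := (lTensor_exact M₁ hlπ hπ _).1 h₁
  have h₂ : l.lTensor M₀ (g.rTensor N d) = l.lTensor M₀ x := by
    rw [← LinearMap.comp_apply, LinearMap.lTensor_comp_rTensor, ← LinearMap.rTensor_comp_lTensor,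
      LinearMap.comp_apply, hd, map_sub, hy, ← LinearMap.comp_apply (g.rTensor N'), ← LinearMap.rTensor_comp, hgf]
    simp
  rw [← Module.Flat.lTensor_preserves_injective_linearMap l hl h₂]
  exact (rTensor_exact N hpg hp).apply_apply_eq_zero d


/-- With the definition of tor amplitude: let R be a commutative ring, K an object of D(R) and a, b
integers, and assume the derived tensor product - ⊗^L_R M exists on D(R) for every R-module M. Then
K is isomorphic in D(R) to a complex of flat R-modules vanishing outside [a, b] if and only if H^i(K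
⊗^L_R M) = 0 for every R-module M and every integer i outside [a, b]. -/
theorem result (R : Type u) [CommRing R]
    [∀ M : ModuleCat.{u} R, DRing.HasLTensor R M] (K : Dual.D R) (a b : ℤ) :
    DRing.HasTorAmplitudeIn R a b K ↔
      ∀ (M : ModuleCat.{u} R) (i : ℤ), (i < a ∨ b < i) → Subsingleton (Dual.HD R ((DRing.LTensor R M).obj K) i) := by
  constructor
  · rintro ⟨E, hE, hflat, ⟨e⟩⟩ M i hi
    have hK : Groth.Agent.KFlatLib.IsKFlat (Groth.Agent.KFlatLib.TM R).flip E :=
      (Groth.Agent.KFlatLib.isKFlat_flip_iff_module E).2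
        (Groth.Agent.KFlatLib.isKFlat_of_bounded_above _ E b (fun j hj => hE j (Or.inr hj))
          fun j => (Groth.Agent.KFlatLib.tflat_of_flat (hflat j)).2)
    obtain ⟨e'⟩ := Groth.Agent.KFlatLib.nonempty_tensorIso_ring M E hK
    let G := ((MonoidalCategory.tensorRight M).mapHomologicalComplex (ComplexShape.up ℤ)).obj E
    have hG : IsZero (G.X i) := (MonoidalCategory.tensorRight M).map_isZero (hE i hi)
    have h0 : IsZero (G.homology i) :=
      ShortComplex.isZero_homology_of_isZero_X₂ (G.sc i) hG
    exact ModuleCat.subsingleton_of_isZero (h0.of_iso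
      ((DerivedCategory.homologyFunctor (ModuleCat.{u} R) i).mapIso ((DRing.LTensor R M).mapIso e.symm ≪≫ e') ≪≫
        (DerivedCategory.homologyFunctorFactors (ModuleCat.{u} R) i).app G))
  · intro h
    let U : ModuleCat.{u} R := 𝟙_ _
    have hzero : ∀ i, i < a ∨ b < i → IsZero ((DerivedCategory.homologyFunctor (ModuleCat.{u} R) i).obj K) := by
      intro i hi
      obtain ⟨P, q, hP, hq⟩ := Groth.Agent.KFlatLib.exists_flip_resolution_module R (DerivedCategory.Q.objPreimage K)
      obtain ⟨e'⟩ := Groth.Agent.KFlatLib.nonempty_tensorIso_ring U P hP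
      haveI : IsIso (DerivedCategory.Q.map q) :=
        Localization.inverts DerivedCategory.Q (HomologicalComplex.quasiIso _ _) q
          ((HomologicalComplex.mem_quasiIso_iff _).2 hq)
      let eK : DerivedCategory.Q.obj P ≅ K := asIso (DerivedCategory.Q.map q) ≪≫ DerivedCategory.Q.objObjPreimageIso K
      let ρ : ((MonoidalCategory.tensorRight U).mapHomologicalComplex (ComplexShape.up ℤ)).obj P ≅ P :=
        HomologicalComplex.Hom.isoOfComponents (fun j => ρ_ (P.X j)) fun j k _ =>
          (MonoidalCategory.rightUnitor_naturality (P.d j k)).symm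
      have eLK : (DRing.LTensor R U).obj K ≅ K :=
        (DRing.LTensor R U).mapIso eK.symm ≪≫ e' ≪≫ DerivedCategory.Q.mapIso ρ ≪≫ eK
      exact (ModuleCat.isZero_of_iff_subsingleton.2 (h U i hi)).of_iso
        ((DerivedCategory.homologyFunctor (ModuleCat.{u} R) i).mapIso eLK.symm)
    have hle : t.IsLE K b := (DerivedCategory.isLE_iff _ _).2 fun i hi => hzero i (Or.inr hi)
    have hge : t.IsGE K a := (DerivedCategory.isGE_iff _ _).2 fun i hi => hzero i (Or.inl hi)
    obtain ⟨P, hPb, hproj, -, ⟨eP⟩⟩ := Groth.Agent.PseudoCoh.exists_projective_le K b hle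
    have hflat : DRing.TermwiseFlat P := fun i => by
      haveI := hproj i
      haveI : Module.Projective R (P.X i) := (IsProjective.iff_projective (P.X i)).2 inferInstance
      infer_instance
    have hK : Groth.Agent.KFlatLib.IsKFlat (Groth.Agent.KFlatLib.TM R).flip P :=
      (Groth.Agent.KFlatLib.isKFlat_flip_iff_module P).2
        (Groth.Agent.KFlatLib.isKFlat_of_bounded_above _ P b hPb
          fun j => (Groth.Agent.KFlatLib.tflat_of_flat (hflat j)).2)
    refine Groth.Agent.PseudoCoh.torAmplitude_of_iso eP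
      (Groth.Agent.PseudoCoh.torAmplitude_of_complex (sub_add_cancel a 1) hPb hflat
        (t.isGE_of_iso eP.symm a) (t.isLE_of_iso eP.symm b) ?_)
    haveI := hflat a
    refine flat_quotient_of_exact (P.d (a - 1 - 1) (a - 1)).hom (P.d (a - 1) a).hom ?_ fun N _ _ => ?_
    · exact congrArg ModuleCat.Hom.hom (P.d_comp_d (a - 1 - 1) (a - 1) a)
    · let G := ((MonoidalCategory.tensorRight (ModuleCat.of R N)).mapHomologicalComplex (ComplexShape.up ℤ)).obj P
      obtain ⟨e'⟩ := Groth.Agent.KFlatLib.nonempty_tensorIso_ring (ModuleCat.of R N) P hK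
      have h0 : IsZero (G.homology (a - 1)) :=
        (ModuleCat.isZero_of_iff_subsingleton.2 (h (ModuleCat.of R N) (a - 1) (Or.inl (sub_one_lt a)))).of_iso
        (((DerivedCategory.homologyFunctorFactors (ModuleCat.{u} R) (a - 1)).app G).symm ≪≫
          (DerivedCategory.homologyFunctor (ModuleCat.{u} R) (a - 1)).mapIso (e'.symm ≪≫ (DRing.LTensor R (ModuleCat.of R N)).mapIso eP))
      have h1 := (HomologicalComplex.exactAt_iff' G (a - 1 - 1) (a - 1) a (by simp) (by simp)).1
        ((HomologicalComplex.exactAt_iff_isZero_homology G (a - 1)).2 h0)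
      exact (ShortComplex.ShortExact.moduleCat_exact_iff_function_exact _).1 h1

end Groth.Agent.S6945
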