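import Groth.Statements.S6947
import Groth.Agent.S6946
import Groth.Agent.PseudoCoh.Restrict

set_option autoImplicit false
universe u
open CategoryTheory CategoryTheory.Limits
attribute [local instance] HasDerivedCategory.standard
open DRing

namespace Groth.Agent.S6947

open CategoryTheory CategoryTheory.Limits CategoryTheory.Pretriangulated DerivedCategory DerivedCategory.TStructure Groth.Agent.PseudoCoh
open Groth.Agent.Flat.LocalCriterion Groth.Agent.Flat.TorDim
open scoped TensorProduct

attribute [local instance] HasDerivedCategory.standard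

lemma torDimLE_of_flat {A B : Type u} [CommRing A] [CommRing B] [Algebra A B] (d : ℕ) (h : DRing.HasTorDimLE A d B)
    (F : Type u) [AddCommGroup F] [Module A F] [Module B F] [IsScalarTower A B F] [Module.Flat B F] :
    DRing.HasTorDimLE A d F := by
  intro N _ _ p hp
  obtain ⟨q, rfl⟩ : ∃ q, q + 1 = p := ⟨p - 1, by omega⟩
  obtain ⟨T, W, t', hT, ht⟩ := exists_syz (R := A) N
  have h1 : TorZero A (T q) B := (ht B q).1 (@ModuleCat.isZero_of_subsingleton _ _ _ (h N (q + 1) hp))
  refine ModuleCat.subsingleton_of_isZero ((ht F q).2 ?_)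
  let ι := (LinearMap.ker (pres A (T q))).subtype
  refine (LinearMap.lTensor_inj_iff_rTensor_inj F ι).1 ?_
  have hb : Function.Injective (ι.baseChange B) := fun x y hxy =>
    (LinearMap.lTensor_inj_iff_rTensor_inj B ι).2 h1 hxy
  have hF := Module.Flat.lTensor_preserves_injective_linearMap (M := F) (ι.baseChange B) hb
  let e₁ := TensorProduct.AlgebraTensorModule.cancelBaseChange A B B F (LinearMap.ker (pres A (T q)))
  let e₂ := TensorProduct.AlgebraTensorModule.cancelBaseChange A B B F (T q →₀ A)
  have key : ∀ z : F ⊗[A] (LinearMap.ker (pres A (T q))),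
      ι.lTensor F z = e₂ ((ι.baseChange B).lTensor F (e₁.symm z)) := fun z => by
    induction z using TensorProduct.induction_on with
    | zero => exact (e₂.map_zero.symm.trans (congrArg e₂ ((((ι.baseChange B).lTensor F).map_zero).symm.trans (congrArg _ e₁.symm.map_zero.symm))))
    | tmul x y =>
      have h1 : e₁.symm (x ⊗ₜ[A] y) = x ⊗ₜ[B] ((1 : B) ⊗ₜ[A] y) := rfl
      rw [h1]
      change x ⊗ₜ[A] ι y = ((1 : B) • x) ⊗ₜ[A] ι y
      rw [one_smul]
    | add x y hx hy => exact ((ι.lTensor F).map_add x y).trans ((congrArg₂ (· + ·) hx hy).trans ((e₂.map_add _ _).symm.trans (congrArg e₂ ((((ι.baseChange B).lTensor F).map_add _ _).symm.trans (congrArg _ (e₁.symm.map_add x y).symm)))))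
  intro x y hxy
  rw [key, key] at hxy
  exact e₁.symm.injective (hF (e₂.injective hxy))

/-- Let A → B be a homomorphism of commutative rings such that B, as an A-module, has tor dimension at
most d: B[0] is isomorphic in D(A) to a complex of flat A-modules vanishing outside [-d, 0]. Let K
be an object of D(B) with tor amplitude in [a, b] over B. Then K, with scalars restricted to A, has
tor amplitude in [a - d, b] over A. -/
theorem result {A B : Type u} [CommRing A] [CommRing B]
    [Algebra A B] (d : ℕ) (hB : DRing.HasTorAmplitudeIn A (-(d : ℤ)) 0 (Dual.inD A B)) (K : Dual.D B)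
    (a b : ℤ) (hK : DRing.HasTorAmplitudeIn B a b K) :
    DRing.HasTorAmplitudeIn A (a - d) b ((DRing.restrictD (algebraMap A B)).obj K) := by
  obtain ⟨E, hE, hflat, ⟨e⟩⟩ := hK
  let φ := algebraMap A B
  refine torAmplitude_of_iso ((DRing.restrictD φ).mapIso e) ?_
  have hdim : DRing.HasTorDimLE A d B := (S6946.result A B d).1.2 hB
  have hz : ∀ L : Dual.D B, IsZero L → DRing.HasTorAmplitudeIn A (a - d) b ((DRing.restrictD φ).obj L) := fun L hL =>
    ⟨HomologicalComplex.zero, fun i _ => isZero_zero _, fun i => by
      haveI := ModuleCat.subsingleton_of_isZero (isZero_zero (ModuleCat.{u} A))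
      haveI : Subsingleton ((HomologicalComplex.zero : DRing.Cx A).X i) := this
      infer_instance, ⟨(DerivedCategory.Q.map_isZero HomologicalComplex.isZero_zero).iso ((DRing.restrictD φ).map_isZero hL)⟩⟩
  refine devissage_terms_bounded (Φ := fun L => DRing.HasTorAmplitudeIn A (a - d) b ((DRing.restrictD φ).obj L))
    (fun e h => torAmplitude_of_iso ((DRing.restrictD φ).mapIso e) h) (fun T hT h1 h3 => ?_) E hz a b hE fun i => ?_
  · exact torAmplitude_obj₃ _ (inv_rot_of_distTriang _ ((DRing.restrictD φ).map_distinguished _ hT))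
      (torAmplitude_shift (-1) _ _ (by omega) (by omega) h3) h1
  · by_cases hi : i < a ∨ b < i
    · exact hz _ ((DerivedCategory.singleFunctor (ModuleCat.{u} B) i).map_isZero (hE i hi))
    · refine torAmplitude_of_iso (singleDIso i _ ≪≫
        (((ModuleCat.restrictScalars.{u} φ).mapDerivedCategorySingleFunctor i).app (E.X i)).symm) ?_
      refine torAmplitude_mono (show a - d ≤ i - d by omega) (show i ≤ b by omega)
        (torAmplitude_shift (-i) _ _ (by omega) (by omega)
          ((S6946.result A ((ModuleCat.restrictScalars.{u} φ).obj (E.X i)) d).1.1 ?_))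
      haveI : IsScalarTower A B ((ModuleCat.restrictScalars.{u} φ).obj (E.X i)) :=
        ⟨fun x y z => (congrArg (· • (show E.X i from z)) (Algebra.smul_def x y)).trans
          (mul_smul (φ x) y (show E.X i from z))⟩
      haveI : Module.Flat B ((ModuleCat.restrictScalars.{u} φ).obj (E.X i)) := hflat i
      exact torDimLE_of_flat (B := B) d hdim ((ModuleCat.restrictScalars.{u} φ).obj (E.X i))

end Groth.Agent.S6947
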