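import Groth.Statements.S6952
import Groth.Agent.PseudoCoh.TensorExact
import Groth.Agent.PseudoCoh.Nilpotent

set_option autoImplicit false
universe u
open CategoryTheory CategoryTheory.Limits
attribute [local instance] HasDerivedCategory.standard
open DRing

namespace Groth.Agent.S6952

open CategoryTheory CategoryTheory.Limits CategoryTheory.Pretriangulated DerivedCategory DerivedCategory.TStructure Groth.Agent.PseudoCoh

attribute [local instance] HasDerivedCategory.standard

/-- Let R' → R be a surjective homomorphism of commutative rings whose kernel is a nilpotent ideal, such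
that the derived base change D(R') → D(R) exists. Let K' be an object of D(R') and a, b integers.
Then K' ⊗^L R has tor amplitude in [a, b] over R if and only if K' has tor amplitude in [a, b] over
R'. -/
theorem result {R' R : Type u} [CommRing R']
    [CommRing R] (φ : R' →+* R) (hφ : Function.Surjective φ) (hnil : IsNilpotent (RingHom.ker φ))
    [DRing.HasLBaseChange φ] (K' : Dual.D R') (a b : ℤ) :
    DRing.HasTorAmplitudeIn R a b ((DRing.LBaseChange φ).obj K') ↔ DRing.HasTorAmplitudeIn R' a b K' := by
  refine ⟨fun h => ?_, fun h => torAmplitude_lBaseChange φ h⟩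
  obtain ⟨k, hk⟩ := hnil
  have hle : t.IsLE K' b := isLE_of_lBaseChange φ φ hφ hφ ⟨k, by rw [mul_pow, hk]; exact Ideal.mul_bot _⟩
    (isLE_of_torAmplitude h) (isLE_of_torAmplitude h)
  obtain ⟨P, hPb, hPp, -, ⟨e⟩⟩ := exists_projective_le K' b hle
  have hflat : ∀ i, Module.Flat R' (P.X i) := fun i => by
    haveI := hPp i
    haveI : Module.Projective R' (P.X i) := (IsProjective.iff_projective (P.X i)).2 inferInstance
    exact Module.Flat.of_projective
  refine torAmplitude_of_iso e (torAmplitude_of_tex hPb hflat (t.isLE_of_iso e.symm b) fun N _ _ n hn => ?_)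
  exact tex_of_killed_pow hflat (RingHom.ker φ) a (fun N _ _ hN n hn => tex_of_killed φ hφ hPb hPp
    (torAmplitude_of_iso ((DRing.LBaseChange φ).mapIso e.symm) h) N hN hn) k N
    (fun r hr x => by rw [hk] at hr; obtain rfl : r = 0 := hr; exact zero_smul R' x) n hn

end Groth.Agent.S6952
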