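import Groth.Statements.S6955
import Groth.Agent.PseudoCoh.TorAmp
import Groth.Agent.PseudoCoh.Coherent
import Mathlib.CategoryTheory.Abelian.Projective.Extend

set_option autoImplicit false
universe u
open CategoryTheory CategoryTheory.Limits
attribute [local instance] HasDerivedCategory.standard
open DRing

namespace Groth.Agent.S6955

open CategoryTheory CategoryTheory.Limits DerivedCategory DerivedCategory.TStructure Groth.Agent.PseudoCoh

attribute [local instance] HasDerivedCategory.standard

/-- Let R be a commutative ring and M an R-module. Then M is perfect (M[0] is isomorphic in D(R) to a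
bounded complex of finite projective modules) if and only if M admits a projective resolution of
finite length whose terms are finitely generated, i.e. a resolution 0 → F_d → ... → F_0 → M → 0 by
finite projective modules. -/
theorem result (R : Type u) [CommRing R] (M : Type u)
    [AddCommGroup M] [Module R M] :
    DRing.IsPerfectModule R M ↔
      ∃ (P : ProjectiveResolution (ModuleCat.of R M)) (d : ℕ),
        (∀ i : ℕ, d < i → IsZero (P.complex.X i)) ∧ ∀ i : ℕ, Module.Finite R (P.complex.X i) := by
  constructor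
  · intro h
    obtain ⟨hpc, a₀, b₀, hab⟩ := (perfect_iff (Dual.inD R M)).1 h
    have hge : t.IsGE (Dual.inD R M) 0 :=
      (inferInstance : t.IsGE ((DerivedCategory.singleFunctor (ModuleCat.{u} R) 0).obj (ModuleCat.of R M)) 0)
    have hle : t.IsLE (Dual.inD R M) 0 := isLE_inD M
    have hamp : DRing.HasTorAmplitudeIn R (min a₀ 0) 0 (Dual.inD R M) := by
      obtain ⟨P, hPb, hPp, hPK, ⟨eP⟩⟩ := exists_projective_le (Dual.inD R M) 0 hle
      haveI := t.isGE_of_iso eP.symm 0
      exact torAmplitude_of_iso eP (torAmplitude_of_complex (sub_add_cancel (min a₀ 0) 1) hPb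
        (fun i => haveI := hPp i
          haveI : Module.Projective R (P.X i) := (IsProjective.iff_projective (P.X i)).2 inferInstance
          Module.Flat.of_projective)
        (t.isGE_of_ge _ (min a₀ 0) 0 (min_le_right _ _)) (t.isLE_of_iso eP.symm 0)
        (flat_coker_of_torAmplitude (sub_add_cancel (min a₀ 0) 1) hPb hPp eP
          (torAmplitude_mono (min_le_left _ _) (le_max_left b₀ 0) hab)))
    obtain ⟨E, hE, hfp, ⟨eE⟩⟩ := perfectAmplitude_of_approx (p := min a₀ 0 - 2) (by omega) (min_le_right a₀ 0) (hpc _) hamp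
    have hx : ∀ i, i < 0 → E.ExactAt i := fun i hi => exactAt_of_isGE_toD (t.isGE_of_iso eE.symm 0) hi
    let C : ChainComplex (ModuleCat.{u} R) ℕ :=
      ChainComplex.of (fun n => E.X (-(n : ℤ))) (fun n => E.d (-((n + 1 : ℕ) : ℤ)) (-(n : ℤ))) fun n => E.d_comp_d _ _ _
    have hd0 : E.d (-((0 : ℕ) : ℤ)) 1 = 0 := (hE 1 (Or.inr one_pos)).eq_of_tgt _ _
    let ε : E.opcycles (-((0 : ℕ) : ℤ)) ≅ ModuleCat.of R M :=
      (@asIso _ _ _ _ (E.homologyι (-((0 : ℕ) : ℤ))) (E.isIso_homologyι _ 1 (by simp) hd0)).symm ≪≫
        ((DerivedCategory.homologyFunctorFactors (ModuleCat.{u} R) 0).app E).symm ≪≫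
        (DerivedCategory.homologyFunctor (ModuleCat.{u} R) 0).mapIso eE ≪≫
        (DerivedCategory.singleFunctorCompHomologyFunctorIso (ModuleCat.{u} R) 0).app (ModuleCat.of R M)
    have hd : ∀ n, C.d (n + 1) n = E.d (-((n + 1 : ℕ) : ℤ)) (-(n : ℤ)) := fun n => by simp only [C, ChainComplex.of_d]
    have hπ : C.d 1 0 ≫ (E.pOpcycles (-((0 : ℕ) : ℤ)) ≫ ε.hom) = 0 := by
      rw [show C.d 1 0 = _ from hd 0]
      rw [← Category.assoc, E.d_pOpcycles, zero_comp]
    let P : ProjectiveResolution (ModuleCat.of R M) :=
      { complex := C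
        projective := fun n => haveI := (hfp (-(n : ℤ))).2; (IsProjective.iff_projective (E.X (-(n : ℤ)))).1 inferInstance
        π := (ChainComplex.toSingle₀Equiv _ _).symm ⟨E.pOpcycles (-((0 : ℕ) : ℤ)) ≫ ε.hom, hπ⟩
        quasiIso := ⟨fun n => by
          cases n with
          | zero =>
            rw [ChainComplex.quasiIsoAt₀_iff, ShortComplex.quasiIso_iff_of_zeros']
            · have h0 : (ShortComplex.mk (E.d (-((1 : ℕ) : ℤ)) (-((0 : ℕ) : ℤ))) (E.pOpcycles (-((0 : ℕ) : ℤ)))
                  (E.d_pOpcycles _ _)).Exact ∧ Epi (E.pOpcycles (-((0 : ℕ) : ℤ))) :=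
                ⟨ShortComplex.exact_of_g_is_cokernel _ (E.opcyclesIsCokernel _ _ (by simp)), inferInstance⟩
              refine (ShortComplex.exact_and_epi_g_iff_of_iso ?_).1 h0
              refine ShortComplex.isoMk (Iso.refl _) (Iso.refl _) ε ?_ ?_
              · exact (Category.id_comp _).trans ((hd 0).trans (Category.comp_id _).symm)
              · exact (Category.id_comp _).trans (ChainComplex.toSingle₀Equiv_symm_apply_f_zero _ _)
            all_goals rfl
          | succ n =>
            rw [quasiIsoAt_iff_exactAt' _ _ (ChainComplex.exactAt_succ_single_obj _ _)]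
            rw [C.exactAt_iff' (n + 1 + 1) (n + 1) n (by simp) (by simp)]
            have := hx (-((n + 1 : ℕ) : ℤ)) (by push_cast; omega)
            rw [E.exactAt_iff' (-((n + 1 + 1 : ℕ) : ℤ)) (-((n + 1 : ℕ) : ℤ)) (-(n : ℤ))
              (by simp <;> omega) (by simp <;> omega)] at this
            refine ShortComplex.exact_of_iso ?_ this
            refine ShortComplex.isoMk (Iso.refl _) (Iso.refl _) (Iso.refl _) ?_ ?_
            · exact (Category.id_comp _).trans ((hd (n + 1)).trans (Category.comp_id _).symm)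
            · exact (Category.id_comp _).trans ((hd n).trans (Category.comp_id _).symm)⟩ }
    refine ⟨P, (-(min a₀ 0)).toNat, fun i hi => hE (-(i : ℤ)) (Or.inl (by omega)), fun i => (hfp (-(i : ℤ))).1⟩
  · rintro ⟨P, d, hz, hfin⟩
    refine ⟨P.cochainComplex, -(d : ℤ), 0, fun i hi => ?_, fun i => ?_, ⟨asIso (DerivedCategory.Q.map P.π') ≪≫
      ((DerivedCategory.singleFunctorIsoCompQ (ModuleCat.{u} R) 0).app _).symm⟩⟩
    · rcases hi with hi | hi
      · obtain ⟨k, rfl⟩ := Int.exists_eq_neg_ofNat (show i ≤ 0 by omega)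
        exact (hz k (by omega)).of_iso (P.cochainComplexXIso (-(k : ℤ)) k rfl)
      · exact CochainComplex.isZero_of_isStrictlyLE P.cochainComplex 0 i hi
    · have hp : Projective (P.cochainComplex.X i) := inferInstance
      refine ⟨?_, (IsProjective.iff_projective (P.cochainComplex.X i)).2 hp⟩
      rcases le_or_gt i 0 with hi | hi
      · obtain ⟨k, rfl⟩ := Int.exists_eq_neg_ofNat hi
        haveI := hfin k
        exact Module.Finite.equiv (P.cochainComplexXIso (-(k : ℤ)) k rfl).toLinearEquiv.symm
      · haveI := ModuleCat.subsingleton_of_isZero (CochainComplex.isZero_of_isStrictlyLE P.cochainComplex 0 i hi)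
        infer_instance

end Groth.Agent.S6955
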