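import Groth.Statements.S6956
import Groth.Agent.PseudoCoh.TorAmp
import Groth.Agent.PseudoCoh.Restrict
import Groth.Agent.S6947

set_option autoImplicit false
universe u
open CategoryTheory CategoryTheory.Limits
attribute [local instance] HasDerivedCategory.standard
open DRing

namespace Groth.Agent.S6956

open CategoryTheory CategoryTheory.Limits CategoryTheory.Pretriangulated DerivedCategory DerivedCategory.TStructure Groth.Agent.PseudoCoh

attribute [local instance] HasDerivedCategory.standard

/-- Let A → B be a homomorphism of commutative rings such that B is perfect as an A-module, and let K be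
a perfect object of D(B). Then K, with scalars restricted to A, is a perfect object of D(A). -/
theorem result {A B : Type u} [CommRing A] [CommRing B] [Algebra A B]
    (hB : DRing.IsPerfectModule A B) (K : Dual.D B) (hK : DRing.IsPerfect B K) :
    DRing.IsPerfect A ((DRing.restrictD (algebraMap A B)).obj K) := by
  obtain ⟨hKa, a, b, hKt⟩ := (perfect_iff K).1 hK
  obtain ⟨hBa, c, e, hBt⟩ := (perfect_iff (Dual.inD A B)).1 hB
  obtain ⟨d, hd⟩ : ∃ d : ℕ, -(d : ℤ) ≤ c := ⟨(-c).toNat, by omega⟩
  have hdim : DRing.HasTorAmplitudeIn A (-(d : ℤ)) 0 (Dual.inD A B) := by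
    have hge : t.IsGE (Dual.inD A B) (-(d : ℤ)) := isGE_of_torAmplitude (torAmplitude_mono hd le_rfl hBt)
    have hle : t.IsLE (Dual.inD A B) 0 :=
      (inferInstance : t.IsLE ((DerivedCategory.singleFunctor (ModuleCat.{u} A) 0).obj (ModuleCat.of A B)) 0)
    obtain ⟨P, hP0, hP, -, ⟨eP⟩⟩ := exists_projective_le (Dual.inD A B) 0 hle
    refine torAmplitude_of_iso eP (torAmplitude_of_complex (i₀ := -(d : ℤ) - 1) (sub_add_cancel _ 1) hP0 (fun i => ?_)
      (t.isGE_of_iso eP.symm _) (t.isLE_of_iso eP.symm _)
      (flat_coker_of_torAmplitude (sub_add_cancel _ 1) hP0 hP eP (torAmplitude_mono hd le_rfl hBt)))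
    haveI := hP i
    haveI : Module.Projective A (P.X i) := (IsProjective.iff_projective (P.X i)).2 inferInstance
    exact Module.Flat.of_projective
  have hpc : PCHom (algebraMap A B) := fun n => approx_of_iso ((DerivedCategory.singleFunctor (ModuleCat.{u} A) 0).mapIso
    (LinearEquiv.toModuleIso (X₁ := B) (X₂ := (ModuleCat.restrictScalars.{u} (algebraMap A B)).obj (ModuleCat.of B B))
      { AddEquiv.refl B with map_smul' := fun a x => Algebra.smul_def a x })) (hBa n)
  exact (perfect_iff _).2 ⟨fun n => approx_restrict _ hpc (hKa n), _, _, S6947.result d hdim K a b hKt⟩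

end Groth.Agent.S6956
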