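import Groth.Statements.S6957
import Groth.Agent.PseudoCoh.BaseChange

set_option autoImplicit false
universe u
open CategoryTheory CategoryTheory.Limits
attribute [local instance] HasDerivedCategory.standard
open DRing

namespace Groth.Agent.S6957

/-- Let A → B be a homomorphism of commutative rings such that the derived base change D(A) → D(B)
exists, and let K be a perfect object of D(A). Then K ⊗^L_A B is a perfect object of D(B). -/
theorem result {A B : Type u} [CommRing A] [CommRing B] (φ : A →+* B)
    [DRing.HasLBaseChange φ] (K : Dual.D A) (hK : DRing.IsPerfect A K) :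
    DRing.IsPerfect B ((DRing.LBaseChange φ).obj K) := by
  obtain ⟨E, a, b, hab, hfp, ⟨e⟩⟩ := hK
  haveI : E.IsStrictlyLE b := (E.isStrictlyLE_iff b).2 fun i hi => hab i (Or.inr hi)
  haveI : ∀ i, Projective (E.X i) := fun i => by
    haveI := (hfp i).2
    exact (IsProjective.iff_projective (E.X i)).1 inferInstance
  haveI : CochainComplex.IsKProjective E := E.isKProjective_of_projective b
  refine ⟨(Groth.Agent.PseudoCoh.Fc φ).obj E, a, b,
    fun i hi => (ModuleCat.extendScalars.{u, u, u} φ).map_isZero (hab i hi), fun i => ?_,
    ⟨(Groth.Agent.KProjRes.lBaseChangeIso φ E).symm ≪≫ (DRing.LBaseChange φ).mapIso e⟩⟩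
  letI := φ.toAlgebra
  obtain ⟨h1, h2⟩ := hfp i
  exact ⟨(inferInstance : Module.Finite B (TensorProduct A B (E.X i))),
    (inferInstance : Module.Projective B (TensorProduct A B (E.X i)))⟩

end Groth.Agent.S6957
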