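import Groth.Statements.S6958
import Groth.Agent.PseudoCoh.BaseChangeAmp

set_option autoImplicit false
universe u
open CategoryTheory CategoryTheory.Limits
attribute [local instance] HasDerivedCategory.standard
open DRing

namespace Groth.Agent.S6958

open CategoryTheory CategoryTheory.Limits Groth.Agent.PseudoCoh

/-- Let A → B be a flat homomorphism of commutative rings and M a perfect A-module. Then B ⊗_A M is a
perfect B-module. -/
theorem result {A B : Type u} [CommRing A] [CommRing B] [Algebra A B]
    [Module.Flat A B] (M : Type u) [AddCommGroup M] [Module A M] (hM : DRing.IsPerfectModule A M) :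
    DRing.IsPerfectModule B (TensorProduct A B M) := by
  haveI := Groth.Agent.KProjRes.hasLBaseChange (algebraMap A B)
  obtain ⟨e⟩ := nonempty_flat_lBaseChange_inD (A := A) (S := B) M
  obtain ⟨hpc, a, b, hab⟩ := (perfect_iff _).1 hM
  exact (perfect_iff _).2 ⟨fun n => approx_of_iso e (approx_lBaseChange (algebraMap A B) (hpc n)),
    a, b, torAmplitude_of_iso e (torAmplitude_lBaseChange (algebraMap A B) hab)⟩

end Groth.Agent.S6958
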