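import Groth.Statements.S6959
import Groth.Agent.KFlatLib.TensorRing

set_option autoImplicit false
universe u
open CategoryTheory CategoryTheory.Limits
attribute [local instance] HasDerivedCategory.standard
open DRing

namespace Groth.Agent.S6959

/-- Let R be a commutative ring, K a perfect object of D(R) and L a cochain complex of R-modules
defining a perfect object of D(R); assume the derived tensor product - ⊗^L_R L exists on D(R). Then
K ⊗^L_R L is a perfect object of D(R). -/
theorem result (R : Type u) [CommRing R] (K : Dual.D R) (hK : DRing.IsPerfect R K)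
    (L : DRing.Cx R) (hL : DRing.IsPerfect R (DRing.toD L)) [DRing.HasLTensorCx R L] :
    DRing.IsPerfect R ((DRing.LTensorCx R L).obj K) := by
  obtain ⟨E, a, b, hE, hEp, ⟨eE⟩⟩ := hK
  obtain ⟨F, a', b', hF, hFp, ⟨eF⟩⟩ := hL
  have hk := Groth.Agent.KFlatLib.isKFlat_flip_of_bounded_above E b (fun i hi => hE i (Or.inr hi))
    fun i => by haveI := (hEp i).2; infer_instance
  exact ⟨_, _, _, Groth.Agent.KFlatLib.vanishesOutside_tot E F hE hF,
    Groth.Agent.KFlatLib.termwiseFiniteProjective_tot E F (fun i hi => hE i (Or.inr hi)) (fun i hi => hF i (Or.inr hi))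
      hEp hFp,
    Groth.Agent.KFlatLib.nonempty_LTensorCxIso_of_rep L hk eE eF⟩

end Groth.Agent.S6959
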