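import Groth.Statements.S6962
import Groth.Agent.PseudoCoh.Regular
import Groth.Agent.PseudoCoh.Finite

set_option autoImplicit false
universe u
open CategoryTheory CategoryTheory.Limits
attribute [local instance] HasDerivedCategory.standard
open DRing

namespace Groth.Agent.S6962

open CategoryTheory CategoryTheory.Limits DerivedCategory DerivedCategory.TStructure Groth.Agent.PseudoCoh

lemma regular_key (R : Type u) [CommRing R] [IsNoetherianRing R]
    (hreg : ∀ p : PrimeSpectrum R, IsRegularLocalRing (Localization.AtPrime p.asIdeal)) (K : Dual.D R) :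
    DRing.IsPerfect R K ↔
      (∃ a b : ℤ, ∀ i : ℤ, (i < a ∨ b < i) → Subsingleton (Dual.HD R K i)) ∧ ∀ i : ℤ, Module.Finite R (Dual.HD R K i) := by
  constructor
  · intro h
    obtain ⟨hpc, a, b, hab⟩ := (perfect_iff K).1 h
    refine ⟨⟨a, b, fun i hi => ModuleCat.subsingleton_of_isZero (hi.elim
      ((DerivedCategory.isGE_iff _ _).1 (isGE_of_torAmplitude hab) i)
      ((DerivedCategory.isLE_iff _ _).1 (isLE_of_torAmplitude hab) i))⟩, fun i => ?_⟩
    exact ((approx_noetherian_iff (sub_add_cancel i 1) K).1 (hpc _)).2 i le_rfl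
  · rintro ⟨⟨a, b, hab⟩, hfin⟩
    have hb : t.IsLE K b := (DerivedCategory.isLE_iff _ _).2 fun i hi =>
      @ModuleCat.isZero_of_subsingleton _ _ _ (hab i (Or.inr hi))
    exact perfect_of_regular hreg K a ((DerivedCategory.isGE_iff _ _).2 fun i hi =>
      @ModuleCat.isZero_of_subsingleton _ _ _ (hab i (Or.inl hi)))
      ((pc'_iff K).2 fun n => (approx_noetherian_iff rfl K).2 ⟨⟨b, hb⟩, fun i _ => hfin i⟩)

/-- Let R be a regular commutative ring, i.e. R is Noetherian and its localization at every prime ideal
is a regular local ring. Then an R-module M is perfect (M[0] is isomorphic in D(R) to a bounded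
complex of finite projective modules) if and only if M is finitely generated. -/
theorem result (R : Type u) [CommRing R] [IsNoetherianRing R]
    (hreg : ∀ p : PrimeSpectrum R, IsRegularLocalRing (Localization.AtPrime p.asIdeal))
    (M : Type u) [AddCommGroup M] [Module R M] :
    DRing.IsPerfectModule R M ↔ Module.Finite R M := by
  change DRing.IsPerfect R (Dual.inD R M) ↔ _
  rw [regular_key R hreg]
  let e : Dual.HD R (Dual.inD R M) 0 ≃ₗ[R] M :=
    ((DerivedCategory.singleFunctorCompHomologyFunctorIso (ModuleCat.{u} R) 0).app (ModuleCat.of R M)).toLinearEquiv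
  have hz : ∀ i : ℤ, i ≠ 0 → Subsingleton (Dual.HD R (Dual.inD R M) i) := fun i hi => by
    refine ModuleCat.subsingleton_of_isZero ?_
    rcases lt_or_gt_of_ne hi with h | h
    · exact DerivedCategory.isZero_of_isGE ((DerivedCategory.singleFunctor (ModuleCat.{u} R) 0).obj (ModuleCat.of R M)) 0 i h
    · exact DerivedCategory.isZero_of_isLE ((DerivedCategory.singleFunctor (ModuleCat.{u} R) 0).obj (ModuleCat.of R M)) 0 i h
  refine ⟨fun h => haveI := h.2 0; Module.Finite.equiv e, fun h => ⟨⟨0, 0, fun i hi => hz i (by omega)⟩, fun i => ?_⟩⟩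
  rcases eq_or_ne i 0 with rfl | hi
  · haveI := h
    exact Module.Finite.equiv e.symm
  · haveI := hz i hi
    infer_instance

end Groth.Agent.S6962
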