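import Groth.Statements.S6964
import Groth.Agent.PseudoCoh.Split

set_option autoImplicit false
universe u
open CategoryTheory CategoryTheory.Limits
attribute [local instance] HasDerivedCategory.standard
open DRing

namespace Groth.Agent.S6964

open CategoryTheory CategoryTheory.Limits CategoryTheory.Pretriangulated DerivedCategory DerivedCategory.TStructure Groth.Agent.PseudoCoh
open scoped ZeroObject

/-- Let R be a commutative ring, K an object of D(R) and a, b integers. These four conditions are
equivalent: (1) the projective amplitude of K lies in [a, b], meaning K is isomorphic in D(R) to a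
complex of projective R-modules vanishing outside [a, b]; (2) Hom(K, N[i]) = 0 in D(R) for every
R-module N and every integer i outside [-b, -a]; (3) H^n(K) = 0 for all n > b and Hom(K, N[i]) = 0
for every R-module N and every i > -a; (4) H^n(K) = 0 for all n outside [a - 1, b] and Hom(K, N[-a +
1]) = 0 for every R-module N. -/
theorem result (R : Type u) [CommRing R] (K : Dual.D R) (a b : ℤ) :
    [∃ P : DRing.Cx R, DRing.VanishesOutside P a b ∧ (∀ i : ℤ, Module.Projective R (P.X i)) ∧
        Nonempty (DRing.toD P ≅ K),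
      ∀ (N : Type u) [AddCommGroup N] [Module R N] (i : ℤ), (i < -b ∨ -a < i) →
        Subsingleton (DRing.ExtD R K (Dual.inD R N) i),
      (∀ n : ℤ, b < n → Subsingleton (Dual.HD R K n)) ∧
        ∀ (N : Type u) [AddCommGroup N] [Module R N] (i : ℤ), -a < i → Subsingleton (DRing.ExtD R K (Dual.inD R N) i),
      (∀ n : ℤ, (n < a - 1 ∨ b < n) → Subsingleton (Dual.HD R K n)) ∧
        ∀ (N : Type u) [AddCommGroup N] [Module R N], Subsingleton (DRing.ExtD R K (Dual.inD R N) (-a + 1))].TFAE := by
  tfae_have 1 → 2 := by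
    rintro ⟨P, hP, hp, ⟨e⟩⟩ N _ _ i hi
    haveI := isKProjective_of_le (P := P) (fun j hj => hP j (Or.inr hj)) fun j =>
      haveI := hp j
      (IsProjective.iff_projective (P.X j)).1 inferInstance
    refine ⟨fun x y => ?_⟩
    obtain ⟨f, hf⟩ := exists_Q_map (e.hom ≫ x ≫ (toDSingleIso (-i) i (by omega) (ModuleCat.of R N)).inv)
    obtain ⟨g, hg⟩ := exists_Q_map (e.hom ≫ y ≫ (toDSingleIso (-i) i (by omega) (ModuleCat.of R N)).inv)
    have hfg : f = g := HomologicalComplex.hom_ext _ _ fun j => by
      rcases eq_or_ne j (-i) with rfl | hj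
      · exact (hP (-i) (by omega)).eq_of_src _ _
      · exact (HomologicalComplex.isZero_single_obj_X (ComplexShape.up ℤ) (-i) (ModuleCat.of R N) j hj).eq_of_tgt _ _
    rw [hfg, hg, cancel_epi, cancel_mono] at hf
    exact hf.symm
  obtain ⟨P₀, hP₀, hp₀, ⟨e₀⟩⟩ := Groth.Agent.KProjRes.exists_kProjective_iso K
  have key : ∀ n : ℤ, (∀ (N : Type u) [AddCommGroup N] [Module R N], Subsingleton (DRing.ExtD R K (Dual.inD R N) (-n))) →
      Subsingleton (Dual.HD R K n) := by
    intro n hn
    have hex := (projective_range hP₀ hp₀ (j := n) (k := n + 1) rfl fun M f =>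
      eq_zero_of_subsingleton e₀ (show n + -n = 0 by omega) (hn M) f).2.2 (n - 1) (by omega)
    have hx : P₀.ExactAt n := by
      rw [P₀.exactAt_iff' (n - 1) n (n + 1) (by simp) (by simp), ShortComplex.moduleCat_exact_iff_range_eq_ker]
      exact hex
    exact ModuleCat.subsingleton_of_isZero (hx.isZero_homology.of_iso
      ((DerivedCategory.homologyFunctor (ModuleCat.{u} R) n).mapIso e₀.symm ≪≫
        (DerivedCategory.homologyFunctorFactors (ModuleCat.{u} R) n).app P₀))
  tfae_have 2 → 3 := fun h => ⟨fun n hn => key n fun N _ _ => h N (-n) (Or.inl (by omega)),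
    fun N _ _ i hi => h N i (Or.inr hi)⟩
  tfae_have 3 → 4 := fun ⟨h1, h2⟩ => ⟨fun n hn => hn.elim (fun hn => key n fun N _ _ => h2 N (-n) (by omega)) (h1 n),
    fun N _ _ => h2 N _ (by omega)⟩
  tfae_have 4 → 1 := by
    rintro ⟨h1, h2⟩
    obtain ⟨P, hPb, hPp, hPK, ⟨e⟩⟩ := exists_projective_le K b ((DerivedCategory.isLE_iff _ _).2 fun i hi =>
      @ModuleCat.isZero_of_subsingleton _ _ _ (h1 i (Or.inr hi)))
    obtain ⟨-, hQ, -⟩ := projective_range hPK hPp (j := a - 1) (k := a) (by omega) fun M f =>
      eq_zero_of_subsingleton e (show a - 1 + (-a + 1) = 0 by omega) (h2 M) f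
    have hge : t.IsGE K a := (DerivedCategory.isGE_iff _ _).2 fun i hi => by
      rcases (show i < a - 1 ∨ i = a - 1 by omega) with hi' | rfl
      · exact @ModuleCat.isZero_of_subsingleton _ _ _ (h1 i (Or.inl hi'))
      · exact @ModuleCat.isZero_of_subsingleton _ _ _ (key (a - 1) fun N _ _ => by
          rw [show -(a - 1) = -a + 1 by omega]; exact h2 N)
    rcases le_or_gt a b with hab | hab
    · obtain ⟨E, hE, hEp, ⟨eE⟩⟩ := exists_projective_truncGE e (sub_add_cancel a 1) hPb hPp hQ
      rw [max_eq_left hab] at hE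
      exact ⟨E, hE, hEp, ⟨eE ≪≫ (asIso ((t.truncGEπ a).app K)).symm⟩⟩
    · have hK0 : IsZero K := by
        rw [IsZero.iff_id_eq_zero]
        exact t.zero_of_isLE_of_isGE _ b a hab ((DerivedCategory.isLE_iff _ _).2 fun i hi =>
          @ModuleCat.isZero_of_subsingleton _ _ _ (h1 i (Or.inr hi))) hge
      have hz : ∀ i, IsZero ((0 : DRing.Cx R).X i) := fun i =>
        (HomologicalComplex.eval (ModuleCat.{u} R) (ComplexShape.up ℤ) i).map_isZero (isZero_zero _)
      refine ⟨0, fun i _ => hz i, fun i => ?_, ⟨(DerivedCategory.Q.map_isZero (isZero_zero _)).iso hK0⟩⟩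
      haveI := ModuleCat.subsingleton_of_isZero (hz i)
      haveI := Module.Free.of_subsingleton R ((0 : DRing.Cx R).X i)
      exact Module.Projective.of_free
  tfae_finish

end Groth.Agent.S6964
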