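import Groth.Statements.S6965
import Groth.Agent.PseudoCoh.HomVanishing
import Groth.Agent.KInjRes.DerivedCat
import Groth.Agent.KInjRes.Basic

set_option autoImplicit false
universe u
open CategoryTheory CategoryTheory.Limits
attribute [local instance] HasDerivedCategory.standard
open DRing

namespace Groth.Agent.S6965

open CategoryTheory CategoryTheory.Limits CategoryTheory.Pretriangulated DerivedCategory DerivedCategory.TStructure Groth.Agent.PseudoCoh

attribute [local instance] HasDerivedCategory.standard

variable {R : Type u} [CommRing R]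

lemma mono_ιTruncLE_f (I : DRing.Cx R) (b i : ℤ) : Mono ((I.ιTruncLE b).f i) :=
  inferInstanceAs (Mono ((HomologicalComplex.ιTruncLE I (ComplexShape.embeddingUpIntLE b)).f i))

lemma isIso_ιTruncLE_f (I : DRing.Cx R) (b k : ℤ) (hk : k < b) : IsIso ((I.ιTruncLE b).f k) := by
  obtain ⟨j, hj⟩ : ∃ j : ℕ, (ComplexShape.embeddingUpIntLE b).f j = k := ⟨(b - k).toNat, by simp; omega⟩
  have hb : ¬ (ComplexShape.embeddingUpIntLE b).BoundaryLE j := by
    rw [ComplexShape.boundaryLE_embeddingUpIntLE_iff]
    simp at hj
    omega
  haveI : IsIso ((HomologicalComplex.πTruncGE I.op (ComplexShape.embeddingUpIntLE b).op).f k) := by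
    refine ((ComplexShape.embeddingUpIntLE b).op.isIso_liftExtend_f_iff _ _ (i := j) hj).2 ?_
    exact I.op.isIso_restrictionToTruncGE' _ j (by simpa using hb)
  exact inferInstanceAs (IsIso ((HomologicalComplex.πTruncGE I.op (ComplexShape.embeddingUpIntLE b).op).f k).unop)

lemma injective_quotient {M : Type u} [AddCommGroup M] [Module R M] [Module.Injective R M] (N : Submodule R M)
    [Module.Injective R N] : Module.Injective R (M ⧸ N) := by
  obtain ⟨r, hr⟩ := Module.Injective.out (R := R) N.subtype N.injective_subtype LinearMap.id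
  let s : (M ⧸ N) →ₗ[R] M := N.liftQ (LinearMap.id - N.subtype ∘ₗ r) fun x hx => by
    change x - (r x : M) = 0
    rw [show x = N.subtype ⟨x, hx⟩ from rfl, hr]
    exact sub_self _
  have hs : ∀ y, N.mkQ (s y) = y := fun y => by
    obtain ⟨x, rfl⟩ := N.mkQ_surjective y
    change N.mkQ (x - (r x : M)) = N.mkQ x
    rw [map_sub, sub_eq_self]
    exact (Submodule.Quotient.mk_eq_zero N).2 (r x).2
  refine Module.Baer.injective fun J g => ?_
  obtain ⟨h, hh⟩ := Module.Baer.of_injective (R := R) (Q := M) ‹_› J (s ∘ₗ g)
  refine ⟨N.mkQ ∘ₗ h, fun x hx => ?_⟩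
  change N.mkQ (h x) = g ⟨x, hx⟩
  rw [hh x hx]
  exact hs _

lemma injective_range {M M' : Type u} [AddCommGroup M] [Module R M] [Module.Injective R M] [AddCommGroup M'] [Module R M']
    (f : M →ₗ[R] M') (h : Module.Injective R (LinearMap.ker f)) : Module.Injective R (LinearMap.range f) :=
  haveI := h
  haveI := injective_quotient (R := R) (LinearMap.ker f)
  Module.Injective.of_ringEquiv (RingEquiv.refl R) (f.quotKerEquivRange)


/-- Let R be a commutative ring, K an object of D(R) and a, b integers. These three conditions are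
equivalent: (1) the injective amplitude of K lies in [a, b], meaning K is isomorphic in D(R) to a
complex of injective R-modules vanishing outside [a, b]; (2) Hom(N[0], K[i]) = 0 in D(R) for every
R-module N and every integer i outside [a, b]; (3) Hom((R/I)[0], K[i]) = 0 in D(R) for every ideal I
of R and every integer i outside [a, b]. -/
theorem result (R : Type u) [CommRing R] (K : Dual.D R) (a b : ℤ) :
    [DRing.HasInjAmplitudeIn R a b K,
      ∀ (N : Type u) [AddCommGroup N] [Module R N] (i : ℤ), (i < a ∨ b < i) →
        Subsingleton (DRing.ExtD R (Dual.inD R N) K i),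
      ∀ (I : Ideal R) (i : ℤ), (i < a ∨ b < i) → Subsingleton (DRing.ExtD R (Dual.inD R (R ⧸ I)) K i)].TFAE := by
  tfae_have 1 → 2 := by
    rintro ⟨E, hE, hEi, ⟨e⟩⟩ N _ _ i hi
    haveI : ∀ j, Injective (E.X j) := fun j => by haveI := hEi j; exact Module.injective_object_of_injective_module R (E.X j)
    haveI : E.IsStrictlyGE a := (E.isStrictlyGE_iff a).2 fun j hj => hE j (Or.inl hj)
    haveI := E.isKInjective_of_injective a
    have key : ∀ g : DRing.toD ((HomologicalComplex.single (ModuleCat.{u} R) (ComplexShape.up ℤ) i).obj (ModuleCat.of R N)) ⟶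
        DRing.toD E, g = 0 := fun g => by
      obtain ⟨f, rfl⟩ := (Groth.Agent.KInjRes.Q_map_kInjective _ E).1 g
      rw [show f = 0 from HomologicalComplex.from_single_hom_ext ((hE i hi).eq_of_tgt _ _)]
      exact DerivedCategory.Q.map_zero _ _
    refine ⟨fun ξ η => ?_⟩
    suffices h : ∀ ξ : Dual.inD R N ⟶ K⟦i⟧, ξ = 0 from (h ξ).trans (h η).symm
    intro ξ
    let c := (shiftFunctorCompIsoId (Dual.D R) i (-i) (by omega)).app K
    apply (shiftFunctor (Dual.D R) (-i)).map_injective
    rw [Functor.map_zero, ← cancel_mono (c.hom ≫ e.inv), ← cancel_epi (toDSingleIso i (-i) (by omega) (ModuleCat.of R N)).hom,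
      zero_comp, comp_zero]
    exact key _
  tfae_have 2 → 3 := fun h I i hi => h (R ⧸ I) i hi
  tfae_have 3 → 1 := by
    intro h
    obtain ⟨I, f, hIK, hf, -, hIi⟩ := Groth.Agent.KInjRes.exists_kInjective_resolution (DerivedCategory.Q.objPreimage K)
    haveI := hIK
    haveI := hf
    haveI : IsIso (DerivedCategory.Q.map f) := inferInstance
    let eI : DRing.toD I ≅ K := (asIso (DerivedCategory.Q.map f)).symm ≪≫ DerivedCategory.Q.objObjPreimageIso K
    have hInj : ∀ j, Module.Injective R (I.X j) := fun j => by
      haveI := hIi j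
      exact Module.injective_module_of_injective_object R (I.X j)
    -- cycles killed by an ideal are boundaries of elements killed by it
    have key : ∀ (J : Ideal R) (i : ℤ), (i < a ∨ b < i) → ∀ (y : I.X i), (I.d i (i + 1)).hom y = 0 →
        (∀ r ∈ J, r • y = 0) → ∀ k, k + 1 = i → ∃ z : I.X k, (I.d k i).hom z = y ∧ ∀ r ∈ J, r • z = 0 := by
      intro J i hi y hy hJ k hk
      let g : ModuleCat.of R (R ⧸ J) ⟶ I.X i :=
        ModuleCat.ofHom (J.liftQ (LinearMap.toSpanSingleton R (I.X i) y) fun r hr => hJ r hr)
      let φ : (HomologicalComplex.single (ModuleCat.{u} R) (ComplexShape.up ℤ) i).obj (ModuleCat.of R (R ⧸ J)) ⟶ I :=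
        HomologicalComplex.mkHomFromSingle g fun j hj => by
          obtain rfl : i + 1 = j := hj
          refine ModuleCat.hom_ext (Submodule.linearMap_qext _ (LinearMap.ext_ring ?_))
          change (I.d i (i + 1)).hom ((1 : R) • y) = 0
          rw [one_smul, hy]
      have hφ : DerivedCategory.Q.map φ = DerivedCategory.Q.map 0 := by
        rw [DerivedCategory.Q.map_zero]
        haveI := h J i hi
        let α := (toDSingleIso i (-i) (by omega) (ModuleCat.of R (R ⧸ J))).inv ≫ DerivedCategory.Q.map φ ≫ eI.hom
        have hα : α = 0 := by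
          apply (shiftFunctor (Dual.D R) i).map_injective
          rw [Functor.map_zero, ← cancel_epi ((shiftFunctorCompIsoId (Dual.D R) (-i) i (by omega)).inv.app _), comp_zero]
          exact Subsingleton.elim (α := DRing.ExtD R (Dual.inD R (R ⧸ J)) K i) _ _
        rw [← cancel_mono eI.hom, ← cancel_epi (toDSingleIso i (-i) (by omega) (ModuleCat.of R (R ⧸ J))).inv,
          zero_comp, comp_zero]
        exact hα
      obtain ⟨hh⟩ := (Groth.Agent.KInjRes.Q_map_kInjective _ I).2 φ 0 hφ
      let t : ModuleCat.of R (R ⧸ J) ⟶ I.X k :=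
        (HomologicalComplex.singleObjXSelf (ComplexShape.up ℤ) i (ModuleCat.of R (R ⧸ J))).inv ≫ hh.hom i k
      have ht : t ≫ I.d k i = g := by
        have e := hh.comm i
        rw [dNext_eq hh.hom (show (ComplexShape.up ℤ).Rel i (i + 1) from rfl),
          prevD_eq hh.hom (show (ComplexShape.up ℤ).Rel k i from hk), HomologicalComplex.single_obj_d, zero_comp,
          zero_add, HomologicalComplex.zero_f, add_zero] at e
        rw [Category.assoc, ← e]
        simp [φ]
      refine ⟨t.hom (Submodule.Quotient.mk 1), ?_, fun r hr => ?_⟩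
      · refine (ConcreteCategory.congr_hom ht _).trans ?_
        change (1 : R) • y = y
        exact one_smul _ _
      · rw [← map_smul, ← Submodule.Quotient.mk_smul]
        rw [(Submodule.Quotient.mk_eq_zero J).2 (by simpa using hr), map_zero]
    -- injectivity of cycles
    have hZ : ∀ j, (j + 1 < a ∨ b < j + 1) → Module.Injective R (LinearMap.ker (I.d j (j + 1)).hom) := fun j hj => by
      refine Module.Baer.injective fun J g => ?_
      obtain ⟨x', hx'⟩ := Module.Baer.of_injective (R := R) (hInj j) J ((LinearMap.ker (I.d j (j + 1)).hom).subtype ∘ₗ g)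
      let x : I.X j := x' 1
      have hx : ∀ r (hr : r ∈ J), r • x = (g ⟨r, hr⟩).1 := fun r hr => by
        rw [← map_smul, smul_eq_mul, mul_one]
        exact hx' r hr
      obtain ⟨z, hz, hzJ⟩ := key J (j + 1) hj ((I.d j (j + 1)).hom x) (ConcreteCategory.congr_hom (I.d_comp_d _ _ _) x)
        (fun r hr => by rw [← map_smul, hx r hr]; exact (g ⟨r, hr⟩).2) j rfl
      refine ⟨LinearMap.toSpanSingleton R (LinearMap.ker (I.d j (j + 1)).hom)
        ⟨x - z, by rw [LinearMap.mem_ker, map_sub, hz, sub_self]⟩, fun r hr => Subtype.ext ?_⟩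
      change r • (x - z) = (g ⟨r, hr⟩).1
      rw [smul_sub, hzJ r hr, sub_zero, hx r hr]
    -- the exactness
    have hex : ∀ i, (i < a ∨ b < i) → I.ExactAt i := fun i hi => by
      rw [I.exactAt_iff' (i - 1) i (i + 1) (by simp) (by simp), ShortComplex.moduleCat_exact_iff]
      intro y hy
      obtain ⟨z, hz, -⟩ := key ⊥ i hi y hy (fun r hr => by obtain rfl : r = 0 := hr; exact zero_smul R y) (i - 1) (by omega)
      exact ⟨z, hz⟩
    by_cases hab : a ≤ b
    · haveI : I.IsLE b := (I.isLE_iff b).2 fun i hi => hex i (Or.inr hi)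
      haveI := (I.quasiIso_ιTruncLE_iff b).2 inferInstance
      let J := I.truncLE b
      haveI : J.IsGE a := (J.isGE_iff a).2 fun i hi => by
        rw [HomologicalComplex.exactAt_iff_isZero_homology]
        exact ((I.exactAt_iff_isZero_homology i).1 (hex i (Or.inl hi))).of_iso
          (asIso (HomologicalComplex.homologyMap (I.ιTruncLE b) i))
      haveI := (J.quasiIso_πTruncGE_iff a).2 inferInstance
      have hJinj : ∀ j, j ≤ b → Module.Injective R (J.X j) := fun j hj => by
        rcases hj.lt_or_eq with h' | rfl
        · haveI := hInj j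
          exact Module.Injective.of_ringEquiv (RingEquiv.refl R) (I.truncLEXIso b j h').toLinearEquiv.symm
        · haveI := hZ j (Or.inr (by omega))
          exact Module.Injective.of_ringEquiv (RingEquiv.refl R) (I.truncLEXIsoCycles j ≪≫ cyclesEquiv I j).toLinearEquiv.symm
      refine ⟨J.truncGE a, fun i hi => ?_, fun i => ?_,
        ⟨(asIso (DerivedCategory.Q.map (J.πTruncGE a))).symm ≪≫ asIso (DerivedCategory.Q.map (I.ιTruncLE b)) ≪≫ eI⟩⟩
      · rcases hi with hi | hi
        · exact (J.truncGE a).isZero_of_isStrictlyGE a i hi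
        · exact (J.isZero_of_isStrictlyLE b i hi).of_iso (J.truncGEXIso a i (by omega))
      · rcases lt_trichotomy i a with hi | rfl | hi
        · haveI := ModuleCat.subsingleton_of_isZero ((J.truncGE a).isZero_of_isStrictlyGE a i hi)
          exact Module.Baer.injective fun _ g => ⟨0, fun _ _ => Subsingleton.elim _ _⟩
        · have h1 : Module.Injective R (LinearMap.range (I.d (i - 1) i).hom) := by
            haveI := hInj (i - 1)
            have h2 : Module.Injective R (LinearMap.range (I.d (i - 1 - 1) (i - 1)).hom) := by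
              haveI := hInj (i - 1 - 1)
              refine injective_range _ ?_
              have h3 := hZ (i - 1 - 1) (Or.inl (by omega))
              rwa [show i - 1 - 1 + 1 = i - 1 by omega] at h3
            refine injective_range _ ?_
            rwa [← range_eq_ker I (show i - 1 - 1 + 1 = i - 1 by omega) (show i - 1 + 1 = i by omega)
              (hex (i - 1) (Or.inl (by omega)))]
          have hι : Mono ((I.ιTruncLE b).f i) := mono_ιTruncLE_f I b i
          haveI : IsIso ((I.ιTruncLE b).f (i - 1)) := isIso_ιTruncLE_f I b (i - 1) (by omega)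
          haveI hr : Module.Injective R (LinearMap.range (J.d (i - 1) i).hom) := by
            let m := ((I.ιTruncLE b).f i).hom
            have hm : Function.Injective m := (ModuleCat.mono_iff_injective _).1 hι
            have hmap : (LinearMap.range (J.d (i - 1) i).hom).map m = LinearMap.range (I.d (i - 1) i).hom := by
              rw [← LinearMap.range_comp]
              have hc : m ∘ₗ (J.d (i - 1) i).hom = (I.d (i - 1) i).hom ∘ₗ ((I.ιTruncLE b).f (i - 1)).hom :=
                congrArg ModuleCat.Hom.hom ((I.ιTruncLE b).comm (i - 1) i).symm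
              rw [hc, LinearMap.range_comp, LinearMap.range_eq_top.2 ((ModuleCat.epi_iff_surjective _).1 inferInstance),
                Submodule.map_top]
            haveI := h1
            exact Module.Injective.of_ringEquiv (RingEquiv.refl R)
              ((Submodule.equivMapOfInjective m hm _).trans (LinearEquiv.ofEq _ _ hmap)).symm
          haveI := hJinj i hab
          haveI := injective_quotient (R := R) (LinearMap.range (J.d (i - 1) i).hom)
          exact Module.Injective.of_ringEquiv (RingEquiv.refl R)
            (J.truncGEXIsoOpcycles i ≪≫ opcyclesEquiv J (i - 1) i (by omega)).toLinearEquiv.symm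
        · rcases le_or_gt i b with hib | hib
          · haveI := hJinj i hib
            exact Module.Injective.of_ringEquiv (RingEquiv.refl R) (J.truncGEXIso a i hi).toLinearEquiv.symm
          · haveI := ModuleCat.subsingleton_of_isZero ((J.isZero_of_isStrictlyLE b i hib).of_iso (J.truncGEXIso a i hi))
            exact Module.Baer.injective fun _ g => ⟨0, fun _ _ => Subsingleton.elim _ _⟩
    · refine ⟨HomologicalComplex.zero, fun i _ => isZero_zero _, fun i => ?_,
        ⟨IsZero.iso (DerivedCategory.Q.map_isZero HomologicalComplex.isZero_zero) ?_⟩⟩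
      · haveI := ModuleCat.subsingleton_of_isZero (isZero_zero (ModuleCat.{u} R))
        haveI : Subsingleton ((HomologicalComplex.zero : DRing.Cx R).X i) := this
        exact Module.Baer.injective fun _ g => ⟨0, fun _ _ => Subsingleton.elim _ _⟩
      · refine IsZero.of_iso ?_ eI.symm
        have hle : t.IsLE (DRing.toD I) (b) := ?_
        · have hge : t.IsGE (DRing.toD I) (b + 1) := ?_
          · rw [IsZero.iff_id_eq_zero]
            exact t.zero_of_isLE_of_isGE _ b (b + 1) (by omega) hle hge
          haveI : I.IsGE (b + 1) := (I.isGE_iff _).2 fun i hi => hex i (by omega)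
          exact (DerivedCategory.isGE_Q_obj_iff I (b + 1)).2 inferInstance
        haveI : I.IsLE b := (I.isLE_iff _).2 fun i hi => hex i (by omega)
        exact (DerivedCategory.isLE_Q_obj_iff I b).2 inferInstance
  tfae_finish

end Groth.Agent.S6965
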