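import Groth.Statements.S6969
import Mathlib.Algebra.Module.Projective
import Mathlib.Algebra.Module.FinitePresentation
import Mathlib.LinearAlgebra.Finsupp.LSum

set_option autoImplicit false
universe u
open CAlg

namespace Groth.Agent.S6969


lemma fin_factor {R : Type u} [CommRing R] {M N : Type u} [AddCommGroup M]
    [Module R M] [Module.Finite R M] [AddCommGroup N] [Module R N] (φ : M →ₗ[R] N)
    (h : ∃ (P : Type u) (_ : AddCommGroup P) (_ : Module R P) (_ : Module.Projective R P) (f : M →ₗ[R] P)
      (g : P →ₗ[R] N), g ∘ₗ f = φ) :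
    ∃ (n : ℕ) (f : M →ₗ[R] (Fin n → R)) (g : (Fin n → R) →ₗ[R] N), g ∘ₗ f = φ := by
  classical
  obtain ⟨P, _, _, _, f, g, rfl⟩ := h
  obtain ⟨s, hs⟩ := Module.Projective.out (R := R) (P := P)
  obtain ⟨k, π, hπ⟩ := Module.Finite.exists_fin' R M
  let T : Finset P := Finset.univ.biUnion fun i => (s (f (π (Pi.single i 1)))).support
  let e : Fin T.card ≃ T := T.equivFin.symm
  refine ⟨T.card, (LinearMap.pi fun j => Finsupp.lapply (e j : P)) ∘ₗ s ∘ₗ f,
    g ∘ₗ Fintype.linearCombination R (fun j => (e j : P)), LinearMap.ext fun x => ?_⟩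
  obtain ⟨x, rfl⟩ := hπ x
  have key : ((g ∘ₗ Fintype.linearCombination R (fun j => (e j : P))) ∘ₗ
      ((LinearMap.pi fun j => Finsupp.lapply (e j : P)) ∘ₗ s ∘ₗ f)) ∘ₗ π = (g ∘ₗ f) ∘ₗ π := by
    refine (Pi.basisFun R (Fin k)).ext fun i => ?_
    simp only [Pi.basisFun_apply, LinearMap.comp_apply]
    congr 1
    rw [Fintype.linearCombination_apply]
    simp only [LinearMap.pi_apply, Finsupp.lapply_apply]
    conv_rhs => rw [← hs (f (π (Pi.single i 1)))]
    rw [Finsupp.linearCombination_apply, Finsupp.sum_of_support_subset _ (s := T)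
      (Finset.subset_biUnion_of_mem (fun i => (s (f (π (Pi.single i 1)))).support) (Finset.mem_univ i))
      (fun p c => c • id p) (by simp), ← Finset.sum_coe_sort T fun p => (s (f (π (Pi.single i 1)))) p • id p]
    exact e.sum_comp fun p : T => (s (f (π (Pi.single i 1)))) p • (p : P)
  exact LinearMap.congr_fun key x

/-- Let R be a commutative ring and φ : M → N an R-linear map which factors through a projective
R-module. If M is finitely generated, then φ factors through a finitely generated projective
R-module. -/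
theorem result (R : Type u) [CommRing R] {M N : Type u} [AddCommGroup M]
    [Module R M] [Module.Finite R M] [AddCommGroup N] [Module R N] (φ : M →ₗ[R] N)
    (h : ∃ (P : Type u) (_ : AddCommGroup P) (_ : Module R P) (_ : Module.Projective R P) (f : M →ₗ[R] P)
      (g : P →ₗ[R] N), g ∘ₗ f = φ) :
    ∃ (P : Type u) (_ : AddCommGroup P) (_ : Module R P) (_ : Module.Projective R P) (_ : Module.Finite R P)
      (f : M →ₗ[R] P) (g : P →ₗ[R] N), g ∘ₗ f = φ := by
  obtain ⟨n, f, g, hfg⟩ := fin_factor φ h
  exact ⟨Fin n → R, inferInstance, inferInstance, Module.Projective.of_basis (Pi.basisFun R (Fin n)),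
    inferInstance, f, g, hfg⟩

end Groth.Agent.S6969
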