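import Groth.Statements.S6968
import Groth.Agent.S6969
import Mathlib.LinearAlgebra.Dual.Basis
import Mathlib.LinearAlgebra.Basis.VectorSpace

set_option autoImplicit false
universe u
open CAlg

namespace Groth.Agent.S6968

/-- Let R be a commutative ring, I an ideal of R and M a finitely generated R-module such that
multiplication by a on M factors through a projective R-module for every a ∈ I. Then multiplication
by a on the dual module Hom_R(M, R) factors through a projective R-module for every a ∈ I. -/
theorem result (R : Type u) [CommRing R] (I : Ideal R) (M : Type u) [AddCommGroup M]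
    [Module R M] [Module.Finite R M]
    (hM : ∀ a ∈ I, ∃ (P : Type u) (_ : AddCommGroup P) (_ : Module R P) (_ : Module.Projective R P)
        (f : M →ₗ[R] P) (g : P →ₗ[R] M), g ∘ₗ f = a • LinearMap.id) :
    ∀ a ∈ I, ∃ (P : Type u) (_ : AddCommGroup P) (_ : Module R P) (_ : Module.Projective R P)
        (f : Module.Dual R M →ₗ[R] P) (g : P →ₗ[R] Module.Dual R M), g ∘ₗ f = a • LinearMap.id := by
  intro a ha
  obtain ⟨P, i₁, i₂, i₃, i₄, f, g, hfg⟩ := Groth.Agent.S6969.result R _ (hM a ha)
  obtain ⟨k, F, G, hFG⟩ := Groth.Agent.S6969.fin_factor (LinearMap.id : P →ₗ[R] P)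
    ⟨P, i₁, i₂, i₃, LinearMap.id, LinearMap.id, rfl⟩
  refine ⟨Module.Dual R (Fin k → R), inferInstance, inferInstance,
    Module.Projective.of_equiv ((Pi.basisFun R (Fin k)).toDualEquiv),
    G.dualMap ∘ₗ g.dualMap, f.dualMap ∘ₗ F.dualMap, LinearMap.ext fun φ => LinearMap.ext fun x => ?_⟩
  have h1 := LinearMap.congr_fun hFG (f x)
  have h2 := LinearMap.congr_fun hfg x
  simp only [LinearMap.comp_apply, LinearMap.id_apply, LinearMap.smul_apply] at h1 h2
  simp [h1, h2]

end Groth.Agent.S6968
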