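import Groth.Statements.S6971
import Groth.Agent.PseudoCoh.Nilpotent

set_option autoImplicit false
universe u
open CategoryTheory CategoryTheory.Limits
attribute [local instance] HasDerivedCategory.standard
open DRing

namespace Groth.Agent.S6971

open CategoryTheory CategoryTheory.Limits DerivedCategory Groth.Agent.PseudoCoh

attribute [local instance] HasDerivedCategory.standard

/-- Let R' → R be a surjective homomorphism of commutative rings whose kernel is a nilpotent ideal, such
that the derived base change D(R') → D(R) exists, and let K' be an object of D(R'). Then K' ⊗^L R is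
pseudo-coherent over R (isomorphic in D(R) to a bounded above complex of finite free modules) if and
only if K' is pseudo-coherent over R'. -/
theorem result {R' R : Type u} [CommRing R'] [CommRing R]
    (φ : R' →+* R) (hφ : Function.Surjective φ) (hnil : IsNilpotent (RingHom.ker φ))
    [DRing.HasLBaseChange φ] (K' : Dual.D R') :
    DRing.IsPseudoCoherent' R ((DRing.LBaseChange φ).obj K') ↔ DRing.IsPseudoCoherent' R' K' := by
  have hn : IsNilpotent (RingHom.ker φ * RingHom.ker φ) := Commute.isNilpotent_mul_left (Commute.all _ _) hnil
  exact ⟨fun h => (pc'_iff _).2 fun n => approx_of_lBaseChange_nilpotent φ φ hφ hφ hn (forall_approx_of_pc' h n)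
    (forall_approx_of_pc' h n), fun h => (pc'_iff _).2 fun n => approx_lBaseChange φ (forall_approx_of_pc' h n)⟩

end Groth.Agent.S6971
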