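import Groth.Statements.S6972
import Groth.Agent.PseudoCoh.Minimal

set_option autoImplicit false
universe u
open CategoryTheory CategoryTheory.Limits
attribute [local instance] HasDerivedCategory.standard
open DRing

namespace Groth.Agent.S6972

open CategoryTheory CategoryTheory.Limits DerivedCategory DerivedCategory.TStructure Groth.Agent.PseudoCoh

attribute [local instance] HasDerivedCategory.standard

/-- Let R be a local commutative ring with residue field κ such that the derived base change D(R) → D(κ)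
exists, and let K be a pseudo-coherent object of D(R). Write d_i for the κ-dimension of H^i(K ⊗^L_R
κ). Then every H^i(K ⊗^L_R κ) is finite dimensional and vanishes for i large; there is a bounded
above cochain complex P of finite free R-modules with rank P^i = d_i for all i which is isomorphic
to K in D(R); and any two such complexes are isomorphic as complexes of R-modules. -/
theorem result (R : Type u) [CommRing R] [IsLocalRing R]
    [DRing.HasLBaseChange (IsLocalRing.residue R)] (K : Dual.D R) (hK : DRing.IsPseudoCoherent' R K) :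
    let κ := IsLocalRing.ResidueField R
    let Kκ := (DRing.LBaseChange (IsLocalRing.residue R)).obj K
    let Minimal := fun P : DRing.Cx R => (∃ b : ℤ, DRing.VanishesAbove P b) ∧
      (∀ i : ℤ, Module.Free R (P.X i) ∧ Module.Finite R (P.X i) ∧
        Module.finrank R (P.X i) = Module.finrank κ (Dual.HD κ Kκ i)) ∧ Nonempty (DRing.toD P ≅ K)
    (∀ i : ℤ, Module.Finite κ (Dual.HD κ Kκ i)) ∧ (∃ b : ℤ, ∀ i : ℤ, b < i → Subsingleton (Dual.HD κ Kκ i)) ∧
      (∃ P : DRing.Cx R, Minimal P) ∧ ∀ P Q : DRing.Cx R, Minimal P → Minimal Q → Nonempty (P ≅ Q) := by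
  intro κ Kκ Minimal
  obtain ⟨E, b, hb, hff, ⟨e⟩⟩ := hK
  obtain ⟨P, hPb, hP, hPm, ⟨eP⟩⟩ := exists_minimal hb hff
  have hproj : ∀ {P : DRing.Cx R}, (∀ i, Module.Free R (P.X i)) → ∀ i, Projective (P.X i) := fun h i => by
    haveI := h i
    exact (IsProjective.iff_projective _).1 Module.Projective.of_free
  have key : ∀ (P : DRing.Cx R) (b : ℤ), DRing.VanishesAbove P b → (∀ i, Module.Free R (P.X i)) →
      (DRing.toD P ≅ K) → ∀ i, Nonempty (((Fc (IsLocalRing.residue R)).obj P).homology i ≅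
        (DerivedCategory.homologyFunctor (ModuleCat.{u} κ) i).obj Kκ) := fun P b hb hf e i => by
    haveI := isKProjective_of_le hb (hproj hf)
    exact ⟨((DerivedCategory.homologyFunctorFactors (ModuleCat.{u} κ) i).app _).symm ≪≫
      (DerivedCategory.homologyFunctor (ModuleCat.{u} κ) i).mapIso
        ((Groth.Agent.KProjRes.lBaseChangeIso _ P).symm ≪≫ (DRing.LBaseChange _).mapIso e)⟩
  have hH : ∀ i, Nonempty (((Fc (IsLocalRing.residue R)).obj P).X i ≃ₗ[κ] Dual.HD κ Kκ i) := fun i => by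
    obtain ⟨e'⟩ := key P b hPb (fun i => (hP i).1) (eP.symm ≪≫ e) i
    exact ⟨((hPm.homologyIso i).symm ≪≫ e').toLinearEquiv⟩
  refine ⟨fun i => ?_, ⟨b, fun i hi => ?_⟩, ⟨P, ⟨b, hPb⟩, fun i => ⟨(hP i).1, (hP i).2, ?_⟩, ⟨eP.symm ≪≫ e⟩⟩, ?_⟩
  · haveI := finite_extend (P := P) (hP i).2
    exact Module.Finite.equiv (hH i).some
  · haveI := ModuleCat.subsingleton_of_isZero ((ModuleCat.extendScalars.{u, u, u} (IsLocalRing.residue R)).map_isZero (hPb i hi))
    exact @Equiv.subsingleton _ _ (hH i).some.toEquiv.symm this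
  · exact (finrank_extend (hP i).1).symm.trans (hH i).some.finrank_eq
  · rintro P₁ P₂ ⟨⟨b₁, hb₁⟩, h₁, ⟨e₁⟩⟩ ⟨⟨b₂, hb₂⟩, h₂, ⟨e₂⟩⟩
    haveI := isKProjective_of_le hb₁ (hproj fun i => (h₁ i).1)
    haveI := isKProjective_of_le hb₂ (hproj fun i => (h₂ i).1)
    refine nonempty_iso_of_modZero (modZero_of_finrank (fun i => (h₁ i).1) (fun i => (h₁ i).2.1) fun i => ?_)
      (modZero_of_finrank (fun i => (h₂ i).1) (fun i => (h₂ i).2.1) fun i => ?_)
      (fun i => (h₁ i).2.1) (fun i => (h₂ i).2.1) (e₁ ≪≫ e₂.symm)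
    · obtain ⟨e'⟩ := key P₁ b₁ hb₁ (fun i => (h₁ i).1) e₁ i
      exact (h₁ i).2.2.trans e'.toLinearEquiv.finrank_eq.symm
    · obtain ⟨e'⟩ := key P₂ b₂ hb₂ (fun i => (h₂ i).1) e₂ i
      exact (h₂ i).2.2.trans e'.toLinearEquiv.finrank_eq.symm

end Groth.Agent.S6972
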