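import Groth.Statements.S6974
import Groth.Agent.PseudoCoh.Residue
import Groth.Agent.PseudoCoh.Criteria

set_option autoImplicit false
universe u
open CategoryTheory CategoryTheory.Limits
attribute [local instance] HasDerivedCategory.standard
open DRing

namespace Groth.Agent.S6974

open CategoryTheory CategoryTheory.Limits DerivedCategory DerivedCategory.TStructure

attribute [local instance] HasDerivedCategory.standard

/-- Let R be a commutative ring such that the derived base change D(R) → D(R/m) exists for every ideal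
m, let K be a pseudo-coherent object of D(R) and a, b integers. If for every maximal ideal m of R
the cohomology H^i(K ⊗^L_R R/m) vanishes for all i outside [a, b], then K is perfect and has tor
amplitude in [a, b]. -/
theorem result (R : Type u) [CommRing R]
    [∀ m : Ideal R, DRing.HasLBaseChange (Ideal.Quotient.mk m)] (K : Dual.D R)
    (hK : DRing.IsPseudoCoherent' R K) (a b : ℤ)
    (h : ∀ (m : Ideal R), m.IsMaximal → ∀ i : ℤ, (i < a ∨ b < i) →
      Subsingleton (Dual.HD (R ⧸ m) ((DRing.LBaseChange (Ideal.Quotient.mk m)).obj K) i)) :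
    DRing.IsPerfect R K ∧ DRing.HasTorAmplitudeIn R a b K := by
  obtain ⟨P, c, hc, hff, ⟨e⟩⟩ := id hK
  have hfp : DRing.TermwiseFiniteProjective P := fun i => by
    obtain ⟨h1, h2⟩ := hff i
    exact ⟨h1, inferInstance⟩
  have hPp : ∀ i, Projective (P.X i) := fun i =>
    haveI := (hfp i).2
    (IsProjective.iff_projective (P.X i)).1 inferInstance
  haveI := PseudoCoh.isKProjective_of_le hc hPp
  have hx : ∀ i, (i < a ∨ b < i) → P.ExactAt i ∧
      Module.Projective R (P.X (i + 1) ⧸ LinearMap.range (P.d i (i + 1)).hom) := fun i hi =>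
    PseudoCoh.exact_and_projective_of_mod hfp (sub_add_cancel i 1) rfl fun m hm => by
      rw [HomologicalComplex.exactAt_iff_isZero_homology]
      haveI := h m hm i hi
      exact (ModuleCat.isZero_of_subsingleton ((DerivedCategory.homologyFunctor (ModuleCat.{u} (R ⧸ m)) i).obj
        ((DRing.LBaseChange (Ideal.Quotient.mk m)).obj K))).of_iso
        (((DerivedCategory.homologyFunctorFactors (ModuleCat.{u} (R ⧸ m)) i).app _).symm ≪≫
          (DerivedCategory.homologyFunctor (ModuleCat.{u} (R ⧸ m)) i).mapIso
            ((KProjRes.lBaseChangeIso (Ideal.Quotient.mk m) P).symm ≪≫ (DRing.LBaseChange (Ideal.Quotient.mk m)).mapIso e))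
  have hflat : DRing.TermwiseFlat P := fun i => by
    haveI := (hfp i).2
    exact Module.Flat.of_projective
  obtain ⟨i₀, hi₀⟩ : ∃ i₀, i₀ + 1 = a := ⟨a - 1, sub_add_cancel _ 1⟩
  have hQ : Module.Flat R (P.X a ⧸ LinearMap.range (P.d i₀ a).hom) := by
    subst hi₀
    haveI := (hx i₀ (Or.inl (by omega))).2
    exact Module.Flat.of_projective
  have hamp : DRing.HasTorAmplitudeIn R a b K := PseudoCoh.torAmplitude_of_iso e
    (PseudoCoh.torAmplitude_of_complex hi₀ hc hflat
      ((DerivedCategory.isGE_iff _ _).2 fun i hi => (hx i (Or.inl hi)).1.isZero_homology.of_iso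
        ((DerivedCategory.homologyFunctorFactors (ModuleCat.{u} R) i).app _))
      ((DerivedCategory.isLE_iff _ _).2 fun i hi => (hx i (Or.inr hi)).1.isZero_homology.of_iso
        ((DerivedCategory.homologyFunctorFactors (ModuleCat.{u} R) i).app _)) hQ)
  exact ⟨(PseudoCoh.perfect_iff K).2 ⟨fun n => PseudoCoh.forall_approx_of_pc' hK n, a, b, hamp⟩, hamp⟩

end Groth.Agent.S6974
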