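import Groth.Statements.S6975
import Groth.Agent.PseudoCoh.TorAmp
import Mathlib.RingTheory.LocalRing.Module

set_option autoImplicit false
universe u
open CategoryTheory CategoryTheory.Limits
attribute [local instance] HasDerivedCategory.standard
open DRing

namespace Groth.Agent.S6975

open CategoryTheory CategoryTheory.Limits Groth.Agent.PseudoCoh

/-- Let R be a local commutative ring with residue field κ such that the derived base change D(R) → D(κ)
exists, and let K be a pseudo-coherent object of D(R). If there is an integer a with H^i(K ⊗^L_R κ)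
= 0 for all i < a, then K is perfect. -/
theorem result (R : Type u) [CommRing R] [IsLocalRing R]
    [DRing.HasLBaseChange (IsLocalRing.residue R)] (K : Dual.D R) (hK : DRing.IsPseudoCoherent' R K) (a : ℤ)
    (h : ∀ i : ℤ, i < a → Subsingleton (Dual.HD (IsLocalRing.ResidueField R)
      ((DRing.LBaseChange (IsLocalRing.residue R)).obj K) i)) :
    DRing.IsPerfect R K := by
  obtain ⟨P, b, hPb, hff, ⟨e⟩⟩ := hK
  have hfp : DRing.TermwiseFiniteProjective P := fun i => by
    haveI := (hff i).2
    exact ⟨(hff i).1, inferInstance⟩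
  haveI : CochainComplex.IsKProjective P := isKProjective_of_le hPb fun i => by
    haveI := (hff i).2
    exact ModuleCat.projective_of_free (Module.Free.chooseBasis R (P.X i))
  have hexF : ∀ i, i < a → (((ModuleCat.extendScalars.{u, u, u} (IsLocalRing.residue R)).mapHomologicalComplex
      (ComplexShape.up ℤ)).obj P).ExactAt i := fun i hi => by
    rw [HomologicalComplex.exactAt_iff_isZero_homology]
    exact (@ModuleCat.isZero_of_subsingleton _ _ _ (h i hi) : IsZero ((DerivedCategory.homologyFunctor (ModuleCat.{u}
      (IsLocalRing.ResidueField R)) i).obj ((DRing.LBaseChange (IsLocalRing.residue R)).obj K))).of_iso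
      (((DerivedCategory.homologyFunctorFactors (ModuleCat.{u} (IsLocalRing.ResidueField R)) i).app _).symm ≪≫
        (DerivedCategory.homologyFunctor (ModuleCat.{u} (IsLocalRing.ResidueField R)) i).mapIso
          ((Groth.Agent.KProjRes.lBaseChangeIso (IsLocalRing.residue R) P).symm ≪≫
            (DRing.LBaseChange (IsLocalRing.residue R)).mapIso e))
  have step : ∀ p n q : ℤ, p + 1 = n → n + 1 = q → n < a →
      LinearMap.range (P.d p n).hom = LinearMap.ker (P.d n q).hom ∧
        Module.Projective R (P.X q ⧸ LinearMap.range (P.d n q).hom) := by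
    intro p n q hp hq hn
    haveI := (hff q).1; haveI := (hff q).2; haveI := (hff n).1
    let l : (P.X n ⧸ LinearMap.range (P.d p n).hom) →ₗ[R] P.X q := Submodule.liftQ _ (P.d n q).hom (by
      rintro _ ⟨x, rfl⟩
      exact ConcreteCategory.congr_hom (P.d_comp_d p n q) x)
    have hinj : Function.Injective (l.lTensor (IsLocalRing.ResidueField R)) := by
      refine (injective_iff_map_eq_zero _).2 fun x hx => ?_
      obtain ⟨y, rfl⟩ := LinearMap.lTensor_surjective (IsLocalRing.ResidueField R)
        (Submodule.mkQ_surjective (LinearMap.range (P.d p n).hom)) x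
      have hy : (P.d n q).hom.lTensor (IsLocalRing.ResidueField R) y = 0 := by
        rwa [← LinearMap.comp_apply, ← LinearMap.lTensor_comp, Submodule.liftQ_mkQ] at hx
      have hF := hexF n hn
      rw [HomologicalComplex.exactAt_iff' _ p n q (by simp; omega) (by simp; omega), ShortComplex.moduleCat_exact_iff] at hF
      obtain ⟨z, hz⟩ := hF y hy
      have hz' : (P.d p n).hom.lTensor (IsLocalRing.ResidueField R) z = y := hz
      rw [← hz']
      refine (LinearMap.comp_apply _ _ _).symm.trans ?_
      rw [← LinearMap.lTensor_comp, show (LinearMap.range (P.d p n).hom).mkQ ∘ₗ (P.d p n).hom = 0 from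
        LinearMap.ext fun w => (Submodule.Quotient.mk_eq_zero _).2 ⟨w, rfl⟩, LinearMap.lTensor_zero]
      rfl
    obtain ⟨l', hl'⟩ := (IsLocalRing.split_injective_iff_lTensor_residueField_injective l).2 hinj
    refine ⟨le_antisymm ?_ fun x hx => ?_, ?_⟩
    · rintro _ ⟨x, rfl⟩
      exact ConcreteCategory.congr_hom (P.d_comp_d p n q) x
    · refine (Submodule.Quotient.mk_eq_zero _).1 ((LinearMap.congr_fun hl' _).symm.trans ?_)
      change l' (l (Submodule.Quotient.mk x)) = 0
      rw [show l (Submodule.Quotient.mk x) = 0 from hx, map_zero]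
    · have hr : LinearMap.range l = LinearMap.range (P.d n q).hom := Submodule.range_liftQ _ _ _
      let r : P.X q →ₗ[R] P.X q := LinearMap.id - l ∘ₗ l'
      refine Module.Projective.of_split (Submodule.liftQ _ r fun y hy => ?_) (Submodule.mkQ _)
        (Submodule.linearMap_qext _ (LinearMap.ext fun y => ?_))
      · obtain ⟨w, rfl⟩ := hr ▸ hy
        change l w - l (l' (l w)) = 0
        rw [show l' (l w) = w from LinearMap.congr_fun hl' w, sub_self]
      · change Submodule.Quotient.mk (y - l (l' y)) = Submodule.Quotient.mk y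
        rw [Submodule.Quotient.eq, sub_sub_cancel_left]
        exact neg_mem (hr ▸ LinearMap.mem_range_self l _)
  haveI : P.IsGE a := (P.isGE_iff a).2 fun i hi => by
    rw [P.exactAt_iff' (i - 1) i (i + 1) (by simp) (by simp), ShortComplex.moduleCat_exact_iff_range_eq_ker]
    exact (step (i - 1) i (i + 1) (by omega) rfl hi).1
  haveI := (P.quasiIso_πTruncGE_iff a).2 inferInstance
  obtain ⟨E, hE, hEfp, ⟨e'⟩⟩ := exists_trunc_projective P a (max a b) b hPb hfp
    (fun i hi => HomologicalComplex.ExactAt.of_isZero (hPb i (by omega))) (a - 1) (by omega)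
    (step (a - 2) (a - 1) a (by omega) (by omega) (by omega)).2
  exact ⟨E, a, max a b, hE, hEfp, ⟨e' ≪≫ (asIso (DerivedCategory.Q.map (P.πTruncGE a))).symm ≪≫ e⟩⟩

end Groth.Agent.S6975
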