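import Groth.Statements.S6976
import Groth.Agent.PseudoCoh.TorAmp

set_option autoImplicit false
universe u
open CategoryTheory CategoryTheory.Limits
attribute [local instance] HasDerivedCategory.standard
open DRing

namespace Groth.Agent.S6976

open CategoryTheory CategoryTheory.Limits CategoryTheory.Pretriangulated DerivedCategory.TStructure Groth.Agent.PseudoCoh

/-- Let R be a commutative ring, K a pseudo-coherent object of D(R) and a, b integers. Then K is
isomorphic in D(R) to a complex of projective R-modules vanishing outside [a, b] if and only if K is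
perfect with tor amplitude in [a, b]. -/
theorem result (R : Type u) [CommRing R]
    (K : Dual.D R) (hK : DRing.IsPseudoCoherent' R K) (a b : ℤ) :
    (∃ P : DRing.Cx R, DRing.VanishesOutside P a b ∧ (∀ i : ℤ, Module.Projective R (P.X i)) ∧
        Nonempty (DRing.toD P ≅ K)) ↔ DRing.IsPerfect R K ∧ DRing.HasTorAmplitudeIn R a b K := by
  have hpc := (pc'_iff K).1 hK
  constructor
  · rintro ⟨P, hP, hp, e⟩
    have h : DRing.HasTorAmplitudeIn R a b K := ⟨P, hP, fun i => haveI := hp i; Module.Flat.of_projective, e⟩
    exact ⟨(perfect_iff K).2 ⟨hpc, a, b, h⟩, h⟩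
  · rintro ⟨-, h⟩
    rcases le_or_gt a b with hab | hab
    · obtain ⟨E, hE, hfp, e⟩ := perfectAmplitude_of_approx (p := a - 2) (by omega) hab (hpc _) h
      exact ⟨E, hE, fun i => (hfp i).2, e⟩
    · obtain ⟨E, hE, -, e⟩ := h
      refine ⟨E, hE, fun i => ?_, e⟩
      haveI := ModuleCat.subsingleton_of_isZero (hE i (by omega))
      haveI := Module.Free.of_subsingleton R (E.X i)
      exact Module.Projective.of_free

end Groth.Agent.S6976
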