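import Groth.Statements.S6980
import Groth.Agent.PseudoCoh.Nilpotent

set_option autoImplicit false
universe u
open CategoryTheory CategoryTheory.Limits
attribute [local instance] HasDerivedCategory.standard
open DRing

namespace Groth.Agent.S6980

open CategoryTheory CategoryTheory.Limits DerivedCategory Groth.Agent.PseudoCoh

attribute [local instance] HasDerivedCategory.standard

lemma nonempty_compIso {A B C : Type u} [CommRing A] [CommRing B] [CommRing C] (φ : A →+* B) (θ : B →+* C) (ρ : A →+* C)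
    [DRing.HasLBaseChange φ] [DRing.HasLBaseChange θ] [DRing.HasLBaseChange ρ] (h : θ.comp φ = ρ)
    (P : DRing.Cx A) [CochainComplex.IsKProjective P] {K : Dual.D A} (e : DRing.toD P ≅ K) :
    Nonempty ((DRing.LBaseChange ρ).obj K ≅ (DRing.LBaseChange θ).obj ((DRing.LBaseChange φ).obj K)) := by
  subst h
  haveI := isKProjective_extend φ P
  exact ⟨(DRing.LBaseChange (θ.comp φ)).mapIso e.symm ≪≫ Groth.Agent.KProjRes.lBaseChangeIso _ P ≪≫
    DerivedCategory.Q.mapIso ((NatIso.mapHomologicalComplex (ModuleCat.extendScalarsComp φ θ) (ComplexShape.up ℤ)).app P) ≪≫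
    (Groth.Agent.KProjRes.lBaseChangeIso θ ((Fc φ).obj P)).symm ≪≫
    (DRing.LBaseChange θ).mapIso ((Groth.Agent.KProjRes.lBaseChangeIso φ P).symm ≪≫ (DRing.LBaseChange φ).mapIso e)⟩

/-- Let R be a commutative ring, I and J ideals of R such that the derived base changes D(R) → D(R/I),
D(R/J), D(R/IJ) exist, and K an object of D(R). If K ⊗^L_R R/I is perfect in D(R/I) and K ⊗^L_R R/J
is perfect in D(R/J), then K ⊗^L_R R/IJ is perfect in D(R/IJ). -/
theorem result (R : Type u) [CommRing R] (I J : Ideal R)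
    [DRing.HasLBaseChange (Ideal.Quotient.mk I)] [DRing.HasLBaseChange (Ideal.Quotient.mk J)]
    [DRing.HasLBaseChange (Ideal.Quotient.mk (I * J))] (K : Dual.D R)
    (hI : DRing.IsPerfect (R ⧸ I) ((DRing.LBaseChange (Ideal.Quotient.mk I)).obj K))
    (hJ : DRing.IsPerfect (R ⧸ J) ((DRing.LBaseChange (Ideal.Quotient.mk J)).obj K)) :
    DRing.IsPerfect (R ⧸ (I * J)) ((DRing.LBaseChange (Ideal.Quotient.mk (I * J))).obj K) := by
  let θ := Ideal.Quotient.factor (Ideal.mul_le_left.trans le_rfl : I * J ≤ I)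
  let θ' := Ideal.Quotient.factor (Ideal.mul_le_right : I * J ≤ J)
  haveI := Groth.Agent.KProjRes.hasLBaseChange θ
  haveI := Groth.Agent.KProjRes.hasLBaseChange θ'
  obtain ⟨P, hP, -, ⟨e⟩⟩ := Groth.Agent.KProjRes.exists_kProjective_iso K
  haveI := hP
  refine perfect_of_lBaseChange_nilpotent θ θ' (Ideal.Quotient.factor_surjective _) (Ideal.Quotient.factor_surjective _) ?_
    (perfect_of_iso (nonempty_compIso _ θ (Ideal.Quotient.mk I) (Ideal.Quotient.factor_comp_mk _) P e).some hI)
    (perfect_of_iso (nonempty_compIso _ θ' (Ideal.Quotient.mk J) (Ideal.Quotient.factor_comp_mk _) P e).some hJ)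
  rw [Ideal.Quotient.factor_ker, Ideal.Quotient.factor_ker, ← Ideal.map_mul, Ideal.map_quotient_self]
  exact IsNilpotent.zero

end Groth.Agent.S6980
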