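import Groth.Statements.S6981
import Groth.Agent.PseudoCoh.Restrict
import Groth.Agent.PseudoCoh.Coherent

set_option autoImplicit false
universe u
open CategoryTheory CategoryTheory.Limits
attribute [local instance] HasDerivedCategory.standard
open DRing

namespace Groth.Agent.S6981

open CategoryTheory DerivedCategory

attribute [local instance] HasDerivedCategory.standard

/-- Let R be a commutative ring, K an object of D(R), m an integer, and R[x] → R the R-algebra
homomorphism sending x to 0. Then K is m-pseudo-coherent over R if and only if K, regarded as an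
object of D(R[x]) by restriction of scalars along this map, is m-pseudo-coherent over R[x]. -/
theorem result (R : Type u) [CommRing R] (K : Dual.D R)
    (m : ℤ) :
    DRing.IsPseudoCoherent R m K ↔
      DRing.IsPseudoCoherent (Polynomial R) m ((DRing.restrictD (Polynomial.evalRingHom (0 : R))).obj K) := by
  have h : PseudoCoh.PCHom (Polynomial.evalRingHom (0 : R)) := by
    let f : Polynomial R →ₗ[Polynomial R] Polynomial R := LinearMap.mulLeft (Polynomial R) Polynomial.X
    let F := (ModuleCat.restrictScalars.{u} (Polynomial.evalRingHom (0 : R))).obj (ModuleCat.of R R)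
    let g : Polynomial R →ₗ[Polynomial R] F :=
      { toFun := fun p => (p.eval 0 : R), map_add' := fun p q => (Polynomial.eval_add : (p + q).eval (0 : R) = _), map_smul' := fun p q => (Polynomial.eval_mul : (p * q).eval (0 : R) = _) }
    let S : ShortComplex (ModuleCat.{u} (Polynomial R)) := ShortComplex.mk (ModuleCat.ofHom f) (ModuleCat.ofHom g)
      (ModuleCat.hom_ext (LinearMap.ext fun p => (show Polynomial.eval (0 : R) ((Polynomial.X : Polynomial R) * (p : Polynomial R)) = 0 by simp)))
    have hS : S.ShortExact :=
      { exact := (ShortComplex.moduleCat_exact_iff _).2 fun p hp => by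
          obtain ⟨q, hq⟩ := Polynomial.X_dvd_iff.2 ((Polynomial.coeff_zero_eq_eval_zero p).trans hp)
          exact ⟨q, hq.symm⟩
        mono_f := (ModuleCat.mono_iff_injective _).2 fun p q hpq => Polynomial.isRegular_X.left hpq
        epi_g := (ModuleCat.epi_iff_surjective _).2 fun y => ⟨Polynomial.C (y : R), show Polynomial.eval (0 : R) (Polynomial.C (y : R)) = (y : R) from Polynomial.eval_C⟩ }
    exact fun n => PseudoCoh.approx_obj₃ _ hS.singleTriangle_distinguished n
      (PseudoCoh.approx_inD_of_projective (Polynomial R) _) (PseudoCoh.approx_inD_of_projective (Polynomial R) _)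
  rw [PseudoCoh.approx_iff (sub_add_cancel m 1), PseudoCoh.approx_iff (sub_add_cancel m 1)]
  exact ⟨PseudoCoh.approx_restrict _ h, PseudoCoh.approx_of_restrict _ h⟩

end Groth.Agent.S6981
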