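import Groth.Statements.S6984
import Groth.Agent.RelPC.Module

set_option autoImplicit false
universe u
open CategoryTheory CategoryTheory.Limits
attribute [local instance] HasDerivedCategory.standard
open DerCA

namespace Groth.Agent.S6984

open CategoryTheory DerivedCategory

attribute [local instance] HasDerivedCategory.standard

/-- Let R be a commutative ring, A → B a finite homomorphism of finite type R-algebras, K an object of
D(B) and m an integer. Then K is m-pseudo-coherent relative to R over B if and only if K, with
scalars restricted to A, is m-pseudo-coherent relative to R over A; and K is pseudo-coherent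
relative to R over B if and only if its restriction to A is pseudo-coherent relative to R. -/
theorem result {R A B : Type u} [CommRing R] [CommRing A] [CommRing B]
    [Algebra R A] [Algebra A B] [Algebra R B] [IsScalarTower R A B] [Algebra.FiniteType R A]
    [Algebra.FiniteType R B] [Module.Finite A B] (K : Dual.D B) (m : ℤ) :
    (DerCA.IsRelPseudoCoherent R B m K ↔
      DerCA.IsRelPseudoCoherent R A m ((DRing.restrictD (algebraMap A B)).obj K)) ∧
      (DerCA.IsRelPseudoCoherentAll R B K ↔
        DerCA.IsRelPseudoCoherentAll R A ((DRing.restrictD (algebraMap A B)).obj K)) := by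
  obtain ⟨n, α, hα⟩ := RelPC.exists_presentation R A
  obtain ⟨k, β, hβ⟩ := RelPC.exists_presentation R B
  have key := fun d => RelPC.approx_presentation_iff (IsScalarTower.toAlgHom R A B)
    (RingHom.finite_algebraMap.2 inferInstance : (algebraMap A B).Finite) α hα β hβ K d
  exact ⟨((RelPC.relPC_iff β hβ K (sub_add_cancel m 1)).trans (key _).symm).trans
      (RelPC.relPC_iff α hα _ (sub_add_cancel m 1)).symm,
    ((RelPC.relPCAll_iff β hβ K).trans (forall_congr' fun d => (key d).symm)).trans
      (RelPC.relPCAll_iff α hα _).symm⟩

end Groth.Agent.S6984
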