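import Groth.Statements.S6985
import Groth.Agent.RelPC.Poly

set_option autoImplicit false
universe u
open CategoryTheory CategoryTheory.Limits
attribute [local instance] HasDerivedCategory.standard
open DerCA

namespace Groth.Agent.S6985

open CategoryTheory DerivedCategory

attribute [local instance] HasDerivedCategory.standard

/-- Let R be a commutative ring and A → B a homomorphism of finite type R-algebras such that A, as an
A-module, is pseudo-coherent relative to R. Let K be an object of D(B) and m an integer. Then K is
m-pseudo-coherent relative to A if and only if K is m-pseudo-coherent relative to R; and K is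
pseudo-coherent relative to A if and only if it is pseudo-coherent relative to R. -/
theorem result {R A B : Type u} [CommRing R] [CommRing A]
    [CommRing B] [Algebra R A] [Algebra A B] [Algebra R B] [IsScalarTower R A B] [Algebra.FiniteType R A]
    [Algebra.FiniteType R B] [Algebra.FiniteType A B] (hA : DerCA.IsRelPseudoCoherentModuleAll R A A)
    (K : Dual.D B) (m : ℤ) :
    (DerCA.IsRelPseudoCoherent A B m K ↔ DerCA.IsRelPseudoCoherent R B m K) ∧
      (DerCA.IsRelPseudoCoherentAll A B K ↔ DerCA.IsRelPseudoCoherentAll R B K) := by
  obtain ⟨n, α, hα⟩ := RelPC.exists_presentation R A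
  obtain ⟨k, β, hβ⟩ := RelPC.exists_presentation A B
  have h := RelPC.pcHom_map (k := k) α (RelPC.pcHom_of_relPCModuleAll α hα hA)
  have key : ∀ p : ℤ, DerCA.IsRelPseudoCoherent A B p K ↔ DerCA.IsRelPseudoCoherent R B p K := fun p =>
    ((RelPC.relPC_iff β hβ K (sub_add_cancel p 1)).trans (RelPC.approx_comp_iff h _ K _).symm).trans
      (RelPC.relPC_iff_map α hα β hβ K (sub_add_cancel p 1)).symm
  exact ⟨key m, forall_congr' key⟩

end Groth.Agent.S6985
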