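import Groth.Statements.S6988
import Groth.Agent.PseudoCoh.TorAmp
import Groth.Agent.PseudoCoh.Devissage
import Mathlib.Algebra.Homology.SingleHomology

set_option autoImplicit false
universe u
open CategoryTheory CategoryTheory.Limits
attribute [local instance] HasDerivedCategory.standard
open DRing

namespace Groth.Agent.S6988

open CategoryTheory CategoryTheory.Limits DerivedCategory Groth.Agent.PseudoCoh

attribute [local instance] HasDerivedCategory.standard

/-- Let R be a commutative ring, K a pseudo-coherent object of D(R) and i an integer. Then some finitely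
presented R-module M admits a morphism K → M[-i] in D(R) that is injective on H^i (here H^i(M[-i]) =
M). -/
theorem result (R : Type u) [CommRing R] (K : Dual.D R)
    (hK : DRing.IsPseudoCoherent' R K) (i : ℤ) :
    ∃ (M : Type u) (_ : AddCommGroup M) (_ : Module R M) (_ : Module.FinitePresentation R M)
      (f : K ⟶ (shiftFunctor (Dual.D R) (-i)).obj (Dual.inD R M)),
      Mono ((DerivedCategory.homologyFunctor (ModuleCat.{u} R) i).map f) := by
  obtain ⟨E, b, hb, hff, ⟨e⟩⟩ := hK
  haveI hfin : Module.FinitePresentation R (E.opcycles i) := by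
    obtain ⟨h1, h2⟩ := hff i
    obtain ⟨h3, -⟩ := hff (i - 1)
    haveI : Module.FinitePresentation R (E.X i) := Module.finitePresentation_of_projective R (E.X i)
    haveI : Module.FinitePresentation R (E.X i ⧸ LinearMap.range (E.d (i - 1) i).hom) :=
      Module.finitePresentation_of_surjective (Submodule.mkQ _) (Submodule.mkQ_surjective _)
        (by rw [Submodule.ker_mkQ, LinearMap.range_eq_map]; exact Module.Finite.fg_top.map _)
    exact Module.FinitePresentation.of_equiv (opcyclesEquiv E (i - 1) i (sub_add_cancel i 1)).toLinearEquiv.symm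
  let g : E ⟶ (HomologicalComplex.single (ModuleCat.{u} R) (ComplexShape.up ℤ) i).obj (E.opcycles i) :=
    HomologicalComplex.mkHomToSingle (E.pOpcycles i) fun j _ => E.d_pOpcycles j i
  have ho : HomologicalComplex.opcyclesMap g i =
      (HomologicalComplex.singleObjOpcyclesSelfIso (ComplexShape.up ℤ) i (E.opcycles i)).hom := by
    rw [← cancel_epi (E.pOpcycles i), HomologicalComplex.p_opcyclesMap,
      HomologicalComplex.singleObjOpcyclesSelfIso_hom, HomologicalComplex.mkHomToSingle_f, Category.assoc]
  haveI : Mono (HomologicalComplex.homologyMap g i) := by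
    haveI : Mono (E.homologyι i ≫ HomologicalComplex.opcyclesMap g i) := by rw [ho]; infer_instance
    exact mono_of_mono_fac (HomologicalComplex.homologyι_naturality g i)
  haveI : Mono ((DerivedCategory.homologyFunctor (ModuleCat.{u} R) i).map (DerivedCategory.Q.map g)) :=
    ((MorphismProperty.monomorphisms (ModuleCat.{u} R)).arrow_mk_iso_iff
      (Arrow.isoMk ((DerivedCategory.homologyFunctorFactors (ModuleCat.{u} R) i).app _)
        ((DerivedCategory.homologyFunctorFactors (ModuleCat.{u} R) i).app _)
        ((DerivedCategory.homologyFunctorFactors (ModuleCat.{u} R) i).hom.naturality g).symm)).2 inferInstance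
  let j : DRing.toD ((HomologicalComplex.single (ModuleCat.{u} R) (ComplexShape.up ℤ) i).obj (E.opcycles i)) ≅
      (shiftFunctor (Dual.D R) (-i)).obj (Dual.inD R (E.opcycles i)) :=
    ((DerivedCategory.singleFunctorIsoCompQ (ModuleCat.{u} R) i).app (E.opcycles i)).symm ≪≫
      (singleDIso i (E.opcycles i)).symm
  refine ⟨E.opcycles i, inferInstance, inferInstance, hfin, (e.inv ≫ DerivedCategory.Q.map g) ≫ j.hom, ?_⟩
  let H := DerivedCategory.homologyFunctor (ModuleCat.{u} R) i
  have h1 : Mono (H.map e.inv ≫ H.map (DerivedCategory.Q.map g)) := @mono_comp _ _ _ _ _ _ inferInstance _ inferInstance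
  rw [← H.map_comp] at h1
  rw [H.map_comp]
  exact @mono_comp _ _ _ _ _ _ h1 _ inferInstance

end Groth.Agent.S6988
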