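import Groth.Statements.S6989
import Groth.Agent.PseudoCoh.Finite
import Groth.Agent.PseudoCoh.HomVanishing
import Groth.Agent.PseudoCoh.Criteria
import Mathlib.RingTheory.Filtration

set_option autoImplicit false
universe u
open CategoryTheory CategoryTheory.Limits
attribute [local instance] HasDerivedCategory.standard
open DRing

namespace Groth.Agent.S6989

open CategoryTheory CategoryTheory.Limits DerivedCategory DerivedCategory.TStructure Groth.Agent.PseudoCoh

attribute [local instance] HasDerivedCategory.standard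

/-- Let A be a Noetherian commutative ring, K an object of D(A) whose cohomology vanishes in large
degrees and whose cohomology modules are all finitely generated, m a maximal ideal of A and i an
integer such that m H^i(K) ≠ H^i(K). Then some finitely generated A-module E killed by a power of m
receives a morphism K → E[-i] in D(A) whose induced map H^i(K) → H^i(E[-i]) is nonzero. -/
theorem result (A : Type u) [CommRing A]
    [IsNoetherianRing A] (K : Dual.D A) (hb : ∃ b : ℤ, ∀ j : ℤ, b < j → Subsingleton (Dual.HD A K j))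
    (hfin : ∀ j : ℤ, Module.Finite A (Dual.HD A K j)) (m : Ideal A) [m.IsMaximal] (i : ℤ)
    (hi : m • (⊤ : Submodule A (Dual.HD A K i)) ≠ ⊤) :
    ∃ (E : Type u) (_ : AddCommGroup E) (_ : Module A E) (_ : Module.Finite A E) (n : ℕ)
      (_ : m ^ n • (⊤ : Submodule A E) = ⊥) (f : K ⟶ (shiftFunctor (Dual.D A) (-i)).obj (Dual.inD A E)),
      (DerivedCategory.homologyFunctor (ModuleCat.{u} A) i).map f ≠ 0 := by
  obtain ⟨b, hb⟩ := hb
  obtain ⟨P, c, hPc, hff, ⟨e⟩⟩ := (pc'_iff K).2 fun n => (approx_noetherian_iff rfl K).2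
    ⟨⟨b, (DerivedCategory.isLE_iff _ _).2 fun j hj => @ModuleCat.isZero_of_subsingleton _ _ _ (hb j hj)⟩, fun j _ => hfin j⟩
  haveI := (hff i).1
  let ι := (P.iCycles i).hom
  let π := (P.homologyπ i).hom
  have hπ : Function.Surjective π := (ModuleCat.epi_iff_surjective _).1 inferInstance
  obtain ⟨h, hh⟩ : ∃ h, h + 1 = i := ⟨i - 1, sub_add_cancel _ 1⟩
  let R0 := LinearMap.range (P.d h i).hom
  have hx : ¬ LinearMap.range ι ≤ m • LinearMap.range ι ⊔ R0 := by
    intro hle
    let eH : Dual.HD A K i ≃ₗ[A] P.homology i := ((DerivedCategory.homologyFunctor (ModuleCat.{u} A) i).mapIso e.symm ≪≫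
      (DerivedCategory.homologyFunctorFactors (ModuleCat.{u} A) i).app P).toLinearEquiv
    have h1 : (m • ⊤ : Submodule A (P.homology i)) = ⊤ := by
      have hR : R0 = (LinearMap.range (P.toCycles h i).hom).map ι := by
        rw [← LinearMap.range_comp]
        exact congrArg (fun φ => LinearMap.range (ModuleCat.Hom.hom φ)) (P.toCycles_i h i).symm
      have hinj : Function.Injective ι := (ModuleCat.mono_iff_injective _).1 inferInstance
      rw [hR, LinearMap.range_eq_map ι, ← Submodule.map_smul'', ← Submodule.map_sup,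
        Submodule.map_le_map_iff_of_injective hinj] at hle
      have h2 := Submodule.map_mono (f := π) hle
      rw [Submodule.map_top, LinearMap.range_eq_top.2 hπ, Submodule.map_sup, Submodule.map_smul'', Submodule.map_top,
        LinearMap.range_eq_top.2 hπ, ← LinearMap.range_comp] at h2
      rw [show π ∘ₗ (P.toCycles h i).hom = 0 from congrArg ModuleCat.Hom.hom (P.toCycles_comp_homologyπ h i),
        LinearMap.range_zero, sup_bot_eq] at h2
      exact top_le_iff.1 h2
    refine hi (top_le_iff.1 fun z _ => ?_)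
    have h3 : eH z ∈ (m • ⊤ : Submodule A (P.homology i)) := h1.symm ▸ Submodule.mem_top
    have key : ∀ w ∈ (m • ⊤ : Submodule A (P.homology i)),
        eH.symm w ∈ m • (⊤ : Submodule A (Dual.HD A K i)) := fun w hw =>
      Submodule.smul_induction_on hw
        (fun r hr u _ => by rw [map_smul]; exact Submodule.smul_mem_smul hr Submodule.mem_top)
        fun u v hu hv => by rw [map_add]; exact add_mem hu hv
    have := key _ h3
    rwa [eH.symm_apply_apply] at this
  obtain ⟨x, ⟨y, rfl⟩, hx2⟩ := SetLike.not_le_iff_exists.1 hx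
  let M' := (LinearMap.range ι).map R0.mkQ
  obtain ⟨k, hk⟩ := m.exists_pow_inf_eq_pow_smul M'
  let n := k + 1
  let E := (P.X i ⧸ R0) ⧸ (m ^ n • ⊤ : Submodule A (P.X i ⧸ R0))
  let q : P.X i →ₗ[A] E := Submodule.mkQ _ ∘ₗ R0.mkQ
  have hq : q (ι y) ≠ 0 := fun h0 => hx2 (by
    have h1 : R0.mkQ (ι y) ∈ (m ^ n • ⊤ : Submodule A (P.X i ⧸ R0)) ⊓ M' :=
      ⟨(Submodule.Quotient.mk_eq_zero _).1 h0, Submodule.mem_map_of_mem (LinearMap.mem_range_self ι y)⟩
    rw [hk n (Nat.le_succ k), show n - k = 1 from Nat.add_sub_cancel_left k 1, pow_one] at h1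
    have h2 : R0.mkQ (ι y) ∈ (m • LinearMap.range ι).map R0.mkQ := by
      rw [Submodule.map_smul'']
      exact Submodule.smul_mono le_rfl inf_le_right h1
    rw [sup_comm, ← Submodule.comap_map_mkQ]
    exact h2)
  haveI : Module.Finite A E := inferInstance
  refine ⟨E, inferInstance, inferInstance, inferInstance, n, ?_, ?_⟩
  · refine le_bot_iff.1 (Submodule.smul_le.2 fun a ha v _ => ?_)
    obtain ⟨v, rfl⟩ := Submodule.Quotient.mk_surjective _ v
    exact (Submodule.mem_bot A).2 ((Submodule.Quotient.mk_eq_zero _).2 (Submodule.smul_mem_smul ha Submodule.mem_top))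
  · let g : P ⟶ (HomologicalComplex.single (ModuleCat.{u} A) (ComplexShape.up ℤ) i).obj (ModuleCat.of A E) :=
      HomologicalComplex.mkHomToSingle (ModuleCat.ofHom q) fun l hl => by
        obtain rfl : l = h := by simp at hl; omega
        exact ModuleCat.hom_ext (LinearMap.ext fun w =>
          (congrArg (Submodule.mkQ _) ((Submodule.Quotient.mk_eq_zero R0).2 ⟨w, rfl⟩)).trans (map_zero _))
    refine ⟨e.inv ≫ DerivedCategory.Q.map g ≫ (toDSingleIso i (-i) (by omega) (ModuleCat.of A E)).hom, fun h0 => hq ?_⟩
    let Hm := DerivedCategory.homologyFunctor (ModuleCat.{u} A) i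
    have h1 : Hm.map (DerivedCategory.Q.map g) = 0 := by
      rw [Functor.map_comp, Functor.map_comp] at h0
      rw [← cancel_epi (Hm.map e.inv), ← cancel_mono (Hm.map (toDSingleIso i (-i) (by omega) (ModuleCat.of A E)).hom),
        Category.assoc, h0, comp_zero, zero_comp]
    have h2 : HomologicalComplex.homologyMap g i = 0 := by
      have h3 := (DerivedCategory.homologyFunctorFactors (ModuleCat.{u} A) i).hom.naturality g
      change Hm.map (DerivedCategory.Q.map g) ≫ _ = _ at h3
      rw [h1, zero_comp] at h3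
      exact (cancel_epi ((DerivedCategory.homologyFunctorFactors (ModuleCat.{u} A) i).app P).hom).1 (h3.symm.trans comp_zero.symm)
    let F := (HomologicalComplex.single (ModuleCat.{u} A) (ComplexShape.up ℤ) i).obj (ModuleCat.of A E)
    haveI : IsIso (F.homologyπ i) :=
      F.isIso_homologyπ h i (by simp; omega) (HomologicalComplex.single_obj_d _ _ _ _ _)
    have h3 := HomologicalComplex.homologyπ_naturality g i
    rw [h2, comp_zero] at h3
    have h4 := HomologicalComplex.cyclesMap_i g i
    rw [(cancel_mono (F.homologyπ i)).1 (h3.symm.trans zero_comp.symm), zero_comp, HomologicalComplex.mkHomToSingle_f,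
      ← Category.assoc] at h4
    have h5 : P.iCycles i ≫ ModuleCat.ofHom q = 0 :=
      (cancel_mono (HomologicalComplex.singleObjXSelf (ComplexShape.up ℤ) i (ModuleCat.of A E)).inv).1 (h4.symm.trans zero_comp.symm)
    exact ConcreteCategory.congr_hom h5 y

end Groth.Agent.S6989
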