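import Groth.Statements.S6991
import Mathlib.Algebra.Module.FinitePresentation
import Mathlib.RingTheory.FinitePresentation
import Mathlib.LinearAlgebra.TensorProduct.Tower
import Mathlib.Algebra.MvPolynomial.Eval

set_option autoImplicit false
universe u
open CAlg

namespace Groth.Agent.S6991

theorem down {P B M : Type*} [CommRing P] [CommRing B] [AddCommGroup M] (f : P →+* B) (hf : Function.Surjective f)
    (mP : Module P M) (mB : Module B M) (hcomp : ∀ (p : P) (x : M), mP.smul p x = mB.smul (f p) x)
    (h : @Module.FinitePresentation P M _ _ mP) : @Module.FinitePresentation B M _ _ mB := by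
  letI := f.toAlgebra
  haveI : IsScalarTower P B M := IsScalarTower.of_algebraMap_smul fun p x => (hcomp p x).symm
  let g : TensorProduct P B M →ₗ[B] M := TensorProduct.AlgebraTensorModule.lift
    { toFun := fun b => b • LinearMap.id
      map_add' := fun a b => add_smul a b _
      map_smul' := fun a b => mul_smul a b _ }
  have hg : Function.Bijective g := by
    refine ⟨Function.LeftInverse.injective (g := fun m => (1 : B) ⊗ₜ[P] m) fun z => ?_, fun m => ⟨(1 : B) ⊗ₜ[P] m, by simp [g]⟩⟩
    induction z with
    | zero => simp
    | tmul b m =>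
      obtain ⟨p, rfl⟩ := hf b
      show (1 : B) ⊗ₜ[P] (f p • m) = _
      rw [show f p • m = p • m from (hcomp p m).symm, TensorProduct.tmul_smul, TensorProduct.smul_tmul']
      congr 1
      exact mul_one _
    | add x y hx hy => simp only [map_add, TensorProduct.tmul_add] at *; rw [hx, hy]
  exact Module.FinitePresentation.of_equiv (LinearEquiv.ofBijective g hg)

theorem up {P B M : Type*} [CommRing P] [CommRing B] [AddCommGroup M] (f : P →+* B) (hf : Function.Surjective f) (hk : (RingHom.ker f).FG)
    (mP : Module P M) (mB : Module B M) (hcomp : ∀ (p : P) (x : M), mP.smul p x = mB.smul (f p) x)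
    (h : @Module.FinitePresentation B M _ _ mB) : @Module.FinitePresentation P M _ _ mP := by
  letI := f.toAlgebra
  haveI : IsScalarTower P B M := IsScalarTower.of_algebraMap_smul fun p x => (hcomp p x).symm
  haveI : Module.FinitePresentation P B := Module.finitePresentation_of_surjective (Algebra.linearMap P B) hf hk
  exact Module.FinitePresentation.trans B (R := P) (M := M)


/-- Let R → A be a finite type homomorphism of commutative rings, M an A-module, and α : R[x_1, ...,
x_n] → A, β : R[y_1, ..., y_k] → A surjective R-algebra homomorphisms. Then M is finitely presented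
as an R[x_1, ..., x_n]-module through α if and only if M is finitely presented as an R[y_1, ...,
y_k]-module through β. If this holds, M is a finitely presented A-module. -/
theorem result {R A : Type u} [CommRing R] [CommRing A] [Algebra R A]
    [Algebra.FiniteType R A] (M : Type u) [AddCommGroup M] [Module A M] {n k : ℕ}
    (α : MvPolynomial (Fin n) R →ₐ[R] A) (hα : Function.Surjective α)
    (β : MvPolynomial (Fin k) R →ₐ[R] A) (hβ : Function.Surjective β) :
    (@Module.FinitePresentation (MvPolynomial (Fin n) R) M _ _ (Module.compHom M α.toRingHom) ↔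
      @Module.FinitePresentation (MvPolynomial (Fin k) R) M _ _ (Module.compHom M β.toRingHom)) ∧
      (@Module.FinitePresentation (MvPolynomial (Fin n) R) M _ _ (Module.compHom M α.toRingHom) →
        Module.FinitePresentation A M) := by
  classical
  refine ⟨?_, fun h => down α.toRingHom hα (Module.compHom M α.toRingHom) inferInstance (fun _ _ => rfl) h⟩
  let γ : MvPolynomial (Fin n ⊕ Fin k) R →ₐ[R] A := MvPolynomial.aeval (Sum.elim (fun i => α (MvPolynomial.X i)) (fun i => β (MvPolynomial.X i)))
  choose u hu using fun j : Fin k => hα (β (MvPolynomial.X j))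
  choose v hv using fun i : Fin n => hβ (α (MvPolynomial.X i))
  let ε : MvPolynomial (Fin n ⊕ Fin k) R →ₐ[R] MvPolynomial (Fin n) R := MvPolynomial.aeval (Sum.elim MvPolynomial.X u)
  let δ : MvPolynomial (Fin n ⊕ Fin k) R →ₐ[R] MvPolynomial (Fin k) R := MvPolynomial.aeval (Sum.elim v MvPolynomial.X)
  have hε : Function.Surjective ε := fun p => ⟨MvPolynomial.rename Sum.inl p, by simp [ε, MvPolynomial.aeval_rename, MvPolynomial.aeval_X_left_apply]⟩
  have hδ : Function.Surjective δ := fun p => ⟨MvPolynomial.rename Sum.inr p, by simp [δ, MvPolynomial.aeval_rename, MvPolynomial.aeval_X_left_apply]⟩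
  have e1 : α.comp ε = γ := MvPolynomial.algHom_ext (by rintro (i | j) <;> simp [ε, γ, hu])
  have e2 : β.comp δ = γ := MvPolynomial.algHom_ext (by rintro (i | j) <;> simp [δ, γ, hv])
  have both : ∀ {m : ℕ} (a : MvPolynomial (Fin m) R →ₐ[R] A) (e : MvPolynomial (Fin n ⊕ Fin k) R →ₐ[R] MvPolynomial (Fin m) R),
      Function.Surjective e → a.comp e = γ →
      (@Module.FinitePresentation (MvPolynomial (Fin m) R) M _ _ (Module.compHom M a.toRingHom) ↔
        @Module.FinitePresentation (MvPolynomial (Fin n ⊕ Fin k) R) M _ _ (Module.compHom M γ.toRingHom)) := by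
    intro m a e he hae
    refine ⟨fun h => up e.toRingHom he (Algebra.FinitePresentation.ker_fG_of_surjective e he) (Module.compHom M γ.toRingHom) (Module.compHom M a.toRingHom) (fun c x => ?_) h,
      fun h => down e.toRingHom he (Module.compHom M γ.toRingHom) (Module.compHom M a.toRingHom) (fun c x => ?_) h⟩ <;>
    · show γ c • x = a (e c) • x
      rw [← hae]; rfl
  exact (both α ε hε e1).trans (both β δ hδ e2).symm

end Groth.Agent.S6991
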