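import Groth.Statements.S6992
import Groth.Agent.RelPC.Module

set_option autoImplicit false
universe u
open CAlg

namespace Groth.Agent.S6992

open CategoryTheory DerivedCategory

attribute [local instance] HasDerivedCategory.standard

/-- Let R be a commutative ring, A → B a finite homomorphism of finite type R-algebras, M a B-module,
and α : R[x_1, ..., x_n] → A, β : R[y_1, ..., y_k] → B surjective R-algebra homomorphisms. Then M is
finitely presented as an R[x_1, ..., x_n]-module through α and A → B (M is finitely presented
relative to R as an A-module) if and only if M is finitely presented as an R[y_1, ..., y_k]-module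
through β (M is finitely presented relative to R as a B-module). -/
theorem result {R A B : Type u} [CommRing R] [CommRing A] [CommRing B]
    [Algebra R A] [Algebra A B] [Algebra R B] [IsScalarTower R A B] [Algebra.FiniteType R A]
    [Algebra.FiniteType R B] [Module.Finite A B] (M : Type u) [AddCommGroup M] [Module B M] [Module A M]
    [IsScalarTower A B M] {n k : ℕ} (α : MvPolynomial (Fin n) R →ₐ[R] A) (hα : Function.Surjective α)
    (β : MvPolynomial (Fin k) R →ₐ[R] B) (hβ : Function.Surjective β) :
    @Module.FinitePresentation (MvPolynomial (Fin n) R) M _ _ (Module.compHom M α.toRingHom) ↔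
      @Module.FinitePresentation (MvPolynomial (Fin k) R) M _ _ (Module.compHom M β.toRingHom) := by
  have key := RelPC.approx_presentation_iff (IsScalarTower.toAlgHom R A B)
    (RingHom.finite_algebraMap.2 inferInstance : (algebraMap A B).Finite) α hα β hβ (Dual.inD B M) (-2)
  refine (Iff.trans ?_ key).trans (RelPC.fp_iff_approx _ M).symm
  let N := (ModuleCat.restrictScalars.{u} (algebraMap A B)).obj (ModuleCat.of B M)
  let e : M ≃ₗ[A] N := { AddEquiv.refl M with map_smul' := fun a x => (algebraMap_smul B a x).symm }
  let e' : Dual.inD A M ≅ (DRing.restrictD (algebraMap A B)).obj (Dual.inD B M) :=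
    (DerivedCategory.singleFunctor (ModuleCat.{u} A) 0).mapIso e.toModuleIso ≪≫
      (RelPC.restrictInDIso (algebraMap A B) (ModuleCat.of B M)).symm
  exact (RelPC.fp_iff_approx _ M).trans ⟨PseudoCoh.approx_of_iso ((DRing.restrictD _).mapIso e'),
    PseudoCoh.approx_of_iso ((DRing.restrictD _).mapIso e').symm⟩

end Groth.Agent.S6992
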