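import Groth.Statements.S6993
import Groth.Agent.RelPC.Poly
import Mathlib.RingTheory.FinitePresentation

set_option autoImplicit false
universe u
open CAlg

namespace Groth.Agent.S6993

open CategoryTheory DerivedCategory
open scoped TensorProduct

attribute [local instance] HasDerivedCategory.standard MvPolynomial.algebraMvPolynomial

lemma finitePresentation_equiv {R M N : Type u} [CommRing R] [AddCommGroup M] [Module R M] [AddCommGroup N] [Module R N]
    (e : M ≃ₗ[R] N) (h : Module.FinitePresentation R M) : Module.FinitePresentation R N :=
  haveI := h
  Module.FinitePresentation.of_equiv e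

/-- Let R → A → B be finite type homomorphisms of commutative rings with A of finite presentation over
R, M a B-module, and α : A[x_1, ..., x_n] → B, β : R[y_1, ..., y_k] → B surjective algebra
homomorphisms over A and R respectively. If M is finitely presented as an A[x_1, ..., x_n]-module
through α (finitely presented relative to A), then M is finitely presented as an R[y_1, ...,
y_k]-module through β (finitely presented relative to R). -/
theorem result {R A B : Type u} [CommRing R] [CommRing A]
    [CommRing B] [Algebra R A] [Algebra A B] [Algebra R B] [IsScalarTower R A B] [Algebra.FinitePresentation R A]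
    [Algebra.FiniteType A B] (M : Type u) [AddCommGroup M] [Module B M] {n k : ℕ}
    (α : MvPolynomial (Fin n) A →ₐ[A] B) (hα : Function.Surjective α)
    (β : MvPolynomial (Fin k) R →ₐ[R] B) (hβ : Function.Surjective β)
    (hM : @Module.FinitePresentation (MvPolynomial (Fin n) A) M _ _ (Module.compHom M α.toRingHom)) :
    @Module.FinitePresentation (MvPolynomial (Fin k) R) M _ _ (Module.compHom M β.toRingHom) := by
  obtain ⟨l, π, hπ, hker⟩ := Algebra.FinitePresentation.out (R := R) (A := A)
  haveI : Algebra.FiniteType R B := Algebra.FiniteType.of_surjective β hβ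
  letI := (π : MvPolynomial (Fin l) R →+* A).toAlgebra
  haveI : Module.FinitePresentation (MvPolynomial (Fin n) (MvPolynomial (Fin l) R)) (MvPolynomial (Fin n) A) :=
    Module.finitePresentation_of_surjective (Algebra.linearMap _ _)
      (MvPolynomial.map_surjective (π : MvPolynomial (Fin l) R →+* A) hπ) (by
      change (RingHom.ker (MvPolynomial.map (σ := Fin n) (π : MvPolynomial (Fin l) R →+* A))).FG
      rw [MvPolynomial.ker_map]
      exact hker.map _)
  letI : Module (MvPolynomial (Fin n) A) M := Module.compHom M α.toRingHom
  letI : Module (MvPolynomial (Fin n) (MvPolynomial (Fin l) R)) M :=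
    Module.compHom M ((α : MvPolynomial (Fin n) A →+* B).comp (MvPolynomial.map (π : MvPolynomial (Fin l) R →+* A)))
  haveI : IsScalarTower (MvPolynomial (Fin n) (MvPolynomial (Fin l) R)) (MvPolynomial (Fin n) A) M :=
    IsScalarTower.of_algebraMap_smul fun _ _ => rfl
  haveI : Module.FinitePresentation (MvPolynomial (Fin n) A) M := hM
  have h0 : (-2 : ℤ) + 1 = -1 := by omega
  have h1 : Module.FinitePresentation (MvPolynomial (Fin n) (MvPolynomial (Fin l) R)) M :=
    Module.FinitePresentation.trans (MvPolynomial (Fin n) (MvPolynomial (Fin l) R)) M (MvPolynomial (Fin n) A)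
  exact (RelPC.fp_iff_approx _ M).2 ((RelPC.relPC_iff β hβ _ h0).1
    ((RelPC.relPC_iff_map π hπ α hα _ h0).2 ((RelPC.fp_iff_approx _ M).1 h1)))

end Groth.Agent.S6993
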