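import Groth.Statements.S6995
import Groth.Agent.PseudoCoh.RegularGap

set_option autoImplicit false
universe u
open CategoryTheory CategoryTheory.Limits
attribute [local instance] HasDerivedCategory.standard
open DRing

namespace Groth.Agent.S6995

open CategoryTheory CategoryTheory.Limits CategoryTheory.Pretriangulated DerivedCategory DerivedCategory.TStructure Groth.Agent.PseudoCoh

attribute [local instance] HasDerivedCategory.standard

/-- Let R be a Noetherian regular commutative ring of finite Krull dimension d ≥ 1, K a perfect object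
of D(R) and k an integer such that H^i(K) = 0 for every i with k - d + 2 ≤ i ≤ k. Then K splits in
D(R) as the direct sum of its canonical truncations: there is an isomorphism K ≅ τ_(≤ k-d+1) K ⊕
τ_(≥ k+1) K under which the truncation map τ_(≤ k-d+1) K → K becomes the first inclusion and K →
τ_(≥ k+1) K the second projection. -/
theorem result (R : Type u) [CommRing R] [IsNoetherianRing R]
    (hreg : ∀ p : PrimeSpectrum R, IsRegularLocalRing (Localization.AtPrime p.asIdeal)) (d : ℕ) (hd1 : 1 ≤ d)
    (hd : ringKrullDim R = d) (K : Dual.D R) (hK : DRing.IsPerfect R K) (k : ℤ)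
    (hgap : ∀ i : ℤ, k - d + 2 ≤ i → i ≤ k → Subsingleton (Dual.HD R K i))
    [HasBinaryBiproduct
      (((DerivedCategory.TStructure.t : Triangulated.TStructure (Dual.D R)).truncLT (k - d + 2)).obj K)
      (((DerivedCategory.TStructure.t : Triangulated.TStructure (Dual.D R)).truncGE (k + 1)).obj K)] :
    ∃ e : K ≅
      ((DerivedCategory.TStructure.t : Triangulated.TStructure (Dual.D R)).truncLT (k - d + 2)).obj K ⊞
        ((DerivedCategory.TStructure.t : Triangulated.TStructure (Dual.D R)).truncGE (k + 1)).obj K,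
      ((DerivedCategory.TStructure.t : Triangulated.TStructure (Dual.D R)).truncLTι (k - d + 2)).app K ≫ e.hom =
          biprod.inl ∧
        e.hom ≫ biprod.snd =
          ((DerivedCategory.TStructure.t : Triangulated.TStructure (Dual.D R)).truncGEπ (k + 1)).app K := by
  obtain ⟨n', b, hn⟩ := ((perfect_iff K).1 hK).2
  have hb : t.IsLE K b := isLE_of_torAmplitude hn
  let m : ℤ := k - d + 2
  have hm : m ≤ k + 1 := by change k - (d : ℤ) + 2 ≤ k + 1; omega
  let T := (t.triangleLTGE m).obj K
  have hT : T ∈ distTriang (Dual.D R) := t.triangleLTGE_distinguished m K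
  have h1 : t.IsLE T.obj₁ (m - 1) := inferInstanceAs (t.IsLE ((t.triangleLTGE m).obj K).obj₁ (m - 1))
  have h3 : t.IsGE T.obj₃ m := inferInstanceAs (t.IsGE ((t.triangleLTGE m).obj K).obj₃ m)
  have z1 : ∀ i, m - 1 < i → IsZero ((DerivedCategory.homologyFunctor (ModuleCat.{u} R) i).obj T.obj₁) :=
    (DerivedCategory.isLE_iff _ _).1 h1
  have h3' : t.IsGE T.obj₃ (k + 1) := (DerivedCategory.isGE_iff _ _).2 fun i hi => by
    rcases lt_or_ge i m with h | h
    · exact (DerivedCategory.isGE_iff _ _).1 h3 i h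
    · haveI : Mono ((DerivedCategory.homologyFunctor (ModuleCat.{u} R) i).map T.mor₂) :=
        (HomologySequence.mono_homologyMap_mor₂_iff T hT i).2 ((z1 i (by omega)).eq_of_src _ _)
      haveI : Epi ((DerivedCategory.homologyFunctor (ModuleCat.{u} R) i).map T.mor₂) :=
        (HomologySequence.epi_homologyMap_mor₂_iff T hT i (i + 1) rfl).2 ((z1 _ (by omega)).eq_of_tgt _ _)
      haveI := isIso_of_mono_of_epi ((DerivedCategory.homologyFunctor (ModuleCat.{u} R) i).map T.mor₂)
      exact (@ModuleCat.isZero_of_subsingleton _ _ _ (hgap i h (by omega)) : IsZero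
        ((DerivedCategory.homologyFunctor (ModuleCat.{u} R) i).obj K)).of_iso
        (asIso ((DerivedCategory.homologyFunctor (ModuleCat.{u} R) i).map T.mor₂)).symm
  have h3b : t.IsLE T.obj₃ (max b m) := by
    haveI : t.IsLE (T.obj₁⟦(1 : ℤ)⟧) (m - 1 - 1) := t.isLE_shift T.obj₁ (m - 1) 1 (m - 1 - 1) (by omega)
    exact t.isLE₂ _ (rot_of_distTriang _ hT) _ (t.isLE_of_le K b _ (le_max_left _ _))
      (t.isLE_of_le (T.obj₁⟦(1 : ℤ)⟧) (m - 1 - 1) _ (by omega))
  haveI : HasBinaryBiproduct T.obj₁ T.obj₃ := inferInstance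
  obtain ⟨i, hi1, hi2⟩ := exists_iso_binaryBiproduct_of_distTriang T hT
    (eq_zero_of_gap hreg d hd.le h3b h3' (t.isLE_shift T.obj₁ (m - 1) 1 (k - d) (by change 1 + (k - (d : ℤ)) = k - d + 2 - 1; omega)) T.mor₃)
  have g1 : t.IsGE ((t.truncGE (k + 1)).obj K) m :=
    haveI : t.IsGE ((t.truncGE (k + 1)).obj K) (k + 1) := inferInstance
    t.isGE_of_ge _ m (k + 1) hm
  haveI := g1
  haveI g2 : t.IsGE ((t.truncGE m).obj K) (k + 1) := h3'
  let θ : (t.truncGE m).obj K ≅ (t.truncGE (k + 1)).obj K :=
    { hom := t.descTruncGE ((t.truncGEπ (k + 1)).app K) m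
      inv := t.descTruncGE ((t.truncGEπ m).app K) (k + 1)
      hom_inv_id := t.from_truncGE_obj_ext ((Category.assoc _ _ _).symm.trans ((congrArg (· ≫ _) (t.π_descTruncGE _ _)).trans ((t.π_descTruncGE _ _).trans (Category.comp_id _).symm)))
      inv_hom_id := t.from_truncGE_obj_ext ((Category.assoc _ _ _).symm.trans ((congrArg (· ≫ _) (t.π_descTruncGE _ _)).trans ((t.π_descTruncGE _ _).trans (Category.comp_id _).symm))) }
  refine ⟨i ≪≫ biprod.mapIso (Iso.refl _) θ, ?_, ?_⟩
  · refine (Category.assoc _ _ _).symm.trans ?_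
    refine (congrArg (· ≫ (biprod.mapIso (Iso.refl _) θ).hom) hi1).trans ?_
    exact (biprod.inl_map _ _).trans (Category.id_comp _)
  · refine (Category.assoc _ _ _).trans ?_
    refine (congrArg (i.hom ≫ ·) (biprod.map_snd _ _)).trans ?_
    refine (Category.assoc _ _ _).symm.trans ?_
    refine (congrArg (· ≫ θ.hom) hi2.symm).trans ?_
    exact t.π_descTruncGE _ _

end Groth.Agent.S6995
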