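import Groth.Statements.S6998
import Groth.Agent.RelPC.TorIndep
import Groth.Agent.RelPC.Module
import Mathlib.RingTheory.TensorProduct.MvPolynomial

set_option autoImplicit false
universe u
open CategoryTheory CategoryTheory.Limits
attribute [local instance] HasDerivedCategory.standard
open DerCA

namespace Groth.Agent.S6998

open CategoryTheory CategoryTheory.Limits DerivedCategory
open scoped TensorProduct

attribute [local instance] HasDerivedCategory.standard MvPolynomial.algebraMvPolynomial

lemma injective_baseChange {R A N P Q : Type u} [CommRing R] [CommRing A] [Algebra R A] [AddCommGroup N] [Module A N]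
    [Module R N] [IsScalarTower R A N] [AddCommGroup P] [Module R P] [AddCommGroup Q] [Module R Q] (f : P →ₗ[R] Q)
    (h : Function.Injective (f.lTensor N)) : Function.Injective ((f.baseChange A).lTensor N) := fun x y hxy => by
  refine (TensorProduct.AlgebraTensorModule.cancelBaseChange R A A N P).injective (h ?_)
  rw [← Flat.LocalCriterion.cancel_lTensor, ← Flat.LocalCriterion.cancel_lTensor, hxy]

/-- Let R → A be a finite type homomorphism of commutative rings and R → R' a ring homomorphism such
that Tor_p^R(A, R') = 0 for every p > 0; put A' = R' ⊗_R A and assume the derived base change D(A) →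
D(A') exists. Let K be an object of D(A) and m an integer. If K is m-pseudo-coherent relative to R,
then K ⊗^L_A A' is m-pseudo-coherent relative to R'; if K is pseudo-coherent relative to R, then K
⊗^L_A A' is pseudo-coherent relative to R'. -/
theorem result {R A R' : Type u} [CommRing R] [CommRing A]
    [CommRing R'] [Algebra R A] [Algebra.FiniteType R A] [Algebra R R']
    (htor : ∀ p : ℕ, 0 < p → Subsingleton (DRing.Tor R p A R'))
    [DRing.HasLBaseChange (Algebra.TensorProduct.includeRight : A →ₐ[R] TensorProduct R R' A).toRingHom]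
    (K : Dual.D A) (m : ℤ) :
    (DerCA.IsRelPseudoCoherent R A m K → DerCA.IsRelPseudoCoherent R' (TensorProduct R R' A) m
      ((DRing.LBaseChange (Algebra.TensorProduct.includeRight : A →ₐ[R] TensorProduct R R' A).toRingHom).obj K)) ∧
      (DerCA.IsRelPseudoCoherentAll R A K → DerCA.IsRelPseudoCoherentAll R' (TensorProduct R R' A)
        ((DRing.LBaseChange (Algebra.TensorProduct.includeRight : A →ₐ[R] TensorProduct R R' A).toRingHom).obj K)) := by
  obtain ⟨n, α, hα⟩ := RelPC.exists_presentation R A
  letI := (α : MvPolynomial (Fin n) R →+* A).toAlgebra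
  haveI : IsScalarTower R (MvPolynomial (Fin n) R) A := IsScalarTower.of_algebraMap_eq' α.comp_algebraMap.symm
  letI : Algebra A (TensorProduct R R' A) := (Algebra.TensorProduct.includeRight : A →ₐ[R] TensorProduct R R' A).toRingHom.toAlgebra
  haveI : DRing.HasLBaseChange (algebraMap A (TensorProduct R R' A)) :=
    ‹DRing.HasLBaseChange (Algebra.TensorProduct.includeRight : A →ₐ[R] TensorProduct R R' A).toRingHom›
  let β : MvPolynomial (Fin n) R' →ₐ[R'] TensorProduct R R' A :=
    MvPolynomial.aeval (fun i => (1 : R') ⊗ₜ[R] α (MvPolynomial.X i))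
  letI := (β : MvPolynomial (Fin n) R' →+* TensorProduct R R' A).toAlgebra
  letI : Algebra (MvPolynomial (Fin n) R) (TensorProduct R R' A) :=
    ((algebraMap A (TensorProduct R R' A)).comp (α : MvPolynomial (Fin n) R →+* A)).toAlgebra
  haveI : IsScalarTower (MvPolynomial (Fin n) R) A (TensorProduct R R' A) := IsScalarTower.of_algebraMap_eq' rfl
  haveI : IsScalarTower R A (TensorProduct R R' A) := IsScalarTower.of_algebraMap_eq fun r =>
    ((Algebra.TensorProduct.includeRight : A →ₐ[R] TensorProduct R R' A).commutes r).symm
  haveI : IsScalarTower (MvPolynomial (Fin n) R) (MvPolynomial (Fin n) R') (TensorProduct R R' A) := by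
    refine IsScalarTower.of_algebraMap_eq' (MvPolynomial.ringHom_ext (fun r => ?_) fun i => ?_)
    · change (1 : R') ⊗ₜ[R] α (MvPolynomial.C r) = β (MvPolynomial.map (algebraMap R R') (MvPolynomial.C r))
      rw [MvPolynomial.map_C, MvPolynomial.aeval_C, ← MvPolynomial.algebraMap_eq, AlgHom.commutes,
        Algebra.TensorProduct.algebraMap_apply, Algebra.algebraMap_self, RingHom.id_apply,
        Algebra.algebraMap_eq_smul_one, Algebra.algebraMap_eq_smul_one, TensorProduct.smul_tmul]
    · change (1 : R') ⊗ₜ[R] α (MvPolynomial.X i) = β (MvPolynomial.map (algebraMap R R') (MvPolynomial.X i))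
      rw [MvPolynomial.map_X, MvPolynomial.aeval_X]
  haveI : IsScalarTower R' (MvPolynomial (Fin n) R') (TensorProduct R R' A) :=
    IsScalarTower.of_algebraMap_eq' β.comp_algebraMap.symm
  haveI : IsScalarTower R (MvPolynomial (Fin n) R') (TensorProduct R R' A) := IsScalarTower.to₁₃₄ R R' _ _
  haveI hpo : Algebra.IsPushout R (MvPolynomial (Fin n) R) R' (MvPolynomial (Fin n) R') := inferInstance
  haveI hpA : Algebra.IsPushout R R' A (TensorProduct R R' A) := TensorProduct.isPushout
  haveI : Algebra.IsPushout (MvPolynomial (Fin n) R) (MvPolynomial (Fin n) R') A (TensorProduct R R' A) :=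
    ((Algebra.IsPushout.comp_iff (R := R) (S := MvPolynomial (Fin n) R) (R' := R') (S' := MvPolynomial (Fin n) R')
      (T := A) (T' := TensorProduct R R' A)).1 hpA.symm).symm
  obtain ⟨T, W, t, hT, hTor⟩ := Flat.TorDim.exists_syz (R := R) R'
  let S := MvPolynomial (Fin n) R
  let TS : ℕ → ModuleCat.{u} S := fun p => ModuleCat.of S (TensorProduct R S (T p))
  let WS : ℕ → ModuleCat.{u} S := fun p => ModuleCat.of S (TensorProduct R S (W p))
  let s : Flat.TorDim.Syz S (fun p => TS p) (fun p => WS p) :=
    { flat := fun p => haveI := t.flat p; (inferInstance : Module.Flat S (TensorProduct R S (W p)))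
      ι := fun p => (t.ι p).baseChange S
      π := fun p => (t.π p).baseChange S
      inj := fun p => Module.Flat.lTensor_preserves_injective_linearMap (M := S) _ (t.inj p)
      exact := fun p => Module.Flat.lTensor_exact S (t.exact p)
      surj := fun p => LinearMap.lTensor_surjective _ (t.surj p) }
  let eS : TS 0 ≃ₗ[S] MvPolynomial (Fin n) R' :=
    ((eqToIso hT).toLinearEquiv.baseChange R S).trans
      (Algebra.IsPushout.equiv R (MvPolynomial (Fin n) R) R' (MvPolynomial (Fin n) R')).toLinearEquiv
  have hA0 : ∀ p, Function.Injective ((t.ι p).baseChange A) := fun p => by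
    haveI := t.flat p
    exact (Flat.TorDim.torZero_iff_of_cover (t.ι p) (t.π p) (t.inj p) (t.exact p) (t.surj p)).1
      (Flat.TorDim.torZero_symm ((hTor A p).1 (@ModuleCat.isZero_of_subsingleton _ _ _ (htor (p + 1) p.succ_pos))))
  have hA : ∀ (M : ModuleCat.{u} A), Module.Flat A M →
      RelPC.Acyc s ((ModuleCat.restrictScalars.{u} (algebraMap S A)).obj M) := fun M hM p => by
    letI : Module R M := Module.compHom M (algebraMap R A)
    haveI : IsScalarTower R A M := IsScalarTower.of_algebraMap_smul fun r x => rfl
    letI : Module S M := Module.compHom M (algebraMap S A)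
    haveI : IsScalarTower S A M := IsScalarTower.of_algebraMap_smul fun r x => rfl
    haveI : IsScalarTower R S M := IsScalarTower.of_algebraMap_smul fun r x => by
      change algebraMap S A (algebraMap R S r) • x = algebraMap R A r • x
      rw [← IsScalarTower.algebraMap_apply]
    have h1 := Module.Flat.lTensor_preserves_injective_linearMap (M := M) _ (hA0 p)
    have h2 : Function.Injective ((t.ι p).lTensor M) := fun x y hxy => by
      obtain ⟨x, rfl⟩ := (TensorProduct.AlgebraTensorModule.cancelBaseChange R A A M (T (p + 1))).surjective x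
      obtain ⟨y, rfl⟩ := (TensorProduct.AlgebraTensorModule.cancelBaseChange R A A M (T (p + 1))).surjective y
      rw [← Flat.LocalCriterion.cancel_lTensor, ← Flat.LocalCriterion.cancel_lTensor] at hxy
      exact congrArg _ (h1 ((LinearEquiv.injective _) hxy))
    exact injective_baseChange (A := S) (N := M) (t.ι p) h2
  have hβ : Function.Surjective β := fun z => by
    induction z using TensorProduct.induction_on with
    | zero => exact ⟨0, map_zero β⟩
    | add x y hx hy => exact ⟨hx.choose + hy.choose, by rw [map_add, hx.choose_spec, hy.choose_spec]⟩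
    | tmul r a =>
      obtain ⟨q, rfl⟩ := hα a
      refine ⟨MvPolynomial.C r * MvPolynomial.map (algebraMap R R') q, ?_⟩
      have e : β (MvPolynomial.map (algebraMap R R') q) = (1 : R') ⊗ₜ[R] α q :=
        (IsScalarTower.algebraMap_apply S (MvPolynomial (Fin n) R') (TensorProduct R R' A) q).symm
      rw [map_mul, e, MvPolynomial.aeval_C, Algebra.TensorProduct.algebraMap_apply, Algebra.algebraMap_self,
        RingHom.id_apply, Algebra.TensorProduct.tmul_mul_tmul, mul_one, one_mul]
  have key : ∀ p : ℤ, DerCA.IsRelPseudoCoherent R A p K → DerCA.IsRelPseudoCoherent R' (TensorProduct R R' A) p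
      ((DRing.LBaseChange (algebraMap A (TensorProduct R R' A))).obj K) := fun p hp =>
    (RelPC.relPC_iff β hβ _ (sub_add_cancel p 1)).2 (RelPC.approx_lBaseChange_torIndep (S' := MvPolynomial (Fin n) R') s eS hA K
      ((RelPC.relPC_iff α hα K (sub_add_cancel p 1)).1 hp))
  exact ⟨key m, fun h p => key p (h p)⟩

end Groth.Agent.S6998
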