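import Groth.Statements.S7002
import Groth.Agent.PseudoCoh.Spread
import Groth.Agent.PseudoCoh.Criteria

set_option autoImplicit false
universe u
open CategoryTheory CategoryTheory.Limits
attribute [local instance] HasDerivedCategory.standard
open DRing

namespace Groth.Agent.S7002

open CategoryTheory CategoryTheory.Limits CategoryTheory.Pretriangulated DerivedCategory DerivedCategory.TStructure Groth.Agent.PseudoCoh
open scoped TensorProduct

attribute [local instance] HasDerivedCategory.standard

lemma fpExtend {A B : Type u} [CommRing A] [CommRing B] (φ : A →+* B) {E : DRing.Cx A} (h : DRing.TermwiseFiniteProjective E) :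
    DRing.TermwiseFiniteProjective ((Fc φ).obj E) := fun j => by
  obtain ⟨h1, h2⟩ := h j
  haveI := (IsProjective.iff_projective (E.X j)).1 h2
  refine ⟨?_, (IsProjective.iff_projective (((Fc φ).obj E).X j)).2
    ((ModuleCat.extendRestrictScalarsAdj.{u, u, u} φ).map_projective _ inferInstance)⟩
  letI := φ.toAlgebra
  exact (inferInstance : Module.Finite B (B ⊗[A] E.X j))

lemma exactAt_comp {A B C : Type u} [CommRing A] [CommRing B] [CommRing C] (φ : A →+* B) (θ : B →+* C) (ρ : A →+* C)
    (h : θ.comp φ = ρ) {E : DRing.Cx A} {i : ℤ} (hE : ((Fc ρ).obj E).ExactAt i) :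
    ((Fc θ).obj ((Fc φ).obj E)).ExactAt i := by
  subst h
  exact hE.of_iso ((NatIso.mapHomologicalComplex (ModuleCat.extendScalarsComp φ θ) (ComplexShape.up ℤ)).app E)

lemma exact_extend_iff {A S : Type u} [CommRing A] [CommRing S] [inst : Algebra A S] {E : DRing.Cx A} {i j k : ℤ}
    (hij : i + 1 = j) (hjk : j + 1 = k) : ((Fc (algebraMap A S)).obj E).ExactAt j ↔
      Function.Exact ((E.d i j).hom.lTensor S) ((E.d j k).hom.lTensor S) := by
  suffices key : ∀ (ψ : A →+* S) (a : Algebra A S), a = ψ.toAlgebra → (((Fc ψ).obj E).ExactAt j ↔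
      (letI := a; Function.Exact ((E.d i j).hom.lTensor S) ((E.d j k).hom.lTensor S))) from
    key (algebraMap A S) inst (Algebra.algebra_ext _ _ fun _ => rfl)
  rintro ψ a rfl
  rw [HomologicalComplex.exactAt_iff' _ i j k (by simp; omega) (by simp; omega),
    ShortComplex.ShortExact.moduleCat_exact_iff_function_exact]
  rfl

lemma projective_coker_extend_iff {A S : Type u} [CommRing A] [CommRing S] [inst : Algebra A S] {E : DRing.Cx A} {i j : ℤ} :
    Module.Projective S (((Fc (algebraMap A S)).obj E).X j ⧸ LinearMap.range (((Fc (algebraMap A S)).obj E).d i j).hom) ↔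
      Module.Projective S (S ⊗[A] E.X j ⧸
        LinearMap.range (TensorProduct.AlgebraTensorModule.lTensor S S (E.d i j).hom)) := by
  suffices key : ∀ (ψ : A →+* S) (a : Algebra A S), a = ψ.toAlgebra →
      (Module.Projective S (((Fc ψ).obj E).X j ⧸ LinearMap.range (((Fc ψ).obj E).d i j).hom) ↔
      (letI := a; Module.Projective S (S ⊗[A] E.X j ⧸
        LinearMap.range (TensorProduct.AlgebraTensorModule.lTensor S S (E.d i j).hom)))) from
    key (algebraMap A S) inst (Algebra.algebra_ext _ _ fun _ => rfl)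
  rintro ψ a rfl
  rfl

/-- Let R be a commutative ring, p a prime ideal of R with residue field κ(p), such that the derived
base change D(R) → D(κ(p)) exists; let i be an integer and K a cochain complex of R-modules which is
pseudo-coherent in D(R) and satisfies H^i(K ⊗^L_R κ(p)) = 0. Then there is an element f ∈ R with f ∉
p such that, for the termwise localization K_f of K over R_f, the truncation τ_(≥ i+1) K_f is
perfect in D(R_f), its tor amplitude lying in [i+1, b] for some integer b, and K_f ≅ τ_(≥ i+1) K_f ⊕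
τ_(≤ i-1) K_f in D(R_f) by an isomorphism carrying K_f → τ_(≥ i+1) K_f to the first projection and
τ_(≤ i-1) K_f → K_f to the second inclusion. -/
theorem result (R : Type u) [CommRing R]
    (p : Ideal R) [p.IsPrime] [DRing.HasLBaseChange (algebraMap R p.ResidueField)] (i : ℤ) (K : DRing.Cx R)
    (hK : DRing.IsPseudoCoherent' R (DRing.toD K))
    (hi : Subsingleton (Dual.HD p.ResidueField ((DRing.LBaseChange (algebraMap R p.ResidueField)).obj (DRing.toD K)) i)) :
    ∃ f : R, f ∉ p ∧
      let Kf := DRing.toD (((ModuleCat.extendScalars (algebraMap R (Localization.Away f))).mapHomologicalComplex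
        (ComplexShape.up ℤ)).obj K)
      let t := (DerivedCategory.TStructure.t : Triangulated.TStructure (Dual.D (Localization.Away f)))
      let Kge := (t.truncGE (i + 1)).obj Kf
      let Klt := (t.truncLT i).obj Kf
      DRing.IsPerfect (Localization.Away f) Kge ∧
        (∃ b : ℤ, DRing.HasTorAmplitudeIn (Localization.Away f) (i + 1) b Kge) ∧
        ∀ [HasBinaryBiproduct Kge Klt], ∃ e : Kf ≅ Kge ⊞ Klt,
          e.hom ≫ biprod.fst = (t.truncGEπ (i + 1)).app Kf ∧ (t.truncLTι i).app Kf ≫ e.hom = biprod.inr := by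
  obtain ⟨E, b, hEb, hff, ⟨e⟩⟩ := hK
  have hproj : ∀ j, Projective (E.X j) := fun j => by
    haveI := (hff j).2
    exact (IsProjective.iff_projective (E.X j)).1 inferInstance
  haveI := isKProjective_of_le hEb hproj
  have hfp : DRing.TermwiseFiniteProjective E := fun j => ⟨(hff j).1, haveI := (hff j).2; inferInstance⟩
  have hκ : ((Fc (algebraMap R p.ResidueField)).obj E).ExactAt i := by
    rw [HomologicalComplex.exactAt_iff_isZero_homology]
    haveI := hi
    exact (ModuleCat.isZero_of_subsingleton ((DerivedCategory.homologyFunctor (ModuleCat.{u} p.ResidueField) i).obj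
      ((DRing.LBaseChange (algebraMap R p.ResidueField)).obj (DRing.toD K)))).of_iso
      (((DerivedCategory.homologyFunctorFactors (ModuleCat.{u} p.ResidueField) i).app _).symm ≪≫
        (DerivedCategory.homologyFunctor (ModuleCat.{u} p.ResidueField) i).mapIso
          ((Groth.Agent.KProjRes.lBaseChangeIso _ E).symm ≪≫ (DRing.LBaseChange _).mapIso e))
  let Rp := Localization.AtPrime p
  have hp := exact_and_projective_of_mod (fpExtend (algebraMap R Rp) hfp) (sub_add_cancel i 1) (rfl : i + 1 = i + 1)
    (fun m hm => by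
      obtain rfl := IsLocalRing.eq_maximalIdeal hm
      exact exactAt_comp (algebraMap R Rp) (IsLocalRing.residue Rp) (algebraMap R p.ResidueField)
        (IsScalarTower.algebraMap_eq R Rp p.ResidueField).symm hκ)
  obtain ⟨r, hr⟩ := exists_retraction_lTensor (sub_add_cancel i 1) (rfl : i + 1 = i + 1) (S := Rp) (P := E)
    ((exact_extend_iff (sub_add_cancel i 1) rfl).1 hp.1) ((projective_coker_extend_iff).1 hp.2)
  haveI := (hff (i + 1)).1; haveI := (hff (i + 1)).2; haveI := (hff i).1
  obtain ⟨f, hf, r', hr'⟩ := exists_retraction_smul p _ r hr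
  refine ⟨f, hf, ?_⟩
  intro Kf t Kge Klt
  let R' := Localization.Away f
  obtain ⟨hx0, hQ0⟩ := projective_of_retraction_smul (P := E) (i - 1) i (i + 1)
    (IsLocalization.Away.algebraMap_isUnit (S := R') f) hfp hr'
  have hx : ((Fc (algebraMap R R')).obj E).ExactAt i := (exact_extend_iff (sub_add_cancel i 1) rfl).2 hx0
  have hQ := (projective_coker_extend_iff (S := R') (E := E) (i := i) (j := i + 1)).2 hQ0
  haveI := Groth.Agent.KProjRes.hasLBaseChange (algebraMap R R')
  haveI : Module.Flat R R' := IsLocalization.flat R' (Submonoid.powers f)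
  obtain ⟨eKf⟩ := nonempty_flat_lBaseChangeIso (algebraMap R R') (RingHom.flat_algebraMap_iff.2 inferInstance) K
  let eu : DRing.toD ((Fc (algebraMap R R')).obj E) ≅ Kf :=
    (Groth.Agent.KProjRes.lBaseChangeIso _ E).symm ≪≫ (DRing.LBaseChange _).mapIso e ≪≫ eKf
  let Eu := (Fc (algebraMap R R')).obj E
  have hb' : ∀ j, b < j → IsZero (Eu.X j) := fun j hj => (ModuleCat.extendScalars.{u, u, u} (algebraMap R R')).map_isZero (hEb j hj)
  obtain ⟨E', hE', hE'fp, ⟨e'⟩⟩ := exists_trunc_projective Eu (i + 1) (max b (i + 1)) b hb' (fpExtend _ hfp)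
    (fun j hj => HomologicalComplex.ExactAt.of_isZero (hb' j (by omega))) i rfl hQ
  obtain ⟨eT⟩ := nonempty_truncGEIso eu (i + 1)
  refine ⟨⟨E', i + 1, _, hE', hE'fp, ⟨e' ≪≫ eT⟩⟩, ⟨max b (i + 1), E', hE',
    fun j => haveI := (hE'fp j).2; Module.Flat.of_projective, ⟨e' ≪≫ eT⟩⟩, ?_⟩
  intro inst
  let T := (t.triangleLTGE i).obj Kf
  have hT : T ∈ distTriang _ := t.triangleLTGE_distinguished i Kf
  have h1 : t.IsLE T.obj₁ (i - 1) := inferInstanceAs (t.IsLE ((t.triangleLTGE i).obj Kf).obj₁ (i - 1))
  have h3 : t.IsGE T.obj₃ i := inferInstanceAs (t.IsGE ((t.triangleLTGE i).obj Kf).obj₃ i)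
  have z1 : ∀ j, i - 1 < j → IsZero ((DerivedCategory.homologyFunctor (ModuleCat.{u} R') j).obj T.obj₁) :=
    (DerivedCategory.isLE_iff _ _).1 h1
  haveI h3' : t.IsGE ((t.truncGE i).obj Kf) (i + 1) := (DerivedCategory.isGE_iff _ _).2 fun j hj => by
    rcases lt_or_ge j i with h | h
    · exact (DerivedCategory.isGE_iff _ _).1 h3 j h
    · obtain rfl : j = i := by omega
      haveI : Mono ((DerivedCategory.homologyFunctor (ModuleCat.{u} R') j).map T.mor₂) :=
        (HomologySequence.mono_homologyMap_mor₂_iff T hT j).2 ((z1 j (by omega)).eq_of_src _ _)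
      haveI : Epi ((DerivedCategory.homologyFunctor (ModuleCat.{u} R') j).map T.mor₂) :=
        (HomologySequence.epi_homologyMap_mor₂_iff T hT j (j + 1) rfl).2 ((z1 _ (by omega)).eq_of_tgt _ _)
      haveI := isIso_of_mono_of_epi ((DerivedCategory.homologyFunctor (ModuleCat.{u} R') j).map T.mor₂)
      refine IsZero.of_iso ?_ (asIso ((DerivedCategory.homologyFunctor (ModuleCat.{u} R') j).map T.mor₂)).symm
      exact hx.isZero_homology.of_iso ((DerivedCategory.homologyFunctor (ModuleCat.{u} R') j).mapIso eu.symm ≪≫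
        (DerivedCategory.homologyFunctorFactors (ModuleCat.{u} R') j).app Eu)
  haveI : t.IsGE ((t.truncGE (i + 1)).obj Kf) i :=
    haveI : t.IsGE ((t.truncGE (i + 1)).obj Kf) (i + 1) := inferInstance
    t.isGE_of_ge _ i (i + 1) (by omega)
  let θ : (t.truncGE i).obj Kf ≅ (t.truncGE (i + 1)).obj Kf :=
    { hom := t.descTruncGE ((t.truncGEπ (i + 1)).app Kf) i
      inv := t.descTruncGE ((t.truncGEπ i).app Kf) (i + 1)
      hom_inv_id := t.from_truncGE_obj_ext ((Category.assoc _ _ _).symm.trans ((congrArg (· ≫ _) (t.π_descTruncGE _ _)).trans ((t.π_descTruncGE _ _).trans (Category.comp_id _).symm)))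
      inv_hom_id := t.from_truncGE_obj_ext ((Category.assoc _ _ _).symm.trans ((congrArg (· ≫ _) (t.π_descTruncGE _ _)).trans ((t.π_descTruncGE _ _).trans (Category.comp_id _).symm))) }
  haveI : HasBinaryBiproduct T.obj₁ T.obj₃ := inferInstance
  haveI : HasBinaryBiproduct Klt Kge := inferInstance
  obtain ⟨g, hg1, hg2⟩ := exists_split T hT (e' ≪≫ eT ≪≫ θ.symm) (n := i) hE' (fun j => (hE'fp j).2)
    (haveI := h1; t.isLE_of_le T.obj₁ (i - 1) (i + 1) (by omega))
  refine ⟨g ≪≫ biprod.mapIso (Iso.refl _) θ ≪≫ biprod.braiding _ _, ?_, ?_⟩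
  · refine (Category.assoc _ _ _).trans ?_
    refine (congrArg (g.hom ≫ ·) ((Category.assoc _ _ _).trans ((congrArg ((biprod.mapIso (Iso.refl _) θ).hom ≫ ·)
      (biprod.lift_fst _ _)).trans (biprod.map_snd _ _)))).trans ((Category.assoc _ _ _).symm.trans ?_)
    exact (congrArg (· ≫ θ.hom) hg2).trans (t.π_descTruncGE _ _)
  · refine (Category.assoc _ _ _).symm.trans ((congrArg (· ≫ (biprod.mapIso (Iso.refl _) θ ≪≫ biprod.braiding _ _).hom) hg1).trans ?_)
    refine (Category.assoc _ _ _).symm.trans ((congrArg (· ≫ (biprod.braiding _ _).hom)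
      ((biprod.inl_map _ _).trans (Category.id_comp _))).trans ?_)
    apply biprod.hom_ext
    · exact (Category.assoc _ _ _).trans ((congrArg (biprod.inl ≫ ·) (biprod.lift_fst _ _)).trans
        (biprod.inl_snd.trans biprod.inr_fst.symm))
    · exact (Category.assoc _ _ _).trans ((congrArg (biprod.inl ≫ ·) (biprod.lift_snd _ _)).trans
        (biprod.inl_fst.trans biprod.inr_snd.symm))

end Groth.Agent.S7002
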