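import Groth.Statements.S7003
import Groth.Agent.PseudoCoh.Split

set_option autoImplicit false
universe u
open CategoryTheory CategoryTheory.Limits
attribute [local instance] HasDerivedCategory.standard
open DRing

namespace Groth.Agent.S7003

open CategoryTheory CategoryTheory.Limits CategoryTheory.Pretriangulated DerivedCategory DerivedCategory.TStructure Groth.Agent.PseudoCoh
open scoped ZeroObject

/-- Let R be a commutative ring, a an integer and K an object of D(R) whose cohomology vanishes in large
degrees. Assume that for every injective R-linear map M → M' the induced map Hom(K, M[-a]) → Hom(K,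
M'[-a]) in D(R) is injective. Then K ≅ τ_(≤ a) K ⊕ τ_(≥ a+1) K by an isomorphism carrying τ_(≤ a) K
→ K to the first inclusion and K → τ_(≥ a+1) K to the second projection, and τ_(≥ a+1) K is
isomorphic in D(R) to a complex of projective modules vanishing outside [a+1, b] for some integer b.
(The published statement also asserts that the decomposition is unique; that part is not restated.) -/
theorem result (R : Type u) [CommRing R] (a : ℤ) (K : Dual.D R)
    (hKb : ∃ b : ℤ, ∀ i : ℤ, b < i → Subsingleton (Dual.HD R K i))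
    (h : ∀ (M M' : Type u) [AddCommGroup M] [Module R M] [AddCommGroup M'] [Module R M'] (g : M →ₗ[R] M'),
      Function.Injective g → Function.Injective (fun x : K ⟶ (shiftFunctor (Dual.D R) (-a)).obj (Dual.inD R M) =>
        x ≫ (shiftFunctor (Dual.D R) (-a)).map
          ((DerivedCategory.singleFunctor (ModuleCat.{u} R) 0).map (ModuleCat.ofHom g))))
    [HasBinaryBiproduct (((DerivedCategory.TStructure.t : Triangulated.TStructure (Dual.D R)).truncLT (a + 1)).obj K) (((DerivedCategory.TStructure.t : Triangulated.TStructure (Dual.D R)).truncGE (a + 1)).obj K)] :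
    (∃ e : K ≅ ((DerivedCategory.TStructure.t : Triangulated.TStructure (Dual.D R)).truncLT (a + 1)).obj K ⊞ ((DerivedCategory.TStructure.t : Triangulated.TStructure (Dual.D R)).truncGE (a + 1)).obj K,
      ((DerivedCategory.TStructure.t : Triangulated.TStructure (Dual.D R)).truncLTι (a + 1)).app K ≫ e.hom = biprod.inl ∧
        e.hom ≫ biprod.snd = ((DerivedCategory.TStructure.t : Triangulated.TStructure (Dual.D R)).truncGEπ (a + 1)).app K) ∧
      ∃ (P : DRing.Cx R) (b : ℤ), DRing.VanishesOutside P (a + 1) b ∧ (∀ i : ℤ, Module.Projective R (P.X i)) ∧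
        Nonempty (DRing.toD P ≅ ((DerivedCategory.TStructure.t : Triangulated.TStructure (Dual.D R)).truncGE (a + 1)).obj K) := by
  obtain ⟨b, hb⟩ := hKb
  obtain ⟨P, hPb, hPp, hPK, ⟨e⟩⟩ := exists_projective_le K b ((DerivedCategory.isLE_iff _ _).2 fun i hi =>
    @ModuleCat.isZero_of_subsingleton _ _ _ (hb i hi))
  haveI := hPK
  obtain ⟨p, hp⟩ : ∃ p, p + 1 = a := ⟨a - 1, sub_add_cancel a 1⟩
  let N := LinearMap.range (P.d a (a + 1)).hom
  let c : P.X a ⟶ ModuleCat.of R N := ModuleCat.ofHom (P.d a (a + 1)).hom.rangeRestrict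
  have hc : ∀ i, i + 1 = a → P.d i a ≫ c = 0 := fun i _ => ModuleCat.hom_ext (LinearMap.ext fun x => Subtype.ext
    (ConcreteCategory.congr_hom (P.d_comp_d i a (a + 1)) x))
  let S : ∀ M : ModuleCat.{u} R, DRing.Cx R := fun M => (HomologicalComplex.single (ModuleCat.{u} R) (ComplexShape.up ℤ) a).obj M
  let f : P ⟶ S (ModuleCat.of R N) := HomologicalComplex.mkHomToSingle c hc
  let g : ModuleCat.of R N ⟶ P.X (a + 1) := ModuleCat.ofHom N.subtype
  have hzero : DerivedCategory.Q.map (f ≫ (HomologicalComplex.single (ModuleCat.{u} R) (ComplexShape.up ℤ) a).map g) = 0 := by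
    let h' : P.X (a + 1) ⟶ (S (P.X (a + 1))).X a :=
      (HomologicalComplex.singleObjXSelf (ComplexShape.up ℤ) a (P.X (a + 1))).inv
    let hom : ∀ i j : ℤ, P.X i ⟶ (S (P.X (a + 1))).X j := fun i j =>
      if hij : i = a + 1 ∧ j = a then eqToHom (by rw [hij.1]) ≫ h' ≫ eqToHom (by rw [hij.2]) else 0
    have H : Homotopy (f ≫ (HomologicalComplex.single (ModuleCat.{u} R) (ComplexShape.up ℤ) a).map g) 0 :=
      { hom := hom
        zero := fun i j hij => dif_neg fun h => hij (by obtain ⟨rfl, rfl⟩ := h; simp)
        comm := fun i => by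
          rcases eq_or_ne i a with rfl | hi
          · rw [dNext_eq hom (show (ComplexShape.up ℤ).Rel i (i + 1) from rfl),
              prevD_eq hom (show (ComplexShape.up ℤ).Rel (i - 1) i by simp), HomologicalComplex.single_obj_d, comp_zero,
              add_zero, HomologicalComplex.zero_f, add_zero, HomologicalComplex.comp_f,
              HomologicalComplex.single_map_f_self]
            refine (congrArg (· ≫ _) (HomologicalComplex.mkHomToSingle_f c hc)).trans ?_
            rw [show hom (i + 1) i = h' by simp [hom]]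
            simp only [Category.assoc, Iso.inv_hom_id_assoc]
            exact (Category.assoc _ _ _).symm.trans (congrArg (· ≫ h') (ModuleCat.hom_ext (LinearMap.ext fun _ => rfl)))
          · exact (HomologicalComplex.isZero_single_obj_X _ _ _ _ hi).eq_of_tgt _ _ }
    have hQ := congrArg DerivedCategory.Qh.map (HomotopyCategory.eq_of_homotopy _ _ H)
    have nat := (quotientCompQhIso (ModuleCat.{u} R)).hom.naturality
      (f ≫ (HomologicalComplex.single (ModuleCat.{u} R) (ComplexShape.up ℤ) a).map g)
    have hQ0 : DerivedCategory.Qh.map ((HomotopyCategory.quotient (ModuleCat.{u} R) (ComplexShape.up ℤ)).map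
        (f ≫ (HomologicalComplex.single (ModuleCat.{u} R) (ComplexShape.up ℤ) a).map g)) = 0 := by
      rw [hQ, Functor.map_zero, Functor.map_zero]
    change DerivedCategory.Qh.map ((HomotopyCategory.quotient (ModuleCat.{u} R) (ComplexShape.up ℤ)).map
      (f ≫ (HomologicalComplex.single (ModuleCat.{u} R) (ComplexShape.up ℤ) a).map g)) ≫ _ = _ at nat
    rw [hQ0, zero_comp] at nat
    exact (cancel_epi ((quotientCompQhIso (ModuleCat.{u} R)).hom.app P)).1 (nat.symm.trans comp_zero.symm)
  obtain ⟨s, hs⟩ : ∃ s : P.X (a + 1) ⟶ ModuleCat.of R N, P.d a (a + 1) ≫ s = c := by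
    have hf : DerivedCategory.Q.map f = 0 := by
      let Φ : HomologicalComplex.single (ModuleCat.{u} R) (ComplexShape.up ℤ) a ⋙ DerivedCategory.Q ≅
          DerivedCategory.singleFunctor (ModuleCat.{u} R) 0 ⋙ shiftFunctor (DerivedCategory (ModuleCat.{u} R)) (-a) :=
        (DerivedCategory.singleFunctorIsoCompQ (ModuleCat.{u} R) a).symm ≪≫
          ((DerivedCategory.singleFunctors (ModuleCat.{u} R)).shiftIso (-a) a 0 (by omega)).symm
      have h2 : (e.inv ≫ DerivedCategory.Q.map f) ≫ Φ.hom.app (ModuleCat.of R N) = 0 := by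
        refine h N (P.X (a + 1)) g.hom N.subtype_injective (Eq.trans ?_ (Limits.zero_comp).symm)
        change ((e.inv ≫ DerivedCategory.Q.map f) ≫ Φ.hom.app (ModuleCat.of R N)) ≫
          (DerivedCategory.singleFunctor (ModuleCat.{u} R) 0 ⋙ shiftFunctor (DerivedCategory (ModuleCat.{u} R)) (-a)).map g = 0
        rw [Category.assoc, ← Φ.hom.naturality g, ← Category.assoc]
        refine Eq.trans (congrArg (· ≫ _) ?_) Limits.zero_comp
        refine (Category.assoc _ _ _).trans (Eq.trans (congrArg (e.inv ≫ ·) ?_) Limits.comp_zero)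
        exact (DerivedCategory.Q.map_comp f _).symm.trans hzero
      rwa [← cancel_epi e.inv, ← cancel_mono (Φ.hom.app (ModuleCat.of R N)), comp_zero, zero_comp]
    obtain ⟨hh⟩ := homotopy_of_Q_map_eq f 0 (hf.trans (DerivedCategory.Q.map_zero _ _).symm)
    refine ⟨hh.hom (a + 1) a ≫ (HomologicalComplex.singleObjXSelf (ComplexShape.up ℤ) a (ModuleCat.of R N)).hom, ?_⟩
    have e' := hh.comm a
    rw [dNext_eq hh.hom (show (ComplexShape.up ℤ).Rel a (a + 1) from rfl),
      prevD_eq hh.hom (show (ComplexShape.up ℤ).Rel (a - 1) a by simp), HomologicalComplex.single_obj_d, comp_zero,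
      add_zero, HomologicalComplex.zero_f, add_zero] at e'
    rw [← Category.assoc, ← e']
    refine (congrArg (· ≫ _) (HomologicalComplex.mkHomToSingle_f c hc)).trans ?_
    exact (Category.assoc _ _ _).trans ((congrArg (c ≫ ·) (Iso.inv_hom_id _)).trans (Category.comp_id c))
  have hQ : Module.Projective R (P.X (a + 1) ⧸ N) := by
    haveI : Module.Projective R (P.X (a + 1)) := by
      haveI := hPp (a + 1)
      exact (IsProjective.iff_projective (P.X (a + 1))).2 inferInstance
    let r : P.X (a + 1) →ₗ[R] P.X (a + 1) := LinearMap.id - N.subtype ∘ₗ s.hom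
    refine Module.Projective.of_split (Submodule.liftQ _ r fun y hy => ?_) N.mkQ
      (Submodule.linearMap_qext _ (LinearMap.ext fun y => ?_))
    · obtain ⟨x, rfl⟩ := hy
      change _ - (s.hom ((P.d a (a + 1)).hom x)).1 = 0
      rw [show s.hom ((P.d a (a + 1)).hom x) = c.hom x from ConcreteCategory.congr_hom hs x]
      exact sub_self _
    · change Submodule.Quotient.mk (y - (s.hom y).1) = Submodule.Quotient.mk y
      rw [Submodule.Quotient.eq, sub_sub_cancel_left]
      exact neg_mem (s.hom y).2
  obtain ⟨E, hE, hEp, ⟨eE⟩⟩ := exists_projective_truncGE e rfl hPb hPp hQ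
  exact ⟨exists_split _ (t.triangleLTGE_distinguished (a + 1) K) eE hE hEp
    (t.isLE_of_le ((t.truncLT (a + 1)).obj K) a (a + 1)), E, _, hE, hEp, ⟨eE⟩⟩

end Groth.Agent.S7003
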