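import Groth.Statements.S7004
import Groth.Agent.PseudoCoh.Split

set_option autoImplicit false
universe u
open CategoryTheory CategoryTheory.Limits
attribute [local instance] HasDerivedCategory.standard
open DRing

namespace Groth.Agent.S7004

open CategoryTheory CategoryTheory.Limits CategoryTheory.Pretriangulated DerivedCategory DerivedCategory.TStructure Groth.Agent.PseudoCoh
open scoped ZeroObject

/-- Let R be a commutative ring, a an integer and K an object of D(R) whose cohomology vanishes in large
degrees, such that Hom(K, M[-a]) = 0 in D(R) for every R-module M. Then K ≅ τ_(≤ a-1) K ⊕ τ_(≥ a+1)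
K by an isomorphism carrying τ_(≤ a-1) K → K to the first inclusion and K → τ_(≥ a+1) K to the
second projection, and τ_(≥ a+1) K is isomorphic in D(R) to a complex of projective modules
vanishing outside [a+1, b] for some integer b. (The published statement also asserts that the
decomposition is unique; that part is not restated.) -/
theorem result (R : Type u) [CommRing R] (a : ℤ) (K : Dual.D R)
    (hKb : ∃ b : ℤ, ∀ i : ℤ, b < i → Subsingleton (Dual.HD R K i))
    (h : ∀ (M : Type u) [AddCommGroup M] [Module R M],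
      Subsingleton (K ⟶ (shiftFunctor (Dual.D R) (-a)).obj (Dual.inD R M)))
    [HasBinaryBiproduct (((DerivedCategory.TStructure.t : Triangulated.TStructure (Dual.D R)).truncLT a).obj K) (((DerivedCategory.TStructure.t : Triangulated.TStructure (Dual.D R)).truncGE (a + 1)).obj K)] :
    (∃ e : K ≅ ((DerivedCategory.TStructure.t : Triangulated.TStructure (Dual.D R)).truncLT a).obj K ⊞ ((DerivedCategory.TStructure.t : Triangulated.TStructure (Dual.D R)).truncGE (a + 1)).obj K,
      ((DerivedCategory.TStructure.t : Triangulated.TStructure (Dual.D R)).truncLTι a).app K ≫ e.hom = biprod.inl ∧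
        e.hom ≫ biprod.snd = ((DerivedCategory.TStructure.t : Triangulated.TStructure (Dual.D R)).truncGEπ (a + 1)).app K) ∧
      ∃ (P : DRing.Cx R) (b : ℤ), DRing.VanishesOutside P (a + 1) b ∧ (∀ i : ℤ, Module.Projective R (P.X i)) ∧
        Nonempty (DRing.toD P ≅ ((DerivedCategory.TStructure.t : Triangulated.TStructure (Dual.D R)).truncGE (a + 1)).obj K) := by
  obtain ⟨b, hb⟩ := hKb
  obtain ⟨P, hPb, hPp, hPK, ⟨e⟩⟩ := exists_projective_le K b ((DerivedCategory.isLE_iff _ _).2 fun i hi =>
    @ModuleCat.isZero_of_subsingleton _ _ _ (hb i hi))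
  obtain ⟨-, hQ, hex⟩ := projective_range hPK hPp (j := a) (k := a + 1) rfl fun M f =>
    eq_zero_of_subsingleton e (show a + -a = 0 by omega) (h M) f
  have hHa : IsZero ((DerivedCategory.homologyFunctor (ModuleCat.{u} R) a).obj K) := by
    have hx : P.ExactAt a := by
      rw [P.exactAt_iff' (a - 1) a (a + 1) (by simp) (by simp), ShortComplex.moduleCat_exact_iff_range_eq_ker]
      exact hex (a - 1) (by omega)
    exact hx.isZero_homology.of_iso ((DerivedCategory.homologyFunctor (ModuleCat.{u} R) a).mapIso e.symm ≪≫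
      (DerivedCategory.homologyFunctorFactors (ModuleCat.{u} R) a).app P)
  obtain ⟨E, hE, hEp, ⟨eE⟩⟩ := exists_projective_truncGE e rfl hPb hPp hQ
  let φ := (t.natTransTruncLTOfLE a (a + 1) (by omega)).app K
  have hφ : IsIso φ := by
    have hι : ∀ n i, i < n → IsIso ((DerivedCategory.homologyFunctor (ModuleCat.{u} R) i).map ((t.truncLTι n).app K)) := by
      intro n i hi
      have hT := t.triangleLTGE_distinguished n K
      have z3 : ∀ j, j < n → IsZero ((DerivedCategory.homologyFunctor (ModuleCat.{u} R) j).obj ((t.truncGE n).obj K)) :=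
        (DerivedCategory.isGE_iff _ _).1 (inferInstanceAs (t.IsGE ((t.truncGE n).obj K) n))
      haveI : Mono ((DerivedCategory.homologyFunctor (ModuleCat.{u} R) i).map ((t.truncLTι n).app K)) :=
        (HomologySequence.mono_homologyMap_mor₁_iff _ hT (i - 1) i (by omega)).2 ((z3 _ (by omega)).eq_of_src _ _)
      haveI : Epi ((DerivedCategory.homologyFunctor (ModuleCat.{u} R) i).map ((t.truncLTι n).app K)) :=
        (HomologySequence.epi_homologyMap_mor₁_iff _ hT i).2 ((z3 _ hi).eq_of_tgt _ _)
      exact isIso_of_mono_of_epi _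
    have hz : ∀ n i, n - 1 < i → IsZero ((DerivedCategory.homologyFunctor (ModuleCat.{u} R) i).obj ((t.truncLT n).obj K)) :=
      fun n => (DerivedCategory.isLE_iff _ _).1 (inferInstanceAs (t.IsLE ((t.truncLT n).obj K) (n - 1)))
    rw [DerivedCategory.isIso_iff]
    intro i
    rcases lt_or_ge i a with hi | hi
    · haveI := hι (a + 1) i (by omega)
      haveI : IsIso ((DerivedCategory.homologyFunctor (ModuleCat.{u} R) i).map φ ≫
          (DerivedCategory.homologyFunctor (ModuleCat.{u} R) i).map ((t.truncLTι (a + 1)).app K)) := by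
        rw [← Functor.map_comp, t.natTransTruncLTOfLE_ι_app]
        exact hι a i hi
      exact IsIso.of_isIso_comp_right _ ((DerivedCategory.homologyFunctor (ModuleCat.{u} R) i).map ((t.truncLTι (a + 1)).app K))
    · refine isIso_of_source_target_iso_zero _ (hz a i (by omega)).isoZero (IsZero.isoZero ?_)
      rcases hi.lt_or_eq with hi' | rfl
      · exact hz _ i (by omega)
      · haveI := hι (a + 1) a (by omega)
        exact hHa.of_iso (asIso ((DerivedCategory.homologyFunctor (ModuleCat.{u} R) a).map ((t.truncLTι (a + 1)).app K)))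
  have hT : Triangle.mk ((t.truncLTι a).app K) ((t.truncGEπ (a + 1)).app K)
      ((t.truncGEδLT (a + 1)).app K ≫ (@CategoryTheory.inv _ _ _ _ φ hφ)⟦(1 : ℤ)⟧') ∈ distTriang (Dual.D R) :=
    isomorphic_distinguished _ (t.triangleLTGE_distinguished (a + 1) K) _ (Triangle.isoMk _ _ (@asIso _ _ _ _ φ hφ) (Iso.refl _) (Iso.refl _)
      ((Category.comp_id _).trans (t.natTransTruncLTOfLE_ι_app a (a + 1) (by omega) K).symm)
      ((Category.comp_id _).trans (Category.id_comp _).symm)
      (show ((t.truncGEδLT (a + 1)).app K ≫ (@CategoryTheory.inv _ _ _ _ φ hφ)⟦(1 : ℤ)⟧') ≫ φ⟦(1 : ℤ)⟧' = 𝟙 _ ≫ (t.truncGEδLT (a + 1)).app K from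
        (Category.assoc _ _ _).trans ((congrArg (_ ≫ ·) ((Functor.map_comp _ _ _).symm.trans
          ((congrArg _ (@IsIso.inv_hom_id _ _ _ _ φ hφ)).trans (CategoryTheory.Functor.map_id _ _)))).trans
          ((Category.comp_id _).trans (Category.id_comp _).symm))))
  exact ⟨exists_split _ hT eE hE hEp (t.isLE_of_le ((t.truncLT a).obj K) (a - 1) (a + 1)), E, _, hE, hEp, ⟨eE⟩⟩

end Groth.Agent.S7004
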