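import Groth.Statements.S7005
import Groth.Agent.RelPC.Poly
import Mathlib.RingTheory.FinitePresentation

set_option autoImplicit false
universe u
open CAlg

namespace Groth.Agent.S7005

open CategoryTheory DerivedCategory
open scoped TensorProduct

attribute [local instance] HasDerivedCategory.standard MvPolynomial.algebraMvPolynomial

lemma finitePresentation_equiv {R M N : Type u} [CommRing R] [AddCommGroup M] [Module R M] [AddCommGroup N] [Module R N]
    (e : M ≃ₗ[R] N) (h : Module.FinitePresentation R M) : Module.FinitePresentation R N :=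
  haveI := h
  Module.FinitePresentation.of_equiv e

/-- Let R → A be a finite type homomorphism of commutative rings, α : R[x_1, ..., x_n] → A a surjective
R-algebra homomorphism and M an A-module which is finitely presented as an R[x_1, ..., x_n]-module
through α. Let A → A' be a ring homomorphism of finite presentation and γ : R[z_1, ..., z_k] → A' a
surjective R-algebra homomorphism. Then A' ⊗_A M is finitely presented as an R[z_1, ..., z_k]-module
through γ. -/
theorem result {R A A' : Type u} [CommRing R] [CommRing A]
    [CommRing A'] [Algebra R A] [Algebra A A'] [Algebra R A'] [IsScalarTower R A A'] [Algebra.FiniteType R A]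
    [Algebra.FinitePresentation A A'] (M : Type u) [AddCommGroup M] [Module A M] {n k : ℕ}
    (α : MvPolynomial (Fin n) R →ₐ[R] A) (hα : Function.Surjective α)
    (hM : @Module.FinitePresentation (MvPolynomial (Fin n) R) (M) _ _ (Module.compHom (M) α.toRingHom))
    (γ : MvPolynomial (Fin k) R →ₐ[R] A') (hγ : Function.Surjective γ) :
    @Module.FinitePresentation (MvPolynomial (Fin k) R) (TensorProduct A A' M) _ _ (Module.compHom (TensorProduct A A' M) γ.toRingHom) := by
  obtain ⟨l, δ, hδ, hJ⟩ := Algebra.FinitePresentation.out (R := A) (A := A')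
  letI := (α : MvPolynomial (Fin n) R →+* A).toAlgebra
  letI : Module (MvPolynomial (Fin n) R) M := Module.compHom M α.toRingHom
  haveI : IsScalarTower (MvPolynomial (Fin n) R) A M := IsScalarTower.of_algebraMap_smul fun _ _ => rfl
  haveI : Module.FinitePresentation (MvPolynomial (Fin n) R) M := hM
  let S' := MvPolynomial (Fin l) (MvPolynomial (Fin n) R)
  let A'' := MvPolynomial (Fin l) A
  haveI : Module.FinitePresentation S' (A'' ⊗[A] M) :=
    finitePresentation_equiv (M := S' ⊗[MvPolynomial (Fin n) R] M) (Algebra.IsPushout.cancelBaseChange (MvPolynomial (Fin n) R) S' A A'' M).symm inferInstance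
  letI : Algebra A'' A' := (δ : A'' →+* A').toAlgebra
  haveI : IsScalarTower A A'' A' := IsScalarTower.of_algebraMap_eq' δ.comp_algebraMap.symm
  let g : A'' ⊗[A] M →ₗ[A''] A' ⊗[A] M :=
    TensorProduct.AlgebraTensorModule.map (Algebra.linearMap A'' A') LinearMap.id
  letI : Module S' (A' ⊗[A] M) := Module.compHom _ ((δ : A'' →+* A').comp (MvPolynomial.map (α : MvPolynomial (Fin n) R →+* A)))
  haveI : IsScalarTower S' A'' (A' ⊗[A] M) := IsScalarTower.of_algebraMap_smul fun s x => (algebraMap_smul A' (algebraMap S' A'' s) x).symm
  have hg : Function.Surjective g := LinearMap.rTensor_surjective M (g := δ.toLinearMap) hδ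
  have hk : LinearMap.ker g = RingHom.ker (δ : A'' →+* A') • (⊤ : Submodule A'' (A'' ⊗[A] M)) := by
    refine le_antisymm (fun x hx => ?_) (Submodule.smul_le.2 fun j hj x _ => ?_)
    · let J := LinearMap.ker δ.toLinearMap
      obtain ⟨y, rfl⟩ := ((rTensor_exact M (LinearMap.exact_subtype_ker_map δ.toLinearMap) hδ) x).1 hx
      induction y using TensorProduct.induction_on with
      | zero => simp
      | add p q hp hq =>
        rw [map_add]
        refine add_mem (hp ?_) (hq ?_)
        · exact (rTensor_exact M (LinearMap.exact_subtype_ker_map δ.toLinearMap) hδ _).2 ⟨p, rfl⟩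
        · exact (rTensor_exact M (LinearMap.exact_subtype_ker_map δ.toLinearMap) hδ _).2 ⟨q, rfl⟩
      | tmul j v =>
        rw [LinearMap.rTensor_tmul, Submodule.subtype_apply, show ((j : A'') ⊗ₜ[A] v) = (j : A'') • ((1 : A'') ⊗ₜ[A] v) by
          rw [TensorProduct.smul_tmul', smul_eq_mul, mul_one]]
        exact Submodule.smul_mem_smul j.2 Submodule.mem_top
    · rw [LinearMap.mem_ker, map_smul, ← algebraMap_smul A' j, show algebraMap A'' A' j = 0 from hj, zero_smul]
  have hfp : Module.FinitePresentation S' (A' ⊗[A] M) :=
    Module.finitePresentation_of_surjective (g.restrictScalars S') hg (by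
      rw [LinearMap.ker_restrictScalars]
      refine Submodule.FG.restrictScalars_of_surjective ?_ (MvPolynomial.map_surjective _ hα)
      rw [hk]
      haveI : Module.Finite A'' (A'' ⊗[A] M) := Module.Finite.of_restrictScalars_finite S' A'' _
      exact Submodule.FG.smul hJ Module.Finite.fg_top)
  have h0 : (-2 : ℤ) + 1 = -1 := by omega
  haveI : Algebra.FiniteType A A' := inferInstance
  exact (RelPC.fp_iff_approx _ _).2 ((RelPC.relPC_iff γ hγ _ h0).1
    ((RelPC.relPC_iff_map α hα δ hδ _ h0).2 ((RelPC.fp_iff_approx _ _).1 hfp)))

end Groth.Agent.S7005
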