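import Groth.Statements.S7006
import Groth.Agent.RelPC.Away
import Groth.Agent.S6985

set_option autoImplicit false
universe u
open CAlg

namespace Groth.Agent.S7006

open CategoryTheory DerivedCategory

attribute [local instance] HasDerivedCategory.standard

/-- Let R be a commutative ring, f an element of R, A an R_f-algebra with a surjective R_f-algebra
homomorphism α : R_f[x_1, ..., x_n] → A, g an element of A, and M an A-module which is finitely
presented as an R_f[x_1, ..., x_n]-module through α. Then for every surjective R-algebra
homomorphism γ : R[z_1, ..., z_k] → A_g, the localized module M_g is finitely presented as an R[z_1,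
..., z_k]-module through γ. -/
theorem result {R A : Type u} [CommRing R] [CommRing A] (f : R)
    [Algebra R A] [Algebra (Localization.Away f) A] [IsScalarTower R (Localization.Away f) A] {n k : ℕ}
    (α : MvPolynomial (Fin n) (Localization.Away f) →ₐ[Localization.Away f] A) (hα : Function.Surjective α)
    (g : A) (M : Type u) [AddCommGroup M] [Module A M]
    (hM : @Module.FinitePresentation (MvPolynomial (Fin n) (Localization.Away f)) (M) _ _ (Module.compHom (M) α.toRingHom))
    (γ : MvPolynomial (Fin k) R →ₐ[R] Localization.Away g) (hγ : Function.Surjective γ) :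
    @Module.FinitePresentation (MvPolynomial (Fin k) R) (LocalizedModule (Submonoid.powers g) M) _ _ (Module.compHom (LocalizedModule (Submonoid.powers g) M) γ.toRingHom) := by
  haveI : Algebra.FiniteType R (Localization.Away f) := inferInstance
  haveI : Algebra.FiniteType (Localization.Away f) A := Algebra.FiniteType.of_surjective α hα
  haveI : Algebra.FiniteType R A :=
    Algebra.FiniteType.trans (R := R) (S := Localization.Away f) inferInstance inferInstance
  haveI := KProjRes.hasLBaseChange (algebraMap A (Localization.Away g))
  haveI : Module.Flat A (Localization.Away g) := IsLocalization.flat _ (Submonoid.powers g)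
  have h0 : (-2 : ℤ) + 1 = -1 := by omega
  have h1 := (RelPC.relPC_iff α hα _ h0).2 ((RelPC.fp_iff_approx _ M).1 hM)
  have h2 := (RelPC.relPC_iff γ hγ _ h0).1
    (RelPC.relPC_lBaseChange (RelPC.relPCModuleAll_away A g) _ (-1)
      ((S6985.result (RelPC.relPCModuleAll_away R f) _ (-1)).1.1 h1))
  obtain ⟨e⟩ := PseudoCoh.nonempty_flat_lBaseChange_inD (A := A) (S := Localization.Away g) M
  exact (RelPC.fp_iff_approx _ _).2 (PseudoCoh.approx_of_iso ((DRing.restrictD _).mapIso (e ≪≫
    (DerivedCategory.singleFunctor (ModuleCat.{u} (Localization.Away g)) 0).mapIso
      (LinearEquiv.toModuleIso (IsLocalizedModule.isBaseChange (Submonoid.powers g) (Localization.Away g)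
        (LocalizedModule.mkLinearMap (Submonoid.powers g) M)).equiv))) h2)

end Groth.Agent.S7006
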