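import Groth.Statements.S7007
import Groth.Agent.RelPC.Descent

set_option autoImplicit false
universe u
open CAlg

namespace Groth.Agent.S7007

open CategoryTheory DerivedCategory

attribute [local instance] HasDerivedCategory.standard

/-- Let R → A be a finite type homomorphism of commutative rings with a surjective R-algebra
homomorphism α : R[x_1, ..., x_n] → A, M an A-module, f_1, ..., f_r elements of A generating the
unit ideal, and for each i a surjective R-algebra homomorphism γ_i : R[z_1, ..., z_(k_i)] → A_(f_i).
Then M is finitely presented as an R[x_1, ..., x_n]-module through α if and only if, for every i,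
the localization M_(f_i) is finitely presented as an R[z_1, ..., z_(k_i)]-module through γ_i. -/
theorem result {R A : Type u} [CommRing R] [CommRing A] [Algebra R A]
    {n : ℕ} (α : MvPolynomial (Fin n) R →ₐ[R] A) (hα : Function.Surjective α) (M : Type u) [AddCommGroup M]
    [Module A M] {r : ℕ} (f : Fin r → A) (hf : Ideal.span (Set.range f) = ⊤) (k : Fin r → ℕ)
    (γ : ∀ i, MvPolynomial (Fin (k i)) R →ₐ[R] Localization.Away (f i)) (hγ : ∀ i, Function.Surjective (γ i)) :
    @Module.FinitePresentation (MvPolynomial (Fin n) R) (M) _ _ (Module.compHom (M) α.toRingHom) ↔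
      ∀ i, @Module.FinitePresentation (MvPolynomial (Fin (k i)) R) (LocalizedModule (Submonoid.powers (f i)) M) _ _ (Module.compHom (LocalizedModule (Submonoid.powers (f i)) M) (γ i).toRingHom) := by
  haveI : Algebra.FiniteType R A := Algebra.FiniteType.of_surjective α hα
  have h0 : (-2 : ℤ) + 1 = -1 := by omega
  let S := (HomologicalComplex.single (ModuleCat.{u} A) (ComplexShape.up ℤ) 0).obj (ModuleCat.of A M)
  let eS : DRing.toD S ≅ Dual.inD A M := ((DerivedCategory.singleFunctorIsoCompQ (ModuleCat.{u} A) 0).app _).symm
  have eL : ∀ i, Nonempty (DRing.toD ((PseudoCoh.Fc (algebraMap A (Localization.Away (f i)))).obj S) ≅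
      Dual.inD (Localization.Away (f i)) (LocalizedModule (Submonoid.powers (f i)) M)) := fun i => by
    obtain ⟨e⟩ := PseudoCoh.nonempty_extendEquiv (A := A) (S := Localization.Away (f i)) (ModuleCat.of A M)
    exact ⟨DerivedCategory.Q.mapIso ((HomologicalComplex.singleMapHomologicalComplex
        (ModuleCat.extendScalars.{u, u, u} (algebraMap A (Localization.Away (f i)))) (ComplexShape.up ℤ) 0).app (ModuleCat.of A M)) ≪≫
      ((DerivedCategory.singleFunctorIsoCompQ (ModuleCat.{u} (Localization.Away (f i))) 0).app _).symm ≪≫
      (DerivedCategory.singleFunctor (ModuleCat.{u} (Localization.Away (f i))) 0).mapIso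
        (X := (ModuleCat.extendScalars.{u, u, u} (algebraMap A (Localization.Away (f i)))).obj (ModuleCat.of A M))
        (Y := ModuleCat.of _ (LocalizedModule (Submonoid.powers (f i)) M))
        (e.trans (IsLocalizedModule.isBaseChange (Submonoid.powers (f i)) (Localization.Away (f i))
          (LocalizedModule.mkLinearMap (Submonoid.powers (f i)) M)).equiv).toModuleIso⟩
  have key : ∀ i, @Module.FinitePresentation (MvPolynomial (Fin (k i)) R) (LocalizedModule (Submonoid.powers (f i)) M) _ _
        (Module.compHom (LocalizedModule (Submonoid.powers (f i)) M) (γ i).toRingHom) ↔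
      DerCA.IsRelPseudoCoherent R (Localization.Away (f i)) (-1)
        (DRing.toD ((PseudoCoh.Fc (algebraMap A (Localization.Away (f i)))).obj S)) := fun i => by
    obtain ⟨e⟩ := eL i
    refine (RelPC.fp_iff_approx _ _).trans (Iff.trans ?_ (RelPC.relPC_iff (γ i) (hγ i) _ h0).symm)
    exact ⟨PseudoCoh.approx_of_iso ((DRing.restrictD _).mapIso e).symm, PseudoCoh.approx_of_iso ((DRing.restrictD _).mapIso e)⟩
  simp only [key]
  refine (RelPC.fp_iff_approx _ M).trans ⟨fun h i => RelPC.relPC_localization A (f i) S
    ((RelPC.relPC_iff α hα _ h0).2 (PseudoCoh.approx_of_iso ((DRing.restrictD _).mapIso eS).symm h)),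
    fun h => PseudoCoh.approx_of_iso ((DRing.restrictD _).mapIso eS) (RelPC.approx_of_away α hα S f hf h0 h)⟩

end Groth.Agent.S7007
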