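import Groth.Statements.S7010
import Groth.Agent.PseudoCoh.HomVanishing

set_option autoImplicit false
universe u
open CategoryTheory CategoryTheory.Limits
attribute [local instance] HasDerivedCategory.standard
open DRing

namespace Groth.Agent.S7010

open CategoryTheory CategoryTheory.Limits CategoryTheory.Pretriangulated DerivedCategory DerivedCategory.TStructure Groth.Agent.PseudoCoh
open scoped ZeroObject

open CategoryTheory.Pretriangulated in
/-- The inclusion of the perfect objects in the subcategory generated by R: let R be a commutative ring
and P a property of objects of D(R) which is closed under isomorphisms, holds for R[0], is stable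
under all shifts, is closed under extensions (if it holds for the outer terms of a distinguished
triangle it holds for the middle term) and is closed under taking direct summands. Then P holds for
every perfect object of D(R). -/
theorem result (R : Type u) [CommRing R]
    (P : ObjectProperty (Dual.D R)) [P.IsClosedUnderIsomorphisms] (hR : P (Dual.inD R R))
    (hshift : ∀ (K : Dual.D R) (n : ℤ), P K → P ((shiftFunctor (Dual.D R) n).obj K))
    (hext : ∀ T : Triangle (Dual.D R), T ∈ distinguishedTriangles → P T.obj₁ → P T.obj₃ → P T.obj₂)
    (hsum : ∀ (X Y : Dual.D R) [HasBinaryBiproduct X Y], P (X ⊞ Y) → P X)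
    (K : Dual.D R) (hK : DRing.IsPerfect R K) : P K := by
  obtain ⟨E, a, b, hab, hfp, ⟨e⟩⟩ := hK
  refine P.prop_of_iso e ?_
  have h0 : ∀ Z : Dual.D R, IsZero Z → P Z := fun Z hZ => P.prop_of_iso (IsZero.iso (isZero_zero _) hZ)
    (hext _ (rot_of_distTriang _ (contractible_distinguished (Dual.inD R R))) hR (hshift _ 1 hR))
  have hfree : ∀ r : ℕ, P (Dual.inD R (Fin r → R)) := by
    intro r
    induction r with
    | zero => exact h0 _ ((DerivedCategory.singleFunctor (ModuleCat.{u} R) 0).map_isZero
        (ModuleCat.isZero_of_subsingleton (ModuleCat.of R (Fin 0 → R))))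
    | succ r ih =>
      let S : ShortComplex (ModuleCat.{u} R) := ShortComplex.mk
        (ModuleCat.ofHom (LinearMap.single R (fun _ : Fin (r + 1) => R) 0))
        (ModuleCat.ofHom (LinearMap.funLeft R R (Fin.succ : Fin r → Fin (r + 1))))
        (ModuleCat.hom_ext (LinearMap.ext fun x => funext fun j => (Pi.single_eq_of_ne (Fin.succ_ne_zero j) x : Pi.single (M := fun _ : Fin (r + 1) => R) 0 x j.succ = 0)))
      have hS : S.ShortExact :=
        { exact := (ShortComplex.moduleCat_exact_iff _).2 fun x hx => ⟨x 0, funext fun j => by
            cases j using Fin.cases with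
            | zero => simp [S]
            | succ j =>
              have := congrFun hx j
              simp [S, LinearMap.funLeft] at this ⊢
              exact this.symm⟩
          mono_f := (ModuleCat.mono_iff_injective _).2 fun x y h => by simpa [S] using congrFun h 0
          epi_g := (ModuleCat.epi_iff_surjective _).2 fun y => ⟨Fin.cases 0 y, funext fun j => by simp [S, LinearMap.funLeft]⟩ }
      exact hext _ hS.singleTriangle_distinguished hR ih
  have hproj : ∀ (M : ModuleCat.{u} R), Module.Finite R M → Module.Projective R M →
      P ((DerivedCategory.singleFunctor (ModuleCat.{u} R) 0).obj M) := by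
    intro M _ _
    obtain ⟨r, π, hπ⟩ := Module.Finite.exists_fin' R M
    obtain ⟨s, hs⟩ := π.exists_rightInverse_of_surjective (LinearMap.range_eq_top.2 hπ)
    let K' := ModuleCat.of R (LinearMap.ker π)
    let i : (M ⊞ K') ≅ ModuleCat.of R (Fin r → R) :=
      { hom := biprod.desc (ModuleCat.ofHom s) (ModuleCat.ofHom (LinearMap.ker π).subtype)
        inv := biprod.lift (ModuleCat.ofHom π) (ModuleCat.ofHom ((LinearMap.id - s ∘ₗ π).codRestrict _ fun x => by
          have := LinearMap.congr_fun hs (π x)
          rw [LinearMap.mem_ker, LinearMap.sub_apply, map_sub, sub_eq_zero]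
          exact this.symm))
        hom_inv_id := by
          apply biprod.hom_ext' <;> apply biprod.hom_ext <;>
            simp only [biprod.inl_desc_assoc, biprod.inr_desc_assoc, Category.assoc, biprod.lift_fst, biprod.lift_snd,
              Category.comp_id, biprod.inl_fst, biprod.inl_snd, biprod.inr_fst, biprod.inr_snd]
          · exact ModuleCat.hom_ext hs
          · refine ModuleCat.hom_ext (LinearMap.ext fun x => Subtype.ext ?_)
            change s x - s (π (s x)) = 0
            rw [show π (s x) = x from LinearMap.congr_fun hs x, sub_self]
          · exact ModuleCat.hom_ext (LinearMap.ext fun x => x.2)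
          · refine ModuleCat.hom_ext (LinearMap.ext fun x => Subtype.ext ?_)
            change x.1 - s (π x.1) = x.1
            rw [show π x.1 = 0 from x.2, map_zero, sub_zero]
        inv_hom_id := by
          rw [biprod.lift_desc]
          exact ModuleCat.hom_ext (LinearMap.ext fun x => add_sub_cancel (s (π x)) x) }
    haveI := preservesBinaryBiproducts_of_preservesBiproducts (DerivedCategory.singleFunctor (ModuleCat.{u} R) 0)
    exact hsum _ _ (P.prop_of_iso
      ((DerivedCategory.singleFunctor (ModuleCat.{u} R) 0).mapIso i.symm ≪≫
        (DerivedCategory.singleFunctor (ModuleCat.{u} R) 0).mapBiprod M K') (hfree r))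
  exact devissage_terms_bounded P (fun e hX => P.prop_of_iso e hX) hext E h0 a b hab
    fun j => P.prop_of_iso (singleDIso j _) (hshift _ (-j) (hproj (E.X j) (hfp j).1 (hfp j).2))

end Groth.Agent.S7010
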