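import Groth.Statements.S7015
import Mathlib.Algebra.Category.ModuleCat.Monoidal.Basic
import Mathlib.CategoryTheory.Monoidal.Rigid.Basic
import Mathlib.RingTheory.Finiteness.Basic
import Mathlib.LinearAlgebra.FreeModule.Basic
import Mathlib.LinearAlgebra.StdBasis
import Mathlib.LinearAlgebra.FreeModule.Finite.Basic
import Mathlib.Algebra.Module.Projective
import Mathlib.LinearAlgebra.TensorProduct.Finiteness

set_option autoImplicit false
universe u
open CategoryTheory MonoidalCategory
open DRing

namespace Groth.Agent.S7015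

/-- Let R be a commutative ring and M, N R-modules such that N is a left dual of M for the tensor
product of R-modules, i.e. there are a coevaluation R → M ⊗ N and an evaluation N ⊗ M → R satisfying
the triangle identities (an exact pairing). Then M and N are finitely generated projective
R-modules. -/
theorem result (R : Type u) [CommRing R] (M N : Type u) [AddCommGroup M]
    [Module R M] [AddCommGroup N] [Module R N] [ExactPairing (ModuleCat.of R M) (ModuleCat.of R N)] :
    Module.Finite R M ∧ Module.Projective R M ∧ Module.Finite R N ∧ Module.Projective R N := by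
  let X := ModuleCat.of R M
  let Y := ModuleCat.of R N
  let η' : R →ₗ[R] TensorProduct R M N := (η_ X Y).hom
  let ε' : TensorProduct R N M →ₗ[R] R := (ε_ X Y).hom
  obtain ⟨S, hS⟩ := TensorProduct.exists_finset (η' 1)
  have key₁ : ∀ m : M, ∑ p ∈ S, (ε' (p.2 ⊗ₜ[R] m)) • p.1 = m := fun m => by
    have h : LinearMap.lTensor M ε' (TensorProduct.assoc R M N M (η' 1 ⊗ₜ m)) = ((1 : R) • m) ⊗ₜ (1 : R) :=
      LinearMap.congr_fun (congrArg ModuleCat.Hom.hom (ExactPairing.evaluation_coevaluation X Y)) ((1 : R) ⊗ₜ[R] m)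
    simpa [hS, TensorProduct.sum_tmul, map_sum] using congrArg (TensorProduct.rid R M) h
  have key₂ : ∀ n : N, ∑ p ∈ S, (ε' (n ⊗ₜ[R] p.1)) • p.2 = n := fun n => by
    have h : LinearMap.rTensor N ε' ((TensorProduct.assoc R N M N).symm (n ⊗ₜ η' 1)) = (1 : R) ⊗ₜ ((1 : R) • n) :=
      LinearMap.congr_fun (congrArg ModuleCat.Hom.hom (ExactPairing.coevaluation_evaluation X Y)) (n ⊗ₜ[R] (1 : R))
    simpa [hS, TensorProduct.tmul_sum, map_sum] using congrArg (TensorProduct.lid R N) h
  have main : ∀ {P : Type u} [AddCommGroup P] [Module R P] (v : S → P) (φ : S → P →ₗ[R] R),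
      (∀ x, ∑ s, φ s x • v s = x) → Module.Finite R P ∧ Module.Projective R P := by
    intro P _ _ v φ h
    have hl : (Fintype.linearCombination R v).comp (LinearMap.pi φ) = LinearMap.id :=
      LinearMap.ext fun x => by simpa [Fintype.linearCombination_apply] using h x
    exact ⟨Module.Finite.of_surjective (Fintype.linearCombination R v) fun x =>
      ⟨_, LinearMap.congr_fun hl x⟩, Module.Projective.of_split _ _ hl⟩
  let ε : N →ₗ[R] M →ₗ[R] R := (TensorProduct.mk R N M).compr₂ ε'
  obtain ⟨a, b⟩ := main (fun s : S => s.1.1) (fun s => ε s.1.2) fun m =>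
    (Finset.sum_coe_sort S fun p => ε p.2 m • p.1).trans (key₁ m)
  obtain ⟨c, d⟩ := main (fun s : S => s.1.2) (fun s => ε.flip s.1.1) fun n =>
    (Finset.sum_coe_sort S fun p => ε n p.1 • p.2).trans (key₂ n)
  exact ⟨a, b, c, d⟩

end Groth.Agent.S7015
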