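import Groth.Statements.S7019
import Groth.Agent.PseudoCoh.TorAmp
import Groth.Agent.PseudoCoh.Biprod

set_option autoImplicit false
universe u
open CategoryTheory CategoryTheory.Limits
attribute [local instance] HasDerivedCategory.standard
open DRing

namespace Groth.Agent.S7019

open CategoryTheory CategoryTheory.Limits CategoryTheory.Pretriangulated DerivedCategory.TStructure Groth.Agent.PseudoCoh

/-- Let R be a commutative ring such that the derived tensor product - ⊗^L_R M exists on D(R) for every
R-module M, and let K, L be objects of D(R). If K ⊕ L is perfect, then K and L are perfect. -/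
theorem result (R : Type u) [CommRing R] [∀ M : ModuleCat.{u} R, DRing.HasLTensor R M]
    (K L : Dual.D R) [HasBinaryBiproduct K L] (h : DRing.IsPerfect R (K ⊞ L)) :
    DRing.IsPerfect R K ∧ DRing.IsPerfect R L := by
  rw [perfect_iff] at h
  obtain ⟨hpc, a, b, ha⟩ := h
  rw [perfect_iff, perfect_iff]
  exact ⟨⟨fun n => (approx_biprod (hpc n)).1, a, b, torAmplitude_retract ⟨biprod.inl, biprod.fst, biprod.inl_fst⟩ ha⟩,
    ⟨fun n => (approx_biprod (hpc n)).2, a, b, torAmplitude_retract ⟨biprod.inr, biprod.snd, biprod.inr_snd⟩ ha⟩⟩

end Groth.Agent.S7019
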