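import Groth.Statements.S7020
import Groth.Agent.RelPC.Module

set_option autoImplicit false
universe u
open CategoryTheory CategoryTheory.Limits
attribute [local instance] HasDerivedCategory.standard
open DerCA

namespace Groth.Agent.S7020

open CategoryTheory DerivedCategory

attribute [local instance] HasDerivedCategory.standard

open CategoryTheory.Pretriangulated in
/-- Let R → A be a finite type homomorphism of commutative rings, m an integer and K → L → M → K[1] a
distinguished triangle in D(A); all pseudo-coherence below is relative to R. (1) M is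
m-pseudo-coherent when K is (m+1)-pseudo-coherent and L is m-pseudo-coherent. (2) L is
m-pseudo-coherent when K and M are. (3) K is (m+1)-pseudo-coherent when L is (m+1)-pseudo-coherent
and M is m-pseudo-coherent. (4) Pseudo-coherence in every degree of any two of K, L, M implies that
of the third. -/
theorem result {R A : Type u} [CommRing R] [CommRing A] [Algebra R A] [Algebra.FiniteType R A] (m : ℤ) (T : Triangle (Dual.D A))
    (hT : T ∈ distinguishedTriangles) :
    (DerCA.IsRelPseudoCoherent R A (m + 1) T.obj₁ → DerCA.IsRelPseudoCoherent R A m T.obj₂ →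
        DerCA.IsRelPseudoCoherent R A m T.obj₃) ∧
      (DerCA.IsRelPseudoCoherent R A m T.obj₁ → DerCA.IsRelPseudoCoherent R A m T.obj₃ →
        DerCA.IsRelPseudoCoherent R A m T.obj₂) ∧
      (DerCA.IsRelPseudoCoherent R A (m + 1) T.obj₂ → DerCA.IsRelPseudoCoherent R A m T.obj₃ →
        DerCA.IsRelPseudoCoherent R A (m + 1) T.obj₁) ∧
      ((DerCA.IsRelPseudoCoherentAll R A T.obj₁ → DerCA.IsRelPseudoCoherentAll R A T.obj₂ →
          DerCA.IsRelPseudoCoherentAll R A T.obj₃) ∧
        (DerCA.IsRelPseudoCoherentAll R A T.obj₁ → DerCA.IsRelPseudoCoherentAll R A T.obj₃ →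
          DerCA.IsRelPseudoCoherentAll R A T.obj₂) ∧
        (DerCA.IsRelPseudoCoherentAll R A T.obj₂ → DerCA.IsRelPseudoCoherentAll R A T.obj₃ →
          DerCA.IsRelPseudoCoherentAll R A T.obj₁)) := by
  obtain ⟨n, α, hα⟩ := RelPC.exists_presentation R A
  let φ : MvPolynomial (Fin n) R →+* A := α
  have hT' := (DRing.restrictD φ).map_distinguished T hT
  simp only [RelPC.relPC_iff α hα _ (sub_add_cancel m 1), RelPC.relPC_iff α hα _ (show m - 1 + 1 + 1 = m + 1 by omega),
    RelPC.relPCAll_iff α hα]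
  exact ⟨fun h₁ h₂ => PseudoCoh.approx_obj₃ _ hT' _ h₁ h₂, fun h₁ h₃ => PseudoCoh.approx_obj₂ _ hT' _ h₁ h₃,
    fun h₂ h₃ => PseudoCoh.approx_obj₁ _ hT' _ h₂ h₃,
    fun h₁ h₂ d => PseudoCoh.approx_obj₃ _ hT' _ (h₁ _) (h₂ _),
    fun h₁ h₃ d => PseudoCoh.approx_obj₂ _ hT' _ (h₁ _) (h₃ _),
    fun h₂ h₃ d => PseudoCoh.approx_mono (show d ≤ d by omega) (by simpa using PseudoCoh.approx_obj₁ _ hT' (d - 1) (h₂ _) (h₃ _))⟩

end Groth.Agent.S7020
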