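import Groth.Statements.S7021
import Groth.Agent.RelPC.Module

set_option autoImplicit false
universe u
open CategoryTheory CategoryTheory.Limits
attribute [local instance] HasDerivedCategory.standard
open DerCA

namespace Groth.Agent.S7021

open CategoryTheory DerivedCategory

attribute [local instance] HasDerivedCategory.standard

/-- Let R → A be a finite type homomorphism of commutative rings, α : R[x_1, ..., x_n] → A a surjective
R-algebra homomorphism and M an A-module. Then relative 0-pseudo-coherence of M over R amounts to M
being a finitely generated A-module, and relative (-1)-pseudo-coherence of M over R amounts to M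
being finitely presented as an R[x_1, ..., x_n]-module through α. -/
theorem result {R A : Type u} [CommRing R] [CommRing A]
    [Algebra R A] [Algebra.FiniteType R A] {n : ℕ} (α : MvPolynomial (Fin n) R →ₐ[R] A)
    (hα : Function.Surjective α) (M : Type u) [AddCommGroup M] [Module A M] :
    (DerCA.IsRelPseudoCoherentModule R A 0 M ↔ Module.Finite A M) ∧
      (DerCA.IsRelPseudoCoherentModule R A (-1) M ↔
        @Module.FinitePresentation (MvPolynomial (Fin n) R) M _ _ (Module.compHom M α.toRingHom)) := by
  refine ⟨?_, ?_⟩
  · rw [DerCA.IsRelPseudoCoherentModule, RelPC.relPC_iff α hα _ (show (-1 : ℤ) + 1 = 0 by omega)]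
    exact (RelPC.finite_iff_approx _ M).symm.trans (RelPC.finite_compHom_iff _ hα M)
  · rw [DerCA.IsRelPseudoCoherentModule, RelPC.relPC_iff α hα _ (show (-2 : ℤ) + 1 = -1 by omega)]
    exact (RelPC.fp_iff_approx _ M).symm

end Groth.Agent.S7021
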