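import Groth.Statements.S7022
import Groth.Agent.PseudoCoh.Biprod

set_option autoImplicit false
universe u
open CategoryTheory CategoryTheory.Limits
attribute [local instance] HasDerivedCategory.standard
open DerCA

namespace Groth.Agent.S7022

open CategoryTheory CategoryTheory.Limits
/-- Let R → A be a finite type homomorphism of commutative rings, m an integer and K, L objects of the
derived category D(A). Whenever the direct sum K ⊕ L is pseudo-coherent relative to R in degree m,
both summands K and L are too; likewise, relative pseudo-coherence of K ⊕ L (in every degree) passes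
to K and to L. -/
theorem result {R A : Type u} [CommRing R] [CommRing A] [Algebra R A] [Algebra.FiniteType R A] (m : ℤ) (K L : Dual.D A) [HasBinaryBiproduct K L] :
    (DerCA.IsRelPseudoCoherent R A m (K ⊞ L) → DerCA.IsRelPseudoCoherent R A m K ∧ DerCA.IsRelPseudoCoherent R A m L) ∧
      (DerCA.IsRelPseudoCoherentAll R A (K ⊞ L) →
        DerCA.IsRelPseudoCoherentAll R A K ∧ DerCA.IsRelPseudoCoherentAll R A L) := by
  have key : ∀ m, DerCA.IsRelPseudoCoherent R A m (K ⊞ L) →
      DerCA.IsRelPseudoCoherent R A m K ∧ DerCA.IsRelPseudoCoherent R A m L := by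
    rintro m ⟨n, α, hα, h⟩
    let F := DRing.restrictD (α : MvPolynomial (Fin n) R →+* A)
    haveI : PreservesBinaryBiproduct K L F :=
      preservesBinaryBiproduct_of_preservesBiproduct F K L
    haveI : HasBinaryBiproduct (F.obj K) (F.obj L) := F.hasBinaryBiproduct_of_preserves K L
    obtain ⟨h1, h2⟩ := Groth.Agent.PseudoCoh.approx_biprod (Groth.Agent.PseudoCoh.approx_of_iso (F.mapBiprod K L)
      ((Groth.Agent.PseudoCoh.approx_iff (sub_add_cancel m 1) _).1 h))
    exact ⟨⟨n, α, hα, (Groth.Agent.PseudoCoh.approx_iff (sub_add_cancel m 1) _).2 h1⟩,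
      ⟨n, α, hα, (Groth.Agent.PseudoCoh.approx_iff (sub_add_cancel m 1) _).2 h2⟩⟩
  exact ⟨key m, fun h => ⟨fun m => (key m (h m)).1, fun m => (key m (h m)).2⟩⟩

end Groth.Agent.S7022
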