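import Groth.Statements.S7023
import Groth.Agent.RelPC.Module

set_option autoImplicit false
universe u
open CategoryTheory CategoryTheory.Limits
attribute [local instance] HasDerivedCategory.standard
open DerCA

namespace Groth.Agent.S7023

open CategoryTheory CategoryTheory.Limits CategoryTheory.Pretriangulated DerivedCategory DerivedCategory.TStructure Groth.Agent.PseudoCoh

attribute [local instance] HasDerivedCategory.standard

lemma approx_single {R A : Type u} [CommRing R] [CommRing A] [Algebra R A] {n : ℕ}
    (α : MvPolynomial (Fin n) R →ₐ[R] A) (i d : ℤ) (M : ModuleCat.{u} A)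
    (h : Approx (d - i) ((DRing.restrictD (α : MvPolynomial (Fin n) R →+* A)).obj (Dual.inD A M))) :
    Approx d ((DRing.restrictD (α : MvPolynomial (Fin n) R →+* A)).obj (singleD i M)) :=
  approx_of_iso (((ModuleCat.restrictScalars.{u} (α : MvPolynomial (Fin n) R →+* A)).mapDerivedCategorySingleFunctor i).app M).symm
    ((approx_singleD_iff i d (d - i) (sub_add_cancel d i) _).2 (approx_of_iso (RelPC.restrictInDIso _ M) h))

/-- Let R → A be a finite type homomorphism of commutative rings, m an integer and K a bounded above
cochain complex of A-modules such that the module K^i is (m - i)-pseudo-coherent relative to R for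
every i. Then K is m-pseudo-coherent relative to R. Moreover, K is pseudo-coherent over R as soon as
each of its terms K^i is so. -/
theorem result {R A : Type u} [CommRing R] [CommRing A] [Algebra R A] [Algebra.FiniteType R A] (m : ℤ) (K : DRing.Cx A) (b : ℤ)
    (hb : DRing.VanishesAbove K b) :
    ((∀ i : ℤ, DerCA.IsRelPseudoCoherentModule R A (m - i) (K.X i)) → DerCA.IsRelPseudoCoherent R A m (DRing.toD K)) ∧
      ((∀ i : ℤ, DerCA.IsRelPseudoCoherentModuleAll R A (K.X i)) →
        DerCA.IsRelPseudoCoherentAll R A (DRing.toD K)) := by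
  obtain ⟨n, α, hα⟩ := RelPC.exists_presentation R A
  let φ : MvPolynomial (Fin n) R →+* A := α
  have key : ∀ d : ℤ, (∀ i, Approx (d - i) ((DRing.restrictD φ).obj (Dual.inD A (K.X i)))) →
      Approx d ((DRing.restrictD φ).obj (DRing.toD K)) := by
    intro d h
    obtain ⟨C, g, k, hT⟩ := distinguished_cocone_triangle (DerivedCategory.Q.map (cutι K (d + 1)))
    have hC : t.IsLE C d := (isLE_obj₃_iff _ hT (d + 1) d rfl).2 ⟨fun i hi => by
        haveI := isIso_homology_cutι (E := K) (d + 1) hi
        exact (NatIso.isIso_map_iff (DerivedCategory.homologyFunctorFactors (ModuleCat.{u} A) i) (cutι K (d + 1))).2 this,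
      ((MorphismProperty.epimorphisms (ModuleCat.{u} A)).arrow_mk_iso_iff
        (Arrow.isoMk ((DerivedCategory.homologyFunctorFactors (ModuleCat.{u} A) (d + 1)).app _)
          ((DerivedCategory.homologyFunctorFactors (ModuleCat.{u} A) (d + 1)).app _)
          ((DerivedCategory.homologyFunctorFactors (ModuleCat.{u} A) (d + 1)).hom.naturality (cutι K (d + 1))).symm)).2
        (epi_homology_cutι (E := K) (d + 1))⟩
    refine approx_obj₂ _ ((DRing.restrictD φ).map_distinguished _ hT) d ?_ (approx_of_isLE ((isLE_restrictD φ).2 hC))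
    refine devissage_terms (fun X => Approx d ((DRing.restrictD φ).obj X))
      (fun e hX => approx_of_iso ((DRing.restrictD φ).mapIso e) hX)
      (fun T hT h₁ h₃ => approx_obj₂ _ ((DRing.restrictD φ).map_distinguished T hT) d h₁ h₃) K
      (fun i => approx_single α i d _ (h i)) (d + 1) (max (d + 1) (b + 1)) ?_ (le_max_left _ _)
    exact approx_of_isLE ((isLE_restrictD φ).2 (t.isLE_of_isZero (isZero_toD_cut K fun i hi => hb i (by omega)) d))
  refine ⟨fun h => (RelPC.relPC_iff α hα _ (sub_add_cancel m 1)).2 (key _ fun i => ?_),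
    fun h => (RelPC.relPCAll_iff α hα _).2 fun d => key d fun i => ?_⟩
  · exact (RelPC.relPC_iff α hα _ (show m - 1 - i + 1 = m - i by omega)).1 (h i)
  · exact (RelPC.relPCAll_iff α hα _).1 (h i) _

end Groth.Agent.S7023
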