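import Groth.Statements.S7024
import Groth.Agent.RelPC.Module

set_option autoImplicit false
universe u
open CategoryTheory CategoryTheory.Limits
attribute [local instance] HasDerivedCategory.standard
open DerCA

namespace Groth.Agent.S7024

open CategoryTheory CategoryTheory.Limits CategoryTheory.Pretriangulated DerivedCategory DerivedCategory.TStructure Groth.Agent.PseudoCoh

attribute [local instance] HasDerivedCategory.standard

lemma approx_single {R A : Type u} [CommRing R] [CommRing A] [Algebra R A] {n : ℕ}
    (α : MvPolynomial (Fin n) R →ₐ[R] A) (i d : ℤ) (M : ModuleCat.{u} A)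
    (h : Approx (d - i) ((DRing.restrictD (α : MvPolynomial (Fin n) R →+* A)).obj (Dual.inD A M))) :
    Approx d ((DRing.restrictD (α : MvPolynomial (Fin n) R →+* A)).obj (singleD i M)) :=
  approx_of_iso (((ModuleCat.restrictScalars.{u} (α : MvPolynomial (Fin n) R →+* A)).mapDerivedCategorySingleFunctor i).app M).symm
    ((approx_singleD_iff i d (d - i) (sub_add_cancel d i) _).2 (approx_of_iso (RelPC.restrictInDIso _ M) h))

/-- Let R → A be a finite type homomorphism of commutative rings, m an integer and K an object of D(A)
whose cohomology vanishes in large degrees. If the module H^i(K) is (m - i)-pseudo-coherent relative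
to R for every i, then K is m-pseudo-coherent relative to R. Moreover, K is relatively
pseudo-coherent over R as soon as each cohomology module H^i(K) has this property over R. -/
theorem result {R A : Type u} [CommRing R] [CommRing A] [Algebra R A] [Algebra.FiniteType R A] (m : ℤ) (K : Dual.D A)
    (hb : ∃ b : ℤ, ∀ i : ℤ, b < i → Subsingleton (Dual.HD A K i)) :
    ((∀ i : ℤ, DerCA.IsRelPseudoCoherentModule R A (m - i) (Dual.HD A K i)) → DerCA.IsRelPseudoCoherent R A m K) ∧
      ((∀ i : ℤ, DerCA.IsRelPseudoCoherentModuleAll R A (Dual.HD A K i)) → DerCA.IsRelPseudoCoherentAll R A K) := by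
  obtain ⟨n, α, hα⟩ := RelPC.exists_presentation R A
  let φ : MvPolynomial (Fin n) R →+* A := α
  obtain ⟨b, hb⟩ := hb
  have hle : t.IsLE K b := (DerivedCategory.isLE_iff K b).2 fun i hi => @ModuleCat.isZero_of_subsingleton _ _ _ (hb i hi)
  have key : ∀ d : ℤ, (∀ i, Approx (d - i) ((DRing.restrictD φ).obj (Dual.inD A (Dual.HD A K i)))) →
      Approx d ((DRing.restrictD φ).obj K) := fun d h =>
    devissage_homology (fun X => Approx d ((DRing.restrictD φ).obj X))
      (fun e hX => approx_of_iso ((DRing.restrictD φ).mapIso e) hX)
      (fun T hT h₁ h₃ => approx_obj₂ _ ((DRing.restrictD φ).map_distinguished T hT) d h₁ h₃) d K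
      (fun K' hK' _ => approx_of_isLE ((isLE_restrictD φ).2 hK')) b hle
      fun i _ => approx_single α i d _ (h i)
  refine ⟨fun h => (RelPC.relPC_iff α hα _ (sub_add_cancel m 1)).2 (key _ fun i => ?_),
    fun h => (RelPC.relPCAll_iff α hα _).2 fun d => key d fun i => ?_⟩
  · exact (RelPC.relPC_iff α hα _ (show m - 1 - i + 1 = m - i by omega)).1 (h i)
  · exact (RelPC.relPCAll_iff α hα _).1 (h i) _

end Groth.Agent.S7024
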