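import Groth.Statements.S7026
import Groth.Agent.RelPC.Module
import Mathlib.RingTheory.Polynomial.Basic

set_option autoImplicit false
universe u
open CategoryTheory CategoryTheory.Limits
attribute [local instance] HasDerivedCategory.standard
open DerCA

namespace Groth.Agent.S7026

open CategoryTheory CategoryTheory.Limits CategoryTheory.Pretriangulated DerivedCategory DerivedCategory.TStructure Groth.Agent.PseudoCoh

attribute [local instance] HasDerivedCategory.standard

/-- Let R be a Noetherian commutative ring, R → A a finite type ring homomorphism, m an integer, K an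
object of D(A) and M an A-module. Then: m-pseudo-coherence of K relative to R is equivalent to
H^i(K) vanishing for all large i together with H^i(K) being a finitely generated A-module for each i
≥ m; pseudo-coherence of K relative to R (every degree) is equivalent to the same with H^i(K)
finitely generated for every i; and the A-module M is pseudo-coherent relative to R exactly when M
is finitely generated. -/
theorem result {R A : Type u} [CommRing R]
    [IsNoetherianRing R] [CommRing A] [Algebra R A] [Algebra.FiniteType R A] (m : ℤ) (K : Dual.D A)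
    (M : Type u) [AddCommGroup M] [Module A M] :
    (DerCA.IsRelPseudoCoherent R A m K ↔
      (∃ b : ℤ, ∀ i : ℤ, b < i → Subsingleton (Dual.HD A K i)) ∧ ∀ i : ℤ, m ≤ i → Module.Finite A (Dual.HD A K i)) ∧
    (DerCA.IsRelPseudoCoherentAll R A K ↔
      (∃ b : ℤ, ∀ i : ℤ, b < i → Subsingleton (Dual.HD A K i)) ∧ ∀ i : ℤ, Module.Finite A (Dual.HD A K i)) ∧
    (DerCA.IsRelPseudoCoherentModuleAll R A M ↔ Module.Finite A M) := by
  obtain ⟨n, α, hα⟩ := RelPC.exists_presentation R A
  let φ : MvPolynomial (Fin n) R →+* A := α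
  have hle : ∀ (L : Dual.D A) (b : ℤ), t.IsLE L b ↔ ∀ i : ℤ, b < i → Subsingleton (Dual.HD A L i) := fun L b =>
    (DerivedCategory.isLE_iff L b).trans ⟨fun h i hi => ModuleCat.subsingleton_of_isZero (h i hi),
      fun h i hi => @ModuleCat.isZero_of_subsingleton _ _ _ (h i hi)⟩
  have hfin : ∀ (L : Dual.D A) (i : ℤ), Module.Finite (MvPolynomial (Fin n) R)
      ((DerivedCategory.homologyFunctor (ModuleCat.{u} (MvPolynomial (Fin n) R)) i).obj ((DRing.restrictD φ).obj L)) ↔
      Module.Finite A (Dual.HD A L i) := fun L i => by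
    refine Iff.trans ?_ (RelPC.finite_compHom_iff φ hα (Dual.HD A L i))
    letI : Module (MvPolynomial (Fin n) R) (Dual.HD A L i) := Module.compHom _ φ
    let e : (DerivedCategory.homologyFunctor (ModuleCat.{u} (MvPolynomial (Fin n) R)) i).obj ((DRing.restrictD φ).obj L)
        ≃ₗ[MvPolynomial (Fin n) R] Dual.HD A L i := (restrictHomologyIso φ L i).toLinearEquiv
    exact ⟨fun h => haveI := h; Module.Finite.equiv e, fun h => haveI := h; Module.Finite.equiv e.symm⟩
  have key : ∀ (L : Dual.D A) (d e : ℤ), d + 1 = e → (Approx d ((DRing.restrictD φ).obj L) ↔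
      (∃ b : ℤ, ∀ i : ℤ, b < i → Subsingleton (Dual.HD A L i)) ∧ ∀ i : ℤ, e ≤ i → Module.Finite A (Dual.HD A L i)) :=
    fun L d e he => by
      rw [approx_noetherian_iff he]
      simp only [isLE_restrictD, hle, hfin]
  have all : ∀ L : Dual.D A, DerCA.IsRelPseudoCoherentAll R A L ↔
      (∃ b : ℤ, ∀ i : ℤ, b < i → Subsingleton (Dual.HD A L i)) ∧ ∀ i : ℤ, Module.Finite A (Dual.HD A L i) := fun L => by
    rw [RelPC.relPCAll_iff α hα]
    exact ⟨fun h => ⟨((key L 0 1 rfl).1 (h 0)).1, fun i => ((key L _ _ (sub_add_cancel i 1)).1 (h (i - 1))).2 i le_rfl⟩,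
      fun h d => (key L d _ rfl).2 ⟨h.1, fun i _ => h.2 i⟩⟩
  refine ⟨(RelPC.relPC_iff α hα K (sub_add_cancel m 1)).trans (key K _ _ (sub_add_cancel m 1)), all K, ?_⟩
  refine (all (Dual.inD A M)).trans ⟨fun h => haveI := h.2 0; Module.Finite.equiv (RelPC.inDHomologyIso (ModuleCat.of A M)).toLinearEquiv,
    fun h => ⟨⟨0, (hle _ 0).1 (isLE_inD (A := A) M)⟩, fun i => ?_⟩⟩
  rcases lt_trichotomy i 0 with hi | rfl | hi
  · haveI := ModuleCat.subsingleton_of_isZero ((DerivedCategory.isGE_iff _ _).1
      (inferInstance : t.IsGE ((DerivedCategory.singleFunctor (ModuleCat.{u} A) 0).obj (ModuleCat.of A M)) 0) i hi)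
    exact (inferInstance : Module.Finite A ((DerivedCategory.homologyFunctor (ModuleCat.{u} A) i).obj
      ((DerivedCategory.singleFunctor (ModuleCat.{u} A) 0).obj (ModuleCat.of A M))))
  · haveI : Module.Finite A (ModuleCat.of A M) := h
    exact Module.Finite.equiv (RelPC.inDHomologyIso (ModuleCat.of A M)).symm.toLinearEquiv
  · haveI := (hle _ 0).1 (isLE_inD (A := A) M) i hi
    infer_instance

end Groth.Agent.S7026
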