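import Groth.Statements.S7028
import Groth.Agent.PseudoCoh.TorAmp

set_option autoImplicit false
universe u
open CategoryTheory CategoryTheory.Limits
attribute [local instance] HasDerivedCategory.standard
open DRing

namespace Groth.Agent.S7028

open CategoryTheory CategoryTheory.Limits CategoryTheory.Pretriangulated DerivedCategory.TStructure Groth.Agent.PseudoCoh

open CategoryTheory.Pretriangulated in
/-- Let R be a commutative ring such that the derived tensor product - ⊗^L_R M exists on D(R) for every
R-module M, and let K → L → M → K[1] be a distinguished triangle in D(R). If two out of K, L, M are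
perfect, then so is the third. -/
theorem result (R : Type u) [CommRing R] [∀ M : ModuleCat.{u} R, DRing.HasLTensor R M]
    (T : Triangle (Dual.D R)) (hT : T ∈ distinguishedTriangles) :
    (DRing.IsPerfect R T.obj₁ → DRing.IsPerfect R T.obj₂ → DRing.IsPerfect R T.obj₃) ∧
      (DRing.IsPerfect R T.obj₁ → DRing.IsPerfect R T.obj₃ → DRing.IsPerfect R T.obj₂) ∧
      (DRing.IsPerfect R T.obj₂ → DRing.IsPerfect R T.obj₃ → DRing.IsPerfect R T.obj₁) := by
  refine ⟨fun h1 h2 => perfect_obj₃ T hT h1 h2, fun h1 h3 => ?_, fun h2 h3 => ?_⟩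
  · exact perfect_obj₃ _ (inv_rot_of_distTriang _ hT) (perfect_shift (-1) h3) h1
  · exact perfect_of_iso ((shiftEquiv (Dual.D R) (1 : ℤ)).unitIso.symm.app T.obj₁)
      (perfect_shift (-1) (perfect_obj₃ _ (rot_of_distTriang _ hT) h2 h3))

end Groth.Agent.S7028
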