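import Groth.Statements.S7030
import Groth.Agent.PseudoCoh.Coherent

set_option autoImplicit false
universe u
open CategoryTheory CategoryTheory.Limits
attribute [local instance] HasDerivedCategory.standard
open DRing

namespace Groth.Agent.S7030

open CategoryTheory CategoryTheory.Limits CategoryTheory.Pretriangulated DerivedCategory DerivedCategory.TStructure Groth.Agent.PseudoCoh

lemma isLE_iff_subsingleton {R : Type u} [CommRing R] (K : Dual.D R) (b : ℤ) :
    t.IsLE K b ↔ ∀ i : ℤ, b < i → Subsingleton (Dual.HD R K i) :=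
  (DerivedCategory.isLE_iff K b).trans ⟨fun h i hi => ModuleCat.subsingleton_of_isZero (h i hi),
    fun h i hi => @ModuleCat.isZero_of_subsingleton _ _ _ (h i hi)⟩

open scoped ZeroObject in
lemma exists_zero_rep {R : Type u} [CommRing R] {K : Dual.D R} (hK : IsZero K) (p : ModuleCat.{u} R → Prop)
    (hp : ∀ M : ModuleCat.{u} R, Subsingleton M → p M) :
    ∃ E : DRing.Cx R, (∀ i, IsZero (E.X i)) ∧ (∀ i, p (E.X i)) ∧ Nonempty (DRing.toD E ≅ K) := by
  have h : ∀ i, IsZero ((0 : DRing.Cx R).X i) := fun i =>
    (HomologicalComplex.eval (ModuleCat.{u} R) (ComplexShape.up ℤ) i).map_isZero (isZero_zero _)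
  exact ⟨0, h, fun i => hp _ (ModuleCat.subsingleton_of_isZero (h i)), ⟨(DerivedCategory.Q.map_isZero (isZero_zero _)).iso hK⟩⟩

/-- Let R be a commutative ring such that the derived tensor product - ⊗^L_R M exists on D(R) for every
R-module M, and let K be an object of D(R) whose cohomology vanishes outside a bounded range of
degrees and whose cohomology modules H^i(K) are all perfect R-modules. Then K is a perfect object of
D(R). -/
theorem result (R : Type u) [CommRing R] [∀ M : ModuleCat.{u} R, DRing.HasLTensor R M] (K : Dual.D R)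
    (hb : ∃ a b : ℤ, ∀ i : ℤ, (i < a ∨ b < i) → Subsingleton (Dual.HD R K i))
    (hK : ∀ i : ℤ, DRing.IsPerfectModule R (Dual.HD R K i)) : DRing.IsPerfect R K := by
  obtain ⟨a, b, hb⟩ := hb
  exact devissage_bounded (DRing.IsPerfect R) (fun e hX => perfect_of_iso e hX)
    (fun T hT h₁ h₃ => perfect_obj₃ _ (inv_rot_of_distTriang _ hT) (perfect_shift (-1) h₃) h₁)
    (fun K hK => by
      obtain ⟨E, hE, hp, e⟩ := exists_zero_rep hK (fun M => Module.Finite R M ∧ Module.Projective R M) (fun M hM => by
        haveI := hM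
        haveI := Module.Free.of_subsingleton R M
        exact ⟨inferInstance, Module.Projective.of_free⟩)
      exact ⟨E, 0, 0, fun i _ => hE i, hp, e⟩) K a b
    ((DerivedCategory.isGE_iff K a).2 fun i hi => @ModuleCat.isZero_of_subsingleton _ _ _ (hb i (Or.inl hi)))
    ((isLE_iff_subsingleton K b).2 fun i hi => hb i (Or.inr hi))
    fun i => perfect_of_iso (singleDIso i _) (perfect_shift (-i) (hK i))

end Groth.Agent.S7030
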