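import Groth.Statements.S7031
import Groth.Agent.PseudoCoh.Regular
import Groth.Agent.PseudoCoh.Finite

set_option autoImplicit false
universe u
open CategoryTheory CategoryTheory.Limits
attribute [local instance] HasDerivedCategory.standard
open DRing

namespace Groth.Agent.S7031

open CategoryTheory CategoryTheory.Limits DerivedCategory DerivedCategory.TStructure Groth.Agent.PseudoCoh

lemma regular_key (R : Type u) [CommRing R] [IsNoetherianRing R]
    (hreg : ∀ p : PrimeSpectrum R, IsRegularLocalRing (Localization.AtPrime p.asIdeal)) (K : Dual.D R) :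
    DRing.IsPerfect R K ↔
      (∃ a b : ℤ, ∀ i : ℤ, (i < a ∨ b < i) → Subsingleton (Dual.HD R K i)) ∧ ∀ i : ℤ, Module.Finite R (Dual.HD R K i) := by
  constructor
  · intro h
    obtain ⟨hpc, a, b, hab⟩ := (perfect_iff K).1 h
    refine ⟨⟨a, b, fun i hi => ModuleCat.subsingleton_of_isZero (hi.elim
      ((DerivedCategory.isGE_iff _ _).1 (isGE_of_torAmplitude hab) i)
      ((DerivedCategory.isLE_iff _ _).1 (isLE_of_torAmplitude hab) i))⟩, fun i => ?_⟩
    exact ((approx_noetherian_iff (sub_add_cancel i 1) K).1 (hpc _)).2 i le_rfl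
  · rintro ⟨⟨a, b, hab⟩, hfin⟩
    have hb : t.IsLE K b := (DerivedCategory.isLE_iff _ _).2 fun i hi =>
      @ModuleCat.isZero_of_subsingleton _ _ _ (hab i (Or.inr hi))
    exact perfect_of_regular hreg K a ((DerivedCategory.isGE_iff _ _).2 fun i hi =>
      @ModuleCat.isZero_of_subsingleton _ _ _ (hab i (Or.inl hi)))
      ((pc'_iff K).2 fun n => (approx_noetherian_iff rfl K).2 ⟨⟨b, hb⟩, fun i _ => hfin i⟩)

/-- Let R be a regular commutative ring (Noetherian, with regular local rings at all primes) such that
the derived tensor product - ⊗^L_R M exists on D(R) for every R-module M, and let K be an object of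
D(R). Then K is perfect if and only if H^i(K) = 0 outside a bounded range of degrees and every
H^i(K) is a finitely generated R-module. -/
theorem result (R : Type u) [CommRing R] [IsNoetherianRing R]
    (hreg : ∀ p : PrimeSpectrum R, IsRegularLocalRing (Localization.AtPrime p.asIdeal)) [∀ M : ModuleCat.{u} R, DRing.HasLTensor R M] (K : Dual.D R) :
    DRing.IsPerfect R K ↔
      (∃ a b : ℤ, ∀ i : ℤ, (i < a ∨ b < i) → Subsingleton (Dual.HD R K i)) ∧ ∀ i : ℤ, Module.Finite R (Dual.HD R K i) := by
  exact regular_key R hreg K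

end Groth.Agent.S7031
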