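import Groth.Statements.S7032
import Groth.Agent.PseudoCoh.Coherent

set_option autoImplicit false
universe u
open CategoryTheory CategoryTheory.Limits
attribute [local instance] HasDerivedCategory.standard
open DRing

namespace Groth.Agent.S7032

open CategoryTheory CategoryTheory.Limits CategoryTheory.Pretriangulated DerivedCategory DerivedCategory.TStructure Groth.Agent.PseudoCoh

lemma isLE_iff_subsingleton {R : Type u} [CommRing R] (K : Dual.D R) (b : ℤ) :
    t.IsLE K b ↔ ∀ i : ℤ, b < i → Subsingleton (Dual.HD R K i) :=
  (DerivedCategory.isLE_iff K b).trans ⟨fun h i hi => ModuleCat.subsingleton_of_isZero (h i hi),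
    fun h i hi => @ModuleCat.isZero_of_subsingleton _ _ _ (h i hi)⟩

open scoped ZeroObject in
lemma exists_zero_rep {R : Type u} [CommRing R] {K : Dual.D R} (hK : IsZero K) (p : ModuleCat.{u} R → Prop)
    (hp : ∀ M : ModuleCat.{u} R, Subsingleton M → p M) :
    ∃ E : DRing.Cx R, (∀ i, IsZero (E.X i)) ∧ (∀ i, p (E.X i)) ∧ Nonempty (DRing.toD E ≅ K) := by
  have h : ∀ i, IsZero ((0 : DRing.Cx R).X i) := fun i =>
    (HomologicalComplex.eval (ModuleCat.{u} R) (ComplexShape.up ℤ) i).map_isZero (isZero_zero _)
  exact ⟨0, h, fun i => hp _ (ModuleCat.subsingleton_of_isZero (h i)), ⟨(DerivedCategory.Q.map_isZero (isZero_zero _)).iso hK⟩⟩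

/-- Let R be a commutative ring such that the derived tensor product - ⊗^L_R M exists on D(R) for every
R-module M, let a, b be integers and K a bounded cochain complex of R-modules such that for every i
the module K^i (placed in degree 0) has tor amplitude in [a - i, b - i]. Then K has tor amplitude in
[a, b]. -/
theorem result (R : Type u) [CommRing R] [∀ M : ModuleCat.{u} R, DRing.HasLTensor R M] (a b : ℤ) (K : DRing.Cx R)
    (c d : ℤ) (hcd : DRing.VanishesOutside K c d)
    (hK : ∀ i : ℤ, DRing.HasTorAmplitudeIn R (a - i) (b - i) (Dual.inD R (K.X i))) :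
    DRing.HasTorAmplitudeIn R a b (DRing.toD K) := by
  exact devissage_terms_bounded (DRing.HasTorAmplitudeIn R a b) (fun e hX => torAmplitude_of_iso e hX)
    (fun T hT h₁ h₃ => torAmplitude_obj₃ _ (inv_rot_of_distTriang _ hT)
      (torAmplitude_shift (-1) _ _ (by omega) (by omega) h₃) h₁) K
    (fun K hK => by
      obtain ⟨E, hE, hp, e⟩ := exists_zero_rep hK (fun M => Module.Flat R M) (fun M hM => by
        haveI := hM
        haveI := Module.Free.of_subsingleton R M
        infer_instance)
      exact ⟨E, fun i _ => hE i, hp, e⟩) c d hcd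
    fun i => torAmplitude_of_iso (singleDIso i _) (torAmplitude_shift (-i) a b (by omega) (by omega) (hK i))

end Groth.Agent.S7032
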