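import Groth.Statements.S7034
import Groth.Agent.S6946
import Groth.Agent.PseudoCoh.Devissage
import Groth.Agent.PseudoCoh.Coherent
import Mathlib.CategoryTheory.Abelian.Projective.Dimension
import Mathlib.Algebra.Homology.DerivedCategory.SingleTriangle

set_option autoImplicit false
universe u
open CategoryTheory CategoryTheory.Limits
attribute [local instance] HasDerivedCategory.standard
open DRing

namespace Groth.Agent.S7034

open CategoryTheory CategoryTheory.Limits CategoryTheory.Pretriangulated DerivedCategory DerivedCategory.TStructure Groth.Agent.PseudoCoh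

attribute [local instance] HasDerivedCategory.standard

/-- Let R be a commutative ring of global dimension at most d, i.e. every R-module has projective
dimension at most d, such that the derived tensor product - ⊗^L_R M exists on D(R) for every
R-module M. Then: (1) for every R-module M, M[0] is isomorphic in D(R) to a complex of flat modules
vanishing outside [-d, 0]; (2) every object K of D(R) with H^i(K) = 0 for all i outside [a, b] is
isomorphic in D(R) to a complex of flat modules vanishing outside [a - d, b]. -/
theorem result (R : Type u) [CommRing R] (d : ℕ)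
    (hgl : ∀ (M : Type u) [AddCommGroup M] [Module R M], HasProjectiveDimensionLT (ModuleCat.of R M) (d + 1))
    [∀ M : ModuleCat.{u} R, DRing.HasLTensor R M] :
    (∀ (M : Type u) [AddCommGroup M] [Module R M], DRing.HasTorAmplitudeIn R (-(d : ℤ)) 0 (Dual.inD R M)) ∧
      (∀ (K : Dual.D R) (a b : ℤ), (∀ i : ℤ, (i < a ∨ b < i) → Subsingleton (Dual.HD R K i)) →
        DRing.HasTorAmplitudeIn R (a - d) b K) := by
  have h0 : ∀ (M : Type u) [AddCommGroup M] [Module R M] [Module.Flat R M],
      DRing.HasTorAmplitudeIn R 0 0 (Dual.inD R M) := fun M _ _ hM => by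
    have h := ((S6946.result R M 0).1).1 ((S6946.result R M 0).2.2 hM)
    rwa [Nat.cast_zero, neg_zero] at h
  have h1 : ∀ (d : ℕ) (M : Type u) [AddCommGroup M] [Module R M],
      HasProjectiveDimensionLT (ModuleCat.of R M) (d + 1) → DRing.HasTorAmplitudeIn R (-(d : ℤ)) 0 (Dual.inD R M) := by
    intro d
    induction d with
    | zero =>
      intro M _ _ hM
      haveI := (projective_iff_hasProjectiveDimensionLT_one (X := ModuleCat.of R M)).2 hM
      haveI : Module.Projective R M := (IsProjective.iff_projective M).2 inferInstance
      rw [Nat.cast_zero, neg_zero]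
      exact h0 M
    | succ d ih =>
      intro M _ _ hM
      let π : (M →₀ R) →ₗ[R] M := Finsupp.linearCombination R id
      have hπ : Function.Surjective π := Finsupp.linearCombination_id_surjective R M
      let S : ShortComplex (ModuleCat.{u} R) := ShortComplex.mk (X₁ := ModuleCat.of R (LinearMap.ker π))
        (X₂ := ModuleCat.of R (M →₀ R)) (X₃ := ModuleCat.of R M) (ModuleCat.ofHom (LinearMap.ker π).subtype) (ModuleCat.ofHom π)
        (ModuleCat.hom_ext (LinearMap.ext fun x => x.2))
      have hS : S.ShortExact :=
        { exact := (ShortComplex.moduleCat_exact_iff _).2 fun x hx => ⟨⟨x, hx⟩, rfl⟩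
          mono_f := (ModuleCat.mono_iff_injective _).2 (LinearMap.ker π).subtype_injective
          epi_g := (ModuleCat.epi_iff_surjective _).2 hπ }
      have hF : Projective S.X₂ := (IsProjective.iff_projective (M →₀ R)).1 inferInstance
      refine torAmplitude_obj₃ _ hS.singleTriangle_distinguished
        (torAmplitude_mono (by push_cast; omega) (by omega) (ih (LinearMap.ker π)
          (((hS.hasProjectiveDimensionLT_X₃_iff d hF).1 hM))))
        (torAmplitude_mono (by omega) le_rfl (h0 (M →₀ R)))
  refine ⟨fun M _ _ => h1 d M (hgl M), fun K a b h => ?_⟩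
  have hz : ∀ L : Dual.D R, IsZero L → DRing.HasTorAmplitudeIn R (a - d) b L := fun L hL =>
    ⟨HomologicalComplex.zero, fun i _ => isZero_zero _, fun i => by
      haveI := ModuleCat.subsingleton_of_isZero (isZero_zero (ModuleCat.{u} R))
      haveI : Subsingleton ((HomologicalComplex.zero : DRing.Cx R).X i) := this
      infer_instance, ⟨(DerivedCategory.Q.map_isZero HomologicalComplex.isZero_zero).iso hL⟩⟩
  refine devissage_bounded _ (fun e h => torAmplitude_of_iso e h)
    (fun T hT h₁ h₃ => torAmplitude_obj₃ T.invRotate (inv_rot_of_distTriang _ hT)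
      (torAmplitude_shift (-1) _ _ (by omega) (by omega) h₃) h₁) hz K a b
    ((DerivedCategory.isGE_iff _ _).2 fun i hi => @ModuleCat.isZero_of_subsingleton _ _ _ (h i (Or.inl hi)))
    ((DerivedCategory.isLE_iff _ _).2 fun i hi => @ModuleCat.isZero_of_subsingleton _ _ _ (h i (Or.inr hi)))
    fun i => ?_
  by_cases hi : i < a ∨ b < i
  · exact hz _ ((DerivedCategory.singleFunctor (ModuleCat.{u} R) i).map_isZero (@ModuleCat.isZero_of_subsingleton _ _ _ (h i hi)))
  · exact torAmplitude_of_iso (singleDIso i _) (torAmplitude_mono (show a - d ≤ i - d by omega) (show i ≤ b by omega)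
      (torAmplitude_shift (-i) _ _ (by omega) (by omega)
        (h1 d ((DerivedCategory.homologyFunctor (ModuleCat.{u} R) i).obj K) (hgl _))))

end Groth.Agent.S7034
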