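import Groth.Statements.S7036
import Groth.Agent.PseudoCoh.Devissage
import Mathlib.Algebra.Homology.DerivedCategory.KInjective
import Mathlib.Algebra.Category.ModuleCat.Injective

set_option autoImplicit false
universe u
open CategoryTheory CategoryTheory.Limits
attribute [local instance] HasDerivedCategory.standard
open DRing

namespace Groth.Agent.S7036

open CategoryTheory CategoryTheory.Limits CategoryTheory.Pretriangulated DerivedCategory DerivedCategory.TStructure Groth.Agent.PseudoCoh

attribute [local instance] HasDerivedCategory.standard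

lemma finiteInjDim_obj₃ {R : Type u} [CommRing R] (T : Triangle (Dual.D R)) (hT : T ∈ distTriang _)
    (h₁ : DRing.HasFiniteInjDim R T.obj₁) (h₂ : DRing.HasFiniteInjDim R T.obj₂) :
    DRing.HasFiniteInjDim R T.obj₃ := by
  obtain ⟨a, b, E, hE, hEi, ⟨e₁⟩⟩ := h₁
  obtain ⟨c, d, F, hF, hFi, ⟨e₂⟩⟩ := h₂
  haveI : F.IsStrictlyGE c := (F.isStrictlyGE_iff c).2 fun i hi => hF i (Or.inl hi)
  haveI : ∀ i, Injective (F.X i) := fun i => by haveI := hFi i; exact Module.injective_object_of_injective_module R (F.X i)
  haveI := F.isKInjective_of_injective c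
  obtain ⟨g, hg⟩ := (CochainComplex.IsKInjective.Qh_map_bijective ((HomotopyCategory.quotient _ _).obj E) F).surjective
    ((quotientCompQhIso (ModuleCat.{u} R)).hom.app E ≫ (e₁.hom ≫ T.mor₁ ≫ e₂.inv) ≫
      (quotientCompQhIso (ModuleCat.{u} R)).inv.app F)
  obtain ⟨g, rfl⟩ := (HomotopyCategory.quotient _ _).map_surjective g
  have hf : DerivedCategory.Q.map g = e₁.hom ≫ T.mor₁ ≫ e₂.inv := by
    have e := (quotientCompQhIso (ModuleCat.{u} R)).hom.naturality g
    change DerivedCategory.Qh.map ((HomotopyCategory.quotient (ModuleCat.{u} R) (ComplexShape.up ℤ)).map g) ≫ _ = _ at e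
    rw [hg, Category.assoc, Category.assoc, Iso.inv_hom_id_app] at e
    simp only [Category.assoc] at e
    exact ((cancel_epi _).1 e).symm.trans (by erw [Category.comp_id])
  obtain ⟨i, -, -⟩ := exists_iso_of_arrow_iso _ _ (DerivedCategory.mappingCone_triangle_distinguished g) hT
    (Arrow.isoMk e₁ e₂ (show e₁.hom ≫ T.mor₁ = DerivedCategory.Q.map g ≫ e₂.hom by
      rw [hf, Category.assoc, Category.assoc, Iso.inv_hom_id, Category.comp_id]))
  refine ⟨min (a - 1) c, max b d, CochainComplex.mappingCone g, fun i hi =>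
    (CochainComplex.mappingCone.isZero_X_iff g i).2 ⟨hE (i + 1) (by omega), hF i (by omega)⟩, fun i => ?_,
    ⟨Triangle.π₃.mapIso i⟩⟩
  haveI : Injective (E.X (i + 1)) := by haveI := hEi (i + 1); exact Module.injective_object_of_injective_module R _
  haveI : Injective ((CochainComplex.mappingCone g).X i) :=
    Injective.of_iso (HomologicalComplex.homotopyCofiber.XIsoBiprod g i (i + 1) rfl).symm inferInstance
  exact Module.injective_module_of_injective_object R ((CochainComplex.mappingCone g).X i)

/-- Let R be a commutative ring. (1) If K is an object of D(R) whose cohomology vanishes outside a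
bounded range and every cohomology module H^i(K), placed in degree 0, has finite injective
dimension, then K has finite injective dimension. (2) If K is a bounded cochain complex of R-modules
and every term K^i, placed in degree 0, has finite injective dimension, then K has finite injective
dimension. -/
theorem result (R : Type u) [CommRing R] :
    (∀ (K : Dual.D R), (∃ a b : ℤ, ∀ i : ℤ, (i < a ∨ b < i) → Subsingleton (Dual.HD R K i)) →
        (∀ i : ℤ, DRing.HasFiniteInjDim R (Dual.inD R (Dual.HD R K i))) → DRing.HasFiniteInjDim R K) ∧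
      (∀ (K : DRing.Cx R) (a b : ℤ), DRing.VanishesOutside K a b →
        (∀ i : ℤ, DRing.HasFiniteInjDim R (Dual.inD R (K.X i))) → DRing.HasFiniteInjDim R (DRing.toD K)) := by
  have hiso : ∀ {X Y : Dual.D R}, (X ≅ Y) → DRing.HasFiniteInjDim R X → DRing.HasFiniteInjDim R Y :=
    fun e ⟨a, b, E, h, hi, ⟨e'⟩⟩ => ⟨a, b, E, h, hi, ⟨e' ≪≫ e⟩⟩
  have hshift : ∀ (X : Dual.D R) (c : ℤ), DRing.HasFiniteInjDim R X → DRing.HasFiniteInjDim R (X⟦c⟧) :=
    fun X c ⟨a, b, E, h, hi, ⟨e'⟩⟩ => ⟨a - c, b - c, E⟦c⟧, fun i hi => (h (i + c) (by omega)).of_iso (Iso.refl _),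
      fun i => hi (i + c), ⟨(DerivedCategory.Q.commShiftIso c).app E ≪≫ (shiftFunctor (Dual.D R) c).mapIso e'⟩⟩
  have hext : ∀ T ∈ distTriang (Dual.D R), DRing.HasFiniteInjDim R T.obj₁ → DRing.HasFiniteInjDim R T.obj₃ →
      DRing.HasFiniteInjDim R T.obj₂ := fun T hT h₁ h₃ =>
    finiteInjDim_obj₃ T.invRotate (inv_rot_of_distTriang _ hT) (hshift _ _ h₃) h₁
  have hzero : ∀ X : Dual.D R, IsZero X → DRing.HasFiniteInjDim R X := fun X hX =>
    ⟨0, 0, HomologicalComplex.zero, fun i _ => isZero_zero _, fun i => by haveI : Injective ((HomologicalComplex.zero : DRing.Cx R).X i) := (isZero_zero _).injective; exact Module.injective_module_of_injective_object R _,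
      ⟨(DerivedCategory.Q.map_isZero HomologicalComplex.isZero_zero).iso hX⟩⟩
  refine ⟨fun K ⟨a, b, h⟩ hH => devissage_bounded _ hiso hext hzero K a b
    ((DerivedCategory.isGE_iff _ _).2 fun i hi => @ModuleCat.isZero_of_subsingleton _ _ _ (h i (Or.inl hi)))
    ((DerivedCategory.isLE_iff _ _).2 fun i hi => @ModuleCat.isZero_of_subsingleton _ _ _ (h i (Or.inr hi)))
    fun i => hiso (singleDIso i _) (hshift _ _ (hH i)),
    fun K a b hab hH => devissage_terms_bounded _ hiso hext K hzero a b hab fun i => hiso (singleDIso i _) (hshift _ _ (hH i))⟩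

end Groth.Agent.S7036
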