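import Groth.Statements.S7039
import Mathlib.RingTheory.Ideal.Operations

set_option autoImplicit false
universe u
open LocCoh

namespace Groth.Agent.S7039

/-- For a finitely generated ideal I of a commutative ring R and any R-module M, the quotient of M by
its submodule of I-power torsion elements has no nonzero element annihilated by I. -/
theorem result {R : Type u} [CommRing R] (I : Ideal R) (hI : I.FG)
    (M : Type u) [AddCommGroup M] [Module R M] :
    LocCoh.torsionBy I (M ⧸ DRing.torsionSub I M) = ⊥ := by
  refine (Submodule.eq_bot_iff _).2 fun q hq => ?_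
  obtain ⟨m, rfl⟩ := Submodule.Quotient.mk_surjective _ q
  have h : ∀ a ∈ I, a • m ∈ DRing.torsionSub I M := fun a ha => by
    have h1 := (Submodule.mem_torsionBySet_iff _ _).1 hq ⟨a, ha⟩
    rwa [← Submodule.Quotient.mk_eq_zero, Submodule.Quotient.mk_smul]
  rw [Submodule.Quotient.mk_eq_zero]
  obtain ⟨s, hs⟩ := hI
  have hsI : ∀ a ∈ s, a ∈ I := fun a ha => hs ▸ Submodule.subset_span ha
  choose k hk using fun a : {a // a ∈ s} => h a.1 (hsI a.1 a.2)
  refine ⟨s.attach.sup k + 1, fun c hc => ?_⟩
  rw [pow_succ] at hc
  induction hc using Submodule.mul_induction_on' with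
  | add x _ y _ hx hy => rw [add_smul, hx, hy, add_zero]
  | mem_mul_mem b hb a ha =>
    have key : ∀ a' ∈ Submodule.span R (s : Set R), b • a' • m = 0 := by
      intro a' ha'
      induction ha' using Submodule.span_induction with
      | mem x hx => exact hk ⟨x, hx⟩ b (Ideal.pow_le_pow_right (Finset.le_sup (Finset.mem_attach s ⟨x, hx⟩)) hb)
      | zero => rw [zero_smul, smul_zero]
      | add x y _ _ hx hy => rw [add_smul, smul_add, hx, hy, add_zero]
      | smul r x _ hx => rw [smul_eq_mul, mul_smul, smul_comm b r, hx, smul_zero]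
    rw [mul_smul]
    exact key a (by simpa [← hs] using ha)

end Groth.Agent.S7039
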