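import Groth.Statements.S7040
import Mathlib.RingTheory.Ideal.Operations
import Mathlib.Algebra.Homology.ShortComplex.ModuleCat

set_option autoImplicit false
universe u
open CategoryTheory
open LocCoh

namespace Groth.Agent.S7040

open CategoryTheory

/-- For a finitely generated ideal I of a commutative ring R, the property of being an I-power torsion
module (every element killed by a power of I) is a Serre class in the category of R-modules: it
holds for 0 and is closed under subobjects, quotients and extensions. -/
theorem result {R : Type u} [CommRing R] (I : Ideal R) (hI : I.FG) :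
    ObjectProperty.IsSerreClass (C := ModuleCat.{u} R) (fun M => LocCoh.IsPowerTorsion I M) := by
  let P : ObjectProperty (ModuleCat.{u} R) := fun M => LocCoh.IsPowerTorsion I M
  haveI : P.ContainsZero := ⟨⟨ModuleCat.of R PUnit, ModuleCat.isZero_of_subsingleton _, fun m => ⟨0, fun a _ => Subsingleton.elim _ _⟩⟩⟩
  haveI : P.IsClosedUnderSubobjects := ⟨fun {X Y} f hf hY x => by
    obtain ⟨n, hn⟩ := hY (f.hom x)
    refine ⟨n, fun a ha => (ModuleCat.mono_iff_injective f).1 hf ?_⟩
    exact (map_smul f.hom a x).trans ((hn a ha).trans (map_zero f.hom).symm)⟩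
  haveI : P.IsClosedUnderQuotients := ⟨fun {X Y} f hf hX y => by
    obtain ⟨x, rfl⟩ := (ModuleCat.epi_iff_surjective f).1 hf y
    obtain ⟨n, hn⟩ := hX x
    exact ⟨n, fun a ha => (map_smul f.hom a x).symm.trans ((congrArg f.hom (hn a ha)).trans (map_zero f.hom))⟩⟩
  haveI : P.IsClosedUnderExtensions := ⟨fun {S} hS h1 h3 m => by
    have hex := (ShortComplex.ShortExact.moduleCat_exact_iff_function_exact S).1 hS.exact
    obtain ⟨n, hn⟩ := h3 (S.g.hom m)
    have key : ∀ a ∈ I ^ n, ∃ y, S.f.hom y = a • m := fun a ha =>
      (hex (a • m)).1 ((map_smul S.g.hom a m).trans (hn a ha))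
    choose y hy using key
    obtain ⟨s, hs⟩ : (I ^ n).FG := Submodule.FG.pow hI n
    have hsI : ∀ a ∈ s, a ∈ I ^ n := fun a ha => hs ▸ Submodule.subset_span ha
    choose k hk using fun a : {a // a ∈ s} => h1 (y a.1 (hsI a.1 a.2))
    refine ⟨s.attach.sup k + n, fun c hc => ?_⟩
    rw [pow_add] at hc
    induction hc using Submodule.mul_induction_on' with
    | add x _ z _ hx hz => rw [add_smul, hx, hz, add_zero]
    | mem_mul_mem b hb a ha =>
      have h0 : ∀ a' ∈ Submodule.span R (s : Set R), b • a' • m = 0 := by
        intro a' ha'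
        induction ha' using Submodule.span_induction with
        | mem x hx =>
          rw [← hy x (hsI x hx)]
          exact (map_smul S.f.hom b _).symm.trans ((congrArg S.f.hom (hk ⟨x, hx⟩ b
            (Ideal.pow_le_pow_right (Finset.le_sup (Finset.mem_attach s ⟨x, hx⟩)) hb))).trans (map_zero S.f.hom))
        | zero => rw [zero_smul, smul_zero]
        | add x z _ _ hx hz => rw [add_smul, smul_add, hx, hz, add_zero]
        | smul r x _ hx => rw [smul_eq_mul, mul_smul, smul_comm b r, hx, smul_zero]
      rw [mul_smul]
      exact h0 a (by simpa [← hs] using ha)⟩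
  exact {}

end Groth.Agent.S7040
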