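import Groth.Statements.S7042
import Groth.Agent.DerivedComplete.Criterion
import Groth.Agent.DerivedComplete.Modules

set_option autoImplicit false
universe u
attribute [local instance] HasDerivedCategory.standard
open DRing

namespace Groth.Agent.S7042

/-- Let I be a finitely generated ideal of a commutative ring A and let M be an A-module which, placed
in degree 0, is derived complete with respect to I, and in which every element is killed by a power
of I. Then a single power of I kills M. -/
theorem result {A : Type u} [CommRing A]
    (I : Ideal A) (hI : I.FG) (M : Type u) [AddCommGroup M] [Module A M]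
    (hc : DRing.IsDerivedComplete I (Dual.inD A M)) (ht : LocCoh.IsPowerTorsion I M) :
    ∃ n : ℕ, I ^ n • (⊤ : Submodule A M) = ⊥ := by
  rw [Groth.Agent.DerivedComplete.isDerivedComplete_inD_iff] at hc
  obtain ⟨s, rfl⟩ := hI
  have hk : ∀ f ∈ s, ∃ n : ℕ, ∀ m : M, f ^ n • m = 0 := fun f hf =>
    Groth.Agent.DerivedComplete.exists_pow_kill (hc f (Ideal.subset_span hf)) fun m => by
      obtain ⟨n, hn⟩ := ht m
      exact ⟨n, hn _ (Ideal.pow_mem_pow (Ideal.subset_span hf) n)⟩
  choose! k hk using hk
  refine ⟨s.card * (s.sup k) + 1, ?_⟩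
  rw [eq_bot_iff]
  refine (Submodule.smul_mono_left (Groth.Agent.DerivedComplete.pow_mul_card_le s (s.sup k))).trans ?_
  refine Submodule.smul_le.2 fun a ha m _ => ?_
  rw [Submodule.mem_bot]
  induction ha using Submodule.span_induction with
  | mem a ha =>
    obtain ⟨f, hf, rfl⟩ := ha
    show f ^ s.sup k • m = 0
    rw [← Nat.sub_add_cancel (Finset.le_sup hf : k f ≤ s.sup k), pow_add, mul_smul, hk f hf m, smul_zero]
  | zero => simp
  | add a b _ _ ha hb => rw [add_smul, ha, hb, add_zero]
  | smul c a _ ha => rw [smul_eq_mul, mul_smul, ha, smul_zero]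

end Groth.Agent.S7042
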