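import Groth.Statements.S7044
import Groth.Agent.DerivedComplete.Criterion
import Groth.Agent.DerivedComplete.Modules

set_option autoImplicit false
universe u
attribute [local instance] HasDerivedCategory.standard
open DRing

namespace Groth.Agent.S7044

/-- Let A be a commutative ring and I an ideal of A; if A, regarded as an object of D(A) sitting in
degree 0, is I-adically derived complete, then the pair (A, I) is henselian: I lies in the Jacobson
radical and simple roots modulo I of monic polynomials lift to roots in A. -/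
theorem result {A : Type u} [CommRing A] (I : Ideal A)
    (hc : DRing.IsDerivedComplete I (Dual.inD A A)) : HenselianRing A I := by
  rw [Groth.Agent.DerivedComplete.isDerivedComplete_inD_iff] at hc
  have hjac : I ≤ Ideal.jacobson ⊥ := fun x hx => Ideal.mem_jacobson_bot.2 fun y => by
    obtain ⟨m, hm⟩ := (Groth.Agent.DerivedComplete.DCe.bijective_one_sub (hc (-(y * x)) (neg_mem (I.mul_mem_left y hx)))).surjective 1
    refine IsUnit.of_mul_eq_one m ?_
    simp only [LinearMap.lsmul_apply, smul_eq_mul] at hm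
    linear_combination hm
  refine ⟨hjac, fun f hf a₀ h₀ hu => ?_⟩
  classical
  obtain ⟨c, hcu⟩ := hu.exists_right_inv
  obtain ⟨c, rfl⟩ := Ideal.Quotient.mk_surjective c
  rw [← map_mul, ← map_one (Ideal.Quotient.mk I), Ideal.Quotient.mk_eq_mk_iff_sub_mem] at hcu
  let s : Finset A := {f.eval a₀, f.derivative.eval a₀ * c - 1}
  let I₀ : Ideal A := Ideal.span (s : Set A)
  have hI₀ : I₀ ≤ I := Ideal.span_le.2 fun x hx => by
    simp only [s, Finset.coe_insert, Finset.coe_singleton, Set.mem_insert_iff, Set.mem_singleton_iff] at hx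
    rcases hx with rfl | rfl
    · exact h₀
    · exact hcu
  have hdc : ∀ g ∈ s, Groth.Agent.DerivedComplete.DC A g := fun g hg => hc g (hI₀ (Ideal.subset_span hg))
  let ι := algebraMap A (AdicCompletion I₀ A)
  have hof : ∀ x, ι x = AdicCompletion.of I₀ A x := fun x => AdicCompletion.algebraMap_apply I₀ x
  haveI : IsAdicComplete (I₀.map ι) (AdicCompletion I₀ A) := AdicCompletion.isAdicComplete_self I₀ ⟨s, rfl⟩
  obtain ⟨r, hr, hrd⟩ := HenselianRing.is_henselian (I := I₀.map ι) (f.map ι) (hf.map ι) (ι a₀)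
    (by rw [Polynomial.eval_map, Polynomial.eval₂_hom]
        exact Ideal.mem_map_of_mem ι (Ideal.subset_span (by simp [s])))
    (by
      rw [Polynomial.derivative_map, Polynomial.eval_map, Polynomial.eval₂_hom]
      refine IsUnit.of_mul_eq_one (Ideal.Quotient.mk _ (ι c)) ?_
      rw [← map_mul, ← map_mul, ← map_one (Ideal.Quotient.mk (I₀.map ι)), Ideal.Quotient.mk_eq_mk_iff_sub_mem,
        ← map_one ι, ← map_sub]
      exact Ideal.mem_map_of_mem ι (Ideal.subset_span (by simp [s])))
  obtain ⟨a₁, ha₁⟩ := Groth.Agent.DerivedComplete.of_surjective s hdc r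
  have hmem : ∀ x, ι x = 0 → x ∈ ⨅ n : ℕ, I₀ ^ n := fun x hx => Submodule.mem_iInf _ |>.2 fun n => by
    have h := congrArg (fun z : AdicCompletion I₀ A => z.1 n) ((hof x).symm.trans hx)
    simpa [smul_eq_mul, Ideal.mul_top, Submodule.Quotient.mk_eq_zero, Ideal.Quotient.eq_zero_iff_mem] using h
  have hfa : f.eval a₁ ∈ ⨅ n : ℕ, I₀ ^ n := hmem _ (by
    have h := hr.eq_zero
    rwa [← ha₁, ← hof, Polynomial.eval_map, Polynomial.eval₂_hom] at h)
  have hnil : IsNilpotent (f.eval a₁) := ⟨2 ^ s.card, by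
    have h := Ideal.pow_mem_pow hfa (2 ^ s.card)
    rwa [Groth.Agent.DerivedComplete.iInf_pow_pow_eq_bot s.card A s le_rfl hdc, Ideal.mem_bot] at h⟩
  have hd : a₁ - a₀ ∈ I := by
    refine hI₀ ?_
    rw [← ha₁, ← hof, ← map_sub] at hrd
    have hle : I₀.map ι ≤ RingHom.ker (AdicCompletion.evalOneₐ I₀).toRingHom := by
      rw [Ideal.map_le_iff_le_comap]
      intro y hy
      show (AdicCompletion.evalOneₐ I₀) (ι y) = 0
      rw [AlgHom.commutes, Ideal.Quotient.algebraMap_eq]
      exact Ideal.Quotient.eq_zero_iff_mem.2 hy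
    have : (AdicCompletion.evalOneₐ I₀) (ι (a₁ - a₀)) = 0 := hle hrd
    rwa [AlgHom.commutes, Ideal.Quotient.algebraMap_eq, Ideal.Quotient.eq_zero_iff_mem] at this
  have hunit : IsUnit (f.derivative.eval a₁) := by
    haveI : IsLocalHom (Ideal.Quotient.mk I) := isLocalHom_of_le_jacobson_bot I hjac
    refine IsUnit.of_map (Ideal.Quotient.mk I) _ ?_
    rw [Ideal.Quotient.mk_eq_mk_iff_sub_mem _ (f.derivative.eval a₀) |>.2
      (I.mem_of_dvd (Polynomial.sub_dvd_eval_sub a₁ a₀ f.derivative) hd)]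
    exact hu
  obtain ⟨a, ⟨hn, ha⟩, -⟩ := Polynomial.existsUnique_nilpotent_sub_and_aeval_eq_zero (P := f) (x := a₁)
    (by rwa [Polynomial.coe_aeval_eq_eval]) (by rwa [Polynomial.coe_aeval_eq_eval])
  rw [Polynomial.coe_aeval_eq_eval] at ha
  refine ⟨a, ha, ?_⟩
  -- uniqueness modulo `I`
  let π := Ideal.Quotient.mk I
  have e₀ : ∀ x, (f.map π).eval (π x) = π (f.eval x) := fun x => by rw [Polynomial.eval_map, Polynomial.eval₂_hom]
  have h₁ : π (f.eval a₁) = 0 := by
    refine Ideal.Quotient.eq_zero_iff_mem.2 (hI₀ ?_)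
    simpa using (Submodule.mem_iInf _).1 hfa 1
  have e₁ : π a = π a₁ := by
    refine (Polynomial.existsUnique_nilpotent_sub_and_aeval_eq_zero (P := f.map π) (x := π a₁)
      ?_ ?_).unique ⟨?_, ?_⟩ ⟨?_, ?_⟩
    · rw [Polynomial.coe_aeval_eq_eval, e₀, h₁]; exact IsNilpotent.zero
    · rw [Polynomial.derivative_map, Polynomial.coe_aeval_eq_eval, Polynomial.eval_map, Polynomial.eval₂_hom]
      exact hunit.map π
    · rw [← map_sub]; exact hn.map π
    · rw [Polynomial.coe_aeval_eq_eval, e₀, ha, map_zero]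
    · rw [sub_self]; exact IsNilpotent.zero
    · rw [Polynomial.coe_aeval_eq_eval, e₀, h₁]
  have := Ideal.Quotient.mk_eq_mk_iff_sub_mem _ _ |>.1 e₁
  simpa using add_mem this hd

end Groth.Agent.S7044
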