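import Groth.Statements.S7046
import Groth.Agent.DerivedComplete.Criterion
import Groth.Agent.DerivedComplete.Modules

set_option autoImplicit false
universe u
attribute [local instance] HasDerivedCategory.standard
open DRing

namespace Groth.Agent.S7046

/-- A reduced commutative ring A which, placed in degree 0 of D(A), is derived complete with respect to
a finitely generated ideal I is I-adically complete, i.e. separated and complete for the I-adic
topology. -/
theorem result {A : Type u} [CommRing A] [IsReduced A]
    (I : Ideal A) (hI : I.FG) (hc : DRing.IsDerivedComplete I (Dual.inD A A)) :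
    IsAdicComplete I A := by
  rw [Groth.Agent.DerivedComplete.isDerivedComplete_inD_iff] at hc
  obtain ⟨s, rfl⟩ := hI
  have h₁ := Groth.Agent.DerivedComplete.of_surjective s fun f hf => hc f (Ideal.subset_span hf)
  haveI : IsPrecomplete (Ideal.span (s : Set A)) A := AdicCompletion.of_surjective_iff.mp h₁
  haveI : IsHausdorff (Ideal.span (s : Set A)) A := ⟨fun x hx => by
    have hm : x ∈ ⨅ n : ℕ, Ideal.span (s : Set A) ^ n := by
      refine Submodule.mem_iInf _ |>.2 fun n => ?_
      simpa [SModEq.zero, smul_eq_mul, Ideal.mul_top] using hx n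
    have h := Groth.Agent.DerivedComplete.iInf_pow_pow_eq_bot s.card A s le_rfl fun f hf => hc f (Ideal.subset_span hf)
    have h0 : x ^ (2 ^ s.card) ∈ (⊥ : Ideal A) := h ▸ Ideal.pow_mem_pow hm _
    exact IsReduced.eq_zero x ⟨_, Ideal.mem_bot.1 h0⟩⟩
  exact { }

end Groth.Agent.S7046
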