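import Groth.Statements.S7054
import Groth.Agent.DerivedComplete.Criterion

set_option autoImplicit false
universe u
attribute [local instance] HasDerivedCategory.standard
open DRing

namespace Groth.Agent.S7054

/-- For a commutative ring A and an ideal I such that A, placed in degree 0, is derived complete with
respect to I, every object of D(A) isomorphic to a bounded above complex of finite free A-modules is
derived complete with respect to I. -/
theorem result {A : Type u} [CommRing A] (I : Ideal A)
    (hA : DRing.IsDerivedComplete I (Dual.inD A A)) (K : Dual.D A) (hK : DRing.IsPseudoCoherent' A K) :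
    DRing.IsDerivedComplete I K := by
  rw [Groth.Agent.DerivedComplete.isDerivedComplete_inD_iff] at hA
  rw [Groth.Agent.DerivedComplete.isDerivedComplete_iff]
  obtain ⟨E, b, -, hE, ⟨e⟩⟩ := hK
  intro n f hf
  have hfree : ∀ i, Groth.Agent.DerivedComplete.DC (E.X i) f := fun i => by
    haveI := (hE i).1
    haveI := (hE i).2
    exact ((Groth.Agent.DerivedComplete.DC.pi fun _ : Module.Free.ChooseBasisIndex A (E.X i) => hA f hf)).of_equiv
      (Module.Free.chooseBasis A (E.X i)).equivFun.symm
  let S := E.sc n
  let u := LinearMap.codRestrict (LinearMap.ker S.g.hom) S.f.hom S.moduleCat_zero_apply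
  have h₁ : Groth.Agent.DerivedComplete.DC (LinearMap.ker S.g.hom) f := Groth.Agent.DerivedComplete.DC.ker S.g.hom (hfree _) (hfree _)
  refine (Groth.Agent.DerivedComplete.DC.coker u (hfree _) h₁).of_equiv ?_
  exact (S.moduleCatHomologyIso.symm ≪≫
    ((DerivedCategory.homologyFunctorFactors (ModuleCat.{u} A) n).app E).symm ≪≫
    (DerivedCategory.homologyFunctor (ModuleCat.{u} A) n).mapIso e).toLinearEquiv

end Groth.Agent.S7054
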