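import Groth.Statements.S7057
import Groth.Agent.DerivedComplete.Criterion
import Groth.Agent.PseudoCoh.Restrict

set_option autoImplicit false
universe u
attribute [local instance] HasDerivedCategory.standard
open DRing

namespace Groth.Agent.S7057

/-- For a homomorphism of commutative rings A → B, an ideal I of A and an object L of D(B), L is derived
complete with respect to the extended ideal IB if and only if L viewed in D(A) by restriction of
scalars is derived complete with respect to I. -/
theorem result {A B : Type u} [CommRing A] [CommRing B] (φ : A →+* B)
    (I : Ideal A) (L : Dual.D B) :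
    DRing.IsDerivedComplete (I.map φ) L ↔ DRing.IsDerivedComplete I ((DRing.restrictD φ).obj L) := by
  rw [Groth.Agent.DerivedComplete.isDerivedComplete_iff, Groth.Agent.DerivedComplete.isDerivedComplete_iff]
  have key : ∀ (N : ModuleCat.{u} B) (f : A),
      Groth.Agent.DerivedComplete.DC N (φ f) ↔ Groth.Agent.DerivedComplete.DC ((ModuleCat.restrictScalars.{u} φ).obj N) f := fun N f => Iff.rfl
  refine forall_congr' fun n => ?_
  let e := (Groth.Agent.PseudoCoh.restrictHomologyIso φ L n).toLinearEquiv
  constructor
  · intro h f hf
    exact ((key _ f).1 (h _ (Ideal.mem_map_of_mem φ hf))).of_equiv e.symm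
  · intro h
    rw [Ideal.map, Groth.Agent.DerivedComplete.dci_span_iff]
    rintro _ ⟨f, hf, rfl⟩
    exact (key _ f).2 ((h f hf).of_equiv e)

end Groth.Agent.S7057
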