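import Groth.Statements.S7058
import Groth.Agent.DerivedComplete.Vanishing

set_option autoImplicit false
universe u
attribute [local instance] HasDerivedCategory.standard
open CategoryTheory
open DRing

namespace Groth.Agent.S7058

/-- Let A be a commutative ring, I a finitely generated ideal, and assume the derived completion functor
(left adjoint to the inclusion of derived complete objects of D(A)) exists. If K is a cochain
complex of A-modules and some f in I acts bijectively on every term of K, then the derived
completion of K is zero. -/
theorem result {A : Type u} [CommRing A] (I : Ideal A) (hI : I.FG)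
    [DRing.HasDerivedCompletion I] (K : DRing.Cx A) (f : A) (hf : f ∈ I)
    (hK : ∀ i : ℤ, Function.Bijective (fun x : K.X i => f • x)) :
    Limits.IsZero ((DRing.derivedCompletion I).obj (DRing.toD K)).obj := by
  let C := (DRing.derivedCompletion I).obj (DRing.toD K)
  have h0 : ∀ φ : DRing.toD K ⟶ C.obj, φ = 0 :=
    Groth.Agent.DerivedComplete.eq_zero_of_smul_bijective K hK
      (fun n => (Groth.Agent.DerivedComplete.isDerivedComplete_iff I C.obj).1 C.property n f hf)
  have h : 𝟙 C = 0 :=
    ((DRing.derivedCompletionAdj I).homEquiv _ C).injective ((h0 _).trans (h0 _).symm)
  exact (Limits.IsZero.iff_id_eq_zero _).2 (congrArg InducedCategory.Hom.hom h)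

end Groth.Agent.S7058
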