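import Groth.Statements.S7065
import Mathlib

set_option autoImplicit false
set_option backward.isDefEq.respectTransparency false
universe u
open EtGlue

namespace Groth.Agent.S7065

/-- Let R → R' be a homomorphism of commutative rings and f an element of R such that the induced map
R/fR → R'/fR' is bijective. Then Spec(R') ⊔ Spec(R_f) → Spec(R) is surjective: every prime of R is
the contraction of a prime of R' or of a prime of R_f. -/
theorem result {R R' : Type u} [CommRing R] [CommRing R']
    [Algebra R R'] (f : R)
    (hq : Function.Bijective
      (Ideal.quotientMap (Ideal.map (algebraMap R R') (Ideal.span {f})) (algebraMap R R') Ideal.le_comap_map))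
    (p : PrimeSpectrum R) :
    (∃ q : PrimeSpectrum R', PrimeSpectrum.comap (algebraMap R R') q = p) ∨
      ∃ q : PrimeSpectrum (Localization.Away f), PrimeSpectrum.comap (algebraMap R (Localization.Away f)) q = p := by
  classical
  by_cases hf : f ∈ p.asIdeal
  · left
    set e := RingEquiv.ofBijective _ hq with he
    have hle : Ideal.span {f} ≤ p.asIdeal := (Ideal.span_singleton_le_iff_mem _).2 hf
    let P : Ideal (R ⧸ Ideal.span {f}) := Ideal.map (Ideal.Quotient.mk _) p.asIdeal
    haveI hP : P.IsPrime := Ideal.map_isPrime_of_surjective Ideal.Quotient.mk_surjective (by rwa [Ideal.mk_ker])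
    refine ⟨⟨(P.comap e.symm.toRingHom).comap (Ideal.Quotient.mk _), inferInstance⟩, ?_⟩
    apply PrimeSpectrum.ext
    ext r
    have hr : e.symm (Ideal.Quotient.mk (Ideal.map (algebraMap R R') (Ideal.span {f})) (algebraMap R R' r))
        = Ideal.Quotient.mk _ r := by
      rw [RingEquiv.symm_apply_eq]
      simp [he]
    rw [PrimeSpectrum.comap_asIdeal, Ideal.mem_comap, Ideal.mem_comap, Ideal.mem_comap, RingEquiv.toRingHom_eq_coe,
      RingHom.coe_coe, hr]
    constructor
    · intro h
      have := Ideal.mem_comap.2 h
      rwa [Ideal.comap_map_of_surjective _ Ideal.Quotient.mk_surjective, ← RingHom.ker_eq_comap_bot,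
        Ideal.mk_ker, sup_eq_left.2 hle] at this
    · exact Ideal.mem_map_of_mem _
  · right
    have h : p ∈ Set.range (PrimeSpectrum.comap (algebraMap R (Localization.Away f))) := by
      rw [PrimeSpectrum.localization_away_comap_range (Localization.Away f) f]
      exact hf
    exact h

end Groth.Agent.S7065
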