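import Groth.Statements.S7077
import Groth.Agent.PseudoCoh.HomVanishing

set_option autoImplicit false
universe u
attribute [local instance] HasDerivedCategory.standard
open CategoryTheory
open DRing

namespace Groth.Agent.S7077

open CategoryTheory CategoryTheory.Limits CategoryTheory.Pretriangulated DerivedCategory DerivedCategory.TStructure Groth.Agent.PseudoCoh
open scoped ZeroObject

/-- (1)⇔(2): let R be a commutative ring and K an object of D(R) whose cohomology modules vanish outside
degrees -1 and 0. Then H^{-1}(K) vanishes and H^0(K) is a projective R-module if and only if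
Ext^1_R(K, M) = Hom_{D(R)}(K, M[1]) vanishes for every R-module M. -/
theorem result {R : Type u} [CommRing R] (K : Dual.D R)
    (hK : ∀ i : ℤ, i ≠ -1 → i ≠ 0 → Subsingleton (Dual.HD R K i)) :
    (Subsingleton (Dual.HD R K (-1)) ∧ Module.Projective R (Dual.HD R K 0)) ↔
      ∀ (M : Type u) [AddCommGroup M] [Module R M], Subsingleton (K ⟶ (Dual.inD R M)⟦(1 : ℤ)⟧) := by
  have hle : t.IsLE K 0 := (DerivedCategory.isLE_iff K 0).2 fun i hi =>
    @ModuleCat.isZero_of_subsingleton _ _ _ (hK i (by omega) (by omega))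
  constructor
  · rintro ⟨h1, h0⟩ M _ _
    haveI : K.IsLE 0 := hle
    haveI : K.IsGE 0 := (DerivedCategory.isGE_iff K 0).2 fun i hi => by
      rcases eq_or_ne i (-1) with rfl | hi'
      · exact @ModuleCat.isZero_of_subsingleton _ _ _ h1
      · exact @ModuleCat.isZero_of_subsingleton _ _ _ (hK i hi' (by omega))
    obtain ⟨Y, ⟨e⟩⟩ := DerivedCategory.exists_iso_singleFunctor_obj_of_isGE_of_isLE K 0
    let E : DRing.Cx R := (HomologicalComplex.single (ModuleCat.{u} R) (ComplexShape.up ℤ) 0).obj Y
    haveI : Projective Y := by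
      haveI := h0
      haveI : Module.Projective R Y := Module.Projective.of_equiv
        ((DerivedCategory.homologyFunctor (ModuleCat.{u} R) 0).mapIso e ≪≫
          (DerivedCategory.singleFunctorCompHomologyFunctorIso (ModuleCat.{u} R) 0).app Y).toLinearEquiv
      exact (IsProjective.iff_projective Y).1 inferInstance
    haveI : CochainComplex.IsKProjective E := isKProjective_of_le (b := 0)
      (fun i hi => HomologicalComplex.isZero_single_obj_X _ _ _ _ hi.ne') fun i => by
        rcases eq_or_ne i 0 with rfl | hi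
        · exact Projective.of_iso (HomologicalComplex.singleObjXSelf (ComplexShape.up ℤ) (0 : ℤ) Y).symm inferInstance
        · exact (HomologicalComplex.isZero_single_obj_X (ComplexShape.up ℤ) (0 : ℤ) Y i hi).projective
    let eE : DRing.toD E ≅ K := ((DerivedCategory.singleFunctorIsoCompQ (ModuleCat.{u} R) 0).app Y).symm ≪≫ e.symm
    refine ⟨fun x y => ?_⟩
    obtain ⟨f, hf⟩ := exists_Q_map (eE.hom ≫ x ≫ (toDSingleIso (-1) 1 (by omega) (ModuleCat.of R M)).inv)
    obtain ⟨g, hg⟩ := exists_Q_map (eE.hom ≫ y ≫ (toDSingleIso (-1) 1 (by omega) (ModuleCat.of R M)).inv)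
    have hfg : f = g := HomologicalComplex.hom_ext _ _ fun i => by
      rcases eq_or_ne i 0 with rfl | hi
      · exact (HomologicalComplex.isZero_single_obj_X (ComplexShape.up ℤ) (-1 : ℤ) (ModuleCat.of R M) 0 (by omega)).eq_of_tgt _ _
      · exact (HomologicalComplex.isZero_single_obj_X (ComplexShape.up ℤ) (0 : ℤ) Y i hi).eq_of_src _ _
    rw [hfg, hg, cancel_epi, cancel_mono] at hf
    exact hf.symm
  · intro h
    obtain ⟨E, hEb, hEp, hEK, ⟨e⟩⟩ := exists_projective_le K 0 hle
    obtain ⟨-, hQ, hex⟩ := projective_range hEK hEp (show (-1 : ℤ) + 1 = 0 by omega) fun M f =>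
      eq_zero_of_subsingleton e (show (-1 : ℤ) + 1 = 0 by omega) (h M) f
    have hz : E.ExactAt (-1) := by
      rw [E.exactAt_iff' (-2) (-1) 0 (by simp) (by simp), ShortComplex.moduleCat_exact_iff_range_eq_ker]
      exact hex (-2) (by omega)
    let eH : ∀ i, (DerivedCategory.homologyFunctor (ModuleCat.{u} R) i).obj K ≅ E.homology i := fun i =>
      (DerivedCategory.homologyFunctor (ModuleCat.{u} R) i).mapIso e.symm ≪≫
        (DerivedCategory.homologyFunctorFactors (ModuleCat.{u} R) i).app E
    refine ⟨ModuleCat.subsingleton_of_isZero (hz.isZero_homology.of_iso (eH (-1))), ?_⟩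
    haveI := E.isIso_homologyι 0 1 (by simp) ((hEb 1 (by omega)).eq_of_tgt _ _)
    haveI := hQ
    exact Module.Projective.of_equiv (eH 0 ≪≫ asIso (E.homologyι 0) ≪≫ opcyclesEquiv E (-1) 0 (by omega)).toLinearEquiv.symm

end Groth.Agent.S7077
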