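import Groth.Statements.S7079
import Groth.Agent.PseudoCoh.TwoTerm

set_option autoImplicit false
universe u
attribute [local instance] HasDerivedCategory.standard
open CategoryTheory
open DRing

namespace Groth.Agent.S7079

open CategoryTheory CategoryTheory.Limits Groth.Agent.PseudoCoh

/-- For a Noetherian commutative ring R and an object K of D(R) whose cohomology modules vanish outside
degrees -1 and 0 and are finite modules in those two degrees, K is represented by a two-term complex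
K^{-1} → K^0 with K^0 finite free and K^{-1} finite. -/
theorem result {R : Type u} [CommRing R] [IsNoetherianRing R] (K : Dual.D R)
    (hK : ∀ i : ℤ, i ≠ -1 → i ≠ 0 → Subsingleton (Dual.HD R K i))
    (h1 : Module.Finite R (Dual.HD R K (-1))) (h0 : Module.Finite R (Dual.HD R K 0)) :
    ∃ E : DRing.Cx R, DRing.VanishesOutside E (-1) 0 ∧ Module.Free R (E.X 0) ∧ Module.Finite R (E.X 0) ∧
      Module.Finite R (E.X (-1)) ∧ Nonempty (DRing.toD E ≅ K) := by
  obtain ⟨L, hL, ⟨e⟩⟩ := exists_twoTerm_rep K hK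
  have eH : ∀ i, Dual.HD R K i ≃ₗ[R] L.homology i := fun i =>
    ((DerivedCategory.homologyFunctor (ModuleCat.{u} R) i).mapIso e.symm ≪≫
      (DerivedCategory.homologyFunctorFactors (ModuleCat.{u} R) i).app L).toLinearEquiv
  haveI := L.isIso_homologyι 0 1 (by simp) ((hL 1 (Or.inr (by omega))).eq_of_tgt _ _)
  haveI hQ : Module.Finite R (L.X 0 ⧸ LinearMap.range (L.d (-1) 0).hom) :=
    haveI := h0
    Module.Finite.equiv ((eH 0).trans (asIso (L.homologyι 0) ≪≫ opcyclesEquiv L (-1) 0 (by omega)).toLinearEquiv)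
  haveI := L.isIso_homologyπ (-2) (-1) (by simp) ((hL (-2) (Or.inl (by omega))).eq_of_src _ _)
  haveI hZ : Module.Finite R (LinearMap.ker (L.d (-1) (-1 + 1)).hom) :=
    haveI := h1
    Module.Finite.equiv ((eH (-1)).trans ((asIso (L.homologyπ (-1))).symm ≪≫ cyclesEquiv L (-1)).toLinearEquiv)
  obtain ⟨r, q, hq⟩ := Module.Finite.exists_fin' R (L.X 0 ⧸ LinearMap.range (L.d (-1) 0).hom)
  obtain ⟨g, hg⟩ := Module.projective_lifting_property (LinearMap.range (L.d (-1) 0).hom).mkQ q (Submodule.mkQ_surjective _)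
  obtain ⟨E, hE, ⟨e₀⟩, ⟨e₁⟩, ⟨e'⟩⟩ := exists_twoTerm L hL (Fin r → R) g fun w => by
    obtain ⟨z, hz⟩ := hq (Submodule.Quotient.mk w)
    obtain ⟨y, hy⟩ := (Submodule.Quotient.eq _).1 ((LinearMap.congr_fun hg z).trans hz)
    exact ⟨z, y, eq_add_of_sub_eq' hy.symm⟩
  refine ⟨E, hE, Module.Free.of_equiv e₀.toLinearEquiv.symm, Module.Finite.equiv e₀.toLinearEquiv.symm, ?_, ⟨e' ≪≫ e⟩⟩
  let X := LinearMap.ker (g ∘ₗ LinearMap.fst R (Fin r → R) (L.X (-1)) - (L.d (-1) 0).hom ∘ₗ LinearMap.snd R (Fin r → R) (L.X (-1)))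
  haveI : Module.Finite R X := by
    refine Module.Finite.iff_fg.2 (Submodule.fg_of_fg_map_of_fg_inf_ker (LinearMap.fst R (Fin r → R) (L.X (-1))) (IsNoetherian.noetherian _) ?_)
    have hle : X ⊓ LinearMap.ker (LinearMap.fst R (Fin r → R) (L.X (-1))) =
        (LinearMap.ker (L.d (-1) (-1 + 1)).hom).map (LinearMap.inr R (Fin r → R) (L.X (-1))) := by
      ext ⟨a, b⟩
      constructor
      · rintro ⟨h1, (h2 : a = 0)⟩
        subst h2
        have h1' : g 0 - (L.d (-1) 0).hom b = 0 := h1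
        rw [map_zero, zero_sub, neg_eq_zero] at h1'
        exact ⟨b, h1', rfl⟩
      · rintro ⟨c, hc, he⟩
        cases he
        refine ⟨?_, rfl⟩
        change g 0 - (L.d (-1) 0).hom c = 0
        rw [map_zero, zero_sub, neg_eq_zero]
        exact hc
    rw [hle]
    exact (Module.Finite.iff_fg.1 hZ).map _
  exact Module.Finite.equiv e₁.toLinearEquiv.symm

end Groth.Agent.S7079
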