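import Groth.Statements.S7080
import Groth.Agent.PseudoCoh.TorAmp

set_option autoImplicit false
universe u
attribute [local instance] HasDerivedCategory.standard
open CategoryTheory
open DRing

namespace Groth.Agent.S7080

open CategoryTheory CategoryTheory.Limits CategoryTheory.Pretriangulated DerivedCategory DerivedCategory.TStructure Groth.Agent.PseudoCoh

attribute [local instance] HasDerivedCategory.standard

/-- Let R be a commutative ring and α : K → K' a morphism in D(R) between objects whose cohomology
vanishes outside degrees -1 and 0, such that H^0(α) is an isomorphism and H^{-1}(α) is surjective.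
If multiplication by an element f of R is the zero endomorphism of K in D(R), then it is also the
zero endomorphism of K'. -/
theorem result {R : Type u} [CommRing R] {K K' : Dual.D R} (α : K ⟶ K')
    (hK : ∀ i : ℤ, i ≠ -1 → i ≠ 0 → Subsingleton (Dual.HD R K i))
    (hK' : ∀ i : ℤ, i ≠ -1 → i ≠ 0 → Subsingleton (Dual.HD R K' i))
    (h0 : IsIso ((DerivedCategory.homologyFunctor (ModuleCat.{u} R) 0).map α))
    (h1 : Epi ((DerivedCategory.homologyFunctor (ModuleCat.{u} R) (-1)).map α))
    (f : R) (hf : f • (𝟙 K) = 0) : f • (𝟙 K') = 0 := by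
  obtain ⟨C, g, δ, hT⟩ := distinguished_cocone_triangle α
  let Hm := fun i => DerivedCategory.homologyFunctor (ModuleCat.{u} R) i
  have hz : ∀ (L : Dual.D R), (∀ i : ℤ, i ≠ -1 → i ≠ 0 → Subsingleton (Dual.HD R L i)) → ∀ i, 0 < i → IsZero ((Hm i).obj L) :=
    fun L h i hi => @ModuleCat.isZero_of_subsingleton _ _ _ (h i (by omega) (by omega))
  have hC : t.IsLE C (-2) := (isLE_obj₃_iff (Triangle.mk α g δ) hT (-1) (-2) rfl).2 ⟨fun i hi => ?_, h1⟩
  · have h' : α ≫ (f • 𝟙 K') = 0 := by
      rw [Linear.comp_smul, Category.comp_id, ← Category.id_comp α, ← Linear.smul_comp, hf, zero_comp]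
    obtain ⟨u, hu⟩ := Triangle.yoneda_exact₂ (Triangle.mk α g δ) hT (f • 𝟙 K') h'
    haveI := hC
    have hGE : t.IsGE K' (-1) := (isGE_iff K' (-1)).2 fun i hi =>
      @ModuleCat.isZero_of_subsingleton _ _ _ (hK' i (by omega) (by omega))
    rw [t.zero_of_isLE_of_isGE u (-2) (-1) (by omega) hC hGE] at hu
    exact hu.trans comp_zero
  · rcases lt_trichotomy i 0 with h | rfl | h
    · omega
    · exact h0
    · exact isIso_of_source_target_iso_zero _ (hz K hK i h).isoZero (hz K' hK' i h).isoZero

end Groth.Agent.S7080
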