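import Groth.Statements.S7081
import Groth.Agent.PseudoCoh.TorAmp
import Mathlib.CategoryTheory.Triangulated.TStructure.TruncLTGE

set_option autoImplicit false
universe u
attribute [local instance] HasDerivedCategory.standard
open CategoryTheory
open DRing

namespace Groth.Agent.S7081

open CategoryTheory CategoryTheory.Limits CategoryTheory.Pretriangulated DerivedCategory DerivedCategory.TStructure Groth.Agent.PseudoCoh

attribute [local instance] HasDerivedCategory.standard

lemma eq_zero_of_homology {R : Type u} [CommRing R] {X Y : Dual.D R} {n : ℤ} (hX : t.IsLE X n) (hY : t.IsGE Y n)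
    (f : X ⟶ Y) (hf : (DerivedCategory.homologyFunctor (ModuleCat.{u} R) n).map f = 0) : f = 0 := by
  obtain ⟨P, hPb, -, hPK, ⟨eP⟩⟩ := exists_projective_le X n hX
  haveI : Y.IsGE n := hY
  obtain ⟨F, hF, ⟨eF⟩⟩ := Y.exists_iso_Q_obj_of_isGE n
  haveI := hPK
  obtain ⟨g, hg⟩ := exists_Q_map (eP.hom ≫ f ≫ eF.hom)
  suffices g = 0 by
    rw [this, Functor.map_zero] at hg
    rw [← cancel_epi eP.hom, ← cancel_mono eF.hom, Category.assoc, ← hg]
    simp
  refine HomologicalComplex.hom_ext _ _ fun i => ?_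
  rcases lt_trichotomy i n with hi | rfl | hi
  · exact (F.isZero_of_isStrictlyGE n i hi).eq_of_tgt _ _
  · have h1 : HomologicalComplex.homologyMap g i = 0 := by
      have h2 := (DerivedCategory.homologyFunctorFactors (ModuleCat.{u} R) i).hom.naturality g
      change (DerivedCategory.homologyFunctor _ i).map (DerivedCategory.Q.map g) ≫ _ = _ at h2
      rw [hg, Functor.map_comp, Functor.map_comp, hf] at h2
      simp only [zero_comp, comp_zero] at h2
      haveI := Iso.isIso_hom (((DerivedCategory.homologyFunctorFactors (ModuleCat.{u} R) i)).app P)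
      exact (cancel_epi ((DerivedCategory.homologyFunctorFactors (ModuleCat.{u} R) i).app P).hom).1 (h2.symm.trans comp_zero.symm)
    haveI hi1 : IsIso (F.homologyπ i) :=
      F.isIso_homologyπ (i - 1) i (by simp) ((F.isZero_of_isStrictlyGE i (i - 1) (by omega)).eq_of_src _ _)
    haveI : IsIso (P.iCycles i) := P.isIso_iCycles i (i + 1) (by simp) ((hPb (i + 1) (by omega)).eq_of_tgt _ _)
    have h3 := HomologicalComplex.homologyπ_naturality g i
    rw [h1, comp_zero] at h3
    have h4 : HomologicalComplex.cyclesMap g i = 0 := (cancel_mono (F.homologyπ i)).1 (h3.symm.trans zero_comp.symm)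
    have h5 := HomologicalComplex.cyclesMap_i g i
    rw [h4, zero_comp] at h5
    exact (cancel_epi (P.iCycles i)).1 (h5.symm.trans comp_zero.symm)
  · exact (hPb i hi).eq_of_src _ _

/-- Let R be a commutative ring and φ : K₁ → K₂, ψ : K₂ → K₃ morphisms in D(R) between objects whose
cohomology vanishes outside degrees -1 and 0. If φ induces the zero map on H^0 and ψ induces the
zero map on H^{-1}, then the composite K₁ → K₃ is zero. -/
theorem result {R : Type u} [CommRing R] {K₁ K₂ K₃ : Dual.D R}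
    (φ : K₁ ⟶ K₂) (ψ : K₂ ⟶ K₃)
    (h₁ : ∀ i : ℤ, i ≠ -1 → i ≠ 0 → Subsingleton (Dual.HD R K₁ i))
    (h₂ : ∀ i : ℤ, i ≠ -1 → i ≠ 0 → Subsingleton (Dual.HD R K₂ i))
    (h₃ : ∀ i : ℤ, i ≠ -1 → i ≠ 0 → Subsingleton (Dual.HD R K₃ i))
    (hφ : (DerivedCategory.homologyFunctor (ModuleCat.{u} R) 0).map φ = 0)
    (hψ : (DerivedCategory.homologyFunctor (ModuleCat.{u} R) (-1)).map ψ = 0) :
    φ ≫ ψ = 0 := by
  have hle : ∀ {K : Dual.D R}, (∀ i : ℤ, i ≠ -1 → i ≠ 0 → Subsingleton (Dual.HD R K i)) → t.IsLE K 0 :=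
    fun h => (DerivedCategory.isLE_iff _ _).2 fun i hi =>
      @ModuleCat.isZero_of_subsingleton _ _ _ (h i (by omega) (by omega))
  have hge : ∀ {K : Dual.D R}, (∀ i : ℤ, i ≠ -1 → i ≠ 0 → Subsingleton (Dual.HD R K i)) → t.IsGE K (-1) :=
    fun h => (DerivedCategory.isGE_iff _ _).2 fun i hi =>
      @ModuleCat.isZero_of_subsingleton _ _ _ (h i (by omega) (by omega))
  let T := (t.triangleLTGE 0).obj K₂
  have hT : T ∈ distTriang (Dual.D R) := t.triangleLTGE_distinguished 0 K₂
  obtain ⟨α, hα⟩ := Triangle.coyoneda_exact₂ T hT φ (eq_zero_of_homology (n := 0) (hle h₁)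
    (inferInstanceAs (t.IsGE ((t.triangleLTGE 0).obj K₂).obj₃ 0)) (φ ≫ T.mor₂)
    (((DerivedCategory.homologyFunctor (ModuleCat.{u} R) 0).map_comp φ T.mor₂).trans ((congrArg (· ≫ (DerivedCategory.homologyFunctor (ModuleCat.{u} R) 0).map T.mor₂) hφ).trans zero_comp)))
  have h0 : T.mor₁ ≫ ψ = 0 := eq_zero_of_homology (n := -1)
    (inferInstanceAs (t.IsLE ((t.triangleLTGE 0).obj K₂).obj₁ (0 - 1))) (hge h₃) _
    (((DerivedCategory.homologyFunctor (ModuleCat.{u} R) (-1)).map_comp T.mor₁ ψ).trans ((congrArg ((DerivedCategory.homologyFunctor (ModuleCat.{u} R) (-1)).map T.mor₁ ≫ ·) hψ).trans comp_zero))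
  rw [hα]
  exact (Category.assoc _ _ _).trans ((congrArg (α ≫ ·) h0).trans comp_zero)

end Groth.Agent.S7081
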