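import Groth.Statements.S7083
import Groth.Agent.PseudoCoh.TorAmp

set_option autoImplicit false
universe u
attribute [local instance] HasDerivedCategory.standard
open CategoryTheory
open DRing

namespace Groth.Agent.S7083

open CategoryTheory CategoryTheory.Limits CategoryTheory.Pretriangulated DerivedCategory DerivedCategory.TStructure Groth.Agent.PseudoCoh

attribute [local instance] HasDerivedCategory.standard

/-- Let R be a commutative ring, I an ideal, and α : K → K' a morphism in D(R) between objects whose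
cohomology vanishes outside degrees -1 and 0, such that H^0(α) is an isomorphism and H^{-1}(α) is
surjective. If I annihilates Ext^1_R(K, N) = Hom_{D(R)}(K, N[1]) for every R-module N, then I
annihilates Ext^1_R(K', N) for every R-module N. -/
theorem result {R : Type u} [CommRing R] (I : Ideal R) {K K' : Dual.D R}
    (α : K ⟶ K')
    (hK : ∀ i : ℤ, i ≠ -1 → i ≠ 0 → Subsingleton (Dual.HD R K i))
    (hK' : ∀ i : ℤ, i ≠ -1 → i ≠ 0 → Subsingleton (Dual.HD R K' i))
    (h0 : IsIso ((DerivedCategory.homologyFunctor (ModuleCat.{u} R) 0).map α))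
    (h1 : Epi ((DerivedCategory.homologyFunctor (ModuleCat.{u} R) (-1)).map α))
    (hI : ∀ (N : Type u) [AddCommGroup N] [Module R N] (a : R), a ∈ I →
        ∀ ξ : K ⟶ (Dual.inD R N)⟦(1 : ℤ)⟧, a • ξ = 0)
    (N : Type u) [AddCommGroup N] [Module R N] (a : R) (ha : a ∈ I) (ξ : K' ⟶ (Dual.inD R N)⟦(1 : ℤ)⟧) :
    a • ξ = 0 := by
  obtain ⟨C, g, δ, hT⟩ := distinguished_cocone_triangle α
  let Hm := fun i => DerivedCategory.homologyFunctor (ModuleCat.{u} R) i
  have hz : ∀ (L : Dual.D R), (∀ i : ℤ, i ≠ -1 → i ≠ 0 → Subsingleton (Dual.HD R L i)) → ∀ i, 0 < i → IsZero ((Hm i).obj L) :=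
    fun L h i hi => @ModuleCat.isZero_of_subsingleton _ _ _ (h i (by omega) (by omega))
  have hC : t.IsLE C (-2) := (isLE_obj₃_iff (Triangle.mk α g δ) hT (-1) (-2) rfl).2 ⟨fun i hi => ?_, h1⟩
  · have h' : α ≫ (a • ξ) = 0 := (Linear.comp_smul _ _ _ _ _ _).trans (hI N a ha (α ≫ ξ))
    obtain ⟨f, hf⟩ := Triangle.yoneda_exact₂ (Triangle.mk α g δ) hT (a • ξ) h'
    haveI := hC
    haveI : t.IsGE ((Dual.inD R N)⟦(1 : ℤ)⟧) (-1) :=
      haveI : t.IsGE (Dual.inD R N) 0 :=
        (inferInstance : t.IsGE ((DerivedCategory.singleFunctor (ModuleCat.{u} R) 0).obj (ModuleCat.of R N)) 0)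
      t.isGE_shift (Dual.inD R N) 0 1 (-1) (by omega)
    rw [t.zero_of_isLE_of_isGE f (-2) (-1) (by omega) hC inferInstance] at hf
    exact hf.trans comp_zero
  · rcases lt_trichotomy i 0 with h | rfl | h
    · omega
    · exact h0
    · exact isIso_of_source_target_iso_zero _ (hz K hK i h).isoZero (hz K' hK' i h).isoZero

end Groth.Agent.S7083
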