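import Groth.Statements.S7085
import Mathlib.Algebra.Module.LocalizedModule.Basic
import Mathlib.RingTheory.Noetherian.Basic

set_option autoImplicit false
universe u
open LocCoh

namespace Groth.Agent.S7085

/-- Let R be a commutative ring, I an ideal generated by finitely many elements f_1, …, f_t, and M an
R-module. Then: M has no nonzero element killed by I if and only if it has no nonzero element killed
by I^n for every n ≥ 1; and M has no nonzero element killed by I if and only if an element of M
vanishing in every localization M_{f_i} is zero. -/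
theorem result {R : Type u} [CommRing R] {t : ℕ} (f : Fin t → R)
    (I : Ideal R) (hI : Ideal.span (Set.range f) = I) (M : Type u) [AddCommGroup M] [Module R M] :
    (LocCoh.torsionBy I M = ⊥ ↔ ∀ n : ℕ, 1 ≤ n → LocCoh.torsionBy (I ^ n) M = ⊥) ∧
    (LocCoh.torsionBy I M = ⊥ ↔
      ∀ m : M, (∀ i : Fin t, LocalizedModule.mkLinearMap (Submonoid.powers (f i)) M m = 0) → m = 0) := by
  classical
  subst hI
  have key : LocCoh.torsionBy (Ideal.span (Set.range f)) M = ⊥ → ∀ n : ℕ, ∀ m : M,
      (∀ a ∈ Ideal.span (Set.range f) ^ n, a • m = 0) → m = 0 := by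
    intro h n
    induction n with
    | zero => exact fun m hm => by simpa using hm 1 (by simp)
    | succ n ih =>
      refine fun m hm => ih m fun a ha => (Submodule.eq_bot_iff _).1 h (a • m) ((Submodule.mem_torsionBySet_iff _ _).2 fun ⟨b, hb⟩ => ?_)
      show b • a • m = 0
      rw [← mul_smul]
      exact hm _ (by rw [pow_succ, mul_comm b a]; exact Ideal.mul_mem_mul ha hb)
  refine ⟨⟨fun h n _ => (Submodule.eq_bot_iff _).2 fun m hm => key h n m fun a ha => (Submodule.mem_torsionBySet_iff _ _).1 hm ⟨a, ha⟩,
      fun h => by simpa using h 1 le_rfl⟩, ⟨fun h m hm => ?_, fun h => (Submodule.eq_bot_iff _).2 fun m hm => h m fun i => ?_⟩⟩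
  · have : ∀ i, ∃ k : ℕ, f i ^ k • m = 0 := fun i => by
      obtain ⟨⟨_, k, rfl⟩, hk⟩ := (IsLocalizedModule.eq_zero_iff (Submonoid.powers (f i)) (LocalizedModule.mkLinearMap (Submonoid.powers (f i)) M)).1 (hm i)
      exact ⟨k, hk⟩
    choose k hk using this
    have hle : Ideal.span (Set.range f) ≤ Ideal.radical (LinearMap.ker (LinearMap.toSpanSingleton R M m)) :=
      Ideal.span_le.2 (Set.range_subset_iff.2 fun i => ⟨k i, by simpa using hk i⟩)
    obtain ⟨n, hn⟩ := Ideal.exists_pow_le_of_le_radical_of_fg hle ⟨Finset.univ.image f, by simp [Ideal.span]⟩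
    exact key h n m fun a ha => by simpa using hn ha
  · refine (IsLocalizedModule.eq_zero_iff (Submonoid.powers (f i)) _).2 ⟨⟨f i, Submonoid.mem_powers _⟩, ?_⟩
    exact (Submodule.mem_torsionBySet_iff _ _).1 hm ⟨f i, Ideal.subset_span ⟨i, rfl⟩⟩

end Groth.Agent.S7085
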