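import Groth.Statements.S7090
import Groth.Agent.EtAlg.Glue.Basic
import Mathlib.RingTheory.Flat.Basic
import Mathlib.RingTheory.Ideal.Maximal
import Mathlib.LinearAlgebra.TensorProduct.Prod
import Mathlib.LinearAlgebra.Pi
import Mathlib.LinearAlgebra.TensorProduct.Pi
import Mathlib.RingTheory.Finiteness.Ideal

set_option autoImplicit false
universe u
open TensorProduct
open EtAlg

namespace Groth.Agent.S7090

/-- Let R → S be a flat homomorphism of commutative rings and I = (f_1, …, f_t) a finitely generated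
ideal such that R/I → S/IS is bijective. Then for every R-module M the glueing complex 0 → M → (S
⊗_R M) × ∏ M_{f_i} → ∏ (S ⊗_R M)_{f_i} × ∏ M_{f_i f_j} is exact. Concretely: an element of M with
zero image in S ⊗_R M and in every M_{f_i} is zero; and given x in S ⊗_R M and elements m_1, …, m_t
of M and N ≥ 0 such that x and m_i / f_i^N have the same image in (S ⊗_R M)_{f_i} for each i, and
m_i / f_i^N, m_j / f_j^N have the same image in M_{f_i f_j} for all i, j, there is m in M with 1 ⊗ m
= x and m / 1 = m_i / f_i^N in M_{f_i} for every i. -/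
theorem result {R S : Type u} [CommRing R] [CommRing S] [Algebra R S] [Module.Flat R S]
    {t : ℕ} (f : Fin t → R) (I : Ideal R) (hI : Ideal.span (Set.range f) = I)
    (hq : Function.Bijective
      (Ideal.quotientMap (Ideal.map (algebraMap R S) I) (algebraMap R S) Ideal.le_comap_map))
    (M : Type u) [AddCommGroup M] [Module R M] :
    (∀ m : M, (1 : S) ⊗ₜ[R] m = 0 →
        (∀ i : Fin t, LocalizedModule.mkLinearMap (Submonoid.powers (f i)) M m = 0) → m = 0) ∧
    ∀ (x : S ⊗[R] M) (N : ℕ) (m : Fin t → M),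
      (∀ i : Fin t, EtGlue.locOfTensor R S (f i) M x =
          EtGlue.tensorOfLoc R S (f i) M (LocalizedModule.mk (m i) ⟨f i ^ N, Submonoid.pow_mem _ (Submonoid.mem_powers (f i)) N⟩)) →
      (∀ i j : Fin t, ∃ e : ℕ, (f i * f j) ^ e • (f j ^ N • m i - f i ^ N • m j) = 0) →
        ∃ μ : M, (1 : S) ⊗ₜ[R] μ = x ∧
          ∀ i : Fin t, LocalizedModule.mkLinearMap (Submonoid.powers (f i)) M μ =
            LocalizedModule.mk (m i) ⟨f i ^ N, Submonoid.pow_mem _ (Submonoid.mem_powers (f i)) N⟩ := by
  classical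
  subst hI
  -- an ideal containing powers of all `f i` generating the unit ideal of `S` is the unit ideal
  have hone : ∀ (𝔞 : Ideal R) (n : ℕ), (∀ i, f i ^ n ∈ 𝔞) → 𝔞.map (algebraMap R S) = ⊤ → 𝔞 = ⊤ := fun 𝔞 n hn h => by
    by_contra hne
    obtain ⟨P, hP, hle⟩ := Ideal.exists_le_maximal 𝔞 hne
    have hIP : Ideal.span (Set.range f) ≤ P := Ideal.span_le.mpr fun _ ⟨i, hi⟩ =>
      hi ▸ hP.isPrime.mem_of_pow_mem n (hle (hn i))
    let q := Ideal.quotientMap (Ideal.map (algebraMap R S) (Ideal.span (Set.range f))) (algebraMap R S) Ideal.le_comap_map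
    have h1 : (P.map (Ideal.Quotient.mk (Ideal.span (Set.range f)))).map q = ⊤ := by
      rw [Ideal.map_map, show q.comp (Ideal.Quotient.mk (Ideal.span (Set.range f))) =
        (Ideal.Quotient.mk _).comp (algebraMap R S) from RingHom.ext fun r => rfl, ← Ideal.map_map,
        show P.map (algebraMap R S) = ⊤ from top_le_iff.mp (h ▸ Ideal.map_mono hle), Ideal.map_top]
    refine hP.ne_top (top_le_iff.mp fun r _ => ?_)
    have h2 := congrArg (Ideal.comap q) h1
    rw [Ideal.comap_map_of_bijective q hq, Ideal.comap_top] at h2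
    have h3 : Ideal.Quotient.mk (Ideal.span (Set.range f)) r ∈ P.map (Ideal.Quotient.mk _) := h2 ▸ trivial
    rwa [Ideal.mem_quotient_iff_mem hIP] at h3
  -- approximation
  have happ : ∀ (n : ℕ) (s : S), ∃ r : R, s - algebraMap R S r ∈ ((Ideal.span (Set.range f)) ^ n).map (algebraMap R S) := by
    intro n
    induction n with
    | zero => exact fun s => ⟨0, by rw [pow_zero, Ideal.one_eq_top, Ideal.map_top]; trivial⟩
    | succ n ih =>
      intro s
      obtain ⟨r, hr⟩ := ih s
      have key : ∀ z ∈ ((Ideal.span (Set.range f)) ^ n).map (algebraMap R S),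
          ∃ r : R, z - algebraMap R S r ∈ ((Ideal.span (Set.range f)) ^ (n + 1)).map (algebraMap R S) := fun z hz => by
        refine Submodule.span_induction (p := fun z _ => ∃ r : R, z - algebraMap R S r ∈
          ((Ideal.span (Set.range f)) ^ (n + 1)).map (algebraMap R S)) ?_ ⟨0, by simp⟩ ?_ ?_ hz
        · rintro _ ⟨a, -, rfl⟩
          exact ⟨a, by simp⟩
        · rintro a b - - ⟨u, hu⟩ ⟨v, hv⟩
          refine ⟨u + v, ?_⟩
          rw [map_add, add_sub_add_comm]
          exact add_mem hu hv
        · intro c z hz ⟨u, hu⟩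
          obtain ⟨c₀, hc₀⟩ := hq.2 (Ideal.Quotient.mk _ c)
          obtain ⟨c₀, rfl⟩ := Ideal.Quotient.mk_surjective c₀
          rw [Ideal.quotientMap_mk, Ideal.Quotient.eq] at hc₀
          refine ⟨c₀ * u, ?_⟩
          have h2 : (algebraMap R S c₀ - c) * z ∈ ((Ideal.span (Set.range f)) ^ (n + 1)).map (algebraMap R S) := by
            rw [pow_succ', Ideal.map_mul]
            exact Ideal.mul_mem_mul hc₀ hz
          have h3 := sub_mem (Ideal.mul_mem_left _ (algebraMap R S c₀) hu) h2
          rw [smul_eq_mul, map_mul]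
          rwa [show c * z - algebraMap R S c₀ * algebraMap R S u =
            algebraMap R S c₀ * (z - algebraMap R S u) - (algebraMap R S c₀ - c) * z by ring]
      obtain ⟨r', hr'⟩ := key _ hr
      exact ⟨r + r', by rw [map_add, ← sub_sub]; exact hr'⟩
  have hpow : ∀ N : ℕ, ∃ n : ℕ, (Ideal.span (Set.range f)) ^ n ≤ Ideal.span (Set.range fun i => f i ^ N) := fun N => by
    refine Ideal.exists_pow_le_of_le_radical_of_fg ?_ ⟨Finset.univ.image f, by simp⟩
    rw [Ideal.span_le]
    rintro _ ⟨i, rfl⟩
    exact ⟨N, Ideal.subset_span ⟨i, rfl⟩⟩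
  -- flatness: kernels base change
  have hker : ∀ {X Y : Type u} [AddCommGroup X] [AddCommGroup Y] [Module R X] [Module R Y] (g : X →ₗ[R] Y)
      (z : S ⊗[R] X), g.lTensor S z = 0 → ∃ w, (LinearMap.ker g).subtype.lTensor S w = z := by
    intro X Y _ _ _ _ g z hz
    exact (Module.Flat.lTensor_exact S (LinearMap.exact_subtype_ker_map g) z).mp hz
  -- elements killed in the module
  have hzero : ∀ (n : ℕ) (m : M), (∀ i, f i ^ n • m = 0) → (1 : S) ⊗ₜ[R] m = 0 → m = 0 := fun n m hm h0 => by
    let g : R →ₗ[R] M := LinearMap.toSpanSingleton R M m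
    obtain ⟨w, hw⟩ := hker g ((1 : S) ⊗ₜ 1) (by rw [LinearMap.lTensor_tmul]; simpa [g] using h0)
    have h1 : (1 : S) ∈ Ideal.map (algebraMap R S) (LinearMap.ker g) := by
      have key : ∀ w, TensorProduct.rid R S ((LinearMap.ker g).subtype.lTensor S w) ∈
          Ideal.map (algebraMap R S) (LinearMap.ker g) := fun w => by
        induction w using TensorProduct.induction_on with
        | zero => simp
        | add x y hx hy => rw [map_add, map_add]; exact add_mem hx hy
        | tmul s r =>
          rw [LinearMap.lTensor_tmul, TensorProduct.rid_tmul, Algebra.smul_def]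
          exact Ideal.mul_mem_right _ _ (Ideal.mem_map_of_mem _ r.2)
      have h := key w
      rwa [hw, TensorProduct.rid_tmul, one_smul] at h
    have h2 := hone (LinearMap.ker g) n (fun i => by simpa [g] using hm i) ((Ideal.eq_top_iff_one _).mpr h1)
    have h4 : (1 : R) ∈ LinearMap.ker g := h2 ▸ trivial
    simpa [g] using h4
  have hloc : ∀ (i : Fin t) (m : M), LocalizedModule.mkLinearMap (Submonoid.powers (f i)) M m = 0 →
      ∃ n : ℕ, f i ^ n • m = 0 := fun i m h => EtAlg.Glue.Basic.loc_eq_zero_iff.mp h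
  refine ⟨fun m h0 hm => ?_, fun x N m hx hm => ?_⟩
  · choose e he using fun i => hloc i m (hm i)
    refine hzero (Finset.univ.sup e) m (fun i => ?_) h0
    obtain ⟨d, hd⟩ := Nat.exists_eq_add_of_le (Finset.le_sup (f := e) (Finset.mem_univ i))
    rw [hd, pow_add, mul_comm, mul_smul, he i, smul_zero]
  -- normalisation
  have hmk : ∀ i, f i ^ N • LocalizedModule.mk (m i)
      (⟨f i ^ N, Submonoid.pow_mem _ (Submonoid.mem_powers (f i)) N⟩ : Submonoid.powers (f i)) =
      LocalizedModule.mkLinearMap (Submonoid.powers (f i)) M (m i) := fun i =>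
    (LocalizedModule.smul'_mk _ _ _).trans
      (LocalizedModule.mk_cancel (⟨f i ^ N, Submonoid.pow_mem _ (Submonoid.mem_powers (f i)) N⟩ : Submonoid.powers (f i)) (m i))
  have hx' : ∀ i, ∃ k : ℕ, f i ^ k • (f i ^ N • x - (1 : S) ⊗ₜ m i) = 0 := fun i => by
    refine (EtAlg.Glue.Basic.loc_eq_zero_iff (f := f i) (m := f i ^ N • x - (1 : S) ⊗ₜ[R] m i)).mp ?_
    rw [map_sub, map_smul, sub_eq_zero]
    refine (congrArg (f i ^ N • ·) (hx i)).trans ?_
    rw [← map_smul, hmk i]
    exact EtAlg.Glue.Basic.tensorOfLoc_mk (m i)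
  choose k hk using hx'
  choose e he using hm
  let E := Finset.univ.sup k + Finset.univ.sup fun p : Fin t × Fin t => e p.1 p.2
  let u : Fin t → M := fun i => f i ^ E • m i
  let n := N + E
  have hxu : ∀ i, f i ^ n • x = (1 : S) ⊗ₜ u i := fun i => by
    obtain ⟨d, hd⟩ : ∃ d, E = k i + d := Nat.exists_eq_add_of_le
      ((Finset.le_sup (f := k) (Finset.mem_univ i)).trans (Nat.le_add_right _ _))
    rw [← sub_eq_zero, tmul_smul, show n = E + N from add_comm _ _, pow_add, mul_smul]
    refine (smul_sub _ _ _).symm.trans ?_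
    rw [hd, add_comm, pow_add, mul_smul, hk i, smul_zero]
  have huu : ∀ i j, f j ^ n • u i = f i ^ n • u j := fun i j => by
    obtain ⟨d, hd⟩ : ∃ d, E = e i j + d := Nat.exists_eq_add_of_le
      ((Finset.le_sup (f := fun p : Fin t × Fin t => e p.1 p.2) (Finset.mem_univ (i, j))).trans (Nat.le_add_left _ _))
    have h := congrArg ((f i * f j) ^ d • ·) (he i j)
    simp only [smul_zero, smul_smul, ← pow_add] at h
    rw [show d + e i j = E by omega, smul_sub, smul_smul, smul_smul, sub_eq_zero] at h
    show f j ^ n • (f i ^ E • m i) = f i ^ n • (f j ^ E • m j)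
    rw [smul_smul, smul_smul]
    convert h using 2 <;> ring
  let Φ : M × R →ₗ[R] (Fin t → M) :=
    LinearMap.pi fun i => (f i ^ n • LinearMap.fst R M R) - (LinearMap.toSpanSingleton R M (u i)) ∘ₗ LinearMap.snd R M R
  have hΦ : ∀ (p : M × R) i, Φ p i = f i ^ n • p.1 - p.2 • u i := fun p i => rfl
  have hmem : (Φ.lTensor S) ((TensorProduct.prodRight R R S M R).symm (x, (1 : S) ⊗ₜ 1)) = 0 := by
    apply (TensorProduct.piRight R R S fun _ : Fin t => M).injective
    rw [map_zero]
    funext i
    have key : ∀ z : S ⊗[R] (M × R), TensorProduct.piRight R R S (fun _ : Fin t => M) (Φ.lTensor S z) i =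
        f i ^ n • (TensorProduct.prodRight R R S M R z).1 -
          (LinearMap.toSpanSingleton R M (u i)).lTensor S (TensorProduct.prodRight R R S M R z).2 := fun z => by
      induction z using TensorProduct.induction_on with
      | zero => simp
      | add a b ha hb =>
        simp only [map_add, Pi.add_apply, ha, hb, Prod.fst_add, Prod.snd_add, smul_add]
        abel
      | tmul s p => simp [hΦ, tmul_sub]
    rw [key, LinearEquiv.apply_symm_apply, LinearMap.lTensor_tmul, LinearMap.toSpanSingleton_apply, one_smul, hxu i,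
      sub_self]
    rfl
  obtain ⟨w, hw⟩ := hker Φ _ hmem
  let pr : LinearMap.ker Φ →ₗ[R] R := LinearMap.snd R M R ∘ₗ (LinearMap.ker Φ).subtype
  have htop : LinearMap.range pr = (⊤ : Ideal R) := by
    refine hone _ n (fun i => ⟨⟨(u i, f i ^ n), LinearMap.mem_ker.mpr (funext fun j => ?_)⟩, rfl⟩) ?_
    · rw [hΦ, huu i j, sub_self]; rfl
    · rw [Ideal.eq_top_iff_one]
      have key : ∀ w, TensorProduct.rid R S (pr.lTensor S w) ∈ Ideal.map (algebraMap R S) (LinearMap.range pr) :=
        fun w => by
        induction w using TensorProduct.induction_on with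
        | zero => simp
        | add a b ha hb => rw [map_add, map_add]; exact add_mem ha hb
        | tmul s r =>
          rw [LinearMap.lTensor_tmul, TensorProduct.rid_tmul, Algebra.smul_def]
          exact Ideal.mul_mem_right _ _ (Ideal.mem_map_of_mem _ ⟨r, rfl⟩)
      have h := key w
      rw [show pr.lTensor S w = (LinearMap.snd R M R).lTensor S ((LinearMap.ker Φ).subtype.lTensor S w) from
        LinearMap.lTensor_comp_apply _ _ _ _, hw] at h
      have key2 : ∀ z : S ⊗[R] (M × R), (LinearMap.snd R M R).lTensor S z = (TensorProduct.prodRight R R S M R z).2 :=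
        fun z => by
        induction z using TensorProduct.induction_on with
        | zero => simp
        | add a b ha hb => simp only [map_add, Prod.snd_add, ha, hb]
        | tmul s p => simp
      rwa [key2, LinearEquiv.apply_symm_apply, TensorProduct.rid_tmul, one_smul] at h
  obtain ⟨⟨⟨μ₀, r₁⟩, hμ⟩, hr₁⟩ := LinearMap.range_eq_top.mp htop 1
  have hr₁' : r₁ = 1 := hr₁
  subst hr₁'
  have hμ₀ : ∀ i, f i ^ n • μ₀ = u i := fun i => by
    have h := congrFun (LinearMap.mem_ker.mp hμ) i
    rw [hΦ] at h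
    simpa [sub_eq_zero] using h
  -- torsion
  let T : M →ₗ[R] (Fin t → M) := LinearMap.pi fun i => f i ^ n • LinearMap.id
  obtain ⟨v, hv⟩ := hker T (x - (1 : S) ⊗ₜ μ₀) (by
    apply (TensorProduct.piRight R R S fun _ : Fin t => M).injective
    rw [map_zero]
    funext i
    have key : ∀ z : S ⊗[R] M, TensorProduct.piRight R R S (fun _ : Fin t => M) (T.lTensor S z) i = f i ^ n • z :=
      fun z => by
      induction z using TensorProduct.induction_on with
      | zero => simp
      | add a b ha hb => simp only [map_add, Pi.add_apply, ha, hb, smul_add]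
      | tmul s p => simp [T]
    rw [key, smul_sub, hxu i, ← tmul_smul, hμ₀, sub_self]
    rfl)
  obtain ⟨p, hp⟩ := hpow n
  have hT : ∀ v, ∃ τ : LinearMap.ker T, (LinearMap.ker T).subtype.lTensor S v = (1 : S) ⊗ₜ τ.1 := fun v => by
    induction v using TensorProduct.induction_on with
    | zero => exact ⟨0, by simp⟩
    | add a b ha hb =>
      obtain ⟨⟨τ, hτ⟩, τ', hτ'⟩ := ha, hb
      exact ⟨τ + τ', by rw [map_add, hτ, hτ', Submodule.coe_add, tmul_add]⟩
    | tmul s τ =>
      obtain ⟨r, hr⟩ := happ p s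
      have hz : ∀ z ∈ ((Ideal.span (Set.range f)) ^ p).map (algebraMap R S), z ⊗ₜ[R] (τ : M) = 0 := fun z hz => by
        refine Submodule.span_induction (p := fun z _ => ∀ c : S, (c * z) ⊗ₜ[R] (τ : M) = 0) ?_ (fun c => by simp)
          (fun a b _ _ ha hb c => by rw [mul_add, add_tmul, ha, hb, add_zero])
          (fun c' a _ ha c => by rw [smul_eq_mul, ← mul_assoc]; exact ha _) hz 1 |> fun h => by rwa [one_mul] at h
        rintro _ ⟨a, ha, rfl⟩ c
        rw [mul_comm, ← Algebra.smul_def, smul_tmul]
        have : a • (τ : M) = 0 := by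
          refine Submodule.span_induction (p := fun a _ => a • (τ : M) = 0) ?_ (zero_smul _ _)
            (fun a b _ _ ha hb => by rw [add_smul, ha, hb, add_zero]) (fun c a _ ha => by rw [smul_eq_mul, mul_smul, ha, smul_zero])
            (hp ha)
          rintro _ ⟨i, rfl⟩
          exact congrFun (LinearMap.mem_ker.mp τ.2) i
        rw [this, tmul_zero]
      refine ⟨r • τ, ?_⟩
      rw [LinearMap.lTensor_tmul, Submodule.subtype_apply, Submodule.coe_smul, tmul_smul, smul_tmul', ← sub_eq_zero,
        ← sub_tmul, ← Algebra.algebraMap_eq_smul_one]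
      exact hz _ hr
  obtain ⟨τ, hτ⟩ := hT v
  refine ⟨μ₀ + τ, by rw [tmul_add, ← hτ, hv]; abel, fun i => ?_⟩
  refine EtAlg.Glue.Basic.smul_loc_injective n ?_
  show f i ^ n • _ = f i ^ n • _
  rw [← map_smul, smul_add, hμ₀, show f i ^ n • (τ : M) = 0 from congrFun (LinearMap.mem_ker.mp τ.2) i, add_zero]
  show LocalizedModule.mkLinearMap (Submonoid.powers (f i)) M (f i ^ E • m i) = _
  rw [map_smul, show n = E + N from add_comm _ _, pow_add _ E N, mul_smul, hmk i]

end Groth.Agent.S7090
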