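import Groth.Statements.S7091
import Groth.Agent.DerivedComplete.Amplitude

set_option autoImplicit false
universe u
attribute [local instance] HasDerivedCategory.standard
open CategoryTheory
open DRing

namespace Groth.Agent.S7091

open CategoryTheory

/-- Let A be a commutative ring, I a finitely generated ideal, and assume the derived completion functor
(left adjoint to the inclusion of derived complete objects) exists. If a morphism K → L in D(A)
induces isomorphisms on cohomology in degrees ≥ 1 and a surjection in degree 0, then so does the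
induced morphism between the derived completions. -/
theorem result {A : Type u} [CommRing A] (I : Ideal A) (hI : I.FG)
    [DRing.HasDerivedCompletion I] {K L : Dual.D A} (φ : K ⟶ L)
    (hiso : ∀ i : ℤ, 1 ≤ i → IsIso ((DerivedCategory.homologyFunctor (ModuleCat.{u} A) i).map φ))
    (hepi : Epi ((DerivedCategory.homologyFunctor (ModuleCat.{u} A) 0).map φ)) :
    (∀ i : ℤ, 1 ≤ i → IsIso ((DerivedCategory.homologyFunctor (ModuleCat.{u} A) i).map
        ((DRing.derivedCompletion I).map φ).hom)) ∧
      Epi ((DerivedCategory.homologyFunctor (ModuleCat.{u} A) 0).map ((DRing.derivedCompletion I).map φ).hom) := by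
  obtain ⟨s, hs⟩ := hI
  obtain ⟨T, T', q, hT, hT', hc, hq, ⟨e⟩, ⟨e'⟩⟩ := Groth.Agent.DerivedComplete.cone_completion s I hs φ
  let H := fun i : ℤ => DerivedCategory.homologyFunctor (ModuleCat.{u} A) i
  have hiff : ∀ i, Arrow.mk ((H i).map T'.mor₁) ≅ Arrow.mk ((H i).map ((DRing.derivedCompletion I).map φ).hom) :=
    fun i => (H i).mapArrow.mapIso e'
  have hsrc : ∀ i, Arrow.mk ((H i).map φ) ≅ Arrow.mk ((H i).map T.mor₁) := fun i => (H i).mapArrow.mapIso e.symm
  have hQ : ∀ i : ℤ, 0 ≤ i → Subsingleton (Dual.HD A T.obj₃ i) := fun i hi => by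
    haveI : Epi ((H i).map T.mor₁) := by
      rcases hi.eq_or_lt with rfl | h
      · exact (MorphismProperty.epimorphisms _).arrow_mk_iso_iff (hsrc 0) |>.1 hepi
      · exact (MorphismProperty.epimorphisms _).arrow_mk_iso_iff (hsrc i) |>.1 (haveI := hiso i h; IsIso.epi_of_iso ((H i).map φ))
    haveI : Mono ((H (i + 1)).map T.mor₁) :=
      (MorphismProperty.monomorphisms _).arrow_mk_iso_iff (hsrc (i + 1)) |>.1
        (haveI := hiso (i + 1) (by omega); IsIso.mono_of_iso ((H (i + 1)).map φ))
    exact Groth.Agent.DerivedComplete.homology_third_subsingleton T hT i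
  have hZ : ∀ i : ℤ, 0 ≤ i → Subsingleton (Dual.HD A T'.obj₃ i) := fun i hi =>
    Groth.Agent.DerivedComplete.subsingleton_of_isUnit s hq hc i fun j hj _ => hQ j (le_trans hi hj)
  refine ⟨fun i hi => ?_, ?_⟩
  · haveI := Groth.Agent.DerivedComplete.homology_mor₁_epi T' hT' i (hZ i (by omega))
    haveI := Groth.Agent.DerivedComplete.homology_mor₁_mono T' hT' i (hZ (i - 1) (by omega))
    haveI : IsIso ((H i).map T'.mor₁) := isIso_of_mono_of_epi _
    exact (MorphismProperty.isomorphisms _).arrow_mk_iso_iff (hiff i) |>.1 ‹_›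
  · exact (MorphismProperty.epimorphisms _).arrow_mk_iso_iff (hiff 0) |>.1
      (Groth.Agent.DerivedComplete.homology_mor₁_epi T' hT' 0 (hZ 0 le_rfl))

end Groth.Agent.S7091
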