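import Groth.Statements.S7092
import Groth.Agent.DerivedComplete.Amplitude

set_option autoImplicit false
universe u
attribute [local instance] HasDerivedCategory.standard
open CategoryTheory
open DRing

namespace Groth.Agent.S7092

open CategoryTheory

/-- Let A be a commutative ring, I an ideal generated by a finite set of r elements, and assume the
derived completion functor exists. If a morphism K → L in D(A) induces isomorphisms on cohomology in
degrees ≤ -1 and an injection in degree 0, then the induced morphism of derived completions induces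
isomorphisms on cohomology in degrees ≤ -r-1 and an injection in degree -r. -/
theorem result {A : Type u} [CommRing A] (I : Ideal A) (s : Finset A)
    (hs : Ideal.span (s : Set A) = I) [DRing.HasDerivedCompletion I] {K L : Dual.D A} (φ : K ⟶ L)
    (hiso : ∀ i : ℤ, i ≤ -1 → IsIso ((DerivedCategory.homologyFunctor (ModuleCat.{u} A) i).map φ))
    (hmono : Mono ((DerivedCategory.homologyFunctor (ModuleCat.{u} A) 0).map φ)) :
    (∀ i : ℤ, i ≤ -(s.card : ℤ) - 1 → IsIso ((DerivedCategory.homologyFunctor (ModuleCat.{u} A) i).map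
        ((DRing.derivedCompletion I).map φ).hom)) ∧
      Mono ((DerivedCategory.homologyFunctor (ModuleCat.{u} A) (-(s.card : ℤ))).map
        ((DRing.derivedCompletion I).map φ).hom) := by
  obtain ⟨T, T', q, hT, hT', hc, hq, ⟨e⟩, ⟨e'⟩⟩ := Groth.Agent.DerivedComplete.cone_completion s I hs φ
  let H := fun i : ℤ => DerivedCategory.homologyFunctor (ModuleCat.{u} A) i
  have hiff : ∀ i, Arrow.mk ((H i).map T'.mor₁) ≅ Arrow.mk ((H i).map ((DRing.derivedCompletion I).map φ).hom) :=
    fun i => (H i).mapArrow.mapIso e'
  have hsrc : ∀ i, Arrow.mk ((H i).map φ) ≅ Arrow.mk ((H i).map T.mor₁) := fun i => (H i).mapArrow.mapIso e.symm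
  have hQ : ∀ i : ℤ, i ≤ -1 → Subsingleton (Dual.HD A T.obj₃ i) := fun i hi => by
    haveI : Epi ((H i).map T.mor₁) :=
      (MorphismProperty.epimorphisms _).arrow_mk_iso_iff (hsrc i) |>.1
        (haveI := hiso i hi; IsIso.epi_of_iso ((H i).map φ))
    haveI : Mono ((H (i + 1)).map T.mor₁) := by
      refine (MorphismProperty.monomorphisms _).arrow_mk_iso_iff (hsrc (i + 1)) |>.1 ?_
      rcases hi.eq_or_lt with rfl | h
      · exact hmono
      · haveI := hiso (i + 1) (by omega); exact IsIso.mono_of_iso ((H (i + 1)).map φ)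
    exact Groth.Agent.DerivedComplete.homology_third_subsingleton T hT i
  have hZ : ∀ i : ℤ, i ≤ -(s.card : ℤ) - 1 → Subsingleton (Dual.HD A T'.obj₃ i) := fun i hi =>
    Groth.Agent.DerivedComplete.subsingleton_of_isUnit s hq hc i fun j _ hj => hQ j (by omega)
  refine ⟨fun i hi => ?_, ?_⟩
  · haveI := Groth.Agent.DerivedComplete.homology_mor₁_epi T' hT' i (hZ i hi)
    haveI := Groth.Agent.DerivedComplete.homology_mor₁_mono T' hT' i (hZ (i - 1) (by omega))
    haveI : IsIso ((H i).map T'.mor₁) := isIso_of_mono_of_epi _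
    exact (MorphismProperty.isomorphisms _).arrow_mk_iso_iff (hiff i) |>.1 ‹_›
  · exact (MorphismProperty.monomorphisms _).arrow_mk_iso_iff (hiff (-(s.card : ℤ))) |>.1
      (Groth.Agent.DerivedComplete.homology_mor₁_mono T' hT' (-(s.card : ℤ)) (hZ _ (by omega)))

end Groth.Agent.S7092
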