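import Groth.Statements.S7098
import Groth.Agent.DerivedComplete.Vanishing

set_option autoImplicit false
universe u
attribute [local instance] HasDerivedCategory.standard
open DRing

namespace Groth.Agent.S7098

open CategoryTheory

/-- (1)⇔(2): let A be a commutative ring, f an element of A and K an object of D(A). Then every morphism
A_f[0] → K[n] vanishes for every integer n if and only if every morphism E → K vanishes for every
object E of D(A) obtained by restriction of scalars from D(A_f). -/
theorem result {A : Type u} [CommRing A] (f : A)
    (K : Dual.D A) :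
    (∀ n : ℤ, Subsingleton (Dual.inD A (Localization.Away f) ⟶ K⟦n⟧)) ↔
      ∀ E : Dual.D (Localization.Away f),
        Subsingleton ((DRing.restrictD (algebraMap A (Localization.Away f))).obj E ⟶ K) := by
  refine ⟨fun h E => ?_, fun h n => ?_⟩
  · let φA := algebraMap A (Localization.Away f)
    let E₀ := DerivedCategory.Q.objPreimage E
    let e : (DRing.restrictD φA).obj E ≅
        DRing.toD (((ModuleCat.restrictScalars φA).mapHomologicalComplex (ComplexShape.up ℤ)).obj E₀) :=
      (DRing.restrictD φA).mapIso (DerivedCategory.Q.objObjPreimageIso E).symm ≪≫
        (ModuleCat.restrictScalars φA).mapDerivedCategoryFactors.app E₀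
    have h0 := Groth.Agent.DerivedComplete.eq_zero_of_smul_bijective
      (f := f) (((ModuleCat.restrictScalars φA).mapHomologicalComplex (ComplexShape.up ℤ)).obj E₀)
      (fun i => show Function.Bijective fun x : E₀.X i => φA f • x from
        IsUnit.smul_bijective (IsLocalization.Away.algebraMap_isUnit (S := Localization.Away f) f))
      ((Groth.Agent.DerivedComplete.forall_subsingleton_iff f K).1 h)
    exact ⟨fun a b => (cancel_epi e.inv).1 ((h0 _).trans (h0 _).symm)⟩
  · let φA := algebraMap A (Localization.Away f)
    let X : Dual.D (Localization.Away f) := Dual.inD (Localization.Away f) (Localization.Away f)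
    let M := (ModuleCat.restrictScalars φA).obj (ModuleCat.of (Localization.Away f) (Localization.Away f))
    let l : M ≃ₗ[A] Localization.Away f :=
      { AddEquiv.refl (Localization.Away f) with map_smul' := fun a x => (Algebra.smul_def (A := Localization.Away f) a x).symm }
    let j : M ≅ ModuleCat.of A (Localization.Away f) := l.toModuleIso
    let e : Dual.inD A (Localization.Away f) ≅ (DRing.restrictD φA).obj X :=
      (DerivedCategory.singleFunctor (ModuleCat.{u} A) 0).mapIso j.symm ≪≫
        ((ModuleCat.restrictScalars φA).mapDerivedCategorySingleFunctor 0).symm.app _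
    let adj := (shiftEquiv' (DerivedCategory (ModuleCat.{u} A)) (-n) n (neg_add_cancel n)).toAdjunction
    haveI := h (X⟦-n⟧)
    refine ⟨fun a b => (cancel_epi e.inv).1 ((adj.homEquiv _ _).symm.injective ?_)⟩
    exact (cancel_epi (((DRing.restrictD φA).commShiftIso (-n)).hom.app X)).1 ((h (X⟦-n⟧)).elim _ _)

end Groth.Agent.S7098
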