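import Groth.Statements.S7105
import Groth.Agent.PseudoCoh.TorAmp

set_option autoImplicit false
universe u
attribute [local instance] HasDerivedCategory.standard
open CategoryTheory
open DRing

namespace Groth.Agent.S7105

open CategoryTheory CategoryTheory.Limits CategoryTheory.Pretriangulated DerivedCategory

attribute [local instance] HasDerivedCategory.standard

/-- chain maps from an acyclic complex concentrated below degree one, projective in degree one,
to a complex concentrated above degree minus one are null-homotopic -/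
lemma eq_zero {R : Type u} [CommRing R] {C K : DRing.Cx R} (hC : IsZero (DerivedCategory.Q.obj C))
    (h2 : ∀ i : ℤ, 2 ≤ i → IsZero (C.X i)) (h1 : Module.Projective R (C.X 1))
    (hK : ∀ i : ℤ, i ≤ -2 → IsZero (K.X i)) (f : C ⟶ K) :
    (HomotopyCategory.quotient (ModuleCat.{u} R) (ComplexShape.up ℤ)).map f = 0 := by
  classical
  have hx : ∀ i j k : ℤ, i + 1 = j → j + 1 = k → ∀ x : C.X j, (C.d j k).hom x = 0 → ∃ y, (C.d i j).hom y = x := by
    intro i j k hij hjk
    have : C.ExactAt j := by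
      rw [HomologicalComplex.exactAt_iff_isZero_homology]
      exact ((DerivedCategory.homologyFunctor _ j).map_isZero hC).of_iso
        ((DerivedCategory.homologyFunctorFactors (ModuleCat.{u} R) j).app C).symm
    rw [C.exactAt_iff' i j k (by simp; omega) (by simp; omega), ShortComplex.moduleCat_exact_iff] at this
    exact this
  have hd : ∀ (i j k : ℤ) (x : C.X i), (C.d j k).hom ((C.d i j).hom x) = 0 := fun i j k x =>
    ConcreteCategory.congr_hom (C.d_comp_d i j k) x
  have hf : ∀ (i j : ℤ) (x : C.X i), (f.f j).hom ((C.d i j).hom x) = (K.d i j).hom ((f.f i).hom x) := fun i j x =>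
    (ConcreteCategory.congr_hom (f.comm i j) x).symm
  haveI : Subsingleton (C.X 2) := ModuleCat.subsingleton_of_isZero (h2 2 le_rfl)
  haveI : Subsingleton (K.X (-2)) := ModuleCat.subsingleton_of_isZero (hK _ le_rfl)
  obtain ⟨s, hs⟩ := Module.projective_lifting_property (C.d 0 1).hom (LinearMap.id : C.X 1 →ₗ[R] C.X 1)
    (fun x => hx 0 1 2 rfl rfl x (Subsingleton.elim _ _))
  have hs' : ∀ x, (C.d 0 1).hom (s x) = x := fun x => congrArg (fun l => l x) hs
  have hk : LinearMap.ker (C.d (-1) 0).hom ≤ LinearMap.ker (f.f (-1)).hom := fun x hx0 => by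
    obtain ⟨y, rfl⟩ := hx (-2) (-1) 0 rfl rfl x hx0
    rw [LinearMap.mem_ker, hf, Subsingleton.elim ((f.f (-2)).hom y) 0, map_zero]
  let π : C.X 0 →ₗ[R] LinearMap.range (C.d (-1) 0).hom :=
    (LinearMap.id - s ∘ₗ (C.d 0 1).hom).codRestrict _ (fun x => hx (-1) 0 1 rfl rfl _
      (by simp [map_sub, hs']))
  let h0 : C.X 0 →ₗ[R] K.X (-1) := Submodule.liftQ _ (f.f (-1)).hom hk ∘ₗ
    (C.d (-1) 0).hom.quotKerEquivRange.symm.toLinearMap ∘ₗ π
  have e0 : ∀ x, h0 ((C.d (-1) 0).hom x) = (f.f (-1)).hom x := fun x => by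
    have : π ((C.d (-1) 0).hom x) = ⟨_, LinearMap.mem_range_self _ x⟩ :=
      Subtype.ext (show (C.d (-1) 0).hom x - s ((C.d 0 1).hom ((C.d (-1) 0).hom x)) = _ by rw [hd, map_zero, sub_zero])
    simp only [h0, LinearMap.comp_apply, this]
    erw [LinearMap.quotKerEquivRange_symm_apply_image, Submodule.liftQ_apply]
  let g : C.X 0 →ₗ[R] K.X 0 := (f.f 0).hom - (K.d (-1) 0).hom ∘ₗ h0
  have eg : ∀ x, (C.d 0 1).hom x = 0 → g x = 0 := fun x hx0 => by
    obtain ⟨y, rfl⟩ := hx (-1) 0 1 rfl rfl x hx0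
    simp only [g, LinearMap.sub_apply, LinearMap.comp_apply, e0, hf, sub_self]
  have eg' : ∀ x, g (s ((C.d 0 1).hom x)) = g x := fun x => by
    rw [← sub_eq_zero, ← map_sub]; exact eg _ (by rw [map_sub, hs', sub_self])
  let hm : ∀ i j : ℤ, C.X i ⟶ K.X j := fun i j =>
    if h : i = 0 ∧ j = -1 then eqToHom (by rw [h.1]) ≫ ModuleCat.ofHom h0 ≫ eqToHom (by rw [h.2])
    else if h : i = 1 ∧ j = 0 then eqToHom (by rw [h.1]) ≫ ModuleCat.ofHom (g ∘ₗ s) ≫ eqToHom (by rw [h.2])
    else 0
  have hm0 : hm 0 (-1) = ModuleCat.ofHom h0 := by simp [hm]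
  have hm1 : hm 1 0 = ModuleCat.ofHom (g ∘ₗ s) := by simp [hm]
  refine (HomotopyCategory.eq_of_homotopy f 0 ⟨hm, fun i j hij => ?_, fun i => ?_⟩).trans (Functor.map_zero _ _ _)
  · simp only [hm]
    rw [dif_neg, dif_neg] <;> rintro ⟨rfl, rfl⟩ <;> exact hij (by simp)
  · rw [dNext_eq hm (show (ComplexShape.up ℤ).Rel i (i + 1) from rfl),
      prevD_eq hm (show (ComplexShape.up ℤ).Rel (i - 1) i from sub_add_cancel i 1), HomologicalComplex.zero_f, add_zero]
    rcases le_or_gt i (-2) with hi | hi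
    · exact (hK i hi).eq_of_tgt _ _
    rcases le_or_gt 2 i with hi2 | hi2
    · exact (h2 i hi2).eq_of_src _ _
    obtain rfl | rfl | rfl : i = -1 ∨ i = 0 ∨ i = 1 := by omega
    · change f.f (-1) = C.d (-1) 0 ≫ hm 0 (-1) + hm (-1) (-2) ≫ K.d (-2) (-1)
      rw [(hK (-2) le_rfl).eq_of_tgt (hm (-1) (-2)) 0, zero_comp, add_zero, hm0]
      ext x; exact (e0 x).symm
    · change f.f 0 = C.d 0 1 ≫ hm 1 0 + hm 0 (-1) ≫ K.d (-1) 0
      rw [hm0, hm1]; ext x
      change (f.f 0).hom x = g (s ((C.d 0 1).hom x)) + (K.d (-1) 0).hom (h0 x)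
      rw [eg']; simp [g]
    · change f.f 1 = C.d 1 2 ≫ hm 2 1 + hm 1 0 ≫ K.d 0 1
      rw [(h2 2 le_rfl).eq_of_src (hm 2 1) 0, comp_zero, zero_add, hm1]; ext x
      change (f.f 1).hom x = (K.d 0 1).hom (g (s x))
      conv_lhs => rw [← hs' x, hf]
      have := ConcreteCategory.congr_hom (K.d_comp_d (-1) 0 1) (h0 (s x))
      simp only [g, LinearMap.sub_apply, LinearMap.comp_apply, map_sub]
      exact (by rw [show (K.d 0 1).hom ((K.d (-1) 0).hom (h0 (s x))) = 0 from this, sub_zero])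

/-- Let R be a commutative ring, M a cochain complex of R-modules with M^i = 0 for i > 0 and M^0
projective, and K a cochain complex with K^i = 0 for all i ≤ -2. Then the canonical map
Hom_{K(R)}(M, K) → Hom_{D(R)}(M, K), from homotopy classes of chain maps to morphisms in the derived
category, is bijective. -/
theorem result {R : Type u} [CommRing R] (M K : DRing.Cx R)
    (hM : ∀ i : ℤ, 0 < i → Limits.IsZero (M.X i)) (hM0 : Module.Projective R (M.X 0))
    (hK : ∀ i : ℤ, i ≤ -2 → Limits.IsZero (K.X i)) :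
    Function.Bijective (fun φ : (HomotopyCategory.quotient (ModuleCat.{u} R) (ComplexShape.up ℤ)).obj M ⟶
        (HomotopyCategory.quotient (ModuleCat.{u} R) (ComplexShape.up ℤ)).obj K => DerivedCategory.Qh.map φ) := by
  obtain ⟨P, hPb, hPp, hPK, ⟨eP⟩⟩ := PseudoCoh.exists_projective_le (DRing.toD M) 0
    (PseudoCoh.isLE_toD_of_vanishes hM)
  haveI := hPK
  obtain ⟨q, hq⟩ := PseudoCoh.exists_Q_map (F := M) eP.hom
  haveI : IsIso (DerivedCategory.Q.map q) := hq ▸ inferInstance
  let C := CochainComplex.mappingCone q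
  have hC : IsZero (DerivedCategory.Q.obj C) :=
    (Triangle.isZero₃_iff_isIso₁ _ (DerivedCategory.mappingCone_triangle_distinguished q)).2
      (inferInstanceAs (IsIso (DerivedCategory.Q.map q)))
  let Qt := HomotopyCategory.quotient (ModuleCat.{u} R) (ComplexShape.up ℤ)
  haveI := hM0
  have hC0 : Projective (C.X 0) :=
    haveI : Projective (M.X 0) := (IsProjective.iff_projective (M.X 0)).1 hM0
    Retract.projective (X := C.X 0) (Y := M.X 0)
      ⟨(CochainComplex.mappingCone.snd q).v 0 0 (add_zero 0), (CochainComplex.mappingCone.inr q).f 0, by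
        refine Eq.trans ?_ (CochainComplex.mappingCone.id_X q 0 1 rfl); rw [(hPb 1 one_pos).eq_of_src ((CochainComplex.mappingCone.inl q).v 1 0 (by omega)) 0, comp_zero, zero_add]⟩
  have hCz : ∀ i : ℤ, 0 < i → IsZero (C.X i) := fun i hi =>
    (CochainComplex.mappingCone.isZero_X_iff q i).2 ⟨hPb _ (by omega), hM i hi⟩
  have z1 : ∀ f : Qt.obj C ⟶ Qt.obj K, f = 0 := fun f => by
    obtain ⟨f, rfl⟩ := Qt.map_surjective f
    exact eq_zero hC (fun i hi => hCz i (by omega))
      (by haveI : Subsingleton (C.X 1) := ModuleCat.subsingleton_of_isZero (hCz 1 one_pos); infer_instance) hK f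
  have z2 : ∀ f : (Qt.obj C)⟦(-1 : ℤ)⟧ ⟶ Qt.obj K, f = 0 := fun f => by
    obtain ⟨g, hg⟩ := Qt.map_surjective ((Qt.commShiftIso (-1 : ℤ)).hom.app C ≫ f)
    have hg0 : Qt.map g = 0 := eq_zero (((shiftFunctor (Dual.D R) (-1 : ℤ)).map_isZero hC).of_iso
      ((DerivedCategory.Q.commShiftIso (-1 : ℤ)).app C)) (fun i hi => hCz (i + -1) (by omega))
      ((IsProjective.iff_projective (C.X 0)).2 hC0) hK g
    exact (cancel_epi ((Qt.commShiftIso (-1 : ℤ)).hom.app C)).1 (by rw [comp_zero, ← hg, hg0])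
  have hT := HomotopyCategory.mappingCone_triangleh_distinguished q
  have hb := CochainComplex.IsKProjective.Qh_map_bijective P (Qt.obj K)
  haveI : IsIso (DerivedCategory.Qh.map (Qt.map q)) := by
    have e := (quotientCompQhIso (ModuleCat.{u} R)).hom.naturality q
    haveI : IsIso (DerivedCategory.Qh.map (Qt.map q) ≫ (quotientCompQhIso (ModuleCat.{u} R)).hom.app M) := by
      rw [show DerivedCategory.Qh.map (Qt.map q) ≫ _ = _ from e]; infer_instance
    exact IsIso.of_isIso_comp_right _ ((quotientCompQhIso (ModuleCat.{u} R)).hom.app M)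
  refine ⟨fun f g hfg => ?_, fun α => ?_⟩
  · have e : Qt.map q ≫ f = Qt.map q ≫ g := hb.injective (by
      simp only [Functor.map_comp]; exact congrArg _ hfg)
    obtain ⟨t, ht⟩ := Triangle.yoneda_exact₂ _ hT (f - g)
      (show Qt.map q ≫ (f - g) = 0 by rw [Preadditive.comp_sub, sub_eq_zero]; exact e)
    rw [z1 t] at ht
    exact sub_eq_zero.1 (ht.trans comp_zero)
  · obtain ⟨g, hg⟩ := hb.surjective (DerivedCategory.Qh.map (Qt.map q) ≫ α)
    obtain ⟨f, hf⟩ := Triangle.yoneda_exact₂ _ (inv_rot_of_distTriang _ hT) g (z2 _)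
    refine ⟨f, (cancel_epi (DerivedCategory.Qh.map (Qt.map q))).1 ?_⟩
    exact ((DerivedCategory.Qh.map_comp _ _).symm.trans (congrArg DerivedCategory.Qh.map hf.symm)).trans hg

end Groth.Agent.S7105
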