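import Groth.Statements.S7106
import Groth.Agent.PseudoCoh.TwoTermExt

set_option autoImplicit false
universe u
attribute [local instance] HasDerivedCategory.standard
open CategoryTheory
open DRing

namespace Groth.Agent.S7106

open CategoryTheory CategoryTheory.Limits DerivedCategory Groth.Agent.PseudoCoh

attribute [local instance] HasDerivedCategory.standard

/-- Let R be a commutative ring, M a cochain complex of R-modules with M^i = 0 for i > 0 and M^0
projective, K a cochain complex with K^i = 0 for i outside [-1, 0] and K^0 projective, and a : M → K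
a chain map. Then precomposition with a is the zero map Ext^1_R(K, N) → Ext^1_R(M, N) (morphisms
into N[1] in D(R)) for every R-module N if and only if there is a map h : M^0 → K^{-1} with a^{-1} +
h ∘ d_M^{-1} = 0. (The published statement composes h^0 with the differential K^{-1} → K^0 of K,
which is not defined; this row composes it with the differential M^{-1} → M^0 of M, as the homotopy
in the published proof does.) -/
theorem result {R : Type u} [CommRing R] (M K : DRing.Cx R)
    (hM : ∀ i : ℤ, 0 < i → Limits.IsZero (M.X i)) (hM0 : Module.Projective R (M.X 0))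
    (hK : ∀ i : ℤ, i ≠ -1 → i ≠ 0 → Limits.IsZero (K.X i)) (hK0 : Module.Projective R (K.X 0))
    (a : M ⟶ K) :
    (∀ (N : Type u) [AddCommGroup N] [Module R N] (ξ : DRing.toD K ⟶ (Dual.inD R N)⟦(1 : ℤ)⟧),
        DerivedCategory.Q.map a ≫ ξ = 0) ↔
      ∃ h : M.X 0 ⟶ K.X (-1), a.f (-1) + M.d (-1) 0 ≫ h = 0 := by
  refine ⟨fun H => ?_, fun ⟨h, hh⟩ N _ _ ξ => ?_⟩
  · let z : cocycles K (-1) (K.X (-1)) := ⟨LinearMap.id, LinearMap.ext fun x => by
      haveI := ModuleCat.subsingleton_of_isZero (hK (-1 - 1) (by omega) (by omega))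
      rw [Subsingleton.elim x 0]
      simp⟩
    have h0 := H (K.X (-1)) (extClass (Iso.refl (DRing.toD K)) 1 (-1) (by omega) (K.X (-1)) z)
    let zM : cocycles M (-1) (K.X (-1)) := ⟨(a.f (-1)).hom, LinearMap.ext fun x => by
      haveI := ModuleCat.subsingleton_of_isZero (hK (-1 - 1) (by omega) (by omega))
      have hx := ConcreteCategory.congr_hom (a.comm (-1 - 1) (-1)) x
      refine (hx.symm.trans ?_)
      exact (congrArg (K.d (-1 - 1) (-1)).hom (Subsingleton.elim _ _)).trans (map_zero _)⟩
    have he : a ≫ cocycleMap K (-1) (K.X (-1)) z = cocycleMap M (-1) (K.X (-1)) zM := cocycleMap_eq M (-1) _ _ zM (by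
      rw [HomologicalComplex.comp_f, Category.assoc, cocycleMap_f]
      rfl)
    have hz : cocycleClass M (-1) (K.X (-1)) zM = 0 := by
      change DerivedCategory.Q.map (cocycleMap M (-1) (K.X (-1)) zM) = 0
      rw [← he, DerivedCategory.Q.map_comp]
      change DerivedCategory.Q.map a ≫ (((Iso.refl (DRing.toD K)).inv ≫ cocycleClass K (-1) (K.X (-1)) z) ≫ _) = 0 at h0
      rw [Iso.refl_inv, Category.id_comp, ← Category.assoc, ← cancel_mono ((shiftSingleIso (A := R) 1 (-1) (by omega)).hom.app (K.X (-1))),
        Category.assoc, Iso.inv_hom_id_app, zero_comp] at h0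
      exact (Category.comp_id _).symm.trans h0
    obtain ⟨s, hs⟩ := boundary_of_class_eq_zero hM hM0 zM hz
    refine ⟨-ModuleCat.ofHom s, ModuleCat.hom_ext (LinearMap.ext fun x => ?_)⟩
    change (a.f (-1)).hom x + (-s ((M.d (-1) 0).hom x)) = 0
    rw [hs x]
    exact add_neg_cancel _
  · refine comp_eq_zero_of_factor hK hK0 a (-h) ?_ (ModuleCat.of R N) ξ
    rw [Preadditive.comp_neg]
    exact eq_neg_of_add_eq_zero_left hh

end Groth.Agent.S7106
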