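import Groth.Statements.S7107
import Mathlib.LinearAlgebra.Finsupp.SumProd
import Mathlib.LinearAlgebra.Finsupp.Defs
import Mathlib.SetTheory.Cardinal.Arithmetic

set_option autoImplicit false
universe u
open CAlg

namespace Groth.Agent.S7107

noncomputable section
variable {R : Type u} [CommRing R]

def prodSplit (P Q : Type u) [AddCommGroup P] [Module R P] [AddCommGroup Q] [Module R Q] :
    (ℕ →₀ P × Q) ≃ₗ[R] (ℕ →₀ P) × (ℕ →₀ Q) :=
  LinearEquiv.ofLinear
    ((Finsupp.mapRange.linearMap (LinearMap.fst R P Q)).prod (Finsupp.mapRange.linearMap (LinearMap.snd R P Q)))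
    ((Finsupp.mapRange.linearMap (LinearMap.inl R P Q)).coprod (Finsupp.mapRange.linearMap (LinearMap.inr R P Q)))
    (LinearMap.ext fun ⟨f, g⟩ => Prod.ext (Finsupp.ext fun n => by simp) (Finsupp.ext fun n => by simp))
    (LinearMap.ext fun f => Finsupp.ext fun n => by ext <;> simp)

def shift (P : Type u) [AddCommGroup P] [Module R P] : (P × (ℕ →₀ P)) ≃ₗ[R] (ℕ →₀ P) :=
  ((LinearEquiv.prodCongr ((AddEquiv.finsuppUnique (M := P) (ι := Unit)).toLinearEquiv (R := R) fun c x => by simp [AddEquiv.finsuppUnique, Equiv.finsuppUnique]).symm (LinearEquiv.refl R _)).trans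
    (Finsupp.sumFinsuppLEquivProdFinsupp R).symm).trans
      (Finsupp.domLCongr ((Equiv.sumComm Unit ℕ).trans Equiv.natSumPUnitEquivNat))

theorem swindle {P Q F : Type u} [AddCommGroup P] [Module R P] [AddCommGroup Q] [Module R Q]
    [AddCommGroup F] [Module R F] (e : (P × Q) ≃ₗ[R] F) (e' : (ℕ →₀ F) ≃ₗ[R] F) :
    Nonempty ((P × F) ≃ₗ[R] F) := by
  let E : F ≃ₗ[R] (ℕ →₀ P) × (ℕ →₀ Q) :=
    e'.symm.trans ((Finsupp.mapRange.linearEquiv e.symm).trans (prodSplit P Q))
  exact ⟨(((LinearEquiv.refl R P).prodCongr E).trans (LinearEquiv.prodAssoc R P _ _).symm).trans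
    (((shift P).prodCongr (LinearEquiv.refl R _)).trans E.symm)⟩

end

/-- Let R be a ring and P, Q modules such that P ⊕ Q is isomorphic to a free module F on an infinite
basis. Then P ⊕ F is isomorphic to F. -/
theorem result (R : Type u) [CommRing R] (P Q : Type u) [AddCommGroup P] [Module R P]
    [AddCommGroup Q] [Module R Q] (ι : Type u) [Infinite ι] (e : (P × Q) ≃ₗ[R] (ι →₀ R)) :
    Nonempty ((P × (ι →₀ R)) ≃ₗ[R] (ι →₀ R)) := by
  obtain ⟨g⟩ : Nonempty (ℕ × ι ≃ ι) := Cardinal.eq.1 (by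
    simp [Cardinal.mk_prod, Cardinal.aleph0_mul_eq (Cardinal.aleph0_le_mk ι)])
  exact swindle e ((Finsupp.curryLinearEquiv R).symm.trans (Finsupp.domLCongr g))

end Groth.Agent.S7107
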