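import Groth.Statements.S7108
import Groth.Agent.S7107
import Mathlib.Algebra.Module.Projective

set_option autoImplicit false
universe u
open CAlg

namespace Groth.Agent.S7108

/-- Every projective module P over a ring R becomes free after adding a suitable free module: P ⊕ F is
free for some free module F (here F is the free module on some index type). -/
theorem result (R : Type u) [CommRing R] (P : Type u) [AddCommGroup P]
    [Module R P] [Module.Projective R P] : ∃ ι : Type u, Module.Free R (P × (ι →₀ R)) := by
  obtain ⟨sec, hsec⟩ := Module.projective_def.1 (‹Module.Projective R P›)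
  let π : (P →₀ R) →ₗ[R] P := Finsupp.linearCombination R id
  have hs : ∀ p, π (sec p) = p := hsec
  let e0 : (P × LinearMap.ker π) ≃ₗ[R] (P →₀ R) := LinearEquiv.ofBijective
    (sec.coprod (LinearMap.ker π).subtype) ⟨(injective_iff_map_eq_zero _).2 (by
      rintro ⟨p, k⟩ h
      simp only [LinearMap.coprod_apply, Submodule.subtype_apply] at h
      have hp : p = 0 := by
        have := congrArg π h
        rwa [map_add, hs, LinearMap.mem_ker.1 k.2, add_zero, map_zero] at this
      subst hp
      simpa using h),
    fun f => ⟨(π f, ⟨f - sec (π f), by simp [hs]⟩), by simp⟩⟩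
  obtain ⟨e⟩ := Groth.Agent.S7107.result R P (LinearMap.ker π × (ℕ →₀ R)) (P ⊕ ULift.{u} ℕ)
    ((LinearEquiv.prodAssoc R P _ _).symm.trans ((e0.prodCongr (Finsupp.domLCongr Equiv.ulift.symm)).trans
      (Finsupp.sumFinsuppLEquivProdFinsupp R).symm))
  exact ⟨P ⊕ ULift.{u} ℕ, Module.Free.of_equiv e.symm⟩

end Groth.Agent.S7108
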