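import Groth.Statements.S7112
import Groth.Agent.SerreSplit.Bass
import Mathlib.Algebra.DirectSum.Module

set_option autoImplicit false
universe u
open CAlg

namespace Groth.Agent.S7112

section
open Groth.Agent.SerreSplit.Bass

variable {R : Type u} [CommRing R] {P : Type u} [AddCommGroup P] [Module R P]

lemma big_right (hP : Big R P) {F C : Submodule R P} (h : IsCompl F C) [Module.Finite R F] : Big R C := by
  classical
  intro x hx G hG
  obtain ⟨GF, hGF⟩ := (inferInstance : Module.Finite R F).fg_top
  refine hP x hx (G.image Subtype.val ∪ GF.image Subtype.val) (eq_top_iff.2 ?_)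
  refine h.sup_eq_top.ge.trans ?_
  rw [Finset.coe_union, Submodule.span_union, Finset.coe_image, Finset.coe_image]
  have h1 : C ≤ Submodule.span R (Subtype.val '' (G : Set C)) ⊔ x • (⊤ : Submodule R P) := by
    have := congrArg (Submodule.map C.subtype) hG
    rw [Submodule.map_subtype_top, Submodule.map_sup, Submodule.map_span, Submodule.map_smul''] at this
    exact this.ge.trans (sup_le_sup le_rfl (Submodule.smul_mono le_rfl le_top))
  have h2 : F ≤ Submodule.span R (Subtype.val '' (GF : Set F)) := by
    rw [← Submodule.coe_subtype, ← Submodule.map_span, hGF, Submodule.map_subtype_top]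
  exact sup_le (le_trans (le_trans h2 le_sup_right) le_sup_left) (le_trans h1 (sup_le_sup_right le_sup_left _))

structure Stage (R P : Type u) [CommRing R] [AddCommGroup P] [Module R P] where
  F : Submodule R P
  C : Submodule R P
  compl : IsCompl F C
  fin : Module.Finite R F

theorem exists_next [IsNoetherianRing (R ⧸ (⊥ : Ideal R).jacobson)] [Module.Projective R P] (hP : Big R P)
    (S : Stage R P) (s : P) : ∃ (K : Submodule R P) (T : Stage R P), T.F = S.F ⊔ K ∧ K ≤ S.C ∧ T.C ≤ S.C ∧
      Disjoint K T.C ∧ s ∈ T.F ∧ Module.Free R K := by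
  haveI := S.fin
  haveI : Module.Projective R S.C := Module.Projective.of_split S.C.subtype
    (Submodule.projectionOnto S.C S.F S.compl.symm)
    (LinearMap.ext fun k => Submodule.projectionOnto_apply_left S.compl.symm k)
  obtain ⟨f, hf, c, hc, hfc⟩ := Submodule.mem_sup.1 (show s ∈ S.F ⊔ S.C by rw [S.compl.sup_eq_top]; trivial)
  obtain ⟨L, L', hL, hfree, hfin, hcL⟩ := exists_free_summand_self (big_right hP S.compl) (⟨c, hc⟩ : S.C)
  have hLL : L.map S.C.subtype ⊔ L'.map S.C.subtype = S.C := by
    rw [← Submodule.map_sup, hL.sup_eq_top, Submodule.map_subtype_top]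
  have hdisj : Disjoint (L.map S.C.subtype) (L'.map S.C.subtype) := by
    rw [Submodule.disjoint_def]
    rintro _ ⟨a, ha, rfl⟩ ⟨b, hb, hab⟩
    have hba : b = a := S.C.injective_subtype hab
    subst hba
    rw [Submodule.disjoint_def.1 hL.disjoint b ha hb, map_zero]
  have hle : L.map S.C.subtype ≤ S.C := Submodule.map_subtype_le _ _
  have hle' : L'.map S.C.subtype ≤ S.C := Submodule.map_subtype_le _ _
  refine ⟨L.map S.C.subtype, ⟨S.F ⊔ L.map S.C.subtype, L'.map S.C.subtype, ⟨Submodule.disjoint_def.2 ?_, ?_⟩, ?_⟩,
    rfl, hle, hle', hdisj, ?_, Module.Free.of_equiv (Submodule.equivMapOfInjective _ S.C.injective_subtype L)⟩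
  · intro z hz hz'
    obtain ⟨a, ha, b, hb, rfl⟩ := Submodule.mem_sup.1 hz
    have ha0 : a = 0 := Submodule.disjoint_def.1 S.compl.disjoint a ha (by simpa using sub_mem (hle' hz') (hle hb))
    subst ha0
    rw [zero_add] at hz' ⊢
    exact Submodule.disjoint_def.1 hdisj b hb hz'
  · rw [codisjoint_iff, sup_assoc, hLL, S.compl.sup_eq_top]
  · exact Module.Finite.iff_fg.2 ((Module.Finite.iff_fg.1 S.fin).sup ((Module.Finite.iff_fg.1 hfin).map _))
  · rw [← hfc]
    exact Submodule.add_mem_sup hf ⟨⟨c, hc⟩, hcL, rfl⟩

theorem free_of_countable [IsNoetherianRing (R ⧸ (⊥ : Ideal R).jacobson)] [Module.Projective R P] (hP : Big R P)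
    (s : ℕ → P) (hs : Submodule.span R (Set.range s) = ⊤) : Module.Free R P := by
  classical
  choose K T hTF hK hTC hdis hmem hfree using exists_next hP
  let st : ℕ → Stage R P := fun n => Nat.rec
    { F := ⊥, C := ⊤, compl := isCompl_bot_top, fin := inferInstance } (fun n S => T S (s n)) n
  let Kn : ℕ → Submodule R P := fun n => K (st n) (s n)
  have hC : ∀ m n, m ≤ n → (st n).C ≤ (st m).C := by
    intro m n h
    induction h with
    | refl => exact le_rfl
    | step _ ih => exact le_trans (hTC _ _) ih
  have hFK : ∀ n, (st n).F ≤ ⨆ (j) (_ : j < n), Kn j := by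
    intro n
    induction n with
    | zero => exact bot_le
    | succ n ih =>
      show (T (st n) (s n)).F ≤ _
      rw [hTF]
      exact sup_le (ih.trans (biSup_mono fun j hj => Nat.lt_succ_of_lt hj)) (le_iSup₂_of_le n (Nat.lt_succ_self n) le_rfl)
  have hKF : ∀ j n, j < n → Kn j ≤ (st n).F := by
    intro j n h
    induction n with
    | zero => omega
    | succ n ih =>
      show Kn j ≤ (T (st n) (s n)).F
      rw [hTF]
      rcases Nat.lt_succ_iff_lt_or_eq.1 h with h | rfl
      exacts [le_sup_of_le_left (ih h), le_sup_right]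
  have hind : iSupIndep Kn := by
    intro n
    have hle : (⨆ (j) (_ : j ≠ n), Kn j) ≤ (st n).F ⊔ (st (n + 1)).C := iSup₂_le fun j hj => by
      rcases lt_or_gt_of_ne hj with h | h
      · exact le_sup_of_le_left (hKF j n h)
      · exact le_sup_of_le_right ((hK _ _).trans (hC (n + 1) j h))
    refine Disjoint.mono_right hle (Submodule.disjoint_def.2 fun z hz hz' => ?_)
    obtain ⟨f, hf, c, hc, rfl⟩ := Submodule.mem_sup.1 hz'
    have hf0 : f = 0 := Submodule.disjoint_def.1 (st n).compl.disjoint f hf
      (by simpa using sub_mem (hK _ _ hz) (hC n (n + 1) (Nat.le_succ n) hc))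
    subst hf0
    rw [zero_add] at hz ⊢
    exact Submodule.disjoint_def.1 (hdis (st n) (s n)) c hz hc
  have htop : iSup Kn = ⊤ := by
    rw [eq_top_iff, ← hs, Submodule.span_le]
    rintro _ ⟨n, rfl⟩
    exact (iSup₂_le fun j _ => le_iSup Kn j : (⨆ (j) (_ : j < n + 1), Kn j) ≤ iSup Kn) (hFK (n + 1) (hmem (st n) (s n)))
  have hint := (DirectSum.isInternal_submodule_iff_iSupIndep_and_iSup_eq_top Kn).2 ⟨hind, htop⟩
  haveI : ∀ n, Module.Free R (Kn n) := fun n => hfree (st n) (s n)
  exact Module.Free.of_basis (hint.collectedBasis fun n => Module.Free.chooseBasis R (Kn n))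

end

/-- Commutative case of a result of Bass: let R be a ring whose quotient by its Jacobson radical is
Noetherian and P a countably generated projective R-module such that for every maximal ideal m the
localization P_m is not finitely generated over R_m (P has infinite rank everywhere). Then P is
free. -/
theorem result (R : Type u) [CommRing R]
    [IsNoetherianRing (R ⧸ (⊥ : Ideal R).jacobson)]
    (P : Type u) [AddCommGroup P] [Module R P] [Module.Projective R P]
    (hP : ∀ (m : Ideal R) [m.IsMaximal],
      ¬ Module.Finite (Localization.AtPrime m) (LocalizedModule m.primeCompl P))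
    (hc : CAlg.IsCountablyGenerated R P) : Module.Free R P := by
  obtain ⟨t, ht, htop⟩ := hc
  rcases t.eq_empty_or_nonempty with rfl | hne
  · haveI : Subsingleton P := by
      rw [← Submodule.subsingleton_iff R, ← subsingleton_iff_bot_eq_top, ← htop, Submodule.span_empty]
    exact Module.Free.of_subsingleton R P
  obtain ⟨s, rfl⟩ := ht.exists_eq_range hne
  exact free_of_countable (Groth.Agent.SerreSplit.Bass.big_of_not_finite hP) s htop

end Groth.Agent.S7112
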