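import Groth.Statements.S7113
import Groth.Agent.SerreSplit.Basic
import Mathlib.Algebra.Module.FinitePresentation
import Mathlib.Topology.KrullDimension

set_option autoImplicit false
universe u
open CAlg

namespace Groth.Agent.S7113

/-- Let R be a ring whose set of maximal ideals, with the Zariski topology, is a Noetherian topological
space of Krull dimension at most d, and let M be an R-module of finite presentation whose
localization M_m at each maximal ideal m contains a free direct summand of rank d + 1. Then M is
isomorphic to R ⊕ M' for some M': there are s in M and a linear form φ on M with φ(s) = 1. (The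
published statement takes the dimension equal to d; a space of smaller dimension satisfies the
hypothesis for a smaller d, so the bound form is equivalent.) -/
theorem result (R : Type u) [CommRing R] (d : ℕ)
    [TopologicalSpace.NoetherianSpace (MaximalSpectrum R)]
    (hdim : topologicalKrullDim (MaximalSpectrum R) ≤ d)
    (M : Type u) [AddCommGroup M] [Module R M] [Module.FinitePresentation R M]
    (hM : ∀ (m : Ideal R) [m.IsMaximal],
      ∃ (f : (Fin (d + 1) → Localization.AtPrime m) →ₗ[Localization.AtPrime m] LocalizedModule m.primeCompl M)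
        (g : LocalizedModule m.primeCompl M →ₗ[Localization.AtPrime m] (Fin (d + 1) → Localization.AtPrime m)),
        g ∘ₗ f = LinearMap.id) :
    ∃ (s : M) (φ : M →ₗ[R] R), φ s = 1 := by
  classical
  open Groth.Agent.SerreSplit in
  have hfr : ∀ x : MaximalSpectrum R, 0 + (d + 1) ≤ Module.finrank (R ⧸ x.asIdeal) (V M x) := by
    intro x
    haveI := x.isMaximal
    obtain ⟨f, g, hgf⟩ := hM x.asIdeal
    let S := x.asIdeal.primeCompl
    let L : Fin (d + 1) → (M →ₗ[R] Localization.AtPrime x.asIdeal) := fun i =>
      ((LinearMap.proj i).comp g).restrictScalars R ∘ₗ LocalizedModule.mkLinearMap S M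
    choose φ u hφ using fun i => Module.FinitePresentation.exists_lift_of_isLocalizedModule S
      (Algebra.linearMap R (Localization.AtPrime x.asIdeal)) (L i)
    choose mt hmt using fun j => IsLocalizedModule.surj S (LocalizedModule.mkLinearMap S M) (f (Pi.single j 1))
    have hd : (Matrix.of fun i j => φ i ((mt j).1)).det ∉ x.asIdeal := by
      intro hdet
      have hmap : (algebraMap R (Localization.AtPrime x.asIdeal)).mapMatrix (Matrix.of fun i j => φ i ((mt j).1)) =
          Matrix.diagonal fun j => algebraMap R (Localization.AtPrime x.asIdeal) ((u j : R) * ((mt j).2 : R)) := by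
        ext i j
        have h1 := LinearMap.congr_fun (hφ i) (mt j).1
        simp only [LinearMap.comp_apply, Algebra.linearMap_apply, LinearMap.smul_apply, L,
          LinearMap.restrictScalars_apply, LinearMap.proj_apply, Submonoid.smul_def] at h1
        rw [← hmt j, Submonoid.smul_def, ← algebraMap_smul (Localization.AtPrime x.asIdeal) ((mt j).2 : R) (f (Pi.single j 1)),
          LinearMap.map_smul, Pi.smul_apply, ← LinearMap.comp_apply, hgf, LinearMap.id_apply] at h1
        simp only [RingHom.mapMatrix_apply, Matrix.map_apply, Matrix.of_apply]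
        rw [h1, Matrix.diagonal_apply]
        rcases eq_or_ne i j with rfl | hij
        · rw [Pi.single_eq_same, if_pos rfl, map_mul, Algebra.smul_def, smul_eq_mul, mul_one]
        · rw [Pi.single_eq_of_ne hij, if_neg hij, smul_zero, smul_zero]
      have h2 := congrArg Matrix.det hmap
      rw [← RingHom.map_det, Matrix.det_diagonal] at h2
      have hu : IsUnit (∏ j, algebraMap R (Localization.AtPrime x.asIdeal) ((u j : R) * ((mt j).2 : R))) := by
        refine IsUnit.prod_iff.2 fun j _ => ?_
        exact IsLocalization.map_units (Localization.AtPrime x.asIdeal) (u j * (mt j).2)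
      rw [← h2, IsLocalization.AtPrime.isUnit_to_map_iff (Localization.AtPrime x.asIdeal) x.asIdeal] at hu
      exact hu hdet
    have hind : Ind x (fun j => (mt j).1) := ind_of_det φ hd
    letI := Ideal.Quotient.field x.asIdeal
    haveI : Module.Finite (R ⧸ x.asIdeal) (M ⧸ (x.asIdeal • ⊤ : Submodule R M)) := Module.Finite.of_restrictScalars_finite R _ _
    rw [Ind] at hind
    simpa using hind.fintype_card_le_finrank
  obtain ⟨s, F', -, -, hbad, hco⟩ := Groth.Agent.SerreSplit.exists_step (d + 1) 0 (Fin.elim0) ∅ isClosed_empty ∅
    (by simp) (fun _ => 0) hfr (fun x hx => absurd (linearIndependent_empty_type) hx)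
  have hgood : ∀ x : MaximalSpectrum R, ∃ φ : M →ₗ[R] R, φ s ∉ x.asIdeal := by
    intro x
    by_contra! hcon
    have hzero : Groth.Agent.SerreSplit.img x s = 0 := (Groth.Agent.SerreSplit.img_eq_zero x).2 hcon
    have hnot : ¬ Groth.Agent.SerreSplit.Ind x (Fin.snoc Fin.elim0 s : Fin 1 → M) := fun h => by
      letI := Ideal.Quotient.field x.asIdeal
      exact h.ne_zero 0 (by simpa [Fin.snoc] using hzero)
    have hx : x ∈ F' := (hbad x hnot).resolve_left (Set.notMem_empty x)
    let Z : TopologicalSpace.IrreducibleCloseds (MaximalSpectrum R) := ⟨{x}, isIrreducible_singleton, isClosed_singleton⟩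
    have h1 := hco Z (Set.singleton_subset_iff.2 hx)
    have h2 : ((Order.coheight Z : ℕ∞) : WithBot ℕ∞) ≤ ((d : ℕ∞) : WithBot ℕ∞) :=
      (Order.coheight_le_krullDim Z).trans hdim
    have := ENat.coe_le_coe.1 (h1.trans (WithBot.coe_le_coe.1 h2))
    omega
  let I : Ideal R := LinearMap.range (LinearMap.applyₗ (R := R) (M := M) (M₂ := R) s)
  have hI : I = ⊤ := by
    by_contra hne
    obtain ⟨m, hm, hIm⟩ := Ideal.exists_le_maximal I hne
    obtain ⟨φ, hφ⟩ := hgood ⟨m, hm⟩
    exact hφ (hIm ⟨φ, rfl⟩)
  obtain ⟨φ, hφ⟩ : (1 : R) ∈ I := by rw [hI]; trivial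
  exact ⟨s, φ, hφ⟩

end Groth.Agent.S7113
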