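import Groth.Statements.S7114
import Mathlib.RingTheory.Length
import Mathlib.RingTheory.Ideal.Quotient.Basic
import Mathlib.RingTheory.Ideal.Span

set_option autoImplicit false
universe u
open CAlg

namespace Groth.Agent.S7114

theorem step {R : Type u} [CommRing R] (x : R) (n : ℕ) :
    ∃ (f : (R ⧸ Ideal.span {x ^ n}) →ₗ[R] R ⧸ Ideal.span {x ^ (n + 1)}) (g : (R ⧸ Ideal.span {x ^ (n + 1)}) →ₗ[R] R ⧸ Ideal.span {x}),
      Function.Surjective g ∧ Function.Exact f g ∧ (x ∈ nonZeroDivisors R → Function.Injective f) := by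
  have hf : Ideal.span {x ^ n} ≤ LinearMap.ker ((Submodule.mkQ (Ideal.span {x ^ (n + 1)})).comp (LinearMap.mulLeft R x)) := by
    rw [Ideal.span_le, Set.singleton_subset_iff, SetLike.mem_coe, LinearMap.mem_ker, LinearMap.comp_apply, Submodule.mkQ_apply,
      Submodule.Quotient.mk_eq_zero, LinearMap.mulLeft_apply, ← pow_succ']
    exact Ideal.mem_span_singleton_self _
  have hg : Ideal.span {x ^ (n + 1)} ≤ LinearMap.ker (Submodule.mkQ (Ideal.span {x})) := by
    rw [Submodule.ker_mkQ, Ideal.span_singleton_le_span_singleton, pow_succ']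
    exact dvd_mul_right _ _
  refine ⟨Submodule.liftQ _ _ hf, Submodule.liftQ _ _ hg, fun y => ?_, fun y => ?_, fun hx => ?_⟩
  · obtain ⟨a, rfl⟩ := Submodule.mkQ_surjective _ y
    exact ⟨Submodule.mkQ _ a, rfl⟩
  · obtain ⟨a, rfl⟩ := Submodule.mkQ_surjective _ y
    constructor
    · intro ha
      obtain ⟨b, rfl⟩ := Ideal.mem_span_singleton.1 ((Submodule.Quotient.mk_eq_zero _).1 ha)
      exact ⟨Submodule.mkQ _ b, rfl⟩
    · rintro ⟨z, hz⟩
      obtain ⟨b, rfl⟩ := Submodule.mkQ_surjective _ z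
      rw [← hz]
      exact (Submodule.Quotient.mk_eq_zero _).2 (Ideal.mem_span_singleton.2 (dvd_mul_right x b))
  · rw [injective_iff_map_eq_zero]
    intro z hz
    obtain ⟨b, rfl⟩ := Submodule.mkQ_surjective _ z
    obtain ⟨c, hc⟩ := Ideal.mem_span_singleton.1 ((Submodule.Quotient.mk_eq_zero _).1 hz)
    refine (Submodule.Quotient.mk_eq_zero _).2 (Ideal.mem_span_singleton.2 ⟨c, ?_⟩)
    have h0 : x * (b - x ^ n * c) = 0 := by
      rw [mul_sub, ← mul_assoc, ← pow_succ', sub_eq_zero]; exact hc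
    exact sub_eq_zero.1 ((mem_nonZeroDivisors_iff_right.1 hx) _ (by rwa [mul_comm]))


/-- Let R be a Noetherian local ring of Krull dimension one and x an element of the maximal ideal lying
in no minimal prime of R. Then for every n the length of R/xⁿR is at most n times the length of
R/xR, and equality holds when x is a nonzerodivisor. -/
theorem result (R : Type u) [CommRing R] [IsNoetherianRing R] [IsLocalRing R]
    (hdim : ringKrullDim R = 1) (x : R) (hx : x ∈ IsLocalRing.maximalIdeal R)
    (hmin : ∀ p ∈ minimalPrimes R, x ∉ p) (n : ℕ) :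
    Module.length R (R ⧸ Ideal.span {x ^ n}) ≤ (n : ℕ∞) * Module.length R (R ⧸ Ideal.span {x}) ∧
      (x ∈ nonZeroDivisors R →
        Module.length R (R ⧸ Ideal.span {x ^ n}) = (n : ℕ∞) * Module.length R (R ⧸ Ideal.span {x})) := by
  induction n with
  | zero =>
    haveI : Subsingleton (R ⧸ Ideal.span {x ^ 0}) := by
      rw [pow_zero, Ideal.span_singleton_one]; exact Ideal.Quotient.subsingleton_iff.2 rfl
    simp [Module.length_eq_zero]
  | succ n ih =>
    obtain ⟨f, g, hg, hex, hfi⟩ := step x n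
    have h1 : Module.length R (R ⧸ Ideal.span {x ^ (n + 1)}) =
        Module.length R (LinearMap.range f) + Module.length R (R ⧸ Ideal.span {x}) :=
      Module.length_eq_add_of_exact (LinearMap.range f).subtype g (Submodule.subtype_injective _) hg
        (fun y => ⟨fun hy => ⟨⟨y, (hex y).1 hy⟩, rfl⟩, by rintro ⟨⟨z, hz⟩, rfl⟩; exact (hex z).2 hz⟩)
    rw [Nat.cast_succ, add_mul, one_mul, h1]
    refine ⟨add_le_add ((Module.length_le_of_surjective f.rangeRestrict f.surjective_rangeRestrict).trans ih.1) le_rfl, fun hxr => ?_⟩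
    rw [← (LinearEquiv.ofInjective f (hfi hxr)).length_eq, ih.2 hxr]

end Groth.Agent.S7114
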