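import Groth.Statements.S7120
import Mathlib.RingTheory.Bezout
import Mathlib.RingTheory.Finiteness.Finsupp
import Mathlib.Algebra.Module.Projective
import Mathlib.LinearAlgebra.FreeModule.Finite.Basic
import Mathlib.LinearAlgebra.Basis.Prod

set_option autoImplicit false
universe u
open CAlg

namespace Groth.Agent.S7120

theorem aux (R : Type u) [CommRing R] [IsDomain R] [IsBezout R] : ∀ (n : ℕ) {M : Type u} [AddCommGroup M]
    [Module R M] [Module.Finite R M] (g : M →ₗ[R] (Fin n → R)), Function.Injective g → Module.Free R M := by
  intro n
  induction n with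
  | zero =>
    intro M _ _ _ g hg
    haveI : Subsingleton M := hg.subsingleton
    exact Module.Free.of_subsingleton R M
  | succ n ih =>
    intro M _ _ _ g hg
    let f : M →ₗ[R] R := (LinearMap.proj 0).comp g
    have hfg : (LinearMap.range f).FG := Module.Finite.iff_fg.mp (Module.Finite.range f)
    obtain ⟨a, ha⟩ := (IsBezout.isPrincipal_of_FG _ hfg).principal
    haveI : Module.Free R (LinearMap.range f) := by
      rw [ha]
      rcases eq_or_ne a 0 with rfl | ha0
      · haveI : Subsingleton (Submodule.span R ({0} : Set R)) := by
          rw [Submodule.span_zero_singleton]; infer_instance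
        exact Module.Free.of_subsingleton R _
      · exact Module.Free.of_equiv (LinearEquiv.toSpanNonzeroSingleton R R a ha0)
    obtain ⟨s, hs⟩ := Module.projective_lifting_property f.rangeRestrict LinearMap.id f.surjective_rangeRestrict
    have hs' : ∀ r, f.rangeRestrict (s r) = r := fun r => LinearMap.congr_fun hs r
    let p : M →ₗ[R] LinearMap.ker f.rangeRestrict :=
      LinearMap.codRestrict _ (LinearMap.id - s ∘ₗ f.rangeRestrict) (fun m => LinearMap.mem_ker.2 (by
        rw [LinearMap.sub_apply, map_sub, LinearMap.id_apply, LinearMap.comp_apply, hs', sub_self]))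
    have hp : Function.Surjective p := fun k => ⟨k.1, Subtype.ext (by
      have := LinearMap.mem_ker.1 k.2
      simp [p, this])⟩
    haveI : Module.Finite R (LinearMap.ker f.rangeRestrict) := Module.Finite.of_surjective p hp
    haveI : Module.Free R (LinearMap.ker f.rangeRestrict) := by
      refine ih ((LinearMap.funLeft R R Fin.succ).comp (g.comp (Submodule.subtype _))) ?_
      intro x y hxy
      apply Subtype.ext
      apply hg
      funext i
      refine Fin.cases ?_ ?_ i
      · have h1 := congrArg Subtype.val (LinearMap.mem_ker.1 x.2)
        have h2 := congrArg Subtype.val (LinearMap.mem_ker.1 y.2)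
        exact h1.trans h2.symm
      · intro j; exact congrFun hxy j
    let e : M ≃ₗ[R] LinearMap.ker f.rangeRestrict × LinearMap.range f :=
      LinearEquiv.ofLinearMap (p.prod f.rangeRestrict)
        ((Submodule.subtype _).coprod s)
        (by
          refine LinearMap.ext fun x => ?_
          obtain ⟨k, r⟩ := x
          have := LinearMap.mem_ker.1 k.2
          refine Prod.ext (Subtype.ext ?_) ?_ <;> simp [p, map_add, hs', this])
        (by
          refine LinearMap.ext fun x => ?_
          simp [p])
    exact Module.Free.of_equiv e.symm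


/-- Over a Bézout domain, a finitely generated submodule of a free module is itself free of finite rank. -/
theorem result (R : Type u) [CommRing R] [IsDomain R] [IsBezout R]
    (F : Type u) [AddCommGroup F] [Module R F] [Module.Free R F] (N : Submodule R F) (hN : N.FG) :
    Module.Free R N ∧ Module.Finite R N := by
  haveI hfin : Module.Finite R N := Module.Finite.iff_fg.mpr hN
  classical
  let b := Module.Free.chooseBasis R F
  obtain ⟨s, hs⟩ := hN
  let T : Finset (Module.Free.ChooseBasisIndex R F) := s.biUnion fun x => (b.repr x).support
  let g0 : F →ₗ[R] (T → R) := LinearMap.pi fun i => (Finsupp.lapply i.1).comp b.repr.toLinearMap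
  have hsupp : N ≤ (Finsupp.supported R R (T : Set _)).comap b.repr.toLinearMap := by
    rw [← hs, Submodule.span_le]
    intro x hx
    simp only [SetLike.mem_coe, Submodule.mem_comap, Finsupp.mem_supported]
    intro i hi
    exact Finset.mem_coe.2 (Finset.mem_biUnion.2 ⟨x, hx, hi⟩)
  refine ⟨aux R (Fintype.card T)
    ((LinearEquiv.funCongrLeft R R (Fintype.equivFin T).symm).toLinearMap ∘ₗ g0 ∘ₗ N.subtype) ?_, hfin⟩
  rw [← LinearMap.ker_eq_bot, LinearMap.ker_eq_bot']
  intro x hx
  have h0 : g0 x.1 = 0 := (LinearEquiv.funCongrLeft R R (Fintype.equivFin T).symm).map_eq_zero_iff.1 hx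
  apply Subtype.ext
  apply b.repr.injective
  ext i
  by_cases hi : i ∈ T
  · simpa [g0] using congrFun h0 ⟨i, hi⟩
  · have := (Finsupp.mem_supported' R _).1 (hsupp x.2) i (by simpa using hi)
    simpa using this

end Groth.Agent.S7120
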