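import Groth.Statements.S7122
import Groth.Agent.S7120
import Mathlib.LinearAlgebra.Basis.Fin
import Mathlib.LinearAlgebra.Dimension.Constructions
import Mathlib.LinearAlgebra.Matrix.Basis
import Mathlib.LinearAlgebra.FreeModule.StrongRankCondition
import Mathlib.LinearAlgebra.Matrix.NonsingularInverse
import Mathlib.RingTheory.Finiteness.Basic

set_option autoImplicit false
universe u
open CAlg

namespace Groth.Agent.S7122

/-- Let R be a Bézout domain, n ≥ 1, and f_1, ..., f_n elements generating the unit ideal. Then some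
invertible n × n matrix over R has (f_1, ..., f_n) as its first row. -/
theorem result (R : Type u) [CommRing R] [IsDomain R] [IsBezout R]
    (n : ℕ) (f : Fin (n + 1) → R) (hf : Ideal.span (Set.range f) = ⊤) :
    ∃ A : Matrix (Fin (n + 1)) (Fin (n + 1)) R, IsUnit A.det ∧ A 0 = f := by
  classical
  obtain ⟨c, hc⟩ := (Ideal.mem_span_range_iff_exists_fun).1 ((Ideal.eq_top_iff_one _).1 hf)
  let φ : (Fin (n + 1) → R) →ₗ[R] R := ∑ i, c i • LinearMap.proj i
  have hφ : φ f = 1 := by simpa [φ, LinearMap.sum_apply] using hc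
  let π : (Fin (n + 1) → R) →ₗ[R] LinearMap.ker φ :=
    LinearMap.codRestrict _ (LinearMap.id - φ.smulRight f) fun x => by
      rw [LinearMap.mem_ker, LinearMap.sub_apply, map_sub, LinearMap.id_apply, LinearMap.smulRight_apply, map_smul,
        hφ, smul_eq_mul, mul_one, sub_self]
  have hπ : Function.Surjective π := fun k => ⟨k.1, Subtype.ext (by simp [π, LinearMap.mem_ker.1 k.2])⟩
  have hfg : (LinearMap.ker φ).FG := Module.Finite.iff_fg.mp (Module.Finite.of_surjective π hπ)
  obtain ⟨hfree, hfin⟩ := Groth.Agent.S7120.result R (Fin (n + 1) → R) (LinearMap.ker φ) hfg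
  let e : (Fin (n + 1) → R) ≃ₗ[R] R × LinearMap.ker φ :=
    LinearEquiv.ofLinearMap (φ.prod π) ((LinearMap.toSpanSingleton R _ f).coprod (Submodule.subtype _))
      (LinearMap.ext fun x => by
        obtain ⟨r, k⟩ := x
        have hk := LinearMap.mem_ker.1 k.2
        exact Prod.ext (by simp [hφ, hk]) (Subtype.ext (by simp [π, hφ, hk])))
      (LinearMap.ext fun x => by simp [π])
  have hrank : Module.finrank R (LinearMap.ker φ) = n := by
    have h1 := e.finrank_eq
    rw [Module.finrank_fin_fun, Module.finrank_prod, Module.finrank_self] at h1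
    omega
  let b := Module.Basis.mkFinCons f (Module.finBasisOfFinrankEq R (LinearMap.ker φ) hrank)
    (fun a x hx h => by
      have := congrArg φ h
      rwa [map_add, map_smul, hφ, LinearMap.mem_ker.1 hx, map_zero, add_zero, smul_eq_mul, mul_one] at this)
    (fun z => ⟨-φ z, by rw [LinearMap.mem_ker, map_add, map_smul, hφ, smul_eq_mul, mul_one, add_neg_cancel]⟩)
  let P := (Pi.basisFun R (Fin (n + 1))).toMatrix b
  refine ⟨P.transpose, ?_, ?_⟩
  · rw [Matrix.det_transpose]
    haveI := (Pi.basisFun R (Fin (n + 1))).invertibleToMatrix b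
    exact Matrix.isUnit_det_of_invertible P
  · funext j
    simp [P, Module.Basis.toMatrix_apply, b]

end Groth.Agent.S7122
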