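import Groth.Statements.S7124
import Mathlib.RingTheory.Valuation.ValuationRing
import Mathlib.LinearAlgebra.Dimension.Finite
import Mathlib.LinearAlgebra.Dimension.Finrank
import Mathlib.LinearAlgebra.FreeModule.Finite.Basic
import Mathlib.GroupTheory.Index
import Mathlib.Tactic.Group
import Mathlib.Data.Fintype.EquivFin
import Mathlib.RingTheory.LocalRing.ResidueField.Basic

set_option autoImplicit false
universe u
open CAlg

namespace Groth.Agent.S7124


theorem exists_algebraMap_eq_of_valuation {A B K L : Type u} [CommRing A] [IsDomain A]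
    [ValuationRing A] [CommRing B] [IsDomain B] [ValuationRing B] [Field K] [Field L]
    [Algebra A K] [IsFractionRing A K] [Algebra B L] [IsFractionRing B L] [Algebra A B] [Algebra K L]
    [Algebra A L] [IsScalarTower A K L] [IsScalarTower A B L] [IsLocalHom (algebraMap A B)]
    (x : K) (hx : ValuationRing.valuation B L (algebraMap K L x) ≤ 1) : ∃ a : A, algebraMap A K a = x := by
  rcases ValuationRing.isInteger_or_isInteger A x with ⟨a, ha⟩ | ⟨a, ha⟩
  · exact ⟨a, ha⟩
  · by_cases hx0 : x = 0
    · exact ⟨0, by rw [hx0, map_zero]⟩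
    obtain ⟨b, hb⟩ := (ValuationRing.mem_integer_iff B L _).mp hx
    have hu : IsUnit (algebraMap A B a) := by
      refine IsUnit.of_mul_eq_one b (IsFractionRing.injective B L ?_)
      rw [map_mul, map_one, hb, ← IsScalarTower.algebraMap_apply A B L, IsScalarTower.algebraMap_apply A K L, ha,
        ← map_mul, inv_mul_cancel₀ hx0, map_one]
    obtain ⟨w, rfl⟩ := isUnit_of_map_unit (algebraMap A B) a hu
    refine ⟨↑w⁻¹, ?_⟩
    have : algebraMap A K ↑w⁻¹ * x⁻¹ = 1 := by rw [← ha, ← map_mul, Units.inv_mul, map_one]
    exact (mul_inv_eq_one₀ hx0).mp this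

theorem linearIndependent_of_distinct {A B K L : Type u} [CommRing A] [IsDomain A]
    [ValuationRing A] [CommRing B] [IsDomain B] [ValuationRing B] [Field K] [Field L]
    [Algebra A K] [IsFractionRing A K] [Algebra B L] [IsFractionRing B L] [Algebra A B] [Algebra K L]
    [Algebra A L] [IsScalarTower A K L] [IsScalarTower A B L] [IsLocalHom (algebraMap A B)]
    {S T : Type u} [Fintype S] [Fintype T] (g : S → Lˣ) (b : T → B)
    (hg : ∀ s s' (c : Kˣ) (u : Bˣ), Units.map (algebraMap B L).toMonoidHom u =
      (Units.map (algebraMap K L).toMonoidHom c)⁻¹ * ((g s)⁻¹ * g s') → s = s')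
    (hb : LinearIndependent (IsLocalRing.ResidueField A) fun t => IsLocalRing.residue B (b t)) :
    LinearIndependent K fun st : S × T => (g st.1 : L) * algebraMap B L (b st.2) := by
  classical
  let v := ValuationRing.valuation B L
  have hint : ∀ z : B, v (algebraMap B L z) ≤ 1 := fun z => (ValuationRing.mem_integer_iff B L _).mpr ⟨z, rfl⟩
  have hunit : ∀ z : B, IsUnit z → v (algebraMap B L z) = 1 := fun z hz => by
    refine le_antisymm (hint z) ?_
    obtain ⟨w, hw⟩ := hz.exists_right_inv
    calc (1 : _) = v (algebraMap B L z) * v (algebraMap B L w) := by rw [← map_mul, ← map_mul, hw, map_one, map_one]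
      _ ≤ v (algebraMap B L z) := mul_le_of_le_one_right' (hint w)
  have hinner : ∀ (c : T → K), c ≠ 0 → ∃ t, c t ≠ 0 ∧
      v (∑ t', algebraMap K L (c t') * algebraMap B L (b t')) = v (algebraMap K L (c t)) := by
    intro c hc
    obtain ⟨t₁, ht₁⟩ := Function.ne_iff.mp hc
    obtain ⟨t, -, ht⟩ := Finset.exists_max_image Finset.univ (fun t => v (algebraMap K L (c t))) ⟨t₁, Finset.mem_univ _⟩
    have hct : c t ≠ 0 := fun h0 => by
      have := ht t₁ (Finset.mem_univ _)
      rw [h0, map_zero, map_zero, le_zero_iff, Valuation.zero_iff, map_eq_zero] at this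
      exact ht₁ this
    refine ⟨t, hct, ?_⟩
    have hr : ∀ t', ∃ a : A, algebraMap A K a = c t' / c t := fun t' => by
      refine exists_algebraMap_eq_of_valuation (B := B) (L := L) _ ?_
      rw [map_div₀, map_div₀]
      exact div_le_one_of_le₀ (ht t' (Finset.mem_univ _)) zero_le
    choose a ha using hr
    have hsum : ∑ t', algebraMap K L (c t') * algebraMap B L (b t') =
        algebraMap K L (c t) * algebraMap B L (∑ t', algebraMap A B (a t') * b t') := by
      rw [map_sum, Finset.mul_sum]
      refine Finset.sum_congr rfl fun t' _ => ?_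
      rw [map_mul, ← IsScalarTower.algebraMap_apply A B L, IsScalarTower.algebraMap_apply A K L, ha, map_div₀]
      field_simp [(map_ne_zero (algebraMap K L)).mpr hct]
    have hz : IsUnit (∑ t', algebraMap A B (a t') * b t') := by
      rw [← IsLocalRing.residue_ne_zero_iff_isUnit, map_sum]
      intro h0
      have h1 := Fintype.linearIndependent_iff.mp hb (fun t' => IsLocalRing.residue A (a t')) (by
        simpa [Algebra.smul_def, IsLocalRing.ResidueField.algebraMap_eq, map_mul] using h0) t
      have : a t = 1 := IsFractionRing.injective A K (by rw [ha, map_one, div_self hct])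
      rw [this, map_one] at h1
      exact one_ne_zero h1
    rw [hsum, map_mul, hunit _ hz, mul_one]
  rw [Fintype.linearIndependent_iff]
  intro c hc st
  by_contra hne
  let w : S → L := fun s => (g s : L) * ∑ t, algebraMap K L (c (s, t)) * algebraMap B L (b t)
  have hw : ∑ s, w s = 0 := by
    rw [← hc, Fintype.sum_prod_type]
    refine Finset.sum_congr rfl fun s _ => ?_
    simp only [w, Finset.mul_sum, Algebra.smul_def]
    exact Finset.sum_congr rfl fun t _ => by ring
  obtain ⟨s₀, -, hs₀⟩ := Finset.exists_max_image Finset.univ (fun s => v (w s)) ⟨st.1, Finset.mem_univ _⟩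
  have hwne : ∀ s, (fun t => c (s, t)) ≠ 0 → v (w s) ≠ 0 := fun s hs => by
    obtain ⟨t, ht0, ht⟩ := hinner _ hs
    simp only [w, map_mul, ht]
    exact mul_ne_zero (by simp) (by simp [ht0])
  have h0 : v (w s₀) ≠ 0 := fun h => by
    have := hs₀ st.1 (Finset.mem_univ _)
    rw [h, le_zero_iff] at this
    exact hwne st.1 (fun h' => hne (congrFun h' st.2)) this
  have hlt : ∀ s ∈ Finset.univ \ {s₀}, v (w s) < v (w s₀) := by
    intro s hs
    have hss : s ≠ s₀ := by simpa using hs
    refine lt_of_le_of_ne (hs₀ s (Finset.mem_univ _)) fun heq => ?_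
    have hc0 : ∀ s, v (w s) ≠ 0 → (fun t => c (s, t)) ≠ 0 := fun s h h' => h (by
      simp only [w]; simp [fun t => congrFun h' t])
    obtain ⟨t, ht0, ht⟩ := hinner _ (hc0 s (heq ▸ h0))
    obtain ⟨t', ht0', ht'⟩ := hinner _ (hc0 s₀ h0)
    simp only [w, map_mul, ht, ht'] at heq
    let cs : Kˣ := Units.mk0 (c (s, t) / c (s₀, t')) (div_ne_zero ht0 ht0')
    let z : L := (algebraMap K L cs)⁻¹ * ((g s : L)⁻¹ * (g s₀ : L))
    have hz : v z = 1 := by
      simp only [z, cs, Units.val_mk0, map_mul, map_inv₀, map_div₀]
      have h1 : v (algebraMap K L (c (s, t))) ≠ 0 := by simp [ht0]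
      have h2 : v (algebraMap K L (c (s₀, t'))) ≠ 0 := by simp [ht0']
      have h3 : v (g s : L) ≠ 0 := by simp
      field_simp
      rw [mul_comm, ← heq, mul_comm]
    obtain ⟨u, hu⟩ := (ValuationRing.mem_integer_iff B L z).mp hz.le
    obtain ⟨u', hu'⟩ := (ValuationRing.mem_integer_iff B L z⁻¹).mp (by
      show v z⁻¹ ≤ 1
      rw [map_inv₀, hz, inv_one])
    have hz0 : z ≠ 0 := fun h => by rw [h, map_zero] at hz; exact zero_ne_one hz
    have huu : u * u' = 1 := IsFractionRing.injective B L (by rw [map_mul, hu, hu', mul_inv_cancel₀ hz0, map_one])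
    refine hss (hg s s₀ cs (Units.mkOfMulEqOne u u' huu) (Units.ext ?_))
    simpa [z] using hu
  have h4 := v.map_sum_eq_of_lt (Finset.mem_univ s₀) hlt
  rw [hw, map_zero] at h4
  exact h0 h4.symm

/-- Let A ⊆ B be an extension of valuation rings (both valuation domains, the inclusion injective and
local) with fraction fields K ⊆ L such that L/K is finite. Then the residue field of B is finite
over that of A, the value group of A has finite index in the value group of B, and (index of value
groups) · (residue degree) ≤ [L : K]. Here the value group of B is written as Lˣ modulo the units of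
B, and that of A as the image of Kˣ in it. -/
theorem result (A B K L : Type u) [CommRing A] [IsDomain A]
    [ValuationRing A] [CommRing B] [IsDomain B] [ValuationRing B] [Field K] [Field L]
    [Algebra A K] [IsFractionRing A K] [Algebra B L] [IsFractionRing B L] [Algebra A B] [Algebra K L]
    [Algebra A L] [IsScalarTower A K L] [IsScalarTower A B L] (hinj : Function.Injective (algebraMap A B))
    [IsLocalHom (algebraMap A B)] [FiniteDimensional K L] :
    let UB : Subgroup Lˣ := (Units.map (algebraMap B L).toMonoidHom).range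
    let ΓA : Subgroup (Lˣ ⧸ UB) := ((QuotientGroup.mk' UB).comp (Units.map (algebraMap K L).toMonoidHom)).range
    Module.Finite (IsLocalRing.ResidueField A) (IsLocalRing.ResidueField B) ∧ ΓA.index ≠ 0 ∧
      ΓA.index * Module.finrank (IsLocalRing.ResidueField A) (IsLocalRing.ResidueField B) ≤
        Module.finrank K L := by
  intro UB ΓA
  classical
  have key : ∀ (S : Finset ((Lˣ ⧸ UB) ⧸ ΓA)) (T : Finset (IsLocalRing.ResidueField B)),
      LinearIndependent (IsLocalRing.ResidueField A) (fun t : T => (t : IsLocalRing.ResidueField B)) →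
      S.card * T.card ≤ Module.finrank K L := by
    intro S T hT
    choose g hg using fun s : S => QuotientGroup.mk_surjective s.1
    choose g' hg' using fun s : S => QuotientGroup.mk_surjective (g s)
    choose b hb using fun t : T => IsLocalRing.residue_surjective (t : IsLocalRing.ResidueField B)
    have hli : LinearIndependent K (fun st : S × T => (g' st.1 : L) * algebraMap B L (b st.2)) := by
      refine linearIndependent_of_distinct (A := A) (B := B) (K := K) g' b ?_ (by simpa only [hb] using hT)
      intro s s' c u h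
      apply Subtype.ext
      rw [← hg s, ← hg s', QuotientGroup.eq, ← hg' s, ← hg' s']
      refine ⟨c, ?_⟩
      show (QuotientGroup.mk (Units.map (algebraMap K L).toMonoidHom c) : Lˣ ⧸ UB) = _
      rw [← QuotientGroup.mk_inv, ← QuotientGroup.mk_mul, QuotientGroup.eq]
      refine ⟨u, ?_⟩
      rw [h]
    simpa using hli.fintype_card_le_finrank
  have hrank : Module.rank (IsLocalRing.ResidueField A) (IsLocalRing.ResidueField B) ≤ Module.finrank K L := by
    refine _root_.rank_le fun T hT => ?_
    simpa using key {QuotientGroup.mk (QuotientGroup.mk (1 : Lˣ))} T hT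
  haveI : Module.Finite (IsLocalRing.ResidueField A) (IsLocalRing.ResidueField B) :=
    Module.rank_lt_aleph0_iff.mp (hrank.trans_lt Cardinal.natCast_lt_aleph0)
  let bT := Module.finBasis (IsLocalRing.ResidueField A) (IsLocalRing.ResidueField B)
  let T := Finset.univ.image bT
  have hT : LinearIndependent (IsLocalRing.ResidueField A) (fun t : T => (t : IsLocalRing.ResidueField B)) := by
    have h := bT.linearIndependent.linearIndepOn_id
    have : (T : Set (IsLocalRing.ResidueField B)) = Set.range bT := by simp [T]
    exact h.mono this.le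
  have hTc : T.card = Module.finrank (IsLocalRing.ResidueField A) (IsLocalRing.ResidueField B) := by
    rw [Finset.card_image_of_injective _ bT.injective]; simp
  have hpos : 0 < T.card := hTc ▸ Module.finrank_pos
  haveI : Fintype ((Lˣ ⧸ UB) ⧸ ΓA) := fintypeOfFinsetCardLe (Module.finrank K L) fun S =>
    (Nat.le_mul_of_pos_right _ hpos).trans (key S T hT)
  refine ⟨inferInstance, ?_, ?_⟩
  · rw [Subgroup.index_eq_card]; exact Nat.card_pos.ne'
  · rw [Subgroup.index_eq_card, Nat.card_eq_fintype_card, ← hTc]
    exact key Finset.univ T hT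

end Groth.Agent.S7124
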