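import Groth.Statements.S7125
import Groth.Agent.Misc9.NormalHartogs
import Mathlib.RingTheory.DiscreteValuationRing.TFAE
import Mathlib.RingTheory.Flat.FaithfullyFlat.Algebra
import Mathlib.LinearAlgebra.TensorProduct.Quotient
import Mathlib.RingTheory.Ideal.AssociatedPrime.Finiteness

set_option autoImplicit false
universe u
open CAlg

namespace Groth.Agent.S7125

open scoped TensorProduct

theorem isDomain_loc {A : Type u} [CommRing A] [IsDomain A] (p : Ideal A) [p.IsPrime] : IsDomain (Localization.AtPrime p) :=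
  IsLocalization.isDomain_localization p.primeCompl_le_nonZeroDivisors

theorem dvr_of_height_one {A : Type u} [CommRing A] [IsDomain A] [IsNoetherianRing A] [IsIntegrallyClosed A]
    (p : Ideal A) [p.IsPrime] [IsDomain (Localization.AtPrime p)] (h : p.height = 1) :
    IsDiscreteValuationRing (Localization.AtPrime p) := by
  haveI : IsIntegrallyClosed (Localization.AtPrime p) :=
    isIntegrallyClosed_of_isLocalization _ p.primeCompl p.primeCompl_le_nonZeroDivisors
  haveI : IsNoetherianRing (Localization.AtPrime p) := IsLocalization.isNoetherianRing p.primeCompl _ inferInstance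
  haveI hK : Ring.KrullDimLE 1 (Localization.AtPrime p) := Ring.krullDimLE_iff.2 <| by
    rw [IsLocalization.AtPrime.ringKrullDim_eq_height p, h]; rfl
  haveI : Ring.DimensionLEOne (Localization.AtPrime p) :=
    ⟨fun {q} hq hqp => Ring.krullDimLE_one_iff_of_noZeroDivisors.1 inferInstance q hq hqp⟩
  haveI : IsDedekindDomain (Localization.AtPrime p) :=
    { toIsNoetherian := inferInstance, toDimensionLEOne := inferInstance, toIsIntegralClosure := inferInstance }
  have hnf : ¬ IsField (Localization.AtPrime p) := fun hf => by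
    have hbot : p = ⊥ := by
      rw [eq_bot_iff]
      intro x hx
      have hm : algebraMap A (Localization.AtPrime p) x ∈ IsLocalRing.maximalIdeal _ := by
        rw [← Localization.AtPrime.map_eq_maximalIdeal]; exact Ideal.mem_map_of_mem _ hx
      rw [IsLocalRing.isField_iff_maximalIdeal_eq.1 hf, Submodule.mem_bot] at hm
      exact IsLocalization.injective _ p.primeCompl_le_nonZeroDivisors (hm.trans (map_zero _).symm)
    subst hbot
    rw [Ideal.height_bot] at h
    exact zero_ne_one h
  exact ((IsDiscreteValuationRing.TFAE (Localization.AtPrime p) hnf).out 0 2).2 this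

theorem one_tmul_eq_zero {A : Type u} [CommRing A] {N : Type u} [AddCommGroup N] [Module A N] {I : Ideal A} {n : N} :
    (1 : A ⧸ I) ⊗ₜ[A] n = 0 ↔ n ∈ I • (⊤ : Submodule A N) := by
  rw [← (TensorProduct.quotTensorEquivQuotSMul N I).map_eq_zero_iff]
  rw [show (1 : A ⧸ I) = Ideal.Quotient.mk I 1 from rfl, TensorProduct.quotTensorEquivQuotSMul_mk_tmul, one_smul,
    Submodule.Quotient.mk_eq_zero]


/-- Let A and B be Noetherian local normal domains and A → B a flat homomorphism that is local, and let
f in A, h in B, n > 1 and a unit w of B satisfy f = w·hⁿ in B. Assume that for every height-one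
prime p of A there is a height-one prime q of B lying over p such that A_p ⊆ B_q is weakly
unramified, i.e. p generates the maximal ideal of B_q. Then f = u·gⁿ for some g in A and some unit u
of A. -/
theorem result (A B : Type u) [CommRing A] [IsDomain A]
    [IsNoetherianRing A] [IsLocalRing A] [IsIntegrallyClosed A] [CommRing B] [IsDomain B] [IsNoetherianRing B]
    [IsLocalRing B] [IsIntegrallyClosed B] [Algebra A B] [IsLocalHom (algebraMap A B)] [Module.Flat A B]
    (f : A) (h : B) (n : ℕ) (hn : 1 < n) (w : Bˣ) (hf : algebraMap A B f = (w : B) * h ^ n)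
    (hram : ∀ (p : Ideal A) [p.IsPrime], p.height = 1 →
      ∃ (q : Ideal B) (_ : q.IsPrime), q.height = 1 ∧ q.comap (algebraMap A B) = p ∧
        Ideal.map (algebraMap B (Localization.AtPrime q)) (Ideal.map (algebraMap A B) p) =
          IsLocalRing.maximalIdeal (Localization.AtPrime q)) :
    ∃ (g : A) (u : Aˣ), f = (u : A) * g ^ n := by
  classical
  let φ := algebraMap A B
  haveI : Module.FaithfullyFlat A B := Module.FaithfullyFlat.of_flat_of_isLocalHom
  have hdvd : ∀ a b : A, φ a ∣ φ b → a ∣ b := fun a b h => by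
    have hb : b ∈ ((Ideal.span {a}).map φ).comap φ := by
      rw [Ideal.mem_comap, Ideal.map_span, Set.image_singleton, Ideal.mem_span_singleton]
      exact h
    rwa [Ideal.comap_map_eq_self_of_faithfullyFlat, Ideal.mem_span_singleton] at hb
  have hn0 : n ≠ 0 := by omega
  rcases eq_or_ne f 0 with rfl | hf0
  · exact ⟨0, 1, by simp [hn0]⟩
  let I : Ideal A := (Ideal.span {h}).comap φ
  have hI : ∀ x, x ∈ I ↔ f ∣ x ^ n := fun x => by
    rw [Ideal.mem_comap, Ideal.mem_span_singleton, ← IsIntegrallyClosed.pow_dvd_pow_iff hn0, ← map_pow]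
    constructor
    · intro hd
      apply hdvd
      show φ f ∣ φ (x ^ n)
      rw [show φ f = (w : B) * h ^ n from hf, Units.mul_left_dvd]
      exact hd
    · intro hd
      have := map_dvd φ hd
      rwa [show φ f = (w : B) * h ^ n from hf, Units.mul_left_dvd] at this
  let D : Ideal A := (Submodule.colon (I.map φ) {h}).comap φ
  have hDmem : ∀ d, d ∈ D ↔ φ d * h ∈ I.map φ := fun d => by
    rw [Ideal.mem_comap, Submodule.mem_colon_singleton, smul_eq_mul]
  have hDP : ∀ (P : Ideal A) [P.IsPrime], P.height = 1 → ¬ D ≤ P := by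
    intro P _ hP1 hle
    haveI := isDomain_loc P
    haveI := dvr_of_height_one P hP1
    obtain ⟨π₀, hπ₀⟩ := IsDiscreteValuationRing.exists_irreducible (Localization.AtPrime P)
    obtain ⟨⟨π, s₀⟩, hs₀⟩ := IsLocalization.surj P.primeCompl π₀
    have hπirr : Irreducible (algebraMap A (Localization.AtPrime P) π) := by
      rw [← hs₀]
      exact (associated_mul_unit_right π₀ _ (IsLocalization.map_units _ s₀)).irreducible hπ₀
    have hinjP : Function.Injective (algebraMap A (Localization.AtPrime P)) :=
      IsLocalization.injective _ P.primeCompl_le_nonZeroDivisors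
    obtain ⟨k, u, hu⟩ := IsDiscreteValuationRing.eq_unit_mul_pow_irreducible
      (x := algebraMap A (Localization.AtPrime P) f) (fun e => hf0 (hinjP (e.trans (map_zero _).symm))) hπirr
    obtain ⟨⟨t, s⟩, hts⟩ := IsLocalization.surj P.primeCompl (u : Localization.AtPrime P)
    have ht : t ∉ P := fun ht => by
      have h1 : IsUnit (algebraMap A (Localization.AtPrime P) t) := by
        rw [← hts]; exact u.isUnit.mul (IsLocalization.map_units _ s)
      exact (IsLocalRing.notMem_maximalIdeal.2 h1) (by
        rw [← Localization.AtPrime.map_eq_maximalIdeal]; exact Ideal.mem_map_of_mem _ ht)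
    have hsf : (s : A) * f = t * π ^ k := hinjP (by
      rw [map_mul, map_mul, map_pow, hu, ← hts]; ring)
    obtain ⟨q, hq, hq1, hqc, hqm⟩ := hram P hP1
    haveI := hq
    haveI := isDomain_loc q
    haveI := dvr_of_height_one q hq1
    let ψ : A →+* Localization.AtPrime q := (algebraMap B (Localization.AtPrime q)).comp φ
    have hunit : ∀ a, a ∉ P → IsUnit (ψ a) := fun a ha =>
      IsLocalization.map_units _ (⟨φ a, fun hm => ha (by rw [← hqc]; exact hm)⟩ : q.primeCompl)
    have hmax : IsLocalRing.maximalIdeal (Localization.AtPrime q) = Ideal.span {ψ π} := by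
      refine le_antisymm ?_ ?_
      · rw [← hqm, Ideal.map_map, Ideal.map_le_iff_le_comap]
        intro x hx
        have hxm : algebraMap A (Localization.AtPrime P) x ∈ IsLocalRing.maximalIdeal _ := by
          rw [← Localization.AtPrime.map_eq_maximalIdeal]; exact Ideal.mem_map_of_mem _ hx
        rw [(IsDiscreteValuationRing.irreducible_iff_uniformizer _).1 hπirr, Ideal.mem_span_singleton] at hxm
        obtain ⟨c, hc⟩ := hxm
        obtain ⟨⟨a, e⟩, hae⟩ := IsLocalization.surj P.primeCompl c
        have hxe : (e : A) * x = π * a := hinjP (by rw [map_mul, map_mul, hc, ← hae]; ring)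
        show ψ x ∈ Ideal.span {ψ π}
        rw [Ideal.mem_span_singleton]
        exact ((hunit _ e.2).dvd_mul_left).1 ⟨ψ a, by rw [← map_mul, ← map_mul, hxe]⟩
      · rw [Ideal.span_singleton_le_iff_mem, ← hqm, Ideal.map_map]
        refine Ideal.mem_map_of_mem _ ?_
        by_contra hπP
        exact hπirr.not_isUnit (IsLocalization.map_units _ (⟨π, hπP⟩ : P.primeCompl))
    have hψirr : Irreducible (ψ π) := (IsDiscreteValuationRing.irreducible_iff_uniformizer _).2 hmax
    have hinjB : Function.Injective (algebraMap B (Localization.AtPrime q)) :=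
      IsLocalization.injective _ q.primeCompl_le_nonZeroDivisors
    have hh0 : h ≠ 0 := by
      rintro rfl
      exact hf0 (zero_dvd_iff.1 (hdvd 0 f (by rw [map_zero, show φ f = (w : B) * 0 ^ n from hf, zero_pow hn0, mul_zero])))
    obtain ⟨m, v, hv⟩ := IsDiscreteValuationRing.eq_unit_mul_pow_irreducible
      (x := algebraMap B (Localization.AtPrime q) h) (fun e => hh0 (hinjB (e.trans (map_zero _).symm))) hψirr
    have hk : k = m * n := by
      have e := congrArg ψ hsf
      rw [map_mul, map_mul, map_pow] at e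
      have hf' : ψ f = algebraMap B _ (w : B) * algebraMap B (Localization.AtPrime q) h ^ n := by
        show algebraMap B _ (φ f) = _
        rw [show φ f = (w : B) * h ^ n from hf, map_mul, map_pow]
      rw [hf', hv, mul_pow, ← pow_mul] at e
      refine IsDiscreteValuationRing.unit_mul_pow_congr_pow hψirr hψirr (hunit t ht).unit
        ((hunit _ s.2).unit * (w.map (algebraMap B (Localization.AtPrime q)).toMonoidHom) * v ^ n) _ _ ?_
      simp only [Units.val_mul, Units.val_pow_eq_pow_val, IsUnit.unit_spec, Units.coe_map,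
        MonoidHom.coe_coe, RingHom.toMonoidHom_eq_coe]
      rw [← e]; ring
    subst hk
    have e := congrArg φ hsf
    rw [map_mul, map_mul, map_pow, show φ f = (w : B) * h ^ n from hf, pow_mul] at e
    have hdiv : φ π ^ m ∣ φ s * h := by
      rw [← IsIntegrallyClosed.pow_dvd_pow_iff hn0, ← Units.dvd_mul_right (u := w)]
      refine ⟨φ s ^ (n - 1) * φ t, ?_⟩
      calc (φ s * h) ^ n * (w : B) = φ s ^ (n - 1) * (φ s * ((w : B) * h ^ n)) := by
            rw [mul_pow, show φ s ^ n = φ s ^ (n - 1) * φ s by rw [← pow_succ, Nat.sub_add_cancel (by omega)]]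
            ring
        _ = (φ π ^ m) ^ n * (φ s ^ (n - 1) * φ t) := by rw [e]; ring
    obtain ⟨c, hc⟩ := hdiv
    have hmem : t * π ^ m ∈ I := (hI _).2 ⟨t ^ (n - 1) * s, by
      rw [mul_pow, ← pow_mul, show t ^ n = t ^ (n - 1) * t by rw [← pow_succ, Nat.sub_add_cancel (by omega)]]
      linear_combination (- t ^ (n - 1)) * hsf⟩
    have hmemD : (s : A) * t ∈ D := by
      rw [hDmem]
      have : φ ((s : A) * t) * h = c * φ (t * π ^ m) := by
        rw [map_mul, map_mul, map_pow]
        linear_combination (φ t) * hc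
      rw [this]
      exact Ideal.mul_mem_left _ _ (Ideal.mem_map_of_mem _ hmem)
    rcases Ideal.IsPrime.mem_or_mem inferInstance (hle hmemD) with h1 | h1
    · exact s.2 h1
    · exact ht h1
  have hass : ∀ p ∈ associatedPrimes A (A ⧸ I), ∃ _ : p.IsPrime, p.height = 1 := by
    intro p hp
    obtain ⟨hpp, x, hx⟩ := isAssociatedPrime_iff.1 hp
    obtain ⟨c, rfl⟩ := Ideal.Quotient.mk_surjective x
    have hmem : ∀ d, d ∈ p ↔ f ∣ (d * c) ^ n := fun d => by
      rw [hx, Submodule.mem_colon_singleton, Submodule.mem_bot, ← hI]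
      exact Ideal.Quotient.eq_zero_iff_mem (I := I) (a := d * c)
    haveI := hpp
    have hcI : ¬ f ∣ c ^ n := fun hc => hpp.ne_top ((Ideal.eq_top_iff_one p).2 ((hmem 1).2 (by rwa [one_mul])))
    obtain ⟨P, hP, hP1, hPc⟩ : ∃ P : Ideal A, P.IsPrime ∧ P.height = 1 ∧ ∀ s ∉ P, ¬ f ∣ s * c ^ n := by
      by_contra hcon
      push Not at hcon
      have hfK : algebraMap A (FractionRing A) f ≠ 0 := fun e =>
        hf0 (IsFractionRing.injective A (FractionRing A) (e.trans (map_zero _).symm))
      obtain ⟨r, hr⟩ := Groth.Agent.Misc9.NormalHartogs.exists_eq_of_height_one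
        (A := A) (algebraMap A (FractionRing A) (c ^ n) / algebraMap A (FractionRing A) f) (fun P hP hP1 => by
          obtain ⟨s, hs, r, hr⟩ := hcon P hP hP1
          exact ⟨s, hs, r, by rw [← mul_div_assoc, eq_div_iff hfK, ← map_mul, ← map_mul, hr, mul_comm]⟩)
      rw [eq_div_iff hfK, ← map_mul] at hr
      exact hcI ⟨r, by rw [← IsFractionRing.injective A (FractionRing A) hr, mul_comm]⟩
    haveI := hP
    have hpP : p ≤ P := fun d hd => by
      by_contra hdP
      exact hPc (d ^ n) (fun e => hdP (hP.mem_of_pow_mem n e)) (by rw [← mul_pow]; exact (hmem d).1 hd)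
    have hpne : (⊥ : Ideal A) < p := bot_lt_iff_ne_bot.2 fun e => hf0 (by
      have := (hmem f).2 ((dvd_mul_right f c).trans (dvd_pow_self _ hn0))
      rwa [e, Submodule.mem_bot] at this)
    have hh := Ideal.height_strict_mono_of_isPrime hpne
    rw [Ideal.height_bot] at hh
    refine ⟨hpp, ?_⟩
    rcases eq_or_lt_of_le hpP with rfl | hlt
    · exact hP1
    · have h2 := Ideal.height_strict_mono_of_isPrime hlt
      rw [hP1] at h2
      exact absurd (Order.one_le_iff_pos.2 hh) (not_le.2 h2)
  obtain ⟨d, hdD, hdass⟩ : ∃ d ∈ D, ∀ p ∈ associatedPrimes A (A ⧸ I), d ∉ p := by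
    by_contra hcon
    push Not at hcon
    have hsub : (D : Set A) ⊆ ⋃ p ∈ ((associatedPrimes.finite A (A ⧸ I)).toFinset : Set (Ideal A)), (p : Set A) := by
      intro d hd
      obtain ⟨p, hp, hdp⟩ := hcon d hd
      exact Set.mem_iUnion₂.2 ⟨p, by simpa using hp, hdp⟩
    obtain ⟨p, hp, hDp⟩ := (Ideal.subset_union_prime ⊥ ⊥ (fun p hp _ _ => by
      obtain ⟨h1, -⟩ := hass p (by simpa using hp); exact h1)).1 hsub
    obtain ⟨h1, h2⟩ := hass p (by simpa using hp)
    exact @hDP p h1 h2 hDp
  have hinj : Function.Injective (LinearMap.lsmul A (A ⧸ I) d) := by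
    rw [← LinearMap.ker_eq_bot, LinearMap.ker_eq_bot']
    intro y hy
    by_contra hy0
    have : d ∈ ⋃ p ∈ associatedPrimes A (A ⧸ I), (p : Set A) := by
      rw [biUnion_associatedPrimes_eq_zero_divisors A (A ⧸ I)]; exact ⟨y, hy0, hy⟩
    obtain ⟨p, hp, hdp⟩ := Set.mem_iUnion₂.1 this
    exact hdass p hp hdp
  have hIB : h ∈ I.map φ := by
    have h1 : (1 : A ⧸ I) ⊗ₜ[A] h = 0 := by
      apply Module.Flat.rTensor_preserves_injective_linearMap (M := B) _ hinj
      rw [LinearMap.rTensor_tmul, map_zero, LinearMap.lsmul_apply, TensorProduct.smul_tmul, one_tmul_eq_zero,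
        Ideal.smul_top_eq_map, Submodule.restrictScalars_mem, Algebra.smul_def]
      exact (hDmem d).1 hdD
    rw [one_tmul_eq_zero, Ideal.smul_top_eq_map, Submodule.restrictScalars_mem] at h1
    exact h1
  obtain ⟨x, hxI, c, hc, hcu⟩ : ∃ x ∈ I, ∃ c, φ x = h * c ∧ IsUnit c := by
    by_contra hcon
    push Not at hcon
    have hle : I.map φ ≤ Ideal.span {h} * IsLocalRing.maximalIdeal B := by
      rw [Ideal.map_le_iff_le_comap]
      intro x hx
      obtain ⟨c, hc⟩ := Ideal.mem_span_singleton.1 hx
      show φ x ∈ Ideal.span {h} * IsLocalRing.maximalIdeal B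
      rw [show φ x = h * c from hc]
      exact Ideal.mul_mem_mul (Ideal.mem_span_singleton_self h) ((IsLocalRing.mem_maximalIdeal _).2 (hcon x hx c hc))
    obtain ⟨c, hc, hce⟩ := Ideal.mem_span_singleton_mul.1 (hle hIB)
    have hh0 : h ≠ 0 := by
      rintro rfl
      exact hf0 (zero_dvd_iff.1 (hdvd 0 f (by rw [map_zero, show φ f = (w : B) * 0 ^ n from hf, zero_pow hn0, mul_zero])))
    have : c = 1 := mul_left_cancel₀ hh0 (hce.trans (mul_one h).symm)
    exact (IsLocalRing.maximalIdeal.isMaximal B).ne_top ((Ideal.eq_top_iff_one _).2 (this ▸ hc))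
  have hxf : Associated (x ^ n) f := by
    refine associated_of_dvd_dvd (hdvd _ _ ?_) ((hI x).1 hxI)
    rw [map_pow, show φ x = h * c from hc, mul_pow, show φ f = (w : B) * h ^ n from hf, (hcu.pow n).mul_right_dvd]
    exact dvd_mul_left _ _
  obtain ⟨u, hu⟩ := hxf
  exact ⟨x, u, by rw [← hu, mul_comm]⟩

end Groth.Agent.S7125
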