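import Groth.Statements.S7127
import Groth.Agent.Flat.WeaklyEtale

set_option autoImplicit false
universe u
open EtAlg
open scoped TensorProduct

namespace Groth.Agent.S7127

/-- Let A be a ring and B → C an A-algebra homomorphism between weakly étale A-algebras. Then C is
weakly étale over B. -/
theorem result (A B C : Type u) [CommRing A] [CommRing B] [CommRing C]
    [Algebra A B] [Algebra A C] [Algebra B C] [IsScalarTower A B C] [Algebra.WeaklyEtale A B]
    [Algebra.WeaklyEtale A C] : Algebra.WeaklyEtale B C := by
  have hflat : Module.Flat B C := Flat.WeaklyEtale.flat_of_flat_base A B C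
  refine ⟨hflat, ?_⟩
  let q : C ⊗[A] C →ₐ[A] C ⊗[B] C := Algebra.TensorProduct.mapOfCompatibleSMul B A A C C
  let mC := Algebra.TensorProduct.lmul' A (S := C)
  let mB := Algebra.TensorProduct.lmul' B (S := C)
  have hq : Function.Surjective q := TensorProduct.mapOfCompatibleSMul_surjective B A A C C
  have hmq : ∀ z, mB (q z) = mC z := by
    intro z
    induction z using TensorProduct.induction_on with
    | zero => simp
    | tmul a b => simp [q, mB, mC]
    | add a b ha hb => simp [ha, hb]
  letI algC : Algebra (C ⊗[A] C) C := mC.toRingHom.toAlgebra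
  haveI hC : Module.Flat (C ⊗[A] C) C := Algebra.WeaklyEtale.flat_lmul' A C
  letI algB : Algebra (C ⊗[B] C) C := mB.toRingHom.toAlgebra
  show Module.Flat (C ⊗[B] C) C
  refine Module.Flat.iff_forall_isTrivialRelation.mpr fun {l f x} hfx => ?_
  choose g hg using fun i => hq (f i)
  have hgx : ∑ i, g i • x i = 0 := by
    refine Eq.trans (Finset.sum_congr rfl fun i _ => ?_) hfx
    show mC (g i) * x i = mB (f i) * x i
    rw [← hmq, hg]
  obtain ⟨n, a, y, hy, ha⟩ := Module.Flat.iff_forall_isTrivialRelation.mp hC hgx
  refine ⟨n, fun i j => q (a i j), y, fun i => ?_, fun j => ?_⟩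
  · rw [hy i]
    refine Finset.sum_congr rfl fun j _ => ?_
    show mC (a i j) * y j = mB (q (a i j)) * y j
    rw [hmq]
  · simp only [← hg, ← map_mul, ← map_sum, ha, map_zero]

end Groth.Agent.S7127
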