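import Groth.Statements.S7130
import Groth.Agent.FlatMor.AbsFlat

set_option autoImplicit false
universe u
open EtAlg

namespace Groth.Agent.S7130

/-- (2) ⇔ (3) ⇔ (4): for a ring A the following are equivalent: every A-module is flat; A is reduced of
Krull dimension zero, in the sense that every prime ideal of A is maximal; the local ring A_p is a
field for every prime p. (The further equivalent condition 'A has weak dimension at most zero'
coincides with the first condition by definition and is not listed separately.) -/
theorem result (A : Type u) [CommRing A] :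
    List.TFAE [∀ (M : Type u) [AddCommGroup M] [Module A M], Module.Flat A M,
      IsReduced A ∧ ∀ p : Ideal A, p.IsPrime → p.IsMaximal,
      ∀ (p : Ideal A) [p.IsPrime], IsField (Localization.AtPrime p)] := by
  tfae_have 1 → 2 := by
    intro h
    have habs : Groth.Agent.FlatMor.AbsFlat.IsAbsFlat A := by
      intro x
      have := h (A ⧸ Ideal.span {x})
      obtain ⟨e, he, hex⟩ := Groth.Agent.FlatMor.AbsFlat.exists_mul_eq_of_flat_quotient (Ideal.span {x})
        (Ideal.mem_span_singleton_self x)
      obtain ⟨c, rfl⟩ := Ideal.mem_span_singleton'.mp he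
      exact ⟨c, hex.symm⟩
    refine ⟨habs.isReduced, fun p hp => Ideal.Quotient.maximal_of_isField _ ?_⟩
    refine ⟨⟨0, 1, zero_ne_one⟩, mul_comm, fun {a} ha => ?_⟩
    obtain ⟨x, rfl⟩ := Ideal.Quotient.mk_surjective a
    obtain ⟨c, hc⟩ := habs x
    refine ⟨Ideal.Quotient.mk p c, mul_left_cancel₀ ha ?_⟩
    rw [mul_one, ← map_mul, ← map_mul, show x * (x * c) = c * x * x by ring, ← hc]
  tfae_have 2 → 3 := by
    rintro ⟨hred, hmax⟩ p _
    have : IsReduced A := hred
    have hmin : p ∈ minimalPrimes A :=
      ⟨⟨inferInstance, bot_le⟩, fun q hq hqp => ((hmax q hq.1).eq_of_le (Ideal.IsPrime.ne_top ‹_›) hqp).ge⟩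
    have : Ring.KrullDimLE 0 (Localization.AtPrime p) :=
      Ring.KrullDimLE.of_isLocalization p hmin _
    exact Ring.KrullDimLE.isField_of_isReduced
  tfae_have 3 → 1 := by
    intro h M _ _
    refine Module.flat_of_localized_maximal _ fun P _ => ?_
    letI := (h P).toField
    have : Module.Free (Localization.AtPrime P) (LocalizedModule P.primeCompl M) :=
      Module.Free.of_divisionRing _ _
    exact Module.Flat.trans A (Localization.AtPrime P) _
  tfae_finish

end Groth.Agent.S7130
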