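import Groth.Statements.S7131
import Groth.Agent.Flat.TorDim
import Groth.Agent.Flat.WeaklyEtale

set_option autoImplicit false
universe u
open EtAlg

namespace Groth.Agent.S7131

/-- Suppose A → B is weakly étale and every A-module has tor dimension at most d. Then every B-module
has tor dimension at most d over B (weak dimension at most d ascends along weakly étale maps). -/
theorem result (A B : Type u) [CommRing A] [CommRing B] [Algebra A B]
    [Algebra.WeaklyEtale A B] (d : ℕ)
    (hA : ∀ (M : Type u) [AddCommGroup M] [Module A M], DRing.HasTorDimLE A d M)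
    (N : Type u) [AddCommGroup N] [Module B N] : DRing.HasTorDimLE B d N := by
  intro M _ _ p hp
  obtain ⟨S, Q, s, hS, hTor⟩ := Groth.Agent.Flat.TorDim.exists_syz (R := B) M
  obtain ⟨q, rfl⟩ : ∃ q, p = q + 1 := ⟨p - 1, by omega⟩
  letI instS : ∀ i, Module A (S i) := fun i => Module.compHom (S i) (algebraMap A B)
  letI instQ : ∀ i, Module A (Q i) := fun i => Module.compHom (Q i) (algebraMap A B)
  haveI : ∀ i, IsScalarTower A B (S i) := fun i => IsScalarTower.of_algebraMap_smul fun _ _ => rfl
  haveI : ∀ i, IsScalarTower A B (Q i) := fun i => IsScalarTower.of_algebraMap_smul fun _ _ => rfl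
  let s' : Groth.Agent.Flat.TorDim.Syz A (fun i => (S i : Type u)) (fun i => (Q i : Type u)) :=
    { flat := fun i => by
        haveI := s.flat i
        exact Module.Flat.trans A B (Q i)
      ι := fun i => (s.ι i).restrictScalars A
      π := fun i => (s.π i).restrictScalars A
      inj := s.inj
      exact := s.exact
      surj := s.surj }
  haveI : Module.Flat A (S d) := s'.flat_of_tor fun M' _ _ => by
    haveI := hA (S 0) M' (d + 1) (Nat.lt_succ_self d)
    exact ModuleCat.isZero_of_subsingleton _
  haveI : Module.Flat B (S d) := Groth.Agent.Flat.WeaklyEtale.flat_of_flat_base A B (S d)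
  have hflat : Module.Flat B (S q) := s.flat_of_le this (by omega)
  refine ModuleCat.subsingleton_of_isZero ((hTor N q).mpr ?_)
  exact Groth.Agent.Flat.TorDim.flat_iff_torZero.mp hflat N

end Groth.Agent.S7131
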