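import Groth.Statements.S7135
import Groth.Agent.Completion.ArtinReesHom
import Mathlib.RingTheory.AdicCompletion.AsTensorProduct
import Mathlib.RingTheory.OrzechProperty
import Mathlib.RingTheory.TensorProduct.Finite

set_option autoImplicit false
universe u
open CAlg

namespace Groth.Agent.S7135

/-- Let A be a Noetherian ring, I an ideal and M, N finite A-modules. If M/IⁿM and N/IⁿN are isomorphic
for every n, then the I-adic completions of M and N are isomorphic as modules over the I-adic
completion of A. -/
theorem result (A : Type u) [CommRing A] [IsNoetherianRing A] (I : Ideal A)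
    (M N : Type u) [AddCommGroup M] [Module A M] [Module.Finite A M] [AddCommGroup N] [Module A N]
    [Module.Finite A N]
    (h : ∀ n : ℕ, Nonempty ((M ⧸ (I ^ n • ⊤ : Submodule A M)) ≃ₗ[A] (N ⧸ (I ^ n • ⊤ : Submodule A N)))) :
    Nonempty (AdicCompletion I M ≃ₗ[AdicCompletion I A] AdicCompletion I N) := by
  have key : ∀ (M N : Type u) [AddCommGroup M] [Module A M] [Module.Finite A M] [AddCommGroup N]
      [Module A N] [Module.Finite A N],
      (∀ n : ℕ, Nonempty ((M ⧸ (I ^ n • ⊤ : Submodule A M)) ≃ₗ[A] (N ⧸ (I ^ n • ⊤ : Submodule A N)))) →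
      ∃ f : M →ₗ[A] N, Function.Surjective (AdicCompletion.map I f) := by
    intro M N _ _ _ _ _ _ h
    obtain ⟨c, hlift, -⟩ := Groth.Agent.Completion.ArtinReesHom.exists_hom_lift_bound I (M := M) (N := N)
    obtain ⟨e⟩ := h (1 + c)
    obtain ⟨φ, hφ, -⟩ := hlift (1 + c) (e.toLinearMap ∘ₗ Submodule.mkQ _)
    refine ⟨φ, AdicCompletion.map_surjective_of_mkQ_comp_surjective ?_⟩
    intro z
    obtain ⟨y, rfl⟩ := Submodule.mkQ_surjective _ z
    obtain ⟨m, hm⟩ := (e.surjective.comp (Submodule.mkQ_surjective _)) (Submodule.Quotient.mk y)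
    refine ⟨m, ?_⟩
    have h1 := LinearMap.congr_fun hφ m
    rw [LinearMap.comp_apply, LinearMap.comp_apply, LinearMap.comp_apply] at h1
    rw [show (e.toLinearMap) ((I ^ (1 + c) • ⊤ : Submodule A M).mkQ m) = Submodule.Quotient.mk y from hm] at h1
    have h2 := (Submodule.Quotient.eq _).1 h1.symm
    show Submodule.Quotient.mk (φ m) = Submodule.Quotient.mk y
    rw [Submodule.Quotient.eq]
    rw [show 1 + c - c = 1 by omega, pow_one] at h2
    exact h2
  obtain ⟨f, hf⟩ := key M N h
  obtain ⟨g, hg⟩ := key N M fun n => (h n).map LinearEquiv.symm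
  haveI : Module.Finite (AdicCompletion I A) (AdicCompletion I M) :=
    Module.Finite.of_surjective (AdicCompletion.ofTensorProduct I M)
      (AdicCompletion.ofTensorProduct_surjective_of_finite I M)
  have hinj : Function.Injective (AdicCompletion.map I g ∘ₗ AdicCompletion.map I f) :=
    OrzechProperty.injective_of_surjective_endomorphism _ (hg.comp hf)
  exact ⟨LinearEquiv.ofBijective (AdicCompletion.map I f)
    ⟨Function.Injective.of_comp (f := AdicCompletion.map I g) hinj, hf⟩⟩

end Groth.Agent.S7135
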