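import Groth.Statements.S7136
import Groth.Agent.Completion.ArtinReesHom


set_option autoImplicit false
universe u
open CAlg

namespace Groth.Agent.S7136

/-- Let A be a Noetherian ring, I an ideal, and M, N finite A-modules; write N_n = N/IⁿN, so that
Hom_A(M/IⁿM, N_n) = Hom_A(M, N_n). Then (1) the inverse system (Hom_A(M, N_n))_n, with transition
maps induced by the projections N_k → N_n, is Mittag-Leffler; (2) there is c ≥ 0 such that for all n
the kernel and the cokernel of Hom_A(M, N)/IⁿHom_A(M, N) → Hom_A(M, N_n) are annihilated by I^c. -/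
theorem result (A : Type u) [CommRing A] [IsNoetherianRing A]
    (I : Ideal A) (M N : Type u) [AddCommGroup M] [Module A M] [Module.Finite A M] [AddCommGroup N] [Module A N]
    [Module.Finite A N] :
    let Nq : ℕ → Submodule A N := fun n => I ^ n • ⊤
    let pr : ∀ n k : ℕ, n ≤ k → (N ⧸ Nq k) →ₗ[A] (N ⧸ Nq n) :=
      fun n k hnk => Submodule.mapQ (Nq k) (Nq n) (LinearMap.id : N →ₗ[A] N) (Submodule.smul_mono_left (Ideal.pow_le_pow_right hnk))
    let red : ∀ n : ℕ, (M →ₗ[A] N) → (M →ₗ[A] N ⧸ Nq n) := fun n φ => (Nq n).mkQ ∘ₗ φ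
    (∀ n : ℕ, ∃ m : ℕ, n ≤ m ∧ ∀ (k : ℕ) (hmk : m ≤ k) (hnm : n ≤ m) (ψ : M →ₗ[A] N ⧸ Nq m),
        ∃ ψ' : M →ₗ[A] N ⧸ Nq k, pr n k (hnm.trans hmk) ∘ₗ ψ' = pr n m hnm ∘ₗ ψ) ∧
    ∃ c : ℕ, ∀ n : ℕ,
      (∀ φ : M →ₗ[A] N, red n φ = 0 → ∀ a ∈ I ^ c, a • φ ∈ (I ^ n • ⊤ : Submodule A (M →ₗ[A] N))) ∧
      (∀ (ψ : M →ₗ[A] N ⧸ Nq n), ∀ a ∈ I ^ c, ∃ φ : M →ₗ[A] N, red n φ = a • ψ) := by
  intro Nq pr red
  obtain ⟨c, hlift, htors⟩ := Groth.Agent.Completion.ArtinReesHom.exists_hom_lift_bound I (M := M) (N := N)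
  refine ⟨fun n => ⟨n + c, by omega, fun k hmk hnm ψ => ?_⟩,
    c, fun n => ⟨fun φ hφ => htors n φ fun m => (Submodule.Quotient.mk_eq_zero _).1 (LinearMap.congr_fun hφ m),
      fun ψ a ha => ?_⟩⟩
  · obtain ⟨φ, hφ, -⟩ := hlift (n + c) ψ
    refine ⟨red k φ, LinearMap.ext fun m => ?_⟩
    have h := LinearMap.congr_fun hφ m
    obtain ⟨y, hy⟩ := Submodule.Quotient.mk_surjective _ (ψ m)
    rw [LinearMap.comp_apply, LinearMap.comp_apply, ← hy] at h
    show Submodule.Quotient.mk (φ m) = pr n (n + c) hnm (ψ m)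
    rw [← hy]
    show _ = Submodule.Quotient.mk y
    have h' := (Submodule.Quotient.eq _).1 h
    rw [Submodule.Quotient.eq]
    rw [show n + c - c = n by omega] at h'
    simpa using neg_mem h'
  · obtain ⟨φ, -, hφ⟩ := hlift n ψ
    exact ⟨a • φ, hφ a ha⟩

end Groth.Agent.S7136
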