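import Groth.Statements.S7144
import Mathlib.RingTheory.Valuation.ValuationRing

set_option autoImplicit false
universe u
open CAlg

namespace Groth.Agent.S7144

/-- (1) ⇔ (2): let R be a nonzero ring. Then for all a, b in R one of a, b divides the other if and only
if R is local and every finitely generated ideal of R is principal. (The further equivalence with
the total ordering of the set of ideals by inclusion is standard and not restated here.) -/
theorem result (R : Type u) [CommRing R] [Nontrivial R] :
    PreValuationRing R ↔ IsLocalRing R ∧ IsBezout R := by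
  constructor
  · intro h
    have hb : IsBezout R := IsBezout.iff_span_pair_isPrincipal.2 fun x y => by
      obtain ⟨c, hc | hc⟩ := PreValuationRing.cond x y
      · exact ⟨⟨x, by rw [Ideal.submodule_span_eq, Ideal.span_insert, sup_eq_left.2]; rw [Ideal.span_singleton_le_span_singleton]; exact ⟨c, hc.symm⟩⟩⟩
      · exact ⟨⟨y, by rw [Ideal.submodule_span_eq, Ideal.span_insert, sup_eq_right.2]; rw [Ideal.span_singleton_le_span_singleton]; exact ⟨c, hc.symm⟩⟩⟩
    refine ⟨IsLocalRing.of_isUnit_or_isUnit_one_sub_self fun a => ?_, hb⟩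
    obtain ⟨c, hc | hc⟩ := PreValuationRing.cond a (1 - a)
    · left; exact IsUnit.of_mul_eq_one (1 + c) (by linear_combination hc)
    · right; exact IsUnit.of_mul_eq_one (1 + c) (by linear_combination hc)
  · rintro ⟨h1, h2⟩
    refine ⟨fun a b => ?_⟩
    obtain ⟨g, hg⟩ := (IsBezout.iff_span_pair_isPrincipal.1 h2 a b).principal
    rw [Ideal.submodule_span_eq] at hg
    obtain ⟨a', ha⟩ := Ideal.mem_span_singleton'.1 (hg ▸ Ideal.subset_span (Set.mem_insert a {b}))
    obtain ⟨b', hb⟩ := Ideal.mem_span_singleton'.1 (hg ▸ Ideal.subset_span (Set.mem_insert_of_mem a (Set.mem_singleton b)))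
    obtain ⟨x, y, hxy⟩ := Ideal.mem_span_pair.1 (hg ▸ Ideal.mem_span_singleton_self g : g ∈ Ideal.span {a, b})
    have hz : g * (1 - (x * a' + y * b')) = 0 := by
      linear_combination (-1 : R) * hxy - x * ha - y * hb
    by_cases hu : IsUnit (x * a' + y * b')
    · rcases IsLocalRing.isUnit_or_isUnit_of_isUnit_add hu with h | h
      · obtain ⟨u, hu⟩ := (isUnit_of_mul_isUnit_right h).exists_right_inv
        exact ⟨u * b', Or.inl (by rw [← ha, ← hb]; linear_combination (g * b') * hu)⟩
      · obtain ⟨u, hu⟩ := (isUnit_of_mul_isUnit_right h).exists_right_inv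
        exact ⟨u * a', Or.inr (by rw [← ha, ← hb]; linear_combination (g * a') * hu)⟩
    · have h1g : IsUnit (1 - (x * a' + y * b')) :=
        (IsLocalRing.isUnit_or_isUnit_one_sub_self _).resolve_left hu
      have hg0 : g = 0 := (h1g.mul_left_eq_zero).1 hz
      exact ⟨1, Or.inl (by rw [← ha, ← hb, hg0]; simp)⟩

end Groth.Agent.S7144
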