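import Groth.Statements.S7147
import Groth.Agent.SerreSplit.Basic
import Mathlib.Algebra.Module.FinitePresentation
import Mathlib.LinearAlgebra.StdBasis
import Mathlib.LinearAlgebra.Matrix.ToLin
import Mathlib.RingTheory.Localization.Away.Basic

set_option autoImplicit false
universe u
open CAlg

namespace Groth.Agent.S7147

/-- Let R be a ring, M a finitely presented R-module and x a maximal ideal of R with residue field κ(x);
write M(x) = M/xM and let B(x) ⊆ M(x) be the orthogonal of the image of Hom_R(M, R) in the dual of
M(x), i.e. the classes of those m in M with φ(m) in x for every linear form φ on M, and V(x) =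
M(x)/B(x). For s_1, ..., s_r in M the following are equivalent: (1) there is f in R, f not in x,
such that the map R_f^r → M_f given by the s_i is the inclusion of a direct summand; (2) the images
of s_1, ..., s_r in V(x) are linearly independent over κ(x). -/
theorem result (R : Type u) [CommRing R] (M : Type u)
    [AddCommGroup M] [Module R M] [Module.FinitePresentation R M] (x : Ideal R) [x.IsMaximal]
    (r : ℕ) (s : Fin r → M) :
    let Mx := M ⧸ (x • ⊤ : Submodule R M)
    let Bx : Submodule (R ⧸ x) Mx :=
      Submodule.span (R ⧸ x) ((x • ⊤ : Submodule R M).mkQ '' {m : M | ∀ φ : M →ₗ[R] R, φ m ∈ x})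
    (∃ f : R, f ∉ x ∧
      ∃ g : LocalizedModule (Submonoid.powers f) M →ₗ[Localization.Away f] (Fin r → Localization.Away f),
        g ∘ₗ Fintype.linearCombination (Localization.Away f)
            (fun i => LocalizedModule.mkLinearMap (Submonoid.powers f) M (s i)) = LinearMap.id) ↔
    LinearIndependent (R ⧸ x) (fun i => Bx.mkQ ((x • ⊤ : Submodule R M).mkQ (s i))) := by
  classical
  intro Mx Bx
  let X : MaximalSpectrum R := ⟨x, inferInstance⟩
  show _ ↔ Groth.Agent.SerreSplit.Ind X s
  constructor
  · rintro ⟨f, hf, g, hg⟩
    let L : Fin r → (M →ₗ[R] Localization.Away f) := fun i =>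
      ((LinearMap.proj i).comp g).restrictScalars R ∘ₗ LocalizedModule.mkLinearMap (Submonoid.powers f) M
    choose φ u hφ using fun i => Module.FinitePresentation.exists_lift_of_isLocalizedModule (Submonoid.powers f)
      (Algebra.linearMap R (Localization.Away f)) (L i)
    refine Groth.Agent.SerreSplit.ind_of_det φ fun hdet => ?_
    have hmap : (algebraMap R (Localization.Away f)).mapMatrix (Matrix.of fun i j => φ i (s j)) =
        Matrix.diagonal fun j => algebraMap R (Localization.Away f) (u j : R) := by
      ext i j
      have h1 := LinearMap.congr_fun (hφ i) (s j)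
      have h2 := LinearMap.congr_fun hg (Pi.single j 1)
      simp only [LinearMap.comp_apply, LinearMap.id_apply, Fintype.linearCombination_apply_single, one_smul] at h2
      simp only [LinearMap.comp_apply, Algebra.linearMap_apply, LinearMap.smul_apply, L,
        LinearMap.restrictScalars_apply, LinearMap.proj_apply, Submonoid.smul_def, h2] at h1
      simp only [RingHom.mapMatrix_apply, Matrix.map_apply, Matrix.of_apply]
      rw [h1, Matrix.diagonal_apply]
      rcases eq_or_ne i j with rfl | hij
      · rw [Pi.single_eq_same, if_pos rfl, Algebra.smul_def, mul_one]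
      · rw [Pi.single_eq_of_ne hij, if_neg hij, smul_zero]
    have h2 := congrArg Matrix.det hmap
    rw [← RingHom.map_det, Matrix.det_diagonal] at h2
    have hu : IsUnit (∏ j, algebraMap R (Localization.Away f) (u j : R)) :=
      IsUnit.prod_iff.2 fun j _ => IsLocalization.map_units (Localization.Away f) (u j)
    rw [← h2] at hu
    obtain ⟨⟨a, n⟩, ha⟩ := IsLocalization.surj (Submonoid.powers f) (↑hu.unit⁻¹ : Localization.Away f)
    have h3 : algebraMap R (Localization.Away f) ((Matrix.of fun i j => φ i (s j)).det * a) = algebraMap R _ (n : R) := by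
      rw [map_mul, ← ha, ← mul_assoc, IsUnit.mul_val_inv, one_mul]
    obtain ⟨c, hc⟩ := (IsLocalization.eq_iff_exists (Submonoid.powers f) _).1 h3
    have hcn : (c : R) * (n : R) ∈ x := hc ▸ Ideal.mul_mem_left _ _ (Ideal.mul_mem_right _ _ hdet)
    obtain ⟨i, hi⟩ := c.2
    obtain ⟨k, hk⟩ := n.2
    simp only at hi hk
    rw [← hi, ← hk, ← pow_add] at hcn
    exact hf (Ideal.IsPrime.mem_of_pow_mem inferInstance _ hcn)
  · intro hind
    obtain ⟨φ, hd⟩ := Groth.Agent.SerreSplit.exists_separating hind
    set A := Matrix.of fun i j => φ i (s j) with hA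
    refine ⟨A.det, hd, ?_⟩
    let Φ : LocalizedModule (Submonoid.powers A.det) M →ₗ[Localization.Away A.det] (Fin r → Localization.Away A.det) :=
      (IsLocalizedModule.lift (Submonoid.powers A.det) (LocalizedModule.mkLinearMap (Submonoid.powers A.det) M)
        (LinearMap.pi fun i => (Algebra.linearMap R (Localization.Away A.det)).comp (φ i)) fun t => by
          refine (Module.End.isUnit_iff _).2 ?_
          exact Function.Bijective.of_comp_iff' (f := id) Function.bijective_id _ |>.1
            (IsUnit.smul_bijective (IsLocalization.map_units (Localization.Away A.det) t) |> fun h => by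
              convert h using 1
              funext v
              simp [algebraMap_smul])).extendScalarsOfIsLocalization (Submonoid.powers A.det) (Localization.Away A.det)
    set D := (algebraMap R (Localization.Away A.det)).mapMatrix A with hD
    have hu : IsUnit D.det := by
      rw [hD, ← RingHom.map_det]
      exact IsLocalization.map_units (Localization.Away A.det) (⟨A.det, Submonoid.mem_powers _⟩ : Submonoid.powers A.det)
    refine ⟨(Matrix.mulVecLin D⁻¹).comp Φ, ?_⟩
    refine (Pi.basisFun _ _).ext fun j => ?_
    simp only [Pi.basisFun_apply, LinearMap.comp_apply, Fintype.linearCombination_apply_single, one_smul, LinearMap.id_apply,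
      Matrix.mulVecLin_apply]
    have hΦ : Φ (LocalizedModule.mkLinearMap (Submonoid.powers A.det) M (s j)) = D.mulVec (Pi.single j 1) := by
      ext i
      rw [LinearMap.extendScalarsOfIsLocalization_apply', IsLocalizedModule.lift_apply, Matrix.mulVec_single_one]
      rfl
    rw [hΦ, Matrix.mulVec_mulVec, Matrix.nonsing_inv_mul _ hu, Matrix.one_mulVec]

end Groth.Agent.S7147
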