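import Groth.Statements.S7148
import Groth.Agent.PseudoCoh.Split
import Groth.Agent.PseudoCoh.Coherent
import Mathlib.RingTheory.Filtration

set_option autoImplicit false
universe u
open CategoryTheory
attribute [local instance] HasDerivedCategory.standard
open CAlg

namespace Groth.Agent.S7148

open CategoryTheory CategoryTheory.Limits CategoryTheory.Pretriangulated DerivedCategory DerivedCategory.TStructure Groth.Agent.PseudoCoh

attribute [local instance] HasDerivedCategory.standard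

/-- modules in degree zero -/
noncomputable abbrev sgl (A : Type u) [CommRing A] := DerivedCategory.singleFunctor (ModuleCat.{u} A) 0

lemma lift_zero {C : Type*} [Category C] [HasShift C ℤ] {X' X Y' Y : C} (a : X' ⟶ X) (b : Y' ⟶ Y)
    (e : X ⟶ Y⟦(0 : ℤ)⟧) (h : X' ⟶ Y') (w : h ≫ b = a ≫ e ≫ (shiftFunctorZero C ℤ).hom.app Y) :
    (h ≫ (shiftFunctorZero C ℤ).inv.app Y') ≫ b⟦(0 : ℤ)⟧' = a ≫ e := by
  rw [Category.assoc, ← (shiftFunctorZero C ℤ).inv.naturality b, Functor.id_map, ← Category.assoc, w]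
  simp [Category.assoc]

lemma lift_succ {C : Type*} [Category C] [HasShift C ℤ] {p q : ℤ} (hq : p + 1 = q) {M' M K' K L N' N : C}
    {e : M ⟶ N⟦q⟧} (δ : M ⟶ K⟦(1 : ℤ)⟧) (g : K⟦(1 : ℤ)⟧ ⟶ N⟦q⟧) (g' : K ⟶ N⟦p⟧) (hg : e = δ ≫ g)
    (hg' : g'⟦(1 : ℤ)⟧' = g ≫ (shiftFunctorAdd' C p 1 q hq).hom.app N) (a : M' ⟶ M) (δ' : M' ⟶ K'⟦(1 : ℤ)⟧) (j : K' ⟶ K)
    (hc : δ' ≫ j⟦(1 : ℤ)⟧' = a ≫ δ) (j₂ : K' ⟶ L) (i : L ⟶ K) (hj : j₂ ≫ i = j) (b : N' ⟶ N) (e'' : L ⟶ N'⟦p⟧)
    (he : e'' ≫ b⟦p⟧' = i ≫ g') :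
    (δ' ≫ (j₂ ≫ e'')⟦(1 : ℤ)⟧' ≫ (shiftFunctorAdd' C p 1 q hq).inv.app N') ≫ b⟦q⟧' = a ≫ e := by
  rw [Category.assoc, Category.assoc, ← (shiftFunctorAdd' C p 1 q hq).inv.naturality b, Functor.comp_map,
    ← Functor.map_comp_assoc, Category.assoc, he, ← Category.assoc j₂, hj, Functor.map_comp, hg', hg]
  simp only [Category.assoc, Iso.hom_inv_id_app, Category.comp_id]
  rw [reassoc_of% hc]

/-- maps from a finite free module to a positive shift of a module vanish -/
lemma eq_zero_free {A : Type u} [CommRing A] (r : ℕ) (N : Type u) [AddCommGroup N] [Module A N] (p : ℕ)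
    (f : Dual.inD A (Fin r → A) ⟶ (Dual.inD A N)⟦((p + 1 : ℕ) : ℤ)⟧) : f = 0 := by
  let E := (HomologicalComplex.single (ModuleCat.{u} A) (ComplexShape.up ℤ) 0).obj (ModuleCat.of A (Fin r → A))
  refine eq_zero_of_projective (E := E) ((DerivedCategory.singleFunctorIsoCompQ (ModuleCat.{u} A) 0).app _).symm
    (n := -1) (b := 0) (fun i hi => HomologicalComplex.isZero_single_obj_X _ _ _ _ (by omega)) (fun i => ?_)
    (haveI := isLE_inD (A := A) N
     haveI : t.IsLE ((Dual.inD A N)⟦((p + 1 : ℕ) : ℤ)⟧) (-((p + 1 : ℕ) : ℤ)) :=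
       t.isLE_shift _ 0 _ _ (by omega)
     t.isLE_of_le _ (-((p + 1 : ℕ) : ℤ)) (-1) (by omega)) f
  rcases eq_or_ne i 0 with rfl | hi
  · exact Module.Projective.of_equiv
      (HomologicalComplex.singleObjXSelf (ComplexShape.up ℤ) 0 (ModuleCat.of A (Fin r → A))).toLinearEquiv.symm
  · haveI := ModuleCat.subsingleton_of_isZero (HomologicalComplex.isZero_single_obj_X (ComplexShape.up ℤ) 0
      (ModuleCat.of A (Fin r → A)) i hi)
    haveI := Module.Free.of_subsingleton A (E.X i)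
    infer_instance

lemma key {A : Type u} [CommRing A] [IsNoetherianRing A] (I : Ideal A) (N : Type u) [AddCommGroup N] [Module A N]
    (p : ℕ) : ∀ (M : Type u) [AddCommGroup M] [Module A M] [Module.Finite A M],
      ∃ c : ℕ, ∀ (e : Dual.inD A M ⟶ (Dual.inD A N)⟦(p : ℤ)⟧) (n k : ℕ), k + c = n →
        ∃ e' : Dual.inD A ↥(I ^ n • ⊤ : Submodule A M) ⟶ (Dual.inD A ↥(I ^ k • ⊤ : Submodule A N))⟦(p : ℤ)⟧,
          e' ≫ ((sgl A).map (ModuleCat.ofHom (I ^ k • ⊤ : Submodule A N).subtype))⟦(p : ℤ)⟧' =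
            (sgl A).map (ModuleCat.ofHom (I ^ n • ⊤ : Submodule A M).subtype) ≫ e := by
  induction p with
  | zero =>
    intro M _ _ _
    refine ⟨0, fun e n k hk => ?_⟩
    obtain rfl : k = n := hk
    obtain ⟨f, hf⟩ := (DerivedCategory.singleFunctor (ModuleCat.{u} A) 0).map_surjective
      (e ≫ (shiftFunctorZero (Dual.D A) ℤ).hom.app _)
    have hmem : ∀ x : ↥(I ^ k • ⊤ : Submodule A M), f.hom x.1 ∈ (I ^ k • ⊤ : Submodule A N) := fun x => by
      have := Submodule.mem_map_of_mem (f := f.hom) x.2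
      rw [Submodule.map_smul''] at this
      exact Submodule.smul_mono le_rfl le_top this
    refine ⟨(sgl A).map (ModuleCat.ofHom (LinearMap.codRestrict _ (f.hom ∘ₗ Submodule.subtype _) hmem)) ≫
      (shiftFunctorZero (Dual.D A) ℤ).inv.app _, ?_⟩
    refine lift_zero _ _ e _ ?_
    rw [← Functor.map_comp, ← hf, ← Functor.map_comp]
    rfl
  | succ p ih =>
    intro M _ _ _
    obtain ⟨r, π, hπ⟩ := Module.Finite.exists_fin' A M
    let K := LinearMap.ker π
    haveI : Module.Finite A K := Module.Finite.iff_fg.2 (IsNoetherian.noetherian _)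
    obtain ⟨c, hc⟩ := Ideal.exists_pow_inf_eq_pow_smul I K
    obtain ⟨c', hc'⟩ := ih K
    refine ⟨c' + c, fun e n k hk => ?_⟩
    let S : ShortComplex (ModuleCat.{u} A) := ShortComplex.mk (ModuleCat.ofHom K.subtype)
      (X₂ := ModuleCat.of A (Fin r → A)) (ModuleCat.ofHom π) (ModuleCat.hom_ext (LinearMap.ext fun x => x.2))
    have hS : S.ShortExact :=
      { exact := (ShortComplex.moduleCat_exact_iff _).2 fun x hx => ⟨⟨x, hx⟩, rfl⟩
        mono_f := (ModuleCat.mono_iff_injective _).2 K.subtype_injective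
        epi_g := (ModuleCat.epi_iff_surjective _).2 hπ }
    obtain ⟨g, hg⟩ := Triangle.yoneda_exact₃ _ hS.singleTriangle_distinguished e (eq_zero_free r N p _)
    obtain ⟨g', hg'⟩ := (shiftFunctor (Dual.D A) (1 : ℤ)).map_surjective
      (g ≫ (shiftFunctorAdd' (Dual.D A) (p : ℤ) 1 _ (by push_cast; rfl)).hom.app (Dual.inD A N))
    obtain ⟨e'', he''⟩ := hc' g' (k + c') k rfl
    let Fn : Submodule A (Fin r → A) := I ^ n • ⊤
    let Kn : Submodule A K := Fn.comap K.subtype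
    have hπn : ∀ x : Fn, π x.1 ∈ (I ^ n • ⊤ : Submodule A M) := fun x => by
      have := Submodule.mem_map_of_mem (f := π) x.2
      rw [Submodule.map_smul''] at this
      exact Submodule.smul_mono le_rfl le_top this
    let Sn : ShortComplex (ModuleCat.{u} A) := ShortComplex.mk
      (X₁ := ModuleCat.of A Kn) (X₂ := ModuleCat.of A Fn) (X₃ := ModuleCat.of A ↥(I ^ n • ⊤ : Submodule A M))
      (ModuleCat.ofHom (LinearMap.codRestrict Fn (K.subtype ∘ₗ Kn.subtype) fun x => x.2))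
      (ModuleCat.ofHom (LinearMap.codRestrict _ (π ∘ₗ Fn.subtype) hπn))
      (ModuleCat.hom_ext (LinearMap.ext fun x => Subtype.ext x.1.2))
    have hSn : Sn.ShortExact :=
      { exact := (ShortComplex.moduleCat_exact_iff _).2 fun x hx =>
          ⟨⟨⟨x.1, congrArg Subtype.val hx⟩, x.2⟩, rfl⟩
        mono_f := (ModuleCat.mono_iff_injective _).2 fun x y h => Subtype.ext (Subtype.ext (congrArg (fun z : Fn => (z : Fin r → A)) h))
        epi_g := (ModuleCat.epi_iff_surjective _).2 fun y => by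
          obtain ⟨z, hz, hz'⟩ : y.1 ∈ Submodule.map π Fn := by
            rw [Submodule.map_smul'', Submodule.map_top, LinearMap.range_eq_top.2 hπ]; exact y.2
          exact ⟨⟨z, hz⟩, Subtype.ext hz'⟩ }
    let φ : Sn ⟶ S := ShortComplex.homMk (ModuleCat.ofHom Kn.subtype) (ModuleCat.ofHom Fn.subtype)
      (ModuleCat.ofHom (I ^ n • ⊤ : Submodule A M).subtype) rfl rfl
    have hj : ∀ x : Kn, x.1 ∈ (I ^ (k + c') • ⊤ : Submodule A K) := fun x => by
      have h1 : x.1.1 ∈ I ^ (k + c') • K := by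
        have h0 : x.1.1 ∈ I ^ n • ⊤ ⊓ K := ⟨x.2, x.1.2⟩
        rw [hc n (by omega), show n - c = k + c' by omega] at h0
        exact Submodule.smul_mono le_rfl inf_le_right h0
      obtain ⟨w, hw, hw'⟩ : x.1.1 ∈ Submodule.map K.subtype (I ^ (k + c') • ⊤) := by
        rw [Submodule.map_smul'', Submodule.map_top, Submodule.range_subtype]; exact h1
      rwa [← Subtype.ext hw']
    have hcomp : ModuleCat.ofHom (X := Kn) (Y := ↥(I ^ (k + c') • ⊤ : Submodule A K)) (LinearMap.codRestrict _ Kn.subtype hj) ≫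
        ModuleCat.ofHom (X := ↥(I ^ (k + c') • ⊤ : Submodule A K)) (Y := K) (Submodule.subtype _) = φ.τ₁ := by
      ext x
      rfl
    exact ⟨_, lift_succ (by push_cast; rfl) hS.singleδ g g' hg hg' ((sgl A).map φ.τ₃) hSn.singleδ ((sgl A).map φ.τ₁)
      ((ShortComplex.ShortExact.singleTriangle.map hSn hS φ).comm₃)
      ((sgl A).map (ModuleCat.ofHom (X := Kn) (Y := ↥(I ^ (k + c') • ⊤ : Submodule A K)) (LinearMap.codRestrict _ Kn.subtype hj)))
      ((sgl A).map (ModuleCat.ofHom (X := ↥(I ^ (k + c') • ⊤ : Submodule A K)) (Y := K) (Submodule.subtype _)))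
      (((sgl A).map_comp _ _).symm.trans (congrArg (sgl A).map hcomp)) _ e'' he''⟩

/-- Let A be a Noetherian ring, I an ideal, M a finite A-module and N any A-module. For every p > 0
there is c ≥ 0 such that for all n ≥ c the map Ext^p_A(M, N) → Ext^p_A(IⁿM, N) factors through
Ext^p_A(IⁿM, I^(n-c)N) → Ext^p_A(IⁿM, N). Here Ext^p(X, Y) is the group of morphisms X → Y[p] in
D(A). -/
theorem result (A : Type u) [CommRing A] [IsNoetherianRing A] (I : Ideal A)
    (M N : Type u) [AddCommGroup M] [Module A M] [Module.Finite A M] [AddCommGroup N] [Module A N]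
    (p : ℕ) (hp : 0 < p) :
    ∃ c : ℕ, ∀ n : ℕ, c ≤ n →
      ∀ e : Dual.inD A M ⟶ (Dual.inD A N)⟦(p : ℤ)⟧,
        ∃ e' : Dual.inD A ↥(I ^ n • ⊤ : Submodule A M) ⟶ (Dual.inD A ↥(I ^ (n - c) • ⊤ : Submodule A N))⟦(p : ℤ)⟧,
          e' ≫ ((DerivedCategory.singleFunctor (ModuleCat.{u} A) 0).map
                  (ModuleCat.ofHom (I ^ (n - c) • ⊤ : Submodule A N).subtype))⟦(p : ℤ)⟧' =
            (DerivedCategory.singleFunctor (ModuleCat.{u} A) 0).map
                (ModuleCat.ofHom (I ^ n • ⊤ : Submodule A M).subtype) ≫ e := by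
  obtain ⟨c, hc⟩ := key I N p M
  exact ⟨c, fun n hn e => hc e n (n - c) (by omega)⟩

end Groth.Agent.S7148
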