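import Groth.Statements.S7149
import Groth.Agent.PseudoCoh.ExtCocycle

set_option autoImplicit false
universe u
open CategoryTheory
attribute [local instance] HasDerivedCategory.standard
open CAlg

namespace Groth.Agent.S7149

open CategoryTheory CategoryTheory.Limits DerivedCategory DerivedCategory.TStructure Groth.Agent.PseudoCoh

attribute [local instance] HasDerivedCategory.standard

/-- a resolution by finite projective modules -/
lemma exists_resolution {A : Type u} [CommRing A] {K : Dual.D A} (hK : DRing.IsPseudoCoherent' A K) :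
    ∃ P : DRing.Cx A, CochainComplex.IsKProjective P ∧ (∀ i, Module.Finite A (P.X i) ∧ Module.Projective A (P.X i)) ∧
      Nonempty (DRing.toD P ≅ K) := by
  obtain ⟨E, b, hb, hff, hiso⟩ := hK
  have hp : ∀ i, Module.Finite A (E.X i) ∧ Module.Projective A (E.X i) := fun i => by
    obtain ⟨h1, h2⟩ := hff i
    exact ⟨h1, inferInstance⟩
  refine ⟨E, isKProjective_of_le hb fun i => ?_, hp, hiso⟩
  haveI := (hp i).2
  exact (IsProjective.iff_projective (E.X i)).1 inferInstance

/-- Artin-Rees for cocycles -/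
lemma exists_bound {A : Type u} [CommRing A] [IsNoetherianRing A] (I : Ideal A) (P : DRing.Cx A) (j : ℤ)
    [Module.Finite A (P.X j)] [Module.Projective A (P.X j)] (M : ModuleCat.{u} A) [Module.Finite A M] :
    ∃ c : ℕ, ∀ n, c ≤ n → ∀ z : cocycles P j M, (∀ x, z.1 x ∈ (I ^ n • ⊤ : Submodule A M)) →
      z ∈ (I ^ (n - c) • ⊤ : Submodule A (cocycles P j M)) := by
  haveI := finite_hom (A := A) (P := P.X j) M
  obtain ⟨c, hc⟩ := Ideal.exists_pow_inf_eq_pow_smul I (cocycles P j M)
  refine ⟨c, fun n hn z hz => ?_⟩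
  have h2 : z.1 ∈ I ^ (n - c) • cocycles P j M := by
    have h1 : z.1 ∈ I ^ n • ⊤ ⊓ cocycles P j M := ⟨mem_smul_hom _ _ hz, z.2⟩
    rw [hc n hn] at h1
    exact Submodule.smul_mono le_rfl inf_le_right h1
  obtain ⟨w, hw, hw'⟩ : z.1 ∈ Submodule.map (cocycles P j M).subtype (I ^ (n - c) • ⊤) := by
    rw [Submodule.map_smul'', Submodule.map_top, Submodule.range_subtype]; exact h2
  rwa [← Subtype.ext hw']

/-- Let A be a Noetherian ring, I an ideal, K a pseudo-coherent object of D(A) and M a finite A-module.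
For each integer p there is c such that for all n ≥ c the image of Ext^p_A(K, IⁿM) → Ext^p_A(K, M)
is contained in I^(n-c)·Ext^p_A(K, M); here Ext^p(K, X) = Hom_{D(A)}(K, X[p]) with its natural
A-module structure. -/
theorem result (A : Type u) [CommRing A] [IsNoetherianRing A] (I : Ideal A)
    (K : Dual.D A) (hK : DRing.IsPseudoCoherent' A K) (M : Type u) [AddCommGroup M] [Module A M] [Module.Finite A M]
    (p : ℤ) :
    ∃ c : ℕ, ∀ n : ℕ, c ≤ n →
      ∀ e : K ⟶ (Dual.inD A ↥(I ^ n • ⊤ : Submodule A M))⟦p⟧,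
        e ≫ ((DerivedCategory.singleFunctor (ModuleCat.{u} A) 0).map
              (ModuleCat.ofHom (I ^ n • ⊤ : Submodule A M).subtype))⟦p⟧' ∈
          (I ^ (n - c) • ⊤ : Submodule A (K ⟶ (Dual.inD A M)⟦p⟧)) := by
  obtain ⟨P, hP, hfp, ⟨eP⟩⟩ := exists_resolution hK
  haveI := (hfp (-p)).1; haveI := (hfp (-p)).2
  obtain ⟨c, hc⟩ := exists_bound I P (-p) (ModuleCat.of A M)
  refine ⟨c, fun n hn e => ?_⟩
  obtain ⟨z, rfl⟩ := extClass_surjective eP p (-p) (add_neg_cancel p)
    (ModuleCat.of A ↥(I ^ n • ⊤ : Submodule A M)) e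
  have h := Submodule.mem_map_of_mem (f := extClass eP p (-p) (add_neg_cancel p) (ModuleCat.of A M))
    (hc n hn (cocyclesPush P (-p) (ModuleCat.ofHom (I ^ n • ⊤ : Submodule A M).subtype) z) fun x => (z.1 x).2)
  rw [Submodule.map_smul''] at h
  exact (extClass_push eP p (-p) (add_neg_cancel p) _ z).symm ▸ Submodule.smul_mono le_rfl le_top h

end Groth.Agent.S7149
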