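import Groth.Statements.S7160
import Groth.Agent.PseudoCoh.Basic
import Mathlib.Algebra.Homology.ShortComplex.Linear
import Mathlib.Algebra.Homology.Linear
import Mathlib.Algebra.Homology.DerivedCategory.Linear

set_option autoImplicit false
universe u
open CategoryTheory CategoryTheory.Pretriangulated
attribute [local instance] HasDerivedCategory.standard
open CAlg

namespace Groth.Agent.S7160

open CategoryTheory CategoryTheory.Limits DerivedCategory

lemma homology_smul {R : Type u} [CommRing R] (f : R) (M : Dual.D R) (i : ℤ) :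
    (DerivedCategory.homologyFunctor (ModuleCat.{u} R) i).map (f • 𝟙 M) =
      f • (DerivedCategory.homologyFunctor (ModuleCat.{u} R) i).map (𝟙 M) := by
  let K := DerivedCategory.Q.objPreimage M
  let e := DerivedCategory.Q.objObjPreimageIso M
  let H := DerivedCategory.homologyFunctor (ModuleCat.{u} R) i
  have h1 : HomologicalComplex.homologyMap (f • 𝟙 K) i = f • 𝟙 (K.homology i) := by
    rw [← HomologicalComplex.homologyMap_id]
    exact ShortComplex.homologyMap_smul ((HomologicalComplex.shortComplexFunctor _ _ i).map (𝟙 K)) f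
  have nat := (DerivedCategory.homologyFunctorFactors (ModuleCat.{u} R) i).hom.naturality (f • 𝟙 K)
  change H.map (DerivedCategory.Q.map (f • 𝟙 K)) ≫ _ = _ ≫ HomologicalComplex.homologyMap (f • 𝟙 K) i at nat
  rw [h1] at nat
  have h2 : H.map (DerivedCategory.Q.map (f • 𝟙 K)) = f • 𝟙 _ := by
    rw [← cancel_mono ((DerivedCategory.homologyFunctorFactors (ModuleCat.{u} R) i).hom.app K)]
    refine nat.trans ?_
    exact (Linear.comp_smul _ _ _ _ _ _).trans ((congrArg (f • ·) ((Category.comp_id _).trans (Category.id_comp _).symm)).trans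
      (Linear.smul_comp _ _ _ _ _ _).symm)
  rw [show f • 𝟙 M = e.inv ≫ DerivedCategory.Q.map (f • 𝟙 K) ≫ e.hom by
    rw [Functor.map_smul, CategoryTheory.Functor.map_id, Linear.smul_comp, Category.id_comp, Linear.comp_smul, e.inv_hom_id]]
  change H.map _ = f • H.map _
  rw [Functor.map_comp, Functor.map_comp, h2, Linear.smul_comp, Category.id_comp, Linear.comp_smul, ← Functor.map_comp,
    e.inv_hom_id]

/-- Let R be a ring, f an element of R, M an object of D(R) and C the cone of f : M → M. Suppose that
H^i(M)_f = 0 whenever i < 0 (every element of H^i(M) is killed by a power of f) and that H^i(C) = 0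
whenever i < -1. Then H^i(M) vanishes for every i < 0. -/
theorem result (R : Type u) [CommRing R] (f : R) (M C : Dual.D R)
    (g : M ⟶ C) (h : C ⟶ M⟦(1 : ℤ)⟧) (hT : Triangle.mk (f • 𝟙 M) g h ∈ distinguishedTriangles)
    (hloc : ∀ i : ℤ, i < 0 → ∀ x : Dual.HD R M i, ∃ n : ℕ, f ^ n • x = 0)
    (hC : ∀ i : ℤ, i < -1 → Subsingleton (Dual.HD R C i)) :
    ∀ i : ℤ, i < 0 → Subsingleton (Dual.HD R M i) := by
  intro i hi
  haveI : Mono ((DerivedCategory.homologyFunctor (ModuleCat.{u} R) i).map (f • 𝟙 M)) :=
    (HomologySequence.mono_homologyMap_mor₁_iff _ hT (i - 1) i (by omega)).2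
      ((@ModuleCat.isZero_of_subsingleton _ _ _ (hC (i - 1) (by omega))).eq_of_src _ _)
  have hinj := (ModuleCat.mono_iff_injective _).1 this
  have hsm : ∀ x : Dual.HD R M i, ((DerivedCategory.homologyFunctor (ModuleCat.{u} R) i).map (f • 𝟙 M)).hom x = f • x := fun x => by
    rw [homology_smul, CategoryTheory.Functor.map_id]
    rfl
  refine subsingleton_of_forall_eq 0 fun x => ?_
  obtain ⟨n, hn⟩ := hloc i hi x
  induction n with
  | zero => simpa using hn
  | succ n ih =>
    refine ih (hinj (((hsm _).trans ?_).trans (map_zero _).symm))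
    rw [← mul_smul, ← pow_succ']
    exact hn

end Groth.Agent.S7160
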