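import Groth.Statements.S7164
import Groth.Agent.PseudoCoh.ExtCocycle

set_option autoImplicit false
universe u
open CategoryTheory
attribute [local instance] HasDerivedCategory.standard
open CAlg

namespace Groth.Agent.S7164

open CategoryTheory CategoryTheory.Limits DerivedCategory DerivedCategory.TStructure Groth.Agent.PseudoCoh

attribute [local instance] HasDerivedCategory.standard

/-- a resolution by finite projective modules -/
lemma exists_resolution {A : Type u} [CommRing A] {K : Dual.D A} (hK : DRing.IsPseudoCoherent' A K) :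
    ∃ P : DRing.Cx A, CochainComplex.IsKProjective P ∧ (∀ i, Module.Finite A (P.X i) ∧ Module.Projective A (P.X i)) ∧
      Nonempty (DRing.toD P ≅ K) := by
  obtain ⟨E, b, hb, hff, hiso⟩ := hK
  have hp : ∀ i, Module.Finite A (E.X i) ∧ Module.Projective A (E.X i) := fun i => by
    obtain ⟨h1, h2⟩ := hff i
    exact ⟨h1, inferInstance⟩
  refine ⟨E, isKProjective_of_le hb fun i => ?_, hp, hiso⟩
  haveI := (hp i).2
  exact (IsProjective.iff_projective (E.X i)).1 inferInstance

/-- Artin-Rees for cocycles -/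
lemma exists_bound {A : Type u} [CommRing A] [IsNoetherianRing A] (I : Ideal A) (P : DRing.Cx A) (j : ℤ)
    [Module.Finite A (P.X j)] [Module.Projective A (P.X j)] (M : ModuleCat.{u} A) [Module.Finite A M] :
    ∃ c : ℕ, ∀ n, c ≤ n → ∀ z : cocycles P j M, (∀ x, z.1 x ∈ (I ^ n • ⊤ : Submodule A M)) →
      z ∈ (I ^ (n - c) • ⊤ : Submodule A (cocycles P j M)) := by
  haveI := finite_hom (A := A) (P := P.X j) M
  obtain ⟨c, hc⟩ := Ideal.exists_pow_inf_eq_pow_smul I (cocycles P j M)
  refine ⟨c, fun n hn z hz => ?_⟩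
  have h2 : z.1 ∈ I ^ (n - c) • cocycles P j M := by
    have h1 : z.1 ∈ I ^ n • ⊤ ⊓ cocycles P j M := ⟨mem_smul_hom _ _ hz, z.2⟩
    rw [hc n hn] at h1
    exact Submodule.smul_mono le_rfl inf_le_right h1
  obtain ⟨w, hw, hw'⟩ : z.1 ∈ Submodule.map (cocycles P j M).subtype (I ^ (n - c) • ⊤) := by
    rw [Submodule.map_smul'', Submodule.map_top, Submodule.range_subtype]; exact h2
  rwa [← Subtype.ext hw']

/-- Let A be a Noetherian ring, I an ideal, K a pseudo-coherent object of D(A) and a an integer. Assume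
that for every finite A-module M and every i ≥ a the module Ext^i_A(K, M) is I-power torsion. Then
for i ≥ a and M finite the inverse system (Ext^i_A(K, M/IⁿM))_n is essentially constant with value
Ext^i_A(K, M) (so that Ext^i_A(K, M) = lim Ext^i_A(K, M/IⁿM)): concretely, some comparison map
Ext^i(K, M) → Ext^i(K, M/I^mM) is injective and for every n there is m' ≥ n such that the image of
the transition map Ext^i(K, M/I^(m')M) → Ext^i(K, M/IⁿM) is contained in the image of Ext^i(K, M).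
Here Ext^i(K, X) = Hom_{D(A)}(K, X[i]). -/
theorem result (A : Type u) [CommRing A] [IsNoetherianRing A]
    (I : Ideal A) (K : Dual.D A) (hK : DRing.IsPseudoCoherent' A K) (a : ℤ)
    (htors : ∀ (M : Type u) [AddCommGroup M] [Module A M], Module.Finite A M → ∀ i : ℤ, a ≤ i →
      ∀ e : K ⟶ (Dual.inD A M)⟦i⟧, ∃ n : ℕ, ∀ x ∈ I ^ n, x • e = 0)
    (M : Type u) [AddCommGroup M] [Module A M] [Module.Finite A M] (i : ℤ) (hi : a ≤ i) :
    let Mq : ℕ → Submodule A M := fun n => I ^ n • ⊤
    let c : ∀ n : ℕ, (K ⟶ (Dual.inD A M)⟦i⟧) → (K ⟶ (Dual.inD A (M ⧸ Mq n))⟦i⟧) :=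
      fun n e => e ≫ ((DerivedCategory.singleFunctor (ModuleCat.{u} A) 0).map (ModuleCat.ofHom (Mq n).mkQ))⟦i⟧'
    let t : ∀ n m : ℕ, n ≤ m → (K ⟶ (Dual.inD A (M ⧸ Mq m))⟦i⟧) → (K ⟶ (Dual.inD A (M ⧸ Mq n))⟦i⟧) :=
      fun n m hnm e => e ≫ ((DerivedCategory.singleFunctor (ModuleCat.{u} A) 0).map (ModuleCat.ofHom
        (Submodule.mapQ (Mq m) (Mq n) (LinearMap.id : M →ₗ[A] M) (Submodule.smul_mono_left (Ideal.pow_le_pow_right hnm)))))⟦i⟧'
    (∃ m : ℕ, Function.Injective (c m)) ∧
      ∀ n : ℕ, ∃ (m' : ℕ) (hnm : n ≤ m'), Set.range (t n m' hnm) ⊆ Set.range (c n) := by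
  intro Mq c t
  obtain ⟨P, hP, hfp, ⟨eP⟩⟩ := exists_resolution hK
  obtain ⟨j, hj⟩ : ∃ j, i + j = 0 := ⟨-i, add_neg_cancel i⟩
  haveI := (hfp j).1; haveI := (hfp j).2; haveI := (hfp (j - 1)).1; haveI := (hfp (j - 1)).2
  haveI := (hfp (j + 1)).2
  haveI := finite_hom (A := A) (P := P.X j) M
  refine ⟨?_, fun n => ?_⟩
  · obtain ⟨cb, hcb⟩ := exists_bound I P j (ModuleCat.of A M)
    haveI : Module.Finite A (K ⟶ (Dual.inD A M)⟦i⟧) :=
      Module.Finite.of_surjective _ (extClass_surjective eP i j hj (ModuleCat.of A M))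
    choose N hN using fun e => htors M inferInstance i hi e
    obtain ⟨G, hG⟩ := (Module.Finite.fg_top : (⊤ : Submodule A (K ⟶ (Dual.inD A M)⟦i⟧)).FG)
    let T := G.sup N
    have hT : ∀ e : K ⟶ (Dual.inD A M)⟦i⟧, ∀ x ∈ I ^ T, x • e = 0 := fun e x hx => by
      have he : e ∈ Submodule.span A (G : Set (K ⟶ (Dual.inD A M)⟦i⟧)) := hG ▸ Submodule.mem_top
      induction he using Submodule.span_induction with
      | mem g hg => exact hN g x (Ideal.pow_le_pow_right (Finset.le_sup (Finset.mem_coe.1 hg)) hx)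
      | zero => exact smul_zero x
      | add u v _ _ hu hv => rw [smul_add, hu, hv, add_zero]
      | smul r u _ hu => rw [smul_comm, hu, smul_zero]
    refine ⟨cb + T, fun e₁ e₂ he => sub_eq_zero.1 ?_⟩
    have hc : c (cb + T) (e₁ - e₂) = 0 := (Preadditive.sub_comp _ _ _).trans (sub_eq_zero.2 he)
    obtain ⟨z, hz⟩ := extClass_surjective eP i j hj (ModuleCat.of A M) (e₁ - e₂)
    rw [← hz] at hc ⊢
    obtain ⟨s', hs'⟩ := extClass_eq_zero eP i j hj (cocyclesPush P j (ModuleCat.ofHom (Mq (cb + T)).mkQ) z)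
      ((extClass_push eP i j hj _ z).symm.trans hc)
    obtain ⟨s, hs⟩ := Module.projective_lifting_property (Mq (cb + T)).mkQ s' (Submodule.mkQ_surjective _)
    let b : cocycles P j (ModuleCat.of A M) := ⟨s ∘ₗ (P.d j (j + 1)).hom, by
      rw [mem_cocycles, LinearMap.comp_assoc]
      have := congrArg ModuleCat.Hom.hom (P.d_comp_d (j - 1) j (j + 1))
      rw [ModuleCat.hom_comp] at this
      rw [this]; exact LinearMap.comp_zero s⟩
    have hw := Submodule.mem_map_of_mem (f := extClass eP i j hj (ModuleCat.of A M)) (hcb (cb + T) (by omega) (z - b) fun x => by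
      have h1 := LinearMap.congr_fun hs' x
      rw [← hs] at h1
      exact (Submodule.Quotient.eq _).1 h1.symm)
    rw [Submodule.map_smul'', map_sub, extClass_of_boundary eP i j hj b s rfl, sub_zero, Nat.add_sub_cancel_left] at hw
    refine Submodule.smul_induction_on (p := fun y => y = 0) hw (fun x hx y _ => hT y x hx) ?_
    rintro x y rfl rfl; exact add_zero 0
  · haveI := finite_hom (A := A) (P := P.X (j - 1)) M
    obtain ⟨c', hc'⟩ := Ideal.exists_pow_inf_eq_pow_smul I (LinearMap.range (LinearMap.lcomp A M (P.d (j - 1) j).hom))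
    refine ⟨n + c', Nat.le_add_right n c', ?_⟩
    rintro _ ⟨e, rfl⟩
    obtain ⟨z', rfl⟩ := extClass_surjective eP i j hj (ModuleCat.of A (M ⧸ Mq (n + c'))) e
    obtain ⟨z, hz⟩ := Module.projective_lifting_property (Mq (n + c')).mkQ z'.1 (Submodule.mkQ_surjective _)
    have hmem : LinearMap.lcomp A M (P.d (j - 1) j).hom z ∈
        Submodule.map (LinearMap.lcomp A M (P.d (j - 1) j).hom) (I ^ n • ⊤) := by
      rw [Submodule.map_smul'', Submodule.map_top]
      have h1 : LinearMap.lcomp A M (P.d (j - 1) j).hom z ∈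
          I ^ (n + c') • ⊤ ⊓ LinearMap.range (LinearMap.lcomp A M (P.d (j - 1) j).hom) := by
        refine ⟨mem_smul_hom _ _ fun x => (Submodule.Quotient.mk_eq_zero _).1 ?_, ⟨z, rfl⟩⟩
        have h2 : z'.1 ∘ₗ (P.d (j - 1) j).hom = 0 := z'.2
        rw [← hz] at h2
        exact LinearMap.congr_fun h2 x
      rw [hc' (n + c') (Nat.le_add_left c' n), Nat.add_sub_cancel] at h1
      exact Submodule.smul_mono le_rfl inf_le_right h1
    obtain ⟨w, hw, hwz⟩ := hmem
    let v : cocycles P j (ModuleCat.of A M) := ⟨z - w, by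
      change LinearMap.lcomp A M (P.d (j - 1) j).hom (z - w) = 0
      rw [map_sub, hwz, sub_self]⟩
    refine ⟨extClass eP i j hj (ModuleCat.of A M) v, ?_⟩
    refine (extClass_push eP i j hj _ v).trans (Eq.trans ?_ (extClass_push eP i j hj _ z').symm)
    refine congrArg (extClass eP i j hj (ModuleCat.of A (M ⧸ Mq n))) (Subtype.ext (LinearMap.ext fun x => ?_))
    change (Mq n).mkQ (z x - w x) = Submodule.mapQ (Mq (n + c')) (Mq n) (LinearMap.id : M →ₗ[A] M) (Submodule.smul_mono_left (Ideal.pow_le_pow_right (Nat.le_add_right n c'))) (z'.1 x)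
    rw [← hz]
    exact (Submodule.Quotient.eq _).2 (by rw [LinearMap.id_apply, sub_sub_cancel_left]; exact neg_mem (apply_mem_smul _ hw x))

end Groth.Agent.S7164
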