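import Groth.Statements.S7177
import Groth.Agent.FlatMor.AbsFlat

set_option autoImplicit false
universe u
open FlatMor

namespace Groth.Agent.S7177

open AlgebraicGeometry CategoryTheory Limits in
/-- Let f : X → Y have flat diagonal and let F be an O_X-module flat over Y. Then F is flat as an
O_X-module. -/
theorem result {X Y : Scheme.{u}} (f : X ⟶ Y) [Flat (pullback.diagonal f)] (F : X.Modules)
    (hF : FlatMod.IsFlatOver f F) : FlatMod.IsFlat F := by
  intro x
  haveI : Flat (X.fromSpecStalk x) := by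
    obtain ⟨U, hU, hz, -⟩ := exists_isAffineOpen_mem_and_subset (U := ⊤) (TopologicalSpace.Opens.mem_top x)
    rw [← hU.fromSpecStalk_eq_fromSpecStalk hz, IsAffineOpen.fromSpecStalk]
    haveI : Flat (Spec.map (X.presheaf.germ U x hz)) := by
      rw [HasRingHomProperty.Spec_iff (P := @Flat)]
      letI := X.presheaf.algebra_section_stalk ⟨x, hz⟩
      haveI := hU.isLocalization_stalk ⟨x, hz⟩
      exact (IsLocalization.flat (X.presheaf.stalk x)
        (hU.primeIdealOf ⟨x, hz⟩).asIdeal.primeCompl : Module.Flat Γ(X, U) (X.presheaf.stalk x))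
    infer_instance
  have h1 := Groth.Agent.FlatMor.AbsFlat.flat_lmul_stalk f x
  have hx := hF x
  letI := (f.stalkMap x).hom.toAlgebra
  letI : Module ↑(Y.presheaf.stalk (f x)) ↑(F.presheaf.stalk x) := FlatMod.moduleStalkOver f F x
  haveI : IsScalarTower ↑(Y.presheaf.stalk (f x)) ↑(X.presheaf.stalk x) ↑(F.presheaf.stalk x) :=
    IsScalarTower.of_compHom _ _ _
  haveI : Module.Flat ↑(Y.presheaf.stalk (f x)) ↑(F.presheaf.stalk x) := hx
  exact Groth.Agent.FlatMor.AbsFlat.flat_of_flat_lmul h1

end Groth.Agent.S7177
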