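import Groth.Statements.S7289
import Groth.Agent.HensPoint.IndEtale

set_option autoImplicit false
open CategoryTheory CategoryTheory.Limits AlgebraicGeometry Opposite
universe u
open ProEtW

namespace Groth.Agent.S7289

/-- Ind-etale A-algebras are stable under filtered colimits, i.e. any colimit over a filtered index
category of such algebras is again ind-etale over A. Concretely: if D is a filtered diagram of rings
under A all of whose values are ind-etale A-algebras, and the A-algebra B is a colimit of D in the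
category of rings under A, then B is ind-etale over A. -/
theorem result (A B : Type u) [CommRing A] [CommRing B] [Algebra A B]
    {J : Type u} [SmallCategory J] [IsFiltered J] (D : J ⥤ Under (CommRingCat.of A))
    (hD : ∀ j, letI := (D.obj j).hom.hom.toAlgebra; EtPBC.IsIndEtale A ↥(D.obj j).right)
    (c : Cocone D) (hc : IsColimit c)
    (e : c.pt ≅ Under.mk (CommRingCat.ofHom (algebraMap A B))) :
    EtPBC.IsIndEtale A B := by
  rw [HensPoint.IndEtale.iff]
  let ι : ∀ j : J, letI := (D.obj j).hom.hom.toAlgebra; (D.obj j).right →ₐ[A] B := fun j =>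
    letI := (D.obj j).hom.hom.toAlgebra
    { toRingHom := (c.ι.app j ≫ e.hom).right.hom
      commutes' := fun a =>
        DFunLike.congr_fun (congrArg CommRingCat.Hom.hom (Under.w (c.ι.app j ≫ e.hom))) a }
  have hinv : ∀ y, e.hom.right (e.inv.right y) = y := fun y =>
    DFunLike.congr_fun (congrArg (fun t => CommRingCat.Hom.hom (CommaMorphism.right t)) e.inv_hom_id) y
  have hinv' : ∀ y, e.inv.right (e.hom.right y) = y := fun y =>
    DFunLike.congr_fun (congrArg (fun t => CommRingCat.Hom.hom (CommaMorphism.right t)) e.hom_inv_id) y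
  have hι : ∀ j y, (letI := (D.obj j).hom.hom.toAlgebra; ι j y) = e.hom.right ((c.ι.app j).right y) :=
    fun j y => rfl
  refine ⟨fun {n} x => ?_, fun {A'} _ _ _ φ {n} s hs => ?_⟩
  · obtain ⟨j, hj⟩ := HensPoint.IndEtale.exists_stage hc fun k => e.inv.right (x k)
    choose y hy using hj
    let := (D.obj j).hom.hom.toAlgebra
    obtain ⟨A', _, _, _, φ, hr⟩ := (HensPoint.IndEtale.iff.mp (hD j)).rep y
    refine ⟨A', inferInstance, inferInstance, inferInstance, (ι j).comp φ, fun k => ?_⟩
    obtain ⟨r, hr⟩ := hr k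
    exact ⟨r, by rw [AlgHom.comp_apply, hr, hι, hy, hinv]⟩
  · classical
    obtain ⟨m, π, hπ, hker⟩ := (inferInstance : Algebra.FinitePresentation A A').out
    obtain ⟨G, hG⟩ := hker
    obtain ⟨j, hj⟩ := HensPoint.IndEtale.exists_stage hc
      fun k : Fin m => e.inv.right (φ (π (MvPolynomial.X k)))
    choose y hy using hj
    let := (D.obj j).hom.hom.toAlgebra
    let ρ : MvPolynomial (Fin m) A →ₐ[A] (D.obj j).right := MvPolynomial.aeval y
    have hρ : (ι j).comp ρ = φ.comp π := MvPolynomial.algHom_ext fun k => by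
      show ι j (MvPolynomial.aeval y (MvPolynomial.X k)) = _
      rw [MvPolynomial.aeval_X, hι, hy, hinv]
      rfl
    choose s' hs' using fun k => hπ (s k)
    let G' : Finset (MvPolynomial (Fin m) A) := G ∪ Finset.univ.image s'
    have hG' : ∀ g ∈ G', (c.ι.app j).right (ρ g) = (c.ι.app j).right 0 := fun g hg => by
      have h0 : φ (π g) = 0 := by
        rcases Finset.mem_union.mp hg with hg | hg
        · have hgk : g ∈ RingHom.ker π.toRingHom := hG ▸ Ideal.subset_span hg
          rw [show π g = 0 from hgk, map_zero]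
        · obtain ⟨k, -, rfl⟩ := Finset.mem_image.mp hg
          rw [hs', hs]
      rw [map_zero, ← hinv' ((c.ι.app j).right (ρ g)), ← hι,
        show ι j (ρ g) = 0 from (DFunLike.congr_fun hρ g).trans h0, map_zero]
    choose l f hf using fun g : G' => HensPoint.IndEtale.exists_eq hc (ρ g.1) 0 (hG' g.1 g.2)
    obtain ⟨l', t, ht⟩ : ∃ (l' : J) (t : j ⟶ l'), ∀ g, ∃ f' : l g ⟶ l', f g ≫ f' = t := by
      obtain ⟨l₀, hl₀⟩ := IsFiltered.sup_objs_exists (insert j (Finset.univ.image l))
      obtain ⟨t₀⟩ := hl₀ (Finset.mem_insert_self _ _)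
      have hg₀ : ∀ g : G', Nonempty (l g ⟶ l₀) := fun g =>
        hl₀ (Finset.mem_insert_of_mem (Finset.mem_image_of_mem l (Finset.mem_univ g)))
      suffices ∀ T : Finset G', ∃ (l' : J) (q : l₀ ⟶ l'), ∀ g ∈ T,
          f g ≫ (hg₀ g).some ≫ q = t₀ ≫ q by
        obtain ⟨l', q, hq⟩ := this Finset.univ
        exact ⟨l', t₀ ≫ q, fun g => ⟨(hg₀ g).some ≫ q, hq g (Finset.mem_univ g)⟩⟩
      intro T
      induction T using Finset.induction_on with
      | empty => exact ⟨l₀, 𝟙 _, fun g hg => absurd hg (Finset.notMem_empty g)⟩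
      | insert g T _ ih =>
        obtain ⟨l₁, q, hq⟩ := ih
        refine ⟨IsFiltered.coeq (f g ≫ (hg₀ g).some ≫ q) (t₀ ≫ q),
          q ≫ IsFiltered.coeqHom _ _, fun g' hg' => ?_⟩
        rcases Finset.mem_insert.mp hg' with rfl | hg'
        · simpa using IsFiltered.coeq_condition (f g' ≫ (hg₀ g').some ≫ q) (t₀ ≫ q)
        · rw [← Category.assoc t₀, ← hq g' hg', Category.assoc, Category.assoc]
    let := (D.obj l').hom.hom.toAlgebra
    let τ : (D.obj j).right →ₐ[A] (D.obj l').right :=
      { toRingHom := (D.map t).right.hom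
        commutes' := fun a => DFunLike.congr_fun (congrArg CommRingCat.Hom.hom (Under.w (D.map t))) a }
    have hzero : ∀ g ∈ G', τ (ρ g) = 0 := fun g hg => by
      obtain ⟨f', hf'⟩ := ht ⟨g, hg⟩
      show (D.map t).right (ρ g) = 0
      rw [← hf', D.map_comp]
      show (D.map f').right ((D.map (f ⟨g, hg⟩)).right (ρ g)) = 0
      rw [hf ⟨g, hg⟩, map_zero, map_zero]
    have hkerle : RingHom.ker π.toRingHom ≤ RingHom.ker (τ.comp ρ).toRingHom := by
      rw [← hG]
      exact Ideal.span_le.mpr fun g hg => hzero g (Finset.mem_union_left _ hg)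
    let ψ : A' →ₐ[A] (D.obj l').right :=
      (Ideal.Quotient.liftₐ (RingHom.ker π) (τ.comp ρ) hkerle).comp
        (Ideal.quotientKerAlgEquivOfSurjective hπ).symm.toAlgHom
    have hψ : ∀ g, ψ (π g) = τ (ρ g) := fun g => by
      show Ideal.Quotient.liftₐ (RingHom.ker π) (τ.comp ρ) hkerle
        ((Ideal.quotientKerAlgEquivOfSurjective hπ).symm (π g)) = _
      rw [show (Ideal.quotientKerAlgEquivOfSurjective hπ).symm (π g) = Ideal.Quotient.mk _ g from
        (Ideal.quotientKerAlgEquivOfSurjective hπ).injective (by simp)]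
      rfl
    have hτ : ∀ y, ι l' (τ y) = ι j y := fun y => by
      show ι l' ((D.map t).right y) = _
      rw [hι, hι]
      congr 1
      exact DFunLike.congr_fun (congrArg (fun t => CommRingCat.Hom.hom (CommaMorphism.right t)) (c.w t)) y
    obtain ⟨A'', _, _, _, χ, θ, hχ, hθ⟩ := (HensPoint.IndEtale.iff.mp (hD l')).kill ψ s fun k => by
      rw [← hs', hψ]
      exact hzero _ (Finset.mem_union_right _ (Finset.mem_image_of_mem _ (Finset.mem_univ k)))
    refine ⟨A'', inferInstance, inferInstance, inferInstance, (ι l').comp χ, θ,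
      AlgHom.ext fun x => ?_, hθ⟩
    obtain ⟨g, rfl⟩ := hπ x
    show ι l' (χ (θ (π g))) = _
    rw [show χ (θ (π g)) = ψ (π g) from DFunLike.congr_fun hχ (π g), hψ, hτ]
    exact DFunLike.congr_fun hρ g

end Groth.Agent.S7289
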