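import Groth.Statements.S7341
import Groth.Agent.NumType.Chains

set_option autoImplicit false
open Finset
open Models Models.NumericalType

namespace Groth.Agent.S7341
open Groth.Agent.NumType.Basic Groth.Agent.NumType.Shapes Groth.Agent.NumType.Chains

/-- Classification of proper subgraphs which are chains of three vertices: let T be a numerical type on
n > 3 indices and i, j, k distinct (-2)-indices with a_ij > 0 and a_jk > 0. Then a_ik = 0 and, up to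
reversing the order of i, j, k, one of the following holds for some integer w: (A3) w_i = w_j = w_k
= w, a_ij = a_jk = w, with 2 m_i ≥ m_j, 2 m_j ≥ m_i + m_k, 2 m_k ≥ m_j; (C3) w_i = w_j = w, w_k =
2w, a_ij = w, a_jk = 2w, with 2 m_i ≥ m_j, 2 m_j ≥ m_i + 2 m_k, 2 m_k ≥ m_j; (B3) w_i = w_j = 2w,
w_k = w, a_ij = a_jk = 2w, with 2 m_i ≥ m_j, 2 m_j ≥ m_i + m_k, m_k ≥ m_j. -/
theorem result {n : ℕ} (T : Models.NumericalType n) (hn : 3 < n) (i j k : Fin n)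
    (hij : i ≠ j) (hjk : j ≠ k) (hik : i ≠ k) (hi : T.IsMinusTwo i) (hj : T.IsMinusTwo j) (hk : T.IsMinusTwo k)
    (h1 : 0 < T.a i j) (h2 : 0 < T.a j k) :
    T.a i k = 0 ∧ ∃ (i' k' : Fin n) (w : ℤ), ((i' = i ∧ k' = k) ∨ (i' = k ∧ k' = i)) ∧
      ((T.w i' = w ∧ T.w j = w ∧ T.w k' = w ∧ T.a i' j = w ∧ T.a j k' = w ∧
          T.m j ≤ 2 * T.m i' ∧ T.m i' + T.m k' ≤ 2 * T.m j ∧ T.m j ≤ 2 * T.m k') ∨
        (T.w i' = w ∧ T.w j = w ∧ T.w k' = 2 * w ∧ T.a i' j = w ∧ T.a j k' = 2 * w ∧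
          T.m j ≤ 2 * T.m i' ∧ T.m i' + 2 * T.m k' ≤ 2 * T.m j ∧ T.m j ≤ 2 * T.m k') ∨
        (T.w i' = 2 * w ∧ T.w j = 2 * w ∧ T.w k' = w ∧ T.a i' j = 2 * w ∧ T.a j k' = 2 * w ∧
          T.m j ≤ 2 * T.m i' ∧ T.m i' + T.m k' ≤ 2 * T.m j ∧ T.m j ≤ T.m k')) := by
  obtain ⟨v, v0, v1, v2⟩ : ∃ v : Fin 3 ↪ Fin n, v 0 = i ∧ v 1 = j ∧ v 2 = k :=
    ⟨⟨![i, j, k], by intro a b; fin_cases a <;> fin_cases b <;> simp [hij, hjk, hik, hij.symm, hjk.symm, hik.symm]⟩, rfl, rfl, rfl⟩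
  subst v0 v1 v2
  have hv : ∀ p, T.IsMinusTwo (v p) := fun p => match p with
    | 0 => hi
    | 1 => hj
    | 2 => hk
  have h01 := h1.ne'
  have h12 := h2.ne'
  have hvi := v.injective
  have A01 : T.a (v 0) (v 1) ≠ 0 := h01
  have A10 : T.a (v 1) (v 0) ≠ 0 := by rw [a_symm T]; exact A01
  have A12 : T.a (v 1) (v 2) ≠ 0 := h12
  have A21 : T.a (v 2) (v 1) ≠ 0 := by rw [a_symm T]; exact A12
  have r0 := row1 T (v 0) (v 1) (hvi.ne (show (1 : Fin 3) ≠ 0 by decide))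
  rw [(hv 0).2] at r0
  have hw0 := T.w_pos (v 0)
  have r1 := row2 T (v 1) (v 0) (v 2) (hvi.ne (show (0 : Fin 3) ≠ 1 by decide)) (hvi.ne (show (2 : Fin 3) ≠ 1 by decide)) (hvi.ne (show (0 : Fin 3) ≠ 2 by decide))
  rw [(hv 1).2] at r1
  have hw1 := T.w_pos (v 1)
  have r2 := row1 T (v 2) (v 1) (hvi.ne (show (1 : Fin 3) ≠ 2 by decide))
  rw [(hv 2).2] at r2
  have hw2 := T.w_pos (v 2)
  have adj : ∀ a b : Fin 3, (a, b) ∈ ([(0, 1), (1, 0), (1, 2), (2, 1)] : List (Fin 3 × Fin 3)) → T.a (v a) (v b) ≠ 0 := by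
    intro a b h
    simp only [List.mem_cons, List.not_mem_nil, or_false, Prod.mk.injEq] at h
    rcases h with ⟨rfl, rfl⟩ | ⟨rfl, rfl⟩ | ⟨rfl, rfl⟩ | ⟨rfl, rfl⟩ <;> assumption
  have key : ∀ a b c : ℤ, 0 < a → a * b ≤ a * c → b ≤ c := fun a b c ha h => le_of_mul_le_mul_left h ha
  have Z02 : T.a (v 0) (v 2) = 0 := chain_zero T 3 (by omega) (⇑v ∘ (![0, 1, 2] : Fin 3 → Fin 3)) (hvi.comp (by decide)) (fun _ => hv _) (fun a b h => adj _ _ ((show ∀ a b : Fin 3, b.val = a.val + 1 → ((![0, 1, 2] : Fin 3 → Fin 3) a, (![0, 1, 2] : Fin 3 → Fin 3) b) ∈ ([(0, 1), (1, 0), (1, 2), (2, 1)] : List _) from by decide) a b h)) 0 2 (by decide)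
  have hc : ∀ p q : Fin 3, q.val = p.val + 1 → T.a (v p) (v q) ≠ 0 := (fun a b h => adj _ _ ((show ∀ a b : Fin 3, b.val = a.val + 1 → (a, b) ∈ ([(0, 1), (1, 0), (1, 2), (2, 1)] : List _) from by decide) a b h))
  have e0 := chain_edge T 3 (by omega) hn v hvi hv hc 0 1 rfl
  have e1 := chain_edge T 3 (by omega) hn v hvi hv hc 1 2 rfl
  have U01 : T.w (v 0) = T.w (v 1) ∨ T.w (v 1) = T.w (v 2) := by
    by_contra hh; push Not at hh
    exact absurd (change_unique T 3 hn v hvi hv hc 0 1 1 2 rfl rfl hh.1 hh.2) (by decide)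
  have hcases : (T.w (v 1) = 1 * T.w (v 0) ∧ T.w (v 2) = 1 * T.w (v 0) ∧ T.a (v 0) (v 1) = 1 * T.w (v 0) ∧ T.a (v 1) (v 2) = 1 * T.w (v 0)) ∨ (T.w (v 1) = 2 * T.w (v 0) ∧ T.w (v 2) = 2 * T.w (v 0) ∧ T.a (v 0) (v 1) = 2 * T.w (v 0) ∧ T.a (v 1) (v 2) = 2 * T.w (v 0)) ∨ (T.w (v 0) = 2 * T.w (v 1) ∧ T.w (v 2) = 1 * T.w (v 1) ∧ T.a (v 0) (v 1) = 2 * T.w (v 1) ∧ T.a (v 1) (v 2) = 1 * T.w (v 1)) ∨ (T.w (v 1) = 1 * T.w (v 0) ∧ T.w (v 2) = 2 * T.w (v 0) ∧ T.a (v 0) (v 1) = 1 * T.w (v 0) ∧ T.a (v 1) (v 2) = 2 * T.w (v 0)) ∨ (T.w (v 0) = 2 * T.w (v 2) ∧ T.w (v 1) = 2 * T.w (v 2) ∧ T.a (v 0) (v 1) = 2 * T.w (v 2) ∧ T.a (v 1) (v 2) = 2 * T.w (v 2)) := by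
    rcases e0 with ⟨a0, b0⟩ | ⟨a0, b0⟩ | ⟨a0, b0⟩ <;> rcases e1 with ⟨a1, b1⟩ | ⟨a1, b1⟩ | ⟨a1, b1⟩
    · exact Or.inl ⟨by linarith, by linarith, by linarith, by linarith⟩
    · exact Or.inr (Or.inr (Or.inr (Or.inl ⟨by linarith, by linarith, by linarith, by linarith⟩)))
    · exact Or.inr (Or.inr (Or.inr (Or.inr (⟨by linarith, by linarith, by linarith, by linarith⟩))))
    · exact Or.inr (Or.inl ⟨by linarith, by linarith, by linarith, by linarith⟩)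
    · rcases U01 with u | u <;> linarith [hw0, hw1, hw1, hw2]
    · rcases U01 with u | u <;> linarith [hw0, hw1, hw1, hw2]
    · exact Or.inr (Or.inr (Or.inl ⟨by linarith, by linarith, by linarith, by linarith⟩))
    · rcases U01 with u | u <;> linarith [hw0, hw1, hw1, hw2]
    · rcases U01 with u | u <;> linarith [hw0, hw1, hw1, hw2]
  refine ⟨Z02, ?_⟩
  rcases hcases with ⟨q0, q1, B0, B1⟩ | ⟨q0, q1, B0, B1⟩ | ⟨q0, q1, B0, B1⟩ | ⟨q0, q1, B0, B1⟩ | ⟨q0, q1, B0, B1⟩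
  · have W := T.w_pos (v 0)
    have B0' : T.a (v 1) (v 0) = 1 * T.w (v 0) := (a_symm T _ _).trans B0
    have B1' : T.a (v 2) (v 1) = 1 * T.w (v 0) := (a_symm T _ _).trans B1
    simp only [B0] at r0
    simp only [B1, B0', q0] at r1
    simp only [B1', q1] at r2
    refine ⟨v 0, v 2, T.w (v 0), Or.inl ⟨rfl, rfl⟩, Or.inl ⟨?_, ?_, ?_, ?_, ?_, ?_, ?_, ?_⟩⟩
    all_goals first | linarith | (refine key (T.w (v 0)) _ _ W ?_; linarith)
  · have W := T.w_pos (v 0)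
    have B0' : T.a (v 1) (v 0) = 2 * T.w (v 0) := (a_symm T _ _).trans B0
    have B1' : T.a (v 2) (v 1) = 2 * T.w (v 0) := (a_symm T _ _).trans B1
    simp only [B0] at r0
    simp only [B1, B0', q0] at r1
    simp only [B1', q1] at r2
    refine ⟨v 2, v 0, T.w (v 0), Or.inr ⟨rfl, rfl⟩, Or.inr (Or.inr (⟨?_, ?_, ?_, ?_, ?_, ?_, ?_, ?_⟩))⟩
    all_goals first | linarith | (refine key (T.w (v 0)) _ _ W ?_; linarith)
  · have W := T.w_pos (v 1)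
    have B0' : T.a (v 1) (v 0) = 2 * T.w (v 1) := (a_symm T _ _).trans B0
    have B1' : T.a (v 2) (v 1) = 1 * T.w (v 1) := (a_symm T _ _).trans B1
    simp only [B0, q0] at r0
    simp only [B1, B0'] at r1
    simp only [B1', q1] at r2
    refine ⟨v 2, v 0, T.w (v 1), Or.inr ⟨rfl, rfl⟩, Or.inr (Or.inl ⟨?_, ?_, ?_, ?_, ?_, ?_, ?_, ?_⟩)⟩
    all_goals first | linarith | (refine key (T.w (v 1)) _ _ W ?_; linarith)
  · have W := T.w_pos (v 0)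
    have B0' : T.a (v 1) (v 0) = 1 * T.w (v 0) := (a_symm T _ _).trans B0
    have B1' : T.a (v 2) (v 1) = 2 * T.w (v 0) := (a_symm T _ _).trans B1
    simp only [B0] at r0
    simp only [B1, B0', q0] at r1
    simp only [B1', q1] at r2
    refine ⟨v 0, v 2, T.w (v 0), Or.inl ⟨rfl, rfl⟩, Or.inr (Or.inl ⟨?_, ?_, ?_, ?_, ?_, ?_, ?_, ?_⟩)⟩
    all_goals first | linarith | (refine key (T.w (v 0)) _ _ W ?_; linarith)
  · have W := T.w_pos (v 2)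
    have B0' : T.a (v 1) (v 0) = 2 * T.w (v 2) := (a_symm T _ _).trans B0
    have B1' : T.a (v 2) (v 1) = 2 * T.w (v 2) := (a_symm T _ _).trans B1
    simp only [B0, q0] at r0
    simp only [B1, B0', q1] at r1
    simp only [B1'] at r2
    refine ⟨v 0, v 2, T.w (v 2), Or.inl ⟨rfl, rfl⟩, Or.inr (Or.inr (⟨?_, ?_, ?_, ?_, ?_, ?_, ?_, ?_⟩))⟩
    all_goals first | linarith | (refine key (T.w (v 2)) _ _ W ?_; linarith)

end Groth.Agent.S7341
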