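import Groth.Statements.S7342
import Groth.Agent.NumType.Chains

set_option autoImplicit false
open Finset
open Models Models.NumericalType

namespace Groth.Agent.S7342
open Groth.Agent.NumType.Basic Groth.Agent.NumType.Shapes Groth.Agent.NumType.Chains

/-- Let T be a numerical type on n indices, t ≥ 4 and n > t + 2. Then no t + 2 (-2)-indices of T,
pairwise distinct and numbered i_0, …, i_{t+1}, satisfy: a_{i_j i_{j+1}} > 0 for 1 ≤ j ≤ t - 1,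
a_{i_0 i_2} > 0 and a_{i_{t-1} i_{t+1}} > 0. -/
theorem result {n : ℕ} (T : Models.NumericalType n) (t : ℕ) (ht : 4 ≤ t) (hn : t + 2 < n)
    (v : Fin (t + 2) ↪ Fin n) (hv : ∀ j, T.IsMinusTwo (v j))
    (hchain : ∀ j j' : Fin (t + 2), 1 ≤ j.val → j.val + 1 ≤ t → j'.val = j.val + 1 → 0 < T.a (v j) (v j'))
    (h02 : ∀ j j' : Fin (t + 2), j.val = 0 → j'.val = 2 → 0 < T.a (v j) (v j'))
    (hlast : ∀ j j' : Fin (t + 2), j.val = t - 1 → j'.val = t + 1 → 0 < T.a (v j) (v j')) : False := by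
  have hvi := v.injective
  let x : Fin (t + 2) → ℤ := fun p => if p.val ≤ 1 ∨ t ≤ p.val then 1 else 2
  have hx : ∀ p, 0 < x p := fun p => by simp only [x]; split_ifs <;> norm_num
  have x1 : ∀ p : Fin (t + 2), p.val ≤ 1 ∨ t ≤ p.val → x p = 1 := fun p h => if_pos h
  have x2 : ∀ p : Fin (t + 2), 2 ≤ p.val → p.val < t → x p = 2 :=
    fun p a b => if_neg (by omega)
  have L : ∀ p q : Fin (t + 2), p ≠ q → 0 < T.a (v p) (v q) →
      T.w (v p) ≤ T.a (v p) (v q) ∧ T.w (v q) ≤ T.a (v p) (v q) ∧ T.a (v q) (v p) = T.a (v p) (v q) :=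
    fun p q h a => ⟨w_le T _ _ (hvi.ne h) a.ne', w_le' T _ _ (hvi.ne h) a.ne', a_symm T _ _⟩
  have i0 : 0 < t + 2 := by omega
  have i1 : 1 < t + 2 := by omega
  have i2 : 2 < t + 2 := by omega
  have it : t < t + 2 := by omega
  have it1 : t - 1 < t + 2 := by omega
  have it2 : t + 1 < t + 2 := by omega
  obtain ⟨a1, b1, c1⟩ := L ⟨0, i0⟩ ⟨2, i2⟩ (by simp [Fin.ext_iff]) (h02 _ _ rfl rfl)
  obtain ⟨a2, b2, c2⟩ := L ⟨1, i1⟩ ⟨2, i2⟩ (by simp [Fin.ext_iff])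
    (hchain _ _ (le_refl 1) (show 1 + 1 ≤ t by omega) rfl)
  obtain ⟨a3, b3, c3⟩ := L ⟨t - 1, it1⟩ ⟨t, it⟩ (by simp [Fin.ext_iff]; omega)
    (hchain _ _ (show 1 ≤ t - 1 by omega) (show t - 1 + 1 ≤ t by omega) (show t = t - 1 + 1 by omega))
  obtain ⟨a4, b4, c4⟩ := L ⟨t - 1, it1⟩ ⟨t + 1, it2⟩ (by simp [Fin.ext_iff]) (hlast _ _ rfl rfl)
  refine contra T hn v hvi ⟨0, i0⟩ hv x hx fun p => ?_
  rcases (show p.val = 0 ∨ p.val = 1 ∨ (2 ≤ p.val ∧ p.val < t) ∨ p.val = t ∨ p.val = t + 1 by omega) with h | h | ⟨h, h'⟩ | h | h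
  · obtain rfl : p = ⟨0, i0⟩ := Fin.ext h
    refine le_trans ?_ (le_sum1 T v hvi x hx _ ⟨2, i2⟩ (by simp [Fin.ext_iff]))
    rw [x1 ⟨0, i0⟩ (Or.inl (Nat.zero_le _)), x2 ⟨2, i2⟩ le_rfl (show 2 < t by omega)]; linarith
  · obtain rfl : p = ⟨1, i1⟩ := Fin.ext h
    refine le_trans ?_ (le_sum1 T v hvi x hx _ ⟨2, i2⟩ (by simp [Fin.ext_iff]))
    rw [x1 ⟨1, i1⟩ (Or.inl le_rfl), x2 ⟨2, i2⟩ le_rfl (show 2 < t by omega)]; linarith
  · rw [x2 p h h']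
    by_cases hp2 : p.val = 2
    · obtain rfl : p = ⟨2, i2⟩ := Fin.ext hp2
      have i3 : 3 < t + 2 := by omega
      obtain ⟨a5, b5, c5⟩ := L ⟨2, i2⟩ ⟨3, i3⟩ (by simp [Fin.ext_iff])
        (hchain _ _ (show 1 ≤ 2 by omega) (show 2 + 1 ≤ t by omega) rfl)
      refine le_trans ?_ (le_sum3 T v hvi x hx _ ⟨0, i0⟩ ⟨1, i1⟩ ⟨3, i3⟩ (by simp [Fin.ext_iff]) (by simp [Fin.ext_iff]) (by simp [Fin.ext_iff]) (by simp [Fin.ext_iff]) (by simp [Fin.ext_iff]) (by simp [Fin.ext_iff]))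
      rw [x1 ⟨0, i0⟩ (Or.inl (Nat.zero_le _)), x1 ⟨1, i1⟩ (Or.inl le_rfl), x2 ⟨3, i3⟩ (show 2 ≤ 3 by omega) (show 3 < t by omega)]
      linarith
    · have il : p.val - 1 < t + 2 := by omega
      obtain ⟨a5, b5, c5⟩ := L ⟨p.val - 1, il⟩ p (by simp [Fin.ext_iff]; omega)
        (hchain _ _ (show 1 ≤ p.val - 1 by omega) (show p.val - 1 + 1 ≤ t by omega) (show p.val = p.val - 1 + 1 by omega))
      by_cases hpt : p.val = t - 1
      · obtain rfl : p = ⟨t - 1, it1⟩ := Fin.ext hpt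
        refine le_trans ?_ (le_sum3 T v hvi x hx _ ⟨t - 1 - 1, il⟩ ⟨t, it⟩ ⟨t + 1, it2⟩ (by simp [Fin.ext_iff]; omega) (by simp [Fin.ext_iff]; omega) (by simp [Fin.ext_iff]; omega) (by simp [Fin.ext_iff]; omega) (by simp [Fin.ext_iff]; omega) (by simp [Fin.ext_iff]))
        rw [x1 ⟨t, it⟩ (Or.inr le_rfl), x1 ⟨t + 1, it2⟩ (Or.inr (Nat.le_succ t)), x2 ⟨t - 1 - 1, il⟩ (show 2 ≤ t - 1 - 1 by omega) (show t - 1 - 1 < t by omega)]
        linarith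
      · have ir : p.val + 1 < t + 2 := by omega
        obtain ⟨a6, b6, c6⟩ := L p ⟨p.val + 1, ir⟩ (by simp [Fin.ext_iff])
          (hchain _ _ (show 1 ≤ p.val by omega) (show p.val + 1 ≤ t by omega) rfl)
        refine le_trans ?_ (le_sum2 T v hvi x hx p ⟨p.val - 1, il⟩ ⟨p.val + 1, ir⟩ (by simp [Fin.ext_iff]; omega) (by simp [Fin.ext_iff]) (by simp [Fin.ext_iff]))
        rw [x2 ⟨p.val - 1, il⟩ (show 2 ≤ p.val - 1 by omega) (show p.val - 1 < t by omega), x2 ⟨p.val + 1, ir⟩ (show 2 ≤ p.val + 1 by omega) (show p.val + 1 < t by omega)]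
        linarith
  · obtain rfl : p = ⟨t, it⟩ := Fin.ext h
    refine le_trans ?_ (le_sum1 T v hvi x hx _ ⟨t - 1, it1⟩ (by simp [Fin.ext_iff]; omega))
    rw [x1 ⟨t, it⟩ (Or.inr le_rfl), x2 ⟨t - 1, it1⟩ (show 2 ≤ t - 1 by omega) (show t - 1 < t by omega)]; linarith
  · obtain rfl : p = ⟨t + 1, it2⟩ := Fin.ext h
    refine le_trans ?_ (le_sum1 T v hvi x hx _ ⟨t - 1, it1⟩ (by simp [Fin.ext_iff]))
    rw [x1 ⟨t + 1, it2⟩ (Or.inr (Nat.le_succ t)), x2 ⟨t - 1, it1⟩ (show 2 ≤ t - 1 by omega) (show t - 1 < t by omega)]; linarith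

end Groth.Agent.S7342
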