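import Groth.Statements.S7343
import Groth.Agent.NumType.Basic

set_option autoImplicit false
open Finset
open Models Models.NumericalType

namespace Groth.Agent.S7343

/-- Let T be a numerical type on n > 7 indices. Then no seven (-2)-indices of T, pairwise distinct and
named f, g, h, i, j, k, l, have a_fg, a_gh, a_ij, a_jh, a_kl and a_lh all nonzero (three chains of
length two attached to h). -/
theorem result {n : ℕ} (T : Models.NumericalType n) (hn : 7 < n)
    (v : Fin 7 ↪ Fin n) (hv : ∀ j, T.IsMinusTwo (v j))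
    (h01 : T.a (v 0) (v 1) ≠ 0) (h12 : T.a (v 1) (v 2) ≠ 0) (h34 : T.a (v 3) (v 4) ≠ 0)
    (h42 : T.a (v 4) (v 2) ≠ 0) (h56 : T.a (v 5) (v 6) ≠ 0) (h62 : T.a (v 6) (v 2) ≠ 0) : False := by
  have hvi := v.injective
  have L01 := Groth.Agent.NumType.Basic.w_le T _ _ (hvi.ne (show (0 : Fin 7) ≠ 1 by decide)) (h01)
  have R01 := Groth.Agent.NumType.Basic.w_le' T _ _ (hvi.ne (show (0 : Fin 7) ≠ 1 by decide)) (h01)
  have E01 := Groth.Agent.NumType.Basic.a_symm T (v 0) (v 1)
  have L12 := Groth.Agent.NumType.Basic.w_le T _ _ (hvi.ne (show (1 : Fin 7) ≠ 2 by decide)) (h12)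
  have R12 := Groth.Agent.NumType.Basic.w_le' T _ _ (hvi.ne (show (1 : Fin 7) ≠ 2 by decide)) (h12)
  have E12 := Groth.Agent.NumType.Basic.a_symm T (v 1) (v 2)
  have L34 := Groth.Agent.NumType.Basic.w_le T _ _ (hvi.ne (show (3 : Fin 7) ≠ 4 by decide)) (h34)
  have R34 := Groth.Agent.NumType.Basic.w_le' T _ _ (hvi.ne (show (3 : Fin 7) ≠ 4 by decide)) (h34)
  have E34 := Groth.Agent.NumType.Basic.a_symm T (v 3) (v 4)
  have L42 := Groth.Agent.NumType.Basic.w_le T _ _ (hvi.ne (show (4 : Fin 7) ≠ 2 by decide)) (h42)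
  have R42 := Groth.Agent.NumType.Basic.w_le' T _ _ (hvi.ne (show (4 : Fin 7) ≠ 2 by decide)) (h42)
  have E42 := Groth.Agent.NumType.Basic.a_symm T (v 4) (v 2)
  have L56 := Groth.Agent.NumType.Basic.w_le T _ _ (hvi.ne (show (5 : Fin 7) ≠ 6 by decide)) (h56)
  have R56 := Groth.Agent.NumType.Basic.w_le' T _ _ (hvi.ne (show (5 : Fin 7) ≠ 6 by decide)) (h56)
  have E56 := Groth.Agent.NumType.Basic.a_symm T (v 5) (v 6)
  have L62 := Groth.Agent.NumType.Basic.w_le T _ _ (hvi.ne (show (6 : Fin 7) ≠ 2 by decide)) (h62)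
  have R62 := Groth.Agent.NumType.Basic.w_le' T _ _ (hvi.ne (show (6 : Fin 7) ≠ 2 by decide)) (h62)
  have E62 := Groth.Agent.NumType.Basic.a_symm T (v 6) (v 2)
  refine Groth.Agent.NumType.Basic.contra T hn v hvi 0 hv ![1, 2, 3, 1, 2, 1, 2] (by decide) ?_
  intro p
  match p with
  | 0 => refine le_trans ?_ (Groth.Agent.NumType.Basic.le_sum1 T v hvi _ (by decide) 0 1 (by decide)); simp; linarith
  | 1 => refine le_trans ?_ (Groth.Agent.NumType.Basic.le_sum2 T v hvi _ (by decide) 1 0 2 (by decide) (by decide) (by decide)); simp; linarith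
  | 2 => refine le_trans ?_ (Groth.Agent.NumType.Basic.le_sum3 T v hvi _ (by decide) 2 1 4 6 (by decide) (by decide) (by decide) (by decide) (by decide) (by decide)); simp; linarith
  | 3 => refine le_trans ?_ (Groth.Agent.NumType.Basic.le_sum1 T v hvi _ (by decide) 3 4 (by decide)); simp; linarith
  | 4 => refine le_trans ?_ (Groth.Agent.NumType.Basic.le_sum2 T v hvi _ (by decide) 4 3 2 (by decide) (by decide) (by decide)); simp; linarith
  | 5 => refine le_trans ?_ (Groth.Agent.NumType.Basic.le_sum1 T v hvi _ (by decide) 5 6 (by decide)); simp; linarith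
  | 6 => refine le_trans ?_ (Groth.Agent.NumType.Basic.le_sum2 T v hvi _ (by decide) 6 5 2 (by decide) (by decide) (by decide)); simp; linarith

end Groth.Agent.S7343
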