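import Groth.Statements.S7344
import Groth.Agent.NumType.Basic

set_option autoImplicit false
open Finset
open Models Models.NumericalType

namespace Groth.Agent.S7344

/-- Let T be a numerical type on n > 8 indices. Then no eight (-2)-indices of T, pairwise distinct and
named e, f, g, h, i, j, k, l, have a_ef, a_fg, a_gh, a_hi, a_ij, a_jk and a_lh all nonzero (a chain
of seven, e to k, with l joined to its fourth vertex h). -/
theorem result {n : ℕ} (T : Models.NumericalType n) (hn : 8 < n)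
    (v : Fin 8 ↪ Fin n) (hv : ∀ j, T.IsMinusTwo (v j))
    (h01 : T.a (v 0) (v 1) ≠ 0) (h12 : T.a (v 1) (v 2) ≠ 0) (h23 : T.a (v 2) (v 3) ≠ 0)
    (h34 : T.a (v 3) (v 4) ≠ 0) (h45 : T.a (v 4) (v 5) ≠ 0) (h56 : T.a (v 5) (v 6) ≠ 0)
    (h73 : T.a (v 7) (v 3) ≠ 0) : False := by
  have hvi := v.injective
  have L01 := Groth.Agent.NumType.Basic.w_le T _ _ (hvi.ne (show (0 : Fin 8) ≠ 1 by decide)) (h01)
  have R01 := Groth.Agent.NumType.Basic.w_le' T _ _ (hvi.ne (show (0 : Fin 8) ≠ 1 by decide)) (h01)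
  have E01 := Groth.Agent.NumType.Basic.a_symm T (v 0) (v 1)
  have L12 := Groth.Agent.NumType.Basic.w_le T _ _ (hvi.ne (show (1 : Fin 8) ≠ 2 by decide)) (h12)
  have R12 := Groth.Agent.NumType.Basic.w_le' T _ _ (hvi.ne (show (1 : Fin 8) ≠ 2 by decide)) (h12)
  have E12 := Groth.Agent.NumType.Basic.a_symm T (v 1) (v 2)
  have L23 := Groth.Agent.NumType.Basic.w_le T _ _ (hvi.ne (show (2 : Fin 8) ≠ 3 by decide)) (h23)
  have R23 := Groth.Agent.NumType.Basic.w_le' T _ _ (hvi.ne (show (2 : Fin 8) ≠ 3 by decide)) (h23)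
  have E23 := Groth.Agent.NumType.Basic.a_symm T (v 2) (v 3)
  have L34 := Groth.Agent.NumType.Basic.w_le T _ _ (hvi.ne (show (3 : Fin 8) ≠ 4 by decide)) (h34)
  have R34 := Groth.Agent.NumType.Basic.w_le' T _ _ (hvi.ne (show (3 : Fin 8) ≠ 4 by decide)) (h34)
  have E34 := Groth.Agent.NumType.Basic.a_symm T (v 3) (v 4)
  have L45 := Groth.Agent.NumType.Basic.w_le T _ _ (hvi.ne (show (4 : Fin 8) ≠ 5 by decide)) (h45)
  have R45 := Groth.Agent.NumType.Basic.w_le' T _ _ (hvi.ne (show (4 : Fin 8) ≠ 5 by decide)) (h45)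
  have E45 := Groth.Agent.NumType.Basic.a_symm T (v 4) (v 5)
  have L56 := Groth.Agent.NumType.Basic.w_le T _ _ (hvi.ne (show (5 : Fin 8) ≠ 6 by decide)) (h56)
  have R56 := Groth.Agent.NumType.Basic.w_le' T _ _ (hvi.ne (show (5 : Fin 8) ≠ 6 by decide)) (h56)
  have E56 := Groth.Agent.NumType.Basic.a_symm T (v 5) (v 6)
  have L73 := Groth.Agent.NumType.Basic.w_le T _ _ (hvi.ne (show (7 : Fin 8) ≠ 3 by decide)) (h73)
  have R73 := Groth.Agent.NumType.Basic.w_le' T _ _ (hvi.ne (show (7 : Fin 8) ≠ 3 by decide)) (h73)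
  have E73 := Groth.Agent.NumType.Basic.a_symm T (v 7) (v 3)
  refine Groth.Agent.NumType.Basic.contra T hn v hvi 0 hv ![1, 2, 3, 4, 3, 2, 1, 2] (by decide) ?_
  intro p
  match p with
  | 0 => refine le_trans ?_ (Groth.Agent.NumType.Basic.le_sum1 T v hvi _ (by decide) 0 1 (by decide)); simp; linarith
  | 1 => refine le_trans ?_ (Groth.Agent.NumType.Basic.le_sum2 T v hvi _ (by decide) 1 0 2 (by decide) (by decide) (by decide)); simp; linarith
  | 2 => refine le_trans ?_ (Groth.Agent.NumType.Basic.le_sum2 T v hvi _ (by decide) 2 1 3 (by decide) (by decide) (by decide)); simp; linarith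
  | 3 => refine le_trans ?_ (Groth.Agent.NumType.Basic.le_sum3 T v hvi _ (by decide) 3 2 4 7 (by decide) (by decide) (by decide) (by decide) (by decide) (by decide)); simp; linarith
  | 4 => refine le_trans ?_ (Groth.Agent.NumType.Basic.le_sum2 T v hvi _ (by decide) 4 3 5 (by decide) (by decide) (by decide)); simp; linarith
  | 5 => refine le_trans ?_ (Groth.Agent.NumType.Basic.le_sum2 T v hvi _ (by decide) 5 4 6 (by decide) (by decide) (by decide)); simp; linarith
  | 6 => refine le_trans ?_ (Groth.Agent.NumType.Basic.le_sum1 T v hvi _ (by decide) 6 5 (by decide)); simp; linarith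
  | 7 => refine le_trans ?_ (Groth.Agent.NumType.Basic.le_sum1 T v hvi _ (by decide) 7 3 (by decide)); simp; linarith

end Groth.Agent.S7344
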