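import Groth.Statements.S7345
import Groth.Agent.NumType.Basic

set_option autoImplicit false
open Finset
open Models Models.NumericalType

namespace Groth.Agent.S7345

/-- Let T be a numerical type on n > 9 indices. Then no nine (-2)-indices of T, pairwise distinct and
named d, e, f, g, h, i, j, k, l, have a_de, a_ef, a_fg, a_gh, a_hi, a_ij, a_jk and a_li all nonzero
(a chain of eight, d to k, with l joined to its sixth vertex i). (The published list of nonzero
entries ends with a_lh, joining l to the fifth vertex h; that configuration already contains the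
completed E7 configuration on eight of the indices and is impossible for that reason alone. The
pictured graph and the argument for it join l to the sixth vertex i, and this row states that case.) -/
theorem result {n : ℕ} (T : Models.NumericalType n) (hn : 9 < n)
    (v : Fin 9 ↪ Fin n) (hv : ∀ j, T.IsMinusTwo (v j))
    (h01 : T.a (v 0) (v 1) ≠ 0) (h12 : T.a (v 1) (v 2) ≠ 0) (h23 : T.a (v 2) (v 3) ≠ 0)
    (h34 : T.a (v 3) (v 4) ≠ 0) (h45 : T.a (v 4) (v 5) ≠ 0) (h56 : T.a (v 5) (v 6) ≠ 0)
    (h67 : T.a (v 6) (v 7) ≠ 0) (h85 : T.a (v 8) (v 5) ≠ 0) : False := by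
  have hvi := v.injective
  have L01 := Groth.Agent.NumType.Basic.w_le T _ _ (hvi.ne (show (0 : Fin 9) ≠ 1 by decide)) (h01)
  have R01 := Groth.Agent.NumType.Basic.w_le' T _ _ (hvi.ne (show (0 : Fin 9) ≠ 1 by decide)) (h01)
  have E01 := Groth.Agent.NumType.Basic.a_symm T (v 0) (v 1)
  have L12 := Groth.Agent.NumType.Basic.w_le T _ _ (hvi.ne (show (1 : Fin 9) ≠ 2 by decide)) (h12)
  have R12 := Groth.Agent.NumType.Basic.w_le' T _ _ (hvi.ne (show (1 : Fin 9) ≠ 2 by decide)) (h12)
  have E12 := Groth.Agent.NumType.Basic.a_symm T (v 1) (v 2)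
  have L23 := Groth.Agent.NumType.Basic.w_le T _ _ (hvi.ne (show (2 : Fin 9) ≠ 3 by decide)) (h23)
  have R23 := Groth.Agent.NumType.Basic.w_le' T _ _ (hvi.ne (show (2 : Fin 9) ≠ 3 by decide)) (h23)
  have E23 := Groth.Agent.NumType.Basic.a_symm T (v 2) (v 3)
  have L34 := Groth.Agent.NumType.Basic.w_le T _ _ (hvi.ne (show (3 : Fin 9) ≠ 4 by decide)) (h34)
  have R34 := Groth.Agent.NumType.Basic.w_le' T _ _ (hvi.ne (show (3 : Fin 9) ≠ 4 by decide)) (h34)
  have E34 := Groth.Agent.NumType.Basic.a_symm T (v 3) (v 4)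
  have L45 := Groth.Agent.NumType.Basic.w_le T _ _ (hvi.ne (show (4 : Fin 9) ≠ 5 by decide)) (h45)
  have R45 := Groth.Agent.NumType.Basic.w_le' T _ _ (hvi.ne (show (4 : Fin 9) ≠ 5 by decide)) (h45)
  have E45 := Groth.Agent.NumType.Basic.a_symm T (v 4) (v 5)
  have L56 := Groth.Agent.NumType.Basic.w_le T _ _ (hvi.ne (show (5 : Fin 9) ≠ 6 by decide)) (h56)
  have R56 := Groth.Agent.NumType.Basic.w_le' T _ _ (hvi.ne (show (5 : Fin 9) ≠ 6 by decide)) (h56)
  have E56 := Groth.Agent.NumType.Basic.a_symm T (v 5) (v 6)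
  have L67 := Groth.Agent.NumType.Basic.w_le T _ _ (hvi.ne (show (6 : Fin 9) ≠ 7 by decide)) (h67)
  have R67 := Groth.Agent.NumType.Basic.w_le' T _ _ (hvi.ne (show (6 : Fin 9) ≠ 7 by decide)) (h67)
  have E67 := Groth.Agent.NumType.Basic.a_symm T (v 6) (v 7)
  have L85 := Groth.Agent.NumType.Basic.w_le T _ _ (hvi.ne (show (8 : Fin 9) ≠ 5 by decide)) (h85)
  have R85 := Groth.Agent.NumType.Basic.w_le' T _ _ (hvi.ne (show (8 : Fin 9) ≠ 5 by decide)) (h85)
  have E85 := Groth.Agent.NumType.Basic.a_symm T (v 8) (v 5)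
  refine Groth.Agent.NumType.Basic.contra T hn v hvi 0 hv ![1, 2, 3, 4, 5, 6, 4, 2, 3] (by decide) ?_
  intro p
  match p with
  | 0 => refine le_trans ?_ (Groth.Agent.NumType.Basic.le_sum1 T v hvi _ (by decide) 0 1 (by decide)); simp; linarith
  | 1 => refine le_trans ?_ (Groth.Agent.NumType.Basic.le_sum2 T v hvi _ (by decide) 1 0 2 (by decide) (by decide) (by decide)); simp; linarith
  | 2 => refine le_trans ?_ (Groth.Agent.NumType.Basic.le_sum2 T v hvi _ (by decide) 2 1 3 (by decide) (by decide) (by decide)); simp; linarith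
  | 3 => refine le_trans ?_ (Groth.Agent.NumType.Basic.le_sum2 T v hvi _ (by decide) 3 2 4 (by decide) (by decide) (by decide)); simp; linarith
  | 4 => refine le_trans ?_ (Groth.Agent.NumType.Basic.le_sum2 T v hvi _ (by decide) 4 3 5 (by decide) (by decide) (by decide)); simp; linarith
  | 5 => refine le_trans ?_ (Groth.Agent.NumType.Basic.le_sum3 T v hvi _ (by decide) 5 4 6 8 (by decide) (by decide) (by decide) (by decide) (by decide) (by decide)); simp; linarith
  | 6 => refine le_trans ?_ (Groth.Agent.NumType.Basic.le_sum2 T v hvi _ (by decide) 6 5 7 (by decide) (by decide) (by decide)); simp; linarith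
  | 7 => refine le_trans ?_ (Groth.Agent.NumType.Basic.le_sum1 T v hvi _ (by decide) 7 6 (by decide)); simp; linarith
  | 8 => refine le_trans ?_ (Groth.Agent.NumType.Basic.le_sum1 T v hvi _ (by decide) 8 5 (by decide)); simp; linarith

end Groth.Agent.S7345
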