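import Groth.Statements.S7347
import Groth.Agent.NumType.Chains

set_option autoImplicit false
open Finset
open Models Models.NumericalType

namespace Groth.Agent.S7347
open Groth.Agent.NumType.Basic Groth.Agent.NumType.Shapes Groth.Agent.NumType.Chains

/-- Classification of proper subgraphs of type D5 (a chain i_1 i_2 i_3 with i_4 and i_5 both joined to
i_3): let T be a numerical type on n > 5 indices and i_1, …, i_5 distinct (-2)-indices with a_{12},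
a_{23}, a_{34}, a_{35} nonzero. Then for some integer w all w_{i_j} equal w, these intersection
numbers equal w, all other a_{i_j i_k} (j ≠ k) vanish, and 2 m_1 ≥ m_2, 2 m_2 ≥ m_1 + m_3, 2 m_3 ≥
m_2 + m_4 + m_5, 2 m_4 ≥ m_3, 2 m_5 ≥ m_3. -/
theorem result {n : ℕ} (T : Models.NumericalType n) (hn : 5 < n)
    (v : Fin 5 ↪ Fin n) (hv : ∀ j, T.IsMinusTwo (v j)) (h01 : T.a (v 0) (v 1) ≠ 0) (h12 : T.a (v 1) (v 2) ≠ 0) (h23 : T.a (v 2) (v 3) ≠ 0) (h24 : T.a (v 2) (v 4) ≠ 0) :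
    ∃ w : ℤ, (∀ j : Fin 5, T.w (v j) = w) ∧
      T.a (v 0) (v 1) = w ∧
      T.a (v 1) (v 2) = w ∧
      T.a (v 2) (v 3) = w ∧
      T.a (v 2) (v 4) = w ∧
      T.a (v 0) (v 2) = 0 ∧
      T.a (v 0) (v 3) = 0 ∧
      T.a (v 0) (v 4) = 0 ∧
      T.a (v 1) (v 3) = 0 ∧
      T.a (v 1) (v 4) = 0 ∧
      T.a (v 3) (v 4) = 0 ∧
      T.m (v 1) ≤ 2 * T.m (v 0) ∧
      T.m (v 0) + T.m (v 2) ≤ 2 * T.m (v 1) ∧
      T.m (v 1) + T.m (v 3) + T.m (v 4) ≤ 2 * T.m (v 2) ∧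
      T.m (v 2) ≤ 2 * T.m (v 3) ∧
      T.m (v 2) ≤ 2 * T.m (v 4) := by
  have hvi := v.injective
  have A01 : T.a (v 0) (v 1) ≠ 0 := h01
  have A10 : T.a (v 1) (v 0) ≠ 0 := by rw [a_symm T]; exact A01
  have A12 : T.a (v 1) (v 2) ≠ 0 := h12
  have A21 : T.a (v 2) (v 1) ≠ 0 := by rw [a_symm T]; exact A12
  have A23 : T.a (v 2) (v 3) ≠ 0 := h23
  have A32 : T.a (v 3) (v 2) ≠ 0 := by rw [a_symm T]; exact A23
  have A24 : T.a (v 2) (v 4) ≠ 0 := h24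
  have A42 : T.a (v 4) (v 2) ≠ 0 := by rw [a_symm T]; exact A24
  have r0 := row1 T (v 0) (v 1) (hvi.ne (show (1 : Fin 5) ≠ 0 by decide))
  rw [(hv 0).2] at r0
  have hw0 := T.w_pos (v 0)
  have r1 := row2 T (v 1) (v 0) (v 2) (hvi.ne (show (0 : Fin 5) ≠ 1 by decide)) (hvi.ne (show (2 : Fin 5) ≠ 1 by decide)) (hvi.ne (show (0 : Fin 5) ≠ 2 by decide))
  rw [(hv 1).2] at r1
  have hw1 := T.w_pos (v 1)
  have r2 := row3 T (v 2) (v 1) (v 3) (v 4) (hvi.ne (show (1 : Fin 5) ≠ 2 by decide)) (hvi.ne (show (3 : Fin 5) ≠ 2 by decide)) (hvi.ne (show (4 : Fin 5) ≠ 2 by decide)) (hvi.ne (show (1 : Fin 5) ≠ 3 by decide)) (hvi.ne (show (1 : Fin 5) ≠ 4 by decide)) (hvi.ne (show (3 : Fin 5) ≠ 4 by decide))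
  rw [(hv 2).2] at r2
  have hw2 := T.w_pos (v 2)
  have r3 := row1 T (v 3) (v 2) (hvi.ne (show (2 : Fin 5) ≠ 3 by decide))
  rw [(hv 3).2] at r3
  have hw3 := T.w_pos (v 3)
  have r4 := row1 T (v 4) (v 2) (hvi.ne (show (2 : Fin 5) ≠ 4 by decide))
  rw [(hv 4).2] at r4
  have hw4 := T.w_pos (v 4)
  have adj : ∀ a b : Fin 5, (a, b) ∈ ([(0, 1), (1, 0), (1, 2), (2, 1), (2, 3), (3, 2), (2, 4), (4, 2)] : List (Fin 5 × Fin 5)) → T.a (v a) (v b) ≠ 0 := by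
    intro a b h
    simp only [List.mem_cons, List.not_mem_nil, or_false, Prod.mk.injEq] at h
    rcases h with ⟨rfl, rfl⟩ | ⟨rfl, rfl⟩ | ⟨rfl, rfl⟩ | ⟨rfl, rfl⟩ | ⟨rfl, rfl⟩ | ⟨rfl, rfl⟩ | ⟨rfl, rfl⟩ | ⟨rfl, rfl⟩ <;> assumption
  have key : ∀ a b c : ℤ, 0 < a → a * b ≤ a * c → b ≤ c := fun a b c ha h => le_of_mul_le_mul_left h ha
  have W01 : T.w (v 1) = T.w (v 0) := by
    by_contra hh
    exact branch_double T 2 (by omega) (by omega) (⇑v ∘ (![2, 1, 0, 3, 4] : Fin (2 + 3) → Fin 5)) (hvi.comp (by decide)) (fun _ => hv _) (fun a b h h' => adj _ _ ((show ∀ a b : Fin (2 + 3), b.val = a.val + 1 → b.val ≤ 2 → ((![2, 1, 0, 3, 4] : Fin (2 + 3) → Fin 5) a, (![2, 1, 0, 3, 4] : Fin (2 + 3) → Fin 5) b) ∈ ([(0, 1), (1, 0), (1, 2), (2, 1), (2, 3), (3, 2), (2, 4), (4, 2)] : List _) from by decide) a b h h')) (by simpa using A23) (by simpa using A24) (fun e => hh (by simpa using e))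
  have W12 : T.w (v 2) = T.w (v 1) := by
    by_contra hh
    exact branch_double T 1 (by omega) (by omega) (⇑v ∘ (![2, 1, 3, 4] : Fin (1 + 3) → Fin 5)) (hvi.comp (by decide)) (fun _ => hv _) (fun a b h h' => adj _ _ ((show ∀ a b : Fin (1 + 3), b.val = a.val + 1 → b.val ≤ 1 → ((![2, 1, 3, 4] : Fin (1 + 3) → Fin 5) a, (![2, 1, 3, 4] : Fin (1 + 3) → Fin 5) b) ∈ ([(0, 1), (1, 0), (1, 2), (2, 1), (2, 3), (3, 2), (2, 4), (4, 2)] : List _) from by decide) a b h h')) (by simpa using A23) (by simpa using A24) (fun e => hh (by simpa using e))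
  have W23 : T.w (v 2) = T.w (v 3) := by
    by_contra hh
    exact branch_double T 1 (by omega) (by omega) (⇑v ∘ (![2, 3, 1, 4] : Fin (1 + 3) → Fin 5)) (hvi.comp (by decide)) (fun _ => hv _) (fun a b h h' => adj _ _ ((show ∀ a b : Fin (1 + 3), b.val = a.val + 1 → b.val ≤ 1 → ((![2, 3, 1, 4] : Fin (1 + 3) → Fin 5) a, (![2, 3, 1, 4] : Fin (1 + 3) → Fin 5) b) ∈ ([(0, 1), (1, 0), (1, 2), (2, 1), (2, 3), (3, 2), (2, 4), (4, 2)] : List _) from by decide) a b h h')) (by simpa using A21) (by simpa using A24) (fun e => hh (by simpa using e))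
  have W24 : T.w (v 2) = T.w (v 4) := by
    by_contra hh
    exact branch_double T 1 (by omega) (by omega) (⇑v ∘ (![2, 4, 1, 3] : Fin (1 + 3) → Fin 5)) (hvi.comp (by decide)) (fun _ => hv _) (fun a b h h' => adj _ _ ((show ∀ a b : Fin (1 + 3), b.val = a.val + 1 → b.val ≤ 1 → ((![2, 4, 1, 3] : Fin (1 + 3) → Fin 5) a, (![2, 4, 1, 3] : Fin (1 + 3) → Fin 5) b) ∈ ([(0, 1), (1, 0), (1, 2), (2, 1), (2, 3), (3, 2), (2, 4), (4, 2)] : List _) from by decide) a b h h')) (by simpa using A21) (by simpa using A23) (fun e => hh (by simpa using e))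
  have q0 : T.w (v 0) = T.w (v 2) := by omega
  have q1 : T.w (v 1) = T.w (v 2) := by omega
  have q3 : T.w (v 3) = T.w (v 2) := by omega
  have q4 : T.w (v 4) = T.w (v 2) := by omega
  have B01 : T.a (v 0) (v 1) = T.w (v 2) := by
    have := edge_eq T (by omega) _ _ (hvi.ne (show (0 : Fin 5) ≠ 1 by decide)) (hv _) (hv _) A01 (by omega)
    omega
  have B10 : T.a (v 1) (v 0) = T.w (v 2) := (a_symm T _ _).trans B01
  have B12 : T.a (v 1) (v 2) = T.w (v 2) := by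
    have := edge_eq T (by omega) _ _ (hvi.ne (show (1 : Fin 5) ≠ 2 by decide)) (hv _) (hv _) A12 (by omega)
    omega
  have B21 : T.a (v 2) (v 1) = T.w (v 2) := (a_symm T _ _).trans B12
  have B23 : T.a (v 2) (v 3) = T.w (v 2) := by
    have := edge_eq T (by omega) _ _ (hvi.ne (show (2 : Fin 5) ≠ 3 by decide)) (hv _) (hv _) A23 (by omega)
    omega
  have B32 : T.a (v 3) (v 2) = T.w (v 2) := (a_symm T _ _).trans B23
  have B24 : T.a (v 2) (v 4) = T.w (v 2) := by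
    have := edge_eq T (by omega) _ _ (hvi.ne (show (2 : Fin 5) ≠ 4 by decide)) (hv _) (hv _) A24 (by omega)
    omega
  have B42 : T.a (v 4) (v 2) = T.w (v 2) := (a_symm T _ _).trans B24
  simp only [B01, q0] at r0
  simp only [B10, B12, q1] at r1
  simp only [B21, B23, B24] at r2
  simp only [B32, q3] at r3
  simp only [B42, q4] at r4
  have Z02 : T.a (v 0) (v 2) = 0 := chain_zero T 3 (by omega) (⇑v ∘ (![0, 1, 2] : Fin 3 → Fin 5)) (hvi.comp (by decide)) (fun _ => hv _) (fun a b h => adj _ _ ((show ∀ a b : Fin 3, b.val = a.val + 1 → ((![0, 1, 2] : Fin 3 → Fin 5) a, (![0, 1, 2] : Fin 3 → Fin 5) b) ∈ ([(0, 1), (1, 0), (1, 2), (2, 1), (2, 3), (3, 2), (2, 4), (4, 2)] : List _) from by decide) a b h)) 0 2 (by decide)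
  have Z03 : T.a (v 0) (v 3) = 0 := chain_zero T 4 (by omega) (⇑v ∘ (![0, 1, 2, 3] : Fin 4 → Fin 5)) (hvi.comp (by decide)) (fun _ => hv _) (fun a b h => adj _ _ ((show ∀ a b : Fin 4, b.val = a.val + 1 → ((![0, 1, 2, 3] : Fin 4 → Fin 5) a, (![0, 1, 2, 3] : Fin 4 → Fin 5) b) ∈ ([(0, 1), (1, 0), (1, 2), (2, 1), (2, 3), (3, 2), (2, 4), (4, 2)] : List _) from by decide) a b h)) 0 3 (by decide)
  have Z04 : T.a (v 0) (v 4) = 0 := chain_zero T 4 (by omega) (⇑v ∘ (![0, 1, 2, 4] : Fin 4 → Fin 5)) (hvi.comp (by decide)) (fun _ => hv _) (fun a b h => adj _ _ ((show ∀ a b : Fin 4, b.val = a.val + 1 → ((![0, 1, 2, 4] : Fin 4 → Fin 5) a, (![0, 1, 2, 4] : Fin 4 → Fin 5) b) ∈ ([(0, 1), (1, 0), (1, 2), (2, 1), (2, 3), (3, 2), (2, 4), (4, 2)] : List _) from by decide) a b h)) 0 3 (by decide)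
  have Z13 : T.a (v 1) (v 3) = 0 := chain_zero T 3 (by omega) (⇑v ∘ (![1, 2, 3] : Fin 3 → Fin 5)) (hvi.comp (by decide)) (fun _ => hv _) (fun a b h => adj _ _ ((show ∀ a b : Fin 3, b.val = a.val + 1 → ((![1, 2, 3] : Fin 3 → Fin 5) a, (![1, 2, 3] : Fin 3 → Fin 5) b) ∈ ([(0, 1), (1, 0), (1, 2), (2, 1), (2, 3), (3, 2), (2, 4), (4, 2)] : List _) from by decide) a b h)) 0 2 (by decide)
  have Z14 : T.a (v 1) (v 4) = 0 := chain_zero T 3 (by omega) (⇑v ∘ (![1, 2, 4] : Fin 3 → Fin 5)) (hvi.comp (by decide)) (fun _ => hv _) (fun a b h => adj _ _ ((show ∀ a b : Fin 3, b.val = a.val + 1 → ((![1, 2, 4] : Fin 3 → Fin 5) a, (![1, 2, 4] : Fin 3 → Fin 5) b) ∈ ([(0, 1), (1, 0), (1, 2), (2, 1), (2, 3), (3, 2), (2, 4), (4, 2)] : List _) from by decide) a b h)) 0 2 (by decide)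
  have Z34 : T.a (v 3) (v 4) = 0 := chain_zero T 3 (by omega) (⇑v ∘ (![3, 2, 4] : Fin 3 → Fin 5)) (hvi.comp (by decide)) (fun _ => hv _) (fun a b h => adj _ _ ((show ∀ a b : Fin 3, b.val = a.val + 1 → ((![3, 2, 4] : Fin 3 → Fin 5) a, (![3, 2, 4] : Fin 3 → Fin 5) b) ∈ ([(0, 1), (1, 0), (1, 2), (2, 1), (2, 3), (3, 2), (2, 4), (4, 2)] : List _) from by decide) a b h)) 0 2 (by decide)
  refine ⟨T.w (v 2), ?_, B01, B12, B23, B24, Z02, Z03, Z04, Z13, Z14, Z34, ?_, ?_, ?_, ?_, ?_⟩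
  · intro j; fin_cases j <;> first | rfl | assumption
  all_goals (refine key (T.w (v 2)) _ _ hw2 ?_; linarith)

end Groth.Agent.S7347
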