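import Groth.Statements.S7350
import Groth.Agent.NumType.Chains

set_option autoImplicit false
open Finset
open Models Models.NumericalType

namespace Groth.Agent.S7350
open Groth.Agent.NumType.Basic Groth.Agent.NumType.Shapes Groth.Agent.NumType.Chains

/-- Classification of proper subgraphs of type E8 (a chain i_1 … i_7 with i_8 joined to i_5): let T be a
numerical type on n > 8 indices and i_1, …, i_8 distinct (-2)-indices with a_{12}, a_{23}, a_{34},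
a_{45}, a_{56}, a_{67}, a_{58} nonzero. Then for some integer w all w_{i_j} equal w, these
intersection numbers equal w, all other a_{i_j i_k} (j ≠ k) vanish, and 2 m_1 ≥ m_2, 2 m_2 ≥ m_1 +
m_3, 2 m_3 ≥ m_2 + m_4, 2 m_4 ≥ m_3 + m_5, 2 m_5 ≥ m_4 + m_6 + m_8, 2 m_6 ≥ m_5 + m_7, 2 m_7 ≥ m_6,
2 m_8 ≥ m_5. (The published statement lists a_{65} and a_{57} among the nonzero entries, which
contradicts its own conclusion a_{57} = 0; this row uses the edges of the E8 graph, a_{67} and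
a_{58}, as the pictured graph and the matrix give them.) -/
theorem result {n : ℕ} (T : Models.NumericalType n) (hn : 8 < n)
    (v : Fin 8 ↪ Fin n) (hv : ∀ j, T.IsMinusTwo (v j)) (h01 : T.a (v 0) (v 1) ≠ 0) (h12 : T.a (v 1) (v 2) ≠ 0) (h23 : T.a (v 2) (v 3) ≠ 0) (h34 : T.a (v 3) (v 4) ≠ 0) (h45 : T.a (v 4) (v 5) ≠ 0) (h56 : T.a (v 5) (v 6) ≠ 0) (h47 : T.a (v 4) (v 7) ≠ 0) :
    ∃ w : ℤ, (∀ j : Fin 8, T.w (v j) = w) ∧
      T.a (v 0) (v 1) = w ∧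
      T.a (v 1) (v 2) = w ∧
      T.a (v 2) (v 3) = w ∧
      T.a (v 3) (v 4) = w ∧
      T.a (v 4) (v 5) = w ∧
      T.a (v 5) (v 6) = w ∧
      T.a (v 4) (v 7) = w ∧
      T.a (v 0) (v 2) = 0 ∧
      T.a (v 0) (v 3) = 0 ∧
      T.a (v 0) (v 4) = 0 ∧
      T.a (v 0) (v 5) = 0 ∧
      T.a (v 0) (v 6) = 0 ∧
      T.a (v 0) (v 7) = 0 ∧
      T.a (v 1) (v 3) = 0 ∧
      T.a (v 1) (v 4) = 0 ∧
      T.a (v 1) (v 5) = 0 ∧
      T.a (v 1) (v 6) = 0 ∧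
      T.a (v 1) (v 7) = 0 ∧
      T.a (v 2) (v 4) = 0 ∧
      T.a (v 2) (v 5) = 0 ∧
      T.a (v 2) (v 6) = 0 ∧
      T.a (v 2) (v 7) = 0 ∧
      T.a (v 3) (v 5) = 0 ∧
      T.a (v 3) (v 6) = 0 ∧
      T.a (v 3) (v 7) = 0 ∧
      T.a (v 4) (v 6) = 0 ∧
      T.a (v 5) (v 7) = 0 ∧
      T.a (v 6) (v 7) = 0 ∧
      T.m (v 1) ≤ 2 * T.m (v 0) ∧
      T.m (v 0) + T.m (v 2) ≤ 2 * T.m (v 1) ∧
      T.m (v 1) + T.m (v 3) ≤ 2 * T.m (v 2) ∧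
      T.m (v 2) + T.m (v 4) ≤ 2 * T.m (v 3) ∧
      T.m (v 3) + T.m (v 5) + T.m (v 7) ≤ 2 * T.m (v 4) ∧
      T.m (v 4) + T.m (v 6) ≤ 2 * T.m (v 5) ∧
      T.m (v 5) ≤ 2 * T.m (v 6) ∧
      T.m (v 4) ≤ 2 * T.m (v 7) := by
  have hvi := v.injective
  have A01 : T.a (v 0) (v 1) ≠ 0 := h01
  have A10 : T.a (v 1) (v 0) ≠ 0 := by rw [a_symm T]; exact A01
  have A12 : T.a (v 1) (v 2) ≠ 0 := h12
  have A21 : T.a (v 2) (v 1) ≠ 0 := by rw [a_symm T]; exact A12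
  have A23 : T.a (v 2) (v 3) ≠ 0 := h23
  have A32 : T.a (v 3) (v 2) ≠ 0 := by rw [a_symm T]; exact A23
  have A34 : T.a (v 3) (v 4) ≠ 0 := h34
  have A43 : T.a (v 4) (v 3) ≠ 0 := by rw [a_symm T]; exact A34
  have A45 : T.a (v 4) (v 5) ≠ 0 := h45
  have A54 : T.a (v 5) (v 4) ≠ 0 := by rw [a_symm T]; exact A45
  have A56 : T.a (v 5) (v 6) ≠ 0 := h56
  have A65 : T.a (v 6) (v 5) ≠ 0 := by rw [a_symm T]; exact A56
  have A47 : T.a (v 4) (v 7) ≠ 0 := h47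
  have A74 : T.a (v 7) (v 4) ≠ 0 := by rw [a_symm T]; exact A47
  have r0 := row1 T (v 0) (v 1) (hvi.ne (show (1 : Fin 8) ≠ 0 by decide))
  rw [(hv 0).2] at r0
  have hw0 := T.w_pos (v 0)
  have r1 := row2 T (v 1) (v 0) (v 2) (hvi.ne (show (0 : Fin 8) ≠ 1 by decide)) (hvi.ne (show (2 : Fin 8) ≠ 1 by decide)) (hvi.ne (show (0 : Fin 8) ≠ 2 by decide))
  rw [(hv 1).2] at r1
  have hw1 := T.w_pos (v 1)
  have r2 := row2 T (v 2) (v 1) (v 3) (hvi.ne (show (1 : Fin 8) ≠ 2 by decide)) (hvi.ne (show (3 : Fin 8) ≠ 2 by decide)) (hvi.ne (show (1 : Fin 8) ≠ 3 by decide))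
  rw [(hv 2).2] at r2
  have hw2 := T.w_pos (v 2)
  have r3 := row2 T (v 3) (v 2) (v 4) (hvi.ne (show (2 : Fin 8) ≠ 3 by decide)) (hvi.ne (show (4 : Fin 8) ≠ 3 by decide)) (hvi.ne (show (2 : Fin 8) ≠ 4 by decide))
  rw [(hv 3).2] at r3
  have hw3 := T.w_pos (v 3)
  have r4 := row3 T (v 4) (v 3) (v 5) (v 7) (hvi.ne (show (3 : Fin 8) ≠ 4 by decide)) (hvi.ne (show (5 : Fin 8) ≠ 4 by decide)) (hvi.ne (show (7 : Fin 8) ≠ 4 by decide)) (hvi.ne (show (3 : Fin 8) ≠ 5 by decide)) (hvi.ne (show (3 : Fin 8) ≠ 7 by decide)) (hvi.ne (show (5 : Fin 8) ≠ 7 by decide))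
  rw [(hv 4).2] at r4
  have hw4 := T.w_pos (v 4)
  have r5 := row2 T (v 5) (v 4) (v 6) (hvi.ne (show (4 : Fin 8) ≠ 5 by decide)) (hvi.ne (show (6 : Fin 8) ≠ 5 by decide)) (hvi.ne (show (4 : Fin 8) ≠ 6 by decide))
  rw [(hv 5).2] at r5
  have hw5 := T.w_pos (v 5)
  have r6 := row1 T (v 6) (v 5) (hvi.ne (show (5 : Fin 8) ≠ 6 by decide))
  rw [(hv 6).2] at r6
  have hw6 := T.w_pos (v 6)
  have r7 := row1 T (v 7) (v 4) (hvi.ne (show (4 : Fin 8) ≠ 7 by decide))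
  rw [(hv 7).2] at r7
  have hw7 := T.w_pos (v 7)
  have adj : ∀ a b : Fin 8, (a, b) ∈ ([(0, 1), (1, 0), (1, 2), (2, 1), (2, 3), (3, 2), (3, 4), (4, 3), (4, 5), (5, 4), (5, 6), (6, 5), (4, 7), (7, 4)] : List (Fin 8 × Fin 8)) → T.a (v a) (v b) ≠ 0 := by
    intro a b h
    simp only [List.mem_cons, List.not_mem_nil, or_false, Prod.mk.injEq] at h
    rcases h with ⟨rfl, rfl⟩ | ⟨rfl, rfl⟩ | ⟨rfl, rfl⟩ | ⟨rfl, rfl⟩ | ⟨rfl, rfl⟩ | ⟨rfl, rfl⟩ | ⟨rfl, rfl⟩ | ⟨rfl, rfl⟩ | ⟨rfl, rfl⟩ | ⟨rfl, rfl⟩ | ⟨rfl, rfl⟩ | ⟨rfl, rfl⟩ | ⟨rfl, rfl⟩ | ⟨rfl, rfl⟩ <;> assumption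
  have key : ∀ a b c : ℤ, 0 < a → a * b ≤ a * c → b ≤ c := fun a b c ha h => le_of_mul_le_mul_left h ha
  have W01 : T.w (v 1) = T.w (v 0) := by
    by_contra hh
    exact branch_double T 4 (by omega) (by omega) (⇑v ∘ (![4, 3, 2, 1, 0, 5, 7] : Fin (4 + 3) → Fin 8)) (hvi.comp (by decide)) (fun _ => hv _) (fun a b h h' => adj _ _ ((show ∀ a b : Fin (4 + 3), b.val = a.val + 1 → b.val ≤ 4 → ((![4, 3, 2, 1, 0, 5, 7] : Fin (4 + 3) → Fin 8) a, (![4, 3, 2, 1, 0, 5, 7] : Fin (4 + 3) → Fin 8) b) ∈ ([(0, 1), (1, 0), (1, 2), (2, 1), (2, 3), (3, 2), (3, 4), (4, 3), (4, 5), (5, 4), (5, 6), (6, 5), (4, 7), (7, 4)] : List _) from by decide) a b h h')) (by simpa using A45) (by simpa using A47) (fun e => hh (by simpa using e))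
  have W12 : T.w (v 2) = T.w (v 1) := by
    by_contra hh
    exact branch_double T 3 (by omega) (by omega) (⇑v ∘ (![4, 3, 2, 1, 5, 7] : Fin (3 + 3) → Fin 8)) (hvi.comp (by decide)) (fun _ => hv _) (fun a b h h' => adj _ _ ((show ∀ a b : Fin (3 + 3), b.val = a.val + 1 → b.val ≤ 3 → ((![4, 3, 2, 1, 5, 7] : Fin (3 + 3) → Fin 8) a, (![4, 3, 2, 1, 5, 7] : Fin (3 + 3) → Fin 8) b) ∈ ([(0, 1), (1, 0), (1, 2), (2, 1), (2, 3), (3, 2), (3, 4), (4, 3), (4, 5), (5, 4), (5, 6), (6, 5), (4, 7), (7, 4)] : List _) from by decide) a b h h')) (by simpa using A45) (by simpa using A47) (fun e => hh (by simpa using e))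
  have W23 : T.w (v 3) = T.w (v 2) := by
    by_contra hh
    exact branch_double T 2 (by omega) (by omega) (⇑v ∘ (![4, 3, 2, 5, 7] : Fin (2 + 3) → Fin 8)) (hvi.comp (by decide)) (fun _ => hv _) (fun a b h h' => adj _ _ ((show ∀ a b : Fin (2 + 3), b.val = a.val + 1 → b.val ≤ 2 → ((![4, 3, 2, 5, 7] : Fin (2 + 3) → Fin 8) a, (![4, 3, 2, 5, 7] : Fin (2 + 3) → Fin 8) b) ∈ ([(0, 1), (1, 0), (1, 2), (2, 1), (2, 3), (3, 2), (3, 4), (4, 3), (4, 5), (5, 4), (5, 6), (6, 5), (4, 7), (7, 4)] : List _) from by decide) a b h h')) (by simpa using A45) (by simpa using A47) (fun e => hh (by simpa using e))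
  have W34 : T.w (v 4) = T.w (v 3) := by
    by_contra hh
    exact branch_double T 1 (by omega) (by omega) (⇑v ∘ (![4, 3, 5, 7] : Fin (1 + 3) → Fin 8)) (hvi.comp (by decide)) (fun _ => hv _) (fun a b h h' => adj _ _ ((show ∀ a b : Fin (1 + 3), b.val = a.val + 1 → b.val ≤ 1 → ((![4, 3, 5, 7] : Fin (1 + 3) → Fin 8) a, (![4, 3, 5, 7] : Fin (1 + 3) → Fin 8) b) ∈ ([(0, 1), (1, 0), (1, 2), (2, 1), (2, 3), (3, 2), (3, 4), (4, 3), (4, 5), (5, 4), (5, 6), (6, 5), (4, 7), (7, 4)] : List _) from by decide) a b h h')) (by simpa using A45) (by simpa using A47) (fun e => hh (by simpa using e))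
  have W45 : T.w (v 4) = T.w (v 5) := by
    by_contra hh
    exact branch_double T 1 (by omega) (by omega) (⇑v ∘ (![4, 5, 3, 7] : Fin (1 + 3) → Fin 8)) (hvi.comp (by decide)) (fun _ => hv _) (fun a b h h' => adj _ _ ((show ∀ a b : Fin (1 + 3), b.val = a.val + 1 → b.val ≤ 1 → ((![4, 5, 3, 7] : Fin (1 + 3) → Fin 8) a, (![4, 5, 3, 7] : Fin (1 + 3) → Fin 8) b) ∈ ([(0, 1), (1, 0), (1, 2), (2, 1), (2, 3), (3, 2), (3, 4), (4, 3), (4, 5), (5, 4), (5, 6), (6, 5), (4, 7), (7, 4)] : List _) from by decide) a b h h')) (by simpa using A43) (by simpa using A47) (fun e => hh (by simpa using e))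
  have W56 : T.w (v 5) = T.w (v 6) := by
    by_contra hh
    exact branch_double T 2 (by omega) (by omega) (⇑v ∘ (![4, 5, 6, 3, 7] : Fin (2 + 3) → Fin 8)) (hvi.comp (by decide)) (fun _ => hv _) (fun a b h h' => adj _ _ ((show ∀ a b : Fin (2 + 3), b.val = a.val + 1 → b.val ≤ 2 → ((![4, 5, 6, 3, 7] : Fin (2 + 3) → Fin 8) a, (![4, 5, 6, 3, 7] : Fin (2 + 3) → Fin 8) b) ∈ ([(0, 1), (1, 0), (1, 2), (2, 1), (2, 3), (3, 2), (3, 4), (4, 3), (4, 5), (5, 4), (5, 6), (6, 5), (4, 7), (7, 4)] : List _) from by decide) a b h h')) (by simpa using A43) (by simpa using A47) (fun e => hh (by simpa using e))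
  have W47 : T.w (v 4) = T.w (v 7) := by
    by_contra hh
    exact branch_double T 1 (by omega) (by omega) (⇑v ∘ (![4, 7, 3, 5] : Fin (1 + 3) → Fin 8)) (hvi.comp (by decide)) (fun _ => hv _) (fun a b h h' => adj _ _ ((show ∀ a b : Fin (1 + 3), b.val = a.val + 1 → b.val ≤ 1 → ((![4, 7, 3, 5] : Fin (1 + 3) → Fin 8) a, (![4, 7, 3, 5] : Fin (1 + 3) → Fin 8) b) ∈ ([(0, 1), (1, 0), (1, 2), (2, 1), (2, 3), (3, 2), (3, 4), (4, 3), (4, 5), (5, 4), (5, 6), (6, 5), (4, 7), (7, 4)] : List _) from by decide) a b h h')) (by simpa using A43) (by simpa using A45) (fun e => hh (by simpa using e))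
  have q0 : T.w (v 0) = T.w (v 4) := by omega
  have q1 : T.w (v 1) = T.w (v 4) := by omega
  have q2 : T.w (v 2) = T.w (v 4) := by omega
  have q3 : T.w (v 3) = T.w (v 4) := by omega
  have q5 : T.w (v 5) = T.w (v 4) := by omega
  have q6 : T.w (v 6) = T.w (v 4) := by omega
  have q7 : T.w (v 7) = T.w (v 4) := by omega
  have B01 : T.a (v 0) (v 1) = T.w (v 4) := by
    have := edge_eq T (by omega) _ _ (hvi.ne (show (0 : Fin 8) ≠ 1 by decide)) (hv _) (hv _) A01 (by omega)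
    omega
  have B10 : T.a (v 1) (v 0) = T.w (v 4) := (a_symm T _ _).trans B01
  have B12 : T.a (v 1) (v 2) = T.w (v 4) := by
    have := edge_eq T (by omega) _ _ (hvi.ne (show (1 : Fin 8) ≠ 2 by decide)) (hv _) (hv _) A12 (by omega)
    omega
  have B21 : T.a (v 2) (v 1) = T.w (v 4) := (a_symm T _ _).trans B12
  have B23 : T.a (v 2) (v 3) = T.w (v 4) := by
    have := edge_eq T (by omega) _ _ (hvi.ne (show (2 : Fin 8) ≠ 3 by decide)) (hv _) (hv _) A23 (by omega)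
    omega
  have B32 : T.a (v 3) (v 2) = T.w (v 4) := (a_symm T _ _).trans B23
  have B34 : T.a (v 3) (v 4) = T.w (v 4) := by
    have := edge_eq T (by omega) _ _ (hvi.ne (show (3 : Fin 8) ≠ 4 by decide)) (hv _) (hv _) A34 (by omega)
    omega
  have B43 : T.a (v 4) (v 3) = T.w (v 4) := (a_symm T _ _).trans B34
  have B45 : T.a (v 4) (v 5) = T.w (v 4) := by
    have := edge_eq T (by omega) _ _ (hvi.ne (show (4 : Fin 8) ≠ 5 by decide)) (hv _) (hv _) A45 (by omega)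
    omega
  have B54 : T.a (v 5) (v 4) = T.w (v 4) := (a_symm T _ _).trans B45
  have B56 : T.a (v 5) (v 6) = T.w (v 4) := by
    have := edge_eq T (by omega) _ _ (hvi.ne (show (5 : Fin 8) ≠ 6 by decide)) (hv _) (hv _) A56 (by omega)
    omega
  have B65 : T.a (v 6) (v 5) = T.w (v 4) := (a_symm T _ _).trans B56
  have B47 : T.a (v 4) (v 7) = T.w (v 4) := by
    have := edge_eq T (by omega) _ _ (hvi.ne (show (4 : Fin 8) ≠ 7 by decide)) (hv _) (hv _) A47 (by omega)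
    omega
  have B74 : T.a (v 7) (v 4) = T.w (v 4) := (a_symm T _ _).trans B47
  simp only [B01, q0] at r0
  simp only [B10, B12, q1] at r1
  simp only [B21, B23, q2] at r2
  simp only [B32, B34, q3] at r3
  simp only [B43, B45, B47] at r4
  simp only [B54, B56, q5] at r5
  simp only [B65, q6] at r6
  simp only [B74, q7] at r7
  have Z02 : T.a (v 0) (v 2) = 0 := chain_zero T 3 (by omega) (⇑v ∘ (![0, 1, 2] : Fin 3 → Fin 8)) (hvi.comp (by decide)) (fun _ => hv _) (fun a b h => adj _ _ ((show ∀ a b : Fin 3, b.val = a.val + 1 → ((![0, 1, 2] : Fin 3 → Fin 8) a, (![0, 1, 2] : Fin 3 → Fin 8) b) ∈ ([(0, 1), (1, 0), (1, 2), (2, 1), (2, 3), (3, 2), (3, 4), (4, 3), (4, 5), (5, 4), (5, 6), (6, 5), (4, 7), (7, 4)] : List _) from by decide) a b h)) 0 2 (by decide)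
  have Z03 : T.a (v 0) (v 3) = 0 := chain_zero T 4 (by omega) (⇑v ∘ (![0, 1, 2, 3] : Fin 4 → Fin 8)) (hvi.comp (by decide)) (fun _ => hv _) (fun a b h => adj _ _ ((show ∀ a b : Fin 4, b.val = a.val + 1 → ((![0, 1, 2, 3] : Fin 4 → Fin 8) a, (![0, 1, 2, 3] : Fin 4 → Fin 8) b) ∈ ([(0, 1), (1, 0), (1, 2), (2, 1), (2, 3), (3, 2), (3, 4), (4, 3), (4, 5), (5, 4), (5, 6), (6, 5), (4, 7), (7, 4)] : List _) from by decide) a b h)) 0 3 (by decide)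
  have Z04 : T.a (v 0) (v 4) = 0 := chain_zero T 5 (by omega) (⇑v ∘ (![0, 1, 2, 3, 4] : Fin 5 → Fin 8)) (hvi.comp (by decide)) (fun _ => hv _) (fun a b h => adj _ _ ((show ∀ a b : Fin 5, b.val = a.val + 1 → ((![0, 1, 2, 3, 4] : Fin 5 → Fin 8) a, (![0, 1, 2, 3, 4] : Fin 5 → Fin 8) b) ∈ ([(0, 1), (1, 0), (1, 2), (2, 1), (2, 3), (3, 2), (3, 4), (4, 3), (4, 5), (5, 4), (5, 6), (6, 5), (4, 7), (7, 4)] : List _) from by decide) a b h)) 0 4 (by decide)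
  have Z05 : T.a (v 0) (v 5) = 0 := chain_zero T 6 (by omega) (⇑v ∘ (![0, 1, 2, 3, 4, 5] : Fin 6 → Fin 8)) (hvi.comp (by decide)) (fun _ => hv _) (fun a b h => adj _ _ ((show ∀ a b : Fin 6, b.val = a.val + 1 → ((![0, 1, 2, 3, 4, 5] : Fin 6 → Fin 8) a, (![0, 1, 2, 3, 4, 5] : Fin 6 → Fin 8) b) ∈ ([(0, 1), (1, 0), (1, 2), (2, 1), (2, 3), (3, 2), (3, 4), (4, 3), (4, 5), (5, 4), (5, 6), (6, 5), (4, 7), (7, 4)] : List _) from by decide) a b h)) 0 5 (by decide)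
  have Z06 : T.a (v 0) (v 6) = 0 := chain_zero T 7 (by omega) (⇑v ∘ (![0, 1, 2, 3, 4, 5, 6] : Fin 7 → Fin 8)) (hvi.comp (by decide)) (fun _ => hv _) (fun a b h => adj _ _ ((show ∀ a b : Fin 7, b.val = a.val + 1 → ((![0, 1, 2, 3, 4, 5, 6] : Fin 7 → Fin 8) a, (![0, 1, 2, 3, 4, 5, 6] : Fin 7 → Fin 8) b) ∈ ([(0, 1), (1, 0), (1, 2), (2, 1), (2, 3), (3, 2), (3, 4), (4, 3), (4, 5), (5, 4), (5, 6), (6, 5), (4, 7), (7, 4)] : List _) from by decide) a b h)) 0 6 (by decide)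
  have Z07 : T.a (v 0) (v 7) = 0 := chain_zero T 6 (by omega) (⇑v ∘ (![0, 1, 2, 3, 4, 7] : Fin 6 → Fin 8)) (hvi.comp (by decide)) (fun _ => hv _) (fun a b h => adj _ _ ((show ∀ a b : Fin 6, b.val = a.val + 1 → ((![0, 1, 2, 3, 4, 7] : Fin 6 → Fin 8) a, (![0, 1, 2, 3, 4, 7] : Fin 6 → Fin 8) b) ∈ ([(0, 1), (1, 0), (1, 2), (2, 1), (2, 3), (3, 2), (3, 4), (4, 3), (4, 5), (5, 4), (5, 6), (6, 5), (4, 7), (7, 4)] : List _) from by decide) a b h)) 0 5 (by decide)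
  have Z13 : T.a (v 1) (v 3) = 0 := chain_zero T 3 (by omega) (⇑v ∘ (![1, 2, 3] : Fin 3 → Fin 8)) (hvi.comp (by decide)) (fun _ => hv _) (fun a b h => adj _ _ ((show ∀ a b : Fin 3, b.val = a.val + 1 → ((![1, 2, 3] : Fin 3 → Fin 8) a, (![1, 2, 3] : Fin 3 → Fin 8) b) ∈ ([(0, 1), (1, 0), (1, 2), (2, 1), (2, 3), (3, 2), (3, 4), (4, 3), (4, 5), (5, 4), (5, 6), (6, 5), (4, 7), (7, 4)] : List _) from by decide) a b h)) 0 2 (by decide)
  have Z14 : T.a (v 1) (v 4) = 0 := chain_zero T 4 (by omega) (⇑v ∘ (![1, 2, 3, 4] : Fin 4 → Fin 8)) (hvi.comp (by decide)) (fun _ => hv _) (fun a b h => adj _ _ ((show ∀ a b : Fin 4, b.val = a.val + 1 → ((![1, 2, 3, 4] : Fin 4 → Fin 8) a, (![1, 2, 3, 4] : Fin 4 → Fin 8) b) ∈ ([(0, 1), (1, 0), (1, 2), (2, 1), (2, 3), (3, 2), (3, 4), (4, 3), (4, 5), (5, 4), (5, 6), (6, 5), (4, 7), (7, 4)] : List _) from by decide) a b h)) 0 3 (by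 decide)
  have Z15 : T.a (v 1) (v 5) = 0 := chain_zero T 5 (by omega) (⇑v ∘ (![1, 2, 3, 4, 5] : Fin 5 → Fin 8)) (hvi.comp (by decide)) (fun _ => hv _) (fun a b h => adj _ _ ((show ∀ a b : Fin 5, b.val = a.val + 1 → ((![1, 2, 3, 4, 5] : Fin 5 → Fin 8) a, (![1, 2, 3, 4, 5] : Fin 5 → Fin 8) b) ∈ ([(0, 1), (1, 0), (1, 2), (2, 1), (2, 3), (3, 2), (3, 4), (4, 3), (4, 5), (5, 4), (5, 6), (6, 5), (4, 7), (7, 4)] : List _) from by decide) a b h)) 0 4 (by decide)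
  have Z16 : T.a (v 1) (v 6) = 0 := chain_zero T 6 (by omega) (⇑v ∘ (![1, 2, 3, 4, 5, 6] : Fin 6 → Fin 8)) (hvi.comp (by decide)) (fun _ => hv _) (fun a b h => adj _ _ ((show ∀ a b : Fin 6, b.val = a.val + 1 → ((![1, 2, 3, 4, 5, 6] : Fin 6 → Fin 8) a, (![1, 2, 3, 4, 5, 6] : Fin 6 → Fin 8) b) ∈ ([(0, 1), (1, 0), (1, 2), (2, 1), (2, 3), (3, 2), (3, 4), (4, 3), (4, 5), (5, 4), (5, 6), (6, 5), (4, 7), (7, 4)] : List _) from by decide) a b h)) 0 5 (by decide)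
  have Z17 : T.a (v 1) (v 7) = 0 := chain_zero T 5 (by omega) (⇑v ∘ (![1, 2, 3, 4, 7] : Fin 5 → Fin 8)) (hvi.comp (by decide)) (fun _ => hv _) (fun a b h => adj _ _ ((show ∀ a b : Fin 5, b.val = a.val + 1 → ((![1, 2, 3, 4, 7] : Fin 5 → Fin 8) a, (![1, 2, 3, 4, 7] : Fin 5 → Fin 8) b) ∈ ([(0, 1), (1, 0), (1, 2), (2, 1), (2, 3), (3, 2), (3, 4), (4, 3), (4, 5), (5, 4), (5, 6), (6, 5), (4, 7), (7, 4)] : List _) from by decide) a b h)) 0 4 (by decide)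
  have Z24 : T.a (v 2) (v 4) = 0 := chain_zero T 3 (by omega) (⇑v ∘ (![2, 3, 4] : Fin 3 → Fin 8)) (hvi.comp (by decide)) (fun _ => hv _) (fun a b h => adj _ _ ((show ∀ a b : Fin 3, b.val = a.val + 1 → ((![2, 3, 4] : Fin 3 → Fin 8) a, (![2, 3, 4] : Fin 3 → Fin 8) b) ∈ ([(0, 1), (1, 0), (1, 2), (2, 1), (2, 3), (3, 2), (3, 4), (4, 3), (4, 5), (5, 4), (5, 6), (6, 5), (4, 7), (7, 4)] : List _) from by decide) a b h)) 0 2 (by decide)
  have Z25 : T.a (v 2) (v 5) = 0 := chain_zero T 4 (by omega) (⇑v ∘ (![2, 3, 4, 5] : Fin 4 → Fin 8)) (hvi.comp (by decide)) (fun _ => hv _) (fun a b h => adj _ _ ((show ∀ a b : Fin 4, b.val = a.val + 1 → ((![2, 3, 4, 5] : Fin 4 → Fin 8) a, (![2, 3, 4, 5] : Fin 4 → Fin 8) b) ∈ ([(0, 1), (1, 0), (1, 2), (2, 1), (2, 3), (3, 2), (3, 4), (4, 3), (4, 5), (5, 4), (5, 6), (6, 5), (4, 7), (7, 4)] : List _) from by decide) a b h)) 0 3 (by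 decide)
  have Z26 : T.a (v 2) (v 6) = 0 := chain_zero T 5 (by omega) (⇑v ∘ (![2, 3, 4, 5, 6] : Fin 5 → Fin 8)) (hvi.comp (by decide)) (fun _ => hv _) (fun a b h => adj _ _ ((show ∀ a b : Fin 5, b.val = a.val + 1 → ((![2, 3, 4, 5, 6] : Fin 5 → Fin 8) a, (![2, 3, 4, 5, 6] : Fin 5 → Fin 8) b) ∈ ([(0, 1), (1, 0), (1, 2), (2, 1), (2, 3), (3, 2), (3, 4), (4, 3), (4, 5), (5, 4), (5, 6), (6, 5), (4, 7), (7, 4)] : List _) from by decide) a b h)) 0 4 (by decide)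
  have Z27 : T.a (v 2) (v 7) = 0 := chain_zero T 4 (by omega) (⇑v ∘ (![2, 3, 4, 7] : Fin 4 → Fin 8)) (hvi.comp (by decide)) (fun _ => hv _) (fun a b h => adj _ _ ((show ∀ a b : Fin 4, b.val = a.val + 1 → ((![2, 3, 4, 7] : Fin 4 → Fin 8) a, (![2, 3, 4, 7] : Fin 4 → Fin 8) b) ∈ ([(0, 1), (1, 0), (1, 2), (2, 1), (2, 3), (3, 2), (3, 4), (4, 3), (4, 5), (5, 4), (5, 6), (6, 5), (4, 7), (7, 4)] : List _) from by decide) a b h)) 0 3 (by decide)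
  have Z35 : T.a (v 3) (v 5) = 0 := chain_zero T 3 (by omega) (⇑v ∘ (![3, 4, 5] : Fin 3 → Fin 8)) (hvi.comp (by decide)) (fun _ => hv _) (fun a b h => adj _ _ ((show ∀ a b : Fin 3, b.val = a.val + 1 → ((![3, 4, 5] : Fin 3 → Fin 8) a, (![3, 4, 5] : Fin 3 → Fin 8) b) ∈ ([(0, 1), (1, 0), (1, 2), (2, 1), (2, 3), (3, 2), (3, 4), (4, 3), (4, 5), (5, 4), (5, 6), (6, 5), (4, 7), (7, 4)] : List _) from by decide) a b h)) 0 2 (by decide)
  have Z36 : T.a (v 3) (v 6) = 0 := chain_zero T 4 (by omega) (⇑v ∘ (![3, 4, 5, 6] : Fin 4 → Fin 8)) (hvi.comp (by decide)) (fun _ => hv _) (fun a b h => adj _ _ ((show ∀ a b : Fin 4, b.val = a.val + 1 → ((![3, 4, 5, 6] : Fin 4 → Fin 8) a, (![3, 4, 5, 6] : Fin 4 → Fin 8) b) ∈ ([(0, 1), (1, 0), (1, 2), (2, 1), (2, 3), (3, 2), (3, 4), (4, 3), (4, 5), (5, 4), (5, 6), (6, 5), (4, 7), (7, 4)] : List _) from by decide) a b h)) 0 3 (by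 decide)
  have Z37 : T.a (v 3) (v 7) = 0 := chain_zero T 3 (by omega) (⇑v ∘ (![3, 4, 7] : Fin 3 → Fin 8)) (hvi.comp (by decide)) (fun _ => hv _) (fun a b h => adj _ _ ((show ∀ a b : Fin 3, b.val = a.val + 1 → ((![3, 4, 7] : Fin 3 → Fin 8) a, (![3, 4, 7] : Fin 3 → Fin 8) b) ∈ ([(0, 1), (1, 0), (1, 2), (2, 1), (2, 3), (3, 2), (3, 4), (4, 3), (4, 5), (5, 4), (5, 6), (6, 5), (4, 7), (7, 4)] : List _) from by decide) a b h)) 0 2 (by decide)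
  have Z46 : T.a (v 4) (v 6) = 0 := chain_zero T 3 (by omega) (⇑v ∘ (![4, 5, 6] : Fin 3 → Fin 8)) (hvi.comp (by decide)) (fun _ => hv _) (fun a b h => adj _ _ ((show ∀ a b : Fin 3, b.val = a.val + 1 → ((![4, 5, 6] : Fin 3 → Fin 8) a, (![4, 5, 6] : Fin 3 → Fin 8) b) ∈ ([(0, 1), (1, 0), (1, 2), (2, 1), (2, 3), (3, 2), (3, 4), (4, 3), (4, 5), (5, 4), (5, 6), (6, 5), (4, 7), (7, 4)] : List _) from by decide) a b h)) 0 2 (by decide)
  have Z57 : T.a (v 5) (v 7) = 0 := chain_zero T 3 (by omega) (⇑v ∘ (![5, 4, 7] : Fin 3 → Fin 8)) (hvi.comp (by decide)) (fun _ => hv _) (fun a b h => adj _ _ ((show ∀ a b : Fin 3, b.val = a.val + 1 → ((![5, 4, 7] : Fin 3 → Fin 8) a, (![5, 4, 7] : Fin 3 → Fin 8) b) ∈ ([(0, 1), (1, 0), (1, 2), (2, 1), (2, 3), (3, 2), (3, 4), (4, 3), (4, 5), (5, 4), (5, 6), (6, 5), (4, 7), (7, 4)] : List _) from by decide) a b h)) 0 2 (by decide)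
  have Z67 : T.a (v 6) (v 7) = 0 := chain_zero T 4 (by omega) (⇑v ∘ (![6, 5, 4, 7] : Fin 4 → Fin 8)) (hvi.comp (by decide)) (fun _ => hv _) (fun a b h => adj _ _ ((show ∀ a b : Fin 4, b.val = a.val + 1 → ((![6, 5, 4, 7] : Fin 4 → Fin 8) a, (![6, 5, 4, 7] : Fin 4 → Fin 8) b) ∈ ([(0, 1), (1, 0), (1, 2), (2, 1), (2, 3), (3, 2), (3, 4), (4, 3), (4, 5), (5, 4), (5, 6), (6, 5), (4, 7), (7, 4)] : List _) from by decide) a b h)) 0 3 (by decide)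
  refine ⟨T.w (v 4), ?_, B01, B12, B23, B34, B45, B56, B47, Z02, Z03, Z04, Z05, Z06, Z07, Z13, Z14, Z15, Z16, Z17, Z24, Z25, Z26, Z27, Z35, Z36, Z37, Z46, Z57, Z67, ?_, ?_, ?_, ?_, ?_, ?_, ?_, ?_⟩
  · intro j; fin_cases j <;> first | rfl | assumption
  all_goals (refine key (T.w (v 4)) _ _ hw4 ?_; linarith)

end Groth.Agent.S7350
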