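import Groth.Statements.S7351
import Groth.Agent.NumType.Basic

set_option autoImplicit false
open Finset
open Models Models.NumericalType

namespace Groth.Agent.S7351

/-- Let T be a numerical type on n > 5 indices. There do not exist five distinct (-2)-indices h, i, j,
k, l with a_hi > 0, a_hj > 0, a_hk > 0 and a_hl > 0. -/
theorem result {n : ℕ} (T : Models.NumericalType n) (hn : 5 < n)
    (v : Fin 5 ↪ Fin n) (hv : ∀ j, T.IsMinusTwo (v j))
    (h01 : 0 < T.a (v 0) (v 1)) (h02 : 0 < T.a (v 0) (v 2)) (h03 : 0 < T.a (v 0) (v 3)) (h04 : 0 < T.a (v 0) (v 4)) : False := by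
  have hvi := v.injective
  have L01 := Groth.Agent.NumType.Basic.w_le T _ _ (hvi.ne (show (0 : Fin 5) ≠ 1 by decide)) (h01.ne')
  have R01 := Groth.Agent.NumType.Basic.w_le' T _ _ (hvi.ne (show (0 : Fin 5) ≠ 1 by decide)) (h01.ne')
  have E01 := Groth.Agent.NumType.Basic.a_symm T (v 0) (v 1)
  have L02 := Groth.Agent.NumType.Basic.w_le T _ _ (hvi.ne (show (0 : Fin 5) ≠ 2 by decide)) (h02.ne')
  have R02 := Groth.Agent.NumType.Basic.w_le' T _ _ (hvi.ne (show (0 : Fin 5) ≠ 2 by decide)) (h02.ne')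
  have E02 := Groth.Agent.NumType.Basic.a_symm T (v 0) (v 2)
  have L03 := Groth.Agent.NumType.Basic.w_le T _ _ (hvi.ne (show (0 : Fin 5) ≠ 3 by decide)) (h03.ne')
  have R03 := Groth.Agent.NumType.Basic.w_le' T _ _ (hvi.ne (show (0 : Fin 5) ≠ 3 by decide)) (h03.ne')
  have E03 := Groth.Agent.NumType.Basic.a_symm T (v 0) (v 3)
  have L04 := Groth.Agent.NumType.Basic.w_le T _ _ (hvi.ne (show (0 : Fin 5) ≠ 4 by decide)) (h04.ne')
  have R04 := Groth.Agent.NumType.Basic.w_le' T _ _ (hvi.ne (show (0 : Fin 5) ≠ 4 by decide)) (h04.ne')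
  have E04 := Groth.Agent.NumType.Basic.a_symm T (v 0) (v 4)
  refine Groth.Agent.NumType.Basic.contra T hn v hvi 0 hv ![2, 1, 1, 1, 1] (by decide) ?_
  intro p
  match p with
  | 0 => refine le_trans ?_ (Groth.Agent.NumType.Basic.le_sumS T v hvi _ (by decide) 0 {1, 2, 3, 4} (by decide)); simp; linarith
  | 1 => refine le_trans ?_ (Groth.Agent.NumType.Basic.le_sum1 T v hvi _ (by decide) 1 0 (by decide)); simp; linarith
  | 2 => refine le_trans ?_ (Groth.Agent.NumType.Basic.le_sum1 T v hvi _ (by decide) 2 0 (by decide)); simp; linarith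
  | 3 => refine le_trans ?_ (Groth.Agent.NumType.Basic.le_sum1 T v hvi _ (by decide) 3 0 (by decide)); simp; linarith
  | 4 => refine le_trans ?_ (Groth.Agent.NumType.Basic.le_sum1 T v hvi _ (by decide) 4 0 (by decide)); simp; linarith

end Groth.Agent.S7351
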