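import Groth.Statements.S7353
import Groth.Agent.NumType.Chains

set_option autoImplicit false
open Finset
open Models Models.NumericalType

namespace Groth.Agent.S7353
open Groth.Agent.NumType.Basic Groth.Agent.NumType.Shapes Groth.Agent.NumType.Chains

/-- Classification of proper subgraphs which are chains of five vertices: let T be a numerical type on n
> 5 indices and i_1, …, i_5 distinct (-2)-indices with a_{i_j i_{j+1}} nonzero for j < 5. Then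
a_{i_j i_l} = 0 for |j - l| ≥ 2 and, after possibly reversing the order of the indices, for some
integer w one of the following holds: (A5) w = (w, w, w, w, w), consecutive a = (w, w, w, w), with
2m_1 ≥ m_2, 2m_2 ≥ m_1 + m_3, 2m_3 ≥ m_2 + m_4, 2m_4 ≥ m_3 + m_5, 2m_5 ≥ m_4; (C5) w = (w, w, w, w,
2w), consecutive a = (w, w, w, 2w), with 2m_1 ≥ m_2, 2m_2 ≥ m_1 + m_3, 2m_3 ≥ m_2 + m_4, 2m_4 ≥ m_3
+ 2m_5, 2m_5 ≥ m_4; (B5) w = (2w, 2w, 2w, 2w, w), consecutive a = (2w, 2w, 2w, 2w), with 2m_1 ≥ m_2,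
2m_2 ≥ m_1 + m_3, 2m_3 ≥ m_2 + m_4, 2m_4 ≥ m_3 + m_5, m_5 ≥ m_4. (The inequalities are those given
by the rows Σ_l a_{kl} m_l = 0 of the displayed matrices; the published text has 2m_3 ≥ m_2 + 2m_4
and 2m_4 ≥ m_3 + m_5 in case C5 and m_4 ≥ m_3 in case B5, of which the first does not follow — for
the numerical type with six indices, weights (1,1,1,1,2,1), chain intersection numbers (1,1,1,2)
plus a_{16} = 1, a_{66} = -1 and multiplicities (2,2,2,2,1,2) one has 2m_3 = 4 < m_2 + 2m_4 = 6 — so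
the matrix inequalities are stated.) -/
theorem result {n : ℕ} (T : Models.NumericalType n) (hn : 5 < n)
    (v : Fin 5 ↪ Fin n) (hv : ∀ j, T.IsMinusTwo (v j)) (h01 : T.a (v 0) (v 1) ≠ 0) (h12 : T.a (v 1) (v 2) ≠ 0) (h23 : T.a (v 2) (v 3) ≠ 0) (h34 : T.a (v 3) (v 4) ≠ 0) :
    (T.a (v 0) (v 2) = 0 ∧ T.a (v 0) (v 3) = 0 ∧ T.a (v 0) (v 4) = 0 ∧ T.a (v 1) (v 3) = 0 ∧ T.a (v 1) (v 4) = 0 ∧ T.a (v 2) (v 4) = 0) ∧
    ∃ (u : Fin 5 → Fin n) (w : ℤ), ((∀ j, u j = v j) ∨ (∀ j, u j = v (Fin.rev j))) ∧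
      ((T.w (u 0) = w ∧ T.w (u 1) = w ∧ T.w (u 2) = w ∧ T.w (u 3) = w ∧ T.w (u 4) = w ∧ T.a (u 0) (u 1) = w ∧ T.a (u 1) (u 2) = w ∧ T.a (u 2) (u 3) = w ∧ T.a (u 3) (u 4) = w ∧ T.m (u 1) ≤ 2 * T.m (u 0) ∧ T.m (u 0) + T.m (u 2) ≤ 2 * T.m (u 1) ∧ T.m (u 1) + T.m (u 3) ≤ 2 * T.m (u 2) ∧ T.m (u 2) + T.m (u 4) ≤ 2 * T.m (u 3) ∧ T.m (u 3) ≤ 2 * T.m (u 4)) ∨
      (T.w (u 0) = w ∧ T.w (u 1) = w ∧ T.w (u 2) = w ∧ T.w (u 3) = w ∧ T.w (u 4) = 2 * w ∧ T.a (u 0) (u 1) = w ∧ T.a (u 1) (u 2) = w ∧ T.a (u 2) (u 3) = w ∧ T.a (u 3) (u 4) = 2 * w ∧ T.m (u 1) ≤ 2 * T.m (u 0) ∧ T.m (u 0) + T.m (u 2) ≤ 2 * T.m (u 1) ∧ T.m (u 1) + T.m (u 3) ≤ 2 * T.m (u 2) ∧ T.m (u 2) + 2 * T.m (u 4) ≤ 2 * T.m (u 3) ∧ T.m (u 3) ≤ 2 * T.m (u 4)) ∨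
      (T.w (u 0) = 2 * w ∧ T.w (u 1) = 2 * w ∧ T.w (u 2) = 2 * w ∧ T.w (u 3) = 2 * w ∧ T.w (u 4) = w ∧ T.a (u 0) (u 1) = 2 * w ∧ T.a (u 1) (u 2) = 2 * w ∧ T.a (u 2) (u 3) = 2 * w ∧ T.a (u 3) (u 4) = 2 * w ∧ T.m (u 1) ≤ 2 * T.m (u 0) ∧ T.m (u 0) + T.m (u 2) ≤ 2 * T.m (u 1) ∧ T.m (u 1) + T.m (u 3) ≤ 2 * T.m (u 2) ∧ T.m (u 2) + T.m (u 4) ≤ 2 * T.m (u 3) ∧ T.m (u 3) ≤ T.m (u 4))) := by
  have hvi := v.injective
  have A01 : T.a (v 0) (v 1) ≠ 0 := h01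
  have A10 : T.a (v 1) (v 0) ≠ 0 := by rw [a_symm T]; exact A01
  have A12 : T.a (v 1) (v 2) ≠ 0 := h12
  have A21 : T.a (v 2) (v 1) ≠ 0 := by rw [a_symm T]; exact A12
  have A23 : T.a (v 2) (v 3) ≠ 0 := h23
  have A32 : T.a (v 3) (v 2) ≠ 0 := by rw [a_symm T]; exact A23
  have A34 : T.a (v 3) (v 4) ≠ 0 := h34
  have A43 : T.a (v 4) (v 3) ≠ 0 := by rw [a_symm T]; exact A34
  have r0 := row1 T (v 0) (v 1) (hvi.ne (show (1 : Fin 5) ≠ 0 by decide))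
  rw [(hv 0).2] at r0
  have hw0 := T.w_pos (v 0)
  have r1 := row2 T (v 1) (v 0) (v 2) (hvi.ne (show (0 : Fin 5) ≠ 1 by decide)) (hvi.ne (show (2 : Fin 5) ≠ 1 by decide)) (hvi.ne (show (0 : Fin 5) ≠ 2 by decide))
  rw [(hv 1).2] at r1
  have hw1 := T.w_pos (v 1)
  have r2 := row2 T (v 2) (v 1) (v 3) (hvi.ne (show (1 : Fin 5) ≠ 2 by decide)) (hvi.ne (show (3 : Fin 5) ≠ 2 by decide)) (hvi.ne (show (1 : Fin 5) ≠ 3 by decide))
  rw [(hv 2).2] at r2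
  have hw2 := T.w_pos (v 2)
  have r3 := row2 T (v 3) (v 2) (v 4) (hvi.ne (show (2 : Fin 5) ≠ 3 by decide)) (hvi.ne (show (4 : Fin 5) ≠ 3 by decide)) (hvi.ne (show (2 : Fin 5) ≠ 4 by decide))
  rw [(hv 3).2] at r3
  have hw3 := T.w_pos (v 3)
  have r4 := row1 T (v 4) (v 3) (hvi.ne (show (3 : Fin 5) ≠ 4 by decide))
  rw [(hv 4).2] at r4
  have hw4 := T.w_pos (v 4)
  have adj : ∀ a b : Fin 5, (a, b) ∈ ([(0, 1), (1, 0), (1, 2), (2, 1), (2, 3), (3, 2), (3, 4), (4, 3)] : List (Fin 5 × Fin 5)) → T.a (v a) (v b) ≠ 0 := by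
    intro a b h
    simp only [List.mem_cons, List.not_mem_nil, or_false, Prod.mk.injEq] at h
    rcases h with ⟨rfl, rfl⟩ | ⟨rfl, rfl⟩ | ⟨rfl, rfl⟩ | ⟨rfl, rfl⟩ | ⟨rfl, rfl⟩ | ⟨rfl, rfl⟩ | ⟨rfl, rfl⟩ | ⟨rfl, rfl⟩ <;> assumption
  have key : ∀ a b c : ℤ, 0 < a → a * b ≤ a * c → b ≤ c := fun a b c ha h => le_of_mul_le_mul_left h ha
  have Z02 : T.a (v 0) (v 2) = 0 := chain_zero T 3 (by omega) (⇑v ∘ (![0, 1, 2] : Fin 3 → Fin 5)) (hvi.comp (by decide)) (fun _ => hv _) (fun a b h => adj _ _ ((show ∀ a b : Fin 3, b.val = a.val + 1 → ((![0, 1, 2] : Fin 3 → Fin 5) a, (![0, 1, 2] : Fin 3 → Fin 5) b) ∈ ([(0, 1), (1, 0), (1, 2), (2, 1), (2, 3), (3, 2), (3, 4), (4, 3)] : List _) from by decide) a b h)) 0 2 (by decide)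
  have Z03 : T.a (v 0) (v 3) = 0 := chain_zero T 4 (by omega) (⇑v ∘ (![0, 1, 2, 3] : Fin 4 → Fin 5)) (hvi.comp (by decide)) (fun _ => hv _) (fun a b h => adj _ _ ((show ∀ a b : Fin 4, b.val = a.val + 1 → ((![0, 1, 2, 3] : Fin 4 → Fin 5) a, (![0, 1, 2, 3] : Fin 4 → Fin 5) b) ∈ ([(0, 1), (1, 0), (1, 2), (2, 1), (2, 3), (3, 2), (3, 4), (4, 3)] : List _) from by decide) a b h)) 0 3 (by decide)
  have Z04 : T.a (v 0) (v 4) = 0 := chain_zero T 5 (by omega) (⇑v ∘ (![0, 1, 2, 3, 4] : Fin 5 → Fin 5)) (hvi.comp (by decide)) (fun _ => hv _) (fun a b h => adj _ _ ((show ∀ a b : Fin 5, b.val = a.val + 1 → ((![0, 1, 2, 3, 4] : Fin 5 → Fin 5) a, (![0, 1, 2, 3, 4] : Fin 5 → Fin 5) b) ∈ ([(0, 1), (1, 0), (1, 2), (2, 1), (2, 3), (3, 2), (3, 4), (4, 3)] : List _) from by decide) a b h)) 0 4 (by decide)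
  have Z13 : T.a (v 1) (v 3) = 0 := chain_zero T 3 (by omega) (⇑v ∘ (![1, 2, 3] : Fin 3 → Fin 5)) (hvi.comp (by decide)) (fun _ => hv _) (fun a b h => adj _ _ ((show ∀ a b : Fin 3, b.val = a.val + 1 → ((![1, 2, 3] : Fin 3 → Fin 5) a, (![1, 2, 3] : Fin 3 → Fin 5) b) ∈ ([(0, 1), (1, 0), (1, 2), (2, 1), (2, 3), (3, 2), (3, 4), (4, 3)] : List _) from by decide) a b h)) 0 2 (by decide)
  have Z14 : T.a (v 1) (v 4) = 0 := chain_zero T 4 (by omega) (⇑v ∘ (![1, 2, 3, 4] : Fin 4 → Fin 5)) (hvi.comp (by decide)) (fun _ => hv _) (fun a b h => adj _ _ ((show ∀ a b : Fin 4, b.val = a.val + 1 → ((![1, 2, 3, 4] : Fin 4 → Fin 5) a, (![1, 2, 3, 4] : Fin 4 → Fin 5) b) ∈ ([(0, 1), (1, 0), (1, 2), (2, 1), (2, 3), (3, 2), (3, 4), (4, 3)] : List _) from by decide) a b h)) 0 3 (by decide)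
  have Z24 : T.a (v 2) (v 4) = 0 := chain_zero T 3 (by omega) (⇑v ∘ (![2, 3, 4] : Fin 3 → Fin 5)) (hvi.comp (by decide)) (fun _ => hv _) (fun a b h => adj _ _ ((show ∀ a b : Fin 3, b.val = a.val + 1 → ((![2, 3, 4] : Fin 3 → Fin 5) a, (![2, 3, 4] : Fin 3 → Fin 5) b) ∈ ([(0, 1), (1, 0), (1, 2), (2, 1), (2, 3), (3, 2), (3, 4), (4, 3)] : List _) from by decide) a b h)) 0 2 (by decide)
  have hc : ∀ p q : Fin 5, q.val = p.val + 1 → T.a (v p) (v q) ≠ 0 := (fun a b h => adj _ _ ((show ∀ a b : Fin 5, b.val = a.val + 1 → (a, b) ∈ ([(0, 1), (1, 0), (1, 2), (2, 1), (2, 3), (3, 2), (3, 4), (4, 3)] : List _) from by decide) a b h))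
  have e0 := chain_edge T 5 (by omega) hn v hvi hv hc 0 1 rfl
  have e1 := chain_edge T 5 (by omega) hn v hvi hv hc 1 2 rfl
  have e2 := chain_edge T 5 (by omega) hn v hvi hv hc 2 3 rfl
  have e3 := chain_edge T 5 (by omega) hn v hvi hv hc 3 4 rfl
  have U01 : T.w (v 0) = T.w (v 1) ∨ T.w (v 1) = T.w (v 2) := by
    by_contra hh; push Not at hh
    exact absurd (change_unique T 5 hn v hvi hv hc 0 1 1 2 rfl rfl hh.1 hh.2) (by decide)
  have U02 : T.w (v 0) = T.w (v 1) ∨ T.w (v 2) = T.w (v 3) := by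
    by_contra hh; push Not at hh
    exact absurd (change_unique T 5 hn v hvi hv hc 0 1 2 3 rfl rfl hh.1 hh.2) (by decide)
  have U03 : T.w (v 0) = T.w (v 1) ∨ T.w (v 3) = T.w (v 4) := by
    by_contra hh; push Not at hh
    exact absurd (change_unique T 5 hn v hvi hv hc 0 1 3 4 rfl rfl hh.1 hh.2) (by decide)
  have U12 : T.w (v 1) = T.w (v 2) ∨ T.w (v 2) = T.w (v 3) := by
    by_contra hh; push Not at hh
    exact absurd (change_unique T 5 hn v hvi hv hc 1 2 2 3 rfl rfl hh.1 hh.2) (by decide)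
  have U13 : T.w (v 1) = T.w (v 2) ∨ T.w (v 3) = T.w (v 4) := by
    by_contra hh; push Not at hh
    exact absurd (change_unique T 5 hn v hvi hv hc 1 2 3 4 rfl rfl hh.1 hh.2) (by decide)
  have M1 : T.w (v 1) = T.w (v 2) := by
    by_contra hh
    exact absurd (change_at_end T 5 hn v hvi hv hc (by omega) 1 2 rfl hh) (by decide)
  have U23 : T.w (v 2) = T.w (v 3) ∨ T.w (v 3) = T.w (v 4) := by
    by_contra hh; push Not at hh
    exact absurd (change_unique T 5 hn v hvi hv hc 2 3 3 4 rfl rfl hh.1 hh.2) (by decide)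
  have M2 : T.w (v 2) = T.w (v 3) := by
    by_contra hh
    exact absurd (change_at_end T 5 hn v hvi hv hc (by omega) 2 3 rfl hh) (by decide)
  have hcases : (T.w (v 1) = 1 * T.w (v 0) ∧ T.w (v 2) = 1 * T.w (v 0) ∧ T.w (v 3) = 1 * T.w (v 0) ∧ T.w (v 4) = 1 * T.w (v 0) ∧ T.a (v 0) (v 1) = 1 * T.w (v 0) ∧ T.a (v 1) (v 2) = 1 * T.w (v 0) ∧ T.a (v 2) (v 3) = 1 * T.w (v 0) ∧ T.a (v 3) (v 4) = 1 * T.w (v 0)) ∨ (T.w (v 1) = 2 * T.w (v 0) ∧ T.w (v 2) = 2 * T.w (v 0) ∧ T.w (v 3) = 2 * T.w (v 0) ∧ T.w (v 4) = 2 * T.w (v 0) ∧ T.a (v 0) (v 1) = 2 * T.w (v 0) ∧ T.a (v 1) (v 2) = 2 * T.w (v 0) ∧ T.a (v 2) (v 3) = 2 * T.w (v 0) ∧ T.a (v 3) (v 4) = 2 * T.w (v 0)) ∨ (T.w (v 0) = 2 * T.w (v 1) ∧ T.w (v 2) = 1 * T.w (v 1) ∧ T.w (v 3) = 1 * T.w (v 1) ∧ T.w (v 4) = 1 * T.w (v 1) ∧ T.a (v 0) (v 1) = 2 * T.w (v 1) ∧ T.a (v 1) (v 2) = 1 * T.w (v 1) ∧ T.a (v 2) (v 3) = 1 * T.w (v 1) ∧ T.a (v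 3) (v 4) = 1 * T.w (v 1)) ∨ (T.w (v 1) = 1 * T.w (v 0) ∧ T.w (v 2) = 1 * T.w (v 0) ∧ T.w (v 3) = 1 * T.w (v 0) ∧ T.w (v 4) = 2 * T.w (v 0) ∧ T.a (v 0) (v 1) = 1 * T.w (v 0) ∧ T.a (v 1) (v 2) = 1 * T.w (v 0) ∧ T.a (v 2) (v 3) = 1 * T.w (v 0) ∧ T.a (v 3) (v 4) = 2 * T.w (v 0)) ∨ (T.w (v 0) = 2 * T.w (v 4) ∧ T.w (v 1) = 2 * T.w (v 4) ∧ T.w (v 2) = 2 * T.w (v 4) ∧ T.w (v 3) = 2 * T.w (v 4) ∧ T.a (v 0) (v 1) = 2 * T.w (v 4) ∧ T.a (v 1) (v 2) = 2 * T.w (v 4) ∧ T.a (v 2) (v 3) = 2 * T.w (v 4) ∧ T.a (v 3) (v 4) = 2 * T.w (v 4)) := by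
    rcases e0 with ⟨a0, b0⟩ | ⟨a0, b0⟩ | ⟨a0, b0⟩ <;> rcases e1 with ⟨a1, b1⟩ | ⟨a1, b1⟩ | ⟨a1, b1⟩ <;> rcases e2 with ⟨a2, b2⟩ | ⟨a2, b2⟩ | ⟨a2, b2⟩ <;> rcases e3 with ⟨a3, b3⟩ | ⟨a3, b3⟩ | ⟨a3, b3⟩
    · exact Or.inl ⟨by linarith, by linarith, by linarith, by linarith, by linarith, by linarith, by linarith, by linarith⟩
    · exact Or.inr (Or.inr (Or.inr (Or.inl ⟨by linarith, by linarith, by linarith, by linarith, by linarith, by linarith, by linarith, by linarith⟩)))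
    · exact Or.inr (Or.inr (Or.inr (Or.inr (⟨by linarith, by linarith, by linarith, by linarith, by linarith, by linarith, by linarith, by linarith⟩))))
    · linarith [M2, hw2, hw3]
    · linarith [M2, hw2, hw3]
    · linarith [M2, hw2, hw3]
    · linarith [M2, hw2, hw3]
    · linarith [M2, hw2, hw3]
    · linarith [M2, hw2, hw3]
    · linarith [M1, hw1, hw2]
    · linarith [M1, hw1, hw2]
    · linarith [M1, hw1, hw2]
    · linarith [M1, hw1, hw2]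
    · linarith [M1, hw1, hw2]
    · linarith [M1, hw1, hw2]
    · linarith [M1, hw1, hw2]
    · linarith [M1, hw1, hw2]
    · linarith [M1, hw1, hw2]
    · linarith [M1, hw1, hw2]
    · linarith [M1, hw1, hw2]
    · linarith [M1, hw1, hw2]
    · linarith [M1, hw1, hw2]
    · linarith [M1, hw1, hw2]
    · linarith [M1, hw1, hw2]
    · linarith [M1, hw1, hw2]
    · linarith [M1, hw1, hw2]
    · linarith [M1, hw1, hw2]
    · exact Or.inr (Or.inl ⟨by linarith, by linarith, by linarith, by linarith, by linarith, by linarith, by linarith, by linarith⟩)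
    · rcases U03 with u | u <;> linarith [hw0, hw1, hw3, hw4]
    · rcases U03 with u | u <;> linarith [hw0, hw1, hw3, hw4]
    · linarith [M2, hw2, hw3]
    · linarith [M2, hw2, hw3]
    · linarith [M2, hw2, hw3]
    · linarith [M2, hw2, hw3]
    · linarith [M2, hw2, hw3]
    · linarith [M2, hw2, hw3]
    · linarith [M1, hw1, hw2]
    · linarith [M1, hw1, hw2]
    · linarith [M1, hw1, hw2]
    · linarith [M1, hw1, hw2]
    · linarith [M1, hw1, hw2]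
    · linarith [M1, hw1, hw2]
    · linarith [M1, hw1, hw2]
    · linarith [M1, hw1, hw2]
    · linarith [M1, hw1, hw2]
    · linarith [M1, hw1, hw2]
    · linarith [M1, hw1, hw2]
    · linarith [M1, hw1, hw2]
    · linarith [M1, hw1, hw2]
    · linarith [M1, hw1, hw2]
    · linarith [M1, hw1, hw2]
    · linarith [M1, hw1, hw2]
    · linarith [M1, hw1, hw2]
    · linarith [M1, hw1, hw2]
    · exact Or.inr (Or.inr (Or.inl ⟨by linarith, by linarith, by linarith, by linarith, by linarith, by linarith, by linarith, by linarith⟩))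
    · rcases U03 with u | u <;> linarith [hw0, hw1, hw3, hw4]
    · rcases U03 with u | u <;> linarith [hw0, hw1, hw3, hw4]
    · linarith [M2, hw2, hw3]
    · linarith [M2, hw2, hw3]
    · linarith [M2, hw2, hw3]
    · linarith [M2, hw2, hw3]
    · linarith [M2, hw2, hw3]
    · linarith [M2, hw2, hw3]
    · linarith [M1, hw1, hw2]
    · linarith [M1, hw1, hw2]
    · linarith [M1, hw1, hw2]
    · linarith [M1, hw1, hw2]
    · linarith [M1, hw1, hw2]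
    · linarith [M1, hw1, hw2]
    · linarith [M1, hw1, hw2]
    · linarith [M1, hw1, hw2]
    · linarith [M1, hw1, hw2]
    · linarith [M1, hw1, hw2]
    · linarith [M1, hw1, hw2]
    · linarith [M1, hw1, hw2]
    · linarith [M1, hw1, hw2]
    · linarith [M1, hw1, hw2]
    · linarith [M1, hw1, hw2]
    · linarith [M1, hw1, hw2]
    · linarith [M1, hw1, hw2]
    · linarith [M1, hw1, hw2]
  refine ⟨⟨Z02, Z03, Z04, Z13, Z14, Z24⟩, ?_⟩
  rcases hcases with ⟨q0, q1, q2, q3, B0, B1, B2, B3⟩ | ⟨q0, q1, q2, q3, B0, B1, B2, B3⟩ | ⟨q0, q1, q2, q3, B0, B1, B2, B3⟩ | ⟨q0, q1, q2, q3, B0, B1, B2, B3⟩ | ⟨q0, q1, q2, q3, B0, B1, B2, B3⟩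
  · have W := T.w_pos (v 0)
    have B0' : T.a (v 1) (v 0) = 1 * T.w (v 0) := (a_symm T _ _).trans B0
    have B1' : T.a (v 2) (v 1) = 1 * T.w (v 0) := (a_symm T _ _).trans B1
    have B2' : T.a (v 3) (v 2) = 1 * T.w (v 0) := (a_symm T _ _).trans B2
    have B3' : T.a (v 4) (v 3) = 1 * T.w (v 0) := (a_symm T _ _).trans B3
    simp only [B0] at r0
    simp only [B1, B0', q0] at r1
    simp only [B2, B1', q1] at r2
    simp only [B3, B2', q2] at r3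
    simp only [B3', q3] at r4
    refine ⟨fun j => v j, T.w (v 0), Or.inl fun _ => rfl, Or.inl ⟨?_, ?_, ?_, ?_, ?_, ?_, ?_, ?_, ?_, ?_, ?_, ?_, ?_, ?_⟩⟩
    all_goals try simp only [show Fin.rev (0 : Fin 5) = 4 from rfl, show Fin.rev (1 : Fin 5) = 3 from rfl, show Fin.rev (2 : Fin 5) = 2 from rfl, show Fin.rev (3 : Fin 5) = 1 from rfl, show Fin.rev (4 : Fin 5) = 0 from rfl]
    all_goals first | linarith | (refine key (T.w (v 0)) _ _ W ?_; linarith)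
  · have W := T.w_pos (v 0)
    have B0' : T.a (v 1) (v 0) = 2 * T.w (v 0) := (a_symm T _ _).trans B0
    have B1' : T.a (v 2) (v 1) = 2 * T.w (v 0) := (a_symm T _ _).trans B1
    have B2' : T.a (v 3) (v 2) = 2 * T.w (v 0) := (a_symm T _ _).trans B2
    have B3' : T.a (v 4) (v 3) = 2 * T.w (v 0) := (a_symm T _ _).trans B3
    simp only [B0] at r0
    simp only [B1, B0', q0] at r1
    simp only [B2, B1', q1] at r2
    simp only [B3, B2', q2] at r3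
    simp only [B3', q3] at r4
    refine ⟨fun j => v (Fin.rev j), T.w (v 0), Or.inr fun _ => rfl, Or.inr (Or.inr (⟨?_, ?_, ?_, ?_, ?_, ?_, ?_, ?_, ?_, ?_, ?_, ?_, ?_, ?_⟩))⟩
    all_goals try simp only [show Fin.rev (0 : Fin 5) = 4 from rfl, show Fin.rev (1 : Fin 5) = 3 from rfl, show Fin.rev (2 : Fin 5) = 2 from rfl, show Fin.rev (3 : Fin 5) = 1 from rfl, show Fin.rev (4 : Fin 5) = 0 from rfl]
    all_goals first | linarith | (refine key (T.w (v 0)) _ _ W ?_; linarith)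
  · have W := T.w_pos (v 1)
    have B0' : T.a (v 1) (v 0) = 2 * T.w (v 1) := (a_symm T _ _).trans B0
    have B1' : T.a (v 2) (v 1) = 1 * T.w (v 1) := (a_symm T _ _).trans B1
    have B2' : T.a (v 3) (v 2) = 1 * T.w (v 1) := (a_symm T _ _).trans B2
    have B3' : T.a (v 4) (v 3) = 1 * T.w (v 1) := (a_symm T _ _).trans B3
    simp only [B0, q0] at r0
    simp only [B1, B0'] at r1
    simp only [B2, B1', q1] at r2
    simp only [B3, B2', q2] at r3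
    simp only [B3', q3] at r4
    refine ⟨fun j => v (Fin.rev j), T.w (v 1), Or.inr fun _ => rfl, Or.inr (Or.inl ⟨?_, ?_, ?_, ?_, ?_, ?_, ?_, ?_, ?_, ?_, ?_, ?_, ?_, ?_⟩)⟩
    all_goals try simp only [show Fin.rev (0 : Fin 5) = 4 from rfl, show Fin.rev (1 : Fin 5) = 3 from rfl, show Fin.rev (2 : Fin 5) = 2 from rfl, show Fin.rev (3 : Fin 5) = 1 from rfl, show Fin.rev (4 : Fin 5) = 0 from rfl]
    all_goals first | linarith | (refine key (T.w (v 1)) _ _ W ?_; linarith)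
  · have W := T.w_pos (v 0)
    have B0' : T.a (v 1) (v 0) = 1 * T.w (v 0) := (a_symm T _ _).trans B0
    have B1' : T.a (v 2) (v 1) = 1 * T.w (v 0) := (a_symm T _ _).trans B1
    have B2' : T.a (v 3) (v 2) = 1 * T.w (v 0) := (a_symm T _ _).trans B2
    have B3' : T.a (v 4) (v 3) = 2 * T.w (v 0) := (a_symm T _ _).trans B3
    simp only [B0] at r0
    simp only [B1, B0', q0] at r1
    simp only [B2, B1', q1] at r2
    simp only [B3, B2', q2] at r3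
    simp only [B3', q3] at r4
    refine ⟨fun j => v j, T.w (v 0), Or.inl fun _ => rfl, Or.inr (Or.inl ⟨?_, ?_, ?_, ?_, ?_, ?_, ?_, ?_, ?_, ?_, ?_, ?_, ?_, ?_⟩)⟩
    all_goals try simp only [show Fin.rev (0 : Fin 5) = 4 from rfl, show Fin.rev (1 : Fin 5) = 3 from rfl, show Fin.rev (2 : Fin 5) = 2 from rfl, show Fin.rev (3 : Fin 5) = 1 from rfl, show Fin.rev (4 : Fin 5) = 0 from rfl]
    all_goals first | linarith | (refine key (T.w (v 0)) _ _ W ?_; linarith)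
  · have W := T.w_pos (v 4)
    have B0' : T.a (v 1) (v 0) = 2 * T.w (v 4) := (a_symm T _ _).trans B0
    have B1' : T.a (v 2) (v 1) = 2 * T.w (v 4) := (a_symm T _ _).trans B1
    have B2' : T.a (v 3) (v 2) = 2 * T.w (v 4) := (a_symm T _ _).trans B2
    have B3' : T.a (v 4) (v 3) = 2 * T.w (v 4) := (a_symm T _ _).trans B3
    simp only [B0, q0] at r0
    simp only [B1, B0', q1] at r1
    simp only [B2, B1', q2] at r2
    simp only [B3, B2', q3] at r3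
    simp only [B3'] at r4
    refine ⟨fun j => v j, T.w (v 4), Or.inl fun _ => rfl, Or.inr (Or.inr (⟨?_, ?_, ?_, ?_, ?_, ?_, ?_, ?_, ?_, ?_, ?_, ?_, ?_, ?_⟩))⟩
    all_goals try simp only [show Fin.rev (0 : Fin 5) = 4 from rfl, show Fin.rev (1 : Fin 5) = 3 from rfl, show Fin.rev (2 : Fin 5) = 2 from rfl, show Fin.rev (3 : Fin 5) = 1 from rfl, show Fin.rev (4 : Fin 5) = 0 from rfl]
    all_goals first | linarith | (refine key (T.w (v 4)) _ _ W ?_; linarith)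

end Groth.Agent.S7353
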