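import Groth.Statements.S7354
import Groth.Agent.NumType.Chains

set_option autoImplicit false
open Finset
open Models Models.NumericalType

namespace Groth.Agent.S7354
open Groth.Agent.NumType.Basic Groth.Agent.NumType.Shapes Groth.Agent.NumType.Chains

/-- Let T be a numerical type on n indices, t > 5 with n > t, and i_1, …, i_t distinct (-2)-indices with
a_{i_j i_{j+1}} nonzero for j = 1, …, t - 1. Then, after possibly reversing the order of the
indices, for some integer w either (A) w_{i_1} = … = w_{i_t} = w and a_{i_j i_{j+1}} = w for all j;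
or (C) w_{i_1} = … = w_{i_{t-1}} = w, w_{i_t} = 2w, a_{i_j i_{j+1}} = w for j < t - 1 and a_{i_{t-1}
i_t} = 2w; or (B) w_{i_1} = … = w_{i_{t-1}} = 2w, w_{i_t} = w and a_{i_j i_{j+1}} = 2w for all j;
and in every case a_{i_j i_k} = 0 whenever k > j + 1. -/
theorem result {n : ℕ} (T : Models.NumericalType n) (t : ℕ) (ht : 5 < t) (hn : t < n)
    (v : Fin t ↪ Fin n) (hv : ∀ j, T.IsMinusTwo (v j))
    (hchain : ∀ j j' : Fin t, j'.val = j.val + 1 → T.a (v j) (v j') ≠ 0) :
    ∃ (u : Fin t → Fin n) (w : ℤ), ((∀ j, u j = v j) ∨ (∀ j, u j = v (Fin.rev j))) ∧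
      (∀ j k : Fin t, j.val + 1 < k.val → T.a (u j) (u k) = 0) ∧
      ((∀ j : Fin t, T.w (u j) = w) ∧ (∀ j j' : Fin t, j'.val = j.val + 1 → T.a (u j) (u j') = w) ∨
        ((∀ j : Fin t, j.val + 1 < t → T.w (u j) = w) ∧ (∀ j : Fin t, j.val + 1 = t → T.w (u j) = 2 * w) ∧
          (∀ j j' : Fin t, j'.val = j.val + 1 → j'.val + 1 < t → T.a (u j) (u j') = w) ∧
          (∀ j j' : Fin t, j'.val = j.val + 1 → j'.val + 1 = t → T.a (u j) (u j') = 2 * w)) ∨
        ((∀ j : Fin t, j.val + 1 < t → T.w (u j) = 2 * w) ∧ (∀ j : Fin t, j.val + 1 = t → T.w (u j) = w) ∧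
          (∀ j j' : Fin t, j'.val = j.val + 1 → T.a (u j) (u j') = 2 * w))) := by
  have key : ∀ u : Fin t → Fin n, Function.Injective u → (∀ j, T.IsMinusTwo (u j)) →
      (∀ p q : Fin t, q.val = p.val + 1 → T.a (u p) (u q) ≠ 0) →
      (∀ p q : Fin t, q.val = p.val + 1 → T.w (u p) ≠ T.w (u q) → q.val + 1 = t) →
      (∀ j k : Fin t, j.val + 1 < k.val → T.a (u j) (u k) = 0) ∧
      ∃ w : ℤ, ((∀ j : Fin t, T.w (u j) = w) ∧ (∀ j j' : Fin t, j'.val = j.val + 1 → T.a (u j) (u j') = w) ∨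
        ((∀ j : Fin t, j.val + 1 < t → T.w (u j) = w) ∧ (∀ j : Fin t, j.val + 1 = t → T.w (u j) = 2 * w) ∧
          (∀ j j' : Fin t, j'.val = j.val + 1 → j'.val + 1 < t → T.a (u j) (u j') = w) ∧
          (∀ j j' : Fin t, j'.val = j.val + 1 → j'.val + 1 = t → T.a (u j) (u j') = 2 * w)) ∨
        ((∀ j : Fin t, j.val + 1 < t → T.w (u j) = 2 * w) ∧ (∀ j : Fin t, j.val + 1 = t → T.w (u j) = w) ∧
          (∀ j j' : Fin t, j'.val = j.val + 1 → T.a (u j) (u j') = 2 * w))) := by
    intro u hui hu hc hlast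
    refine ⟨fun j k h => chain_zero T t hn u hui hu hc j k h, ?_⟩
    have i0 : 0 < t := by omega
    have ia : t - 2 < t := by omega
    have ib : t - 1 < t := by omega
    have const : ∀ j : Fin t, j.val + 1 < t → T.w (u j) = T.w (u ⟨0, i0⟩) := fun j hj =>
      (const_of_no_change t (fun p => T.w (u p)) ⟨0, i0⟩ j (Nat.zero_le _) fun p q hpq _ hqj => by
        by_contra hne
        have := hlast p q hpq hne
        omega).symm
    have hlastj : ∀ j : Fin t, j.val + 1 = t → j = ⟨t - 1, ib⟩ := fun j hj => Fin.ext (show j.val = t - 1 by omega)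
    have e := chain_edge T t (by omega) hn u hui hu hc ⟨t - 2, ia⟩ ⟨t - 1, ib⟩ (show t - 1 = t - 2 + 1 by omega)
    rw [const ⟨t - 2, ia⟩ (show t - 2 + 1 < t by omega)] at e
    have hw := T.w_pos (u ⟨0, i0⟩)
    have inner : ∀ j j' : Fin t, j'.val = j.val + 1 → j'.val + 1 < t → T.a (u j) (u j') = T.w (u ⟨0, i0⟩) := by
      intro j j' h1 h2
      have he := chain_edge T t (by omega) hn u hui hu hc j j' h1
      rw [const j (by omega), const j' h2] at he
      omega
    have lastEdge : ∀ j j' : Fin t, j'.val = j.val + 1 → j'.val + 1 = t →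
        T.a (u j) (u j') = T.a (u ⟨t - 2, ia⟩) (u ⟨t - 1, ib⟩) := fun j j' h1 h2 => by
      rw [hlastj j' h2, show j = ⟨t - 2, ia⟩ from Fin.ext (show j.val = t - 2 by omega)]
    rcases e with ⟨a, b⟩ | ⟨a, b⟩ | ⟨a, b⟩
    · refine ⟨T.w (u ⟨0, i0⟩), Or.inl ⟨fun j => ?_, fun j j' h => ?_⟩⟩
      · rcases lt_or_eq_of_le (Nat.succ_le_of_lt j.isLt) with h | h
        · exact const j h
        · rw [hlastj j h]; exact a
      · rcases lt_or_eq_of_le (Nat.succ_le_of_lt j'.isLt) with h' | h'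
        · exact inner j j' h h'
        · rw [lastEdge j j' h h']; exact b
    · exact ⟨T.w (u ⟨0, i0⟩), Or.inr (Or.inl ⟨const, fun j hj => by rw [hlastj j hj]; exact a, inner,
        fun j j' h h' => by rw [lastEdge j j' h h', b, a]⟩)⟩
    · refine ⟨T.w (u ⟨t - 1, ib⟩), Or.inr (Or.inr ⟨fun j hj => by rw [const j hj]; exact a,
        fun j hj => by rw [hlastj j hj], fun j j' h => ?_⟩)⟩
      rcases lt_or_eq_of_le (Nat.succ_le_of_lt j'.isLt) with h' | h'
      · rw [inner j j' h h']; exact a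
      · rw [lastEdge j j' h h', b]; exact a
  by_cases hfirst : ∃ p q : Fin t, q.val = p.val + 1 ∧ T.w (v p) ≠ T.w (v q) ∧ p.val = 0
  · obtain ⟨p, q, hpq, hne, hp⟩ := hfirst
    obtain ⟨hz, w, hw⟩ := key (fun j => v (Fin.rev j)) (v.injective.comp Fin.rev_injective)
      (fun j => hv _) (fun a b h => by rw [a_symm T]; exact hchain _ _ (by simp only [Fin.val_rev]; omega))
      (fun a b h hab => by
        have := change_unique T t hn v v.injective hv hchain p q (Fin.rev b) (Fin.rev a) hpq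
          (by simp only [Fin.val_rev]; omega) hne (fun e => hab e.symm)
        rw [Fin.ext_iff, hp, Fin.val_rev] at this
        omega)
    exact ⟨fun j => v (Fin.rev j), w, Or.inr fun _ => rfl, hz, hw⟩
  · obtain ⟨hz, w, hw⟩ := key v v.injective hv hchain (fun a b h hab => by
      rcases change_at_end T t hn v v.injective hv hchain (by omega) a b h hab with h0 | h1
      · exact absurd ⟨a, b, h, hab, h0⟩ hfirst
      · exact h1)
    exact ⟨fun j => v j, w, Or.inl fun _ => rfl, hz, hw⟩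

end Groth.Agent.S7354
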