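import Groth.Statements.S7355
import Groth.Agent.NumType.Chains

set_option autoImplicit false
open Finset
open Models Models.NumericalType

namespace Groth.Agent.S7355
open Groth.Agent.NumType.Basic Groth.Agent.NumType.Shapes Groth.Agent.NumType.Chains

set_option maxHeartbeats 1000000 in
/-- Classification of proper subgraphs of type D: let T be a numerical type on n indices, t > 4 with n >
t + 1, and i_1, …, i_{t+1} distinct (-2)-indices such that a_{i_j i_{j+1}} is nonzero for j = 1, …,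
t - 1 and a_{i_{t-1} i_{t+1}} is nonzero. Then for some integer w one has w_{i_1} = … = w_{i_{t+1}}
= w, a_{i_j i_{j+1}} = w for j < t, a_{i_{t-1} i_{t+1}} = w, and a_{i_j i_k} = 0 for all other pairs
j ≠ k. -/
theorem result {n : ℕ} (T : Models.NumericalType n) (t : ℕ) (ht : 4 < t) (hn : t + 1 < n)
    (v : Fin (t + 1) ↪ Fin n) (hv : ∀ j, T.IsMinusTwo (v j))
    (hchain : ∀ j j' : Fin (t + 1), j'.val = j.val + 1 → j'.val < t → T.a (v j) (v j') ≠ 0)
    (hbranch : ∀ j j' : Fin (t + 1), j.val + 2 = t → j'.val = t → T.a (v j) (v j') ≠ 0) :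
    ∃ w : ℤ, (∀ j : Fin (t + 1), T.w (v j) = w) ∧
      (∀ j j' : Fin (t + 1), j'.val = j.val + 1 → j'.val < t → T.a (v j) (v j') = w) ∧
      (∀ j j' : Fin (t + 1), j.val + 2 = t → j'.val = t → T.a (v j) (v j') = w) ∧
      (∀ j k : Fin (t + 1), j.val < k.val → ¬ (k.val = j.val + 1 ∧ k.val < t) → ¬ (j.val + 2 = t ∧ k.val = t) →
        T.a (v j) (v k) = 0) := by
  have hvi := v.injective
  have ic : t - 2 < t + 1 := by omega
  have id1 : t - 1 < t + 1 := by omega
  have id2 : t < t + 1 := by omega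
  have id3 : t - 3 < t + 1 := by omega
  have e21 : T.a (v ⟨t - 2, ic⟩) (v ⟨t - 1, id1⟩) ≠ 0 :=
    hchain _ _ (show t - 1 = t - 2 + 1 by omega) (show t - 1 < t by omega)
  have e2t : T.a (v ⟨t - 2, ic⟩) (v ⟨t, id2⟩) ≠ 0 := hbranch _ _ (show t - 2 + 2 = t by omega) rfl
  have e23 : T.a (v ⟨t - 2, ic⟩) (v ⟨t - 3, id3⟩) ≠ 0 := by
    rw [a_symm T]; exact hchain _ _ (show t - 2 = t - 3 + 1 by omega) (show t - 2 < t by omega)
  have d4 : ∀ x y z : Fin (t + 1), x ≠ ⟨t - 2, ic⟩ → y ≠ ⟨t - 2, ic⟩ → z ≠ ⟨t - 2, ic⟩ → x ≠ y → x ≠ z → y ≠ z →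
      T.a (v ⟨t - 2, ic⟩) (v x) ≠ 0 → T.a (v ⟨t - 2, ic⟩) (v y) ≠ 0 → T.a (v ⟨t - 2, ic⟩) (v z) ≠ 0 →
      T.w (v x) = T.w (v ⟨t - 2, ic⟩) := by
    intro x y z hx hy hz hxy hxz hyz ax ay az
    by_contra hne
    refine branch_double T 1 le_rfl (by omega) ![v ⟨t - 2, ic⟩, v x, v y, v z] ?_ ?_ ?_ (by simpa using ay) (by simpa using az) (by simpa using Ne.symm hne)
    · intro a b; fin_cases a <;> fin_cases b <;> simp [hx, hy, hz, hxy, hxz, hyz, hx.symm, hy.symm, hz.symm, hxy.symm, hxz.symm, hyz.symm]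
    · intro a; fin_cases a <;> exact hv _
    · intro a b h h'
      obtain rfl : a = 0 := Fin.ext (show a.val = 0 by omega)
      obtain rfl : b = 1 := Fin.ext (show b.val = 1 by simp at h ⊢; omega)
      simpa using ax
  have n1 : (⟨t - 1, id1⟩ : Fin (t + 1)) ≠ ⟨t - 2, ic⟩ := by simp [Fin.ext_iff]; omega
  have n2 : (⟨t, id2⟩ : Fin (t + 1)) ≠ ⟨t - 2, ic⟩ := by simp [Fin.ext_iff]; omega
  have n3 : (⟨t - 3, id3⟩ : Fin (t + 1)) ≠ ⟨t - 2, ic⟩ := by simp [Fin.ext_iff]; omega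
  have n12 : (⟨t - 1, id1⟩ : Fin (t + 1)) ≠ ⟨t, id2⟩ := by simp [Fin.ext_iff]; omega
  have n13 : (⟨t - 1, id1⟩ : Fin (t + 1)) ≠ ⟨t - 3, id3⟩ := by simp [Fin.ext_iff]; omega
  have n23 : (⟨t, id2⟩ : Fin (t + 1)) ≠ ⟨t - 3, id3⟩ := by simp [Fin.ext_iff]; omega
  have w1 := d4 _ _ _ n1 n2 n3 n12 n13 n23 e21 e2t e23
  have w2 := d4 _ _ _ n2 n1 n3 n12.symm n23 n13 e2t e21 e23
  have arm : ∀ p q : Fin (t + 1), q.val = p.val + 1 → q.val + 2 ≤ t → T.w (v p) = T.w (v q) := by
    intro p q hpq hq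
    by_contra hne
    obtain ⟨s, hs⟩ : ∃ s, s = t - 2 - p.val := ⟨_, rfl⟩
    let u : Fin (s + 3) → Fin (t + 1) := fun i =>
      if i.val ≤ s then ⟨t - 2 - i.val, by omega⟩ else if i.val = s + 1 then ⟨t - 1, id1⟩ else ⟨t, id2⟩
    have hu : ∀ i : Fin (s + 3), i.val ≤ s → (u i).val = t - 2 - i.val := fun i h => by simp only [u]; rw [if_pos h]
    refine branch_double T s (by omega) (by omega) (v ∘ u) (hvi.comp ?_) (fun i => hv _) ?_ ?_ ?_ ?_
    · intro a b h
      simp only [u] at h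
      apply Fin.ext
      split_ifs at h <;> simp [Fin.ext_iff] at h <;> omega
    · intro a b h h'
      show T.a (v (u a)) (v (u b)) ≠ 0
      rw [a_symm T]
      exact hchain _ _ (by rw [hu a (by omega), hu b h']; omega) (by rw [hu a (by omega)]; omega)
    · simp only [Function.comp, u]; rw [if_pos (Nat.zero_le _), if_neg (by omega), if_pos trivial]; exact e21
    · simp only [Function.comp, u]; rw [if_pos (Nat.zero_le _), if_neg (by omega), if_neg (by omega)]; exact e2t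
    · have a1 : u ⟨s - 1, by omega⟩ = q := Fin.ext (by rw [hu ⟨s - 1, by omega⟩ (show s - 1 ≤ s by omega)]; show t - 2 - (s - 1) = q.val; omega)
      have a2 : u ⟨s, by omega⟩ = p := Fin.ext (by rw [hu ⟨s, by omega⟩ (le_refl s)]; show t - 2 - s = p.val; omega)
      simp only [Function.comp, a1, a2]
      exact Ne.symm hne
  have allw : ∀ j : Fin (t + 1), T.w (v j) = T.w (v ⟨t - 2, ic⟩) := by
    intro j
    rcases (show j.val ≤ t - 2 ∨ j.val = t - 1 ∨ j.val = t by omega) with h | h | h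
    · exact const_of_no_change (t + 1) (fun p => T.w (v p)) j ⟨t - 2, ic⟩ h fun p q e _ hq => arm p q e (by simp only at hq; omega)
    · rw [show j = ⟨t - 1, id1⟩ from Fin.ext h]; exact w1
    · rw [show j = ⟨t, id2⟩ from Fin.ext h]; exact w2
  have edge : ∀ j k : Fin (t + 1), j ≠ k → T.a (v j) (v k) ≠ 0 → T.a (v j) (v k) = T.w (v ⟨t - 2, ic⟩) := fun j k h a => by
    rw [edge_eq T (by omega) _ _ (hvi.ne h) (hv _) (hv _) a (by rw [allw, allw k]), allw]
  refine ⟨T.w (v ⟨t - 2, ic⟩), allw,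
    fun j j' h h' => edge j j' (by intro e; rw [e] at h; omega) (hchain j j' h h'),
    fun j j' h h' => edge j j' (by intro e; rw [e] at h; omega) (hbranch j j' h h'),
    fun j k hjk h1 h2 => ?_⟩
  by_cases hk : k.val < t
  · exact chain_zero T t (by omega) (fun i : Fin t => v i.castSucc) (hvi.comp (Fin.castSucc_injective t))
      (fun i => hv _) (fun a b h => hchain _ _ (by simpa using h) (by simpa using b.isLt))
      ⟨j.val, by omega⟩ ⟨k.val, hk⟩ (show j.val + 1 < k.val by omega)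
  obtain rfl : k = ⟨t, id2⟩ := Fin.ext (show k.val = t by omega)
  rcases (show j.val + 2 < t ∨ j.val = t - 1 by change j.val < t at hjk; have h3 : ¬ j.val + 2 = t := fun e => h2 ⟨e, rfl⟩; omega) with hj | hj
  · obtain ⟨s, hs⟩ : ∃ s, s = t - j.val := ⟨_, rfl⟩
    let u : Fin s → Fin (t + 1) := fun i => if i.val + 1 < s then ⟨j.val + i.val, by omega⟩ else ⟨t, id2⟩
    have hul : ∀ i : Fin s, i.val + 1 < s → (u i).val = j.val + i.val := fun i h => by simp only [u]; rw [if_pos h]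
    have := chain_zero T s (by omega) (v ∘ u) (hvi.comp fun a b h => by
        simp only [u] at h
        apply Fin.ext
        split_ifs at h <;> simp [Fin.ext_iff] at h <;> omega) (fun i => hv _) (fun a b h => by
        show T.a (v (u a)) (v (u b)) ≠ 0
        have ha := hul a (by omega)
        by_cases hb : b.val + 1 < s
        · exact hchain _ _ (by rw [hul b hb, ha]; omega) (by rw [hul b hb]; omega)
        · exact hbranch _ _ (by rw [ha]; omega) (by simp only [u]; rw [if_neg hb]))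
      ⟨0, by omega⟩ ⟨s - 1, by omega⟩ (show 0 + 1 < s - 1 by omega)
    have a1 : u ⟨0, by omega⟩ = j := Fin.ext (by rw [hul ⟨0, by omega⟩ (show 0 + 1 < s by omega)]; rfl)
    have a2 : u ⟨s - 1, by omega⟩ = ⟨t, id2⟩ := by simp only [u]; rw [if_neg (by omega)]
    simpa only [Function.comp, a1, a2] using this
  · obtain rfl : j = ⟨t - 1, id1⟩ := Fin.ext hj
    exact chain_zero T 3 (by omega) ![v ⟨t - 1, id1⟩, v ⟨t - 2, ic⟩, v ⟨t, id2⟩]
      (by intro a b; fin_cases a <;> fin_cases b <;> simp [n1, n2, n12, n1.symm, n2.symm, n12.symm])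
      (by intro a; fin_cases a <;> exact hv _)
      (fun a b h => by
        fin_cases a <;> fin_cases b <;> simp at h ⊢ <;> first | exact e2t | (rw [a_symm T]; exact e21))
      0 2 (by decide)

end Groth.Agent.S7355
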