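import Groth.Statements.S7387
import Mathlib

set_option autoImplicit false
universe u
open CategoryTheory AlgebraicGeometry
open Mor

namespace Groth.Agent.S7387

/-- A quasi-compact scheme has a dense open subscheme which is separated. -/
theorem result (X : Scheme.{u}) [CompactSpace X] :
    ∃ V : X.Opens, Dense (V : Set X) ∧ (V : Scheme.{u}).IsSeparated := by
  classical
  obtain ⟨s, hs⟩ : ∃ s : Finset X.affineOpens, (Set.univ : Set X) ⊆ ⋃ U ∈ s, (U.1 : Set X) := by
    refine isCompact_univ.elim_finite_subcover (fun U : X.affineOpens => (U.1 : Set X)) (fun U => U.1.isOpen) ?_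
    intro x _
    obtain ⟨U, hU, hx, -⟩ := X.isBasis_affineOpens.exists_subset_of_mem_open (Set.mem_univ x) isOpen_univ
    obtain ⟨U', hU', rfl⟩ := hU
    exact Set.mem_iUnion.mpr ⟨⟨U', hU'⟩, hx⟩
  let ι := Fin s.card
  let U : ι → X.affineOpens := fun i => (s.equivFin.symm i).1
  let P : ι → Set X := fun i => ⋃ j : {j : ι // j < i}, ((U j.1).1 : Set X)
  let W : ι → X.Opens := fun i => (U i).1 ⊓ ⟨(closure (P i))ᶜ, isClosed_closure.isOpen_compl⟩
  have hdisj : ∀ i j, i < j → ∀ x, x ∈ W i → x ∈ W j → False := fun i j hij x hi hj =>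
    hj.2 (subset_closure (Set.mem_iUnion.mpr ⟨⟨i, hij⟩, hi.1⟩))
  let g : ∀ i : ι, (W i : Scheme.{u}) ⟶ X := fun i => (W i).ι
  have hpair : Pairwise (fun i j => Disjoint (W i : Set X) (W j : Set X)) := by
    intro i j hij
    rw [Set.disjoint_left]
    intro x hi hj
    rcases lt_or_gt_of_ne hij with h | h
    exacts [hdisj i j h x hi hj, hdisj j i h x hj hi]
  have hop : IsOpenImmersion (Limits.Sigma.desc g) := isOpenImmersion_sigmaDesc _ g (fun i j h => by simpa [Function.onFun, g] using hpair h)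
  let g' : ∀ i : ι, (W i : Scheme.{u}) ⟶ ∐ fun i => ((U i).1 : Scheme.{u}) :=
    fun i => X.homOfLE inf_le_left ≫ Limits.Sigma.ι (fun i => ((U i).1 : Scheme.{u})) i
  have hop' : IsOpenImmersion (Limits.Sigma.desc g') := isOpenImmersion_sigmaDesc _ g' (fun i j h => by
    refine Set.disjoint_of_subset ?_ ?_ (TopologicalSpace.Opens.coe_disjoint.mpr (disjoint_opensRange_sigmaι (fun i => ((U i).1 : Scheme.{u})) i j h))
    all_goals rintro _ ⟨x, rfl⟩; exact ⟨(X.homOfLE inf_le_left) x, by simp [g']⟩)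
  have : ∀ i : ι, IsAffine ((U i).1 : Scheme.{u}) := fun i => (U i).2
  have hsep : (∐ fun i => (W i : Scheme.{u})).IsSeparated := by
    refine ⟨?_⟩
    rw [← Limits.terminal.comp_from (Limits.Sigma.desc g')]
    infer_instance
  refine ⟨(Limits.Sigma.desc g).opensRange, ?_, ?_⟩
  · rw [dense_iff_inter_open]
    intro O hO ⟨x, hx⟩
    have hex : ∃ i : ι, ∃ y ∈ O, y ∈ (U i).1 := by
      obtain ⟨V, hV, hxV⟩ := Set.mem_iUnion₂.mp (hs (Set.mem_univ x))
      exact ⟨s.equivFin ⟨V, hV⟩, x, hx, by simpa [U] using hxV⟩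
    obtain ⟨i, ⟨y, hy, hyU⟩, hmin⟩ := WellFounded.has_min (wellFounded_lt (α := ι)) {i | ∃ y ∈ O, y ∈ (U i).1} hex
    refine ⟨y, hy, ?_⟩
    have : y ∉ closure (P i) := by
      intro hc
      obtain ⟨z, hz, hzP⟩ := mem_closure_iff.mp hc O hO hy
      obtain ⟨⟨j, hj⟩, hzj⟩ := Set.mem_iUnion.mp hzP
      exact hmin j ⟨z, hz, hzj⟩ hj
    have hyW : y ∈ W i := ⟨hyU, this⟩
    refine ⟨Limits.Sigma.ι (fun i => (W i : Scheme.{u})) i ⟨y, hyW⟩, ?_⟩
    exact congrArg (fun m : (W i : Scheme.{u}) ⟶ X => m ⟨y, hyW⟩) (Limits.Sigma.ι_desc g i)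
  · let e := (Limits.Sigma.desc g).isoOpensRange
    refine ⟨?_⟩
    rw [← Limits.terminal.comp_from e.inv]
    infer_instance

end Groth.Agent.S7387
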