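import Groth.Statements.S7389
import Mathlib
-- import your own Groth.Agent.* helpers here

set_option autoImplicit false
universe u
open CategoryTheory AlgebraicGeometry
open Mor

namespace Groth.Agent.S7389

/-- Let `X` be a scheme admitting an immersion into an affine scheme. Then any finite set of points of
`X` is contained in an affine open of `X`. -/
theorem result {X Y : Scheme.{u}} [IsAffine Y] (ι : X ⟶ Y)
    [IsImmersion ι] (E : Set X) (hE : E.Finite) :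
    ∃ U : X.Opens, IsAffineOpen U ∧ E ⊆ U := by
  classical
  have hY := isAffineOpen_top Y
  let U := ι.coborderRange
  have hmemU : ∀ e : X, ι e ∈ U := fun e => subset_coborder ⟨e, rfl⟩
  let p : X → Ideal Γ(Y, ⊤) := fun e => (hY.primeIdealOf ⟨ι e, trivial⟩).asIdeal
  have hp : ∀ (e : X) (g : Γ(Y, ⊤)), ι e ∈ Y.basicOpen g ↔ g ∉ p e := by
    intro e g
    have h1 : hY.primeIdealOf ⟨ι e, trivial⟩ ∈ hY.fromSpec ⁻¹ᵁ Y.basicOpen g ↔ ι e ∈ Y.basicOpen g := by
      show hY.fromSpec _ ∈ Y.basicOpen g ↔ _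
      rw [hY.fromSpec_primeIdealOf]
    rw [← h1, hY.fromSpec_preimage_basicOpen]
    exact PrimeSpectrum.mem_basicOpen _ _
  let J : Ideal Γ(Y, ⊤) := Ideal.span {g | Y.basicOpen g ≤ U}
  have hJ : ∀ g ∈ J, Y.basicOpen g ≤ U := by
    intro g hg
    induction hg using Submodule.span_induction with
    | mem a ha => exact ha
    | zero => rw [Scheme.basicOpen_zero]; exact bot_le
    | add a b _ _ ha hb => exact (Scheme.basicOpen_add_le _ a b).trans (sup_le ha hb)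
    | smul r a _ ha => rw [smul_eq_mul, Scheme.basicOpen_mul]; exact inf_le_right.trans ha
  obtain ⟨g, hgJ, hg⟩ : ∃ g ∈ J, ∀ e ∈ E, g ∉ p e := by
    by_contra hc
    push Not at hc
    have hsub : (J : Set Γ(Y, ⊤)) ⊆ ⋃ i ∈ p '' E, ((id i : Ideal Γ(Y, ⊤)) : Set Γ(Y, ⊤)) := by
      intro g hg
      obtain ⟨e, he, hge⟩ := hc g hg
      exact Set.mem_biUnion ⟨e, he, rfl⟩ hge
    obtain ⟨q, ⟨e, -, rfl⟩, hle⟩ := (Ideal.subset_union_prime_finite (hE.image p) (f := id) ⊥ ⊥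
      (by rintro _ ⟨e, -, rfl⟩ _ _; exact (hY.primeIdealOf ⟨ι e, trivial⟩).2)).mp hsub
    obtain ⟨g, hg1, hg2⟩ := hY.exists_basicOpen_le (V := U) ⟨ι e, hmemU e⟩ trivial
    exact (hp e g).mp hg2 (hle (Ideal.subset_span hg1))
  refine ⟨ι ⁻¹ᵁ Y.basicOpen g, ?_, fun e he => (hp e g).mpr (hg e he)⟩
  have haff : IsAffineOpen (U.ι ⁻¹ᵁ Y.basicOpen g) :=
    (hY.basicOpen g).preimage_of_isOpenImmersion U.ι (by rw [Scheme.Opens.opensRange_ι]; exact hJ g hgJ)
  have heq : ι ⁻¹ᵁ Y.basicOpen g = ι.liftCoborder ⁻¹ᵁ (U.ι ⁻¹ᵁ Y.basicOpen g) := by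
    rw [← Scheme.Hom.comp_preimage, Scheme.Hom.liftCoborder_ι]
  rw [heq]
  exact haff.preimage ι.liftCoborder

end Groth.Agent.S7389
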