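import Groth.Statements.S7397
import Mathlib.AlgebraicGeometry.Morphisms.UniversallyClosed
import Mathlib.AlgebraicGeometry.Morphisms.Separated
import Mathlib.AlgebraicGeometry.Morphisms.Immersion
import Mathlib.AlgebraicGeometry.Morphisms.FiniteType
import Mathlib.AlgebraicGeometry.Morphisms.QuasiSeparated
import Mathlib.AlgebraicGeometry.Noetherian
import Mathlib.AlgebraicGeometry.Limits
import Mathlib.AlgebraicGeometry.ValuativeCriterion
import Mathlib.AlgebraicGeometry.PullbackCarrier
import Mathlib.AlgebraicGeometry.FunctionField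
import Mathlib.Topology.Algebra.ClopenNhdofOne
import Mathlib.RingTheory.Ideal.Height
import Mathlib.RingTheory.Ideal.KrullsHeightTheorem

set_option autoImplicit false
universe u
open Mor

namespace Groth.Agent.S7397
open CategoryTheory CategoryTheory.Limits AlgebraicGeometry TopologicalSpace

/-- Let `A ⊆ B` be a ring extension and `b ∈ B`, `b ∉ A`, with `b^n, b^(n+1) ∈ A` for some `n ≥ 2`. Then
some `b' ∈ B` with `b' ∉ A` has `b'^2 ∈ A` and `b'^3 ∈ A`. -/
theorem result {B : Type u} [CommRing B] (A : Subring B) (b : B) (hb : b ∉ A)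
    (n : ℕ) (hn : 2 ≤ n) (h1 : b ^ n ∈ A) (h2 : b ^ (n + 1) ∈ A) :
    ∃ b' : B, b' ∉ A ∧ b' ^ 2 ∈ A ∧ b' ^ 3 ∈ A := by
  classical
  have hbig : ∀ k, n * n ≤ k → b ^ k ∈ A := fun k hk => by
    have hq : n ≤ k / n := (Nat.le_div_iff_mul_le (by omega)).mpr hk
    have hr : k % n < n := Nat.mod_lt _ (by omega)
    have : k = n * (k / n - k % n) + (n + 1) * (k % n) := by
      have h3 := Nat.div_add_mod k n
      rw [Nat.mul_sub, add_mul, one_mul]
      have : n * (k % n) ≤ n * (k / n) := Nat.mul_le_mul_left _ (by omega)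
      omega
    rw [this, pow_add, pow_mul, pow_mul]
    exact A.mul_mem (A.pow_mem h1 _) (A.pow_mem h2 _)
  let m := Nat.findGreatest (fun k => b ^ k ∉ A) (n * n)
  have h1n : 1 ≤ n * n := by nlinarith
  have hm : b ^ m ∉ A := Nat.findGreatest_spec (P := fun k => b ^ k ∉ A) h1n (by simpa using hb)
  have hm1 : 1 ≤ m := Nat.le_findGreatest h1n (by simpa using hb)
  have key : ∀ k, m < k → b ^ k ∈ A := fun k hk => by
    rcases le_or_gt k (n * n) with h | h
    · exact not_not.mp (Nat.findGreatest_is_greatest hk h)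
    · exact hbig k h.le
  exact ⟨b ^ m, hm, by rw [← pow_mul]; exact key _ (by omega), by rw [← pow_mul]; exact key _ (by omega)⟩

end Groth.Agent.S7397
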