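import Groth.Statements.S7404
import Groth.Agent.Misc9.SNAux
-- import your own Groth.Agent.* helpers here

set_option autoImplicit false
universe u
open CategoryTheory AlgebraicGeometry
open Mor

namespace Groth.Agent.S7404

/-- Let `A → B` be a ring map and `B' ⊆ B` an `A`-subalgebra, with `f : Spec B → Spec A` and `f' : Spec
B' → Spec A` the induced morphisms. Each of the following properties passes from `f` to `f'`: being
a universal homeomorphism; being a universal homeomorphism with trivial residue field extensions;
being universally closed; being both universally closed and universally injective. -/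
theorem result {A B : Type u} [CommRing A] [CommRing B] [Algebra A B]
    (B' : Subalgebra A B) :
    (FlatMor.IsUnivHomeo (Spec.map (CommRingCat.ofHom (algebraMap A B))) →
      FlatMor.IsUnivHomeo (Spec.map (CommRingCat.ofHom (algebraMap A B')))) ∧
    ((FlatMor.IsUnivHomeo (Spec.map (CommRingCat.ofHom (algebraMap A B))) ∧
      ∀ x : Spec (CommRingCat.of B),
        Function.Surjective ((Spec.map (CommRingCat.ofHom (algebraMap A B))).residueFieldMap x)) →
      FlatMor.IsUnivHomeo (Spec.map (CommRingCat.ofHom (algebraMap A B'))) ∧
      ∀ x : Spec (CommRingCat.of B'),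
        Function.Surjective ((Spec.map (CommRingCat.ofHom (algebraMap A B'))).residueFieldMap x)) ∧
    (UniversallyClosed (Spec.map (CommRingCat.ofHom (algebraMap A B))) →
      UniversallyClosed (Spec.map (CommRingCat.ofHom (algebraMap A B')))) ∧
    (UniversallyClosed (Spec.map (CommRingCat.ofHom (algebraMap A B))) →
      UniversallyInjective (Spec.map (CommRingCat.ofHom (algebraMap A B))) →
      UniversallyClosed (Spec.map (CommRingCat.ofHom (algebraMap A B'))) ∧
      UniversallyInjective (Spec.map (CommRingCat.ofHom (algebraMap A B')))) := by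
  open Groth.Agent.Misc9 Groth.Agent.UnivHomeo.Basic in
  have hU : FlatMor.IsUnivHomeo (Spec.map (CommRingCat.ofHom (algebraMap A B))) →
      FlatMor.IsUnivHomeo (Spec.map (CommRingCat.ofHom (algebraMap A B'))) := fun h ↦ by
    obtain ⟨h1, h2, h3⟩ := (isUnivHomeo_spec_iff _).mp h
    exact (isUnivHomeo_spec_iff _).mpr ⟨SNAux.isIntegral_subalgebra B' h1,
      SNAux.comap_surjective_subalgebra B' h2, SNAux.injPoints_subalgebra B' h1 h3⟩
  refine ⟨hU, fun ⟨h, hr⟩ ↦ ⟨hU h, (Seminormal.resTriv_iff_surjective _).mpr (SNAux.resTriv_subalgebra B'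
      ((isUnivHomeo_spec_iff _).mp h).1 ((Seminormal.resTriv_iff_surjective _).mp hr))⟩,
    fun h ↦ (SNAux.spec_universallyClosed_iff _).mpr
      (SNAux.isIntegral_subalgebra B' ((SNAux.spec_universallyClosed_iff _).mp h)),
    fun h hi ↦ ⟨(SNAux.spec_universallyClosed_iff _).mpr
      (SNAux.isIntegral_subalgebra B' ((SNAux.spec_universallyClosed_iff _).mp h)),
      (universallyInjective_spec_iff _).mpr (SNAux.injPoints_subalgebra B'
        ((SNAux.spec_universallyClosed_iff _).mp h) ((universallyInjective_spec_iff _).mp hi))⟩⟩

end Groth.Agent.S7404
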