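import Groth.Statements.S7434
import Groth.Agent.Misc9.BddFibPoints
-- import your own Groth.Agent.* helpers here

set_option autoImplicit false
universe u
open CategoryTheory AlgebraicGeometry
open BddFib

namespace Groth.Agent.S7434

/-- When every fibre of `f : X → Y` has degree at most `n`, then for every field `k` and `Spec k → Y`
the scheme `X_k = Spec k ×_Y X` has at most `n` points. (The published statement also bounds the sum
of the residue degrees `[κ(x_i) : k]` by `n`; that sharper bound is a separate row, and this row
states only the count of points.) -/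
theorem result {X Y : Scheme.{u}} (f : X ⟶ Y) (n : ℕ) (hf : BddFib.FibreDegLE f n)
    (k : Type u) [Field k] (g : Spec (CommRingCat.of k) ⟶ Y) :
    Finite ↥(Limits.pullback f g) ∧ Nat.card ↥(Limits.pullback f g) ≤ n := by
  obtain ⟨h1, h2, h3⟩ := Groth.Agent.Misc9.BddFibPoints.sum_residueDegree_le _
    (Groth.Agent.Misc9.BddFibEngine.of_fibreDegLE hf (IsPullback.of_hasPullback f g))
  refine ⟨h1, ?_⟩
  have : Fintype ↥(Limits.pullback f g) := Fintype.ofFinite _
  rw [Nat.card_eq_fintype_card]
  calc Fintype.card ↥(Limits.pullback f g) = ∑ x : ↥(Limits.pullback f g), 1 := by simp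
    _ ≤ ∑ x : ↥(Limits.pullback f g), (Limits.pullback.snd f g).residueDegree x :=
      Finset.sum_le_sum fun x _ ↦ h3 x
    _ ≤ n := by rw [← finsum_eq_sum_of_fintype]; exact h2

end Groth.Agent.S7434
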