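import Groth.Statements.S7435
import Groth.Agent.Misc9.BddFibEngine
import Mathlib.AlgebraicGeometry.Morphisms.Immersion
-- import your own Groth.Agent.* helpers here

set_option autoImplicit false
set_option backward.isDefEq.respectTransparency.types false
universe u
open CategoryTheory AlgebraicGeometry
open BddFib

namespace Groth.Agent.S7435

/-- If `f` is finite locally free of degree `d`, then `d` bounds the degrees of the fibres of `f`. -/
theorem result {X Y : Scheme.{u}} (f : X ⟶ Y) (d : ℕ) (hf : Mor2.IsFinLocFreeOfDeg d f) :
    BddFib.FibreDegLE f d := by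
  obtain ⟨⟨hfin, hflat, _⟩, hd⟩ := hf
  intro y
  refine (Groth.Agent.Misc9.BddFibEngine.finiteOfDegLE_iff (k := ↥(Y.residueField y))
    (f.fiberToSpecResidueField y) d).mpr ⟨MorphismProperty.pullback_snd _ _ hfin, fun t ↦ ?_⟩
  exact ((Scheme.Hom.finrank_pullback_snd f (Y.fromSpecResidueField y) t).trans (hd _)).le

end Groth.Agent.S7435
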