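import Groth.Statements.S7436
import Groth.Agent.Misc9.BddFibComp
-- import your own Groth.Agent.* helpers here

set_option autoImplicit false
set_option backward.isDefEq.respectTransparency.types false
universe u
open CategoryTheory AlgebraicGeometry
open BddFib

namespace Groth.Agent.S7436

/-- When every fibre of `f : X → Y` has degree at most `n` and every fibre of `g : Y → Z` has degree at
most `m`, every fibre of `g ∘ f` has degree at most `n m`. -/
theorem result {X Y Z : Scheme.{u}} (f : X ⟶ Y) (g : Y ⟶ Z) (n m : ℕ) (hf : BddFib.FibreDegLE f n)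
    (hg : BddFib.FibreDegLE g m) : BddFib.FibreDegLE (f ≫ g) (n * m) := by
  intro z
  have hq : BddFib.FibreDegLE (Limits.pullback.snd f (g.fiberι z)) n := by
    rw [Groth.Agent.Misc9.BddFibEngine.fibreDegLE_iff]
    intro k _ gk
    exact Groth.Agent.Misc9.BddFibEngine.of_fibreDegLE hf
      ((IsPullback.of_hasPullback _ gk).paste_horiz (IsPullback.of_hasPullback f (g.fiberι z)))
  have hW := (IsPullback.of_hasPullback f (g.fiberι z)).paste_vert
    (IsPullback.of_hasPullback g (Z.fromSpecResidueField z))
  have hd := Groth.Agent.Misc9.BddFibComp.finiteOfDegLE_comp (K := ↥(Z.residueField z))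
    (Limits.pullback.snd f (g.fiberι z)) (g.fiberToSpecResidueField z) n m hq (hg z)
  exact Groth.Agent.Misc9.BddFibEngine.finiteOfDegLE_of_isPullback
    (k := ↥(Z.residueField z)) (l := ↥(Z.residueField z))
    (q := hW.isoPullback.inv) (i := 𝟙 _)
    (IsPullback.of_horiz_isIso ⟨by
      simp [Scheme.Hom.fiberToSpecResidueField]⟩) (n * m) hd

end Groth.Agent.S7436
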