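import Groth.Statements.S7439
import Groth.Agent.Misc9.BddFibEngine
import Mathlib.AlgebraicGeometry.Morphisms.Immersion
-- import your own Groth.Agent.* helpers here

set_option autoImplicit false
set_option backward.isDefEq.respectTransparency.types false
universe u
open CategoryTheory AlgebraicGeometry
open BddFib

namespace Groth.Agent.S7439

/-- Every immersion has universally bounded fibres, with `1` as a bound for the degrees of its fibres. -/
theorem result {X Y : Scheme.{u}} (f : X ⟶ Y) [IsImmersion f] :
    BddFib.FibreDegLE f 1 := by
  rw [Groth.Agent.Misc9.BddFibEngine.fibreDegLE_iff]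
  intro k _ g
  set p := Limits.pullback.snd f g with hp
  have : IsImmersion p := MorphismProperty.pullback_snd _ _ ‹_›
  have hc : IsClosed (Set.range p) := by
    have : Subsingleton ↥(Spec (CommRingCat.of k)) := inferInstanceAs (Subsingleton (PrimeSpectrum k))
    rcases Set.eq_empty_or_nonempty (Set.range p) with he | he
    · rw [he]; exact isClosed_empty
    · rw [Subsingleton.eq_univ_of_nonempty he]; exact isClosed_univ
  have : IsClosedImmersion p := IsClosedImmersion.of_isPreimmersion p hc
  have hT : IsAffine (Limits.pullback f g) := isAffine_of_isAffineHom p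
  letI : Algebra k Γ(Limits.pullback f g, ⊤) := BddFib.secAlgebra (CommRingCat.of k) p
  have hs : Function.Surjective p.appTop.hom :=
    (HasAffineProperty.iff_of_isAffine (P := @IsClosedImmersion)).mp ‹_› |>.2
  have hsurj : Function.Surjective (Algebra.linearMap k Γ(Limits.pullback f g, ⊤)) :=
    hs.comp (ConcreteCategory.bijective_of_isIso (Scheme.ΓSpecIso (CommRingCat.of k)).inv).surjective
  refine ⟨hT, Module.Finite.of_surjective _ hsurj, ?_⟩
  calc Module.finrank k Γ(Limits.pullback f g, ⊤)
      = Module.finrank k (LinearMap.range (Algebra.linearMap k Γ(Limits.pullback f g, ⊤))) := by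
        rw [LinearMap.range_eq_top.mpr hsurj, finrank_top]
    _ ≤ Module.finrank k k := LinearMap.finrank_range_le _
    _ = 1 := Module.finrank_self k

end Groth.Agent.S7439
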