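import Groth.Statements.S7440
import Groth.Agent.Misc9.BddFibEngine
import Mathlib.AlgebraicGeometry.Morphisms.Etale
import Mathlib.RingTheory.Unramified.Field
import Mathlib.FieldTheory.IsAlgClosed.AlgebraicClosure
-- import your own Groth.Agent.* helpers here

set_option autoImplicit false
set_option backward.isDefEq.respectTransparency.types false
universe u
open CategoryTheory AlgebraicGeometry
open BddFib

namespace Groth.Agent.S7440

/-- Let `f : X → Y` be étale and `n ≥ 0`. If for every field `k` and every `Spec k → Y` the base change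
`X_k = Spec k ×_Y X` has finitely many, and at most `n`, points, then `n` bounds the degrees of the
fibres of `f`. (The converse implication holds for every morphism of schemes, étale or not, and is
not restated here.) -/
theorem result {X Y : Scheme.{u}} (f : X ⟶ Y) [Etale f] (n : ℕ)
    (h : ∀ (k : Type u) [Field k] (g : Spec (CommRingCat.of k) ⟶ Y),
      Finite ↥(Limits.pullback f g) ∧ Nat.card ↥(Limits.pullback f g) ≤ n) :
    BddFib.FibreDegLE f n := by
  intro y
  let K := ↥(Y.residueField y)
  let k := AlgebraicClosure K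
  let i : Spec (CommRingCat.of k) ⟶ Spec (Y.residueField y) :=
    Spec.map (CommRingCat.ofHom (algebraMap K k))
  let S := Limits.pullback (f.fiberToSpecResidueField y) i
  let p : S ⟶ Spec (CommRingCat.of k) := Limits.pullback.snd _ _
  have hpb := (IsPullback.of_hasPullback (f.fiberToSpecResidueField y) i)
  obtain ⟨hfin, hcard⟩ := h k (i ≫ Y.fromSpecResidueField y)
  have e : S ≅ Limits.pullback f (i ≫ Y.fromSpecResidueField y) :=
    (hpb.paste_horiz (IsPullback.of_hasPullback f (Y.fromSpecResidueField y))).isoPullback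
  have hSfin : Finite S := Finite.of_equiv _ e.hom.homeomorph.toEquiv.symm
  have hScard : Nat.card S ≤ n := (Nat.card_congr e.hom.homeomorph.toEquiv).trans_le hcard
  have hfet : Etale (f.fiberToSpecResidueField y) := MorphismProperty.pullback_snd _ _ ‹_›
  have hpet : Etale p := MorphismProperty.pullback_snd _ _ hfet
  have : LocallyQuasiFinite p :=
    LocallyQuasiFinite.of_finite_preimage_singleton p fun x ↦ Set.toFinite _
  have : QuasiCompact p := by
    rw [quasiCompact_iff_compactSpace]; exact Finite.compactSpace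
  have hpf : IsFinite p := IsFinite.of_locallyQuasiFinite p
  have hS : IsAffine S := isAffine_of_isAffineHom p
  letI : Algebra k Γ(S, ⊤) := BddFib.secAlgebra (CommRingCat.of k) p
  have hφfin := Groth.Agent.Misc9.BddFibEngine.finite_of_appTop p p.finite_appTop
  haveI : Module.Finite k Γ(S, ⊤) := hφfin
  have het : RingHom.Etale p.appTop.hom :=
    (HasRingHomProperty.iff_of_isAffine (P := @Etale)).mp hpet
  have het' : RingHom.Etale (algebraMap k Γ(S, ⊤)) := by
    have := RingHom.Etale.respectsIso.2 p.appTop.hom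
      (Scheme.ΓSpecIso (CommRingCat.of k)).symm.commRingCatIsoToRingEquiv het
    exact this
  have := RingHom.etale_algebraMap.mp het'
  have hred : IsReduced Γ(S, ⊤) := Algebra.FormallyUnramified.isReduced_of_field k Γ(S, ⊤)
  have hart : IsArtinianRing Γ(S, ⊤) := IsArtinianRing.of_finite k Γ(S, ⊤)
  have hrk : Module.finrank k Γ(S, ⊤) ≤ Nat.card (MaximalSpectrum Γ(S, ⊤)) := by
    have : Fintype (MaximalSpectrum Γ(S, ⊤)) := Fintype.ofFinite _
    let L : Γ(S, ⊤) →ₗ[k] ((m : MaximalSpectrum Γ(S, ⊤)) → Γ(S, ⊤) ⧸ m.asIdeal) :=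
      LinearMap.pi fun m ↦ (Ideal.Quotient.mkₐ k m.asIdeal).toLinearMap
    have hL : Function.Injective L := by
      rw [← LinearMap.ker_eq_bot, LinearMap.ker_eq_bot']
      intro a ha
      refine IsNilpotent.eq_zero (R := Γ(S, ⊤)) (nilpotent_iff_mem_prime.mpr fun J hJ ↦ ?_)
      have hJm : J.IsMaximal := IsArtinianRing.isMaximal_of_isPrime J
      exact Ideal.Quotient.eq_zero_iff_mem.mp (congrFun ha ⟨J, hJm⟩)
    have h1 : ∀ m : MaximalSpectrum Γ(S, ⊤), Module.finrank k (Γ(S, ⊤) ⧸ m.asIdeal) = 1 := by
      intro m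
      have := m.isMaximal
      have hb := IsAlgClosed.algebraMap_bijective_of_isIntegral
        (k := k) (K := Γ(S, ⊤) ⧸ m.asIdeal)
      rw [← (LinearEquiv.ofBijective (Algebra.linearMap k _) hb).finrank_eq, Module.finrank_self]
    calc Module.finrank k Γ(S, ⊤)
        ≤ Module.finrank k ((m : MaximalSpectrum Γ(S, ⊤)) → Γ(S, ⊤) ⧸ m.asIdeal) :=
          LinearMap.finrank_le_finrank_of_injective hL
      _ = _ := by rw [Module.finrank_pi_fintype]; simp [h1, Nat.card_eq_fintype_card]
  refine Groth.Agent.Misc9.BddFibEngine.finiteOfDegLE_of_isPullback_descent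
    (k := K) (l := k) hpb n ⟨hS, inferInstance, hrk.trans (le_trans ?_ hScard)⟩
  have eS : S ≃ PrimeSpectrum Γ(S, ⊤) := S.isoSpec.hom.homeomorph.toEquiv
  have : Finite (PrimeSpectrum Γ(S, ⊤)) := Finite.of_equiv _ eS
  rw [Nat.card_congr eS]
  exact Nat.card_le_card_of_injective (fun m ↦ ⟨m.asIdeal, m.isMaximal.isPrime⟩)
    (fun a b hab ↦ MaximalSpectrum.ext (congrArg PrimeSpectrum.asIdeal hab))

end Groth.Agent.S7440
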