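import Groth.Statements.S7441
import Groth.Agent.Misc9.BddFibLQF
import Groth.Agent.S7436
import Groth.Agent.S7439
-- import your own Groth.Agent.* helpers here

set_option autoImplicit false
set_option backward.isDefEq.respectTransparency.types false
universe u
open CategoryTheory AlgebraicGeometry
open BddFib

namespace Groth.Agent.S7441

/-- Let `f : X → Y` be locally quasi-finite (locally of finite type with discrete fibres) with `X`
quasi-compact. Then the fibres of `f` are universally bounded. -/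
theorem result {X Y : Scheme.{u}} (f : X ⟶ Y) [LocallyQuasiFinite f]
    [LocallyOfFiniteType f] [CompactSpace X] : BddFib.UnivBounded f := by
  have hx : ∀ x : X, ∃ (V : Y.Opens) (U : X.Opens), IsAffineOpen V ∧ IsAffineOpen U ∧
      x ∈ U ∧ U ≤ f ⁻¹ᵁ V := by
    intro x
    obtain ⟨V, hV, hfx, -⟩ := exists_isAffineOpen_mem_and_subset (TopologicalSpace.Opens.mem_top (f x))
    obtain ⟨U, hU, hxU, hUV⟩ := exists_isAffineOpen_mem_and_subset (show x ∈ f ⁻¹ᵁ V from hfx)
    exact ⟨V, U, hV, hU, hxU, hUV⟩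
  choose V U hV hU hxU hUV using hx
  obtain ⟨t, ht⟩ := isCompact_univ.elim_finite_subcover (fun x : X ↦ (U x : Set X))
    (fun x ↦ (U x).2) (fun x _ ↦ Set.mem_iUnion.mpr ⟨x, hxU x⟩)
  have hN : ∀ x : t, ∃ N, BddFib.FibreDegLE ((hU x).fromSpec ≫ f) N := by
    intro x
    obtain ⟨N, hN⟩ := Groth.Agent.Misc9.BddFibLQF.exists_fibreDegLE_SpecMap
      (f.appLE (V x) (U x) (hUV x))
      (HasRingHomProperty.appLE (P := @LocallyOfFiniteType) f inferInstance ⟨_, hV x⟩ ⟨_, hU x⟩ (hUV x))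
      (HasRingHomProperty.appLE (P := @LocallyQuasiFinite) f inferInstance ⟨_, hV x⟩ ⟨_, hU x⟩ (hUV x))
    refine ⟨N * 1, ?_⟩
    rw [← IsAffineOpen.SpecMap_appLE_fromSpec f (hV x) (hU x) (hUV x)]
    exact Groth.Agent.S7436.result _ _ N 1 hN (Groth.Agent.S7439.result _)
  choose N hN using hN
  refine ⟨∑ x : t, N x, fun y ↦ ?_⟩
  refine Groth.Agent.Misc9.BddFibLQF.finiteOfDegLE_of_cover (k := ↥(Y.residueField y))
    (f.fiberToSpecResidueField y) (ι := ↥t)
    (fun x ↦ Limits.pullback (f.fiberι y) (hU x).fromSpec)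
    (fun x ↦ Limits.pullback.fst _ _) (fun w ↦ ?_) N (fun x ↦ ?_)
  · obtain ⟨x, hxt, hwx⟩ := Set.mem_iUnion₂.mp (ht (Set.mem_univ (f.fiberι y w)))
    refine ⟨⟨x, hxt⟩, ?_⟩
    rw [Scheme.Pullback.range_fst, Set.mem_preimage, IsAffineOpen.range_fromSpec]
    exact hwx
  · exact Groth.Agent.Misc9.BddFibEngine.of_fibreDegLE (k := ↥(Y.residueField y)) (hN x)
      ((IsPullback.of_hasPullback (f.fiberι y) (hU x).fromSpec).flip.paste_vert
        (IsPullback.of_hasPullback f (Y.fromSpecResidueField y)))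

end Groth.Agent.S7441
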