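import Groth.Statements.S7442
import Groth.Agent.Misc9.BddFibEngine
import Mathlib.AlgebraicGeometry.Morphisms.UniversallyOpen
import Mathlib.RingTheory.RingHom.FaithfullyFlat
import Mathlib.Topology.Separation.Basic
-- import your own Groth.Agent.* helpers here

set_option autoImplicit false
set_option backward.isDefEq.respectTransparency.types false
universe u
open CategoryTheory AlgebraicGeometry
open BddFib

namespace Groth.Agent.S7442

/-- Let `f : X → Y` and `h : Y → Z` with `g = h ∘ f`. If `f` is flat and surjective and `n` bounds the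
degrees of the fibres of `g`, then `n` bounds the degrees of the fibres of `h`. -/
theorem result {X Y Z : Scheme.{u}} (f : X ⟶ Y) (h : Y ⟶ Z) [Flat f] [Surjective f]
    (n : ℕ) (hg : BddFib.FibreDegLE (f ≫ h) n) : BddFib.FibreDegLE h n := by
  intro z
  set p := h.fiberToSpecResidueField z with hp
  set q := Limits.pullback.snd f (h.fiberι z) with hq
  have hW := (IsPullback.of_hasPullback f (h.fiberι z)).paste_vert
    (IsPullback.of_hasPullback h (Z.fromSpecResidueField z))
  have hd : BddFib.FiniteOfDegLE (Z.residueField z) (q ≫ p) n :=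
    Groth.Agent.Misc9.BddFibEngine.of_fibreDegLE (k := ↥(Z.residueField z)) hg hW
  obtain ⟨hfin, hdisc, -⟩ :=
    Groth.Agent.Misc9.BddFibEngine.finite_discrete (k := ↥(Z.residueField z)) hd
  obtain ⟨hWaff, hmod, hrank⟩ := hd
  have hqf : Flat q := MorphismProperty.pullback_snd _ _ ‹_›
  have hqs : Surjective q := MorphismProperty.pullback_snd _ _ ‹_›
  have hYf : Finite ↥(h.fiber z) := Finite.of_surjective _ hqs.surj
  have hT1 : T1Space ↥(h.fiber z) := by
    refine ⟨fun y ↦ isClosed_of_closure_subset fun y' hy' ↦ ?_⟩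
    obtain ⟨x, rfl⟩ := hqs.surj y'
    obtain ⟨x', hx', rfl⟩ := Flat.generalizingMap q (specializes_iff_mem_closure.mpr hy')
    rw [hx'.eq]
    rfl
  have hYaff : IsAffine (h.fiber z) := inferInstance
  letI : Algebra (Z.residueField z) Γ(h.fiber z, ⊤) := BddFib.secAlgebra _ p
  letI : Algebra (Z.residueField z) Γ(Limits.pullback f (h.fiberι z), ⊤) :=
    BddFib.secAlgebra _ (q ≫ p)
  have hinj : Function.Injective q.appTop.hom := by
    refine RingHom.FaithfullyFlat.injective ((flat_and_surjective_SpecMap_iff _).mp ?_)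
    have e := (Scheme.isoSpec_inv_naturality q)
    have h1 : (@Flat ⊓ @Surjective : MorphismProperty Scheme) (Spec.map q.appTop) :=
      (MorphismProperty.arrow_mk_iso_iff (@Flat ⊓ @Surjective : MorphismProperty Scheme)
        (arrowIsoSpecΓOfIsAffine q)).mp ⟨hqf, hqs⟩
    exact h1
  let L : Γ(h.fiber z, ⊤) →ₗ[Z.residueField z] Γ(Limits.pullback f (h.fiberι z), ⊤) :=
    { toFun := q.appTop.hom
      map_add' := map_add _
      map_smul' := fun c a ↦ by
        simp only [Algebra.smul_def, map_mul, RingHom.id_apply]
        congr 1 }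
  exact ⟨hYaff, Module.Finite.of_injective L hinj,
    (LinearMap.finrank_le_finrank_of_injective (f := L) hinj).trans hrank⟩

end Groth.Agent.S7442
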