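import Groth.Statements.S7443
import Groth.Agent.Misc9.UHColim
-- import your own Groth.Agent.* helpers here

set_option autoImplicit false
universe u
open CategoryTheory AlgebraicGeometry
open Mor

namespace Groth.Agent.S7443

/-- Let `φ : A → B` be a ring map with `Spec B → Spec A` a universal homeomorphism. Then `B`, as an
`A`-algebra, is the colimit of a filtered diagram of finitely presented `A`-algebras `B_i`, and
every `Spec B_i → Spec A` is again a universal homeomorphism. (The colimit is taken in the category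
of rings under `A`, over a small filtered index category.) -/
theorem result {A B : Type u} [CommRing A] [CommRing B] (φ : A →+* B)
    (hφ : FlatMor.IsUnivHomeo (Spec.map (CommRingCat.ofHom φ))) :
    ∃ (J : Type u) (_ : SmallCategory J) (_ : IsFiltered J) (F : J ⥤ Under (CommRingCat.of A))
      (c : Limits.Cocone F) (_ : Limits.IsColimit c),
      (∀ j, (F.obj j).hom.hom.FinitePresentation ∧ FlatMor.IsUnivHomeo (Spec.map (F.obj j).hom)) ∧
      Nonempty (c.pt ≅ Under.mk (CommRingCat.ofHom φ)) := by
  open Groth.Agent.Misc9 in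
  letI := φ.toAlgebra
  have hφ' : FlatMor.IsUnivHomeo (Spec.map (CommRingCat.ofHom (algebraMap A B))) := hφ
  obtain ⟨K, iK, hK, F, c, hc, hobj, he⟩ := UHColim.colim (A := A) (B := B)
    (fun E J ↦ Seminormal.towerAlg (step := Seminormal.StepSCP (A := A) (B := MvPolynomial E A ⧸ J))
      (fun _ _ _ h hle ↦ h.mono hle) = ⊤)
    (UHColim.cofinal (fun C _ _ ↦ Seminormal.StepSCP) (fun C _ _ _ _ _ h hle ↦ h.mono hle)
      (fun C _ _ ↦ Seminormal.finitary_SCP) UHColim.lift_SCP (Seminormal.towers_of_univHomeo hφ'))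
  refine ⟨K, iK, hK, F, c, hc, fun j ↦ ?_, he⟩
  obtain ⟨E, J, hJ, hJk, hQ, e⟩ := hobj j
  rw [e]
  have hs : Function.Surjective (PrimeSpectrum.comap (algebraMap A B)) :=
    ((Groth.Agent.UnivHomeo.Basic.isUnivHomeo_spec_iff _).mp hφ').2.1
  refine ⟨?_, Seminormal.univHomeo_of_towers' (UHColim.comap_surjective hs hJk) fun b ↦
    (hQ ▸ Algebra.mem_top : b ∈ Seminormal.towerAlg (step := Seminormal.StepSCP (A := A)
      (B := MvPolynomial E A ⧸ J)) (fun _ _ _ h hle ↦ h.mono hle))⟩
  exact RingHom.finitePresentation_algebraMap.mpr (Algebra.FinitePresentation.quotient hJ)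

end Groth.Agent.S7443
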