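import Groth.Statements.S7444
import Groth.Agent.Misc9.UHColim
-- import your own Groth.Agent.* helpers here

set_option autoImplicit false
universe u
open CategoryTheory AlgebraicGeometry
open Mor

namespace Groth.Agent.S7444

/-- Let `φ : A → B` be a ring map such that `Spec B → Spec A` is a universal homeomorphism and all
residue field extensions are trivial (every residue field map is surjective). Then `B`, as an
`A`-algebra, is the colimit of a filtered diagram of finitely presented `A`-algebras `B_i`, each of
which has the same two properties over `A`. (The colimit is taken in the category of rings under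
`A`, over a small filtered index category.) -/
theorem result {A B : Type u} [CommRing A] [CommRing B]
    (φ : A →+* B) (hφ : FlatMor.IsUnivHomeo (Spec.map (CommRingCat.ofHom φ)))
    (hres : ∀ x : Spec (CommRingCat.of B), Function.Surjective ((Spec.map (CommRingCat.ofHom φ)).residueFieldMap x)) :
    ∃ (J : Type u) (_ : SmallCategory J) (_ : IsFiltered J) (F : J ⥤ Under (CommRingCat.of A))
      (c : Limits.Cocone F) (_ : Limits.IsColimit c),
      (∀ j, (F.obj j).hom.hom.FinitePresentation ∧ FlatMor.IsUnivHomeo (Spec.map (F.obj j).hom) ∧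
        ∀ x : Spec (F.obj j).right, Function.Surjective ((Spec.map (F.obj j).hom).residueFieldMap x)) ∧
      Nonempty (c.pt ≅ Under.mk (CommRingCat.ofHom φ)) := by
  open Groth.Agent.Misc9 in
  letI := φ.toAlgebra
  have hφ' : FlatMor.IsUnivHomeo (Spec.map (CommRingCat.ofHom (algebraMap A B))) := hφ
  obtain ⟨K, iK, hK, F, c, hc, hobj, he⟩ := UHColim.colim (A := A) (B := B)
    (fun E J ↦ Seminormal.towerAlg (step := Seminormal.StepSC (A := A) (B := MvPolynomial E A ⧸ J))
      (fun _ _ _ h hle ↦ h.mono hle) = ⊤)
    (UHColim.cofinal (fun C _ _ ↦ Seminormal.StepSC) (fun C _ _ _ _ _ h hle ↦ h.mono hle)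
      (fun C _ _ ↦ Seminormal.finitary_SC) UHColim.lift_SC
      (Seminormal.towers_of_univHomeo_resTriv hφ' ((Seminormal.resTriv_iff_surjective φ).mp hres)))
  refine ⟨K, iK, hK, F, c, hc, fun j ↦ ?_, he⟩
  obtain ⟨E, J, hJ, hJk, hQ, e⟩ := hobj j
  rw [e]
  have hs : Function.Surjective (PrimeSpectrum.comap (algebraMap A B)) :=
    ((Groth.Agent.UnivHomeo.Basic.isUnivHomeo_spec_iff _).mp hφ').2.1
  have hb : ∀ b : MvPolynomial E A ⧸ J, ∃ l : List _, Seminormal.Tower (Seminormal.StepSC (A := A)) l ∧
      b ∈ Algebra.adjoin A {x | x ∈ l} := fun b ↦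
    (hQ ▸ Algebra.mem_top : b ∈ Seminormal.towerAlg (step := Seminormal.StepSC (A := A)
      (B := MvPolynomial E A ⧸ J)) (fun _ _ _ h hle ↦ h.mono hle))
  refine ⟨?_, Seminormal.univHomeo_of_towers' (UHColim.comap_surjective hs hJk) fun b ↦
    (hb b).imp fun l hl ↦ ⟨fun i ↦ Or.inl (hl.1 i), hl.2⟩,
    (Seminormal.resTriv_iff_surjective _).mpr (Seminormal.resTriv_of_towers hb)⟩
  exact RingHom.finitePresentation_algebraMap.mpr (Algebra.FinitePresentation.quotient hJ)

end Groth.Agent.S7444
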