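import Groth.Statements.S7456
import Groth.Agent.Coeq6.Invariant

set_option autoImplicit false
universe u
open CategoryTheory CategoryTheory.Limits AlgebraicGeometry
open Grpd

namespace Groth.Agent.S7456

/-- Let (U, R, s, t, c) be a groupoid scheme over S. For every subset W of U, the subset t(s^{-1}(W)) is
set-theoretically R-invariant: its preimages under s and t coincide. If moreover s and t are open
maps and quasi-compact, then U is covered by R-invariant quasi-compact open subsets. (The published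
statement also asserts that this set is open when W is open and s, t are open maps; this row omits
that clause.) (A groupoid scheme carries U, R, s, t, c, e, i over S with the groupoid axioms on
T-points; c is defined on the fibre product of s and t and sends a pair (a, b) with s(a) = t(b) to a
composed with b.) -/
theorem result (S : Scheme.{u}) (G : Grpd.GroupoidScheme S) : (∀ W : Set G.U, ⇑G.s ⁻¹' (⇑G.t '' (⇑G.s ⁻¹' W)) = ⇑G.t ⁻¹' (⇑G.t '' (⇑G.s ⁻¹' W))) ∧ (IsOpenMap ⇑G.s → IsOpenMap ⇑G.t → QuasiCompact G.s → QuasiCompact G.t → ∀ u : G.U, ∃ W : G.U.Opens, IsCompact (W : Set G.U) ∧ u ∈ W ∧ G.s ⁻¹ᵁ W = G.t ⁻¹ᵁ W) := by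
  refine ⟨fun W => ?_, fun hso hto hsq htq u => ?_⟩
  · ext r
    constructor
    all_goals
      rintro ⟨q, hq, hqr⟩
      have h0 : Coeq6.Invariant.Rel G (G.t q) (G.s q) := ⟨q, rfl, rfl⟩
      have h1 : Coeq6.Invariant.Rel G (G.t r) (G.s r) := ⟨r, rfl, rfl⟩
    · rw [hqr] at h0
      obtain ⟨p, hp₁, hp₂⟩ := Coeq6.Invariant.rel_trans h1 h0
      exact ⟨p, by simpa [Set.mem_preimage, hp₂] using hq, hp₁⟩
    · rw [hqr] at h0
      obtain ⟨p, hp₁, hp₂⟩ := Coeq6.Invariant.rel_trans (Coeq6.Invariant.rel_symm h1) h0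
      exact ⟨p, by simpa [Set.mem_preimage, hp₂] using hq, hp₁⟩
  · obtain ⟨_, ⟨A, hA, rfl⟩, huA, -⟩ := G.U.isBasis_affineOpens.exists_subset_of_mem_open (Set.mem_univ u) isOpen_univ
    let A' : G.U.Opens := A
    have hc : IsCompact (⇑G.t '' (⇑G.s ⁻¹' (A' : Set G.U))) :=
      (hsq.isCompact_preimage _ A'.2 hA.isCompact).image G.t.continuous
    refine ⟨⟨⇑G.t '' (⇑G.s ⁻¹' (A' : Set G.U)), hto _ (A'.2.preimage G.s.continuous)⟩, hc, ?_, ?_⟩
    · refine ⟨G.e u, ?_, congrArg (fun f => f u) G.e_t⟩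
      show G.s (G.e u) ∈ (A' : Set G.U)
      have h := congrArg (fun f => f u) G.e_s
      exact (show G.s (G.e u) = u from h).symm ▸ huA
    · apply TopologicalSpace.Opens.ext
      ext r
      constructor
      all_goals
        rintro ⟨q, hq, hqr⟩
        have h0 : Coeq6.Invariant.Rel G (G.t q) (G.s q) := ⟨q, rfl, rfl⟩
        have h1 : Coeq6.Invariant.Rel G (G.t r) (G.s r) := ⟨r, rfl, rfl⟩
      · rw [hqr] at h0
        obtain ⟨p, hp₁, hp₂⟩ := Coeq6.Invariant.rel_trans h1 h0
        exact ⟨p, by simpa [Set.mem_preimage, hp₂] using hq, hp₁⟩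
      · rw [hqr] at h0
        obtain ⟨p, hp₁, hp₂⟩ := Coeq6.Invariant.rel_trans (Coeq6.Invariant.rel_symm h1) h0
        exact ⟨p, by simpa [Set.mem_preimage, hp₂] using hq, hp₁⟩

end Groth.Agent.S7456
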