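import Groth.Statements.S7464
import Groth.Agent.Coeq6.Invariant
import Mathlib.AlgebraicGeometry.Morphisms.QuasiFinite

set_option autoImplicit false
universe u
open CategoryTheory CategoryTheory.Limits AlgebraicGeometry
open Grpd

namespace Groth.Agent.S7464

/-- Let (U, R, s, t, c) be a groupoid scheme over S with s and t finite, and let u, u' be distinct
points of U in the same orbit, say u = s(r) and u' = t(r). Then u' does not lie in the closure of u.
(The published statement calls u, u' points of R; this row takes them to be points of U, as the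
orbit condition and the proof require.) (A groupoid scheme carries U, R, s, t, c, e, i over S with
the groupoid axioms on T-points; c is defined on the fibre product of s and t and sends a pair (a,
b) with s(a) = t(b) to a composed with b.) -/
theorem result (S : Scheme.{u}) (G : Grpd.GroupoidScheme S) [IsFinite G.s] [IsFinite G.t] (r : G.R) (hne : G.s r ≠ G.t r) : ¬ (G.s r ⤳ G.t r) := by
  intro hsp
  classical
  let O : Set G.U := ⇑G.t '' (⇑G.s ⁻¹' {G.t r})
  have hO : O.Finite := (G.s.finite_preimage_singleton _).image _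
  have hmem : ∀ x, Coeq6.Invariant.Rel G x (G.t r) → x ∈ O := fun x ⟨p, hp₁, hp₂⟩ => ⟨p, hp₂, hp₁⟩
  let A : Set G.U := {x | x ∈ O ∧ ∃ p, G.t p = x ∧ G.s p ⤳ x ∧ G.s p ≠ x ∧ Coeq6.Invariant.Rel G (G.s p) (G.t r)}
  have hA : A.Finite := hO.subset fun x hx => hx.1
  have hrA : G.t r ∈ A := ⟨hmem _ (Coeq6.Invariant.rel_refl _), r, rfl, hsp, hne,
    Coeq6.Invariant.rel_symm ⟨r, rfl, rfl⟩⟩
  let _ : PartialOrder G.U := specializationOrder _
  obtain ⟨x, hxA, hmin⟩ := hA.exists_minimalFor id A ⟨_, hrA⟩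
  obtain ⟨hxO, p, hp, hspx, hnex, hrel⟩ := hxA
  obtain ⟨p', hpp', hp'⟩ := G.s.isClosedMap.specializingMap hspx
  have htx : x ⤳ G.t p' := hp ▸ hpp'.map G.t.continuous
  have hne' : x ≠ G.t p' := by
    intro h
    apply hnex
    have h2 : p = p' := by
      by_contra hpne
      have hd := (G.t.isDiscrete_preimage_singleton x).to_subtype
      have hsub : (⟨p, hp⟩ : ⇑G.t ⁻¹' {x}) ⤳ ⟨p', h.symm⟩ := (subtype_specializes_iff _ _).2 hpp'
      exact hpne (congrArg Subtype.val hsub.eq)
    rw [← h2] at hp'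
    exact hp'
  have hrx : Coeq6.Invariant.Rel G x (G.t r) := Coeq6.Invariant.rel_trans ⟨p, hp, rfl⟩ hrel
  have hrx' : Coeq6.Invariant.Rel G (G.t p') x := ⟨p', rfl, hp'⟩
  have hA' : G.t p' ∈ A := ⟨hmem _ (Coeq6.Invariant.rel_trans hrx' hrx), p', rfl, hp' ▸ htx,
    hp'.symm ▸ hne', hp'.symm ▸ hrx⟩
  exact hne' ((htx.antisymm (hmin hA' htx)).eq)

end Groth.Agent.S7464
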