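import Groth.Statements.S7494
import Mathlib

set_option autoImplicit false
universe u
open CategoryTheory MonoidalCategory CartesianMonoidalCategory MonObj GrpObj AlgebraicGeometry
open AlgGrp

namespace Groth.Agent.S7494

/-- Let G be a group scheme over S acting on a scheme X over S by a. The action is free, meaning that
for every scheme T over S and all T-points g of G and x of X with g · x = x one has g = 1, if and
only if the morphism G x_S X -> X x_S X, (g, x) ↦ (a(g, x), x), is a monomorphism of schemes. -/
theorem result {S : Scheme.{u}} (G X : Over S) [GrpObj G] (a : AlgGrp.Action G X) : (∀ (T : Over S) (g : T ⟶ G) (x : T ⟶ X), lift g x ≫ a.act = x → g = toUnit T ≫ η[G]) ↔ Mono (lift a.act (snd G X)).left := by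
  have hone : ∀ (T : Over S) (x : T ⟶ X), lift (1 : T ⟶ G) x ≫ a.act = x := fun T x => by
    have h := congrArg (fun z => lift (toUnit T) x ≫ z) a.one_act
    simpa [Hom.one_def] using h
  have hmul : ∀ (T : Over S) (g h : T ⟶ G) (x : T ⟶ X), lift (g * h) x ≫ a.act = lift g (lift h x ≫ a.act) ≫ a.act := fun T g h x => by
    have e := congrArg (fun z => lift (lift g h) x ≫ z) a.mul_act
    simpa [Hom.mul_def] using e
  constructor
  · intro hfree
    haveI : Mono (lift a.act (snd G X)) := ⟨fun {T} u v e => by
      have e1 := congrArg (fun z => z ≫ fst X X) e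
      have e2 := congrArg (fun z => z ≫ snd X X) e
      simp only [Category.assoc, lift_fst, lift_snd] at e1 e2
      have hu : u = lift (u ≫ fst G X) (u ≫ snd G X) := by rw [← comp_lift, lift_fst_snd, Category.comp_id]
      have hv : v = lift (v ≫ fst G X) (v ≫ snd G X) := by rw [← comp_lift, lift_fst_snd, Category.comp_id]
      have h1 : lift ((v ≫ fst G X)⁻¹ * (u ≫ fst G X)) (u ≫ snd G X) ≫ a.act = u ≫ snd G X := by
        rw [hmul, ← hu, e1]
        rw [show v ≫ a.act = lift (v ≫ fst G X) (u ≫ snd G X) ≫ a.act by rw [e2, ← hv], ← hmul, inv_mul_cancel, hone]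
      have h2 := hfree T _ _ h1
      rw [← Hom.one_def] at h2
      rw [hu, hv, ← e2, ← eq_of_inv_mul_eq_one h2]⟩
    exact inferInstanceAs (Mono ((Over.forget S).map (lift a.act (snd G X))))
  · intro hm T g x h
    haveI : Mono (lift a.act (snd G X)) := Functor.mono_of_mono_map (F := Over.forget S) (show Mono ((Over.forget S).map _) from hm)
    have : lift g x = lift (1 : T ⟶ G) x := by
      rw [← cancel_mono (lift a.act (snd G X)), comp_lift, comp_lift, h, hone, lift_snd, lift_snd]
    simpa [Hom.one_def] using congrArg (fun z => z ≫ fst G X) this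

end Groth.Agent.S7494
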