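import Groth.Statements.S7527
import Groth.Agent.SpecTop.Cons

set_option autoImplicit false
universe u
open SpecSp

namespace Groth.Agent.S7527

open Set Topology Groth.Agent.SpecTop.Cons

/-- Let X be a spectral space and x, y ∈ X. Then either there is a third point specializing to both x
and y, or there are disjoint open neighbourhoods of x and of y. -/
theorem result {X : Type u} [TopologicalSpace X] [SpectralSpace X] (x y : X) :
    (∃ z : X, z ⤳ x ∧ z ⤳ y) ∨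
    (∃ U V : Set X, IsOpen U ∧ IsOpen V ∧ x ∈ U ∧ y ∈ V ∧ Disjoint U V) := by
  by_contra hcon
  push Not at hcon
  obtain ⟨hg, hd⟩ := hcon
  let ι := {p : Set X × Set X // (IsOpen p.1 ∧ IsCompact p.1 ∧ x ∈ p.1) ∧ (IsOpen p.2 ∧ IsCompact p.2 ∧ y ∈ p.2)}
  haveI : Nonempty ι := ⟨⟨(univ, univ), ⟨isOpen_univ, isCompact_univ, trivial⟩, isOpen_univ, isCompact_univ, trivial⟩⟩
  refine Exists.elim (exists_mem_forall _ cons_compact (fun p : ι => p.1.1 ∩ p.1.2) (fun p q => ?_)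
    (fun p => ?_) (fun p => ?_)) fun z hz => ?_
  · exact ⟨⟨(p.1.1 ∩ q.1.1, p.1.2 ∩ q.1.2),
      ⟨p.2.1.1.inter q.2.1.1, p.2.1.2.1.inter_of_isOpen q.2.1.2.1 p.2.1.1 q.2.1.1, p.2.1.2.2, q.2.1.2.2⟩,
      p.2.2.1.inter q.2.2.1, p.2.2.2.1.inter_of_isOpen q.2.2.2.1 p.2.2.1 q.2.2.1, p.2.2.2.2, q.2.2.2.2⟩,
      fun w hw => ⟨⟨hw.1.1, hw.2.1⟩, hw.1.2, hw.2.2⟩⟩
  · exact not_disjoint_iff_nonempty_inter.mp (hd _ _ p.2.1.1 p.2.2.1 p.2.1.2.2 p.2.2.2.2)
  · exact @IsClosed.inter X _ _ (constructibleTopology X) (isClosed_cons p.2.1.1 p.2.1.2.1) (isClosed_cons p.2.2.1 p.2.2.2.1)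
  · refine hg z (specializes_iff_forall_open.mpr fun W hW hxW => ?_)
      (specializes_iff_forall_open.mpr fun W hW hyW => ?_)
    · obtain ⟨U, h1, h2, h3, h4⟩ := exists_qcOpen hW hxW
      exact h4 (hz ⟨(U, univ), ⟨h1, h2, h3⟩, isOpen_univ, isCompact_univ, trivial⟩).1
    · obtain ⟨U, h1, h2, h3, h4⟩ := exists_qcOpen hW hyW
      exact h4 (hz ⟨(univ, U), ⟨isOpen_univ, isCompact_univ, trivial⟩, h1, h2, h3⟩).2

end Groth.Agent.S7527
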