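import Groth.Statements.S7528
import Groth.Agent.SpecTop.Cons

set_option autoImplicit false
universe u
open SpecSp

namespace Groth.Agent.S7528

open Set Topology Groth.Agent.SpecTop.Cons

/-- For a spectral space X the following are equivalent: (1) X is profinite, i.e. quasi-compact,
Hausdorff and totally disconnected (quasi-compactness being automatic); (2) X is Hausdorff; (3) X is
totally disconnected; (4) every quasi-compact open subset is closed; (5) there are no nontrivial
specializations between points; (6) every point is closed; (7) every point is the generic point of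
an irreducible component; (8) the constructible topology coincides with the topology of X. -/
theorem result (X : Type u) [tX : TopologicalSpace X] [SpectralSpace X] :
    List.TFAE [
      T2Space X ∧ TotallyDisconnectedSpace X,
      T2Space X,
      TotallyDisconnectedSpace X,
      ∀ U : Set X, IsOpen U → IsCompact U → IsClosed U,
      ∀ x y : X, x ⤳ y → x = y,
      ∀ x : X, IsClosed ({x} : Set X),
      ∀ x : X, closure ({x} : Set X) ∈ irreducibleComponents X,
      constructibleTopology X = tX] := by
  tfae_have 1 → 2 := fun h => h.1
  tfae_have 1 → 3 := fun h => h.2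
  tfae_have 2 → 6 := fun h x => isClosed_singleton
  tfae_have 3 → 6 := fun h x => by
    have h1 : IsPreconnected (closure ({x} : Set X)) := isPreconnected_singleton.closure
    have h2 : (closure ({x} : Set X)).Subsingleton := h1.subsingleton
    rw [show ({x} : Set X) = closure {x} from
      subset_antisymm subset_closure fun y hy => h2 hy (subset_closure rfl)]
    exact isClosed_closure
  tfae_have 6 → 5 := fun h x y hxy =>
    ((h x).closure_eq ▸ specializes_iff_mem_closure.mp hxy : y ∈ ({x} : Set X)).symm
  tfae_have 5 → 4 := fun h U hU hUc =>
    isClosed_of_specialization (isClosed_cons hU hUc) fun a b hab ha => h a b hab ▸ ha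
  tfae_have 4 → 8 := fun h => le_antisymm cons_le (le_generateFrom fun s hs => by
    rcases hs with ⟨ho, hc⟩ | ⟨hcl, hc⟩
    · exact ho
    · simpa using (h sᶜ hcl.isOpen_compl hc).isOpen_compl)
  tfae_have 8 → 1 := fun h => by
    have h1 := cons_t2 (X := X)
    have h2 := cons_totallySeparated (X := X)
    rw [h] at h1 h2
    exact ⟨h1, inferInstance⟩
  tfae_have 5 → 7 := fun h x => by
    refine ⟨isIrreducible_singleton.closure, fun Z hZ hxZ => ?_⟩
    obtain ⟨z, hz⟩ := QuasiSober.sober hZ.closure isClosed_closure
    have hzx : z ⤳ x := hz.specializes (subset_closure (hxZ (subset_closure rfl)))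
    rw [h z x hzx] at hz
    exact hz.def ▸ subset_closure
  tfae_have 7 → 5 := fun h x y hxy => by
    have h1 : closure ({y} : Set X) ⊆ closure {x} :=
      closure_minimal (singleton_subset_iff.mpr (specializes_iff_mem_closure.mp hxy)) isClosed_closure
    have h2 := (h y).2 isIrreducible_singleton.closure h1
    exact hxy.antisymm (specializes_iff_mem_closure.mpr (h2 (subset_closure rfl))) |>.eq
  tfae_finish

end Groth.Agent.S7528
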