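import Groth.Statements.S7529
import Groth.Agent.SpecTop.Cons

set_option autoImplicit false
universe u
open SpecSp

namespace Groth.Agent.S7529

open Set Topology Groth.Agent.SpecTop.Cons

/-- The product X × Y of two spectral spaces X and Y is a spectral space. -/
theorem result (X Y : Type u) [TopologicalSpace X] [TopologicalSpace Y]
    [SpectralSpace X] [SpectralSpace Y] : SpectralSpace (X × Y) := by
  refine spectralSpace_of_finer (@instTopologicalSpaceProd X Y (constructibleTopology X) (constructibleTopology Y))
    (@instCompactSpaceProd X Y (constructibleTopology X) (constructibleTopology Y) cons_compact cons_compact)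
    (isBasis.prod isBasis) ?_ ?_
  · rintro _ ⟨U, hU, V, hV, rfl⟩
    exact @IsOpen.prod X Y (constructibleTopology X) (constructibleTopology Y) _ _ (isOpen_cons hU.1 hU.2) (isOpen_cons hV.1 hV.2)
  · rintro _ ⟨U, hU, V, hV, rfl⟩
    exact @IsClosed.prod X Y (constructibleTopology X) (constructibleTopology Y) _ _ (isClosed_cons hU.1 hU.2) (isClosed_cons hV.1 hV.2)

end Groth.Agent.S7529
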