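import Groth.Statements.S7530
import Groth.Agent.SpecTop.Cons

set_option autoImplicit false
universe u
open SpecSp

namespace Groth.Agent.S7530

open Set Topology Groth.Agent.SpecTop.Cons

/-- Let f : X → Y be a map of spectral spaces which is spectral and bijective, and assume that
generalizations lift along f or that specializations lift along f. Then f is a homeomorphism. -/
theorem result {X Y : Type u} [TopologicalSpace X] [TopologicalSpace Y]
    [SpectralSpace X] [SpectralSpace Y] (f : X → Y) (hf : IsSpectralMap f) (hb : Function.Bijective f)
    (hlift : GeneralizingMap f ∨ SpecializingMap f) :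
    IsHomeomorph f := by
  have himg : ∀ s : Set X, IsClosed[constructibleTopology X] s → IsClosed[constructibleTopology Y] (f '' s) :=
    fun s hs => @IsCompact.isClosed Y (constructibleTopology Y) cons_t2 _
      (@IsCompact.image X Y (constructibleTopology X) (constructibleTopology Y) s f
        (@IsClosed.isCompact X (constructibleTopology X) s cons_compact hs) (continuous_cons hf))
  have himg' : ∀ s : Set X, IsOpen[constructibleTopology X] s → IsOpen[constructibleTopology Y] (f '' s) := by
    intro s hs
    rw [← compl_compl (f '' s), ← image_compl_eq hb]
    exact @IsClosed.isOpen_compl Y (constructibleTopology Y) _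
      (himg _ (@IsOpen.isClosed_compl X (constructibleTopology X) _ hs))
  refine ⟨hf.continuous, ?_, hb⟩
  rcases hlift with h | h
  · exact fun U hU => isOpen_of_generalization (himg' U (cons_le _ hU))
      (h.stableUnderGeneralization_image hU.stableUnderGeneralization)
  · intro U hU
    have h1 := isClosed_of_specialization (himg Uᶜ (isClosed_cons_of_isClosed hU.isClosed_compl))
      (h.stableUnderSpecialization_image hU.isClosed_compl.stableUnderSpecialization)
    rw [image_compl_eq hb] at h1
    exact isClosed_compl_iff.mp h1

end Groth.Agent.S7530
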