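import Groth.Statements.S7532
import Groth.Agent.SpecTop.Gen

set_option autoImplicit false
universe u
open SpecSp

namespace Groth.Agent.S7532

open Set Topology Groth.Agent.SpecTop.Cons Groth.Agent.SpecTop.Gen

/-- Let W be the two-point space with one closed and one non-closed point (here the Sierpiński topology
on Prop). A topological space X is spectral exactly when, for some index type I, X admits a
topological embedding into the power W^I whose image is a closed set for the constructible topology
on W^I. -/
theorem result (X : Type u) [TopologicalSpace X] :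
    SpectralSpace X ↔ ∃ (I : Type u) (f : X → (I → Prop)),
      Topology.IsEmbedding f ∧ @IsClosed (I → Prop) (constructibleTopology (I → Prop)) (Set.range f) := by
  classical
  have key : ∀ I : Type u, SpectralSpace (I → Prop) ∧
      constructibleTopology (I → Prop) = @Pi.topologicalSpace I (fun _ => Prop) fun _ => ⊥ := by
    intro I
    haveI : T0Space Prop := (t0Space_iff_exists_isOpen_xor_mem Prop).mpr fun a b hab =>
      ⟨{True}, isOpen_singleton_true, by by_cases a <;> by_cases b <;> simp_all⟩
    have hc : @CompactSpace (I → Prop) (@Pi.topologicalSpace I (fun _ => Prop) fun _ => ⊥) :=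
      @Pi.compactSpace I (fun _ => Prop) (fun _ => ⊥) fun _ => @Finite.compactSpace Prop ⊥ _
    have hB := isTopologicalBasis_pi (fun _ : I => TopologicalSpace.isTopologicalBasis_opens (α := Prop))
    refine ⟨?_, ?_⟩
    on_goal 1 => refine spectralSpace_of_finer _ hc hB ?_ ?_
    on_goal 3 =>
      haveI : SpectralSpace (I → Prop) := spectralSpace_of_finer _ hc hB ?_ ?_
      refine cons_eq_of_basis _ hc hB ?_ ?_
    all_goals rintro _ ⟨U, F, -, rfl⟩
    all_goals first
      | exact @isOpen_set_pi I (fun _ => Prop) (fun _ => ⊥) _ _ F.finite_toSet fun _ _ => trivial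
      | exact @isClosed_set_pi I (fun _ => Prop) (fun _ => ⊥) _ _ fun _ _ => @IsClosed.mk Prop ⊥ _ trivial
  constructor
  · intro _
    let I : Type u := {U : Set X // IsOpen U ∧ IsCompact U}
    let f : X → I → Prop := fun x U => x ∈ U.1
    have hcont : Continuous f := continuous_pi fun U => continuous_Prop.mpr U.2.1
    have hind : IsInducing f := ⟨le_antisymm hcont.le_induced (by
      conv_rhs => rw [(Groth.Agent.SpecTop.Cons.isBasis (X := X)).eq_generateFrom]
      refine le_generateFrom fun U hU => ?_
      exact ⟨(fun p => p ⟨U, hU⟩) ⁻¹' {True}, isOpen_singleton_true.preimage (continuous_apply _),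
        by ext x; simp [f]⟩)⟩
    refine ⟨I, f, ⟨hind, hind.injective⟩, ?_⟩
    rw [(key I).2]
    letI : TopologicalSpace Prop := ⊥
    haveI : DiscreteTopology Prop := ⟨rfl⟩
    have hc : @Continuous X (I → Prop) (constructibleTopology X) _ f := by
      refine @continuous_pi X I (fun _ => Prop) (constructibleTopology X) _ f fun U => ?_
      suffices h : ∀ b : Prop, IsOpen[constructibleTopology X] ((fun x => f x U) ⁻¹' {b}) by
        letI := constructibleTopology X
        exact continuous_discrete_rng.mpr h
      intro b
      by_cases hb : b
      · convert isOpen_cons U.2.1 U.2.2 using 1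
        ext x; simp [f, hb]
      · convert @IsClosed.isOpen_compl X (constructibleTopology X) _ (isClosed_cons U.2.1 U.2.2) using 1
        ext x; simp [f, hb]
    have h := @IsCompact.image X (I → Prop) (constructibleTopology X) _ _ f
      (@CompactSpace.isCompact_univ X (constructibleTopology X) cons_compact) hc
    rw [image_univ] at h
    exact h.isClosed
  · rintro ⟨I, f, hf, hcl⟩
    haveI := (key I).1
    haveI := spectralSpace_subtype hcl
    let e := hf.toHomeomorph
    haveI : CompactSpace X := e.symm.compactSpace
    exact e.isOpenEmbedding.spectralSpace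

end Groth.Agent.S7532
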