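import Groth.Statements.S7534
import Groth.Agent.SpecTop.Lim

set_option autoImplicit false
universe u
open CategoryTheory CategoryTheory.Limits
open SpecSp

namespace Groth.Agent.S7534

open Set Topology CategoryTheory CategoryTheory.Limits Groth.Agent.SpecTop.Cons Groth.Agent.SpecTop.Lim

/-- Let j ↦ X_j be a cofiltered diagram of spectral spaces with spectral transition maps, and X its
limit in topological spaces with projections p_j. (1) If Z_j ⊆ X_j are nonempty, closed in the
constructible topology, and carried into each other by the transition maps, then lim Z_j is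
nonempty, i.e. some x ∈ X has p_j(x) ∈ Z_j for all j. (2) If every X_j is nonempty then X is
nonempty. -/
theorem result {J : Type u} [SmallCategory J] [IsCofiltered J] (F : J ⥤ TopCat.{u})
    (hF : ∀ j, SpectralSpace (F.obj j))
    (hFm : ∀ {i j : J} (a : i ⟶ j), IsSpectralMap (F.map a : F.obj i → F.obj j))
    (c : Cone F) (hc : IsLimit c) :
    (∀ Z : ∀ j, Set (F.obj j),
      (∀ j, (Z j).Nonempty) →
      (∀ j, @IsClosed (F.obj j) (constructibleTopology (F.obj j)) (Z j)) →
      (∀ {i j : J} (a : i ⟶ j), Set.MapsTo (F.map a) (Z i) (Z j)) →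
      ∃ x : c.pt, ∀ j, c.π.app j x ∈ Z j) ∧
    ((∀ j, Nonempty (F.obj j)) → Nonempty c.pt) := by
  refine ⟨fun Z h1 h2 h3 => exists_forall_mem c hc hF hFm Z h1 h2 h3, fun h => ?_⟩
  obtain ⟨x, -⟩ := exists_forall_mem c hc hF hFm (fun j => Set.univ) (fun j => Set.univ_nonempty)
    (fun j => @isClosed_univ _ (constructibleTopology _)) (fun {i j} a => Set.mapsTo_univ _ _)
  exact ⟨x⟩

end Groth.Agent.S7534
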