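import Groth.Statements.S7538
import Groth.Agent.SpecTop.Lim

set_option autoImplicit false
universe u
open CategoryTheory CategoryTheory.Limits
open SpecSp

namespace Groth.Agent.S7538

open Set Topology CategoryTheory CategoryTheory.Limits Groth.Agent.SpecTop.Cons Groth.Agent.SpecTop.Lim

/-- Let j ↦ X_j be a cofiltered diagram of spectral spaces with spectral transition maps f_a and X its
limit with projections p_j. (1) Any quasi-compact open U ⊆ X is p_i⁻¹(U_i) for some i and some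
quasi-compact open U_i ⊆ X_i. (2) If U_i ⊆ X_i and U_j ⊆ X_j are quasi-compact opens with p_i⁻¹(U_i)
⊆ p_j⁻¹(U_j), there are k and a : k → i, b : k → j with f_a⁻¹(U_i) ⊆ f_b⁻¹(U_j). (3) If U_i and
finitely many U_{l,i} are quasi-compact opens of X_i with p_i⁻¹(U_i) = ⋃_l p_i⁻¹(U_{l,i}), then
f_a⁻¹(U_i) = ⋃_l f_a⁻¹(U_{l,i}) for some a : j → i. (4) The same with intersections. -/
theorem result {J : Type u} [SmallCategory J] [IsCofiltered J] (F : J ⥤ TopCat.{u})
    (hF : ∀ j, SpectralSpace (F.obj j))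
    (hFm : ∀ {i j : J} (a : i ⟶ j), IsSpectralMap (F.map a : F.obj i → F.obj j))
    (c : Cone F) (hc : IsLimit c) :
    (∀ U : Set c.pt, IsOpen U → IsCompact U →
      ∃ (i : J) (Ui : Set (F.obj i)), IsOpen Ui ∧ IsCompact Ui ∧ c.π.app i ⁻¹' Ui = U) ∧
    (∀ (i j : J) (Ui : Set (F.obj i)) (Uj : Set (F.obj j)),
      IsOpen Ui → IsCompact Ui → IsOpen Uj → IsCompact Uj →
      c.π.app i ⁻¹' Ui ⊆ c.π.app j ⁻¹' Uj →
      ∃ (k : J) (a : k ⟶ i) (b : k ⟶ j), F.map a ⁻¹' Ui ⊆ F.map b ⁻¹' Uj) ∧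
    (∀ (i : J) (n : ℕ) (Ui : Set (F.obj i)) (V : Fin n → Set (F.obj i)),
      IsOpen Ui → IsCompact Ui → (∀ l, IsOpen (V l) ∧ IsCompact (V l)) →
      (c.π.app i ⁻¹' Ui = ⋃ l, c.π.app i ⁻¹' V l →
        ∃ (j : J) (a : j ⟶ i), F.map a ⁻¹' Ui = ⋃ l, F.map a ⁻¹' V l) ∧
      (c.π.app i ⁻¹' Ui = ⋂ l, c.π.app i ⁻¹' V l →
        ∃ (j : J) (a : j ⟶ i), F.map a ⁻¹' Ui = ⋂ l, F.map a ⁻¹' V l)) := by
  refine ⟨fun U hU hUc => ?_, fun i j Ui Uj h1 h2 h3 h4 h => ?_, fun i n Ui V h1 h2 hV => ⟨fun h => ?_, fun h => ?_⟩⟩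
  · obtain ⟨k, V, hV, hV'⟩ := exists_qcOpen_eq c hc hF hFm hU hUc
    exact ⟨k, V, hV.1, hV.2, hV'⟩
  · let m := IsCofiltered.min i j
    let p : m ⟶ i := IsCofiltered.minToLeft i j
    let q : m ⟶ j := IsCofiltered.minToRight i j
    haveI := hF m
    obtain ⟨k, a, ha⟩ := eventually_subset c hc hF hFm (i := m) (E := F.map p ⁻¹' Ui) (F' := F.map q ⁻¹' Uj)
      (isClosed_cons (h1.preimage (F.map p).hom.continuous) (h2.preimage_of_isOpen (hFm p) h1))
      (isOpen_cons (h3.preimage (F.map q).hom.continuous) (h4.preimage_of_isOpen (hFm q) h3))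
      (by rw [preimage_map, preimage_map]; exact h)
    refine ⟨k, a ≫ p, a ≫ q, fun x hx => ?_⟩
    rw [mem_preimage, F.map_comp, ConcreteCategory.comp_apply] at hx ⊢
    exact ha hx
  all_goals haveI := hF i
  all_goals let τ := constructibleTopology (F.obj i)
  · obtain ⟨j, a, ha⟩ := eventually_subset c hc hF hFm (E := Ui) (F' := ⋃ l, V l) (@isClosed_cons _ (F.obj i).str (hF i) _ h1 h2)
      (@isOpen_iUnion _ _ τ _ fun l => @isOpen_cons _ (F.obj i).str (hF i) _ (hV l).1 (hV l).2)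
      (by rw [preimage_iUnion, h])
    obtain ⟨k, b, hb⟩ := eventually_subset c hc hF hFm (E := ⋃ l, V l) (F' := Ui)
      (@isClosed_iUnion_of_finite _ _ τ _ _ fun l => @isClosed_cons _ (F.obj i).str (hF i) _ (hV l).1 (hV l).2)
      (@isOpen_cons _ (F.obj i).str (hF i) _ h1 h2) (by rw [preimage_iUnion, h])
    obtain ⟨m, p, q, hpq⟩ := IsCofiltered.cospan a b
    refine ⟨m, p ≫ a, ?_⟩
    rw [← preimage_iUnion]
    refine subset_antisymm (fun x hx => ?_) (fun x hx => ?_)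
    · rw [mem_preimage, F.map_comp, ConcreteCategory.comp_apply] at hx ⊢
      exact ha hx
    · rw [mem_preimage, hpq, F.map_comp, ConcreteCategory.comp_apply] at hx ⊢
      exact hb hx
  · obtain ⟨j, a, ha⟩ := eventually_subset c hc hF hFm (E := Ui) (F' := ⋂ l, V l) (@isClosed_cons _ (F.obj i).str (hF i) _ h1 h2)
      (@isOpen_iInter_of_finite _ _ τ _ _ fun l => @isOpen_cons _ (F.obj i).str (hF i) _ (hV l).1 (hV l).2)
      (by rw [preimage_iInter, h])
    obtain ⟨k, b, hb⟩ := eventually_subset c hc hF hFm (E := ⋂ l, V l) (F' := Ui)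
      (@isClosed_iInter _ _ τ _ fun l => @isClosed_cons _ (F.obj i).str (hF i) _ (hV l).1 (hV l).2)
      (@isOpen_cons _ (F.obj i).str (hF i) _ h1 h2) (by rw [preimage_iInter, h])
    obtain ⟨m, p, q, hpq⟩ := IsCofiltered.cospan a b
    refine ⟨m, p ≫ a, ?_⟩
    rw [← preimage_iInter]
    refine subset_antisymm (fun x hx => ?_) (fun x hx => ?_)
    · rw [mem_preimage, F.map_comp, ConcreteCategory.comp_apply] at hx ⊢
      exact ha hx
    · rw [mem_preimage, hpq, F.map_comp, ConcreteCategory.comp_apply] at hx ⊢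
      exact hb hx

end Groth.Agent.S7538
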