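import Groth.Statements.S7539
import Groth.Agent.SpecTop.Gen

set_option autoImplicit false
universe u
open SpecSp

namespace Groth.Agent.S7539

open Set Topology Groth.Agent.SpecTop.Cons Groth.Agent.SpecTop.Gen

/-- For a subset W of a spectral space X, these five conditions coincide: (1) W can be written as an
intersection of constructible subsets and is stable under generalization; (2) W is quasi-compact and
stable under generalization; (3) for some quasi-compact E ⊆ X, W consists exactly of the points that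
specialize to a point of E; (4) W is the intersection of some family of quasi-compact opens; (5)
there are a nonempty index set I and quasi-compact opens U_i with W = ⋂ U_i such that for all i, j
some U_k is contained in U_i ∩ U_j. -/
theorem result {X : Type u} [TopologicalSpace X] [SpectralSpace X] (W : Set X) :
    List.TFAE [
      (∃ S : Set (Set X), (∀ s ∈ S, Topology.IsConstructible s) ∧ W = ⋂₀ S) ∧ StableUnderGeneralization W,
      IsCompact W ∧ StableUnderGeneralization W,
      ∃ E : Set X, IsCompact E ∧ W = {x | ∃ e ∈ E, x ⤳ e},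
      ∃ S : Set (Set X), (∀ s ∈ S, IsOpen s ∧ IsCompact s) ∧ W = ⋂₀ S,
      ∃ (I : Type u) (_ : Nonempty I) (U : I → Set X), (∀ i, IsOpen (U i) ∧ IsCompact (U i)) ∧
        W = ⋂ i, U i ∧ ∀ i j, ∃ k, U k ⊆ U i ∩ U j] := by
  classical
  tfae_have 1 → 2 := fun ⟨⟨S, hS, hW⟩, hgen⟩ => ⟨hW ▸ isCompact_of_isClosed_cons
    (@isClosed_sInter X (constructibleTopology X) _ fun s hs => (isOpen_cons_of_isConstructible (hS s hs)).2), hgen⟩
  tfae_have 2 → 3 := fun ⟨hc, hgen⟩ => ⟨W, hc, subset_antisymm (fun w hw => ⟨w, hw, specializes_rfl⟩)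
    fun x ⟨e, he, hxe⟩ => hgen hxe he⟩
  tfae_have 3 → 4 := fun ⟨E, hE, hW⟩ => ⟨_, fun s hs => hs.1, hW.trans (genClosure_eq hE)⟩
  tfae_have 4 → 5 := fun ⟨S, hS, hW⟩ => by
    have hSi : ∀ t : Finset S, IsOpen (⋂ s ∈ t, (s : Set X)) ∧ IsCompact (⋂ s ∈ t, (s : Set X)) := fun t =>
      ⟨isOpen_biInter_finset fun s _ => (hS s s.2).1, isCompact_of_isClosed_cons
        (@isClosed_biInter X _ (constructibleTopology X) _ _ fun (s : S) _ => isClosed_cons (hS s s.2).1 (hS s s.2).2)⟩
    refine ⟨Finset S, ⟨∅⟩, fun t => ⋂ s ∈ t, (s : Set X), hSi, ?_, fun i j => ⟨i ∪ j, ?_⟩⟩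
    · subst hW
      ext x
      simp only [mem_sInter, mem_iInter]
      exact ⟨fun h t s _ => h s s.2, fun h s hs => h {⟨s, hs⟩} ⟨s, hs⟩ (Finset.mem_singleton_self _)⟩
    · intro x hx
      simp only [mem_iInter, mem_inter_iff] at hx ⊢
      exact ⟨fun s hs => hx s (Finset.mem_union_left _ hs), fun s hs => hx s (Finset.mem_union_right _ hs)⟩
  tfae_have 5 → 1 := fun ⟨I, _, U, hU, hW, _⟩ => by
    subst hW
    refine ⟨⟨Set.range U, ?_, (sInter_range U).symm⟩, ?_⟩
    · rintro _ ⟨i, rfl⟩
      exact (hU i).2.isConstructible (hU i).1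
    · intro x y hyx hx
      exact mem_iInter.mpr fun i => hyx.mem_open (hU i).1 (mem_iInter.mp hx i)
  tfae_finish

end Groth.Agent.S7539
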