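import Groth.Statements.S7540
import Groth.Agent.SpecTop.Gen

set_option autoImplicit false
universe u
open SpecSp

namespace Groth.Agent.S7540

open Set Topology Groth.Agent.SpecTop.Cons Groth.Agent.SpecTop.Gen

/-- Let X be a spectral space, I a nonempty index set and U_i ⊆ X quasi-compact opens such that for all
i, j some U_k lies in U_i ∩ U_j; put W = ⋂ U_i. Then every open subset of X containing W contains
some U_i. The published statement also asserts that W is spectral and is the limit of the U_i; this
row states the neighbourhood property. -/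
theorem result {X : Type u} [TopologicalSpace X] [SpectralSpace X]
    {I : Type u} [Nonempty I] (U : I → Set X) (hU : ∀ i, IsOpen (U i) ∧ IsCompact (U i))
    (hdir : ∀ i j, ∃ k, U k ⊆ U i ∩ U j) :
    ∀ V : Set X, IsOpen V → (⋂ i, U i) ⊆ V → ∃ i, U i ⊆ V := by
  intro V hV hW
  by_contra hcon
  push Not at hcon
  refine Exists.elim (exists_mem_forall _ cons_compact (fun i => U i \ V) (fun i j => ?_) (fun i => ?_)
    (fun i => ?_)) fun x hx => ?_
  · obtain ⟨k, hk⟩ := hdir i j
    exact ⟨k, fun y hy => ⟨⟨(hk hy.1).1, hy.2⟩, (hk hy.1).2, hy.2⟩⟩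
  · exact sdiff_nonempty.mpr (hcon i)
  · exact isClosed_sdiff (isClosed_cons (hU i).1 (hU i).2) (cons_le _ hV)
  · exact (hx (Classical.arbitrary I)).2 (hW (mem_iInter.mpr fun i => (hx i).1))

end Groth.Agent.S7540
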