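import Groth.Statements.S7541
import Groth.Agent.SpecTop.Gen

set_option autoImplicit false
universe u
open SpecSp

namespace Groth.Agent.S7541

open Set Topology Groth.Agent.SpecTop.Cons Groth.Agent.SpecTop.Gen

/-- Let X be a spectral space, E ⊆ X a constructible subset and W the set of points of X that specialize
to a point of E. Then the subspace W minus E is a spectral space. (The description of W minus E as a
limit of the U_i minus E is not recorded here.) -/
theorem result {X : Type u} [TopologicalSpace X] [SpectralSpace X]
    (E : Set X) (hE : Topology.IsConstructible E) :
    SpectralSpace ↥({x : X | ∃ e ∈ E, x ⤳ e} \ E) := by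
  have h := isOpen_cons_of_isConstructible hE
  refine spectralSpace_subtype (isClosed_sdiff ?_ h.1)
  rw [genClosure_eq (isCompact_of_isClosed_cons h.2)]
  exact @isClosed_sInter X (constructibleTopology X) _ fun U hU => isClosed_cons hU.1.1 hU.1.2

end Groth.Agent.S7541
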