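import Groth.Statements.S7542
import Mathlib
import Groth.Agent.ConstrTop.Basic

set_option autoImplicit false
universe u
open ConstrTop

namespace Groth.Agent.S7542

open Set Groth.Agent.ConstrTop.Basic

/-- Let X be a topological space such that the quasi-compact opens form a basis for the topology, and
let T ⊆ X be retrocompact in X. Then for any constructible subset E ⊆ X, the intersection E ∩ T is
constructible in T (with the induced topology). -/
theorem result {X : Type u} [TopologicalSpace X] [PrespectralSpace X]
    (T : Set X) (hT : IsRetrocompact T) (E : Set X) (hE : Topology.IsConstructible E) :
    Topology.IsConstructible ((Subtype.val : T → X) ⁻¹' E) := by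
  exact isConstructible_preimage_val hT hE

end Groth.Agent.S7542
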