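import Groth.Statements.S7544
import Mathlib
import Groth.Agent.ConstrTop.Basic

set_option autoImplicit false
universe u
open ConstrTop

namespace Groth.Agent.S7544

open Set Groth.Agent.ConstrTop.Basic

/-- Let X be a quasi-compact topological space whose quasi-compact opens form a basis and are closed
under pairwise intersection. Take T ⊆ X to be locally closed, quasi-compact, and with retrocompact
complement. Then T is constructible in X. -/
theorem result {X : Type u} [TopologicalSpace X]
    [CompactSpace X] [PrespectralSpace X] [QuasiSeparatedSpace X]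
    (T : Set X) (hT : IsLocallyClosed T) (hTc : IsCompact T) (hTr : IsRetrocompact Tᶜ) :
    Topology.IsConstructible T := by
  obtain ⟨U, Z, hU, hZ, rfl⟩ := hT
  obtain ⟨U0, h0, h0c, hK, h0U⟩ := exists_compact_open_between hTc hU inter_subset_left
  have e : U0 \ (U ∩ Z) = (U ∩ Z)ᶜ ∩ U0 := (sdiff_eq _ _).trans (inter_comm _ _)
  have ho : IsOpen (U0 \ (U ∩ Z)) := by
    rw [show U0 \ (U ∩ Z) = U0 ∩ Zᶜ by
      ext z; have := @h0U z; simp only [mem_inter_iff, mem_sdiff, mem_compl_iff]; tauto]
    exact h0.inter hZ.isOpen_compl
  rw [← sdiff_sdiff_cancel_left hK]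
  exact (h0c.isConstructible h0).sdiff ((e ▸ hTr h0c h0 : IsCompact (U0 \ (U ∩ Z))).isConstructible ho)

end Groth.Agent.S7544
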