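import Groth.Statements.S7546
import Mathlib
import Groth.Agent.ConstrTop.Basic

set_option autoImplicit false
universe u
open ConstrTop

namespace Groth.Agent.S7546

open Set Groth.Agent.ConstrTop.Basic

/-- Let X be a topological space, Z ⊆ X irreducible and E ⊆ X a finite union of locally closed subsets
(for instance a constructible set). Then E ∩ Z is dense in Z if and only if E ∩ Z contains a subset
of the form U ∩ Z, U open in X, which is dense in Z. If moreover ξ ∈ Z is a generic point of Z,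
these conditions are equivalent to ξ ∈ E. -/
theorem result {X : Type u} [TopologicalSpace X] (Z : Set X) (hZ : IsIrreducible Z)
    {n : ℕ} (L : Fin n → Set X) (hL : ∀ i, IsLocallyClosed (L i)) (E : Set X) (hE : E = ⋃ i, L i) :
    (Z ⊆ closure (E ∩ Z) ↔ ∃ U : Set X, IsOpen U ∧ U ∩ Z ⊆ E ∧ Z ⊆ closure (U ∩ Z)) ∧
    (∀ ξ : X, ξ ∈ Z → Z ⊆ closure {ξ} → (Z ⊆ closure (E ∩ Z) ↔ ξ ∈ E)) := by
  subst hE
  refine ⟨⟨fun h => ?_, fun ⟨U, _, hUE, h⟩ => h.trans (closure_mono fun z hz => ⟨hUE hz, hz.2⟩)⟩,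
    fun ξ hξ hgen => ⟨fun h => ?_, fun h => hgen.trans (closure_mono (by simpa using ⟨mem_iUnion.mp h, hξ⟩))⟩⟩
  · obtain ⟨U, hU, hne, hUE⟩ := exists_open_of_dense hZ L hL h
    exact ⟨U, hU, hUE, subset_closure_inter hZ hU hne⟩
  · obtain ⟨U, hU, ⟨z, hz⟩, hUE⟩ := exists_open_of_dense hZ L hL h
    obtain ⟨w, hw, hwξ⟩ := mem_closure_iff.mp (hgen hz.2) U hU hz.1
    exact hUE ⟨(mem_singleton_iff.mp hwξ) ▸ hw, hξ⟩

end Groth.Agent.S7546
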