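import Groth.Statements.S7548
import Mathlib

set_option autoImplicit false
universe u
open PtTop

namespace Groth.Agent.S7548

open Set TopologicalSpace

/-- Let X be a Jacobson space and let T = ⋃ T_i be a union of subsets T_i ⊆ X each locally closed in X
(open, closed, locally closed and constructible subsets are of this form). Then T is Jacobson and
every point of T closed in T is closed in X. -/
theorem result {X : Type u} [TopologicalSpace X] [JacobsonSpace X]
    {ι : Type u} (T : ι → Set X) (hT : ∀ i, IsLocallyClosed (T i)) :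
    JacobsonSpace ↥(⋃ i, T i) ∧
      closedPoints ↥(⋃ i, T i) ⊆ (Subtype.val : ↥(⋃ i, T i) → X) ⁻¹' closedPoints X := by
  have lc : ∀ (i : ι) (L : Set ↥(⋃ i, T i)), IsLocallyClosed L →
      IsLocallyClosed (Subtype.val '' L ∩ T i) := by
    intro i L hL
    obtain ⟨U, Z, hU, hZ, rfl⟩ := hL
    obtain ⟨U', hU', rfl⟩ := isOpen_induced_iff.mp hU
    obtain ⟨Z', hZ', rfl⟩ := isClosed_induced_iff.mp hZ
    have e : Subtype.val '' ((Subtype.val : ↥(⋃ i, T i) → X) ⁻¹' U' ∩ Subtype.val ⁻¹' Z') ∩ T i =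
        (U' ∩ Z') ∩ T i := by
      rw [← preimage_inter, Subtype.image_preimage_coe]
      ext z
      simp only [mem_inter_iff, mem_iUnion]
      exact ⟨fun ⟨⟨_, h⟩, hi⟩ => ⟨h, hi⟩, fun ⟨h, hi⟩ => ⟨⟨⟨i, hi⟩, h⟩, hi⟩⟩
    rw [e]
    exact (hU'.isLocallyClosed.inter hZ'.isLocallyClosed).inter (hT i)
  have key : ∀ L : Set ↥(⋃ i, T i), IsLocallyClosed L → L.Nonempty →
      ∃ z ∈ L, IsClosed ({z.1} : Set X) := by
    rintro L hL ⟨z, hz⟩
    obtain ⟨i, hi⟩ := mem_iUnion.mp z.2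
    obtain ⟨w, hw, hwc⟩ := nonempty_inter_closedPoints (X := X) (Z := Subtype.val '' L ∩ T i)
      ⟨z.1, ⟨z, hz, rfl⟩, hi⟩ (lc i L hL)
    obtain ⟨w', hw', rfl⟩ := hw.1
    exact ⟨w', hw', hwc⟩
  constructor
  · rw [jacobsonSpace_iff_locallyClosed]
    intro L hne hL
    obtain ⟨z, hz, hzc⟩ := key L hL hne
    refine ⟨z, hz, mem_closedPoints_iff.mpr ?_⟩
    have := hzc.preimage (continuous_subtype_val (p := (· ∈ ⋃ i, T i)))
    rwa [show (Subtype.val : ↥(⋃ i, T i) → X) ⁻¹' {z.1} = {z} by ext; simp [Subtype.ext_iff]] at this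
  · intro z hz
    obtain ⟨w, hw, hwc⟩ := key {z} (mem_closedPoints_iff.mp hz).isLocallyClosed ⟨z, rfl⟩
    rw [mem_singleton_iff] at hw
    exact hw ▸ hwc

end Groth.Agent.S7548
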