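import Groth.Statements.S7550
import Mathlib

set_option autoImplicit false
universe u
open PtTop

namespace Groth.Agent.S7550

open Set TopologicalSpace

/-- Let f : X → Y be a continuous and open map of topological spaces, with X Noetherian, every
irreducible closed subset of X having a generic point, and Y Kolmogorov. Then generalizations lift
along f. (Part (1), closed maps are specializing, is a library fact.) -/
theorem result {X Y : Type u} [TopologicalSpace X] [TopologicalSpace Y]
    [TopologicalSpace.NoetherianSpace X] [QuasiSober X] [T0Space Y]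
    (f : X → Y) (hf : Continuous f) (hfo : IsOpenMap f) :
    GeneralizingMap f := by
  intro x y' hy
  have hxC : x ∈ closure (f ⁻¹' {y'}) := by
    rw [mem_closure_iff]
    intro U hU hxU
    obtain ⟨z, hz, hzy⟩ := hy.mem_open (hfo U hU) ⟨x, hxU, rfl⟩
    exact ⟨z, hz, hzy⟩
  obtain ⟨t, htC, htc, hti, htY⟩ := NoetherianSpace.exists_finite_set_isClosed_irreducible
    (isClosed_closure (s := f ⁻¹' {y'}))
  have hsub : f ⁻¹' {y'} ⊆ ⋃ Z ∈ t, f ⁻¹' {y'} ∩ Z := fun z hz => by
    obtain ⟨Z, hZ, hzZ⟩ := htY.subset (subset_closure hz)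
    exact mem_iUnion₂.mpr ⟨Z, hZ, hz, hzZ⟩
  have hx' := closure_mono hsub hxC
  rw [htC.closure_biUnion, mem_iUnion₂] at hx'
  obtain ⟨Z, hZ, hxZ⟩ := hx'
  obtain ⟨z, hzy, hzZ⟩ := closure_nonempty_iff.mp ⟨x, hxZ⟩
  obtain ⟨ξ, hξ⟩ := QuasiSober.sober (hti _ hZ) (htc _ hZ)
  have hZsub : Z ⊆ closure (f ⁻¹' {y'}) := htY ▸ subset_sUnion_of_mem hZ
  have h1 : y' ⤳ f ξ := specializes_iff_mem_closure.mpr
    (hf.closure_preimage_subset _ (hZsub hξ.mem))
  have h2 : f ξ ⤳ y' := by
    rw [← (mem_singleton_iff.mp hzy)]; exact (hξ.specializes hzZ).map hf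
  exact ⟨ξ, hξ.specializes (closure_minimal inter_subset_right (htc _ hZ) hxZ), (h2.antisymm h1).eq⟩

end Groth.Agent.S7550
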