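import Groth.Statements.S7551
import Mathlib

set_option autoImplicit false
universe u
open PtTop

namespace Groth.Agent.S7551

open Set TopologicalSpace

/-- Let s, t : R → U and π : U → X be continuous maps between topological spaces satisfying: (1) π is an
open map, (2) U is a sober space, (3) s and t have finite fibres, (4) generalizations lift along s
and along t, and (5) the image of (t, s) : R → U × U is an equivalence relation on U and π
identifies X, as a set, with the quotient of U by it. Then X is Kolmogorov. -/
theorem result {R U X : Type u}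
    [TopologicalSpace R] [TopologicalSpace U] [TopologicalSpace X] [QuasiSober U] [T0Space U]
    (s t : R → U) (π : U → X) (hs : Continuous s) (ht : Continuous t) (hπ : Continuous π)
    (hπo : IsOpenMap π) (hsf : ∀ u, (s ⁻¹' {u}).Finite) (htf : ∀ u, (t ⁻¹' {u}).Finite)
    (hsg : GeneralizingMap s) (htg : GeneralizingMap t)
    (hE : Equivalence fun u u' : U => ∃ r, t r = u ∧ s r = u')
    (hπs : Function.Surjective π) (hπq : ∀ u u' : U, π u = π u' ↔ ∃ r, t r = u ∧ s r = u') :
    T0Space X := by
  classical
  refine ⟨fun a b hab => ?_⟩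
  obtain ⟨u, rfl⟩ := hπs a
  obtain ⟨v, rfl⟩ := hπs b
  have hfin : ∀ w : U, {z | π z = π w}.Finite := fun w =>
    (((htf w).image s).subset fun z hz => by
      obtain ⟨r, h1, h2⟩ := (hπq w z).mp hz.symm
      exact ⟨r, h1, h2⟩)
  have lift : ∀ p q : U, π p ⤳ π q → ∃ p', π p' = π p ∧ p' ⤳ q := by
    intro p q hpq
    have hq : q ∈ closure {z | π z = π p} := by
      rw [mem_closure_iff]
      intro O hO hqO
      obtain ⟨z, hz, hzp⟩ := hpq.mem_open (hπo O hO) ⟨q, hqO, rfl⟩
      exact ⟨z, hz, hzp⟩
    rw [← biUnion_of_singleton {z | π z = π p}, (hfin p).closure_biUnion, mem_iUnion₂] at hq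
    obtain ⟨p', hp', hpq'⟩ := hq
    exact ⟨p', hp', specializes_iff_mem_closure.mpr hpq'⟩
  -- a point of the class of `u` without proper generalisation in the class
  letI : PartialOrder U := specializationOrder U
  obtain ⟨u', hu', hmax⟩ := (hfin u).exists_maximal ⟨u, rfl⟩
  obtain ⟨v', hv', hvu⟩ := lift v u' (by rw [show π u' = π u from hu']; exact hab.symm.specializes)
  obtain ⟨u'', hu'', huv⟩ := lift u v' (by rw [hv']; exact hab.specializes)
  have h2 : u' ⤳ u'' := hmax hu'' (huv.trans hvu)
  have h3 : v' = u' := (hvu.antisymm (h2.trans huv)).eq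
  rw [← hu', ← h3, hv']

end Groth.Agent.S7551
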