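import Groth.Statements.S7552
import Mathlib

set_option autoImplicit false
universe u
open PtTop

namespace Groth.Agent.S7552

open Set TopologicalSpace

/-- Let f : X → Y be a continuous surjective map of topological spaces with Y sober, and assume that
specializations lift along f or that generalizations lift along f. Then dim X ≥ dim Y (Krull
dimensions as suprema of lengths of chains of irreducible closed subsets). -/
theorem result {X Y : Type u}
    [TopologicalSpace X] [TopologicalSpace Y] [QuasiSober Y] [T0Space Y]
    (f : X → Y) (hf : Continuous f) (hsurj : Function.Surjective f)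
    (hlift : SpecializingMap f ∨ GeneralizingMap f) :
    topologicalKrullDim Y ≤ topologicalKrullDim X := by
  have gen : ∀ Z : IrreducibleCloseds Y, ∃ y, IsGenericPoint y (Z : Set Y) := fun Z =>
    QuasiSober.sober Z.isIrreducible Z.isClosed
  choose g hg using gen
  have hspec : ∀ {A B : IrreducibleCloseds Y}, A < B → g B ⤳ g A := fun {A B} h =>
    (hg B).specializes (h.le (hg A).mem)
  let cl : X → IrreducibleCloseds X := fun x => ⟨closure {x}, isIrreducible_singleton.closure, isClosed_closure⟩
  have hlt : ∀ (A B : IrreducibleCloseds Y) (a b : X), A < B → b ⤳ a → f a = g A → f b = g B → cl a < cl b := by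
    intro A B a b hAB hba hfa hfb
    show (_ : IrreducibleCloseds X) < _
    refine lt_of_le_of_ne ?_ fun he => hAB.ne ?_
    · intro z hz
      exact closure_minimal (singleton_subset_iff.mpr hba.mem_closure) isClosed_closure hz
    · have hab : a ⤳ b := by
        refine specializes_iff_mem_closure.mpr ?_
        have hb : b ∈ (cl b : Set X) := subset_closure rfl
        rw [← he] at hb
        exact hb
      apply SetLike.coe_injective
      rw [← (hg A).def, ← (hg B).def, ← hfa, ← hfb,
        ((hab.map hf).antisymm (hba.map hf)).eq]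
  suffices H : ∀ (n : ℕ) (s : LTSeries (IrreducibleCloseds Y)), s.length = n →
      ∃ t : LTSeries (IrreducibleCloseds X), t.length = n by
    refine iSup_le fun s => ?_
    obtain ⟨t, ht⟩ := H s.length s rfl
    exact ht ▸ le_iSup (fun q : LTSeries (IrreducibleCloseds X) => ((q.length : ℕ) : WithBot ℕ∞)) t
  rcases hlift with hl | hl
  · suffices H : ∀ (n : ℕ) (s : LTSeries (IrreducibleCloseds Y)), s.length = n →
        ∃ (t : LTSeries (IrreducibleCloseds X)) (x : X), t.length = n ∧ t.head = cl x ∧ f x = g s.head by
      exact fun n s hs => let ⟨t, _, ht, _⟩ := H n s hs; ⟨t, ht⟩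
    intro n
    induction n with
    | zero =>
      intro s _
      obtain ⟨x, hx⟩ := hsurj (g s.head)
      exact ⟨RelSeries.singleton _ (cl x), x, rfl, rfl, hx⟩
    | succ n ih =>
      intro s hsn
      obtain ⟨t, x, htn, hth, hfx⟩ := ih (s.tail (by omega)) (by simp [hsn])
      rw [RelSeries.head_tail] at hfx
      have hlts : s.head < s 1 := s.strictMono (show (0 : Fin (s.length + 1)) < 1 by
        rw [Fin.lt_def]; simp [Fin.val_one', hsn])
      obtain ⟨x', hxx, hfx'⟩ := hl (a := x) (show f x ⤳ g s.head from hfx ▸ hspec hlts)
      exact ⟨t.cons (cl x') (hth ▸ hlt _ _ x' x hlts hxx hfx' hfx), x',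
        by simp [RelSeries.cons, RelSeries.singleton, htn], by rw [RelSeries.head_cons], hfx'⟩
  · suffices H : ∀ (n : ℕ) (s : LTSeries (IrreducibleCloseds Y)), s.length = n →
        ∃ (t : LTSeries (IrreducibleCloseds X)) (x : X), t.length = n ∧ t.last = cl x ∧ f x = g s.last by
      exact fun n s hs => let ⟨t, _, ht, _⟩ := H n s hs; ⟨t, ht⟩
    intro n
    induction n with
    | zero =>
      intro s _
      obtain ⟨x, hx⟩ := hsurj (g s.last)
      exact ⟨RelSeries.singleton _ (cl x), x, rfl, rfl, hx⟩
    | succ n ih =>
      intro s hsn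
      obtain ⟨t, x, htn, hth, hfx⟩ := ih s.eraseLast (by simp [hsn])
      have hlts : s.eraseLast.last < s.last := s.eraseLast_last_rel_last (by omega)
      obtain ⟨x', hxx, hfx'⟩ := hl (a := x) (show g s.last ⤳ f x from hfx ▸ hspec hlts)
      exact ⟨t.snoc (cl x') (hth ▸ hlt _ _ x x' hlts hxx hfx hfx'), x',
        by simp [RelSeries.snoc, RelSeries.append, RelSeries.singleton, htn], by rw [RelSeries.last_snoc], hfx'⟩

end Groth.Agent.S7552
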