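import Groth.Statements.S7555
import Mathlib

set_option autoImplicit false
universe u
open PtTop

namespace Groth.Agent.S7555

open Set TopologicalSpace

/-- Let f : X → X be a surjective continuous self-map of a Hausdorff topological space with f ≠ id. Then
there is a closed subset E ⊊ X such that X = E ∪ f(E). -/
theorem result {X : Type u} [TopologicalSpace X] [T2Space X]
    (f : X → X) (hf : Continuous f) (hsurj : Function.Surjective f) (hne : f ≠ id) :
    ∃ E : Set X, IsClosed E ∧ E ≠ Set.univ ∧ E ∪ f '' E = Set.univ := by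
  obtain ⟨x, hx⟩ := Function.ne_iff.mp hne
  obtain ⟨U, V, hU, hV, hxU, hxV, hUV⟩ := t2_separation (Ne.symm hx)
  refine ⟨(U ∩ f ⁻¹' V)ᶜ, (hU.inter (hV.preimage hf)).isClosed_compl,
    fun h => (eq_univ_iff_forall.mp h x) ⟨hxU, hxV⟩, eq_univ_iff_forall.mpr fun w => ?_⟩
  by_cases hw : w ∈ U ∩ f ⁻¹' V
  · obtain ⟨z, hz⟩ := hsurj w
    exact Or.inr ⟨z, fun hzW => Set.disjoint_left.mp hUV hw.1 (hz ▸ hzW.2), hz⟩
  · exact Or.inl hw

end Groth.Agent.S7555
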