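import Groth.Statements.S7556
import Mathlib

set_option autoImplicit false
universe u
open PtTop

namespace Groth.Agent.S7556

/-- Let X be a quasi-compact Hausdorff space. There is a continuous surjection p : X' → X with X'
quasi-compact, Hausdorff and extremally disconnected such that no proper closed subset of X' maps
onto X; and if q : X'' → X is a second cover with the same properties, there is a homeomorphism X' ≃
X'' compatible with p and q. -/
theorem result (X : Type u) [TopologicalSpace X] [CompactSpace X] [T2Space X] :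
    (∃ (X' : Type u) (_ : TopologicalSpace X') (_ : CompactSpace X') (_ : T2Space X') (_ : ExtremallyDisconnected X')
        (p : X' → X), Continuous p ∧ Function.Surjective p ∧
        ∀ E : Set X', IsClosed E → E ≠ Set.univ → p '' E ≠ Set.univ) ∧
    (∀ (X' X'' : Type u) [TopologicalSpace X'] [CompactSpace X'] [T2Space X'] [ExtremallyDisconnected X']
        [TopologicalSpace X''] [CompactSpace X''] [T2Space X''] [ExtremallyDisconnected X'']
        (p : X' → X) (q : X'' → X),
        Continuous p → Function.Surjective p → (∀ E : Set X', IsClosed E → E ≠ Set.univ → p '' E ≠ Set.univ) →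
        Continuous q → Function.Surjective q → (∀ E : Set X'', IsClosed E → E ≠ Set.univ → q '' E ≠ Set.univ) →
        ∃ h : X' ≃ₜ X'', q ∘ h = p) := by
  classical
  have rigid : ∀ {Y : Type u} [TopologicalSpace Y] [CompactSpace Y] [T2Space Y] (p : Y → X),
      Continuous p → Function.Surjective p →
      (∀ E : Set Y, IsClosed E → E ≠ Set.univ → p '' E ≠ Set.univ) →
      ∀ s : Y → Y, Continuous s → p ∘ s = p → s = id := by
    intro Y _ _ _ p hp hps hmin s hs hsp
    funext x
    by_contra hne
    obtain ⟨G, H, hG, hH, hxG, hsH, hGH⟩ := t2_separation (Ne.symm hne)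
    have hUo : IsOpen (G ∩ s ⁻¹' H) := hG.inter (hH.preimage hs)
    have := hmin _ hUo.isClosed_compl (by
      rw [Set.compl_ne_univ]; exact ⟨x, hxG, hsH⟩)
    obtain ⟨b, hb⟩ := (Set.ne_univ_iff_exists_notMem _).mp this
    obtain ⟨y, rfl⟩ := hps b
    have hfib : ∀ y', p y' = p y → y' ∈ G ∩ s ⁻¹' H := fun y' h => by
      by_contra hn; exact hb ⟨y', hn, h⟩
    exact Set.disjoint_left.mp hGH (hfib (s y) (congrFun hsp y)).1 (hfib y rfl).2
  refine ⟨?_, ?_⟩
  · let Xd := Σ _ : X, PUnit.{u + 1}
    let top : TopologicalSpace Xd := ⊥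
    have : DiscreteTopology Xd := ⟨rfl⟩
    have hc : Continuous (Sigma.fst : Xd → X) := continuous_of_discreteTopology
    let π : StoneCech Xd → X := stoneCechExtend hc
    have hπ : Continuous π := continuous_stoneCechExtend hc
    have hπs : Function.Surjective π := fun x =>
      ⟨stoneCechUnit ⟨x, PUnit.unit⟩, congrFun (stoneCechExtend_extends hc) ⟨x, PUnit.unit⟩⟩
    obtain ⟨E, hE, hEimg, hEmin⟩ := exists_compact_surjective_zorn_subset hπ hπs
    let p : E → X := E.domRestrict π
    have hp : Continuous p := hπ.comp continuous_subtype_val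
    have hps : Function.Surjective p := fun x => by
      obtain ⟨d, hd, rfl⟩ := (hEimg.symm ▸ Set.mem_univ x : x ∈ π '' E)
      exact ⟨⟨d, hd⟩, rfl⟩
    have hmin : ∀ F : Set E, IsClosed F → F ≠ Set.univ → p '' F ≠ Set.univ :=
      fun F h1 h2 => hEmin F h2 h1
    obtain ⟨r, hr, hpr⟩ := StoneCech.projective (X := Xd) hπ hp hps
    have hrE : r ∘ (Subtype.val : E → StoneCech Xd) = id :=
      rigid p hp hps hmin _ (hr.comp continuous_subtype_val) (by
        funext e; exact congrFun hpr e.1)
    have hproj : CompactT2.Projective E := by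
      intro Y Z _ _ _ _ _ _ f g hf hg hgs
      obtain ⟨h, hh, hgh⟩ := StoneCech.projective (X := Xd) (hf.comp hr) hg hgs
      refine ⟨h ∘ Subtype.val, hh.comp continuous_subtype_val, ?_⟩
      funext e
      exact (congrFun hgh e.1).trans (congrArg f (congrFun hrE e))
    exact ⟨E, inferInstance, hE, inferInstance, hproj.extremallyDisconnected, p, hp, hps, hmin⟩
  · intro X' X'' _ _ _ _ _ _ _ _ p q hp hps hpm hq hqs hqm
    obtain ⟨h, hh, hqh⟩ := (CompactT2.ExtremallyDisconnected.projective (A := X')) hp hq hqs
    obtain ⟨k, hk, hpk⟩ := (CompactT2.ExtremallyDisconnected.projective (A := X'')) hq hp hps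
    have h1 : k ∘ h = id := rigid p hp hps hpm _ (hk.comp hh) (by
      rw [← Function.comp_assoc, hpk, hqh])
    have h2 : h ∘ k = id := rigid q hq hqs hqm _ (hh.comp hk) (by
      rw [← Function.comp_assoc, hqh, hpk])
    exact ⟨{ toFun := h, invFun := k, left_inv := congrFun h1, right_inv := congrFun h2,
             continuous_toFun := hh, continuous_invFun := hk }, hqh⟩

end Groth.Agent.S7556
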