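import Groth.Statements.S7558
import Mathlib.Algebra.Category.Ring.Colimits
import Mathlib.Topology.Category.TopCommRingCat

set_option autoImplicit false
universe u
open CategoryTheory CategoryTheory.Limits
open PtTop

namespace Groth.Agent.S7558

section
variable {J : Type u} [SmallCategory J] (F : J ⥤ TopCommRingCat.{u})

/-- the underlying diagram of rings -/
noncomputable abbrev U : J ⥤ CommRingCat.{u} := F ⋙ forget₂ TopCommRingCat.{u} CommRingCat.{u}

/-- ring topologies making all structure maps continuous -/
def admissible : Set (RingTopology (colimit (U F) : CommRingCat.{u})) :=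
  {b | ∀ j, (F.obj j).isTopologicalSpace.coinduced ⇑(colimit.ι (U F) j).hom ≤ b.toTopologicalSpace}

noncomputable def pt : TopCommRingCat.{u} :=
  @TopCommRingCat.of (colimit (U F) : CommRingCat.{u}) _ (sInf (admissible F)).toTopologicalSpace
    (sInf (admissible F)).toIsTopologicalRing

noncomputable def cocone : Cocone F where
  pt := pt F
  ι :=
    { app := fun j => ⟨(colimit.ι (U F) j).hom, continuous_iff_coinduced_le.2 (by
          change _ ≤ (sInf (admissible F)).toTopologicalSpace
          refine continuous_iff_coinduced_le.1 (continuous_sInf_rng.2 ?_)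
          exact Set.forall_mem_image.2 fun b hb => continuous_iff_coinduced_le.2 (hb j))⟩
      naturality := fun i j f => Subtype.ext
        (congrArg CommRingCat.Hom.hom (colimit.w (U F) f)) }

noncomputable def descHom (s : Cocone F) : (colimit (U F) : CommRingCat.{u}) →+* s.pt :=
  (colimit.desc (U F) ((forget₂ TopCommRingCat.{u} CommRingCat.{u}).mapCocone s)).hom

lemma descHom_continuous (s : Cocone F) :
    @Continuous _ _ (sInf (admissible F)).toTopologicalSpace s.pt.isTopologicalSpace (descHom F s) := by
  let b : RingTopology (colimit (U F) : CommRingCat.{u}) :=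
    { toTopologicalSpace := s.pt.isTopologicalSpace.induced (descHom F s)
      toIsTopologicalRing :=
        @IsTopologicalSemiring.toIsTopologicalRing _ (s.pt.isTopologicalSpace.induced (descHom F s)) _
          (@IsTopologicalSemiring.mk _ (s.pt.isTopologicalSpace.induced (descHom F s)) _
            (continuousAdd_induced (descHom F s).toAddMonoidHom)
            (continuousMul_induced (descHom F s))) }
  have hb : b ∈ admissible F := fun j => by
    refine continuous_iff_coinduced_le.1 ?_
    refine continuous_induced_rng.2 ?_
    have h := congrArg CommRingCat.Hom.hom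
      (colimit.ι_desc ((forget₂ TopCommRingCat.{u} CommRingCat.{u}).mapCocone s) j)
    have e : (⇑(descHom F s) ∘ ⇑(colimit.ι (U F) j).hom : (F.obj j).α → s.pt.α) = ⇑(s.ι.app j).1 :=
      funext fun x => RingHom.congr_fun h x
    exact (congrArg (fun φ : (F.obj j).α → s.pt.α => Continuous φ) e).mpr (s.ι.app j).2
  refine continuous_iff_le_induced.2 ?_
  exact (sInf_le hb : sInf (admissible F) ≤ b)

noncomputable def isColimit : IsColimit (cocone F) where
  desc s := ⟨descHom F s, descHom_continuous F s⟩
  fac s j := Subtype.ext (congrArg CommRingCat.Hom.hom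
    (colimit.ι_desc ((forget₂ TopCommRingCat.{u} CommRingCat.{u}).mapCocone s) j))
  uniq s m hm := Subtype.ext (congrArg CommRingCat.Hom.hom
    (colimit.hom_ext (f := CommRingCat.ofHom m.1)
      (f' := CommRingCat.ofHom (descHom F s)) fun j =>
      (CommRingCat.hom_ext (congrArg Subtype.val (hm j))).trans
        (colimit.ι_desc ((forget₂ TopCommRingCat.{u} CommRingCat.{u}).mapCocone s) j).symm))

end

/-- The category of topological rings (commutative, with continuous ring homomorphisms) has colimits,
and colimits commute with the forgetful functor to rings. -/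
theorem result :
    HasColimits TopCommRingCat.{u} ∧
    PreservesColimits (forget₂ TopCommRingCat.{u} CommRingCat.{u}) := by
  refine ⟨⟨fun J _ => ⟨fun F => ⟨⟨⟨cocone F, isColimit F⟩⟩⟩⟩⟩, ⟨fun {J} _ => ⟨fun {F} => ?_⟩⟩⟩
  exact preservesColimit_of_preserves_colimit_cocone (isColimit F)
    ((colimit.isColimit (U F)).ofIsoColimit (Cocone.ext (Iso.refl _) (fun j => by
      exact Category.comp_id _)))

end Groth.Agent.S7558
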