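import Groth.Statements.S7559
import Mathlib

set_option autoImplicit false
universe u
open PtTop

namespace Groth.Agent.S7559

open Set TopologicalSpace

/-- Let X be a topological space and X = ∐ P_k a finite partition into locally closed parts. Then there
is a finite stratification of X refining it: a finite partially ordered index set I and pairwise
disjoint locally closed strata S_i covering X with closure(S_j) ⊆ ⋃_{i ≤ j} S_i, such that every
part P_k is a union of strata. -/
theorem result {X : Type u} [TopologicalSpace X]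
    {n : ℕ} (P : Fin n → Set X) (hP : ∀ k, IsLocallyClosed (P k)) (hcov : ⋃ k, P k = Set.univ)
    (hdisj : ∀ k k', k ≠ k' → Disjoint (P k) (P k')) :
    ∃ (I : Type) (_ : Fintype I) (_ : PartialOrder I) (S : I → Set X),
      (∀ i, IsLocallyClosed (S i)) ∧ (⋃ i, S i = Set.univ) ∧ (∀ i j, i ≠ j → Disjoint (S i) (S j)) ∧
      (∀ j, closure (S j) ⊆ ⋃ i ∈ Set.Iic j, S i) ∧
      (∀ i k, (S i ∩ P k).Nonempty → S i ⊆ P k) := by
  classical
  choose U Z hU hZ hUZ using hP
  let G : Fin n ⊕ Fin n → Set X := Sum.elim U fun k => (Z k)ᶜ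
  have hG : ∀ j, IsOpen (G j) := by rintro (k | k); exacts [hU k, (hZ k).isOpen_compl]
  let S : Finset (Fin n ⊕ Fin n) → Set X := fun J => {x | ∀ j, x ∈ G j ↔ j ∈ J}
  refine ⟨Finset (Fin n ⊕ Fin n), inferInstance, inferInstance, S, fun J => ?_, ?_, ?_, fun J => ?_, ?_⟩
  · rw [show S J = (⋂ j ∈ J, G j) ∩ ⋂ j ∈ Jᶜ, (G j)ᶜ by
      ext x
      simp only [S, Set.mem_setOf_eq, mem_inter_iff, mem_iInter, mem_compl_iff, Finset.mem_compl]
      exact ⟨fun h => ⟨fun j hj => (h j).mpr hj, fun j hj h' => hj ((h j).mp h')⟩,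
        fun h j => ⟨fun h' => by_contra fun hj => h.2 j hj h', h.1 j⟩⟩]
    exact (isOpen_biInter_finset fun j _ => hG j).isLocallyClosed.inter
      (isClosed_biInter fun j _ => (hG j).isClosed_compl).isLocallyClosed
  · refine eq_univ_iff_forall.mpr fun x => mem_iUnion.mpr
      ⟨Finset.univ.filter fun j => x ∈ G j, fun j => by simp⟩
  · intro I J hIJ
    exact Set.disjoint_left.mpr fun x hI hJ => hIJ (Finset.ext fun j => (hI j).symm.trans (hJ j))
  · intro x hx
    refine mem_iUnion₂.mpr ⟨Finset.univ.filter fun j => x ∈ G j, ?_, fun j => by simp⟩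
    intro j hj
    simp only [Finset.mem_filter, Finset.mem_univ, true_and] at hj
    obtain ⟨z, hz, hzS⟩ := mem_closure_iff.mp hx _ (hG j) hj
    exact (hzS j).mp hz
  · rintro J k ⟨x, hxS, hxP⟩ y hy
    rw [hUZ k] at hxP ⊢
    have h1 := (hxS (Sum.inl k)).trans (hy (Sum.inl k)).symm
    have h2 := not_congr ((hxS (Sum.inr k)).trans (hy (Sum.inr k)).symm)
    simp only [G, Sum.elim_inl, Sum.elim_inr, mem_compl_iff, not_not] at h1 h2
    exact ⟨h1.mp hxP.1, h2.mp hxP.2⟩

end Groth.Agent.S7559
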