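import Groth.Statements.S7560
import Mathlib
import Groth.Agent.ConstrTop.Basic

set_option autoImplicit false
universe u
open ConstrTop

namespace Groth.Agent.S7560

open Set Groth.Agent.ConstrTop.Basic

/-- Let X be a topological space written as a finite union X = T_1 ∪ … ∪ T_n of constructible subsets.
Then there is a finite stratification X = ∐ S_i (pairwise disjoint locally closed strata indexed by
a finite partially ordered set, with closure(S_j) ⊆ ⋃_{i ≤ j} S_i) whose strata are constructible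
and such that every T_k is a union of strata. -/
theorem result {X : Type u} [TopologicalSpace X]
    {n : ℕ} (T : Fin n → Set X) (hT : ∀ k, Topology.IsConstructible (T k)) (hcov : ⋃ k, T k = Set.univ) :
    ∃ (I : Type) (_ : Fintype I) (_ : PartialOrder I) (S : I → Set X),
      (∀ i, IsLocallyClosed (S i) ∧ Topology.IsConstructible (S i)) ∧ (⋃ i, S i = Set.univ) ∧
      (∀ i j, i ≠ j → Disjoint (S i) (S j)) ∧
      (∀ j, closure (S j) ⊆ ⋃ i ∈ Set.Iic j, S i) ∧
      (∀ i k, (S i ∩ T k).Nonempty → S i ⊆ T k) := by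
  classical
  have gen : ∀ k, ∃ G : Finset (Set X), (∀ U ∈ G, IsOpen U ∧ IsRetrocompact U) ∧
      ∀ x y, (∀ U ∈ G, x ∈ U ↔ y ∈ U) → (x ∈ T k ↔ y ∈ T k) := by
    intro k
    have hk := hT k
    generalize T k = A at hk ⊢
    induction hk using Topology.IsConstructible.empty_union_induction with
    | open_retrocompact U hU hUr =>
      exact ⟨{U}, by simp [hU, hUr], fun x y h => h U (Finset.mem_singleton_self U)⟩
    | union s hs t ht hs' ht' =>
      obtain ⟨G, hG, hG'⟩ := hs'
      obtain ⟨G', hH, hH'⟩ := ht'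
      refine ⟨G ∪ G', fun U hU => (Finset.mem_union.mp hU).elim (hG U) (hH U), fun x y h => ?_⟩
      exact or_congr (hG' x y fun U hU => h U (Finset.mem_union_left _ hU))
        (hH' x y fun U hU => h U (Finset.mem_union_right _ hU))
    | compl s hs hs' =>
      obtain ⟨G, hG, hG'⟩ := hs'
      exact ⟨G, hG, fun x y h => not_congr (hG' x y h)⟩
  choose G hG hGT using gen
  set F := Finset.univ.biUnion G with hF
  obtain ⟨e⟩ : Nonempty (Fin F.card ≃ F) := ⟨F.equivFin.symm⟩
  set U : Fin F.card → Set X := fun j => (e j).1 with hUdef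
  have hU : ∀ j, IsOpen (U j) ∧ IsRetrocompact (U j) := fun j => by
    obtain ⟨k, _, hk⟩ := Finset.mem_biUnion.mp (e j).2
    exact hG k _ hk
  set S : Finset (Fin F.card) → Set X := fun J => {x | ∀ j, x ∈ U j ↔ j ∈ J} with hS
  have hSeq : ∀ J, S J = (⋂ j ∈ J, U j) ∩ ⋂ j ∈ Jᶜ, (U j)ᶜ := fun J => by
    ext x
    simp only [hS, Set.mem_setOf_eq, mem_inter_iff, mem_iInter, mem_compl_iff, Finset.mem_compl]
    exact ⟨fun h => ⟨fun j hj => (h j).mpr hj, fun j hj h' => hj ((h j).mp h')⟩,
      fun h j => ⟨fun h' => by_contra fun hj => h.2 j hj h', h.1 j⟩⟩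
  refine ⟨Finset (Fin F.card), inferInstance, inferInstance, S, fun J => ?_, ?_, ?_, fun J => ?_, ?_⟩
  · rw [hSeq]
    exact ⟨(isOpen_biInter_finset fun j _ => (hU j).1).isLocallyClosed.inter
        (isClosed_biInter fun j _ => (hU j).1.isClosed_compl).isLocallyClosed,
      (Topology.IsConstructible.biInter J.finite_toSet fun j _ => (hU j).2.isConstructible (hU j).1).inter
        (Topology.IsConstructible.biInter Jᶜ.finite_toSet fun j _ =>
          ((hU j).2.isConstructible (hU j).1).compl)⟩
  · refine eq_univ_iff_forall.mpr fun x => mem_iUnion.mpr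
      ⟨Finset.univ.filter fun j => x ∈ U j, fun j => by simp⟩
  · intro I J hIJ
    exact Set.disjoint_left.mpr fun x hI hJ => hIJ (Finset.ext fun j => (hI j).symm.trans (hJ j))
  · intro x hx
    refine mem_iUnion₂.mpr ⟨Finset.univ.filter fun j => x ∈ U j, ?_, fun j => by simp⟩
    intro j hj
    simp only [Finset.mem_filter, Finset.mem_univ, true_and] at hj
    obtain ⟨z, hz, hzS⟩ := mem_closure_iff.mp hx _ (hU j).1 hj
    exact (hzS j).mp hz
  · rintro J k ⟨x, hxS, hxT⟩ y hy
    refine (hGT k x y fun V hV => ?_).mp hxT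
    have h := (hxS (e.symm ⟨V, Finset.mem_biUnion.mpr ⟨k, Finset.mem_univ _, hV⟩⟩)).trans
      (hy (e.symm ⟨V, Finset.mem_biUnion.mpr ⟨k, Finset.mem_univ _, hV⟩⟩)).symm
    simpa [hUdef] using h

end Groth.Agent.S7560
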