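import Groth.Statements.S7561
import Mathlib

set_option autoImplicit false
universe u
open PtTop

namespace Groth.Agent.S7561

open Set TopologicalSpace

/-- Let X be a Noetherian topological space and X = ∐ P_k a finite partition into locally closed parts.
Then it is refined by a finite good stratification: a finite partition X = ∐ S_i into locally closed
strata such that S_i ∩ closure(S_j) ≠ ∅ implies S_i ⊆ closure(S_j), with every P_k a union of
strata. -/
theorem result {X : Type u} [TopologicalSpace X]
    [TopologicalSpace.NoetherianSpace X]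
    {n : ℕ} (P : Fin n → Set X) (hP : ∀ k, IsLocallyClosed (P k)) (hcov : ⋃ k, P k = Set.univ)
    (hdisj : ∀ k k', k ≠ k' → Disjoint (P k) (P k')) :
    ∃ (m : ℕ) (S : Fin m → Set X),
      (∀ i, IsLocallyClosed (S i)) ∧ (⋃ i, S i = Set.univ) ∧ (∀ i j, i ≠ j → Disjoint (S i) (S j)) ∧
      (∀ i j, (S i ∩ closure (S j)).Nonempty → S i ⊆ closure (S j)) ∧
      (∀ i k, (S i ∩ P k).Nonempty → S i ⊆ P k) := by
  classical
  suffices main : ∀ C : Closeds X, ∀ (F : Finset (Closeds X)),
      ∃ (m : ℕ) (S : Fin m → Set X), (∀ i, IsLocallyClosed (S i)) ∧ (⋃ i, S i = (C : Set X)) ∧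
        (∀ i j, i ≠ j → Disjoint (S i) (S j)) ∧
        (∀ i j, (S i ∩ closure (S j)).Nonempty → S i ⊆ closure (S j)) ∧
        (∀ i, ∀ W ∈ F, (S i ∩ (W : Set X)).Nonempty → S i ⊆ W) by
    choose U Z hU hZ hUZ using hP
    obtain ⟨m, S, h1, h2, h3, h4, h5⟩ := main ⊤
      ((Finset.univ.image fun k => (⟨(U k)ᶜ, (hU k).isClosed_compl⟩ : Closeds X)) ∪
        Finset.univ.image fun k => (⟨Z k, hZ k⟩ : Closeds X))
    refine ⟨m, S, h1, by rw [h2]; rfl, h3, h4, fun i k ⟨x, hxS, hxP⟩ y hy => ?_⟩
    rw [hUZ k] at hxP ⊢
    refine ⟨by_contra fun hyU => ?_, h5 i ⟨Z k, hZ k⟩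
      (Finset.mem_union_right _ (Finset.mem_image_of_mem _ (Finset.mem_univ k))) ⟨x, hxS, hxP.2⟩ hy⟩
    exact h5 i ⟨(U k)ᶜ, (hU k).isClosed_compl⟩
      (Finset.mem_union_left _ (Finset.mem_image_of_mem _ (Finset.mem_univ k))) ⟨y, hy, hyU⟩ hxS hxP.1
  intro C
  induction C using WellFoundedLT.induction with
  | _ C ih =>
    intro F
    rcases (C : Set X).eq_empty_or_nonempty with he | ⟨c, hc⟩
    · exact ⟨0, fun i => i.elim0, fun i => i.elim0, by rw [he]; simp, fun i => i.elim0, fun i => i.elim0,
        fun i => i.elim0⟩
    · obtain ⟨o, ho, hone, hoY⟩ := NoetherianSpace.exists_isOpen_nonempty_subset_irreducibleComponent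
        (irreducibleComponent (⟨c, hc⟩ : (C : Set X))) (irreducibleComponent_mem_irreducibleComponents _)
      set Y : Closeds X := ⟨closure (Subtype.val '' irreducibleComponent (⟨c, hc⟩ : (C : Set X))),
        isClosed_closure⟩ with hY
      have hYi : IsIrreducible (Y : Set X) :=
        (isIrreducible_irreducibleComponent.image _ continuous_subtype_val.continuousOn).closure
      obtain ⟨o', ho', rfl⟩ := isOpen_induced_iff.mp ho
      set T : Finset (Closeds X) := F.filter fun W => ¬ (Y : Set X) ⊆ W with hT
      set W : Set X := o' ∩ ⋂ V ∈ T, ((V : Closeds X) : Set X)ᶜ with hWdef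
      have hW : IsOpen W := ho'.inter (isOpen_biInter_finset fun V _ => V.isClosed.isOpen_compl)
      have hWC : W ∩ (C : Set X) ⊆ Y := fun z hz =>
        subset_closure ⟨⟨z, hz.2⟩, hoY hz.1.1, rfl⟩
      have hYC : (Y : Set X) ⊆ C := closure_minimal (by rintro _ ⟨z, _, rfl⟩; exact z.2) C.isClosed
      have hne : (W ∩ (C : Set X)).Nonempty := by
        obtain ⟨z, hz⟩ := hone
        have hall : ∀ T' : Finset (Closeds X), T' ⊆ T →
            ((Y : Set X) ∩ (o' ∩ ⋂ V ∈ T', ((V : Closeds X) : Set X)ᶜ)).Nonempty := by
          intro T'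
          induction T' using Finset.induction_on with
          | empty =>
            intro _
            exact ⟨z, subset_closure ⟨z, hoY hz, rfl⟩, hz, by simp⟩
          | @insert V T' _ ihT =>
            intro hsub
            obtain ⟨y, hyY, hyV⟩ := Set.not_subset.mp
              (Finset.mem_filter.mp (hsub (Finset.mem_insert_self V T'))).2
            obtain ⟨w, hwY, hwT, hwV⟩ := hYi.isPreirreducible _ _
              (ho'.inter (isOpen_biInter_finset fun V _ => V.isClosed.isOpen_compl)) V.isClosed.isOpen_compl
              (ihT fun a ha => hsub (Finset.mem_insert_of_mem ha)) ⟨y, hyY, hyV⟩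
            refine ⟨w, hwY, hwT.1, ?_⟩
            rw [Finset.set_biInter_insert]
            exact ⟨hwV, hwT.2⟩
        obtain ⟨w, hwY, hw⟩ := hall T subset_rfl
        exact ⟨w, hw, hYC hwY⟩
      have hYW : (Y : Set X) = closure (W ∩ (C : Set X)) := by
        refine Subset.antisymm ?_ (closure_minimal hWC Y.isClosed)
        obtain ⟨w, hw⟩ := hne
        exact (subset_closure_inter_of_isPreirreducible_of_isOpen hYi.isPreirreducible hW
          ⟨w, hWC hw, hw.1⟩).trans (closure_mono fun z hz => ⟨hz.2, hYC hz.1⟩)
      obtain ⟨m, S, h1, h2, h3, h4, h5⟩ := ih ⟨(C : Set X) \ W, C.isClosed.sdiff hW⟩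
        (show (_ : Set X) ⊂ _ from ⟨sdiff_subset, fun h => by
          obtain ⟨w, hwW, hwC⟩ := hne
          exact (h hwC).2 hwW⟩) (insert Y F)
      have hSsub : ∀ i, S i ⊆ (C : Set X) \ W := fun i => (subset_iUnion S i).trans h2.subset
      refine ⟨m + 1, Fin.cons (W ∩ (C : Set X)) S, ?_, ?_, ?_, ?_, ?_⟩
      · intro i
        induction i using Fin.cases with
        | zero => exact hW.isLocallyClosed.inter C.isClosed.isLocallyClosed
        | succ i => simpa using h1 i
      · ext z
        simp only [mem_iUnion, Fin.exists_fin_succ, Fin.cons_zero, Fin.cons_succ]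
        have h2' : (∃ i, z ∈ S i) ↔ z ∈ (C : Set X) ∧ z ∉ W := by
          rw [← mem_iUnion, h2]; rfl
        rw [h2']
        simp only [mem_inter_iff]
        tauto
      · intro i j hij
        induction i using Fin.cases with
        | zero =>
          induction j using Fin.cases with
          | zero => exact absurd rfl hij
          | succ j =>
            simp only [Fin.cons_zero, Fin.cons_succ]
            exact Set.disjoint_left.mpr fun z hz hz' => (hSsub j hz').2 hz.1
        | succ i =>
          induction j using Fin.cases with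
          | zero =>
            simp only [Fin.cons_zero, Fin.cons_succ]
            exact Set.disjoint_left.mpr fun z hz hz' => (hSsub i hz).2 hz'.1
          | succ j =>
            simp only [Fin.cons_succ]
            exact h3 i j fun h => hij (congrArg Fin.succ h)
      · intro i j
        induction i using Fin.cases with
        | zero =>
          induction j using Fin.cases with
          | zero => exact fun _ => subset_closure
          | succ j =>
            simp only [Fin.cons_zero, Fin.cons_succ]
            rintro ⟨z, hz, hz'⟩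
            exact absurd hz.1 (closure_minimal (hSsub j) (C.isClosed.sdiff hW) hz').2
        | succ i =>
          induction j using Fin.cases with
          | zero =>
            simp only [Fin.cons_zero, Fin.cons_succ, ← hYW]
            exact h5 i Y (Finset.mem_insert_self _ _)
          | succ j => simp only [Fin.cons_succ]; exact h4 i j
      · intro i V hV
        induction i using Fin.cases with
        | zero =>
          simp only [Fin.cons_zero]
          rintro ⟨z, hz, hzV⟩
          by_cases hYV : (Y : Set X) ⊆ V
          · exact hWC.trans hYV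
          · exact absurd hzV (mem_iInter₂.mp hz.1.2 V (Finset.mem_filter.mpr ⟨hV, hYV⟩))
        | succ i => simp only [Fin.cons_succ]; exact h5 i V (Finset.mem_insert_of_mem hV)

end Groth.Agent.S7561
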