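import Groth.Statements.S7562
import Mathlib

set_option autoImplicit false
universe u
open PtTop

namespace Groth.Agent.S7562

open Set TopologicalSpace

/-- Let f : X → Y be a surjective closed continuous map of topological spaces and T ⊆ Y. Then the
closure of T equals f applied to the closure of f⁻¹(T), and T is locally closed in Y if and only if
f⁻¹(T) is locally closed in X. The published statement also asserts that Y carries the quotient
topology of X; this row states the closure formula and the locally-closed equivalence only. -/
theorem result {X Y : Type u} [TopologicalSpace X] [TopologicalSpace Y]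
    (f : X → Y) (hf : Continuous f) (hc : IsClosedMap f) (hs : Function.Surjective f) (T : Set Y) :
    closure T = f '' closure (f ⁻¹' T) ∧ (IsLocallyClosed T ↔ IsLocallyClosed (f ⁻¹' T)) := by
  have h1 : ∀ T : Set Y, closure T = f '' closure (f ⁻¹' T) := fun T =>
    Subset.antisymm (closure_minimal (fun y hy => by
      obtain ⟨x, rfl⟩ := hs y; exact ⟨x, subset_closure hy, rfl⟩) (hc _ isClosed_closure))
      ((image_closure_subset_closure_image hf).trans (closure_mono (image_preimage_subset f T)))
  refine ⟨h1 T, fun h => h.preimage hf, fun h => ?_⟩
  rw [isLocallyClosed_iff_isOpen_coborder] at h ⊢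
  rw [← isClosed_compl_iff] at h ⊢
  simp only [coborder, compl_compl] at h ⊢
  rw [show closure T \ T = f '' (closure (f ⁻¹' T) \ f ⁻¹' T) by rw [h1 T, image_sdiff_preimage]]
  exact hc _ h

end Groth.Agent.S7562
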