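import Groth.Statements.S7563
import Mathlib.Topology.Irreducible

set_option autoImplicit false
universe u
open PtTop

namespace Groth.Agent.S7563

/-- Let X be a topological space and X = X_1 ∪ … ∪ X_n with each X_i irreducible and closed and no X_i
contained in the union of the others. Then the irreducible components of X are precisely the sets
X_1, …, X_n. -/
theorem result {X : Type u} [TopologicalSpace X]
    {n : ℕ} (Z : Fin n → Set X) (hZ : ∀ i, IsIrreducible (Z i) ∧ IsClosed (Z i))
    (hcov : ⋃ i, Z i = Set.univ) (hirr : ∀ i, ¬ Z i ⊆ ⋃ j ∈ ({i}ᶜ : Set (Fin n)), Z j) :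
    irreducibleComponents X = Set.range Z := by
  have key : ∀ (t : Set X), IsIrreducible t → ∃ i, t ⊆ Z i := by
    intro t ht
    obtain ⟨s, hs, hts⟩ := isIrreducible_iff_sUnion_isClosed.1 ht (Finset.univ.image Z) (by
      simp only [Finset.mem_image, Finset.mem_univ, true_and, forall_exists_index, forall_apply_eq_imp_iff]
      exact fun i => (hZ i).2) (by simp [Set.sUnion_range, hcov])
    obtain ⟨i, -, rfl⟩ := Finset.mem_image.1 hs
    exact ⟨i, hts⟩
  have hinj : ∀ i j, Z i ⊆ Z j → i = j := fun i j hij => by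
    by_contra hne
    exact hirr i (hij.trans (Set.subset_biUnion_of_mem (u := Z) (show j ∈ ({i}ᶜ : Set _) from Ne.symm hne)))
  ext t
  constructor
  · intro ht
    obtain ⟨i, hi⟩ := key t ht.1
    exact ⟨i, le_antisymm (ht.2 (hZ i).1 hi) hi⟩
  · rintro ⟨i, rfl⟩
    refine ⟨(hZ i).1, fun t ht hit => ?_⟩
    obtain ⟨j, hj⟩ := key t ht
    obtain rfl := hinj i j (hit.trans hj)
    exact hj

end Groth.Agent.S7563
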