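import Groth.Statements.S7564
import Mathlib.Topology.Irreducible

set_option autoImplicit false
universe u
open PtTop

namespace Groth.Agent.S7564

/-- For a continuous surjection f : X → Y, if X has finitely many irreducible components, say n of them,
then Y has at most n irreducible components. -/
theorem result {X Y : Type u} [TopologicalSpace X] [TopologicalSpace Y]
    (f : X → Y) (hf : Continuous f) (hs : Function.Surjective f) (hfin : (irreducibleComponents X).Finite) :
    (irreducibleComponents Y).Finite ∧ (irreducibleComponents Y).ncard ≤ (irreducibleComponents X).ncard := by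
  classical
  have hclosed : ∀ C ∈ irreducibleComponents X, IsIrreducible (closure (f '' C)) := fun C hC =>
    (hC.1.image f hf.continuousOn).closure
  let F : Set X → Set Y := fun C => closure (f '' C)
  have hsub : irreducibleComponents Y ⊆ F '' irreducibleComponents X := by
    intro t ht
    obtain ⟨s, hs, hts⟩ := isIrreducible_iff_sUnion_isClosed.1 ht.1 (hfin.toFinset.image F) (by
      simp only [Finset.mem_image, Set.Finite.mem_toFinset, forall_exists_index, and_imp, forall_apply_eq_imp_iff₂]
      exact fun _ _ => isClosed_closure) (by
      intro y _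
      obtain ⟨x, rfl⟩ := hs y
      obtain ⟨C, hC, hxC⟩ : ∃ C ∈ irreducibleComponents X, x ∈ C :=
        ⟨irreducibleComponent x, irreducibleComponent_mem_irreducibleComponents x, mem_irreducibleComponent⟩
      exact Set.mem_sUnion.2 ⟨F C, by simp; exact ⟨C, hC, rfl⟩, subset_closure ⟨x, hxC, rfl⟩⟩)
    simp only [Finset.mem_image, Set.Finite.mem_toFinset] at hs
    obtain ⟨C, hC, rfl⟩ := hs
    exact ⟨C, hC, le_antisymm (ht.2 (hclosed C hC) hts) hts⟩
  exact ⟨(hfin.image F).subset hsub, (Set.ncard_le_ncard hsub (hfin.image F)).trans (Set.ncard_image_le hfin)⟩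

end Groth.Agent.S7564
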