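import Groth.Statements.S7567
import Mathlib

set_option autoImplicit false
universe u
open PtTop

namespace Groth.Agent.S7567

open Set TopologicalSpace

theorem comp_eq {X : Type u} [TopologicalSpace X] [CompactSpace X] [PrespectralSpace X] [QuasiSeparatedSpace X] (x : X) :
    connectedComponent x = ⋂₀ {Z : Set X | IsClopen Z ∧ x ∈ Z} := by
  set S := ⋂₀ {Z : Set X | IsClopen Z ∧ x ∈ Z} with hS
  have hSc : IsClosed S := isClosed_sInter fun Z hZ => hZ.1.isClosed
  refine Subset.antisymm (subset_sInter fun Z hZ => hZ.1.connectedComponent_subset hZ.2) ?_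
  refine IsPreconnected.subset_connectedComponent ?_ (mem_sInter.mpr fun Z hZ => hZ.2)
  rw [isPreconnected_iff_subset_of_fully_disjoint_closed hSc]
  intro a b ha hb hab hd
  have mk : ∀ K V : Set X, IsCompact K → IsOpen V → K ⊆ V →
      ∃ V0, IsOpen V0 ∧ IsCompact V0 ∧ K ⊆ V0 ∧ V0 ⊆ V := by
    intro K V hK hV h
    obtain ⟨T, hT, hTV⟩ := PrespectralSpace.isTopologicalBasis.open_eq_sUnion hV
    obtain ⟨t, ht⟩ := hK.elim_finite_subcover (fun s : T => (s : Set X)) (fun s => (hT s.2).1)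
      (by rw [← sUnion_eq_iUnion, ← hTV]; exact h)
    refine ⟨⋃ s ∈ t, (s : Set X), isOpen_biUnion fun s _ => (hT s.2).1,
      t.isCompact_biUnion fun s _ => (hT s.2).2, ht, ?_⟩
    rw [hTV]; exact iUnion₂_subset fun s _ => subset_sUnion_of_mem s.2
  obtain ⟨A, hA, hAc, haA, hAb⟩ := mk (S ∩ a) bᶜ (hSc.inter ha).isCompact hb.isOpen_compl
    fun z hz => Set.disjoint_left.mp hd hz.2
  obtain ⟨B, hB, hBc, hbB, hBa⟩ := mk (S ∩ b) aᶜ (hSc.inter hb).isCompact ha.isOpen_compl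
    fun z hz => Set.disjoint_right.mp hd hz.2
  have hempty : ((A ∪ B)ᶜ ∪ A ∩ B) ∩ S = ∅ := by
    refine eq_empty_iff_forall_notMem.mpr fun z ⟨hz, hzS⟩ => ?_
    rcases hab hzS with h | h
    · exact hz.elim (fun h' => h' (Or.inl (haA ⟨hzS, h⟩))) fun h' => hBa h'.2 h
    · exact hz.elim (fun h' => h' (Or.inr (hbB ⟨hzS, h⟩))) fun h' => hAb h'.1 h
  obtain ⟨t, ht⟩ := ((hA.union hB).isClosed_compl.isCompact.union
    (hAc.inter_of_isOpen hBc hA hB)).elim_finite_subfamily_closed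
      (fun Z : {Z : Set X | IsClopen Z ∧ x ∈ Z} => (Z : Set X)) (fun Z => Z.2.1.isClosed)
      (by rw [← sInter_eq_iInter]; exact hempty)
  set Z := ⋂ W ∈ t, (W : Set X) with hZ
  have hZc : IsClopen Z := isClopen_biInter_finset fun W _ => W.2.1
  have hxZ : x ∈ Z := mem_iInter₂.mpr fun W _ => W.2.2
  have hZ1 : ∀ z ∈ Z, z ∈ A ∪ B := fun z hz => by_contra fun h =>
    eq_empty_iff_forall_notMem.mp ht z ⟨Or.inl h, hz⟩
  have hZ2 : ∀ z ∈ Z, z ∈ A → z ∉ B := fun z hz h h' =>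
    eq_empty_iff_forall_notMem.mp ht z ⟨Or.inr ⟨h, h'⟩, hz⟩
  have hclA : IsClopen (Z ∩ A) := by
    refine ⟨?_, hZc.isOpen.inter hA⟩
    rw [show Z ∩ A = Z \ B from Set.ext fun z => ⟨fun h => ⟨h.1, hZ2 z h.1 h.2⟩,
      fun h => ⟨h.1, (hZ1 z h.1).resolve_right h.2⟩⟩]
    exact hZc.isClosed.sdiff hB
  by_cases hxA : x ∈ A
  · exact Or.inl fun z hz => (hab hz).resolve_right fun h =>
      hAb ((sInter_subset_of_mem (show Z ∩ A ∈ {Z : Set X | IsClopen Z ∧ x ∈ Z} from ⟨hclA, hxZ, hxA⟩)) hz).2 h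
  · have hmem : Z \ (Z ∩ A) ∈ {Z : Set X | IsClopen Z ∧ x ∈ Z} :=
      ⟨hZc.diff hclA, hxZ, fun h => hxA h.2⟩
    exact Or.inr fun z hz => (hab hz).resolve_left fun h => by
      have h' := (sInter_subset_of_mem hmem) hz
      exact h'.2 ⟨h'.1, haA ⟨hz, h⟩⟩


/-- Let X be a quasi-compact topological space whose quasi-compact opens form a basis, any two of them
meeting in a quasi-compact set. For a subset T ⊆ X these two conditions are equivalent: (a) T can be
written as an intersection of clopen subsets of X; (b) T is closed and is a union of connected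
components of X. -/
theorem result {X : Type u} [TopologicalSpace X]
    [CompactSpace X] [PrespectralSpace X] [QuasiSeparatedSpace X] (T : Set X) :
    (∃ S : Set (Set X), (∀ Z ∈ S, IsClopen Z) ∧ T = ⋂₀ S) ↔
      (IsClosed T ∧ ∀ x ∈ T, connectedComponent x ⊆ T) := by
  constructor
  · rintro ⟨S, hS, rfl⟩
    exact ⟨isClosed_sInter fun Z hZ => (hS Z hZ).isClosed,
      fun x hx => subset_sInter fun Z hZ => (hS Z hZ).connectedComponent_subset (hx Z hZ)⟩
  · rintro ⟨hT, hc⟩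
    refine ⟨{Z | IsClopen Z ∧ T ⊆ Z}, fun Z hZ => hZ.1,
      Subset.antisymm (subset_sInter fun Z hZ => hZ.2) fun y hy => ?_⟩
    by_contra hyT
    have hempty : T ∩ ⋂ Z : {Z : Set X | IsClopen Z ∧ y ∈ Z}, (Z : Set X) = ∅ := by
      rw [← sInter_eq_iInter, ← comp_eq y]
      refine eq_empty_iff_forall_notMem.mpr fun z ⟨hzT, hz⟩ => hyT (hc z hzT ?_)
      rw [← connectedComponent_eq hz]; exact mem_connectedComponent
    obtain ⟨t, ht⟩ := hT.isCompact.elim_finite_subfamily_closed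
      (fun Z : {Z : Set X | IsClopen Z ∧ y ∈ Z} => (Z : Set X)) (fun Z => Z.2.1.isClosed) hempty
    exact hy _ ⟨(isClopen_biInter_finset fun W _ => W.2.1).compl, fun z hz hz' =>
      eq_empty_iff_forall_notMem.mp ht z ⟨hz, hz'⟩⟩ (mem_iInter₂.mpr fun W _ => W.2.2)

end Groth.Agent.S7567
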