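import Groth.Statements.S7568
import Mathlib

set_option autoImplicit false
universe u
open PtTop

namespace Groth.Agent.S7568

/-- Let X be a Hausdorff quasi-compact space, X = ⋃ U_i an open covering, p ≥ 0 an integer, and for
every (p+1)-tuple (i_0, …, i_p) an open covering of U_{i_0} ∩ … ∩ U_{i_p} by opens W_{i_0…i_p,k}.
Then there are an open covering X = ⋃_{j ∈ J} V_j and a map α : J → I with closure(V_j) ⊆ U_{α(j)}
such that each V_{j_0} ∩ … ∩ V_{j_p} is contained in W_{α(j_0)…α(j_p),k} for some k. The published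
statement allows a covering of an empty intersection to have no members; this row requires every
covering W_{i_0…i_p} to have at least one member (possibly empty), without which the conclusion
fails. -/
theorem result {X : Type u} [TopologicalSpace X] [CompactSpace X] [T2Space X]
    {ι : Type u} (U : ι → Set X) (hU : ∀ i, IsOpen (U i)) (hcov : ⋃ i, U i = Set.univ) (p : ℕ)
    (W : (Fin (p + 1) → ι) → Set (Set X)) (hWo : ∀ t, ∀ w ∈ W t, IsOpen w)
    (hWc : ∀ t, ⋃₀ W t = ⋂ l, U (t l)) (hWne : ∀ t, (W t).Nonempty) :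
    ∃ (J : Type u) (V : J → Set X) (α : J → ι), (∀ j, IsOpen (V j)) ∧ (⋃ j, V j = Set.univ) ∧
      (∀ j, closure (V j) ⊆ U (α j)) ∧
      (∀ t : Fin (p + 1) → J, ∃ w ∈ W (α ∘ t), (⋂ l, V (t l)) ⊆ w) := by
  classical
  obtain ⟨s, hs⟩ := isCompact_univ.elim_finite_subcover U hU (hcov.ge)
  obtain ⟨v, hv, hvo, hvU⟩ := exists_iUnion_eq_closure_subset (u := fun i : s => U i) (fun i => hU i)
    (fun x => Set.toFinite _) (Set.eq_univ_of_forall fun x => by
      obtain ⟨i, hi, hx⟩ := Set.mem_iUnion₂.mp (hs (Set.mem_univ x))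
      exact Set.mem_iUnion.mpr ⟨⟨i, hi⟩, hx⟩)
  choose a ha using fun x : X => Set.mem_iUnion.mp (hv.symm ▸ Set.mem_univ x)
  let F : X → s → Set X := fun x i => if x ∈ closure (v i) then Set.univ else (closure (v i))ᶜ
  have hG : ∀ (x : X) (t : Fin (p + 1) → s), ∃ w : Set X, IsOpen w ∧ x ∈ w ∧
      (x ∈ ⋂ l, U (t l) → ∃ w' ∈ W (fun l => (t l : ι)), w ⊆ w') := by
    intro x t
    by_cases hx : x ∈ ⋂ l, U (t l)
    · have hx' : x ∈ ⋃₀ W (fun l => (t l : ι)) := by rw [hWc]; exact hx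
      obtain ⟨w, hw, hxw⟩ := hx'
      exact ⟨w, hWo _ w hw, hxw, fun _ => ⟨w, hw, subset_rfl⟩⟩
    · exact ⟨Set.univ, isOpen_univ, trivial, fun h => absurd h hx⟩
  choose G hGo hxG hGW using hG
  refine ⟨X, fun x => v (a x) ∩ (⋂ i, F x i) ∩ ⋂ t, G x t, fun x => (a x : ι), fun x => ?_,
    Set.eq_univ_of_forall fun x => ?_, fun x => ?_, fun t => ?_⟩
  · refine ((hvo _).inter (isOpen_iInter_of_finite fun i => ?_)).inter (isOpen_iInter_of_finite (hGo x))
    simp only [F]
    split_ifs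
    · exact isOpen_univ
    · exact isClosed_closure.isOpen_compl
  · refine Set.mem_iUnion.mpr ⟨x, ⟨ha x, Set.mem_iInter.mpr fun i => ?_⟩, Set.mem_iInter.mpr (hxG x)⟩
    simp only [F]
    split_ifs with h
    · trivial
    · exact h
  · exact (closure_mono (Set.inter_subset_left.trans Set.inter_subset_left)).trans (hvU (a x))
  · by_cases hne : (⋂ l, v (a (t l)) ∩ (⋂ i, F (t l) i) ∩ ⋂ t', G (t l) t').Nonempty
    · obtain ⟨y, hy⟩ := hne
      rw [Set.mem_iInter] at hy
      have hx : t 0 ∈ ⋂ l, U ((fun l => a (t l)) l) := by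
        refine Set.mem_iInter.mpr fun l => hvU _ ?_
        by_contra hn
        have := Set.mem_iInter.mp (hy 0).1.2 (a (t l))
        simp only [F, if_neg hn] at this
        exact this (subset_closure (hy l).1.1)
      obtain ⟨w, hw, hsub⟩ := hGW (t 0) (fun l => a (t l)) hx
      exact ⟨w, hw, fun z hz => hsub (Set.mem_iInter.mp ((Set.mem_iInter.mp hz 0).2) _)⟩
    · obtain ⟨w, hw⟩ := hWne ((fun x => (a x : ι)) ∘ t)
      exact ⟨w, hw, fun z hz => absurd ⟨z, hz⟩ hne⟩

end Groth.Agent.S7568
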