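import Groth.Statements.S7569
import Mathlib

set_option autoImplicit false
universe u
open PtTop

namespace Groth.Agent.S7569

/-- Let X be a Hausdorff, locally quasi-compact space and Z ⊆ X a quasi-compact subset. Let p ≥ 0, let
U_i ⊆ X be opens with Z ⊆ ⋃ U_i, and for every (p+1)-tuple (i_0, …, i_p) let W_{i_0…i_p} ⊆ U_{i_0} ∩
… ∩ U_{i_p} be an open with W_{i_0…i_p} ∩ Z = U_{i_0} ∩ … ∩ U_{i_p} ∩ Z. Then there are opens V_i ⊆
X with Z ⊆ ⋃ V_i, closure(V_i) ⊆ U_i for all i, and V_{i_0} ∩ … ∩ V_{i_p} ⊆ W_{i_0…i_p} for all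
(p+1)-tuples. -/
theorem result {X : Type u} [TopologicalSpace X]
    [T2Space X] [LocallyCompactSpace X] (Z : Set X) (hZ : IsCompact Z)
    {ι : Type u} (U : ι → Set X) (hU : ∀ i, IsOpen (U i)) (hcov : Z ⊆ ⋃ i, U i) (p : ℕ)
    (W : (Fin (p + 1) → ι) → Set X) (hWo : ∀ t, IsOpen (W t)) (hWU : ∀ t, W t ⊆ ⋂ l, U (t l))
    (hWZ : ∀ t, W t ∩ Z = (⋂ l, U (t l)) ∩ Z) :
    ∃ V : ι → Set X, (∀ i, IsOpen (V i)) ∧ (Z ⊆ ⋃ i, V i) ∧ (∀ i, closure (V i) ⊆ U i) ∧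
      (∀ t : Fin (p + 1) → ι, (⋂ l, V (t l)) ⊆ W t) := by
  classical
  choose i hi using fun z : Z => Set.mem_iUnion.mp (hcov z.2)
  choose N hN hNU hNc using fun z : Z => local_compact_nhds ((hU (i z)).mem_nhds (hi z))
  obtain ⟨S, hS⟩ := hZ.elim_finite_subcover (fun z : Z => interior (N z)) (fun _ => isOpen_interior)
    (fun z hz => Set.mem_iUnion.mpr ⟨⟨z, hz⟩, mem_interior_iff_mem_nhds.mpr (hN ⟨z, hz⟩)⟩)
  let s : Finset ι := S.image i
  let K : ι → Set X := fun j => ⋃ z ∈ S.filter (fun z => i z = j), N z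
  have hK : ∀ j, IsCompact (K j) := fun j => Finset.isCompact_biUnion _ fun z _ => hNc z
  have hKU : ∀ j, K j ⊆ U j := by
    intro j y hy
    obtain ⟨z, hz, hy⟩ := Set.mem_iUnion₂.mp hy
    rw [← (Finset.mem_filter.mp hz).2]
    exact hNU z hy
  let B : Set X := ⋃ t : Fin (p + 1) → s, ((⋂ l, K (t l)) \ W (fun l => (t l : ι)))
  have hB : IsClosed B := isClosed_iUnion_of_finite fun t =>
    (isClosed_iInter fun l => (hK _).isClosed).sdiff (hWo _)
  have hBZ : ∀ z ∈ Z, z ∉ B := by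
    intro z hz hzB
    obtain ⟨t, ht, htW⟩ := Set.mem_iUnion.mp hzB
    have : z ∈ (⋂ l, U ((fun l => (t l : ι)) l)) ∩ Z :=
      ⟨Set.mem_iInter.mpr fun l => hKU _ (Set.mem_iInter.mp ht l), hz⟩
    rw [← hWZ] at this
    exact htW this.1
  refine ⟨fun j => interior (K j) \ B, fun j => isOpen_interior.sdiff hB, fun z hz => ?_, fun j => ?_, fun t y hy => ?_⟩
  · obtain ⟨w, hw, hzw⟩ := Set.mem_iUnion₂.mp (hS hz)
    refine Set.mem_iUnion.mpr ⟨i w, interior_mono ?_ hzw, hBZ z hz⟩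
    exact Set.subset_biUnion_of_mem (u := fun z => N z)
      (Finset.mem_coe.mpr (Finset.mem_filter.mpr ⟨hw, rfl⟩))
  · exact (closure_minimal (Set.diff_subset.trans interior_subset) (hK j).isClosed).trans (hKU j)
  · rw [Set.mem_iInter] at hy
    have hts : ∀ l, t l ∈ s := by
      intro l
      obtain ⟨z, hz, -⟩ := Set.mem_iUnion₂.mp (interior_subset (hy l).1)
      obtain ⟨hzS, hzt⟩ := Finset.mem_filter.mp hz
      exact Finset.mem_image.mpr ⟨z, hzS, hzt⟩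
    by_contra hyW
    exact (hy 0).2 (Set.mem_iUnion.mpr ⟨fun l => ⟨t l, hts l⟩,
      Set.mem_iInter.mpr fun l => interior_subset (hy l).1, hyW⟩)

end Groth.Agent.S7569
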