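import Groth.Statements.S7570
import Mathlib

set_option autoImplicit false
universe u
open PtTop

namespace Groth.Agent.S7570

/-- Let X be a topological space and Z ⊆ X a quasi-compact subset such that any two distinct points of Z
have disjoint open neighbourhoods in X. Let p ≥ 0, let U_i ⊆ X be opens with Z ⊆ ⋃ U_i, and for
every (p+1)-tuple let W_{i_0…i_p} ⊆ U_{i_0} ∩ … ∩ U_{i_p} be an open with W_{i_0…i_p} ∩ Z = U_{i_0}
∩ … ∩ U_{i_p} ∩ Z. Then there are opens V_i with (1) Z ⊆ ⋃ V_i, (2) V_i ⊆ U_i, (3) closure(V_i) ∩ Z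
⊆ U_i, and (4) V_{i_0} ∩ … ∩ V_{i_p} ⊆ W_{i_0…i_p} for all (p+1)-tuples. -/
theorem result {X : Type u} [TopologicalSpace X]
    (Z : Set X) (hZ : IsCompact Z)
    (hZsep : ∀ z ∈ Z, ∀ z' ∈ Z, z ≠ z' → ∃ A B : Set X, IsOpen A ∧ IsOpen B ∧ z ∈ A ∧ z' ∈ B ∧ Disjoint A B)
    {ι : Type u} (U : ι → Set X) (hU : ∀ i, IsOpen (U i)) (hcov : Z ⊆ ⋃ i, U i) (p : ℕ)
    (W : (Fin (p + 1) → ι) → Set X) (hWo : ∀ t, IsOpen (W t)) (hWU : ∀ t, W t ⊆ ⋂ l, U (t l))
    (hWZ : ∀ t, W t ∩ Z = (⋂ l, U (t l)) ∩ Z) :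
    ∃ V : ι → Set X, (∀ i, IsOpen (V i)) ∧ (Z ⊆ ⋃ i, V i) ∧ (∀ i, V i ⊆ U i) ∧
      (∀ i, closure (V i) ∩ Z ⊆ U i) ∧ (∀ t : Fin (p + 1) → ι, (⋂ l, V (t l)) ⊆ W t) := by
  classical
  have hpt : ∀ x ∈ Z, ∀ D : Set X, IsCompact D → D ⊆ Z → x ∉ D →
      ∃ A B : Set X, IsOpen A ∧ IsOpen B ∧ x ∈ A ∧ D ⊆ B ∧ Disjoint A B := by
    intro x hx D hD hDZ hxD
    have h : ∃ A B : Set X, IsOpen A ∧ IsOpen B ∧ x ∈ A ∧ D ⊆ B ∧ Disjoint A B := by
      refine hD.induction_on (p := fun D' => ∃ A B : Set X, IsOpen A ∧ IsOpen B ∧ x ∈ A ∧ D' ⊆ B ∧ Disjoint A B) ?_ ?_ ?_ ?_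
      · exact ⟨Set.univ, ∅, isOpen_univ, isOpen_empty, trivial, Set.empty_subset _, disjoint_bot_right⟩
      · intro s t hst h
        obtain ⟨A, B, hA, hB, hxA, hsB, hAB⟩ := h
        exact ⟨A, B, hA, hB, hxA, hst.trans hsB, hAB⟩
      · intro s t h h'
        obtain ⟨A, B, hA, hB, hxA, hsB, hAB⟩ := h
        obtain ⟨A', B', hA', hB', hxA', hsB', hAB'⟩ := h'
        exact ⟨A ∩ A', B ∪ B', hA.inter hA', hB.union hB', ⟨hxA, hxA'⟩, Set.union_subset_union hsB hsB',
          Disjoint.union_right (hAB.mono_left Set.inter_subset_left) (hAB'.mono_left Set.inter_subset_right)⟩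
      · intro d hd
        obtain ⟨A, B, hA, hB, hxA, hdB, hAB⟩ := hZsep x hx d (hDZ hd) (fun e => hxD (e ▸ hd))
        exact ⟨B ∩ D, Filter.inter_mem (mem_nhdsWithin_of_mem_nhds (hB.mem_nhds hdB)) self_mem_nhdsWithin,
          ⟨A, B, hA, hB, hxA, Set.inter_subset_left, hAB⟩⟩
    exact h
  obtain ⟨s, hs⟩ := hZ.elim_finite_subcover U hU hcov
  have : CompactSpace Z := isCompact_iff_compactSpace.mp hZ
  have : T2Space Z := ⟨fun a b hab => by
    obtain ⟨A, B, hA, hB, ha, hb, hAB⟩ := hZsep a a.2 b b.2 (fun e => hab (Subtype.ext e))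
    exact ⟨_, _, hA.preimage continuous_subtype_val, hB.preimage continuous_subtype_val, ha, hb,
      hAB.preimage _⟩⟩
  obtain ⟨v, hv, hvc, hvU⟩ := exists_iUnion_eq_closed_subset
    (u := fun i : s => ((↑) : Z → X) ⁻¹' U i) (fun i => (hU i).preimage continuous_subtype_val)
    (fun x => Set.toFinite _) (Set.eq_univ_of_forall fun z => by
      obtain ⟨i, hi, hz⟩ := Set.mem_iUnion₂.mp (hs z.2)
      exact Set.mem_iUnion.mpr ⟨⟨i, hi⟩, hz⟩)
  let C : s → Set X := fun i => ((↑) : Z → X) '' v i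
  have hC : ∀ i, IsCompact (C i) := fun i => (hvc i).isCompact.image continuous_subtype_val
  have hCZ : ∀ i, C i ⊆ Z := fun i => Subtype.coe_image_subset Z (v i)
  have hCU : ∀ i : s, C i ⊆ U i := by
    rintro i _ ⟨z, hz, rfl⟩
    exact hvU i hz
  have hsepU : ∀ i : s, ∃ O O' : Set X, IsOpen O ∧ IsOpen O' ∧ C i ⊆ O ∧ Z \ U i ⊆ O' ∧ Disjoint O O' := by
    intro i
    have h : ∃ O O' : Set X, IsOpen O ∧ IsOpen O' ∧ C i ⊆ O ∧ Z \ U i ⊆ O' ∧ Disjoint O O' := by
      refine (hC i).induction_on (p := fun C' => ∃ O O' : Set X, IsOpen O ∧ IsOpen O' ∧ C' ⊆ O ∧ Z \ U i ⊆ O' ∧ Disjoint O O') ?_ ?_ ?_ ?_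
      · exact ⟨∅, Set.univ, isOpen_empty, isOpen_univ, Set.empty_subset _, Set.subset_univ _, disjoint_bot_left⟩
      · intro a b hab h
        obtain ⟨A, B, hA, hB, hbA, hDB, hAB⟩ := h
        exact ⟨A, B, hA, hB, hab.trans hbA, hDB, hAB⟩
      · intro a b h h'
        obtain ⟨A, B, hA, hB, hsA, hDB, hAB⟩ := h
        obtain ⟨A', B', hA', hB', hsA', hDB', hAB'⟩ := h'
        exact ⟨A ∪ A', B ∩ B', hA.union hA', hB.inter hB', Set.union_subset_union hsA hsA', Set.subset_inter hDB hDB',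
          Disjoint.union_left (hAB.mono_right Set.inter_subset_left) (hAB'.mono_right Set.inter_subset_right)⟩
      · intro d hd
        obtain ⟨A, B, hA, hB, hdA, hDB, hAB⟩ := hpt d (hCZ i hd) (Z \ U i) (hZ.diff (hU i))
          Set.diff_subset (fun h => h.2 (hCU i hd))
        exact ⟨A ∩ C i, Filter.inter_mem (mem_nhdsWithin_of_mem_nhds (hA.mem_nhds hdA)) self_mem_nhdsWithin,
          ⟨A, B, hA, hB, Set.inter_subset_left, hDB, hAB⟩⟩
    exact h
  have htup : ∀ t : Fin (p + 1) → s, ∃ O : Fin (p + 1) → Set X, (∀ l, IsOpen (O l)) ∧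
      (∀ l, C (t l) ⊆ O l) ∧ (⋂ l, O l) ⊆ W (fun l => (t l : ι)) := by
    intro t
    let W' := W (fun l => (t l : ι))
    let D := C (t 0) \ W'
    have hD : IsCompact D := (hC _).diff (hWo _)
    have h : ∃ (A : Set X) (O : Fin (p + 1) → Set X), IsOpen A ∧ D ⊆ A ∧ (∀ l, IsOpen (O l)) ∧
        (∀ l, C (t l) ⊆ O l) ∧ Disjoint A (⋂ l, O l) := by
      refine hD.induction_on (p := fun D' => ∃ (A : Set X) (O : Fin (p + 1) → Set X),
        IsOpen A ∧ D' ⊆ A ∧ (∀ l, IsOpen (O l)) ∧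
        (∀ l, C (t l) ⊆ O l) ∧ Disjoint A (⋂ l, O l)) ?_ ?_ ?_ ?_
      · exact ⟨∅, fun _ => Set.univ, isOpen_empty, Set.empty_subset _, fun _ => isOpen_univ,
          fun _ => Set.subset_univ _, disjoint_bot_left⟩
      · intro a b hab h
        obtain ⟨A, O, hA, hbA, hO, hCO, hdis⟩ := h
        exact ⟨A, O, hA, hab.trans hbA, hO, hCO, hdis⟩
      · intro a b h h'
        obtain ⟨A, O, hA, haA, hO, hCO, hdis⟩ := h
        obtain ⟨A', O', hA', hbA', hO', hCO', hdis'⟩ := h'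
        refine ⟨A ∪ A', fun l => O l ∩ O' l, hA.union hA', Set.union_subset_union haA hbA',
          fun l => (hO l).inter (hO' l), fun l => Set.subset_inter (hCO l) (hCO' l), ?_⟩
        exact Disjoint.union_left (hdis.mono_right (Set.iInter_mono fun l => Set.inter_subset_left))
          (hdis'.mono_right (Set.iInter_mono fun l => Set.inter_subset_right))
      · intro d hd
        obtain ⟨l, hl⟩ : ∃ l, d ∉ C (t l) := by
          by_contra hcon
          push Not at hcon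
          apply hd.2
          have : d ∈ (⋂ l, U ((fun l => (t l : ι)) l)) ∩ Z :=
            ⟨Set.mem_iInter.mpr fun l => hCU _ (hcon l), hCZ _ (hcon 0)⟩
          rw [← hWZ] at this
          exact this.1
        obtain ⟨A, B, hA, hB, hdA, hDB, hAB⟩ := hpt d (hCZ _ hd.1) (C (t l)) (hC _) (hCZ _) hl
        refine ⟨A ∩ D, Filter.inter_mem (mem_nhdsWithin_of_mem_nhds (hA.mem_nhds hdA)) self_mem_nhdsWithin,
          ⟨A, Function.update (fun _ => Set.univ) l B, hA, Set.inter_subset_left, fun m => ?_, fun m => ?_, ?_⟩⟩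
        · by_cases hm : m = l
          · subst hm; simpa using hB
          · simp [hm]
        · by_cases hm : m = l
          · subst hm; simpa using hDB
          · simp [hm]
        · refine hAB.mono_right ((Set.iInter_subset _ l).trans ?_)
          simp
    obtain ⟨A, O, hA, hDA, hO, hCO, hdis⟩ := h
    refine ⟨fun m => if m = 0 then (W' ∪ A) ∩ O m else O m, fun m => ?_, fun m => ?_, fun y hy => ?_⟩
    · dsimp only
      split_ifs
      · exact ((hWo _).union hA).inter (hO m)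
      · exact hO m
    · dsimp only
      split_ifs with hm
      · subst hm
        refine Set.subset_inter (fun y hy => ?_) (hCO 0)
        by_cases hyW : y ∈ W'
        · exact Or.inl hyW
        · exact Or.inr (hDA ⟨hy, hyW⟩)
      · exact hCO m
    · rw [Set.mem_iInter] at hy
      have hy0 := hy 0
      simp only [if_true] at hy0
      refine hy0.1.resolve_right fun hyA => Set.disjoint_left.mp hdis hyA (Set.mem_iInter.mpr fun m => ?_)
      have := hy m
      split_ifs at this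
      · exact this.2
      · exact this
  choose O O' hO hO' hCO hDO' hdisj using hsepU
  choose T hT hCT hTW using htup
  let V₀ : s → Set X := fun i => U i ∩ O i ∩ ⋂ (t : Fin (p + 1) → s) (l) (_ : t l = i), T t l
  refine ⟨fun i => if h : i ∈ s then V₀ ⟨i, h⟩ else ∅, fun i => ?_, fun z hz => ?_, fun i => ?_, fun i => ?_, fun t y hy => ?_⟩
  · dsimp only
    split_ifs
    · exact ((hU _).inter (hO _)).inter (isOpen_iInter_of_finite fun t => isOpen_iInter_of_finite fun l =>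
        isOpen_iInter_of_finite fun _ => hT t l)
    · exact isOpen_empty
  · obtain ⟨i, hi⟩ := Set.mem_iUnion.mp (hv.symm ▸ Set.mem_univ (⟨z, hz⟩ : Z))
    refine Set.mem_iUnion.mpr ⟨i.1, ?_⟩
    have hzC : z ∈ C i := ⟨_, hi, rfl⟩
    simp only [i.2, dif_pos]
    refine ⟨⟨hCU i hzC, hCO i hzC⟩, ?_⟩
    simp only [Set.mem_iInter]
    intro t l hl
    exact hCT t l (hl ▸ hzC)
  · dsimp only
    split_ifs
    · exact fun y hy => hy.1.1
    · exact Set.empty_subset _
  · dsimp only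
    split_ifs with h
    · rintro y ⟨hy, hyZ⟩
      by_contra hyU
      obtain ⟨w, hw1, hw2⟩ := mem_closure_iff.mp hy (O' ⟨i, h⟩) (hO' _) (hDO' _ ⟨hyZ, hyU⟩)
      exact Set.disjoint_left.mp (hdisj ⟨i, h⟩) hw2.1.2 hw1
    · simp
  · rw [Set.mem_iInter] at hy
    have hts : ∀ l, t l ∈ s := fun l => by
      by_contra hn
      simpa [hn] using hy l
    apply hTW (fun l => ⟨t l, hts l⟩)
    rw [Set.mem_iInter]
    intro l
    have := hy l
    simp only [hts l, dif_pos] at this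
    have h2 := this.2
    simp only [Set.mem_iInter] at h2
    exact h2 (fun l => ⟨t l, hts l⟩) l rfl

end Groth.Agent.S7570
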