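import Groth.Statements.S7575
import Groth.Agent.ShSpColim.Basic

set_option autoImplicit false
universe u
open CategoryTheory CategoryTheory.Limits TopologicalSpace Opposite
open ShSp

namespace Groth.Agent.S7575

/-- Let X be a topological space, I a directed set, (F_i) a system of sheaves of sets on X over I with
colimit F (in sheaves), U ⊆ X open, and Ψ : colim_i F_i(U) → F(U) the canonical map. (1) If all
transition maps F_i → F_{i'} are injective (on all sections) then Ψ is injective. (2)
Quasi-compactness of U alone already makes Ψ injective. (3) When U is quasi-compact and every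
transition map is injective, Ψ is bijective. (4) If every open covering of U can be refined by a
finite open covering U = U_1 ∪ … ∪ U_m with all U_j ∩ U_{j'} quasi-compact, then Ψ is bijective. -/
theorem result {X : TopCat.{u}} {J : Type u} [Preorder J] [Nonempty J] [IsDirected J (· ≤ ·)]
    (F : J ⥤ X.Sheaf (Type u)) (c : Cocone F) (hc : IsColimit c) (U : Opens X) :
    let ev := TopCat.Sheaf.forget (Type u) X ⋙ (evaluation (Opens X)ᵒᵖ (Type u)).obj (op U)
    let Ψ : colimit (F ⋙ ev) → ev.obj c.pt := colimit.desc (F ⋙ ev) (ev.mapCocone c)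
    ((∀ (i j : J) (h : i ⟶ j) (V : Opens X), Function.Injective ((F.map h).1.app (op V))) → Function.Injective Ψ) ∧
    (IsCompact (U : Set X) → Function.Injective Ψ) ∧
    (IsCompact (U : Set X) → (∀ (i j : J) (h : i ⟶ j) (V : Opens X), Function.Injective ((F.map h).1.app (op V))) →
      Function.Bijective Ψ) ∧
    ((∀ 𝒱 : Set (Opens X), (⨆ V ∈ 𝒱, V) = U →
        ∃ (m : ℕ) (W : Fin m → Opens X), (∀ j, ∃ V ∈ 𝒱, W j ≤ V) ∧ (⨆ j, W j) = U ∧
          ∀ j j', IsCompact ((W j ⊓ W j' : Opens X) : Set X)) →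
      Function.Bijective Ψ) := by
  intro ev Ψ
  haveI : IsFiltered J := inferInstance
  let D : J ⥤ CategoryTheory.Sheaf (Opens.grothendieckTopology X) (Type u) := F
  have hΨ : ∀ i (x : (D.obj i).obj.obj (op U)),
      Ψ (colimit.ι (F ⋙ ev) i x) = Groth.Agent.ShSpColim.Basic.m (D := D) c i U x := fun i x =>
    ConcreteCategory.congr_hom (colimit.ι_desc (ev.mapCocone c) i) x
  have surj : (∀ s, ∃ i x, Groth.Agent.ShSpColim.Basic.m (D := D) c i U x = s) → Function.Surjective Ψ := fun h s => by
    obtain ⟨i, x, hx⟩ := h s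
    exact ⟨colimit.ι (F ⋙ ev) i x, (hΨ i x).trans hx⟩
  have inj : (∀ k (a b : (D.obj k).obj.obj (op U)),
      Groth.Agent.ShSpColim.Basic.m (D := D) c k U a = Groth.Agent.ShSpColim.Basic.m (D := D) c k U b →
      ∃ (l : J) (φ : k ⟶ l), (D.map φ).hom.app (op U) a = (D.map φ).hom.app (op U) b) → Function.Injective Ψ := by
    intro h p q hpq
    obtain ⟨i, a, rfl⟩ := Types.jointly_surjective' p
    obtain ⟨j, b, rfl⟩ := Types.jointly_surjective' q
    let k := IsFiltered.max i j
    have ea := colimit.w_apply (F ⋙ ev) (IsFiltered.leftToMax i j) a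
    have eb := colimit.w_apply (F ⋙ ev) (IsFiltered.rightToMax i j) b
    rw [← ea, ← eb] at hpq ⊢
    obtain ⟨l, φ, hφ⟩ := h k _ _ ((hΨ k _).symm.trans (hpq.trans (hΨ k _)))
    rw [← colimit.w_apply (F ⋙ ev) φ ((F ⋙ ev).map (IsFiltered.leftToMax i j) a),
      ← colimit.w_apply (F ⋙ ev) φ ((F ⋙ ev).map (IsFiltered.rightToMax i j) b)]
    exact congrArg (colimit.ι (F ⋙ ev) l) hφ
  have inj1 : (∀ (i j : J) (h : i ⟶ j) (V : Opens X), Function.Injective ((F.map h).1.app (op V))) →
      Function.Injective Ψ := fun hF => inj fun k a b h =>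
    ⟨k, 𝟙 k, congrArg _ (Groth.Agent.ShSpColim.Basic.inj_of_injective (D := D) hc hF k U h)⟩
  have inj2 : IsCompact (U : Set X) → Function.Injective Ψ := fun hU => inj fun k a b h =>
    Groth.Agent.ShSpColim.Basic.eq_of_compact (D := D) hc hU a b h
  exact ⟨inj1, inj2, fun hU hF => ⟨inj2 hU,
      surj (Groth.Agent.ShSpColim.Basic.surj_of_compact_injective (D := D) hc hF hU)⟩,
    fun h => ⟨inj2 (Groth.Agent.ShSpColim.Basic.compact_of_refine h),
      surj (Groth.Agent.ShSpColim.Basic.surj_of_refine (D := D) hc h)⟩⟩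

end Groth.Agent.S7575
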