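import Groth.Statements.S7579
import Groth.Agent.SpecTop.Gen

set_option autoImplicit false
universe u
open SpecSp

namespace Groth.Agent.S7579

open Set Topology Groth.Agent.SpecTop.Cons Groth.Agent.SpecTop.Gen

/-- Let X be a spectral space. Then X with its constructible topology is Hausdorff and totally
disconnected. The published statement also asserts that the constructible topology is quasi-compact;
this row states the Hausdorff and totally disconnected parts. -/
theorem result (X : Type u) [TopologicalSpace X] [SpectralSpace X] :
    T2Space (WithConstructibleTopology X) ∧ TotallyDisconnectedSpace (WithConstructibleTopology X) := by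
  constructor
  · exact @T2Space.of_injective_continuous (WithConstructibleTopology X) X _ (constructibleTopology X) cons_t2 _
      (WithTopology.ofTopology_injective _) (WithTopology.continuous_ofTopology _)
  · have : TotallySeparatedSpace (WithConstructibleTopology X) := by
      rw [totallySeparatedSpace_iff_exists_isClopen]
      intro a b hab
      obtain ⟨U, h1, h2, h3⟩ := exists_qcOpen_xor (X := X) (fun h => hab (WithTopology.ofTopology_injective _ h))
      have hU : IsClopen (WithTopology.ofTopology ⁻¹' U : Set (WithConstructibleTopology X)) :=
        ⟨@IsClosed.preimage (WithConstructibleTopology X) X _ (constructibleTopology X) _ (WithTopology.continuous_ofTopology _) _ (isClosed_cons h1 h2),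
         @IsOpen.preimage (WithConstructibleTopology X) X _ (constructibleTopology X) _ (WithTopology.continuous_ofTopology _) _ (isOpen_cons h1 h2)⟩
      by_cases ha : WithTopology.ofTopology a ∈ U
      · exact ⟨_, hU, ha, h3.mp ha⟩
      · exact ⟨_, hU.compl, ha, fun hb => ha (h3.mpr hb)⟩
    infer_instance

end Groth.Agent.S7579
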