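import Groth.Statements.S7580
import Mathlib

set_option autoImplicit false
universe u
open PtTop

namespace Groth.Agent.S7580

open Set TopologicalSpace

/-- Let f : X → Y be a continuous map of topological spaces with f(X) dense in Y and Y Hausdorff. Then
the cardinality of Y is at most that of the double power set of X. -/
theorem result {X Y : Type u} [TopologicalSpace X] [TopologicalSpace Y] [T2Space Y]
    (f : X → Y) (hf : Continuous f) (hd : DenseRange f) :
    Cardinal.mk Y ≤ (2 : Cardinal.{u}) ^ ((2 : Cardinal.{u}) ^ Cardinal.mk X) := by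
  classical
  let g : Y → Set (Set X) := fun y => {A | ∃ U, IsOpen U ∧ y ∈ U ∧ A = f ⁻¹' U}
  have hg : Function.Injective g := by
    intro y z h
    by_contra hyz
    obtain ⟨U, V, hU, hV, hy, hz, hUV⟩ := t2_separation hyz
    have hA : f ⁻¹' U ∈ g z := h ▸ ⟨U, hU, hy, rfl⟩
    obtain ⟨W, hW, hzW, hAW⟩ := hA
    obtain ⟨x, hxW, hxV⟩ := hd.exists_mem_open (hW.inter hV) ⟨z, hzW, hz⟩
    have : x ∈ f ⁻¹' U := hAW ▸ hxW
    exact Set.disjoint_left.mp hUV this hxV
  refine (Cardinal.mk_le_of_injective hg).trans ?_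
  rw [Cardinal.mk_set, Cardinal.mk_set]

end Groth.Agent.S7580
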