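import Groth.Statements.S7584
import Mathlib

set_option autoImplicit false
universe u
open PtTop

namespace Groth.Agent.S7584

open Set TopologicalSpace

/-- Let X be a quasi-compact topological space in which each connected component equals the intersection
of all clopen sets that contain it. Then π₀(X), the set of connected components with the quotient
topology, is Hausdorff. The published statement concludes that π₀(X) is profinite; this row records
the Hausdorff property, quasi-compactness and total disconnectedness of the quotient being
automatic. -/
theorem result (X : Type u) [TopologicalSpace X] [CompactSpace X]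
    (h : ∀ x : X, connectedComponent x = ⋂₀ {Z : Set X | IsClopen Z ∧ x ∈ Z}) :
    T2Space (ConnectedComponents X) := by
  refine ⟨fun a b => ?_⟩
  obtain ⟨x, rfl⟩ := ConnectedComponents.surjective_coe a
  obtain ⟨y, rfl⟩ := ConnectedComponents.surjective_coe b
  intro hne
  have hy : y ∉ connectedComponent x := fun hy => hne
    ((ConnectedComponents.coe_eq_coe.mpr (connectedComponent_eq hy)))
  rw [h x, mem_sInter] at hy
  push Not at hy
  obtain ⟨Z, ⟨hZ, hxZ⟩, hyZ⟩ := hy
  have hsat : (ConnectedComponents.mk : X → _) ⁻¹' (ConnectedComponents.mk '' Z) = Z := by
    rw [connectedComponents_preimage_image]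
    exact Subset.antisymm (iUnion₂_subset fun z hz => hZ.connectedComponent_subset hz)
      fun z hz => mem_iUnion₂.mpr ⟨z, hz, mem_connectedComponent⟩
  refine ⟨ConnectedComponents.mk '' Z, (ConnectedComponents.mk '' Z)ᶜ, ?_, ?_, ⟨x, hxZ, rfl⟩, ?_,
    disjoint_compl_right⟩
  · rw [← ConnectedComponents.isQuotientMap_coe.isOpen_preimage, hsat]; exact hZ.isOpen
  · rw [isOpen_compl_iff, ← ConnectedComponents.isQuotientMap_coe.isClosed_preimage, hsat]; exact hZ.isClosed
  · intro hy'
    exact hyZ (hsat.subset hy')

end Groth.Agent.S7584
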