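import Groth.Statements.S7585
import Groth.Agent.ShBasis.Basic

set_option autoImplicit false
universe u
open ShSp

namespace Groth.Agent.S7585

/-- Let X be a topological space, ℬ a basis for its topology and F a presheaf of sets on ℬ. For each U ∈
ℬ let C(U) be a cofinal system of coverings of U by members of ℬ (every covering of U by members of
ℬ is refined by one in C(U)), each member of C(U) coming with chosen coverings of the pairwise
intersections U_i ∩ U_j by members of ℬ. Then F is a sheaf on ℬ if and only if the sheaf condition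
(**) holds for every U ∈ ℬ and every covering in C(U) with its chosen intersection coverings. -/
theorem result {X : Type u} [TopologicalSpace X] {B : Set (TopologicalSpace.Opens X)}
    (hB : TopologicalSpace.Opens.IsBasis B) (F : ShB.Pre B)
    (C : ∀ U : B, Set (ShB.Cover B)) (hCU : ∀ U, ∀ c ∈ C U, c.U = U)
    (hC : ∀ (U : B) (ι : Type u) (V : ι → B), (∀ i, (V i : TopologicalSpace.Opens X) ≤ (U : TopologicalSpace.Opens X)) →
      (U : TopologicalSpace.Opens X) ≤ ⨆ i, (V i : TopologicalSpace.Opens X) →
      ∃ c ∈ C U, ∀ i' : c.ι, ∃ i, (c.V i' : TopologicalSpace.Opens X) ≤ (V i : TopologicalSpace.Opens X)) :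
    ShB.IsSheaf F ↔ ∀ U, ∀ c ∈ C U, ShB.GluesUniquely F c := by
  refine ⟨fun h U c _ => h c, fun h => Groth.Agent.ShBasis.isSheaf_of_cofinal hB F C hC hCU ?_ ?_⟩
  · intro U c hc t t' he
    obtain ⟨t₀, -, hu⟩ := h U c hc (fun i => F.res (c.V_le i) t) (fun i j k => by rw [F.res_comp, F.res_comp])
    rw [hu t fun i => rfl, hu t' fun i => (he i).symm]
  · intro hsep U c hc s hs
    obtain ⟨t, ht, -⟩ := h U c hc s fun i j k =>
      Groth.Agent.ShBasis.res_eq_of_locAgree hB hsep c.V s hs i j (c.W i j k) (c.W_le_left i j k) (c.W_le_right i j k)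
    exact ⟨t, ht⟩

end Groth.Agent.S7585
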