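import Groth.Statements.S7588
import Groth.Agent.ShBasis.Basic

set_option autoImplicit false
universe u
open CategoryTheory
open ShSp

namespace Groth.Agent.S7588

/-- Let X be a topological space, ℬ a basis for its topology and F a sheaf of sets on ℬ. There is a
sheaf of sets F^ext on X together with an isomorphism of presheaves on ℬ between the restriction of
F^ext to ℬ and F; and it is unique: given two sheaves G, G′ on X with such isomorphisms e, e′, there
is a unique isomorphism G ≅ G′ whose restriction to the members of ℬ is compatible with e and e′. -/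
theorem result {X : Type u} [TopologicalSpace X] {B : Set (TopologicalSpace.Opens X)}
    (hB : TopologicalSpace.Opens.IsBasis B) (F : ShB.Pre B) (hF : ShB.IsSheaf F) :
    (∃ G : TopCat.Sheaf (Type u) (TopCat.of X), Nonempty (ShB.Iso (ShB.restrict B G.presheaf) F)) ∧
    ∀ (G G' : TopCat.Sheaf (Type u) (TopCat.of X)) (e : ShB.Iso (ShB.restrict B G.presheaf) F)
      (e' : ShB.Iso (ShB.restrict B G'.presheaf) F),
      ∃! φ : G ⟶ G', IsIso φ ∧ ∀ (U : B) (s : G.presheaf.obj (Opposite.op (U : TopologicalSpace.Opens X))),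
        e'.hom.app U (φ.1.app (Opposite.op (U : TopologicalSpace.Opens X)) s) = e.hom.app U s := by
  refine ⟨⟨Groth.Agent.ShBasis.extSheaf hB F hF, ⟨Groth.Agent.ShBasis.extIso F⟩⟩, fun G G' e e' => ?_⟩
  let η := Groth.Agent.ShBasis.toExt F G e.hom
  let η' := Groth.Agent.ShBasis.toExt F G' e'.hom
  haveI : ∀ O, IsIso (η.app O) := fun O => (isIso_iff_bijective _).2 (Groth.Agent.ShBasis.bijective_toExt hB F G e O)
  haveI : ∀ O, IsIso (η'.app O) := fun O => (isIso_iff_bijective _).2 (Groth.Agent.ShBasis.bijective_toExt hB F G' e' O)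
  haveI : IsIso η := NatIso.isIso_of_isIso_app η
  haveI : IsIso η' := NatIso.isIso_of_isIso_app η'
  have hres : ∀ (K : TopCat.Sheaf (Type u) (TopCat.of X)) (U : B) (s : K.presheaf.obj (Opposite.op (U : TopologicalSpace.Opens X))),
      K.presheaf.map (homOfLE (le_refl (U : TopologicalSpace.Opens X))).op s = s := fun K U s => by simp
  let φ : G ⟶ G' := ⟨η ≫ inv η'⟩
  refine ⟨φ, ⟨?_, fun U s => ?_⟩, ?_⟩
  · haveI : IsIso ((TopCat.Sheaf.forget (Type u) (TopCat.of X)).map φ) := inferInstanceAs (IsIso (η ≫ inv η'))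
    exact isIso_of_reflects_iso φ (TopCat.Sheaf.forget (Type u) (TopCat.of X))
  · have h1 : φ.1 ≫ η' = η := by show (η ≫ inv η') ≫ η' = η; simp
    have h2 := congrArg (fun z : Groth.Agent.ShBasis.ExtSec F (U : TopologicalSpace.Opens X) => z.1 U le_rfl)
      (ConcreteCategory.congr_hom (NatTrans.congr_app h1 (Opposite.op (U : TopologicalSpace.Opens X))) s)
    refine Eq.trans ?_ (h2.trans (congrArg (e.hom.app U) (hres G U s)))
    exact congrArg (e'.hom.app U) (hres G' U _).symm
  · rintro ψ ⟨-, hψ⟩
    have h1 : ψ.1 ≫ η' = η := by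
      ext O s
      refine Subtype.ext (funext fun V => funext fun hV => ?_)
      refine Eq.trans (congrArg (e'.hom.app V) ?_) (hψ V _)
      exact (ConcreteCategory.congr_hom (ψ.1.naturality (homOfLE hV).op) s).symm
    refine Sheaf.hom_ext ?_
    show ψ.1 = η ≫ inv η'
    rw [← h1, Category.assoc, IsIso.hom_inv_id, Category.comp_id]

end Groth.Agent.S7588
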