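import Groth.Statements.S7653
import Groth.Agent.Misc9.DimOneReduced
import Groth.Agent.Misc9.DimOne
-- import your own Groth.Agent.* helpers here

set_option autoImplicit false
universe u
open CategoryTheory CategoryTheory.Limits AlgebraicGeometry
open Variety

namespace Groth.Agent.S7653

/-- For a reduced local Nagata ring A of Krull dimension one, the δ-invariant of A is zero exactly when
A is a DVR (in particular a domain). -/
theorem result (A : Type u) [CommRing A] [IsLocalRing A]
    [IsReduced A] (hN : CAlg.IsNagata A) (hdim : ringKrullDim A = 1) :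
    Curv2.deltaInv A = 0 ↔ ∃ _ : IsDomain A, IsDiscreteValuationRing A := by
  have := hN.1
  have : Ring.KrullDimLE 1 A := Ring.krullDimLE_iff.2 hdim.le
  let Q := FractionRing A
  rw [Curv2.deltaInv, Module.length_eq_zero_iff, Submodule.Quotient.subsingleton_iff]
  constructor
  · intro h
    have hbij : Function.Bijective (algebraMap A (integralClosure A Q)) :=
      ⟨fun x y e => IsFractionRing.injective A Q (congrArg Subtype.val e), LinearMap.range_eq_top.1 h⟩
    let e := RingEquiv.ofBijective _ hbij
    have := e.symm.toRingHom.domain_nontrivial
    have : IsLocalRing (integralClosure A Q) := e.isLocalRing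
    obtain ⟨_, hic⟩ := Misc9.DimOneReduced.isDomain_isIntegrallyClosed_localization A Q
      (IsLocalRing.maximalIdeal (integralClosure A Q))
    let e' := (IsLocalization.atUnits (integralClosure A Q)
      (IsLocalRing.maximalIdeal (integralClosure A Q)).primeCompl
      (S := Localization.AtPrime (IsLocalRing.maximalIdeal (integralClosure A Q)))
      (fun x hx => show IsUnit x by simpa using hx)).toRingEquiv
    let e'' : A ≃+* Localization.AtPrime (IsLocalRing.maximalIdeal (integralClosure A Q)) := e.trans e'
    have hd : IsDomain A := MulEquiv.isDomain _ e''.toMulEquiv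
    have : IsIntegrallyClosed A := IsIntegrallyClosed.of_equiv (R := Localization.AtPrime (IsLocalRing.maximalIdeal (integralClosure A Q))) (S := A) (RingEquiv.mk e''.symm.toEquiv (fun x y => map_mul e''.symm x y) (fun x y => map_add e''.symm x y))
    have : Ring.DimensionLEOne A :=
      ⟨fun {q} hq hqp => Ring.krullDimLE_one_iff_of_noZeroDivisors.1 inferInstance q hq hqp⟩
    have : IsDedekindDomain A := { toIsNoetherian := inferInstance, toDimensionLEOne := inferInstance, toIsIntegralClosure := inferInstance }
    exact ⟨hd, ((IsDiscreteValuationRing.TFAE A (fun hf => Misc9.DimOne.not_isField hdim hf)).out 0 2).2 this⟩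
  · rintro ⟨_, _⟩
    refine LinearMap.range_eq_top.2 fun x => ?_
    obtain ⟨a, ha⟩ := IsIntegrallyClosed.isIntegral_iff.1 x.2
    exact ⟨a, Subtype.ext ha⟩

end Groth.Agent.S7653
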