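import Groth.Statements.S7655
import Groth.Agent.Misc9.Branches
import Groth.Agent.S7652
-- import your own Groth.Agent.* helpers here

set_option autoImplicit false
universe u
open CategoryTheory CategoryTheory.Limits AlgebraicGeometry
open Variety

namespace Groth.Agent.S7655

/-- Let (A, m) be a reduced Nagata local ring of dimension one. Then the δ-invariant of A is at least
the number of geometric branches of A minus one. -/
theorem result (A : Type u) [CommRing A] [IsLocalRing A]
    [IsReduced A] (hN : CAlg.IsNagata A) (hdim : ringKrullDim A = 1) :
    Brnch.numGeomBranches A ≤ Curv2.deltaInv A + 1 := by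
  have hC := (Groth.Agent.S7652.result A hN hdim).1
  obtain ⟨e⟩ := Misc9.Branches.exists_algEquiv_normRed A
  have : Module.Finite A (CAlg2.normRed A) := Module.Finite.equiv e.toLinearEquiv
  have := Misc9.Branches.finite_maximalSpectrum (A := A) (C := CAlg2.normRed A)
  have hfinmin : (minimalPrimes A).Finite := have := hN.1; minimalPrimes.finite_of_isNoetherianRing A
  rw [Brnch.numGeomBranches, if_pos hfinmin, Curv2.deltaInv, Misc9.Branches.length_range_eq e]
  refine le_trans (Misc9.Branches.card_sigma_le (fun m => ?_) Misc9.Branches.length_ne_top)
    Misc9.Branches.length_residues_le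
  exact Misc9.Branches.card_embeddings_le m _
    (algebraMap (IsLocalRing.ResidueField A) (AlgebraicClosure (IsLocalRing.ResidueField A)))

end Groth.Agent.S7655
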