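import Groth.Statements.S7687
import Groth.Agent.Misc9.DimOneGlue
-- import your own Groth.Agent.* helpers here

set_option autoImplicit false
universe u
open CategoryTheory CategoryTheory.Limits AlgebraicGeometry
open Variety

namespace Groth.Agent.S7687

/-- Let K be a field and A, B ⊆ K Noetherian semi-local domains of dimension one with fraction field K
such that A ⊗ B → K is surjective, and R = A ∩ B. Then Spec A and Spec B each map to Spec R by an
open immersion, Spec R is the union of the two images, and the natural map A ⊗_R B → K is an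
isomorphism. -/
theorem result (K : Type u) [Field K]
    (A : Subring K) [IsFractionRing A K] (B : Subring K) [IsFractionRing B K] [IsNoetherianRing A] [IsNoetherianRing B]
    (hdimA : ringKrullDim A = 1) (hdimB : ringKrullDim B = 1)
    (hslA : Finite (MaximalSpectrum A)) (hslB : Finite (MaximalSpectrum B)) (hgen : A ⊔ B = ⊤) :
    IsOpenImmersion (Spec.map (CommRingCat.ofHom (Subring.inclusion (inf_le_left : A ⊓ B ≤ A)))) ∧
      IsOpenImmersion (Spec.map (CommRingCat.ofHom (Subring.inclusion (inf_le_right : A ⊓ B ≤ B)))) ∧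
      Set.range (Spec.map (CommRingCat.ofHom (Subring.inclusion (inf_le_left : A ⊓ B ≤ A)))).base ∪
        Set.range (Spec.map (CommRingCat.ofHom (Subring.inclusion (inf_le_right : A ⊓ B ≤ B)))).base = Set.univ ∧
      IsPushout (CommRingCat.ofHom (Subring.inclusion (inf_le_left : A ⊓ B ≤ A)))
        (CommRingCat.ofHom (Subring.inclusion (inf_le_right : A ⊓ B ≤ B)))
        (CommRingCat.ofHom A.subtype) (CommRingCat.ofHom B.subtype) := by
  obtain ⟨s, hs0, hsA, hsA', hsB⟩ := Misc9.DimOne.exists_unit_mem_jacobson A hdimA hslA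
    (fun _ : Unit => B) (fun _ => hdimB) (fun _ => hslB) (fun _ => hgen)
  obtain ⟨t, ht0, htB, htB', htA⟩ := Misc9.DimOne.exists_unit_mem_jacobson B hdimB hslB
    (fun _ : Unit => A) (fun _ => hdimA) (fun _ => hslA) (fun _ => sup_comm B A ▸ hgen)
  obtain ⟨hsB₁, hsB₂⟩ := hsB ()
  obtain ⟨htA₁, htA₂⟩ := htA ()
  have hA : Misc9.DimOne.IsAway (A ⊓ B) A s := ⟨inf_le_left, ⟨hsA, hsB₁⟩, hsA', hs0, fun a ha => by
    obtain ⟨n, hn⟩ := Misc9.DimOne.exists_clear (fun _ : Unit => B) (fun _ => hdimB) s hsB a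
    exact ⟨n, A.mul_mem (A.pow_mem hsA n) ha, hn ()⟩⟩
  have hB : Misc9.DimOne.IsAway (A ⊓ B) B t := ⟨inf_le_right, ⟨htA₁, htB⟩, htB', ht0, fun a ha => by
    obtain ⟨n, hn⟩ := Misc9.DimOne.exists_clear (fun _ : Unit => A) (fun _ => hdimA) t htA a
    exact ⟨n, hn (), B.mul_mem (B.pow_mem htB n) ha⟩⟩
  refine ⟨hA.isOpenImmersion _, hB.isOpenImmersion _, ?_,
    hA.isPushout hdimB inf_le_left inf_le_right hsB₂⟩
  rw [hA.range_eq, hB.range_eq, Set.eq_univ_iff_forall]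
  intro p
  by_contra h
  obtain ⟨h1', h2'⟩ := not_or.1 (show ¬ ((⟨s, hA.mem⟩ : ↥(A ⊓ B)) ∉ p.asIdeal ∨ (⟨t, hB.mem⟩ : ↥(A ⊓ B)) ∉ p.asIdeal) from h)
  refine p.isPrime.ne_top (Ideal.eq_top_of_isUnit_mem _ (p.asIdeal.add_mem (not_not.1 h1') (not_not.1 h2')) ?_)
  have h1 : IsUnit ((⟨s, hsA⟩ : A) + ⟨t, htA₁⟩) := by
    have := Ideal.mem_jacobson_bot.1 htA₂ ⟨s⁻¹, hsA'⟩
    have e : (⟨s, hsA⟩ : A) + ⟨t, htA₁⟩ = ⟨s, hsA⟩ * ((⟨t, htA₁⟩ : A) * ⟨s⁻¹, hsA'⟩ + 1) :=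
      Subtype.ext (by change s + t = s * (t * s⁻¹ + 1); field_simp; ring)
    rw [e]
    exact (IsUnit.of_mul_eq_one (b := ⟨s⁻¹, hsA'⟩) (Subtype.ext (mul_inv_cancel₀ hs0))).mul this
  have h2 : IsUnit ((⟨t, htB⟩ : B) + ⟨s, hsB₁⟩) := by
    have := Ideal.mem_jacobson_bot.1 hsB₂ ⟨t⁻¹, htB'⟩
    have e : (⟨t, htB⟩ : B) + ⟨s, hsB₁⟩ = ⟨t, htB⟩ * ((⟨s, hsB₁⟩ : B) * ⟨t⁻¹, htB'⟩ + 1) :=
      Subtype.ext (by change t + s = t * (s * t⁻¹ + 1); field_simp; ring)
    rw [e]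
    exact (IsUnit.of_mul_eq_one (b := ⟨t⁻¹, htB'⟩) (Subtype.ext (mul_inv_cancel₀ ht0))).mul this
  obtain ⟨a, ha⟩ := h1.exists_right_inv
  obtain ⟨b, hb⟩ := h2.exists_right_inv
  have ha' : (s + t) * (a : K) = 1 := congrArg Subtype.val ha
  have hb' : (t + s) * (b : K) = 1 := congrArg Subtype.val hb
  have hab : (a : K) = b := by
    rw [← inv_eq_of_mul_eq_one_right ha', ← inv_eq_of_mul_eq_one_right hb', add_comm]
  exact IsUnit.of_mul_eq_one (b := ⟨a, a.2, hab ▸ b.2⟩) (Subtype.ext ha')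

end Groth.Agent.S7687
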