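import Groth.Statements.S7664
import Groth.Agent.Misc9.DimOneGlue
import Groth.Agent.S7687
-- import your own Groth.Agent.* helpers here

set_option autoImplicit false
universe u
open CategoryTheory CategoryTheory.Limits AlgebraicGeometry
open Variety

namespace Groth.Agent.S7664

/-- Let K be a field, A ⊆ K a Noetherian semi-local domain of dimension one and B ⊆ K a discrete
valuation ring, both with fraction field K, and R = A ∩ B. (a) If some unit of A does not lie in R,
then Spec A and Spec B each map to Spec R by an open immersion, Spec R is the union of the two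
images, and the natural map A ⊗_R B → K is an isomorphism. (b) If every unit of A lies in R, then B
dominates the local ring of A at one of its maximal ideals (A ⊆ B and the maximal ideal of B
contracts to a maximal ideal of A) and A ⊗ B → K is not surjective. -/
theorem result (K : Type u) [Field K]
    (A : Subring K) [IsFractionRing A K] [IsNoetherianRing A] (hdim : ringKrullDim A = 1) (hsl : Finite (MaximalSpectrum A))
    (B : ValuationSubring K) [IsDiscreteValuationRing B] :
    ((∃ u : A, IsUnit u ∧ (u : K) ∉ B) →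
      IsOpenImmersion (Spec.map (CommRingCat.ofHom (Subring.inclusion (inf_le_left : A ⊓ B.toSubring ≤ A)))) ∧
      IsOpenImmersion (Spec.map (CommRingCat.ofHom (Subring.inclusion (inf_le_right : A ⊓ B.toSubring ≤ B.toSubring)))) ∧
      Set.range (Spec.map (CommRingCat.ofHom (Subring.inclusion (inf_le_left : A ⊓ B.toSubring ≤ A)))).base ∪
        Set.range (Spec.map (CommRingCat.ofHom (Subring.inclusion (inf_le_right : A ⊓ B.toSubring ≤ B.toSubring)))).base = Set.univ ∧
      IsPushout (CommRingCat.ofHom (Subring.inclusion (inf_le_left : A ⊓ B.toSubring ≤ A)))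
        (CommRingCat.ofHom (Subring.inclusion (inf_le_right : A ⊓ B.toSubring ≤ B.toSubring)))
        (CommRingCat.ofHom A.subtype) (CommRingCat.ofHom B.toSubring.subtype)) ∧
    ((∀ u : A, IsUnit u → (u : K) ∈ B) →
      (∃ h : A ≤ B.toSubring,
        (Ideal.comap (Subring.inclusion h) (IsLocalRing.maximalIdeal B)).IsMaximal) ∧ A ⊔ B.toSubring ≠ ⊤) := by
  have : IsFractionRing B.toSubring K := inferInstanceAs (IsFractionRing B K)
  have : IsNoetherianRing B.toSubring := inferInstanceAs (IsNoetherianRing B)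
  have hdimB : ringKrullDim B.toSubring = 1 := by
    change ringKrullDim B = 1
    exact (IsPrincipalIdealRing.ringKrullDim_eq_one B
      (fun h => IsDiscreteValuationRing.not_a_field B (IsLocalRing.isField_iff_maximalIdeal_eq.1 h)))
  have hslB : Finite (MaximalSpectrum B.toSubring) := by
    have : Subsingleton (MaximalSpectrum B) :=
      ⟨fun x y => MaximalSpectrum.ext ((IsLocalRing.eq_maximalIdeal x.isMaximal).trans (IsLocalRing.eq_maximalIdeal y.isMaximal).symm)⟩
    exact (Finite.of_subsingleton : Finite (MaximalSpectrum B))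
  have hnotmem : ∀ z : K, z ∉ B → z⁻¹ ∈ B := fun z hz => (B.mem_or_inv_mem z).resolve_left hz
  refine ⟨?_, fun hu => ?_⟩
  · rintro ⟨u, hu, huB⟩
    have hgen : A ⊔ B.toSubring = ⊤ := by
      have hu0 : (u : K) ≠ 0 := fun h => hu.ne_zero (Subtype.ext h)
      have hinvJ : (⟨(u : K)⁻¹, hnotmem _ huB⟩ : B.toSubring) ∈ (⊥ : Ideal B.toSubring).jacobson := by
        refine Ideal.mem_sInf.2 fun m hm => ?_
        have hne : ¬ IsUnit (⟨(u : K)⁻¹, hnotmem _ huB⟩ : B.toSubring) := fun h => by
          obtain ⟨b, hb⟩ := h.exists_right_inv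
          have hb' : (u : K)⁻¹ * (b : K) = 1 := congrArg Subtype.val hb
          exact huB (by
            have := inv_eq_of_mul_eq_one_right hb'
            rw [inv_inv] at this
            exact this ▸ b.2)
        exact (IsLocalRing.eq_maximalIdeal (R := B) hm.2) ▸ hne
      refine eq_top_iff.2 fun z _ => ?_
      have := Misc9.DimOne.krullDimLE hdimB
      obtain ⟨n, b, hb⟩ := Misc9.DimOne.exists_pow_mul_mem (K := K) hinvJ z
      have hb' : (b : K) = (u : K)⁻¹ ^ n * z := hb
      have : z = (u : K) ^ n * b := by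
        rw [hb', ← mul_assoc, ← mul_pow, mul_inv_cancel₀ hu0, one_pow, one_mul]
      rw [this]
      exact Subring.mul_mem _ (Subring.pow_mem _ ((le_sup_left : A ≤ A ⊔ B.toSubring) u.2) n) ((le_sup_right : B.toSubring ≤ A ⊔ B.toSubring) b.2)
    exact Groth.Agent.S7687.result K A B.toSubring hdim hdimB hsl hslB hgen
  · have hne : A ⊔ B.toSubring ≠ ⊤ := fun hgen => by
      obtain ⟨w, hw0, hwA, hwA', hwB⟩ := Misc9.DimOne.exists_unit_mem_jacobson A hdim hsl
        (fun _ : Unit => B.toSubring) (fun _ => hdimB) (fun _ => hslB) (fun _ => hgen)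
      obtain ⟨hwB₁, hwB₂⟩ := hwB ()
      have hwi : IsUnit (⟨w⁻¹, hwA'⟩ : A) :=
        IsUnit.of_mul_eq_one (b := ⟨w, hwA⟩) (Subtype.ext (inv_mul_cancel₀ hw0))
      obtain ⟨m, hm⟩ := Ideal.exists_maximal B.toSubring
      refine hm.ne_top (Ideal.eq_top_of_isUnit_mem _ ((Ideal.mem_sInf.1 hwB₂) ⟨bot_le, hm⟩) ?_)
      exact IsUnit.of_mul_eq_one (b := ⟨w⁻¹, hu _ hwi⟩) (Subtype.ext (mul_inv_cancel₀ hw0))
    have hle : A ≤ B.toSubring := by
      let C : ValuationSubring K :=
        { toSubring := A ⊔ B.toSubring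
          mem_or_inv_mem' := fun x => (B.mem_or_inv_mem x).imp ((le_sup_right : B.toSubring ≤ A ⊔ B.toSubring) ·) ((le_sup_right : B.toSubring ≤ A ⊔ B.toSubring) ·) }
      have hBC : B ≤ C := fun x hx => ((le_sup_right : B.toSubring ≤ A ⊔ B.toSubring) hx)
      have hC : C ≠ ⊤ := fun h => hne (eq_top_iff.2 fun x _ => (h ▸ (trivial : x ∈ (⊤ : ValuationSubring K)) : x ∈ C))
      have hBC' : B = C := ValuationSubring.eq_of_le_of_ne_top B hBC hC
      intro a ha
      show a ∈ B
      rw [hBC']
      exact (le_sup_left : A ≤ A ⊔ B.toSubring) ha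
    refine ⟨⟨hle, ?_⟩, hne⟩
    have := Misc9.DimOne.krullDimLE hdim
    refine Ring.krullDimLE_one_iff_of_noZeroDivisors.1 inferInstance _ ?_ (Ideal.IsPrime.comap _)
    intro hbot
    refine IsDiscreteValuationRing.not_a_field B (eq_bot_iff.2 fun b hb => ?_)
    obtain ⟨a, d, hd, hbd⟩ := IsFractionRing.div_surjective (A := A) (b : K)
    have hd0 : (d : K) ≠ 0 := fun h => nonZeroDivisors.ne_zero hd (Subtype.ext h)
    have hbd' : (a : K) / (d : K) = (b : K) := hbd
    have hab : Subring.inclusion hle a = b * Subring.inclusion hle d := Subtype.ext (by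
      change (a : K) = (b : K) * (d : K)
      rw [← hbd', div_mul_cancel₀ _ hd0])
    have ha : a ∈ Ideal.comap (Subring.inclusion hle) (IsLocalRing.maximalIdeal B) :=
      Ideal.mem_comap.2 (hab ▸ Ideal.mul_mem_right _ _ hb)
    rw [hbot, Ideal.mem_bot] at ha
    refine Ideal.mem_bot.2 (Subtype.ext ?_)
    rw [← hbd', ha]
    simp

end Groth.Agent.S7664
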