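import Groth.Statements.S7665
import Groth.Agent.Misc9.DimOneGlue
-- import your own Groth.Agent.* helpers here

set_option autoImplicit false
universe u
open CategoryTheory CategoryTheory.Limits AlgebraicGeometry
open Variety

namespace Groth.Agent.S7665

/-- Let K be a field and A_1, …, A_r ⊆ K (r ≥ 1) Noetherian semi-local rings of dimension one with
fraction field K, and assume A_i and A_j generate K as a ring whenever i ≠ j. Then A = A_1 ∩ … ∩ A_r
is a Noetherian semi-local domain of dimension one with fraction field K contained in every A_i,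
each Spec A_i → Spec A is an open immersion, Spec A is the union of their images, and every closed
point of Spec A belongs to the image of exactly one Spec A_i. (The published statement asserts only
that some such subring A exists; this row takes A to be the intersection A_1 ∩ … ∩ A_r.) -/
theorem result (K : Type u) [Field K] (r : ℕ) (hr : 1 ≤ r)
    (A : Fin r → Subring K) [∀ i, IsNoetherianRing (A i)] [∀ i, IsFractionRing (A i) K]
    (hdim : ∀ i, ringKrullDim (A i) = 1) (hsl : ∀ i, Finite (MaximalSpectrum (A i)))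
    (hgen : ∀ i j, i ≠ j → A i ⊔ A j = ⊤) :
    IsNoetherianRing ↥(⨅ i, A i) ∧ ringKrullDim ↥(⨅ i, A i) = 1 ∧ Finite (MaximalSpectrum ↥(⨅ i, A i)) ∧
      IsFractionRing ↥(⨅ i, A i) K ∧
      (∀ i, IsOpenImmersion (Spec.map (CommRingCat.ofHom (Subring.inclusion (iInf_le A i))))) ∧
      (⋃ i, Set.range (Spec.map (CommRingCat.ofHom (Subring.inclusion (iInf_le A i)))).base) = Set.univ ∧
      (∀ m : PrimeSpectrum ↥(⨅ i, A i), m.asIdeal.IsMaximal →
        ∃! i, m ∈ Set.range (Spec.map (CommRingCat.ofHom (Subring.inclusion (iInf_le A i)))).base) := by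
  classical
  have hAsup : ∀ i, ∀ j : {j : Fin r // j ≠ i}, A i ⊔ A j = ⊤ := fun i j => hgen i j (Ne.symm j.2)
  choose s hs0 hsi hsi' hsj using fun i => Misc9.DimOne.exists_unit_mem_jacobson (A i) (hdim i) (hsl i)
    (fun j : {j : Fin r // j ≠ i} => A j) (fun j => hdim j) (fun j => hsl j) (hAsup i)
  have hsmem : ∀ i k, s i ∈ A k := fun i k => by
    by_cases h : k = i
    · exact h ▸ hsi i
    · exact (hsj i ⟨k, h⟩).1
  have hsR : ∀ i, s i ∈ ⨅ k, A k := fun i => Subring.mem_iInf.2 (hsmem i)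
  have hA : ∀ i, Misc9.DimOne.IsAway (⨅ k, A k) (A i) (s i) := fun i => ⟨iInf_le A i, hsR i, hsi' i, hs0 i,
    fun a ha => by
      obtain ⟨n, hn⟩ := Misc9.DimOne.exists_clear (fun j : {j : Fin r // j ≠ i} => A j) (fun j => hdim j)
        (s i) (hsj i) a
      refine ⟨n, Subring.mem_iInf.2 fun k => ?_⟩
      by_cases h : k = i
      · subst h
        exact (A k).mul_mem ((A k).pow_mem (hsi k) n) ha
      · exact hn ⟨k, h⟩⟩
  let sR : Fin r → ↥(⨅ k, A k) := fun i => ⟨s i, hsR i⟩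
  let e := ∑ i, sR i
  have hunit : IsUnit e := by
    have key : ∀ k, IsUnit (Subring.inclusion (iInf_le A k) e) := fun k => by
      let J : Ideal (A k) := (⊥ : Ideal (A k)).jacobson
      let rest : A k := ∑ i ∈ Finset.univ.erase k, ⟨s i, hsmem i k⟩
      have hrest : rest ∈ J := Ideal.sum_mem _ fun i hi =>
        (hsj i ⟨k, (Finset.mem_erase.1 hi).1.symm⟩).2
      have h1 := Ideal.mem_jacobson_bot.1 hrest ⟨(s k)⁻¹, hsi' k⟩
      have he : Subring.inclusion (iInf_le A k) e = ⟨s k, hsi k⟩ * (rest * ⟨(s k)⁻¹, hsi' k⟩ + 1) := by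
        have hu : (⟨s k, hsi k⟩ : A k) * ⟨(s k)⁻¹, hsi' k⟩ = 1 := Subtype.ext (mul_inv_cancel₀ (hs0 k))
        rw [mul_add, mul_one, ← mul_left_comm, hu, mul_one, map_sum,
          ← Finset.sum_erase_add _ _ (Finset.mem_univ k)]
        rfl
      rw [he]
      exact (IsUnit.of_mul_eq_one (b := (⟨(s k)⁻¹, hsi' k⟩ : A k)) (Subtype.ext (mul_inv_cancel₀ (hs0 k)))).mul h1
    have : ∀ k, (e : K)⁻¹ ∈ A k := fun k => by
      obtain ⟨b, hb⟩ := (key k).exists_right_inv
      have hb' : (e : K) * (b : K) = 1 := congrArg Subtype.val hb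
      rw [inv_eq_of_mul_eq_one_right hb']
      exact b.2
    have he0 : (e : K) ≠ 0 := fun h => (key ⟨0, hr⟩).ne_zero (Subtype.ext h)
    exact IsUnit.of_mul_eq_one (b := ⟨(e : K)⁻¹, Subring.mem_iInf.2 this⟩) (Subtype.ext (mul_inv_cancel₀ he0))
  have hcov : ∀ p : PrimeSpectrum ↥(⨅ k, A k), ∃ i, sR i ∉ p.asIdeal := fun p => by
    by_contra! h
    exact p.isPrime.ne_top (Ideal.eq_top_of_isUnit_mem _ (p.asIdeal.sum_mem fun i _ => h i) hunit)
  let i₀ : Fin r := ⟨0, hr⟩
  have hfrac : IsFractionRing ↥(⨅ k, A k) K := by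
    refine IsFractionRing.of_field _ K fun z => ?_
    obtain ⟨a, b, hb, rfl⟩ := IsFractionRing.div_surjective (A := A i₀) z
    obtain ⟨n, hn⟩ := (hA i₀).clear a a.2
    obtain ⟨m, hm⟩ := (hA i₀).clear b b.2
    refine ⟨⟨s i₀ ^ (n + m) * a, ?_⟩, ⟨s i₀ ^ (n + m) * b, ?_⟩, ?_⟩
    · rw [add_comm, pow_add, mul_assoc]
      exact Subring.mul_mem _ (Subring.pow_mem _ (hsR i₀) m) hn
    · rw [pow_add, mul_assoc]
      exact Subring.mul_mem _ (Subring.pow_mem _ (hsR i₀) n) hm
    · exact (mul_div_mul_left (a : K) (b : K) (pow_ne_zero (n + m) (hs0 i₀))).symm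
  have hN : IsNoetherianRing ↥(⨅ k, A k) := by
    refine AlgebraicGeometry.isNoetherianRing_of_away (Finset.univ.image sR) ?_ ?_
    · rw [Ideal.eq_top_iff_one]
      have : e ∈ Ideal.span ((Finset.univ.image sR : Finset _) : Set ↥(⨅ k, A k)) :=
        Ideal.sum_mem _ fun i _ => Ideal.subset_span (by simp)
      exact (Ideal.eq_top_of_isUnit_mem _ this hunit) ▸ Submodule.mem_top
    · rintro ⟨x, hx⟩
      obtain ⟨i, -, rfl⟩ := Finset.mem_image.1 hx
      let _ := (Subring.inclusion (iInf_le A i)).toAlgebra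
      have := (hA i).isLocalization
      exact isNoetherianRing_of_ringEquiv (A i) (IsLocalization.algEquiv (Submonoid.powers (sR i)) (A i) _).toRingEquiv
  have hprime : ∀ i, ∀ p : PrimeSpectrum ↥(⨅ k, A k), sR i ∉ p.asIdeal →
      ∃ q : PrimeSpectrum (A i), PrimeSpectrum.comap (Subring.inclusion (iInf_le A i)) q = p := fun i p hp =>
    ((hA i).range_eq (iInf_le A i) ▸ hp : p ∈ Set.range (Spec.map (CommRingCat.ofHom (Subring.inclusion (iInf_le A i)))).base)
  have hnf : ¬ IsField ↥(⨅ k, A k) := fun h => by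
    refine Misc9.DimOne.not_isField (hdim i₀) ⟨⟨0, 1, zero_ne_one⟩, mul_comm, fun {a} ha => ?_⟩
    obtain ⟨n, hn⟩ := (hA i₀).clear a a.2
    obtain ⟨c, hc⟩ := h.mul_inv_cancel (a := ⟨_, hn⟩) fun h0 => by
      rcases mul_eq_zero.1 (congrArg Subtype.val h0) with h1 | h1
      · exact pow_ne_zero _ (hs0 i₀) h1
      · exact ha (Subtype.ext h1)
    refine ⟨⟨s i₀ ^ n * c, (A i₀).mul_mem ((A i₀).pow_mem (hsi i₀) n) (iInf_le A i₀ c.2)⟩, Subtype.ext ?_⟩
    have := congrArg Subtype.val hc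
    simp only [Subring.coe_mul, Subring.coe_one] at this ⊢
    rw [← this]; ring
  have hK1 : Ring.KrullDimLE 1 ↥(⨅ k, A k) := Ring.krullDimLE_one_iff_of_noZeroDivisors.2 fun q hq0 hq => by
    obtain ⟨m, hm, hqm⟩ := Ideal.exists_le_maximal q hq.ne_top
    obtain ⟨i, hi⟩ := hcov ⟨m, hm.isPrime⟩
    obtain ⟨Q, hQ⟩ := hprime i ⟨q, hq⟩ fun h => hi (hqm h)
    obtain ⟨M, hM⟩ := hprime i ⟨m, hm.isPrime⟩ hi
    let _ := (Subring.inclusion (iInf_le A i)).toAlgebra
    have := (hA i).isLocalization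
    have := Misc9.DimOne.krullDimLE (hdim i)
    have hQ0 : Q.asIdeal ≠ ⊥ := fun h => hq0 (by
      have hq' : Q.asIdeal.comap (Subring.inclusion (iInf_le A i)) = q := congrArg PrimeSpectrum.asIdeal hQ
      rw [← hq', h, Ideal.comap_bot_of_injective (Subring.inclusion (iInf_le A i)) (Subring.inclusion_injective _)])
    have hQM : Q.asIdeal ≤ M.asIdeal := by
      rw [← IsLocalization.map_under (Submonoid.powers (sR i)) (A i) Q.asIdeal,
        ← IsLocalization.map_under (Submonoid.powers (sR i)) (A i) M.asIdeal]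
      refine Ideal.map_mono ?_
      exact ((congrArg PrimeSpectrum.asIdeal hQ).le.trans hqm).trans (congrArg PrimeSpectrum.asIdeal hM).ge
    have hQmax := Ring.krullDimLE_one_iff_of_noZeroDivisors.1 inferInstance Q.asIdeal hQ0 Q.isPrime
    have : Q = M := PrimeSpectrum.ext (hQmax.eq_of_le M.isPrime.ne_top hQM)
    have : (⟨q, hq⟩ : PrimeSpectrum ↥(⨅ k, A k)) = ⟨m, hm.isPrime⟩ := by rw [← hQ, ← hM, this]
    have hqm' : q = m := congrArg PrimeSpectrum.asIdeal this
    exact hqm' ▸ hm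
  have hdimR : ringKrullDim ↥(⨅ k, A k) = 1 := by
    refine le_antisymm (Ring.krullDimLE_iff.1 hK1) ?_
    by_contra h
    obtain ⟨m, hm⟩ := Ideal.exists_maximal ↥(⨅ k, A k)
    have hlt : (⟨⊥, Ideal.isPrime_bot⟩ : PrimeSpectrum ↥(⨅ k, A k)) < ⟨m, hm.isPrime⟩ :=
      (bot_lt_iff_ne_bot.2 (Ring.ne_bot_of_isMaximal_of_not_isField hm hnf) : (⊥ : Ideal _) < m)
    exact h (Order.one_le_krullDim_iff.2 ⟨_, _, hlt⟩)
  refine ⟨hN, hdimR, ?_, hfrac, fun i => (hA i).isOpenImmersion _, ?_, ?_⟩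
  · have := fun i => hsl i
    have hf : ∀ m : MaximalSpectrum ↥(⨅ k, A k), ∃ p : Σ i, MaximalSpectrum (A i),
        p.2.asIdeal.comap (Subring.inclusion (iInf_le A p.1)) = m.asIdeal := fun m => by
      obtain ⟨i, hi⟩ := hcov m.toPrimeSpectrum
      obtain ⟨Q, hQ⟩ := hprime i m.toPrimeSpectrum hi
      have := Misc9.DimOne.krullDimLE (hdim i)
      have hQ0 : Q.asIdeal ≠ ⊥ := fun h => Ring.ne_bot_of_isMaximal_of_not_isField m.isMaximal hnf (by
        have hq' : Q.asIdeal.comap (Subring.inclusion (iInf_le A i)) = m.asIdeal := congrArg PrimeSpectrum.asIdeal hQ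
        rw [← hq', h, Ideal.comap_bot_of_injective (Subring.inclusion (iInf_le A i)) (Subring.inclusion_injective _)])
      exact ⟨⟨i, ⟨Q.asIdeal, Ring.krullDimLE_one_iff_of_noZeroDivisors.1 inferInstance Q.asIdeal hQ0 Q.isPrime⟩⟩,
        congrArg PrimeSpectrum.asIdeal hQ⟩
    choose f hf using hf
    exact Finite.of_injective f fun x y h => MaximalSpectrum.ext ((hf x).symm.trans (by rw [h]; exact hf y))
  · refine Set.eq_univ_iff_forall.2 fun p => ?_
    obtain ⟨i, hi⟩ := hcov p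
    exact Set.mem_iUnion.2 ⟨i, (hA i).range_eq (iInf_le A i) ▸ hi⟩
  · intro m hm
    have hrange : ∀ i, m ∈ Set.range (Spec.map (CommRingCat.ofHom (Subring.inclusion (iInf_le A i)))).base ↔
        sR i ∉ m.asIdeal := fun i => by rw [(hA i).range_eq (iInf_le A i)]; rfl
    obtain ⟨i, hi⟩ := hcov m
    refine ⟨i, (hrange i).2 hi, fun j hj => ?_⟩
    by_contra hji
    obtain ⟨Q, hQ⟩ := hprime i m hi
    have := Misc9.DimOne.krullDimLE (hdim i)
    have hQ0 : Q.asIdeal ≠ ⊥ := fun h => Ring.ne_bot_of_isMaximal_of_not_isField hm hnf (by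
      have hq' : Q.asIdeal.comap (Subring.inclusion (iInf_le A i)) = m.asIdeal := congrArg PrimeSpectrum.asIdeal hQ
      rw [← hq', h, Ideal.comap_bot_of_injective (Subring.inclusion (iInf_le A i)) (Subring.inclusion_injective _)])
    have hQmax := Ring.krullDimLE_one_iff_of_noZeroDivisors.1 inferInstance Q.asIdeal hQ0 Q.isPrime
    refine (hrange j).1 hj ?_
    rw [← hQ]
    exact (Ideal.mem_sInf.1 (hsj j ⟨i, Ne.symm hji⟩).2) ⟨bot_le, hQmax⟩

end Groth.Agent.S7665
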