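import Groth.Statements.S7666
-- import your own Groth.Agent.* helpers here

set_option autoImplicit false
universe u
open CategoryTheory CategoryTheory.Limits AlgebraicGeometry
open Variety

namespace Groth.Agent.S7666

/-- Let A be a one-dimensional Noetherian local ring and L = ∏ A_p, the product over the minimal primes
of A. If a_1, a_2 ∈ m_A have the same image in L, then a_1 and a_2 have equal n-th powers for some
positive integer n. -/
theorem result (A : Type u) [CommRing A]
    [IsLocalRing A] [IsNoetherianRing A] (hdim : ringKrullDim A = 1)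
    (a₁ a₂ : A) (h₁ : a₁ ∈ IsLocalRing.maximalIdeal A) (h₂ : a₂ ∈ IsLocalRing.maximalIdeal A)
    (heq : ∀ p : {p : PrimeSpectrum A // p.asIdeal ∈ minimalPrimes A},
      algebraMap A (Localization.AtPrime p.1.asIdeal) a₁ = algebraMap A (Localization.AtPrime p.1.asIdeal) a₂) :
    ∃ n : ℕ, 0 < n ∧ a₁ ^ n = a₂ ^ n := by
  have hK : Ring.KrullDimLE 1 A := (Ring.krullDimLE_iff).2 hdim.le
  let d := a₁ - a₂
  let I : Ideal A := LinearMap.ker (LinearMap.mulRight A d)
  have hI : ∀ q : Ideal A, q.IsPrime → I ≤ q → q = IsLocalRing.maximalIdeal A := by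
    intro q hq hIq
    rcases (Ring.krullDimLE_one_iff.1 hK) q hq with h | h
    · exfalso
      obtain ⟨c, hc⟩ := (IsLocalization.eq_iff_exists q.primeCompl (Localization.AtPrime q)).1 (heq ⟨⟨q, hq⟩, h⟩)
      exact c.2 (hIq (show (c : A) * d = 0 by rw [mul_sub, hc, sub_self]))
    · exact IsLocalRing.eq_maximalIdeal h
  obtain ⟨N, hN⟩ := Ideal.exists_pow_le_of_le_radical_of_fg (I := IsLocalRing.maximalIdeal A) (J := I) (by
    rw [Ideal.radical_eq_sInf]
    refine le_sInf fun q hq => ?_
    rw [hI q hq.2 hq.1]) (IsNoetherian.noetherian _)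
  refine ⟨N + 1, by omega, sub_eq_zero.1 ?_⟩
  rw [← geom_sum₂_mul]
  refine hN (Ideal.sum_mem _ fun i hi => ?_)
  have h := Ideal.mul_mem_mul (Ideal.pow_mem_pow h₁ i) (Ideal.pow_mem_pow h₂ (N + 1 - 1 - i))
  rw [← pow_add] at h
  rwa [show i + (N + 1 - 1 - i) = N by have := Finset.mem_range.1 hi; omega] at h

end Groth.Agent.S7666
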