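import Groth.Statements.S7667
-- import your own Groth.Agent.* helpers here

set_option autoImplicit false
universe u
open CategoryTheory CategoryTheory.Limits AlgebraicGeometry
open Variety

namespace Groth.Agent.S7667

/-- Let A be a one-dimensional Noetherian local ring, L the product of the localizations A_p over its
minimal primes p, and I the intersection of those primes (the nilradical of A). If f ∈ L equals i +
a with a in the maximal ideal of A and i ∈ I·L, then for some positive integer n, f^n belongs to the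
subring of L obtained as the image of the structure map from A. -/
theorem result (A : Type u) [CommRing A]
    [IsLocalRing A] [IsNoetherianRing A] (hdim : ringKrullDim A = 1)
    (a : A) (ha : a ∈ IsLocalRing.maximalIdeal A)
    (i : ∀ p : {p : PrimeSpectrum A // p.asIdeal ∈ minimalPrimes A}, Localization.AtPrime p.1.asIdeal)
    (hi : i ∈ (nilradical A).map (algebraMap A (∀ p : {p : PrimeSpectrum A // p.asIdeal ∈ minimalPrimes A}, Localization.AtPrime p.1.asIdeal))) :
    ∃ n : ℕ, 0 < n ∧ (i + algebraMap A (∀ p : {p : PrimeSpectrum A // p.asIdeal ∈ minimalPrimes A}, Localization.AtPrime p.1.asIdeal) a) ^ n ∈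
      (algebraMap A (∀ p : {p : PrimeSpectrum A // p.asIdeal ∈ minimalPrimes A}, Localization.AtPrime p.1.asIdeal)).range := by
  classical
  have hK : Ring.KrullDimLE 1 A := (Ring.krullDimLE_iff).2 hdim.le
  let ι := {p : PrimeSpectrum A // p.asIdeal ∈ minimalPrimes A}
  let R := ∀ p : ι, Localization.AtPrime p.1.asIdeal
  let φ : A →+* R := algebraMap A R
  have : Finite ι := by
    have h := minimalPrimes.finite_of_isNoetherianRing A
    haveI := h.to_subtype
    exact Finite.of_injective (fun p : ι => (⟨p.1.asIdeal, p.2⟩ : minimalPrimes A))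
      (fun x y e => Subtype.ext (PrimeSpectrum.ext (congrArg Subtype.val e)))
  have : Fintype ι := Fintype.ofFinite _
  have hpow : ∀ s : A, (∀ p : ι, s ∉ p.1.asIdeal) → ∃ N, a ^ N ∈ Ideal.span {s} := by
    intro s hs
    have : a ∈ (Ideal.span {s}).radical := by
      rw [Ideal.radical_eq_sInf, Ideal.mem_sInf]
      rintro q ⟨hsq, hq⟩
      rcases (Ring.krullDimLE_one_iff.1 hK) q hq with h | h
      · exact absurd (hsq (Ideal.mem_span_singleton_self s)) (hs ⟨⟨q, hq⟩, h⟩)
      · rwa [IsLocalRing.eq_maximalIdeal h]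
    exact this
  have hnil : ∀ (p : ι) (t : A), t ∈ p.1.asIdeal →
      IsNilpotent (algebraMap A (Localization.AtPrime p.1.asIdeal) t) := by
    intro p t ht
    rw [nilpotent_iff_mem_prime]
    intro Q hQ
    have hle : Q.comap (algebraMap A (Localization.AtPrime p.1.asIdeal)) ≤ p.1.asIdeal := by
      intro x hx
      by_contra h
      exact hQ.ne_top (Ideal.eq_top_of_isUnit_mem _ hx
        (IsLocalization.map_units (Localization.AtPrime p.1.asIdeal) (⟨x, h⟩ : p.1.asIdeal.primeCompl)))
    exact Ideal.mem_comap.1 (p.2.2 ⟨inferInstance, bot_le⟩ hle ht)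
  have key : ∀ z : R, ∃ N, ∀ M, N ≤ M → φ a ^ M * z ∈ φ.range := by
    intro z
    have hsingle : ∀ (p : ι) (x : Localization.AtPrime p.1.asIdeal),
        ∃ N, ∀ M, N ≤ M → φ a ^ M * Pi.single p x ∈ φ.range := by
      intro p x
      obtain ⟨y, s, rfl⟩ := IsLocalization.exists_mk'_eq p.1.asIdeal.primeCompl x
      have ht : ∀ q : ι, q ≠ p → ∃ t ∈ q.1.asIdeal, t ∉ p.1.asIdeal := fun q hq => by
        by_contra! h
        exact hq (Subtype.ext (PrimeSpectrum.ext (le_antisymm h (p.2.2 ⟨q.1.2, bot_le⟩ h))))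
      choose t ht1 ht2 using ht
      let T : A := ∏ q ∈ (Finset.univ.erase p).attach, t q.1 (Finset.mem_erase.1 q.2).1
      have hT1 : ∀ q : ι, q ≠ p → T ∈ q.1.asIdeal := fun q hq =>
        Ideal.mem_of_dvd _ (Finset.dvd_prod_of_mem _ (Finset.mem_attach _ ⟨q, Finset.mem_erase.2 ⟨hq, Finset.mem_univ q⟩⟩)) (ht1 q hq)
      have hT2 : T ∉ p.1.asIdeal := by
        intro h
        obtain ⟨q, -, hq⟩ := Ideal.IsPrime.prod_mem_iff.1 h
        exact ht2 q.1 (Finset.mem_erase.1 q.2).1 hq
      have hL : ∀ q : ι, ∃ L, q ≠ p → algebraMap A (Localization.AtPrime q.1.asIdeal) (T ^ L) = 0 := fun q => by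
        by_cases hq : q = p
        · exact ⟨0, fun h => absurd hq h⟩
        · obtain ⟨L, hL⟩ := hnil q T (hT1 q hq)
          exact ⟨L, fun _ => by rw [map_pow, hL]⟩
      choose L hL using hL
      let u : A := T ^ ((∑ q, L q) + 1)
      have hu : ∀ q : ι, q ≠ p → algebraMap A (Localization.AtPrime q.1.asIdeal) u = 0 := fun q hq => by
        obtain ⟨j, hj⟩ := Nat.exists_eq_add_of_le (Finset.single_le_sum (f := L) (fun q _ => Nat.zero_le _) (Finset.mem_univ q))
        simp only [u]
        rw [hj, pow_add, pow_add, map_mul, map_mul, hL q hq, zero_mul, zero_mul]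
      have hu' : u ∉ p.1.asIdeal := fun h => hT2 (Ideal.IsPrime.mem_of_pow_mem inferInstance _ h)
      -- `w` avoids `p` and kills nothing at `p`; choose a denominator outside all minimal primes
      obtain ⟨w, hw⟩ : ∃ w : A, ∀ q : ι, (s : A) * u + w ∉ q.1.asIdeal ∧
          algebraMap A (Localization.AtPrime p.1.asIdeal) w = 0 := by
        have hv : ∀ q : ι, ∃ v : A, v ∉ q.1.asIdeal ∧ ∀ r : ι, r ≠ q → v ∈ r.1.asIdeal := by
          intro q
          have ht' : ∀ r : ι, r ≠ q → ∃ t ∈ r.1.asIdeal, t ∉ q.1.asIdeal := fun r hr => by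
            by_contra! h
            exact hr (Subtype.ext (PrimeSpectrum.ext (le_antisymm h (q.2.2 ⟨r.1.2, bot_le⟩ h))))
          choose t' ht1' ht2' using ht'
          refine ⟨∏ r ∈ (Finset.univ.erase q).attach, t' r.1 (Finset.mem_erase.1 r.2).1, fun h => ?_, fun r hr =>
            Ideal.mem_of_dvd _ (Finset.dvd_prod_of_mem _ (Finset.mem_attach _ ⟨r, Finset.mem_erase.2 ⟨hr, Finset.mem_univ r⟩⟩)) (ht1' r hr)⟩
          obtain ⟨r, -, hr⟩ := Ideal.IsPrime.prod_mem_iff.1 h
          exact ht2' r.1 (Finset.mem_erase.1 r.2).1 hr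
        choose v hv1 hv2 using hv
        have hv0 : IsNilpotent (algebraMap A (Localization.AtPrime p.1.asIdeal) (∑ q ∈ Finset.univ.erase p, v q)) :=
          hnil p _ (Ideal.sum_mem _ fun q hq => hv2 q p (Finset.mem_erase.1 hq).1.symm)
        obtain ⟨m, hm⟩ := hv0
        refine ⟨(∑ q ∈ Finset.univ.erase p, v q) ^ (m + 1), fun q => ⟨fun h => ?_, by
          rw [map_pow, pow_succ, hm, zero_mul]⟩⟩
        by_cases hq : q = p
        · subst hq
          have h1 : (∑ r ∈ Finset.univ.erase q, v r) ^ (m + 1) ∈ q.1.asIdeal :=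
            Ideal.pow_mem_of_mem _ (Ideal.sum_mem _ fun r hr => hv2 r q (Finset.mem_erase.1 hr).1.symm) _ (by omega)
          rcases Ideal.IsPrime.mem_or_mem inferInstance ((Ideal.add_mem_iff_left _ h1).1 h) with h2 | h2
          · exact s.2 h2
          · exact hu' h2
        · have h1 : (s : A) * u ∈ q.1.asIdeal :=
            Ideal.mul_mem_left _ _ (Ideal.pow_mem_of_mem _ (hT1 q hq) _ (Nat.succ_pos _))
          have h2 := Ideal.IsPrime.mem_of_pow_mem inferInstance _ ((Ideal.add_mem_iff_right _ h1).1 h)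
          rw [← Finset.add_sum_erase _ _ (Finset.mem_erase.2 ⟨hq, Finset.mem_univ q⟩)] at h2
          refine hv1 q ((Ideal.add_mem_iff_left _ (Ideal.sum_mem _ fun r hr => ?_)).1 h2)
          exact hv2 r q (Finset.mem_erase.1 hr).1.symm
      obtain ⟨N, hN⟩ := hpow ((s : A) * u + w) (fun q => (hw q).1)
      refine ⟨N, fun M hM => ?_⟩
      obtain ⟨c, hc⟩ := (Ideal.mem_span_singleton.1 hN).trans (pow_dvd_pow a hM)
      refine ⟨c * (y * u), ?_⟩
      rw [← map_pow, hc]
      funext q
      by_cases hq : q = p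
      · subst hq
        simp only [φ, R, Pi.algebraMap_apply, Pi.add_apply, Pi.mul_apply, Pi.single_eq_same, map_mul, map_add, (hw q).2, add_zero]
        rw [← IsLocalization.mk'_spec (Localization.AtPrime q.1.asIdeal) y s]
        ring
      · simp only [φ, R, Pi.algebraMap_apply, Pi.mul_apply, map_mul, hu q hq, Pi.single_eq_of_ne hq, mul_zero]
    choose N hN using fun p => hsingle p (z p)
    refine ⟨∑ p, N p, fun M hM => ?_⟩
    rw [← Finset.univ_sum_single z, Finset.mul_sum]
    exact sum_mem fun p _ => hN p M ((Finset.single_le_sum (f := N) (fun q _ => Nat.zero_le _) (Finset.mem_univ p)).trans hM)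
  have hi' : IsNilpotent i := by
    rw [← mem_nilradical]
    refine Ideal.map_le_iff_le_comap.2 ?_ hi
    intro x hx
    exact mem_nilradical.2 ((mem_nilradical.1 hx).map _)
  obtain ⟨m, hm⟩ := hi'
  choose N hN using fun k : ℕ => key (i ^ k)
  refine ⟨m + (∑ k ∈ Finset.range m, N k) + 1, by omega, ?_⟩
  rw [add_pow]
  refine sum_mem fun k _ => ?_
  by_cases hk : k < m
  · rw [mul_comm (i ^ k)]
    refine mul_mem (hN k _ ?_) (natCast_mem _ _)
    have := Finset.single_le_sum (f := N) (fun q _ => Nat.zero_le _) (Finset.mem_range.2 hk)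
    omega
  · rw [pow_eq_zero_of_le (not_lt.1 hk) hm, zero_mul, zero_mul]
    exact zero_mem _

end Groth.Agent.S7667
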