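import Groth.Statements.S7668
-- import your own Groth.Agent.* helpers here

set_option autoImplicit false
universe u
open CategoryTheory CategoryTheory.Limits AlgebraicGeometry
open Variety

namespace Groth.Agent.S7668

/-- Let A be a ring, p_1, …, p_r primes of A and S = A ∖ ⋃ p_i. Then S is a multiplicative subset, S⁻¹A
is semi-local, and contraction to A is a bijection from the maximal ideals of S⁻¹A onto the maximal
elements of {p_1, …, p_r}. -/
theorem result (A : Type u) [CommRing A]
    (r : ℕ) (p : Fin r → PrimeSpectrum A) :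
    Finite (MaximalSpectrum (Localization (⨅ i, (p i).asIdeal.primeCompl))) ∧
      Set.BijOn (fun m : Ideal (Localization (⨅ i, (p i).asIdeal.primeCompl)) =>
          m.comap (algebraMap A (Localization (⨅ i, (p i).asIdeal.primeCompl))))
        {m | m.IsMaximal}
        {q | q ∈ Set.range (fun i => (p i).asIdeal) ∧
          ∀ j, q ≤ (p j).asIdeal → q = (p j).asIdeal} := by
  set S := ⨅ i, (p i).asIdeal.primeCompl
  let L := Localization S
  have hS : ∀ x, x ∈ S ↔ ∀ i, x ∉ (p i).asIdeal := fun x => by simp [S, Submonoid.mem_iInf]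
  have hsub : ∀ m : Ideal L, m.IsPrime → ∃ j, m.comap (algebraMap A L) ≤ (p j).asIdeal := by
    intro m hm
    have h := ((IsLocalization.isPrime_iff_isPrime_disjoint S L m).1 hm).2
    have hsub : ((m.comap (algebraMap A L)) : Set A) ⊆ ⋃ j ∈ (↑(Finset.univ : Finset (Fin r)) : Set (Fin r)), ((p j).asIdeal : Set A) := by
      intro x hx
      by_contra hx'
      simp only [Finset.coe_univ, Set.mem_univ, Set.iUnion_true, Set.mem_iUnion, not_exists] at hx'
      exact Set.disjoint_left.1 h ((hS x).2 hx') hx
    rcases Nat.eq_zero_or_pos r with hr | hr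
    · subst hr
      have := hsub (Submodule.zero_mem _ : (0 : A) ∈ m.comap (algebraMap A L))
      simp at this
    · obtain ⟨j, -, hj⟩ := (Ideal.subset_union_prime ⟨0, hr⟩ ⟨0, hr⟩ (fun i _ _ _ => (p i).2)).1 hsub
      exact ⟨j, hj⟩
  have hdis : ∀ j, Disjoint (S : Set A) ((p j).asIdeal : Set A) := fun j =>
    Set.disjoint_left.2 fun x hx => (hS x).1 hx j
  have hbij : Set.BijOn (fun m : Ideal L => m.comap (algebraMap A L)) {m | m.IsMaximal}
      {q | q ∈ Set.range (fun i => (p i).asIdeal) ∧ ∀ j, q ≤ (p j).asIdeal → q = (p j).asIdeal} := by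
    refine ⟨fun m hm => ?_, fun m _ m' _ h => ?_, fun q hq => ?_⟩
    · have hm' : m.IsMaximal := hm
      have key : ∀ j, m.comap (algebraMap A L) ≤ (p j).asIdeal → m.comap (algebraMap A L) = (p j).asIdeal := by
        intro j hj
        have hP := IsLocalization.isPrime_of_isPrime_disjoint S L _ (p j).2 (hdis j)
        have e := hm'.eq_of_le hP.ne_top (by
          rw [← IsLocalization.map_comap S L m]; exact Ideal.map_mono hj)
        rw [e]
        exact IsLocalization.comap_map_of_isPrime_disjoint S L (p j).2 (hdis j)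
      obtain ⟨j, hj⟩ := hsub m hm'.isPrime
      exact ⟨⟨j, (key j hj).symm⟩, key⟩
    · rw [← IsLocalization.map_comap S L m, ← IsLocalization.map_comap S L m']
      exact congrArg _ h
    · obtain ⟨⟨i, rfl⟩, hmax⟩ := hq
      have hP := IsLocalization.isPrime_of_isPrime_disjoint S L _ (p i).2 (hdis i)
      obtain ⟨M, hM, hle⟩ := Ideal.exists_le_maximal _ hP.ne_top
      refine ⟨M, hM, ?_⟩
      obtain ⟨j, hj⟩ := hsub M hM.isPrime
      have h1 : (p i).asIdeal ≤ M.comap (algebraMap A L) := Ideal.map_le_iff_le_comap.1 hle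
      exact le_antisymm (hj.trans (hmax j (h1.trans hj)).ge) h1
  refine ⟨?_, hbij⟩
  have hfin : {m : Ideal L | m.IsMaximal}.Finite :=
    Set.Finite.of_finite_image (((Set.finite_range _).subset fun q hq => by
      obtain ⟨m, hm, rfl⟩ := hq
      exact (hbij.1 hm).1)) hbij.2.1
  haveI := hfin.to_subtype
  exact Finite.of_injective (fun m : MaximalSpectrum L => (⟨m.asIdeal, m.isMaximal⟩ : {m : Ideal L | m.IsMaximal}))
    (fun x y e => MaximalSpectrum.ext (congrArg Subtype.val e))

end Groth.Agent.S7668
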