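import Groth.Statements.S8281
import Groth.Agent.S3569
import Groth.Agent.S8255

set_option autoImplicit false
universe u
open CategoryTheory CategoryTheory.Limits AlgebraicGeometry Opposite TopologicalSpace
open EGA2

namespace Groth.Agent.S8281

open Opposite AlgebraicGeometry CategoryTheory CategoryTheory.Limits TopologicalSpace

theorem ι_eq {S : Scheme.{u}} (A : RelSpec.QCAlg S) (U : S.Opens) (hU : IsAffineOpen U) :
    A.ι U hU = Spec.map (A.gammaAff U hU) ≫ (hU.preimage A.π).fromSpec := by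
  rw [RelSpec.QCAlg.gammaAff, Spec.map_comp, Category.assoc,
    (hU.preimage A.π).SpecMap_appLE_fromSpec (A.ι U hU) (isAffineOpen_top _) (A.top_le_preimage U hU),
    IsAffineOpen.fromSpec_top, ← Category.assoc, Scheme.isoSpec_Spec_inv, ← Spec.map_comp, Iso.inv_hom_id,
    Spec.map_id, Category.id_comp]

theorem exists_affine_le {S S' : Scheme.{u}} (q : S' ⟶ S) (x : S') :
    ∃ (U : S.Opens) (_ : IsAffineOpen U) (U' : S'.Opens), IsAffineOpen U' ∧ x ∈ U' ∧ U' ≤ q ⁻¹ᵁ U := by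
  obtain ⟨_, ⟨U, hU, rfl⟩, hxU, -⟩ := S.isBasis_affineOpens.exists_subset_of_mem_open (Set.mem_univ (q x)) isOpen_univ
  obtain ⟨_, ⟨U', hU', rfl⟩, hx, hle⟩ :=
    S'.isBasis_affineOpens.exists_subset_of_mem_open (show x ∈ q ⁻¹ᵁ U from hxU) (q ⁻¹ᵁ U).2
  exact ⟨U, hU, U', hU', hx, hle⟩

theorem chart_cover {S S' : Scheme.{u}} (q : S' ⟶ S) (B' : RelSpec.QCAlg S') {Z : Scheme.{u}} (a b : B'.spec ⟶ Z)
    (h : ∀ (U : S.Opens) (_ : IsAffineOpen U) (U' : S'.Opens) (hU' : IsAffineOpen U'), U' ≤ q ⁻¹ᵁ U →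
      B'.ι U' hU' ≫ a = B'.ι U' hU' ≫ b) : a = b := by
  choose U hU U' hU' hx hle using exists_affine_le q
  have hcov : IsOpenCover (fun x : S' => (B'.ι (U' x) (hU' x)).opensRange) :=
    IsOpenCover.mk (eq_top_iff.mpr fun z _ => Opens.mem_iSup.mpr ⟨B'.π z, by
      show z ∈ (B'.ι (U' (B'.π z)) (hU' (B'.π z))).opensRange
      rw [← B'.π_preimage]
      exact hx (B'.π z)⟩)
  refine (B'.spec.openCoverOfIsOpenCover _ hcov).hom_ext _ _ fun x => ?_
  show (B'.ι (U' x) (hU' x)).opensRange.ι ≫ a = (B'.ι (U' x) (hU' x)).opensRange.ι ≫ b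
  rw [← cancel_epi (B'.ι (U' x) (hU' x)).isoOpensRange.hom, Scheme.Hom.isoOpensRange_hom_ι_assoc,
    Scheme.Hom.isoOpensRange_hom_ι_assoc]
  exact h _ (hU x) _ (hU' x) (hle x)

/-- Let q : S' → S be a morphism, B and B' quasi-coherent algebras over O_S and O_{S'}, and u : B →
q_*B' a q-morphism (compatible with the structure maps). Then u induces a unique morphism v =
Spec(u) : Spec(B') → Spec(B) which on the charts over affine opens U ⊆ S, U' ⊆ q⁻¹(U) is Spec of the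
ring map B(U) → B'(U') given by u and restriction; it lies over q. -/
theorem result {S S' : Scheme.{u}} (q : S' ⟶ S) (B : RelSpec.QCAlg S)
    (B' : RelSpec.QCAlg S') (u : B.presheaf ⟶ q.base _* B'.presheaf)
    (hu : B.str ≫ u = q.c ≫ (TopCat.Presheaf.pushforward CommRingCat.{u} q.base).map B'.str) :
    (∃! v : B'.spec ⟶ B.spec,
        ∀ (U : S.Opens) (hU : IsAffineOpen U) (U' : S'.Opens) (hU' : IsAffineOpen U') (hle : U' ≤ q ⁻¹ᵁ U),
          B'.ι U' hU' ≫ v =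
            Spec.map ((u.app (op U) : B.presheaf.obj (op U) ⟶ B'.presheaf.obj (op (q ⁻¹ᵁ U))) ≫
              B'.presheaf.map (homOfLE hle).op) ≫ B.ι U hU) ∧
      ∀ v : B'.spec ⟶ B.spec,
        (∀ (U : S.Opens) (hU : IsAffineOpen U) (U' : S'.Opens) (hU' : IsAffineOpen U') (hle : U' ≤ q ⁻¹ᵁ U),
          B'.ι U' hU' ≫ v =
            Spec.map ((u.app (op U) : B.presheaf.obj (op U) ⟶ B'.presheaf.obj (op (q ⁻¹ᵁ U))) ≫
              B'.presheaf.map (homOfLE hle).op) ≫ B.ι U hU) →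
        v ≫ B.π = B'.π ≫ q := by
  have : IsIso B'.gammaMap := Groth.Agent.S8255.result B'
  let pu := TopCat.Presheaf.pushforward CommRingCat.{u} q.base
  let ω₀ : AffAlg.alg B.π ⟶ AffAlg.alg (B'.π ≫ q) := B.gammaMap ≫ u ≫ pu.map (inv B'.gammaMap)
  have hω : B.π.c ≫ ω₀ = (B'.π ≫ q).c := by
    show B.π.c ≫ B.gammaMap ≫ u ≫ pu.map (inv B'.gammaMap) = _
    rw [reassoc_of% B.π_c_gammaMap, reassoc_of% hu]
    erw [← Functor.map_comp]
    rw [(IsIso.comp_inv_eq B'.gammaMap).mpr B'.π_c_gammaMap.symm]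
    rfl
  have hlast : ∀ v : B'.spec ⟶ B.spec, (∀ (U : S.Opens) (hU : IsAffineOpen U) (U' : S'.Opens)
      (hU' : IsAffineOpen U') (hle : U' ≤ q ⁻¹ᵁ U), B'.ι U' hU' ≫ v =
        Spec.map ((u.app (op U) : B.presheaf.obj (op U) ⟶ B'.presheaf.obj (op (q ⁻¹ᵁ U))) ≫
          B'.presheaf.map (homOfLE hle).op) ≫ B.ι U hU) → v ≫ B.π = B'.π ≫ q := by
    intro v hv
    refine chart_cover q B' _ _ fun U hU U' hU' hle => ?_
    have h1 : B.str.app (op U) ≫ (u.app (op U) : B.presheaf.obj (op U) ⟶ B'.presheaf.obj (op (q ⁻¹ᵁ U))) ≫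
        B'.presheaf.map (homOfLE hle).op = q.appLE U U' hle ≫ B'.str.app (op U') := by
      have e := NatTrans.congr_app hu (op U)
      have e' := B'.str.naturality (homOfLE hle).op
      refine ((Category.assoc _ _ _).symm.trans (congrArg (· ≫ B'.presheaf.map (homOfLE hle).op) e)).trans ?_
      show (q.app U ≫ B'.str.app (op (q ⁻¹ᵁ U))) ≫ B'.presheaf.map (homOfLE hle).op = _
      rw [Category.assoc, ← e', Scheme.Hom.appLE, Category.assoc]
    rw [reassoc_of% (hv U hU U' hU' hle), B.ι_π, reassoc_of% (B'.ι_π U' hU'), ← Spec.map_comp_assoc, h1,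
      Spec.map_comp_assoc, hU.SpecMap_appLE_fromSpec q hU' hle]
  obtain ⟨⟨v, hvπ⟩, hv⟩ := (Groth.Agent.S3569.result B.π (B'.π ≫ q)).2 ⟨ω₀, hω⟩
  have hv' : AffAlg.algHom B.π (B'.π ≫ q) v hvπ = ω₀ := congrArg Subtype.val hv
  have hchart : ∀ (U : S.Opens) (hU : IsAffineOpen U) (U' : S'.Opens) (hU' : IsAffineOpen U') (hle : U' ≤ q ⁻¹ᵁ U),
      B'.ι U' hU' ≫ v = Spec.map ((u.app (op U) : B.presheaf.obj (op U) ⟶ B'.presheaf.obj (op (q ⁻¹ᵁ U))) ≫
        B'.presheaf.map (homOfLE hle).op) ≫ B.ι U hU := by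
    intro U hU U' hU' hle
    have hW : B'.π ⁻¹ᵁ (q ⁻¹ᵁ U) ≤ v ⁻¹ᵁ (B.π ⁻¹ᵁ U) := by
      rw [← Scheme.Hom.comp_preimage, ← Scheme.Hom.comp_preimage, hvπ]
    have h2 : (⊤ : (Spec (B'.presheaf.obj (op U'))).Opens) ≤ B'.ι U' hU' ⁻¹ᵁ (B'.π ⁻¹ᵁ (q ⁻¹ᵁ U)) :=
      (B'.top_le_preimage U' hU').trans ((B'.ι U' hU').preimage_mono (B'.π.preimage_mono hle))
    have happ : v.appLE (B.π ⁻¹ᵁ U) (B'.π ⁻¹ᵁ (q ⁻¹ᵁ U)) hW =
        B.gammaAff U hU ≫ (u.app (op U) : B.presheaf.obj (op U) ⟶ B'.presheaf.obj (op (q ⁻¹ᵁ U))) ≫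
          (inv B'.gammaMap).app (op (q ⁻¹ᵁ U)) := by
      have e := NatTrans.congr_app hv' (op U)
      rw [Groth.Agent.S3569.algHom_app] at e
      refine e.trans ?_
      rw [← B.gammaMap_app U hU]
      rfl
    have key : v.appLE (B.π ⁻¹ᵁ U) (B'.π ⁻¹ᵁ (q ⁻¹ᵁ U)) hW ≫ (B'.ι U' hU').appLE _ ⊤ h2 ≫
        (Scheme.ΓSpecIso _).hom = B.gammaAff U hU ≫
        (u.app (op U) : B.presheaf.obj (op U) ⟶ B'.presheaf.obj (op (q ⁻¹ᵁ U))) ≫ B'.presheaf.map (homOfLE hle).op := by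
      have h3 : (B'.ι U' hU').appLE (B'.π ⁻¹ᵁ (q ⁻¹ᵁ U)) ⊤ h2 ≫ (Scheme.ΓSpecIso _).hom =
          B'.spec.presheaf.map (homOfLE (B'.π.preimage_mono hle)).op ≫ B'.gammaAff U' hU' := by
        rw [RelSpec.QCAlg.gammaAff, Scheme.Hom.map_appLE_assoc]
      rw [h3, happ, Category.assoc, Category.assoc]
      congr 2
      have e := (inv B'.gammaMap).naturality (homOfLE hle).op
      refine ((reassoc_of% e) _).symm.trans ?_
      rw [← B'.gammaMap_app U' hU', ← NatTrans.comp_app, IsIso.inv_hom_id, NatTrans.id_app, Category.comp_id]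
    rw [ι_eq B U hU, ← Spec.map_comp_assoc, ← key, ← Category.assoc, Spec.map_comp, Category.assoc,
      Scheme.Hom.appLE_comp_appLE, (hU.preimage B.π).SpecMap_appLE_fromSpec _ (isAffineOpen_top _),
      IsAffineOpen.fromSpec_top, ← Category.assoc, Scheme.isoSpec_Spec_inv, ← Spec.map_comp, Iso.inv_hom_id,
      Spec.map_id, Category.id_comp]
  refine ⟨⟨v, hchart, fun v' hv'' => ?_⟩, hlast⟩
  refine chart_cover q B' _ _ fun U hU U' hU' hle => ?_
  rw [hv'' U hU U' hU' hle, hchart U hU U' hU' hle]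

end Groth.Agent.S8281
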