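import Groth.Statements.S8305
import Groth.Agent.S3569
import Groth.Agent.ModStalk.IsoCriterion
import Groth.Agent.ModStalk.QCoh

set_option autoImplicit false
universe u
open CategoryTheory CategoryTheory.Limits AlgebraicGeometry Opposite TopologicalSpace
noncomputable section
open EGA2

namespace Groth.Agent.S8305

open Opposite AlgebraicGeometry CategoryTheory CategoryTheory.Limits TopologicalSpace

theorem algHom_comp {X Y Z S : Scheme.{u}} (f : X ⟶ S) (g : Y ⟶ S) (g' : Z ⟶ S) (h : Y ⟶ X) (k : Z ⟶ Y)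
    (w : h ≫ f = g) (w' : k ≫ g = g') :
    AffAlg.algHom f g' (k ≫ h) (by rw [Category.assoc, w, w']) = AffAlg.algHom f g h w ≫ AffAlg.algHom g g' k w' := by
  refine Groth.Agent.S3569.hom_ext_affine ⟨_, TopCat.Sheaf.pushforward_sheaf_of_sheaf g'.base Z.sheaf.property⟩ _ _ fun U _ => ?_
  rw [NatTrans.comp_app, Groth.Agent.S3569.algHom_app, Groth.Agent.S3569.algHom_app, Groth.Agent.S3569.algHom_app]
  exact (Scheme.Hom.appLE_comp_appLE k h _ _ _ _ _).symm

theorem algHom_congr {X Y S : Scheme.{u}} (f : X ⟶ S) (g : Y ⟶ S) {h h' : Y ⟶ X} (e : h = h') (w : h ≫ f = g)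
    (w' : h' ≫ f = g) : AffAlg.algHom f g h w = AffAlg.algHom f g h' w' := by
  subst e; rfl

theorem algHom_id {X S : Scheme.{u}} (f : X ⟶ S) : AffAlg.algHom f f (𝟙 X) (Category.id_comp f) = 𝟙 _ := by
  refine Groth.Agent.S3569.hom_ext_affine ⟨_, TopCat.Sheaf.pushforward_sheaf_of_sheaf f.base X.sheaf.property⟩ _ _ fun U _ => ?_
  rw [Groth.Agent.S3569.algHom_app]
  rw [Scheme.Hom.appLE, Scheme.Hom.id_app]
  exact (Category.id_comp _).trans (X.presheaf.map_id _)

/-- Let X and Y be schemes affine over S with structure morphisms gX and gY, h : Y → X a morphism over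
S, F a quasi-coherent O_X-module, G a quasi-coherent O_Y-module and v : F → h_*G a homomorphism of
O_X-modules, so that (h, v) is a morphism of pairs (Y, G) → (X, F). Then h and v are isomorphisms if
and only if the direct-image algebra homomorphism A(h) : gX_*O_X → gY_*O_Y and the direct image A(v)
= gX_*(v) : gX_*F → gX_*h_*G are isomorphisms (the pair (A(h), A(v)) is a di-isomorphism). -/
theorem result {X Y S : Scheme.{u}} (gX : X ⟶ S) [IsAffineHom gX]
    (gY : Y ⟶ S) [IsAffineHom gY] (h : Y ⟶ X) (hh : h ≫ gX = gY)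
    (F : X.Modules) (G : Y.Modules) (hF : Coh.IsQCoh F) (hG : Coh.IsQCoh G)
    (v : F ⟶ (Scheme.Modules.pushforward h).obj G) :
    (IsIso h ∧ IsIso v) ↔
      (IsIso (AffAlg.algHom gX gY h hh) ∧ IsIso ((Scheme.Modules.pushforward gX).map v)) := by
  constructor
  · rintro ⟨_, _⟩
    have w' : inv h ≫ gY = gX := by rw [IsIso.inv_comp_eq, hh]
    refine ⟨⟨AffAlg.algHom gY gX (inv h) w', ?_, ?_⟩, inferInstance⟩
    · rw [← algHom_comp, algHom_congr gX gX (IsIso.inv_hom_id h) _ (Category.id_comp gX), algHom_id]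
    · rw [← algHom_comp, algHom_congr gY gY (IsIso.hom_inv_id h) _ (Category.id_comp gY), algHom_id]
  · rintro ⟨hω, hv⟩
    have hcomm : gY.c ≫ inv (AffAlg.algHom gX gY h hh) = gX.c := by
      rw [IsIso.comp_inv_eq, AffAlg.algHom_comm]
    obtain ⟨⟨k, hk⟩, hk'⟩ := (Groth.Agent.S3569.result gY gX).2 ⟨_, hcomm⟩
    have hk'' : AffAlg.algHom gY gX k hk = inv (AffAlg.algHom gX gY h hh) := congrArg Subtype.val hk'
    have e1 : k ≫ h = 𝟙 X := congrArg Subtype.val ((Groth.Agent.S3569.result gX gX).1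
      (a₁ := ⟨k ≫ h, by rw [Category.assoc, hh, hk]⟩) (a₂ := ⟨𝟙 X, Category.id_comp gX⟩) (Subtype.ext (by
        show AffAlg.algHom gX gX (k ≫ h) (by rw [Category.assoc, hh, hk]) = AffAlg.algHom gX gX (𝟙 X) (Category.id_comp gX)
        rw [algHom_comp gX gY gX h k hh hk, hk'', IsIso.hom_inv_id, algHom_id])))
    have e2 : h ≫ k = 𝟙 Y := congrArg Subtype.val ((Groth.Agent.S3569.result gY gY).1
      (a₁ := ⟨h ≫ k, by rw [Category.assoc, hk, hh]⟩) (a₂ := ⟨𝟙 Y, Category.id_comp gY⟩) (Subtype.ext (by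
        show AffAlg.algHom gY gY (h ≫ k) (by rw [Category.assoc, hk, hh]) = AffAlg.algHom gY gY (𝟙 Y) (Category.id_comp gY)
        rw [algHom_comp gY gX gY k h hk hh, hk'', IsIso.inv_hom_id, algHom_id])))
    have : IsIso h := ⟨k, e2, e1⟩
    refine ⟨inferInstance, ?_⟩
    have : F.IsQuasicoherent := hF
    have : G.IsQuasicoherent := hG
    have : ((Scheme.Modules.pushforward h).obj G).IsQuasicoherent := Groth.Agent.ModStalk.isQuasicoherent_pushforward h G
    refine Groth.Agent.ModStalk.isIso_of_app_bijective v fun x => ?_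
    obtain ⟨_, ⟨U, hU, rfl⟩, hxU, -⟩ := S.isBasis_affineOpens.exists_subset_of_mem_open (Set.mem_univ (gX x)) isOpen_univ
    refine ⟨gX ⁻¹ᵁ U, hU.preimage gX, hxU, ?_⟩
    have hiso := hv
    have h5 : IsIso (((Scheme.Modules.pushforward gX).map v).app U) :=
      Functor.map_isIso (Scheme.Modules.toPresheaf S ⋙ (evaluation _ _).obj (op U)) ((Scheme.Modules.pushforward gX).map v)
    exact ConcreteCategory.bijective_of_isIso (((Scheme.Modules.pushforward gX).map v).app U)

end Groth.Agent.S8305
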