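import Groth.Statements.S8316
import Groth.Agent.ModStalk.AModDir
import Groth.Agent.ModStalk.ColimitSections

set_option autoImplicit false
universe u
open CategoryTheory CategoryTheory.Limits AlgebraicGeometry Opposite TopologicalSpace
noncomputable section
open EGA2

namespace Groth.Agent.S8316

open Groth.Agent.ModStalk
open CategoryTheory CategoryTheory.Limits AlgebraicGeometry

set_option linter.style.haveILetI false


/-- Commutation with inductive limits: in the form it takes for the direct image: let f : X → S be an
affine morphism and (F_j)_{j ∈ J} an inductive system of quasi-coherent O_X-modules indexed by a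
nonempty directed preordered set J. Then the canonical morphism from the inductive limit of the
f_*F_j to f_*(lim→ F_j), in the category of modules over the direct-image algebra f_*O_X, is an
isomorphism. (The published statement says that the module on X attached to a quasi-coherent
f_*O_X-module commutes with inductive limits; through the equivalence on quasi-coherent modules this
is the direct image commuting with inductive limits of quasi-coherent modules.) -/
theorem result {X S : Scheme.{u}} (f : X ⟶ S) [IsAffineHom f]
    {J : Type u} [Preorder J] [Nonempty J] [IsDirected J (fun a b => a ≤ b)]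
    (D : J ⥤ X.Modules) (hD : ∀ j, Coh.IsQCoh (D.obj j)) :
    IsIso (colimit.desc (D ⋙ AMod.dirImg f) ((AMod.dirImg f).mapCocone (colimit.cocone D))) := by
  let c := colimit.cocone D
  let P := Scheme.Modules.pushforward f
  let c' := colimit.cocone (D ⋙ P)
  let m := colimit.desc (D ⋙ P) (P.mapCocone c)
  have hDq : ∀ j, (D.obj j).IsQuasicoherent := hD
  have hPD : ∀ j, ((D ⋙ P).obj j).IsQuasicoherent := fun j => isQuasicoherent_pushforward f (D.obj j)
  have hcq : c.pt.IsQuasicoherent := isQCoh_of_isColimit hDq (colimit.isColimit D)
  haveI : (colimit (D ⋙ P)).IsQuasicoherent := isQCoh_of_isColimit hPD (colimit.isColimit (D ⋙ P))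
  haveI : (P.mapCocone c).pt.IsQuasicoherent := isQuasicoherent_pushforward f c.pt
  have hm : IsIso m := by
    refine isIso_of_app_bijective m fun s => ?_
    obtain ⟨_, ⟨U, hU, rfl⟩, hsU, -⟩ := S.isBasis_affineOpens.exists_subset_of_mem_open (Set.mem_univ s) isOpen_univ
    refine ⟨U, hU, hsU, ?_⟩
    haveI := preservesColimit_sections hU (D ⋙ P) hPD
    haveI := preservesColimit_sections (hU.preimage f) D hDq
    haveI : PreservesColimit D (P ⋙ secFunctor U) := preservesColimit_of_natIso D
      (NatIso.ofComponents (fun M => Iso.refl _) : secFunctor (f ⁻¹ᵁ U) ≅ P ⋙ secFunctor U)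
    let h1 := isColimitOfPreserves (secFunctor U) (colimit.isColimit (D ⋙ P))
    let h2 : IsColimit ((secFunctor U).mapCocone (P.mapCocone c)) :=
      isColimitOfPreserves (P ⋙ secFunctor U) (colimit.isColimit D)
    have he : (secFunctor U).map m = (h1.coconePointUniqueUpToIso h2).hom := by
      refine h1.hom_ext fun j => ?_
      rw [h1.comp_coconePointUniqueUpToIso_hom h2 j]
      show (secFunctor U).map (colimit.ι (D ⋙ P) j) ≫ (secFunctor U).map m = _
      rw [← Functor.map_comp, colimit.ι_desc]
      rfl
    haveI : IsIso ((secFunctor U).map m) := by rw [he]; infer_instance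
    exact ConcreteCategory.bijective_of_isIso ((secFunctor U).map m)
  have hc : IsColimit (P.mapCocone c) :=
    IsColimit.ofPointIso (colimit.isColimit (D ⋙ P)) (i := hm)
  let A := AMod.toOS (RelSpec.QCAlg.directImage f)
  haveI : A.Faithful :=
    inferInstanceAs (SheafOfModules.restrictScalars (AMod.strHom (RelSpec.QCAlg.directImage f))).Faithful
  haveI : PreservesColimitsOfShape J A := AlgMod.preservesColimits_restrictScalars _ J
  haveI : ReflectsColimitsOfShape J A := reflectsColimitsOfShape_of_reflectsIsomorphisms
  let hA : IsColimit ((AMod.dirImg f).mapCocone c) := isColimitOfReflects A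
    (show IsColimit (A.mapCocone ((AMod.dirImg f).mapCocone c)) from hc)
  let φ := (colimit.isColimit (D ⋙ AMod.dirImg f)).descCoconeMorphism ((AMod.dirImg f).mapCocone c)
  haveI : IsIso φ := IsColimit.hom_isIso (colimit.isColimit (D ⋙ AMod.dirImg f)) hA φ
  exact inferInstanceAs (IsIso ((Cocone.forget _).map φ))

end Groth.Agent.S8316
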