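import Groth.Statements.S8344
import Mathlib.Topology.Constructible

set_option autoImplicit false
universe u
open ConstrTop

namespace Groth.Agent.S8344

/-- In a topological space X, every constructible subset is retrocompact in X, that is, it meets every
quasi-compact open subset of X in a quasi-compact set. -/
theorem result {X : Type u} [TopologicalSpace X] {s : Set X}
    (hs : Topology.IsConstructible s) : IsRetrocompact s := by
  induction s, hs using BooleanSubalgebra.closure_sdiff_sup_induction with
  | isSublattice => exact ⟨fun a ha b hb => ⟨ha.1.union hb.1, ha.2.union hb.2⟩,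
      fun a ha b hb => ⟨ha.1.inter hb.1, ha.2.inter_isOpen hb.2 hb.1⟩⟩
  | bot_mem => exact ⟨isOpen_empty, .empty⟩
  | top_mem => exact ⟨isOpen_univ, .univ⟩
  | sdiff U hU V hV =>
    intro K hK hKo
    have : U \ V ∩ K = (U ∩ K) ∩ Vᶜ := by
      ext x; simp; tauto
    rw [this]
    exact (hU.2 hK hKo).inter_right hV.1.isClosed_compl
  | sup a _ b _ ha hb => exact ha.union hb

end Groth.Agent.S8344
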