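import Groth.Statements.S8346
import Mathlib
import Groth.Agent.ConstrTop.Basic

set_option autoImplicit false
universe u
open ConstrTop

namespace Groth.Agent.S8346

open Set Groth.Agent.ConstrTop.Basic

open TopologicalSpace in
/-- Let X be a topological space admitting a basis of open subsets which are retrocompact in X. Then
every locally constructible subset T of X is retrocompact in X. -/
theorem result {X : Type u} [TopologicalSpace X]
    {B : Set (Set X)} (hB : IsTopologicalBasis B) (hBr : ∀ U ∈ B, IsRetrocompact U) {T : Set X}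
    (hT : Topology.IsLocallyConstructible T) : IsRetrocompact T := by
  intro W hW hWo
  have key : ∀ x, ∃ V ∈ B, x ∈ V ∧ Topology.IsConstructible (T ∩ V) := by
    intro x
    obtain ⟨U, hxU, hUo, hc⟩ := hT x
    obtain ⟨V, hVB, hxV, hVU⟩ := hB.exists_subset_of_mem_open (mem_of_mem_nhds hxU) hUo
    refine ⟨V, hVB, hxV, ?_⟩
    have hV := hB.isOpen hVB
    have h1 : Topology.IsConstructible ((Subtype.val : V → X) ⁻¹' T) :=
      (hc.preimage_of_isOpenEmbedding (Topology.IsOpenEmbedding.id.restrict hVU hV) :)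
    have h2 := h1.image_of_isOpenEmbedding hV.isOpenEmbedding_subtypeVal
      (by simpa using hBr V hVB)
    rwa [Subtype.image_preimage_coe, inter_comm] at h2
  choose V hVB hxV hc using key
  obtain ⟨t, ht⟩ := hW.elim_finite_subcover V (fun x => hB.isOpen (hVB x))
    (fun x _ => mem_iUnion.mpr ⟨x, hxV x⟩)
  rw [show T ∩ W = ⋃ x ∈ t, (T ∩ V x) ∩ W by
    ext z
    simp only [mem_inter_iff, mem_iUnion, exists_prop]
    exact ⟨fun ⟨h1, h2⟩ => let ⟨x, hx, hzx⟩ := mem_iUnion₂.mp (ht h2); ⟨x, hx, ⟨h1, hzx⟩, h2⟩,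
      fun ⟨x, _, ⟨h1, _⟩, h2⟩ => ⟨h1, h2⟩⟩]
  exact t.isCompact_biUnion fun x _ => isRetrocompact_of_isConstructible (hc x) hW hWo

end Groth.Agent.S8346
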