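import Groth.Statements.S8348
import Mathlib

set_option autoImplicit false
universe v u
open CategoryTheory CategoryTheory.Limits
open HomAlg3

namespace Groth.Agent.S8348

/-- Let C be an abelian category and Q a cochain complex of objects of C in degrees 0, 1, 2, ... such
that every Q^i is injective, every homology object H^i(Q) with i ≥ 1 is zero, and every inclusion of
the cycles Z^i(Q) into Q^i (i ≥ 0) is a split monomorphism. Then Q is an injective object of the
category of cochain complexes of C indexed by the natural numbers. (The published statement is for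
the narrower class of complexes with Z^i(Q) = B^i(Q) for every i ≥ 0, which in degree 0, where there
is no incoming differential, forces Z^0(Q) = 0; this row allows a nonzero Z^0(Q), so that it pairs
with the embedding of an arbitrary complex into such a Q. Such a Q is the direct sum of Z^0(Q)
placed in degree 0 and of the two-term complexes with Z^{i+1}(Q) in degrees i and i+1 and the
identity as differential, and the published argument carries over with Z^i(Q) in place of B^i(Q) as
the first summand of Q^i.) -/
theorem result {C : Type u} [Category.{v} C] [Abelian C]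
    (Q : CochainComplex C ℕ) (hinj : ∀ i : ℕ, Injective (Q.X i)) (hac : ∀ i : ℕ, IsZero (Q.homology (i + 1)))
    (hsplit : ∀ i : ℕ, IsSplitMono (Q.iCycles i)) : Injective Q := by
  have hd : ∀ i, Q.d i (i + 1) = Q.toCycles i (i + 1) ≫ Q.iCycles (i + 1) := fun i => (Q.toCycles_i i (i + 1)).symm
  have hrel : ∀ i, (ComplexShape.up ℕ).next i = i + 1 := fun i => by simp
  let S : ℕ → ShortComplex C := fun i => ShortComplex.mk (Q.iCycles i) (Q.toCycles i (i + 1)) (by
    rw [← cancel_mono (Q.iCycles (i + 1)), Category.assoc, ← hd, zero_comp]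
    exact Q.iCycles_d i (i + 1))
  have hex : ∀ i, (S i).Exact := fun i => by
    let S' := ShortComplex.mk (Q.iCycles i) (Q.d i (i + 1)) (Q.iCycles_d i (i + 1))
    have hS' : S'.Exact := ShortComplex.exact_of_f_is_kernel _ (Q.cyclesIsKernel i (i + 1) (hrel i))
    let φ : S i ⟶ S' :=
      { τ₁ := 𝟙 _, τ₂ := 𝟙 _, τ₃ := Q.iCycles (i + 1)
        comm₁₂ := by simp [S, S']
        comm₂₃ := by simp [S, S'] }
    haveI : Epi φ.τ₁ := inferInstanceAs (Epi (𝟙 _))
    haveI : IsIso φ.τ₂ := inferInstanceAs (IsIso (𝟙 _))
    haveI : Mono φ.τ₃ := inferInstanceAs (Mono (Q.iCycles (i + 1)))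
    exact (ShortComplex.exact_iff_of_epi_of_isIso_of_mono φ).2 hS'
  haveI hepi : ∀ i, Epi (Q.toCycles i (i + 1)) := fun i =>
    Preadditive.epi_of_isZero_cokernel' _ (Q.homologyIsCokernel i (i + 1) (by simp)) (hac i)
  let r : ∀ i, Q.X i ⟶ Q.cycles i := fun i => (hsplit i).exists_splitMono.some.retraction
  let σ : ∀ i, (S i).Splitting := fun i =>
    ShortComplex.Splitting.ofExactOfRetraction _ (hex i) (r i) (hsplit i).exists_splitMono.some.id (hepi i)
  have hZ : ∀ i, Injective (Q.cycles i) := fun i => by
    haveI := hinj i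
    exact Retract.injective { i := Q.iCycles i, r := r i, retract := (hsplit i).exists_splitMono.some.id }
  refine ⟨fun {A B} f a _ => ?_⟩
  choose g hg using fun i => (hZ i).factors (f.f i ≫ r i) (a.f i)
  let h : ∀ i, B.X i ⟶ Q.X i := fun i => g i ≫ Q.iCycles i + B.d i (i + 1) ≫ g (i + 1) ≫ (σ i).s
  have hsd : ∀ i, (σ i).s ≫ Q.d i (i + 1) = Q.iCycles (i + 1) := fun i => by
    rw [hd, ← Category.assoc, show (σ i).s ≫ Q.toCycles i (i + 1) = 𝟙 _ from (σ i).s_g, Category.id_comp]
  have hcomm : ∀ i j, (ComplexShape.up ℕ).Rel i j → h i ≫ Q.d i j = B.d i j ≫ h j := by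
    rintro i j (rfl : i + 1 = j)
    simp only [h, Preadditive.add_comp, Preadditive.comp_add, Category.assoc, hsd, Q.iCycles_d, comp_zero, zero_add]
    rw [B.d_comp_d_assoc, zero_comp, add_zero]
  refine ⟨{ f := h, comm' := hcomm }, ?_⟩
  ext i
  show a.f i ≫ h i = f.f i
  have hid : r i ≫ Q.iCycles i + Q.toCycles i (i + 1) ≫ (σ i).s = 𝟙 _ := (σ i).id
  have h1 : f.f i ≫ Q.toCycles i (i + 1) = A.d i (i + 1) ≫ f.f (i + 1) ≫ r (i + 1) := by
    have e := f.comm i (i + 1)
    rw [← Category.assoc (A.d i (i + 1)), ← e, hd, Category.assoc, Category.assoc,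
      show Q.iCycles (i + 1) ≫ r (i + 1) = 𝟙 _ from (hsplit (i + 1)).exists_splitMono.some.id, Category.comp_id]
  conv_rhs => rw [← Category.comp_id (f.f i), ← hid]
  simp only [h, Preadditive.comp_add]
  rw [← Category.assoc (f.f i) (Q.toCycles i (i + 1)), h1]
  congr 1
  · rw [← Category.assoc, hg, Category.assoc]
  · rw [← Category.assoc (a.f i), a.comm, Category.assoc, ← Category.assoc (a.f (i + 1)), hg]
    simp only [Category.assoc]

end Groth.Agent.S8348
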