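import Groth.Statements.S8349
import Mathlib

set_option autoImplicit false
universe v u
open CategoryTheory CategoryTheory.Limits
open HomAlg3

namespace Groth.Agent.S8349

/-- Let C be an abelian category in which every object embeds in an injective object, and let A be a
cochain complex of objects of C in degrees 0, 1, 2, .... Then there are a cochain complex Q, with
every Q^i injective, H^i(Q) = 0 for every i ≥ 1 and every cycle inclusion Z^i(Q) ⟶ Q^i (i ≥ 0) a
split monomorphism, and a monomorphism of complexes A ⟶ Q. (The published statement asks Z^i(Q) =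
B^i(Q) for every i ≥ 0; in degree 0, where there is no incoming differential, this makes Z^0(Q) = 0,
and then no complex with nonzero degree-0 cycles, for instance a nonzero object placed in degree 0,
embeds in such a Q, because the degree-0 component of a chain map into Q factors through Z^0(Q).
This row asks vanishing homology in positive degrees only; the published construction, which embeds
each A^i in an injective I^i and takes Q^i = I^i ⊕ I^{i+1}, proves that version once an injective
I^0 containing A^0 is used in degree 0 as well.) -/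
theorem result {C : Type u} [Category.{v} C] [Abelian C]
    [EnoughInjectives C] (A : CochainComplex C ℕ) :
    ∃ (Q : CochainComplex C ℕ) (f : A ⟶ Q), Mono f ∧ (∀ i : ℕ, Injective (Q.X i)) ∧
      (∀ i : ℕ, IsZero (Q.homology (i + 1))) ∧ ∀ i : ℕ, IsSplitMono (Q.iCycles i) := by
  let J : ℕ → C := fun i => Injective.under (A.X i)
  let j : ∀ i, A.X i ⟶ J i := fun i => Injective.ι (A.X i)
  let X : ℕ → C := fun i => J i ⊞ J (i + 1)
  let d : ∀ i, X i ⟶ X (i + 1) := fun i => biprod.snd ≫ biprod.inl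
  let Q : CochainComplex C ℕ := CochainComplex.of X d (fun i => by simp [d, X])
  have hQd : ∀ i, Q.d i (i + 1) = d i := fun i => by simp [Q, CochainComplex.of.d]
  let f : A ⟶ Q :=
    { f := fun i => biprod.lift (j i) (A.d i (i + 1) ≫ j (i + 1))
      comm' := by
        rintro i k (rfl : i + 1 = k)
        rw [hQd]
        apply biprod.hom_ext <;> simp [d, X] }
  refine ⟨Q, f, ?_, fun i => inferInstanceAs (Injective (J i ⊞ J (i + 1))), fun i => ?_, fun i => ?_⟩
  · haveI : ∀ i, Mono (f.f i) := fun i =>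
      mono_of_mono_fac (show f.f i ≫ (biprod.fst : J i ⊞ J (i + 1) ⟶ J i) = j i from biprod.lift_fst _ _)
    exact HomologicalComplex.mono_of_mono_f f inferInstance
  · refine HomologicalComplex.ExactAt.isZero_homology ?_
    rw [HomologicalComplex.exactAt_iff' Q i (i + 1) (i + 1 + 1) (by simp) (by simp),
      ShortComplex.exact_iff_exact_up_to_refinements]
    intro T x hx
    change x ≫ Q.d (i + 1) (i + 1 + 1) = 0 at hx
    rw [hQd] at hx
    refine ⟨T, 𝟙 T, inferInstance, (x ≫ (biprod.fst : J (i + 1) ⊞ J (i + 1 + 1) ⟶ J (i + 1))) ≫ biprod.inr, ?_⟩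
    show 𝟙 T ≫ x = _ ≫ Q.d i (i + 1)
    rw [hQd, Category.id_comp]
    have h2 : x ≫ (biprod.snd : J (i + 1) ⊞ J (i + 1 + 1) ⟶ J (i + 1 + 1)) = 0 := by
      have := congrArg (· ≫ (biprod.fst : J (i + 1 + 1) ⊞ J (i + 1 + 1 + 1) ⟶ J (i + 1 + 1))) hx
      exact (show x ≫ (biprod.snd : J (i + 1) ⊞ J (i + 1 + 1) ⟶ J (i + 1 + 1)) = x ≫ ((biprod.snd : J (i + 1) ⊞ J (i + 1 + 1) ⟶ J (i + 1 + 1)) ≫
        (biprod.inl : J (i + 1 + 1) ⟶ J (i + 1 + 1) ⊞ J (i + 1 + 1 + 1))) ≫ biprod.fst by simp).trans
        ((Category.assoc _ _ _).symm.trans (this.trans zero_comp))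
    have h3 : ∀ u : T ⟶ J (i + 1), (u ≫ (biprod.inr : J (i + 1) ⟶ J i ⊞ J (i + 1))) ≫ biprod.snd ≫
        (biprod.inl : J (i + 1) ⟶ J (i + 1) ⊞ J (i + 1 + 1)) = u ≫ biprod.inl := fun u => by simp
    refine Eq.trans ?_ (h3 (x ≫ (biprod.fst : J (i + 1) ⊞ J (i + 1 + 1) ⟶ J (i + 1)))).symm
    apply biprod.hom_ext
    · simp <;> rfl
    · simp <;> exact h2
  · have h0 : Q.iCycles i ≫ (biprod.snd : J i ⊞ J (i + 1) ⟶ J (i + 1)) = 0 := by
      have := congrArg (· ≫ (biprod.fst : J (i + 1) ⊞ J (i + 1 + 1) ⟶ J (i + 1))) (Q.iCycles_d i (i + 1))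
      rw [hQd] at this
      simp [d, X] at this
      exact this
    refine ⟨⟨⟨Q.liftCycles ((biprod.fst : J i ⊞ J (i + 1) ⟶ J i) ≫ biprod.inl) (i + 1) (by simp) (by rw [hQd]; simp [d, X]), ?_⟩⟩⟩
    rw [← cancel_mono (Q.iCycles i), Category.assoc, Q.liftCycles_i, Category.id_comp]
    change Q.iCycles i ≫ (biprod.fst : J i ⊞ J (i + 1) ⟶ J i) ≫ biprod.inl = _
    apply biprod.hom_ext
    · simp
    · simp [h0]

end Groth.Agent.S8349
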