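import Groth.Statements.S8353


set_option autoImplicit false
universe u
open HomAlg3

namespace Groth.Agent.S8353

/-- Let S be a Noetherian ring which is separated and complete for the adic topology of an ideal J, and
let M be an S-module with a decreasing filtration (F^p M)_{p ∈ ℤ} by submodules such that F^p M = M
for some p, J·F^p M ⊆ F^{p+1} M for all p, and ⋂_p F^p M = 0. Then the following are equivalent: (a)
M is a finitely generated S-module and J·F^p M = F^{p+1} M for all large p; (c) every F^p M /
F^{p+1} M is a finitely generated S-module and, for all large p, the map J ⊗ (F^p M/F^{p+1} M) ⟶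
F^{p+1} M/F^{p+2} M is surjective, that is F^{p+1} M = J·F^p M + F^{p+2} M. (The published statement
also lists a third equivalent condition, finite generation of the associated graded module over the
associated graded ring; this row states the equivalence of the other two.) -/
theorem result {S : Type u} [CommRing S] [IsNoetherianRing S]
    (J : Ideal S) [IsAdicComplete J S] {M : Type u} [AddCommGroup M] [Module S M]
    (F : ℤ → Submodule S M) (hF : Antitone F) (hcod : ∃ p₀ : ℤ, F p₀ = ⊤)
    (hJ : ∀ p : ℤ, J • F p ≤ F (p + 1)) (hsep : ⨅ p : ℤ, F p = ⊥) :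
    (Module.Finite S M ∧ ∃ p₁ : ℤ, ∀ p : ℤ, p₁ ≤ p → J • F p = F (p + 1)) ↔
      ((∀ p : ℤ, (Submodule.map (F (p + 1)).mkQ (F p)).FG) ∧
        ∃ p₁ : ℤ, ∀ p : ℤ, p₁ ≤ p → F (p + 1) = J • F p ⊔ F (p + 2)) := by
  have hJF : ∀ (k : ℕ) (p : ℤ), J ^ k • F p ≤ F (p + k) := by
    intro k
    induction k with
    | zero => intro p; simp
    | succ k ih =>
      intro p
      rw [pow_succ', ← smul_eq_mul, Submodule.smul_assoc, Nat.cast_succ, ← add_assoc]
      exact (smul_mono_right J (ih p)).trans (hJ _)
  have hlift : ∀ p : ℤ, (Submodule.map (F (p + 1)).mkQ (F p)).FG →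
      ∃ N : Submodule S M, N.FG ∧ N ⊔ F (p + 1) = F p := by
    intro p hp
    obtain ⟨t, ht⟩ := hp
    have hmem : ∀ q : t, ∃ y ∈ F p, (F (p + 1)).mkQ y = q.1 := fun q =>
      Submodule.mem_map.mp (ht ▸ Submodule.subset_span q.2)
    choose y hyF hy using hmem
    refine ⟨Submodule.span S (Set.range y), Submodule.fg_span (Set.finite_range y), le_antisymm
      (sup_le (Submodule.span_le.mpr (Set.range_subset_iff.mpr hyF)) (hF (by omega))) ?_⟩
    intro x hx
    have h1 : (F (p + 1)).mkQ x ∈ (Submodule.span S (Set.range y)).map (F (p + 1)).mkQ := by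
      rw [Submodule.map_span, ← Set.range_comp, show ((F (p + 1)).mkQ ∘ y) = Subtype.val from funext hy,
        Subtype.range_coe_subtype]
      have : (F (p + 1)).mkQ x ∈ Submodule.span S (t : Set (M ⧸ F (p + 1))) := by
        rw [ht]; exact Submodule.mem_map_of_mem hx
      exact this
    obtain ⟨z, hz, hzx⟩ := Submodule.mem_map.mp h1
    rw [Submodule.mkQ_apply, Submodule.mkQ_apply, Submodule.Quotient.eq] at hzx
    rw [show x = z + -(z - x) by abel]
    exact add_mem (Submodule.mem_sup_left hz) (Submodule.mem_sup_right (neg_mem hzx))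
  obtain ⟨p₀, hp₀⟩ := hcod
  constructor
  · rintro ⟨_, p₁, hp₁⟩
    refine ⟨fun p => (IsNoetherian.noetherian (F p)).map _, p₁, fun p hp => le_antisymm ?_ ?_⟩
    · rw [← hp₁ p hp]; exact le_sup_left
    · exact sup_le (hJ p) (hF (by omega))
  · rintro ⟨hgr, p₁, hp₁⟩
    obtain ⟨N, hN, hNF⟩ := hlift p₁ (hgr p₁)
    have hNle : N ≤ F p₁ := hNF ▸ le_sup_left
    have hapx : ∀ k : ℕ, F (p₁ + k) = J ^ k • N ⊔ F (p₁ + k + 1) := by
      intro k
      induction k with
      | zero => simp [hNF]
      | succ k ih =>
        rw [Nat.cast_succ, ← add_assoc, hp₁ (p₁ + k) (by omega)]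
        conv_lhs => rw [ih, Submodule.smul_sup, ← Submodule.smul_assoc, smul_eq_mul, ← pow_succ']
        rw [add_assoc (p₁ + (k:ℤ)) 1 1, sup_assoc, sup_eq_right.mpr ((hJ _).trans_eq (by ring_nf))]
        norm_num
    obtain ⟨r, g, rfl⟩ : ∃ (r : ℕ) (g : (Fin r → S) →ₗ[S] M), LinearMap.range g = N := by
      obtain ⟨r, s, hs⟩ := Submodule.fg_iff_exists_fin_generating_family.mp hN
      exact ⟨r, Fintype.linearCombination S s, by rw [Fintype.range_linearCombination, hs]⟩
    have hgood : ∀ k : ℕ, F (p₁ + k) = J ^ k • LinearMap.range g := by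
      intro k
      refine le_antisymm (fun x hx => ?_) ((smul_mono_right _ hNle).trans (hJF k p₁))
      have hstep : ∀ (j : ℕ) (z : M), z ∈ F (p₁ + (k + j : ℕ)) → ∃ a : Fin r → S,
          (∀ i, a i ∈ J ^ (k + j)) ∧ z - g a ∈ F (p₁ + (k + j + 1 : ℕ)) := by
        intro j z hz
        rw [hapx (k + j)] at hz
        obtain ⟨u, hu, w, hw, rfl⟩ := Submodule.mem_sup.mp hz
        rw [LinearMap.range_eq_map, ← Submodule.map_smul''] at hu
        obtain ⟨a, ha, rfl⟩ := hu
        refine ⟨a, fun i => ?_, by simpa [add_assoc] using hw⟩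
        refine Submodule.smul_induction_on ha (fun c hc b _ => ?_) (fun b b2 hb hb2 => ?_)
        · exact (J ^ (k + j)).mul_mem_right _ hc
        · exact add_mem hb hb2
      choose! a ha hza using hstep
      let sq : ℕ → (Fin r → S) := fun j => Nat.rec 0 (fun j s => s + a j (x - g s)) j
      have hsq : ∀ j : ℕ, x - g (sq j) ∈ F (p₁ + (k + j : ℕ)) := by
        intro j
        induction j with
        | zero => simpa [sq] using hx
        | succ j ih =>
          have := hza j (x - g (sq j)) ih
          simpa [sq, map_add, sub_sub, add_assoc] using this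
      have hdiff : ∀ (i : Fin r) (j d : ℕ), sq (j + d) i - sq j i ∈ J ^ (k + j) := by
        intro i j d
        induction d with
        | zero => simp
        | succ d ih =>
          have h2 : sq (j + d + 1) i - sq j i = (sq (j + d) i - sq j i) + a (j + d) (x - g (sq (j + d))) i := by
            simp only [sq, Pi.add_apply]; abel
          rw [← add_assoc, h2]
          exact add_mem ih (Ideal.pow_le_pow_right (by omega) (ha _ _ (hsq (j + d)) i))
      have hlim : ∀ i : Fin r, ∃ L : S, ∀ j, sq j i ≡ L [SMOD (J ^ j • ⊤ : Submodule S S)] := fun i =>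
        IsPrecomplete.prec inferInstance fun {m n} hmn => by
          obtain ⟨d, rfl⟩ := Nat.exists_eq_add_of_le hmn
          rw [SModEq.sub_mem, smul_eq_mul, Ideal.mul_top, ← neg_sub, neg_mem_iff]
          exact Ideal.pow_le_pow_right (by omega) (hdiff i m d)
      choose L hL using hlim
      have hLk : ∀ (i : Fin r) (j : ℕ), sq j i - L i ∈ J ^ (k + j) := by
        intro i j
        have h1 := hL i (k + j)
        rw [SModEq.sub_mem, smul_eq_mul, Ideal.mul_top] at h1
        have h2 := hdiff i j k
        rw [add_comm j k] at h2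
        have := sub_mem h1 h2
        rwa [show sq (k + j) i - L i - (sq (k + j) i - sq j i) = sq j i - L i by abel] at this
      have hmap : ∀ (n : ℕ) (b : Fin r → S), (∀ i, b i ∈ J ^ n) → g b ∈ J ^ n • LinearMap.range g := by
        intro n b hb
        rw [pi_eq_sum_univ b, map_sum]
        exact Submodule.sum_mem _ fun i _ => by
          rw [map_smul]; exact Submodule.smul_mem_smul (hb i) (LinearMap.mem_range_self g _)
      have hx0 : x = g L := by
        have : x - g L ∈ ⨅ p : ℤ, F p := (Submodule.mem_iInf _).mpr fun p => by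
          obtain ⟨j, hj⟩ : ∃ j : ℕ, p ≤ p₁ + (k + j : ℕ) := ⟨(p - p₁).toNat, by omega⟩
          refine hF hj ?_
          rw [show x - g L = (x - g (sq j)) + g (sq j - L) by rw [map_sub]; abel]
          exact add_mem (hsq j) (((smul_mono_right _ hNle).trans (hJF (k + j) p₁))
            (hmap (k + j) _ fun i => hLk i j))
        rw [hsep, Submodule.mem_bot, sub_eq_zero] at this
        exact this
      rw [hx0]
      refine hmap k L fun i => ?_
      simpa [sq] using hLk i 0
    refine ⟨?_, p₁, fun p hp => ?_⟩
    · have hfg : ∀ d : ℕ, (F (p₁ - d)).FG := by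
        intro d
        induction d with
        | zero =>
          have := hgood 0
          simp only [Nat.cast_zero, add_zero, pow_zero, Ideal.one_eq_top, Submodule.top_smul] at this
          simpa [this] using hN
        | succ d ih =>
          obtain ⟨N', hN', hN'F⟩ := hlift (p₁ - (d + 1 : ℕ)) (hgr _)
          rw [← hN'F, show p₁ - ((d + 1 : ℕ) : ℤ) + 1 = p₁ - d by push_cast; ring]
          exact hN'.sup ih
      have := hfg (p₁ - p₀).toNat
      rw [eq_top_iff.mpr (hp₀.ge.trans (hF (by omega : p₁ - ((p₁ - p₀).toNat : ℤ) ≤ p₀)))] at this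
      exact ⟨this⟩
    · obtain ⟨k, rfl⟩ : ∃ k : ℕ, p = p₁ + k := ⟨(p - p₁).toNat, by omega⟩
      rw [hgood k, ← Submodule.smul_assoc, smul_eq_mul, ← pow_succ', ← hgood (k + 1), Nat.cast_succ, add_assoc]

end Groth.Agent.S8353
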