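import Groth.Statements.S8362
import Mathlib.AlgebraicGeometry.Morphisms.ClosedImmersion
import Mathlib.AlgebraicGeometry.Morphisms.IsIso
import Mathlib.AlgebraicGeometry.Morphisms.UnderlyingMap
import Mathlib.CategoryTheory.Comma.Over.Pullback
-- import your own Groth.Agent.* helpers here

set_option autoImplicit false
set_option backward.isDefEq.respectTransparency false
universe u
open CategoryTheory CategoryTheory.Limits AlgebraicGeometry
open SGA3

namespace Groth.Agent.S8362

/-- Over an affine base S = Spec R with S₀ = Spec (R/J) for an ideal J of square zero: for an arbitrary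
S-scheme X, every S-endomorphism of X inducing the identity on X ×_S S₀ is an automorphism. (The
published statement is over an arbitrary base scheme with a quasi-coherent ideal of square zero;
this row is its case of an affine base, to which it reduces since being an isomorphism is local on
the base.) -/
theorem result (R : Type u) [CommRing R] (J : Ideal R) (hJ : J * J = ⊥)
    (X : Over (Spec (CommRingCat.of R))) (u : X ⟶ X)
    (h : (Over.pullback (Spec.map (CommRingCat.ofHom (Ideal.Quotient.mk J)))).map u = 𝟙 _) :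
    IsIso u := by
  let i : Spec (CommRingCat.of (R ⧸ J)) ⟶ Spec (CommRingCat.of R) := Spec.map (CommRingCat.ofHom (Ideal.Quotient.mk J))
  let ι := pullback.fst X.hom i
  haveI : IsClosedImmersion i := IsClosedImmersion.spec_of_surjective _ Ideal.Quotient.mk_surjective
  haveI hsurj : Surjective i := by
    refine ⟨fun p => ?_⟩
    have hle : J ≤ p.asIdeal := fun x hx => p.isPrime.mul_mem_iff_mem_or_mem.1
      (by rw [show x * x = 0 from (Submodule.mem_bot R).1 (hJ ▸ Ideal.mul_mem_mul hx hx)]; exact p.asIdeal.zero_mem) |>.elim id id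
    have : p ∈ Set.range (PrimeSpectrum.comap (Ideal.Quotient.mk J)) := by
      rw [range_comap_of_surjective _ _ Ideal.Quotient.mk_surjective, Ideal.mk_ker]
      exact hle
    exact this
  have hι : ι ≫ u.left = ι := by
    have h1 := congr(($h).left ≫ pullback.fst X.hom i)
    simpa [ι, i] using h1
  have hbase : ∀ x : X.left, u.left x = x := by
    intro x
    obtain ⟨z, rfl⟩ := ι.surjective x
    rw [← Scheme.Hom.comp_apply, hι]
  have hpre : ∀ U : X.left.Opens, u.left ⁻¹ᵁ U = U := fun U => by
    ext x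
    show u.left x ∈ U ↔ x ∈ U
    rw [hbase]
  suffices h' : ∀ U : X.left.Opens, IsAffineOpen U → IsIso (u.left.app U) by
    haveI : IsIso u.left := by
      refine (IsZariskiLocalAtTarget.iff_of_iSup_eq_top (P := MorphismProperty.isomorphisms Scheme.{u}) _ (iSup_affineOpens_eq_top X.left)).2 fun U => ?_
      haveI : IsAffine (u.left ⁻¹ᵁ U.1) := by rw [hpre]; exact U.2
      haveI : IsAffine U.1 := U.2
      haveI := h' U.1 U.2
      show IsIso (u.left ∣_ U.1)
      have hW : IsAffineOpen (u.left ⁻¹ᵁ U.1) := by rw [hpre]; exact U.2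
      have e : u.left ∣_ U.1 = hW.isoSpec.hom ≫ Spec.map (u.left.app U.1) ≫ U.2.isoSpec.inv := by
        rw [← cancel_mono U.1.ι, morphismRestrict_ι]
        simp only [Category.assoc]
        rw [IsAffineOpen.isoSpec_inv_ι, Scheme.Hom.app_eq_appLE, IsAffineOpen.SpecMap_appLE_fromSpec u.left U.2 hW le_rfl,
          IsAffineOpen.isoSpec_hom, IsAffineOpen.toSpecΓ_fromSpec_assoc]
      rw [e]
      infer_instance
    exact @isIso_of_reflects_iso _ _ _ _ _ _ u (Over.forget _) (inferInstanceAs (IsIso u.left)) _
  intro U hU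
  have eU : U ≤ u.left ⁻¹ᵁ U := (hpre U).ge
  let a : Γ(X.left, U) →+* Γ(X.left, U) := (u.left.appLE U U eU).hom
  let φ : R →+* Γ(X.left, U) := ((Scheme.ΓSpecIso (CommRingCat.of R)).inv ≫ X.hom.appLE ⊤ U (by simp)).hom
  have hφ : Spec.map (CommRingCat.ofHom φ) = hU.fromSpec ≫ X.hom := by
    have e : CommRingCat.ofHom φ = (Scheme.ΓSpecIso (CommRingCat.of R)).inv ≫ X.hom.appLE ⊤ U (by simp) := rfl
    rw [e, Spec.map_comp, ← IsAffineOpen.SpecMap_appLE_fromSpec X.hom (isAffineOpen_top _) hU (by simp),
      IsAffineOpen.fromSpec_top, Scheme.isoSpec_Spec_inv]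
  have hfix : ∀ r, a (φ r) = φ r := by
    intro r
    refine DFunLike.congr_fun (?_ : a.comp φ = φ) r
    refine congrArg CommRingCat.Hom.hom (?_ : CommRingCat.ofHom (a.comp φ) = CommRingCat.ofHom φ)
    apply Spec.map_injective
    rw [CommRingCat.ofHom_comp, Spec.map_comp, hφ]
    show Spec.map (u.left.appLE U U eU) ≫ _ = _
    rw [reassoc_of% IsAffineOpen.SpecMap_appLE_fromSpec u.left hU hU eU, Over.w]
  let B := Γ(X.left, U)
  have hred : ∀ b, a b - b ∈ J.map φ := by
    intro b
    rw [← Ideal.Quotient.eq_zero_iff_mem, map_sub, sub_eq_zero]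
    let π : CommRingCat.of B ⟶ CommRingCat.of (B ⧸ J.map φ) := CommRingCat.ofHom (Ideal.Quotient.mk _)
    let ψ : R ⧸ J →+* B ⧸ J.map φ := Ideal.quotientMap _ φ Ideal.le_comap_map
    let l : Spec (CommRingCat.of (B ⧸ J.map φ)) ⟶ pullback X.hom i := pullback.lift (Spec.map π ≫ hU.fromSpec) (Spec.map (CommRingCat.ofHom ψ)) (by
      rw [Category.assoc, ← hφ, ← Spec.map_comp, ← Spec.map_comp]
      congr 1)
    have e : CommRingCat.ofHom a ≫ π = π := by
      apply Spec.map_injective
      rw [← cancel_mono hU.fromSpec, Spec.map_comp, Category.assoc]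
      show Spec.map π ≫ Spec.map (u.left.appLE U U eU) ≫ _ = _
      rw [IsAffineOpen.SpecMap_appLE_fromSpec u.left hU hU eU]
      calc Spec.map π ≫ hU.fromSpec ≫ u.left = l ≫ ι ≫ u.left := by simp [l, ι]
        _ = _ := by rw [hι]; simp [l, ι]
    exact congr($e b)
  have hfixJ : ∀ z ∈ J.map φ, a z = z := by
    intro z hz
    refine Submodule.span_induction ?_ (map_zero a) (fun x y _ _ hx hy => by rw [map_add, hx, hy]) ?_ hz
    · rintro _ ⟨r, -, rfl⟩
      exact hfix r
    · intro c x hx' hx
      rw [smul_eq_mul, map_mul, hx, ← sub_eq_zero, ← sub_mul]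
      have : (a c - c) * x ∈ J.map φ * J.map φ := Ideal.mul_mem_mul (hred c) hx'
      rw [← Ideal.map_mul, hJ, Ideal.map_bot] at this
      exact (Submodule.mem_bot _).1 this
  have hbij : Function.Bijective a := by
    refine ⟨(injective_iff_map_eq_zero a).2 fun z hz => ?_, fun b => ⟨b - (a b - b), ?_⟩⟩
    · have : z ∈ J.map φ := by simpa [hz] using (Ideal.neg_mem_iff _).2 (hred z)
      rw [← hfixJ z this, hz]
    · rw [map_sub, hfixJ _ (hred b)]
      abel
  haveI : IsIso (u.left.appLE U U eU) := (ConcreteCategory.isIso_iff_bijective _).2 hbij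
  have : u.left.app U = u.left.appLE U U eU ≫ X.left.presheaf.map (eqToHom (hpre U)).op := by
    rw [Scheme.Hom.appLE_map, Scheme.Hom.app_eq_appLE]
  rw [this]
  infer_instance

end Groth.Agent.S8362
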