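import Groth.Statements.S8364
import Mathlib

set_option autoImplicit false
universe u
open SGA3

namespace Groth.Agent.S8364

/-- For a commutative ring R, an ideal J of R of square zero, a smooth R-algebra A and the extended
ideal I = J·A, every R-algebra automorphism of A/I lifts to an R-algebra automorphism of A. (The
published statement concerns the automorphism functor of a smooth affine S-scheme E and affine test
schemes Y; this row is the case Y = S = Spec R, E = Spec A, which gives the general one after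
replacing R by the ring of Y.) -/
theorem result (R A : Type u) [CommRing R] [CommRing A] [Algebra R A]
    [Algebra.Smooth R A] (J : Ideal R) (hJ : J * J = ⊥)
    (φ₀ : (A ⧸ Ideal.map (algebraMap R A) J) ≃ₐ[R] (A ⧸ Ideal.map (algebraMap R A) J)) :
    ∃ φ : A ≃ₐ[R] A,
      (Ideal.Quotient.mkₐ R (Ideal.map (algebraMap R A) J)).comp φ.toAlgHom =
        φ₀.toAlgHom.comp (Ideal.Quotient.mkₐ R (Ideal.map (algebraMap R A) J)) := by
  have hI2 : (Ideal.map (algebraMap R A) J) ^ 2 = ⊥ := by
    rw [← Ideal.map_pow, pow_two, hJ, Ideal.map_bot]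
  obtain ⟨φ, hφ⟩ := Algebra.FormallySmooth.comp_surjective R A (Ideal.map (algebraMap R A) J) hI2
    (φ₀.toAlgHom.comp (Ideal.Quotient.mkₐ R (Ideal.map (algebraMap R A) J)))
  obtain ⟨ψ, hψ⟩ := Algebra.FormallySmooth.comp_surjective R A (Ideal.map (algebraMap R A) J) hI2
    (φ₀.symm.toAlgHom.comp (Ideal.Quotient.mkₐ R (Ideal.map (algebraMap R A) J)))
  have key : ∀ f : A →ₐ[R] A, (∀ a, f a - a ∈ Ideal.map (algebraMap R A) J) → Function.Bijective f := by
    intro f hf
    have hfix : ∀ x ∈ Ideal.map (algebraMap R A) J, f x = x := by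
      intro x hx
      induction hx using Submodule.span_induction with
      | mem x hx => obtain ⟨j, -, rfl⟩ := hx; exact f.commutes j
      | zero => exact map_zero f
      | add x y _ _ hx hy => rw [map_add, hx, hy]
      | smul a x hxm hx =>
        rw [smul_eq_mul, map_mul, hx, ← sub_eq_zero, ← sub_mul]
        have := Ideal.mul_mem_mul (hf a) (show x ∈ Ideal.map (algebraMap R A) J from hxm)
        rwa [← pow_two, hI2, Ideal.mem_bot] at this
    refine ⟨(injective_iff_map_eq_zero f).2 fun a ha => ?_, fun b => ⟨b + (b - f b), ?_⟩⟩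
    · have h := hf a
      rw [ha, zero_sub, neg_mem_iff] at h
      rw [← hfix a h, ha]
    · rw [map_add, hfix (b - f b) (by simpa [neg_sub] using neg_mem (hf b)), add_sub_cancel]
  have h1 : ∀ a, φ (ψ a) - a ∈ Ideal.map (algebraMap R A) J := fun a => Ideal.Quotient.eq.1 (by
    have e1 := DFunLike.congr_fun hφ (ψ a)
    have e2 := DFunLike.congr_fun hψ a
    simp only [AlgHom.comp_apply, Ideal.Quotient.mkₐ_eq_mk] at e1 e2
    rw [e1, e2]; simp)
  have h2 : ∀ a, ψ (φ a) - a ∈ Ideal.map (algebraMap R A) J := fun a => Ideal.Quotient.eq.1 (by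
    have e1 := DFunLike.congr_fun hψ (φ a)
    have e2 := DFunLike.congr_fun hφ a
    simp only [AlgHom.comp_apply, Ideal.Quotient.mkₐ_eq_mk] at e1 e2
    rw [e1, e2]; simp)
  exact ⟨AlgEquiv.ofBijective φ ⟨Function.Injective.of_comp (key (ψ.comp φ) h2).1,
    Function.Surjective.of_comp (key (φ.comp ψ) h1).2⟩, hφ⟩

end Groth.Agent.S8364
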