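import Groth.Statements.S8369
import Mathlib

set_option autoImplicit false
universe u v
open SGA3

namespace Groth.Agent.S8369

/-- Let A be a commutative ring, J a nilpotent ideal, N ⊆ M A-modules with M/N flat over A. If elements
of N have images generating the image of N in M/JM, then they generate N. (The published statement
takes finitely many elements; this row allows an arbitrary set, which the same argument permits.) -/
theorem result (A : Type u) [CommRing A] (J : Ideal A) (hJ : IsNilpotent J)
    (M : Type v) [AddCommGroup M] [Module A M] (N : Submodule A M) [Module.Flat A (M ⧸ N)] (s : Set M)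
    (hs : s ⊆ N)
    (hgen : (Submodule.span A s).map (J • (⊤ : Submodule A M)).mkQ = N.map (J • (⊤ : Submodule A M)).mkQ) :
    Submodule.span A s = N := by
  classical
  refine le_antisymm (Submodule.span_le.2 hs) ?_
  have key : ∀ n : ℕ, N ≤ Submodule.span A s ⊔ (J ^ n) • N := by
    have h1 : N ≤ Submodule.span A s ⊔ J • N := by
      intro y hy
      obtain ⟨z, hz, hzy⟩ : (J • (⊤ : Submodule A M)).mkQ y ∈ (Submodule.span A s).map (J • (⊤ : Submodule A M)).mkQ :=
        hgen ▸ Submodule.mem_map_of_mem hy
      have hd : y - z ∈ J • (⊤ : Submodule A M) := (Submodule.Quotient.eq _).1 hzy.symm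
      have hdN : y - z ∈ N := N.sub_mem hy (Submodule.span_le.2 hs hz)
      rw [← Submodule.span_univ, ← Set.range_id] at hd
      obtain ⟨c, hcJ, hc⟩ := (Submodule.mem_ideal_smul_span_iff_exists_sum J id (y - z)).1 hd
      simp only [id_eq] at hc
      have h0 : ∑ i : c.support, c i.1 • (N.mkQ i.1) = 0 := by
        rw [← N.ker_mkQ, LinearMap.mem_ker, ← hc] at hdN
        simpa [Finsupp.sum, map_sum, map_smul, ← Finset.sum_attach c.support] using hdN
      obtain ⟨l, a, w, hw, ha⟩ := Module.Flat.isTrivialRelation_of_sum_smul_eq_zero h0
      choose W hW using fun j => N.mkQ_surjective (w j)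
      have hn : ∀ i : c.support, i.1 - ∑ j, a i j • W j ∈ N := fun i => by
        rw [← N.ker_mkQ, LinearMap.mem_ker, map_sub, map_sum, sub_eq_zero]
        simp only [map_smul, hW]
        exact hw i
      have e : y - z = ∑ i : c.support, c i.1 • (i.1 - ∑ j, a i j • W j) := by
        simp only [smul_sub, Finset.sum_sub_distrib, Finset.smul_sum, ← mul_smul]
        rw [Finset.sum_comm]
        simp only [← Finset.sum_smul, ha, zero_smul, Finset.sum_const_zero, sub_zero]
        rw [← hc, Finsupp.sum, ← Finset.sum_attach]
        rfl
      refine Submodule.mem_sup.2 ⟨z, hz, y - z, ?_, add_sub_cancel z y⟩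
      rw [e]
      exact Submodule.sum_mem _ fun i _ => Submodule.smul_mem_smul (hcJ _) (hn i)
    intro n
    induction n with
    | zero => simp
    | succ n ih =>
      refine ih.trans (sup_le le_sup_left ?_)
      refine (Submodule.smul_mono le_rfl h1).trans ?_
      rw [Submodule.smul_sup, ← Submodule.mul_smul, ← pow_succ]
      exact sup_le_sup_right Submodule.smul_le_right _
  obtain ⟨n, hn⟩ := hJ
  exact (key n).trans (by rw [hn]; simp)

end Groth.Agent.S8369
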