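import Groth.Statements.S8383
import Mathlib.LinearAlgebra.Determinant
import Mathlib.LinearAlgebra.FiniteDimensional.Lemmas
import Mathlib.LinearAlgebra.Dual.Lemmas

set_option autoImplicit false
universe u
open scoped TensorProduct
open SGA3t2b

namespace Groth.Agent.S8383

/-- Let k be a finite field with algebraic closure K, V a finite-dimensional vector space over k, and
θ₁, …, θₙ a basis of the dual of the K-vector space K ⊗ V. Then there is x ∈ V with θᵢ(1 ⊗ x) ≠ 0
for every i. -/
theorem result (k : Type u) [Field k] [Finite k]
    (V : Type u) [AddCommGroup V] [Module k V] [Module.Finite k V] {ι : Type} [Fintype ι]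
    (θ : Module.Basis ι (AlgebraicClosure k) (Module.Dual (AlgebraicClosure k) (AlgebraicClosure k ⊗[k] V))) :
    ∃ x : V, ∀ i : ι, θ i ((1 : AlgebraicClosure k) ⊗ₜ[k] x) ≠ 0 := by
  classical
  let K := AlgebraicClosure k
  let F : Module.Dual k V →ₗ[k] Module.Dual K (K ⊗[k] V) :=
    { toFun := fun f => (TensorProduct.AlgebraTensorModule.rid k K K).toLinearMap.comp (f.baseChange K)
      map_add' := fun f g => by ext; simp [add_smul]
      map_smul' := fun c f => by ext; simp [← TensorProduct.tmul_smul, mul_smul] }
  have hF : ∀ f x, F f ((1 : K) ⊗ₜ[k] x) = f x • (1 : K) := fun f x => by simp [F]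
  let g : ι → V →ₗ[k] K := fun i =>
    ((θ i).restrictScalars k).comp ((TensorProduct.mk k K V) 1)
  have key : ∀ s : Finset ι, ∃ f : ι → Module.Dual k V, (∀ i x, g i x = 0 → f i x = 0) ∧
      θ.det (fun i => if i ∈ s then F (f i) else θ i) ≠ 0 := by
    intro s
    induction s using Finset.induction_on with
    | empty => exact ⟨fun _ => 0, fun _ _ _ => rfl, by simp [θ.det_self]⟩
    | @insert a s has ih =>
      obtain ⟨f, hf, hdet⟩ := ih
      let b := Module.finBasis k (LinearMap.range (g a))
      let l : Fin (Module.finrank k (LinearMap.range (g a))) → Module.Dual k V :=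
        fun m => (b.coord m).comp (g a).rangeRestrict
      have hθ : θ a = ∑ m, (b m : K) • F (l m) := by
        refine LinearMap.ext fun z => ?_
        induction z using TensorProduct.induction_on with
        | zero => simp
        | add u v hu hv => rw [map_add, map_add, hu, hv]
        | tmul c x =>
          rw [show c ⊗ₜ[k] x = c • ((1 : K) ⊗ₜ[k] x) by rw [TensorProduct.smul_tmul', smul_eq_mul, mul_one],
            map_smul, map_smul]
          congr 1
          have h := congrArg (fun y : LinearMap.range (g a) => (y : K)) (b.sum_repr ((g a).rangeRestrict x))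
          rw [LinearMap.sum_apply]
          change _ = g a x at h
          simp only [Submodule.coe_sum, Submodule.coe_smul] at h
          show g a x = _
          rw [← h]
          refine Finset.sum_congr rfl fun m _ => ?_
          rw [LinearMap.smul_apply, hF]
          show _ = (b m : K) • ((b.repr ((g a).rangeRestrict x) m) • (1 : K))
          rw [smul_eq_mul, mul_smul_comm, mul_one]
      set v := fun i => if i ∈ s then F (f i) else θ i with hv
      have hva : v a = θ a := by simp [hv, has]
      have h2 : θ.det v = ∑ m, (b m : K) • θ.det (Function.update v a (F (l m))) := by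
        conv_lhs => rw [show v = Function.update v a (∑ m, (b m : K) • F (l m)) by rw [← hθ, ← hva, Function.update_eq_self]]
        rw [AlternatingMap.map_update_sum]
        simp [AlternatingMap.map_update_smul]
      obtain ⟨m, hm⟩ : ∃ m, θ.det (Function.update v a (F (l m))) ≠ 0 := by
        by_contra! hz
        exact hdet (h2.trans (Finset.sum_eq_zero fun m _ => by rw [hz m, smul_zero]))
      refine ⟨Function.update f a (l m), fun i x hx => ?_, ?_⟩
      · rcases eq_or_ne i a with rfl | hne
        · rw [Function.update_self]
          show b.coord m ((g i).rangeRestrict x) = 0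
          rw [show (g i).rangeRestrict x = 0 from Subtype.ext hx, map_zero]
        · rw [Function.update_of_ne hne]; exact hf i x hx
      · convert hm using 2
        funext i
        rcases eq_or_ne i a with rfl | hne
        · simp
        · simp [hv, hne]
  obtain ⟨f, hf, hdet⟩ := key Finset.univ
  simp only [Finset.mem_univ, if_true] at hdet
  have hliK : LinearIndependent K (fun i => F (f i)) :=
    ((θ.is_basis_iff_det (v := fun i => F (f i))).mpr (isUnit_iff_ne_zero.mpr hdet)).1
  have hlik : LinearIndependent k f := by
    refine LinearIndependent.of_comp F (hliK.restrict_scalars ?_)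
    exact fun a b hab => (algebraMap k K).injective (by simpa [Algebra.algebraMap_eq_smul_one] using hab)
  have hcard : Fintype.card ι = Module.finrank k V := by
    rw [← Module.finrank_eq_card_basis θ, Subspace.dual_finrank_eq, Module.finrank_baseChange]
  let T : V →ₗ[k] (ι → k) := LinearMap.pi f
  have hTinj : Function.Injective T := by
    rw [← LinearMap.ker_eq_bot, LinearMap.ker_eq_bot']
    intro x hx
    refine (Module.forall_dual_apply_eq_zero_iff k x).mp fun φ => ?_
    have htop := hlik.span_eq_top_of_card_eq_finrank' (by rw [hcard, Subspace.dual_finrank_eq])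
    have hφ : φ ∈ Submodule.span k (Set.range f) := htop ▸ Submodule.mem_top
    induction hφ using Submodule.span_induction with
    | mem u hu => obtain ⟨i, rfl⟩ := hu; exact congrFun hx i
    | zero => rfl
    | add u w _ _ hu hw => simp [hu, hw]
    | smul c u _ hu => simp [hu]
  obtain ⟨x, hx⟩ := (LinearMap.injective_iff_surjective_of_finrank_eq_finrank
    (by rw [Module.finrank_pi, hcard])).mp hTinj (fun _ => 1)
  exact ⟨x, fun i hi => one_ne_zero ((congrFun hx i).symm.trans (hf i x hi))⟩

end Groth.Agent.S8383
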