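import Groth.Statements.S8441
import Mathlib.LinearAlgebra.RootSystem.Base
import Mathlib.LinearAlgebra.LinearIndependent.Lemmas

set_option autoImplicit false
universe u v w
open SGA3t2b

namespace Groth.Agent.S8441

/-- Let R be a root system with a system of simple roots a₁, …, aₙ and simple reflections rᵢ, and put θᵢ
= rₙ ⋯ rᵢ₊₁(aᵢ). Then the θᵢ form a basis of the group generated by the roots. Stated for a root
pairing over ℤ (Mathlib) with a base whose support is enumerated by Fin n: the θᵢ are ℤ-linearly
independent and their ℤ-span is the ℤ-span of all roots. -/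
theorem result {ι : Type u} {M : Type v} {N : Type w} [AddCommGroup M] [Module ℤ M]
    [AddCommGroup N] [Module ℤ N] (P : RootPairing ι ℤ M N) (b : P.Base) (n : ℕ) (e : Fin n ≃ ↥b.support) :
    LinearIndependent ℤ (fun i : Fin n =>
      ((List.finRange n).filter (fun j => i < j)).foldl (fun x j => P.reflection (e j : ι) x) (P.root (e i : ι))) ∧
    Submodule.span ℤ (Set.range (fun i : Fin n =>
      ((List.finRange n).filter (fun j => i < j)).foldl (fun x j => P.reflection (e j : ι) x) (P.root (e i : ι)))) =
      Submodule.span ℤ (Set.range P.root) := by
  classical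
  rename_i iM mM iN mN
  obtain rfl : mM = AddCommGroup.toIntModule M := Subsingleton.elim _ _
  obtain rfl : mN = AddCommGroup.toIntModule N := Subsingleton.elim _ _
  let w : Fin n → M := fun i => P.root (e i : ι)
  have hw : LinearIndependent ℤ w :=
    b.linearIndepOn_root.linearIndependent.comp (fun i => e i) e.injective
  have hwspan : Submodule.span ℤ (Set.range w) = Submodule.span ℤ (Set.range P.root) := by
    rw [show Submodule.span ℤ (Set.range P.root) = Submodule.span ℤ (P.root '' (b.support : Set ι)) from b.span_root_support.symm]
    congr 1
    ext x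
    constructor
    · rintro ⟨i, rfl⟩; exact ⟨(e i : ι), (e i).2, rfl⟩
    · rintro ⟨j, hj, rfl⟩; exact ⟨e.symm ⟨j, hj⟩, by simp [w]⟩
  have hfold : ∀ (l : List (Fin n)) (x : M),
      l.foldl (fun x j => P.reflection (e j : ι) x) x - x ∈ Submodule.span ℤ (w '' {j | j ∈ l}) := by
    intro l
    induction l with
    | nil => intro x; simp
    | cons a l ih =>
      intro x
      rw [List.foldl_cons, ← sub_add_sub_cancel _ (P.reflection (e a : ι) x) x]
      refine add_mem (Submodule.span_mono (Set.image_mono fun j hj => List.mem_cons_of_mem _ hj) (ih _)) ?_
      rw [P.reflection_apply, sub_sub_cancel_left]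
      exact neg_mem (Submodule.smul_mem _ _ (Submodule.subset_span ⟨a, List.mem_cons_self, rfl⟩))
  set v := fun i : Fin n => ((List.finRange n).filter (fun j => i < j)).foldl
    (fun x j => P.reflection (e j : ι) x) (P.root (e i : ι)) with hv
  have htail : ∀ i, v i - w i ∈ Submodule.span ℤ (w '' Set.Ioi i) := fun i => by
    refine Submodule.span_mono (Set.image_mono fun j hj => ?_) (hfold _ _)
    simpa using hj
  constructor
  · rw [Fintype.linearIndependent_iff]
    intro c hc i
    induction hi : (i : ℕ) using Nat.strong_induction_on generalizing i with
    | _ m ih =>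
      by_contra hne
      choose a ha hae using fun l => Finsupp.mem_span_image_iff_linearCombination ℤ |>.mp (htail l)
      have hsum : Finsupp.linearCombination ℤ w (∑ l, c l • (Finsupp.single l 1 + a l)) = 0 := by
        rw [map_sum, ← hc]
        refine Finset.sum_congr rfl fun l _ => ?_
        rw [map_smul, map_add, Finsupp.linearCombination_single, one_smul, hae, add_sub_cancel]
      have h0 := DFunLike.congr_fun (linearIndependent_iff.mp hw _ hsum) i
      simp only [Finsupp.finsetSum_apply, Finsupp.smul_apply, Finsupp.add_apply, smul_eq_mul,
        Finsupp.coe_zero, Pi.zero_apply] at h0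
      rw [Finset.sum_eq_single i] at h0
      · have hai : a i i = 0 := by
          by_contra hh
          exact lt_irrefl i (ha i (Finsupp.mem_support_iff.mpr hh))
        rw [Finsupp.single_eq_same, hai, add_zero, mul_one] at h0
        exact hne h0
      · intro l _ hli
        by_cases hl : c l = 0
        · rw [hl, zero_mul]
        have hil : i < l := by
          refine lt_of_le_of_ne ?_ (Ne.symm hli)
          by_contra! hlt
          exact hl (ih l (hi ▸ hlt) l rfl)
        have hai : a l i = 0 := by
          by_contra hh
          exact lt_asymm hil (ha l (Finsupp.mem_support_iff.mpr hh))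
        rw [Finsupp.single_eq_of_ne (Ne.symm hli), hai, add_zero, mul_zero]
      · intro h; exact absurd (Finset.mem_univ i) h
  · rw [← hwspan]
    refine le_antisymm (Submodule.span_le.mpr ?_) (Submodule.span_le.mpr ?_)
    · rintro _ ⟨i, rfl⟩
      have := Submodule.span_mono (Set.image_subset_range _ _) (htail i)
      simpa using Submodule.add_mem _ this (Submodule.subset_span ⟨i, rfl⟩ : w i ∈ Submodule.span ℤ (Set.range w))
    · have key : ∀ (m : ℕ) (i : Fin n), n - (i : ℕ) = m → w i ∈ Submodule.span ℤ (Set.range v) := by
        intro m
        induction m using Nat.strong_induction_on with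
        | _ m ih =>
          intro i hi
          have h1 : v i - w i ∈ Submodule.span ℤ (Set.range v) :=
            Submodule.span_le.mpr (by
              rintro _ ⟨j, hj, rfl⟩
              have hlt : (i : ℕ) < j := hj
              have hjn : (j : ℕ) < n := j.2
              exact ih (n - j) (by omega) j rfl) (htail i)
          simpa using Submodule.sub_mem _ (Submodule.subset_span ⟨i, rfl⟩ : v i ∈ Submodule.span ℤ (Set.range v)) h1
      rintro _ ⟨i, rfl⟩
      exact key _ i rfl

end Groth.Agent.S8441
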