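import Groth.Statements.S8471
import Mathlib.FieldTheory.RatFunc.AsPolynomial
import Mathlib.FieldTheory.IsAlgClosed.AlgebraicClosure
import Mathlib.RingTheory.Algebraic.Integral

set_option autoImplicit false
open Red

namespace Groth.Agent.S8471

/-- Let k be a field and F ∈ k(X) a rational function whose denominator does not vanish at 0 and with
F(0) = 1. Suppose that in the field of fractions L of k[X₀, X₁] one has F(X₀ + X₁ · F(X₀)) = F(X₀) ·
F(X₁) (the functional equation F(x + y F(x)) = F(x) F(y)). Then there is a ∈ k with F = 1 + a X.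
(The published statement takes the identity on an open neighbourhood of the origin of 𝔾_a × 𝔾_a on
which all terms are defined; this row takes it as an identity of rational functions in two
variables.) -/
theorem result (k : Type) [Field k] (F : RatFunc k)
    (h0 : F.denom.eval 0 ≠ 0) (h1 : F.num.eval 0 = F.denom.eval 0)
    (hFE : RatFunc.eval (algebraMap k (FractionRing (MvPolynomial (Fin 2) k)))
        (algebraMap (MvPolynomial (Fin 2) k) (FractionRing (MvPolynomial (Fin 2) k)) (MvPolynomial.X 0) +
          algebraMap (MvPolynomial (Fin 2) k) (FractionRing (MvPolynomial (Fin 2) k)) (MvPolynomial.X 1) *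
            RatFunc.eval (algebraMap k (FractionRing (MvPolynomial (Fin 2) k)))
              (algebraMap (MvPolynomial (Fin 2) k) (FractionRing (MvPolynomial (Fin 2) k)) (MvPolynomial.X 0)) F) F =
      RatFunc.eval (algebraMap k (FractionRing (MvPolynomial (Fin 2) k)))
          (algebraMap (MvPolynomial (Fin 2) k) (FractionRing (MvPolynomial (Fin 2) k)) (MvPolynomial.X 0)) F *
        RatFunc.eval (algebraMap k (FractionRing (MvPolynomial (Fin 2) k)))
          (algebraMap (MvPolynomial (Fin 2) k) (FractionRing (MvPolynomial (Fin 2) k)) (MvPolynomial.X 1)) F) :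
    ∃ a : k, F = 1 + RatFunc.C a * RatFunc.X := by
  classical
  set P := F.num with hPdef
  set Q := F.denom with hQdef
  have hQ0 : Q ≠ 0 := F.denom_ne_zero
  have hP0 : P ≠ 0 := fun h => h0 (by rw [← h1, h, Polynomial.eval_zero])
  have hcop : IsCoprime P Q := F.isCoprime_num_denom
  let L := AlgebraicClosure (RatFunc k)
  let x : L := algebraMap (RatFunc k) L RatFunc.X
  have hx : ∀ p : Polynomial k, Polynomial.aeval x p = 0 → p = 0 := by
    intro p hp
    have h : Polynomial.aeval x p = algebraMap (RatFunc k) L (algebraMap (Polynomial k) (RatFunc k) p) := by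
      rw [show x = algebraMap (RatFunc k) L RatFunc.X from rfl, Polynomial.aeval_algebraMap_apply,
        ← RatFunc.algebraMap_X, Polynomial.aeval_algebraMap_apply, Polynomial.aeval_X_left_apply]
    rw [h, map_eq_zero_iff _ (algebraMap (RatFunc k) L).injective] at hp
    exact (map_eq_zero_iff _ (IsFractionRing.injective (Polynomial k) (RatFunc k))).mp hp
  let ψ : MvPolynomial (Fin 2) k →ₐ[k] Polynomial (Polynomial k) :=
    MvPolynomial.aeval ![Polynomial.C Polynomial.X, Polynomial.X]
  have hψ : Function.Injective ψ := by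
    let θ : Polynomial (Polynomial k) →+* MvPolynomial (Fin 2) k :=
      Polynomial.eval₂RingHom (Polynomial.aeval (MvPolynomial.X 0 : MvPolynomial (Fin 2) k)).toRingHom (MvPolynomial.X 1)
    have : θ.comp ψ.toRingHom = RingHom.id _ := by
      refine MvPolynomial.ringHom_ext (fun r => ?_) (fun i => ?_)
      · simp [ψ, θ, Polynomial.algebraMap_apply]
      · fin_cases i <;> simp [ψ, θ]
    exact Function.LeftInverse.injective (g := θ) fun z => RingHom.congr_fun this z
  let ev : Polynomial k →+* L := (Polynomial.aeval x).toRingHom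
  have hev : Function.Injective ev := (injective_iff_map_eq_zero ev).mpr hx
  let Φ : MvPolynomial (Fin 2) k →+* RatFunc L :=
    (algebraMap (Polynomial L) (RatFunc L)).comp ((Polynomial.mapRingHom ev).comp ψ.toRingHom)
  have hΦ : Function.Injective Φ :=
    (IsFractionRing.injective (Polynomial L) (RatFunc L)).comp ((Polynomial.map_injective ev hev).comp hψ)
  let Ψ : FractionRing (MvPolynomial (Fin 2) k) →+* RatFunc L := IsFractionRing.lift hΦ
  have hΨ : ∀ z, Ψ (algebraMap _ _ z) = Φ z := fun z => IsFractionRing.lift_algebraMap hΦ z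
  let x' : RatFunc L := algebraMap (Polynomial L) (RatFunc L) (Polynomial.C x)
  let Y : RatFunc L := algebraMap (Polynomial L) (RatFunc L) Polynomial.X
  have hX0 : Φ (MvPolynomial.X 0) = x' := by simp [Φ, ψ, x', ev]
  have hX1 : Φ (MvPolynomial.X 1) = Y := by simp [Φ, ψ, Y, ev]
  have hC : Ψ.comp (algebraMap k (FractionRing (MvPolynomial (Fin 2) k))) =
      (algebraMap (Polynomial L) (RatFunc L)).comp (Polynomial.C.comp (algebraMap k L)) := by
    ext r
    rw [RingHom.comp_apply, IsScalarTower.algebraMap_apply k (MvPolynomial (Fin 2) k) (FractionRing (MvPolynomial (Fin 2) k)), hΨ]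
    simp [Φ, ψ, ev, Polynomial.algebraMap_apply]
  let f' : k →+* RatFunc L := (algebraMap (Polynomial L) (RatFunc L)).comp (Polynomial.C.comp (algebraMap k L))
  have hEval : ∀ z : FractionRing (MvPolynomial (Fin 2) k),
      Ψ (RatFunc.eval (algebraMap k _) z F) = P.eval₂ f' (Ψ z) / Q.eval₂ f' (Ψ z) := fun z => by
    rw [RatFunc.eval, map_div₀, Polynomial.hom_eval₂, Polynomial.hom_eval₂, hC]
  have heq := congrArg Ψ hFE
  rw [map_mul, hEval, map_add, map_mul, hEval, hEval, hΨ, hΨ, hX0, hX1] at heq
  let px : L := Polynomial.aeval x P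
  let qx : L := Polynomial.aeval x Q
  have hpx : px ≠ 0 := fun h => hP0 (hx P h)
  have hqx : qx ≠ 0 := fun h => hQ0 (hx Q h)
  let c : L := px / qx
  have hc0 : c ≠ 0 := div_ne_zero hpx hqx
  have he' : ∀ (p : Polynomial k) (g : Polynomial L), p.eval₂ f' (algebraMap (Polynomial L) (RatFunc L) g) =
      algebraMap (Polynomial L) (RatFunc L) ((p.map (algebraMap k L)).comp g) := fun p g => by
    rw [Polynomial.comp, Polynomial.eval₂_map, Polynomial.hom_eval₂]
  have hcX : algebraMap (Polynomial L) (RatFunc L) ((P.map (algebraMap k L)).comp (Polynomial.C x)) /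
      algebraMap (Polynomial L) (RatFunc L) ((Q.map (algebraMap k L)).comp (Polynomial.C x)) =
      algebraMap (Polynomial L) (RatFunc L) (Polynomial.C c) := by
    rw [Polynomial.comp_C, Polynomial.comp_C, Polynomial.eval_map, Polynomial.eval_map]
    show algebraMap _ _ (Polynomial.C px) / algebraMap _ _ (Polynomial.C qx) = _
    rw [← RingHom.comp_apply, ← RingHom.comp_apply, ← map_div₀]
    rfl
  simp only [he', x', Y, hcX] at heq
  rw [← map_mul, ← map_add, he', he', Polynomial.comp_X, Polynomial.comp_X] at heq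
  let P' := P.map (algebraMap k L)
  let Q' := Q.map (algebraMap k L)
  let g : Polynomial L := Polynomial.C x + Polynomial.X * Polynomial.C c
  have hinj := IsFractionRing.injective (Polynomial L) (RatFunc L)
  have hnz : ∀ p : Polynomial L, p ≠ 0 → p.comp g ≠ 0 := fun p hp h => by
    have h' := congrArg (fun z => Polynomial.natDegree z) h
    simp only [Polynomial.natDegree_comp, Polynomial.natDegree_zero] at h'
    have hg : g.natDegree = 1 := by
      simp only [g, Polynomial.natDegree_C_add]
      rw [Polynomial.natDegree_mul_C hc0, Polynomial.natDegree_X]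
    rw [hg, mul_one] at h'
    obtain ⟨e, rfl⟩ := Polynomial.natDegree_eq_zero.mp h'
    simp at h
    exact hp (by simp [h])
  have hQ'0 : Q' ≠ 0 := (Polynomial.map_ne_zero hQ0)
  have key : P'.comp g * Q' = Polynomial.C c * P' * Q'.comp g := by
    refine hinj ?_
    have h1 : algebraMap (Polynomial L) (RatFunc L) (Q'.comp g) ≠ 0 :=
      (map_ne_zero_iff _ hinj).mpr (hnz _ hQ'0)
    have h2 : algebraMap (Polynomial L) (RatFunc L) Q' ≠ 0 := (map_ne_zero_iff _ hinj).mpr hQ'0
    rw [mul_div_assoc', div_eq_div_iff h1 h2] at heq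
    rw [map_mul, map_mul, map_mul]
    exact heq
  have hdisj : ∀ t : L, P'.eval t = 0 → Q'.eval t ≠ 0 := fun t hp hq => by
    obtain ⟨u, v, huv⟩ := hcop.map (Polynomial.mapRingHom (algebraMap k L))
    have := congrArg (Polynomial.eval t) huv
    simp only [Polynomial.coe_mapRingHom, Polynomial.eval_add, Polynomial.eval_mul, Polynomial.eval_one] at this
    rw [show (P.map (algebraMap k L)).eval t = 0 from hp, show (Q.map (algebraMap k L)).eval t = 0 from hq] at this
    simp at this
  have halg : ∀ p : Polynomial k, p ≠ 0 → ∀ t : L, (p.map (algebraMap k L)).eval t = 0 → IsAlgebraic k t :=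
    fun p hp t ht => ⟨p, hp, by rwa [Polynomial.eval_map] at ht⟩
  -- from a root we obtain that `F` is linear
  have main : ∀ ρ σ : L, IsAlgebraic k ρ → IsAlgebraic k σ → ρ ≠ 0 → σ = x + ρ * c →
      P.natDegree ≤ 1 ∧ Q.natDegree = 0 := by
    intro ρ σ hρ hσ hρ0 hσe
    have hid : P.eval₂ (algebraMap k L) x * ρ = (σ - x) * Q.eval₂ (algebraMap k L) x := by
      show px * ρ = (σ - x) * qx
      rw [hσe]
      show px * ρ = (x + ρ * (px / qx) - x) * qx
      rw [add_sub_cancel_left, mul_assoc, div_mul_cancel₀ _ hqx, mul_comm]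
    let A := algebraicClosure k L
    let ρ' : A := ⟨ρ, mem_algebraicClosure_iff'.mpr hρ.isIntegral⟩
    let σ' : A := ⟨σ, mem_algebraicClosure_iff'.mpr hσ.isIntegral⟩
    let Pa := P.map (algebraMap k A)
    let Qa := Q.map (algebraMap k A)
    have hpoly : Pa * Polynomial.C ρ' = (Polynomial.C σ' - Polynomial.X) * Qa := by
      by_contra hne
      have hxalg : IsAlgebraic A x := ⟨_, sub_ne_zero.mpr hne, by
        simp only [Pa, Qa, map_sub, map_mul, Polynomial.aeval_C, Polynomial.aeval_X, Polynomial.aeval_map_algebraMap]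
        exact sub_eq_zero.mpr hid⟩
      obtain ⟨p, hp, hp'⟩ := hxalg.restrictScalars k
      exact hp (hx p hp')
    have hcopA : IsCoprime Qa Pa := (hcop.map (Polynomial.mapRingHom (algebraMap k A))).symm
    have hdvd : Qa ∣ Pa * Polynomial.C ρ' := ⟨Polynomial.C σ' - Polynomial.X, by rw [hpoly, mul_comm]⟩
    have hρ'0 : ρ' ≠ 0 := fun h => hρ0 (congrArg Subtype.val h)
    have hd := Polynomial.natDegree_le_of_dvd (hcopA.dvd_of_dvd_mul_left hdvd) (Polynomial.C_ne_zero.mpr hρ'0)
    simp [Qa] at hd
    refine ⟨?_, hd⟩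
    have := congrArg Polynomial.natDegree hpoly
    rw [Polynomial.natDegree_mul_C hρ'0] at this
    rw [← Polynomial.natDegree_map (algebraMap k A)]
    show Pa.natDegree ≤ 1
    rw [this]
    refine Polynomial.natDegree_mul_le.trans ?_
    rw [show Qa.natDegree = 0 by simp [Qa, hd], add_zero]
    exact (Polynomial.natDegree_sub_le _ _).trans (by simp)
  have hdeg : P.natDegree ≤ 1 ∧ Q.natDegree = 0 := by
    by_contra hcon
    have hex : 0 < P.natDegree ∨ 0 < Q.natDegree := by
      by_contra! h
      exact hcon ⟨by omega, by omega⟩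
    have hzero : ∀ p : Polynomial k, p.eval 0 ≠ 0 → ∀ t : L, (p.map (algebraMap k L)).eval t = 0 → t ≠ 0 := by
      intro p hp t ht e
      rw [e, ← map_zero (algebraMap k L), Polynomial.eval_map_apply, map_zero] at ht
      exact hp ((map_eq_zero_iff _ (algebraMap k L).injective).mp ht)
    have hev' : ∀ t : L, P'.eval (x + t * c) * Q'.eval t = c * P'.eval t * Q'.eval (x + t * c) := fun t => by
      simpa [g, mul_comm t] using congrArg (Polynomial.eval t) key
    rcases hex with hP | hQ
    · obtain ⟨ρ, hρ⟩ := IsAlgClosed.exists_root P' (by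
        rw [Polynomial.degree_eq_natDegree (Polynomial.map_ne_zero hP0), Polynomial.natDegree_map]
        exact_mod_cast hP.ne')
      have := hev' ρ
      rw [hρ, mul_zero, zero_mul] at this
      have hσ := (mul_eq_zero.mp this).resolve_right (hdisj ρ hρ)
      exact hcon (main ρ _ (halg P hP0 ρ hρ) (halg P hP0 _ hσ) (hzero P (h1 ▸ h0) ρ hρ) rfl)
    · obtain ⟨ρ, hρ⟩ := IsAlgClosed.exists_root Q' (by
        rw [Polynomial.degree_eq_natDegree hQ'0, Polynomial.natDegree_map]
        exact_mod_cast hQ.ne')
      have := hev' ρ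
      rw [hρ, mul_zero] at this
      rcases mul_eq_zero.mp this.symm with h | h
      · exact hdisj ρ ((mul_eq_zero.mp h).resolve_left hc0) hρ
      · exact hcon (main ρ _ (halg Q hQ0 ρ hρ) (halg Q hQ0 _ h) (hzero Q h0 ρ hρ) rfl)
  obtain ⟨q, hq⟩ := Polynomial.natDegree_eq_zero.mp hdeg.2
  obtain ⟨a, b, hab⟩ := Polynomial.exists_eq_X_add_C_of_natDegree_le_one hdeg.1
  have hbq : b = q := by
    rw [hab, ← hq] at h1
    simpa using h1
  have hq1 : q = 1 := by
    have := F.monic_denom
    rw [← hQdef, ← hq, Polynomial.Monic, Polynomial.leadingCoeff_C] at this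
    exact this
  refine ⟨a, ?_⟩
  rw [← F.num_div_denom, ← hPdef, ← hQdef, hab, ← hq, hbq, hq1]
  simp [RatFunc.algebraMap_C, RatFunc.algebraMap_X, add_comm]

end Groth.Agent.S8471
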