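import Groth.Statements.S8535
import Groth.Agent.DeltaFLib.Compare

set_option autoImplicit false
universe v v' u u'
open CategoryTheory CategoryTheory.Limits
open DeltaF

namespace Groth.Agent.S8535

/-- Let A and B be abelian categories, T and T' cohomological delta-functors from A to B in degrees ≥ 0
whose degree-0 components are left exact (they vanish in negative degrees), such that T^i is
effaceable for every i > 0, and let φ : T → T' be a morphism of delta-functors and n a natural
number. Then the following are equivalent: (a) φ^i is an isomorphism for i ≤ n and a monomorphism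
for i = n + 1; (b) φ^0 is a monomorphism and φ^i is an epimorphism for every i ≤ n; (c) φ^0 is an
isomorphism and, for 0 < i ≤ n, T'^i is effaceable (every object X admits a monomorphism X → Y
killed by T'^i). -/
theorem result {A : Type u} [Category.{v} A] [Abelian A]
    {B : Type u'} [Category.{v'} B] [Abelian B] (T T' : DeltaF.CohDeltaFunctor A B ℕ)
    (h0 : T.ZeroMono) (h0' : T'.ZeroMono) (hT : T.IsEffaceable) (φ : T ⟶ T') (n : ℕ) :
    ((∀ i : ℕ, i ≤ n → IsIso (φ.app i)) ∧ Mono (φ.app (n + 1)) ↔
      (Mono (φ.app 0) ∧ ∀ i : ℕ, i ≤ n → Epi (φ.app i))) ∧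
    ((∀ i : ℕ, i ≤ n → IsIso (φ.app i)) ∧ Mono (φ.app (n + 1)) ↔
      (IsIso (φ.app 0) ∧ ∀ i : ℕ, 0 < i → i ≤ n → ∀ X : A, ∃ (Y : A) (u : X ⟶ Y), Mono u ∧ (T'.F i).map u = 0)) := by
  refine ⟨⟨fun ⟨h, _⟩ => ?_, fun ⟨h0m, he⟩ => ?_⟩, ⟨fun ⟨h, _⟩ => ?_, fun ⟨h0i, he⟩ => ?_⟩⟩
  · haveI := h 0 (Nat.zero_le n)
    exact ⟨inferInstance, fun i hi => by haveI := h i hi; infer_instance⟩
  · have key : ∀ i, i ≤ n → IsIso (φ.app i) := by
      intro i
      induction i with
      | zero =>
        intro hi
        haveI := he 0 hi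
        exact isIso_of_mono_of_epi _
      | succ i ih =>
        intro hi
        haveI := ih (by omega)
        haveI := he (i + 1) hi
        haveI := Groth.Agent.DeltaFLib.mono_succ hT φ i
        exact isIso_of_mono_of_epi _
    haveI := key n le_rfl
    exact ⟨key, Groth.Agent.DeltaFLib.mono_succ hT φ n⟩
  · refine ⟨h 0 (Nat.zero_le n), fun i hi0 hin X => ?_⟩
    obtain ⟨j, rfl⟩ := Nat.exists_eq_succ_of_ne_zero (Nat.pos_iff_ne_zero.1 hi0)
    obtain ⟨Y, u, hu, hu0⟩ := hT j X
    haveI := h (j + 1) hin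
    refine ⟨Y, u, hu, ?_⟩
    have e := (φ.app (j + 1)).naturality u
    rw [hu0, zero_comp] at e
    exact (cancel_epi ((φ.app (j + 1)).app X)).1 (by rw [← e, comp_zero])
  · have key : ∀ i, i ≤ n → IsIso (φ.app i) := by
      intro i
      induction i with
      | zero => exact fun _ => h0i
      | succ i ih =>
        intro hi
        haveI := ih (by omega)
        haveI := Groth.Agent.DeltaFLib.mono_succ hT φ i
        haveI := Groth.Agent.DeltaFLib.epi_succ hT φ i (he (i + 1) (Nat.succ_pos i) hi)
        exact isIso_of_mono_of_epi _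
    haveI := key n le_rfl
    exact ⟨key, Groth.Agent.DeltaFLib.mono_succ hT φ n⟩

end Groth.Agent.S8535
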