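import Groth.Statements.S8538
import Groth.Agent.HensPair.JacobsonDim
import Groth.Agent.HensPair.DimMore
import Groth.Agent.HensPair.CatenaryBasic
import Groth.Agent.S3433

set_option autoImplicit false
universe u
open CategoryTheory CategoryTheory.Limits AlgebraicGeometry Opposite
open EtCd

namespace Groth.Agent.S8538

/-- Let A be a Noetherian universally catenary local ring, f : X → Spec A a morphism of finite type, x a
point of X with image y, and X₀ the closed fibre of f. Put δ(x) = dim closure(y) + trdeg(κ(x)/κ(y))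
= dim(A/p_y) + trdeg(κ(x)/κ(y)) and d(x) = dim closure(x) (topological Krull dimension of the
closure of x in X). Then d(x) = δ(x) when the closure of x meets X₀, and d(x) + 1 = δ(x) when it
does not. -/
theorem result (A : Type u) [CommRing A] [IsNoetherianRing A] [IsLocalRing A]
    (hA : CAlg.IsUniversallyCatenary A) {X : Scheme.{u}} (f : X ⟶ Spec (CommRingCat.of A)) [LocallyOfFiniteType f]
    [QuasiCompact f] (x : X) (a b d : ℕ) (ha : ringKrullDim (A ⧸ (f.base x).asIdeal) = a)
    (hb : letI := (f.residueFieldMap x).hom.toAlgebra;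
      Algebra.trdeg ((Spec (CommRingCat.of A)).residueField (f.base x)) (X.residueField x) = b)
    (hd : topologicalKrullDim ↥(closure ({x} : Set X)) = d) :
    ((closure ({x} : Set X) ∩ f.base ⁻¹' {((IsLocalRing.closedPoint A : PrimeSpectrum A) : ↥(Spec (CommRingCat.of A)))}).Nonempty →
        d = a + b) ∧
    (closure ({x} : Set X) ∩ f.base ⁻¹' {((IsLocalRing.closedPoint A : PrimeSpectrum A) : ↥(Spec (CommRingCat.of A)))} = ∅ →
        d + 1 = a + b) := by
  open Groth.Agent.HensPair in
  haveI : IsLocallyNoetherian (Spec (CommRingCat.of A)) := inferInstance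
  let S := Spec (CommRingCat.of A)
  let m : S := (IsLocalRing.closedPoint A : PrimeSpectrum A)
  let y : S := f x
  have le_sp : ∀ p q : PrimeSpectrum A, p ≤ q ↔ (p : S) ⤳ (q : S) := fun p q => PrimeSpectrum.le_iff_specializes p q
  have hm : ∀ p : S, p ⤳ m := fun p => (le_sp p m).mp (IsLocalRing.le_maximalIdeal (p : PrimeSpectrum A).2.ne_top)
  have huc : ∀ p : S, CAlg.IsUniversallyCatenary (S.presheaf.stalk p) := fun p => by
    letI : Algebra A (S.presheaf.stalk p) := StructureSheaf.stalkAlgebra A p
    haveI : IsLocalization.AtPrime (S.presheaf.stalk p) (p : PrimeSpectrum A).asIdeal :=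
      StructureSheaf.IsLocalization.to_stalk A p
    haveI : Algebra.EssFiniteType A (S.presheaf.stalk p) :=
      Algebra.EssFiniteType.of_isLocalization _ (p : PrimeSpectrum A).asIdeal.primeCompl
    exact CatenaryBasic.isUnivCatenary_of_essFiniteType hA
  have cdm : ∀ p : S, CatScheme.cd p m = ringKrullDim (A ⧸ (p : PrimeSpectrum A).asIdeal) := fun p => by
    rw [ringKrullDim_quotient, ← Order.krullDim_orderDual]
    let e : ({t : S | p ⤳ t ∧ t ⤳ m} : Set S) ≃o
        (PrimeSpectrum.zeroLocus (R := A) ((p : PrimeSpectrum A).asIdeal : Set A))ᵒᵈ :=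
      { toFun := fun t => OrderDual.toDual ⟨t.1, (le_sp p t.1).mpr t.2.1⟩
        invFun := fun t => ⟨(OrderDual.ofDual t).1, (le_sp p _).mp (OrderDual.ofDual t).2, hm _⟩
        left_inv := fun _ => rfl
        right_inv := fun _ => rfl
        map_rel_iff' := fun {c d} => le_sp d.1 c.1 }
    exact Order.krullDim_eq_of_orderIso e
  have hya : CatScheme.cd y m = (a : ℕ) := (cdm y).trans ha
  have hT : FibreTrdeg.T f x = b := by
    have h := FibreTrdeg.T_spec f x
    rw [hb] at h
    exact_mod_cast h.symm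
  have hcl : ∀ z : X, z ∈ closure ({x} : Set X) → x ⤳ z := fun z hz => specializes_iff_mem_closure.mpr hz
  -- for every point of the closure
  have point : ∀ z : X, x ⤳ z → ∃ i j c : ℕ, CatScheme.cd x z = (i : ℕ) ∧ CatScheme.cd (f z) m = (c : ℕ) ∧
      i + FibreTrdeg.T f z = j + b ∧ j + c = a := fun z hz => by
    obtain ⟨j, i, hi, hj, -, heq⟩ := CatScheme.alt f z x hz
    obtain ⟨c, hc⟩ := JacobsonDim.cd_nat (f z) m (hm _)
    have h := CatAdd.cd_add y (f z) m (hz.map f.continuous) (hm _) (huc m)
    rw [hya, show CatScheme.cd y (f z) = _ from hj, hc] at h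
    refine ⟨i, j, c, hi, hc, by rw [heq (huc _), hT], ?_⟩
    exact_mod_cast h.symm
  have lower : ∀ z : X, x ⤳ z → CatScheme.cd x z ≤ (d : ℕ) := fun z hz => by
    rw [← CatAdd.topDim_gen x z hz]
    refine ((Topology.IsEmbedding.inclusion (t := closure ({x} : Set X)) fun t ht => ht.1).isInducing.topologicalKrullDim_le).trans ?_
    exact hd.le
  have upper : ∀ N : ℕ, (∀ z : X, x ⤳ z → CatScheme.cd x z ≤ (N : ℕ)) → d ≤ N := fun N hN => by
    have h : topologicalKrullDim ↥(closure ({x} : Set X)) ≤ (N : ℕ) := by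
      refine iSup_le fun l => ?_
      have hg : ∀ i, ∃ t : X, t ∈ closure ({x} : Set X) ∧ closure ({t} : Set X) = Subtype.val '' (l i : Set ↥(closure ({x} : Set X))) := fun i => by
        have h1 : IsIrreducible (Subtype.val '' (l i : Set ↥(closure ({x} : Set X)))) :=
          (l i).2.image _ continuous_subtype_val.continuousOn
        have h2 : IsClosed (Subtype.val '' (l i : Set ↥(closure ({x} : Set X)))) :=
          isClosed_closure.isClosedEmbedding_subtypeVal.isClosedMap _ (l i).3
        have h3 : closure ({h1.genericPoint} : Set X) = Subtype.val '' (l i : Set ↥(closure ({x} : Set X))) :=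
          h1.isGenericPoint_genericPoint_closure.def.trans h2.closure_eq
        obtain ⟨t, -, ht⟩ := h3.subset (subset_closure rfl)
        exact ⟨h1.genericPoint, by rw [← ht]; exact t.2, h3⟩
      choose t htx ht using hg
      have hsp : ∀ i j, i ≤ j → t j ⤳ t i := fun i j hij => specializes_iff_mem_closure.mpr (by
        rw [ht]; exact Set.image_mono (l.monotone hij) ((ht i).subset (subset_closure rfl)))
      let l' : LTSeries ({s : X | x ⤳ s ∧ s ⤳ t 0} : Set X) :=
        ⟨l.length, fun i => ⟨t i, hcl _ (htx i), hsp 0 i (Fin.zero_le i)⟩, fun i => by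
          refine lt_iff_le_not_ge.mpr ⟨hsp _ _ Fin.castSucc_lt_succ.le, fun hge => ?_⟩
          refine (l.step i).ne (TopologicalSpace.IrreducibleCloseds.ext ?_)
          refine Set.image_injective.mpr Subtype.val_injective ?_
          rw [← ht, ← ht]
          exact congrArg (fun v => closure ({v} : Set X)) ((hsp _ _ Fin.castSucc_lt_succ.le).antisymm hge).eq.symm⟩
      exact le_trans (Order.LTSeries.length_le_krullDim l') (hN (t 0) (hcl _ (htx 0)))
    rw [hd] at h
    exact_mod_cast h
  haveI : CompactSpace X := QuasiCompact.compactSpace_of_compactSpace f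
  have closedT : ∀ z : X, IsClosed ({z} : Set X) → FibreTrdeg.T f z = 0 := fun z hz =>
    DimMore.T_eq_zero f z fun z' _ hsp => by have := hsp.mem_closure; rw [hz.closure_eq] at this; exact this
  refine ⟨fun hne => ?_, fun hemp => ?_⟩
  · obtain ⟨z, ⟨hzx, hzm⟩, hzc⟩ := (isClosed_closure.inter ((IsLocalRing.isClosed_singleton_closedPoint A).preimage f.continuous)).exists_closed_singleton hne
    refine le_antisymm (upper _ fun z' hz' => ?_) ?_
    · obtain ⟨i, j, c, hi, -, h1, h2⟩ := point z' hz'
      rw [hi]; exact_mod_cast (by omega : i ≤ a + b)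
    · obtain ⟨i, j, c, hi, hc, h1, h2⟩ := point z (hcl z hzx)
      have hfz : f z = m := hzm
      rw [hfz, cdm m] at hc
      haveI : (m : PrimeSpectrum A).asIdeal.IsMaximal := IsLocalRing.maximalIdeal.isMaximal A
      letI := Ideal.Quotient.field (m : PrimeSpectrum A).asIdeal
      rw [ringKrullDim_eq_zero_of_field] at hc
      have hc0 : c = 0 := by exact_mod_cast hc.symm
      have h3 := lower z (hcl z hzx)
      rw [hi] at h3
      have h4 : i ≤ d := by exact_mod_cast h3
      have h5 := closedT z hzc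
      omega
  · have hne : ∀ z : X, x ⤳ z → f z ≠ m := fun z hz e => (Set.eq_empty_iff_forall_notMem.mp hemp z) ⟨hz.mem_closure, e⟩
    have hc1 : ∀ z : X, x ⤳ z → ∀ c : ℕ, CatScheme.cd (f z) m = (c : ℕ) → 1 ≤ c := fun z hz c hc => by
      have hlt : (⟨m, hm (f z), specializes_rfl⟩ : ({t : S | f z ⤳ t ∧ t ⤳ m} : Set S)) < ⟨f z, specializes_rfl, hm _⟩ :=
        lt_iff_le_not_ge.mpr ⟨hm (f z), fun h => hne z hz ((hm (f z)).antisymm h).eq⟩
      let l : LTSeries ({t : S | f z ⤳ t ∧ t ⤳ m} : Set S) :=
        (RelSeries.singleton _ ⟨m, hm (f z), specializes_rfl⟩).snoc ⟨f z, specializes_rfl, hm _⟩ hlt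
      have h := Order.LTSeries.length_le_krullDim l
      change _ ≤ CatScheme.cd (f z) m at h
      rw [hc, RelSeries.snoc_length, RelSeries.singleton_length] at h
      exact_mod_cast h
    obtain ⟨z, hzx, hzc⟩ := (isClosed_closure (s := ({x} : Set X))).exists_closed_singleton ⟨x, subset_closure rfl⟩
    obtain ⟨i, j, c, hi, hc, h1, h2⟩ := point z (hcl z hzx)
    have hUo : IsOpen ({m}ᶜ : Set S) := (IsLocalRing.isClosed_singleton_closedPoint A).isOpen_compl
    let Uo : S.Opens := ⟨{m}ᶜ, hUo⟩
    haveI : JacobsonSpace ↥(Uo : Scheme.{u}) := (Groth.Agent.S3433.result A).1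
    let z' : ↥(f ⁻¹ᵁ Uo : Scheme.{u}) := ⟨z, hne z (hcl z hzx)⟩
    have hz' : IsClosed ({z'} : Set ↥(f ⁻¹ᵁ Uo : Scheme.{u})) := by
      have e : ({z'} : Set ↥(f ⁻¹ᵁ Uo : Scheme.{u})) = Subtype.val ⁻¹' ({z} : Set X) :=
        Set.ext fun w => Subtype.ext_iff
      rw [e]
      exact hzc.preimage continuous_subtype_val
    have h6 : IsClosed ({(f ∣_ Uo) z'} : Set ↥(Uo : Scheme.{u})) := (f ∣_ Uo).closePoints_subset_preimage_closedPoints hz'
    have e6 : ((f ∣_ Uo) z').1 = f z := by rw [morphismRestrict_base_coe]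
    have h7 := ((Groth.Agent.S3433.result A).2 ((f ∣_ Uo) z')).mp h6
    rw [e6, ← cdm, hc] at h7
    have hc' : c = 1 := by exact_mod_cast h7
    have h3 := lower z (hcl z hzx)
    rw [hi] at h3
    have h4 : i ≤ d := by exact_mod_cast h3
    have h5 := closedT z hzc
    have h8 : d ≤ a + b - 1 := upper _ fun z'' hz'' => by
      obtain ⟨i', j', c', hi', hc'', h1', h2'⟩ := point z'' hz''
      have := hc1 z'' hz'' c' hc''
      rw [hi']; exact_mod_cast (by omega : i' ≤ a + b - 1)
    omega

end Groth.Agent.S8538
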