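import Groth.Statements.S8564
import Groth.Agent.Lead.SiteCoh.Converse

set_option autoImplicit false
open CategoryTheory CategoryTheory.Limits
universe u
open CohCx

namespace Groth.Agent.S8564

/-- Let (F_t) be a family of abelian sheaves on a small site, indexed by a small set, such that each F_t
is totally acyclic, i.e. H^p(K, F_t) = 0 for every sheaf of sets K and every p > 0. Then the product
sheaf of the family is totally acyclic. (The published statement is for modules over a ringed topos;
this row is the case of abelian sheaves.) -/
theorem result {C : Type u} [SmallCategory C] (J : GrothendieckTopology C)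
    {T : Type u} (F : T → Sheaf J AddCommGrpCat.{u}) (hF : ∀ t, CohCx.IsTotallyAcyclic (F t)) :
    CohCx.IsTotallyAcyclic (∏ᶜ F) := by
  refine Groth.Agent.Lead.SiteCoh.isTotallyAcyclic_of_cechAcyclic fun K' K f hf q a ha => ?_
  haveI := hf
  have h := fun t => Groth.Agent.Lead.SiteCoh.exists_d f (F t)
    (fun P n => Groth.Agent.Lead.SiteCoh.subsingleton_ext_freeP (hF t) P n) q (a ≫ Pi.π F t)
    (by rw [← Category.assoc, ha, zero_comp])
  choose b hb using h
  exact ⟨Pi.lift b, Pi.hom_ext _ _ fun t => by rw [Category.assoc, Pi.lift_π, hb]⟩

end Groth.Agent.S8564
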