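import Groth.Statements.S8591
import Mathlib.RingTheory.AdjoinRoot
import Mathlib.LinearAlgebra.Matrix.Charpoly.Minpoly
import Mathlib.RingTheory.Norm.Basic
import Mathlib.LinearAlgebra.Matrix.Reindex

set_option autoImplicit false
universe u
open CAlg

namespace Groth.Agent.S8591

open Polynomial Matrix

lemma exists_splitting (d : ℕ) : ∀ (k : Type u) [CommRing k] (P : k[X]), P.Monic → P.natDegree = d →
    ∃ (k' : Type u) (_ : CommRing k') (f : k →+* k') (s : Multiset k'),
      Function.Injective f ∧ P.map f = (s.map fun r => X - C r).prod := by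
  induction d with
  | zero =>
    intro k _ P hP hd
    exact ⟨k, inferInstance, RingHom.id k, 0, Function.injective_id, by
      simp [hP.natDegree_eq_zero.1 hd]⟩
  | succ d ih =>
    intro k _ P hP hd
    rcases subsingleton_or_nontrivial k with hk | hk
    · exact ⟨k, inferInstance, RingHom.id k, 0, Function.injective_id, Subsingleton.elim _ _⟩
    have hinj : Function.Injective (AdjoinRoot.of P) := by
      rw [injective_iff_map_eq_zero]
      intro r hr
      by_contra hr0
      rw [← AdjoinRoot.mk_C, AdjoinRoot.mk_eq_zero] at hr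
      refine hP.not_dvd_of_degree_lt (C_ne_zero.2 hr0) ?_ hr
      rw [degree_C hr0, degree_eq_natDegree hP.ne_zero, hd]
      exact_mod_cast Nat.succ_pos d
    haveI : Nontrivial (AdjoinRoot P) := hinj.nontrivial
    obtain ⟨Q, hQ⟩ := dvd_iff_isRoot.2 (AdjoinRoot.isRoot_root P)
    have hQm : Q.Monic := (monic_X_sub_C _).of_mul_monic_left (hQ ▸ hP.map _)
    have hQd : Q.natDegree = d := by
      have := congrArg natDegree hQ
      rw [hP.natDegree_map, hd, (monic_X_sub_C _).natDegree_mul hQm, natDegree_X_sub_C] at this
      omega
    obtain ⟨k', _, f, s, hf, hs⟩ := ih (AdjoinRoot P) Q hQm hQd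
    refine ⟨k', inferInstance, f.comp (AdjoinRoot.of P), f (AdjoinRoot.root P) ::ₘ s, hf.comp hinj, ?_⟩
    rw [← Polynomial.map_map, hQ, Polynomial.map_mul, hs]
    simp

lemma det_aeval_eq {k : Type u} [CommRing k] {n m : Type u} [Fintype n] [DecidableEq n] [Fintype m]
    [DecidableEq m] (A : Matrix n n k) (B : Matrix m m k) (h : A.charpoly = B.charpoly)
    (hc : Fintype.card n = Fintype.card m) (P : k[X]) : (aeval A P).det = (aeval B P).det := by
  suffices H : ∀ P : k[X], P.Monic → (aeval A P).det = (aeval B P).det by
    rcases subsingleton_or_nontrivial k with hk | hk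
    · exact Subsingleton.elim _ _
    let Q := A.charpoly * X ^ (P.natDegree + 1)
    have hQ : Q.Monic := (A.charpoly_monic).mul (monic_X_pow _)
    have hlt : P.degree < Q.degree := by
      refine degree_le_natDegree.trans_lt ?_
      rw [degree_eq_natDegree hQ.ne_zero, (A.charpoly_monic).natDegree_mul (monic_X_pow _), natDegree_X_pow]
      exact_mod_cast (by omega : P.natDegree < A.charpoly.natDegree + (P.natDegree + 1))
    have := H (Q + P) (hQ.add_of_left hlt)
    have hA : aeval A Q = 0 := by simp [Q, Matrix.aeval_self_charpoly]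
    have hB : aeval B Q = 0 := by simp [Q, h, Matrix.aeval_self_charpoly]
    rwa [map_add, map_add, hA, hB, zero_add, zero_add] at this
  intro P hP
  obtain ⟨k', _, f, s, hf, hs⟩ := exists_splitting _ k P hP rfl
  apply hf
  letI := f.toAlgebra
  have key : ∀ (l : Type u) [Fintype l] [DecidableEq l] (M : Matrix l l k), f (aeval M P).det =
      (s.map fun r => (-1) ^ Fintype.card l * (M.charpoly.map f).eval r).prod := by
    intro l _ _ M
    have hmap : f.mapMatrix (aeval M P) = aeval (f.mapMatrix M) (P.map f) := by
      rw [show f = algebraMap k k' from rfl, aeval_map_algebraMap]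
      exact (aeval_algHom_apply ((Algebra.ofId k k').mapMatrix) M P).symm
    rw [RingHom.map_det, hmap, hs]
    clear hs hmap
    induction s using Multiset.induction_on with
    | empty => simp
    | cons r t ih =>
      rw [Multiset.map_cons, Multiset.prod_cons, map_mul, Matrix.det_mul, ih, Multiset.map_cons,
        Multiset.prod_cons]
      congr 1
      rw [← Matrix.charpoly_map, Matrix.eval_charpoly, ← Matrix.det_neg, neg_sub, map_sub, aeval_X, aeval_C]
      rfl
  rw [key n A, key m B, h, hc]

/-- Let k be a commutative ring, M a finite free k-module, u an endomorphism of M with characteristic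
polynomial χ, and P a polynomial over k. Then the norm, from the k-algebra k[T]/(χ) (free of rank
the rank of M) down to k, of the class of P(T) equals det(P(u)). (The published statement writes the
quotient by det(u - T), which generates the same ideal as χ(T) = det(T - u).) -/
theorem result (k : Type u) [CommRing k] (M : Type u) [AddCommGroup M] [Module k M]
    [Module.Free k M] [Module.Finite k M] (u : M →ₗ[k] M) (P : Polynomial k) :
    Algebra.norm k (AdjoinRoot.mk u.charpoly P) = LinearMap.det (Polynomial.aeval u P) := by
  classical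
  rcases subsingleton_or_nontrivial k with hk | hk
  · exact Subsingleton.elim _ _
  let b := Module.Free.chooseBasis k M
  let pb := AdjoinRoot.powerBasis' u.charpoly_monic
  rw [Algebra.norm_eq_matrix_det pb.basis, ← AdjoinRoot.aeval_eq, ← aeval_algHom_apply,
    ← LinearMap.det_toMatrix b, show LinearMap.toMatrix b b (aeval u P) =
      (LinearMap.toMatrixAlgEquiv b).toAlgHom (aeval u P) from rfl, ← aeval_algHom_apply]
  let e : Fin pb.dim ≃ ULift.{u} (Fin pb.dim) := Equiv.ulift.symm
  rw [← Matrix.det_reindex_self e, ← Matrix.coe_reindexAlgEquiv k k e, ← AlgEquiv.coe_toAlgHom,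
    ← aeval_algHom_apply]
  refine det_aeval_eq _ _ ?_ ?_ P
  · show (Matrix.reindex e e (Algebra.leftMulMatrix pb.basis pb.gen)).charpoly = u.charpoly
    rw [Matrix.charpoly_reindex, charpoly_leftMulMatrix pb]
    symm
    refine minpoly.unique' k _ u.charpoly_monic ?_ fun q hq => or_iff_not_imp_left.2 fun h0 => ?_
    · show aeval (AdjoinRoot.root u.charpoly) u.charpoly = 0
      rw [AdjoinRoot.aeval_eq, AdjoinRoot.mk_self]
    · show aeval (AdjoinRoot.root u.charpoly) q ≠ 0
      rw [AdjoinRoot.aeval_eq, ne_eq, AdjoinRoot.mk_eq_zero]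
      exact u.charpoly_monic.not_dvd_of_degree_lt h0 hq
  · rw [Fintype.card_ulift, Fintype.card_fin]
    show u.charpoly.natDegree = _
    rw [LinearMap.charpoly_natDegree, Module.finrank_eq_card_chooseBasisIndex]

end Groth.Agent.S8591
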