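import Groth.Statements.S8596
import Groth.Agent.Flat.TorDevissage

set_option autoImplicit false
universe u
open CategoryTheory CategoryTheory.Limits
open CAlg

namespace Groth.Agent.S8596

open CategoryTheory CategoryTheory.Limits Groth.Agent.Flat.LocalCriterion Groth.Agent.Flat.TorDim Groth.Agent.Flat.TorDevissage

/-- Case of a complex reduced to a single module in degree 0: let A be a commutative Noetherian ring, M
an A-module (not necessarily finitely generated) and n ≥ 0. Then M has tor-dimension at most n —
Tor_i^A(N, M) = 0 for every A-module N and every i > n, the Tor being the left derived functors of N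
⊗ - evaluated at M — if and only if Tor_i^A(k(x), M) = 0 for every prime ideal x of A, with residue
field k(x), and every i > n. (The published statement gives the equivalence for bounded-above
complexes K and the derived tensor product K ⊗^L k(x); this is the case K = M[0].) -/
theorem result (A : Type u) [CommRing A] [IsNoetherianRing A]
    (M : ModuleCat.{u} A) (n : ℕ) :
    (∀ (N : ModuleCat.{u} A) (i : ℕ), n < i → IsZero (((Tor (ModuleCat.{u} A) i).obj N).obj M)) ↔
    (∀ (x : Ideal A) [x.IsPrime] (i : ℕ), n < i →
      IsZero (((Tor (ModuleCat.{u} A) i).obj (ModuleCat.of A x.ResidueField)).obj M)) := by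
  refine ⟨fun h x _ i hi => h _ i hi, fun h N i hi => ?_⟩
  obtain ⟨S, Q, s, -, hTor⟩ := exists_syz (R := A) M
  obtain ⟨p, rfl⟩ : ∃ p, i = p + 1 := ⟨i - 1, by omega⟩
  have hq := torZero_quot_of_residueFields s n
    (fun x _ k hk => (hTor x.ResidueField k).1 (h x (k + 1) (by omega)))
  haveI : Module.Flat A (S p) := Module.Flat.iff_lTensor_injective'.mpr fun I =>
    (hq I p (by omega)).lTensor_injective (Submodule.injective_subtype _) (LinearMap.exact_subtype_mkQ I)
      (Submodule.mkQ_surjective I)
  exact (hTor N p).2 (flat_iff_torZero.1 inferInstance N)

end Groth.Agent.S8596
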