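import Groth.Statements.S8598
-- import your own Groth.Agent.* helpers here

set_option autoImplicit false
universe u
open CategoryTheory CategoryTheory.Limits AlgebraicGeometry Opposite
open EtDl

namespace Groth.Agent.S8598

/-- Let u : X -> Y be an etale, separated morphism of finite type that is surjective, and F an abelian
sheaf on Y_et. The sheaves F_n = (u_n)_! u_n^* F built from the iterated fibre powers of X over Y
form a left resolution of F; in particular (the part stated here) the augmentation u_! u^* F -> F,
which is the counit of the adjunction between extension by zero u_! and restriction u^*, is an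
epimorphism. (The continuity of V ↦ (V -> X -> Y) between the small etale sites is carried as an
instance hypothesis, the prelude's convention for extension by zero along an etale morphism.) -/
theorem result {X Y : Scheme.{u}} (u : X ⟶ Y) [Etale u] [IsSeparated u]
    [LocallyOfFiniteType u] [QuasiCompact u] [Surjective u] [EtShriek.JCont u] (F : EtCoh.Ab Y) :
    Epi ((EtShriek.extZeroAdj u).counit.app F) := by
  haveI : (EtShriek.restrAlong u).Faithful := ⟨fun {F G} a b hab => by
    ext ⟨V⟩ s
    let P : X.Etale := (EtCoh.bc u).obj V
    let Q : Y.Etale := (EtShriek.compEtale u).obj P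
    let π : Q ⟶ V := MorphismProperty.Over.homMk (Limits.pullback.fst V.hom u : P.left ⟶ V.left)
      Limits.pullback.condition
    have hmem : Sieve.generate (Presieve.singleton π) ∈ Y.smallEtaleTopology V := by
      rw [show Y.smallEtaleTopology = (Y.smallPretopology (P := EtCoh.etaleMP) (Q := EtCoh.etaleMP)).toGrothendieck
        from Scheme.smallGrothendieckTopology_eq_toGrothendieck_smallPretopology Y le_rfl]
      refine (Scheme.mem_toGrothendieck_smallPretopology V _).2 fun x => ?_
      haveI : Surjective (Limits.pullback.fst V.hom u) :=
        MorphismProperty.pullback_fst (P := @Surjective) _ _ ‹Surjective u›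
      obtain ⟨w, hw⟩ := Scheme.Hom.surjective (Limits.pullback.fst V.hom u) x
      refine ⟨Q, π, w, ⟨Q, 𝟙 Q, π, Presieve.singleton_self π, Category.id_comp π⟩, ?_, hw⟩
      exact MorphismProperty.pullback_fst (P := @Etale) _ _ ‹Etale u›
    refine (((isSheaf_iff_isSheaf_of_type _ _).1
      ((sheafCompose Y.smallEtaleTopology (forget AddCommGrpCat.{u + 1})).obj G).property) _ hmem).isSeparatedFor.ext ?_
    rintro Z _ ⟨Q', g, _, ⟨⟩, rfl⟩
    have h1 := ConcreteCategory.congr_hom (NatTrans.congr_app (congrArg (fun t => t.hom) hab) (Opposite.op P))
      (F.obj.map π.op s)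
    show G.obj.map (g ≫ π).op (a.hom.app (Opposite.op V) s) = G.obj.map (g ≫ π).op (b.hom.app (Opposite.op V) s)
    rw [op_comp, Functor.map_comp_apply, Functor.map_comp_apply]
    congr 1
    rw [← NatTrans.naturality_apply, ← NatTrans.naturality_apply]
    exact h1⟩
  exact (EtShriek.extZeroAdj u).counit_epi_of_R_faithful F

end Groth.Agent.S8598
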