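import Groth.Statements.S8604
import Mathlib.FieldTheory.IsAlgClosed.Basic
import Mathlib.FieldTheory.Finite.Basic
import Mathlib.LinearAlgebra.Dimension.StrongRankCondition
import Mathlib.RingTheory.Noetherian.Basic
import Mathlib.LinearAlgebra.Basis.VectorSpace

set_option autoImplicit false
universe u
open CAlg

namespace Groth.Agent.S8604

open Polynomial

variable {p : ℕ} [Fact p.Prime] {k : Type u} [Field k] [CharP k p] {V : Type u} [AddCommGroup V] [Module k V]

lemma map_iterate_smul (F : V →+ V) (hF : ∀ (a : k) (v : V), F (a • v) = a ^ p • F v) (m : ℕ) (a : k) (v : V) :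
    (⇑F)^[m] (a • v) = a ^ (p ^ m) • (⇑F)^[m] v := by
  induction m with
  | zero => simp
  | succ m ih => rw [Function.iterate_succ_apply', ih, hF, Function.iterate_succ_apply', ← pow_mul, ← pow_succ]

/-- The vectors killed by an iterate. -/
def nilSub (F : V →+ V) (hF : ∀ (a : k) (v : V), F (a • v) = a ^ p • F v) : Submodule k V where
  carrier := {v | ∃ m : ℕ, (⇑F)^[m] v = 0}
  zero_mem' := ⟨0, rfl⟩
  add_mem' := by
    rintro a b ⟨m, hm⟩ ⟨n, hn⟩
    refine ⟨n + m, ?_⟩
    have hz : ∀ j, (⇑F)^[j] (0 : V) = 0 := fun j => iterate_map_zero F j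
    rw [iterate_map_add, Function.iterate_add_apply, hm, hz, add_comm n m, Function.iterate_add_apply, hn, hz,
      add_zero]
  smul_mem' := by
    rintro c a ⟨m, hm⟩
    exact ⟨m, by rw [map_iterate_smul F hF, hm, smul_zero]⟩

lemma span_nil_eq (F : V →+ V) (hF : ∀ (a : k) (v : V), F (a • v) = a ^ p • F v) :
    Submodule.span k {v : V | ∃ m : ℕ, (⇑F)^[m] v = 0} = nilSub F hF :=
  (nilSub F hF).span_eq

lemma linearIndependent_of_int (F : V →+ V) (hF : ∀ (a : k) (v : V), F (a • v) = a ^ p • F v)
    (s : Finset V) (hs : ∀ v ∈ s, F v = v)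
    (hind : ∀ c : s → ℤ, (∑ v : s, c v • (v : V)) = 0 → ∀ v : s, (p : ℤ) ∣ c v) :
    LinearIndependent k (fun v : s => (v : V)) := by
  classical
  have key : ∀ (t : Finset s) (c : s → k), (∀ i ∉ t, c i = 0) → ∑ v : s, c v • (v : V) = 0 → ∀ i, c i = 0 := by
    intro t
    induction t using Finset.induction with
    | empty => intro c hc _ i; exact hc i (Finset.notMem_empty i)
    | @insert j t hj ih =>
      intro c hc hsum
      by_cases hcj : c j = 0
      · exact ih c (fun i hi => if h : i = j then h ▸ hcj else hc i (by simp [h, hi])) hsum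
      · exfalso
        let d : s → k := fun i => (c j)⁻¹ * c i
        have hd : ∑ v : s, d v • (v : V) = 0 := by
          simp only [d, mul_smul, ← Finset.smul_sum, hsum, smul_zero]
        have hFd : ∑ v : s, d v ^ p • (v : V) = 0 := by
          have := congrArg F hd
          simpa [map_sum, hF, fun v : s => hs v v.2] using this
        have h0 := ih (fun i => d i ^ p - d i)
          (fun i hi => by
            by_cases h : i = j
            · subst h; simp [d, hcj]
            · simp [d, hc i (by simp [h, hi]), zero_pow (Fact.out : p.Prime).ne_zero])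
          (by simp only [sub_smul, Finset.sum_sub_distrib, hd, hFd, sub_self])
        have hn : ∀ i, ∃ n : ℤ, (n : k) = d i := by
          intro i
          let f := ZMod.castHom (dvd_refl p) k
          have hroot : (X ^ p - X : k[X]) ≠ 0 := by
            exact FiniteField.X_pow_card_sub_X_ne_zero k (Fact.out : p.Prime).one_lt
          have hsub : (Finset.univ.image f) ⊆ (X ^ p - X : k[X]).roots.toFinset := by
            intro x hx
            obtain ⟨z, -, rfl⟩ := Finset.mem_image.1 hx
            rw [Multiset.mem_toFinset, mem_roots hroot, IsRoot, eval_sub, eval_pow, eval_X, ← map_pow,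
              ZMod.pow_card, sub_self]
          have hle : (X ^ p - X : k[X]).roots.toFinset.card ≤ (Finset.univ.image f).card := by
            rw [Finset.card_image_of_injective _ f.injective, Finset.card_univ, ZMod.card]
            exact (Multiset.toFinset_card_le _).trans ((card_roots' _).trans
              (FiniteField.X_pow_card_sub_X_natDegree_eq k (Fact.out : p.Prime).one_lt).le)
          have hmem : d i ∈ (X ^ p - X : k[X]).roots.toFinset := by
            rw [Multiset.mem_toFinset, mem_roots hroot, IsRoot, eval_sub, eval_pow, eval_X]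
            exact h0 i
          rw [← Finset.eq_of_subset_of_card_le hsub hle] at hmem
          obtain ⟨z, -, hz⟩ := Finset.mem_image.1 hmem
          exact ⟨(z.val : ℤ), by rw [Int.cast_natCast, ← hz, ← map_natCast f, ZMod.natCast_zmod_val]⟩
        choose n hn using hn
        have hdvd := hind n (by rw [← hd]; simp [← hn, Int.cast_smul_eq_zsmul]) j
        have h1 : (n j : k) = 1 := by rw [hn]; simp [d, hcj]
        rw [(CharP.intCast_eq_zero_iff k p _).2 hdvd] at h1
        exact zero_ne_one h1
  rw [Fintype.linearIndependent_iff]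
  exact fun c hc => key Finset.univ c (fun i hi => absurd (Finset.mem_univ i) hi) hc

lemma exists_ne_zero_root [IsAlgClosed k] (r : ℕ) (a : ℕ → k) (ha : a 0 ≠ 0) :
    ∃ (x : ℕ → k), x r ≠ 0 ∧ x 0 = a 0 * x r ^ p ∧ ∀ i, x (i + 1) = x i ^ p + a (i + 1) * x r ^ p := by
  let P : ℕ → k[X] := fun i => i.rec (C (a 0) * X ^ p) fun i Pi => Pi ^ p + C (a (i + 1)) * X ^ p
  have hp : p.Prime := Fact.out
  have hdeg : ∀ i, (P i).natDegree = p ^ (i + 1) := by
    intro i
    induction i with
    | zero => simp [P, natDegree_C_mul_X_pow _ _ ha]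
    | succ i ih =>
      show (P i ^ p + C (a (i + 1)) * X ^ p).natDegree = _
      have h1 : (P i ^ p).natDegree = p ^ (i + 2) := by
        rw [natDegree_pow, ih, ← pow_succ']
      rw [natDegree_add_eq_left_of_natDegree_lt, h1]
      rw [h1]
      refine (natDegree_C_mul_X_pow_le _ _).trans_lt ?_
      calc p = p ^ 1 := (pow_one p).symm
        _ < p ^ (i + 2) := Nat.pow_lt_pow_right hp.one_lt (by omega)
  have hderiv : ∀ i, derivative (P i) = 0 := by
    intro i
    cases i <;> simp [P, derivative_pow, CharP.cast_eq_zero]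
  have h0 : ∀ i, (P i).eval 0 = 0 := by
    intro i
    induction i with
    | zero => simp [P, hp.ne_zero]
    | succ i ih =>
      show (P i ^ p + C (a (i + 1)) * X ^ p).eval 0 = 0
      simp [ih, hp.ne_zero]
  obtain ⟨Q, hQ⟩ : X ∣ P r - X := X_dvd_iff.2 (by rw [coeff_zero_eq_eval_zero]; simp [h0])
  have hQ0 : Q.eval 0 = -1 := by
    have := congrArg (fun q => (derivative q).eval 0) hQ
    simpa [hderiv] using this.symm
  have hQd : 0 < Q.natDegree := by
    have h2 : (P r - X).natDegree = p ^ (r + 1) := by
      rw [natDegree_sub_eq_left_of_natDegree_lt, hdeg]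
      rw [natDegree_X, hdeg]
      exact Nat.one_lt_pow (by omega) hp.one_lt
    have hne : Q ≠ 0 := fun h => by simp [h] at hQ0
    rw [hQ, natDegree_X_mul hne] at h2
    have : 1 < p ^ (r + 1) := Nat.one_lt_pow (by omega) hp.one_lt
    omega
  obtain ⟨t, ht⟩ := IsAlgClosed.exists_root Q (fun h => by
    rw [natDegree_eq_of_degree_eq_some h] at hQd; exact lt_irrefl _ hQd)
  have hr : (P r).eval t = t := by
    have := congrArg (fun q => q.eval t) hQ
    simp only [eval_sub, eval_X, eval_mul, show Q.eval t = 0 from ht, mul_zero] at this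
    exact sub_eq_zero.1 this
  refine ⟨fun i => (P i).eval t, ?_, ?_, fun i => ?_⟩
  · simp only [hr]
    rintro rfl
    rw [IsRoot] at ht
    simp [ht] at hQ0
  · simp [P, hr]
  · show (P i ^ p + C (a (i + 1)) * X ^ p).eval t = _
    simp [hr]

lemma sum_iterate (F : V →+ V) (hF : ∀ (a : k) (v : V), F (a • v) = a ^ p • F v) (m : ℕ) {ι : Type u}
    (s : Finset ι) (c : ι → k) (g : ι → V) (hg : ∀ i, (⇑F)^[m] (g i) = g i) :
    (⇑F)^[m] (∑ i ∈ s, c i • g i) = ∑ i ∈ s, c i ^ p ^ m • g i := by
  classical
  induction s using Finset.induction with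
  | empty => simp [iterate_map_zero]
  | @insert j t hj ih => rw [Finset.sum_insert hj, iterate_map_add, map_iterate_smul F hF, hg, ih, Finset.sum_insert hj]

/-- Over an algebraically closed field: let k be an algebraically closed field of characteristic p > 0,
V a finite-dimensional k-vector space and F : V -> V a p-linear endomorphism (additive with F(a·v) =
a^p·F(v)). Let V^F be the set of vectors fixed by F (an F_p-subspace), V_0 the k-span of V^F and V_n
the k-span of the vectors killed by some iterate of F (these already form an F-stable subspace on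
which F is nilpotent). Then V = V_0 ⊕ V_n, and V^F ⊗ k -> V_0 is bijective in the sense that any
finitely many F-fixed vectors linearly independent over Z/p (every vanishing integer combination has
all coefficients divisible by p) are linearly independent over k. (The published statement asserts
this decomposition, with V^F ⊗ k ≅ V_0, for every PERFECT field k; that is false when k is not
separably closed — for k = Z/3, V = k and F = multiplication by 2 there are no nonzero fixed vectors
although F is bijective — and the decomposition is stated here over an algebraically closed field,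
the case in which it holds.) -/
theorem result (p : ℕ) [Fact p.Prime] (k : Type u) [Field k]
    [IsAlgClosed k] [CharP k p] (V : Type u) [AddCommGroup V] [Module k V] [FiniteDimensional k V]
    (F : V →+ V) (hF : ∀ (a : k) (v : V), F (a • v) = a ^ p • F v) :
    IsCompl (Submodule.span k {v : V | F v = v})
        (Submodule.span k {v : V | ∃ m : ℕ, (⇑F)^[m] v = 0}) ∧
      ∀ (s : Finset V), (∀ v ∈ s, F v = v) →
        (∀ c : s → ℤ, (∑ v : s, c v • (v : V)) = 0 → ∀ v : s, (p : ℤ) ∣ c v) →
          LinearIndependent k (fun v : s => (v : V)) := by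
  classical
  have hp : p.Prime := Fact.out
  refine ⟨?_, fun s hs hind => linearIndependent_of_int F hF s hs hind⟩
  set W0 := Submodule.span k {v : V | F v = v} with hW0
  rw [span_nil_eq F hF]
  have hroot : ∀ a : k, ∃ b : k, b ^ p = a := fun a => IsAlgClosed.exists_pow_nat_eq a hp.pos
  have hAS : ∀ c : k, ∃ t : k, t ^ p - t = c := by
    intro c
    have hdeg : (X ^ p - X - C c : k[X]).natDegree = p := by
      rw [natDegree_sub_C, FiniteField.X_pow_card_sub_X_natDegree_eq k hp.one_lt]
    obtain ⟨t, ht⟩ := IsAlgClosed.exists_root (X ^ p - X - C c : k[X]) (fun h => by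
      rw [natDegree_eq_of_degree_eq_some h] at hdeg; exact hp.ne_zero hdeg.symm)
    exact ⟨t, sub_eq_zero.1 (by simpa [IsRoot] using ht)⟩
  have hWsolve : ∀ w ∈ W0, (∃ t ∈ W0, F t - t = w) ∧ ∃ t ∈ W0, F t = w := by
    intro w hw
    obtain ⟨n, c, g, rfl⟩ := Submodule.mem_span_set'.1 hw
    choose t ht using fun i => hAS (c i)
    choose b hb using fun i => hroot (c i)
    refine ⟨⟨∑ i, t i • (g i : V), Submodule.sum_mem _ fun i _ => Submodule.smul_mem _ _ (Submodule.subset_span (g i).2), ?_⟩,
      ⟨∑ i, b i • (g i : V), Submodule.sum_mem _ fun i _ => Submodule.smul_mem _ _ (Submodule.subset_span (g i).2), ?_⟩⟩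
    · simp [map_sum, hF, fun i => (g i).2.out, ← Finset.sum_sub_distrib, ← sub_smul, ht]
    · simp [map_sum, hF, fun i => (g i).2.out, hb]
  have hNsolve : ∀ x ∈ nilSub F hF, ∃ t ∈ nilSub F hF, F t - t = x := by
    intro x hx
    obtain ⟨m, hm⟩ := hx
    refine ⟨-∑ i ∈ Finset.range m, (⇑F)^[i] x, Submodule.neg_mem _ (Submodule.sum_mem _ fun i _ => ?_), ?_⟩
    · exact ⟨m, by rw [← Function.iterate_add_apply, add_comm, Function.iterate_add_apply, hm, iterate_map_zero]⟩
    · have h1 : ∑ i ∈ Finset.range m, ((⇑F)^[i + 1] x - (⇑F)^[i] x) = -x := by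
        rw [Finset.sum_range_sub (fun i => (⇑F)^[i] x), hm]
        simp
      simp only [Function.iterate_succ_apply', Finset.sum_sub_distrib] at h1
      rw [map_neg, map_sum, neg_sub_neg, ← neg_sub, h1, neg_neg]
  set U := W0 ⊔ nilSub F hF with hU
  have hfix : ∀ y, F y - y ∈ U → y ∈ U := by
    intro y hy
    obtain ⟨w, hw, n, hn, hwn⟩ := Submodule.mem_sup.1 hy
    obtain ⟨tw, htw, hFw⟩ := (hWsolve w hw).1
    obtain ⟨tn, htn, hFn⟩ := hNsolve n hn
    have : y - tw - tn ∈ W0 := Submodule.subset_span (show F (y - tw - tn) = y - tw - tn by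
      rw [map_sub, map_sub, eq_add_of_sub_eq hFw, eq_add_of_sub_eq hFn, eq_add_of_sub_eq hwn.symm]; abel)
    have h2 := add_mem (Submodule.mem_sup_left (T := nilSub F hF) (add_mem this htw)) (Submodule.mem_sup_right (S := W0) htn)
    rwa [sub_right_comm, sub_add_cancel, sub_add_cancel] at h2
  have hinj : ∀ y, F y ∈ U → y ∈ U := by
    intro y hy
    obtain ⟨w, hw, n, hn, hwn⟩ := Submodule.mem_sup.1 hy
    obtain ⟨tw, htw, hFw⟩ := (hWsolve w hw).2
    have : y - tw ∈ nilSub F hF := by
      obtain ⟨m, hm⟩ := hn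
      exact ⟨m + 1, by rw [Function.iterate_succ_apply, map_sub, hFw, ← hwn, add_sub_cancel_left, hm]⟩
    have h2 := add_mem (Submodule.mem_sup_left (T := nilSub F hF) htw) (Submodule.mem_sup_right (S := W0) this)
    rwa [add_sub_cancel] at h2
  have hFU : ∀ y ∈ U, F y ∈ U := by
    intro y hy
    obtain ⟨w, hw, n, ⟨m, hm⟩, rfl⟩ := Submodule.mem_sup.1 hy
    rw [map_add]
    refine add_mem (Submodule.mem_sup_left ?_) (Submodule.mem_sup_right
      ⟨m, by rw [← Function.iterate_succ_apply, Function.iterate_succ_apply', hm, map_zero]⟩)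
    clear hy
    induction hw using Submodule.span_induction with
    | mem x hx => rw [hx.out]; exact Submodule.subset_span hx
    | zero => rw [map_zero]; exact zero_mem _
    | add _ _ _ _ h h' => rw [map_add]; exact add_mem h h'
    | smul c x _ h => rw [hF]; exact Submodule.smul_mem _ _ h
  have htop : U = ⊤ := by
    rw [eq_top_iff]
    intro v _
    by_contra hv
    let S : ℕ → Submodule k V := fun r => Submodule.span k ((fun i => (⇑F)^[i] v) '' Set.Iio r) ⊔ U
    have hmono : Monotone S := fun a b h => sup_le_sup_right (Submodule.span_mono (Set.image_mono (Set.Iio_subset_Iio h))) _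
    obtain ⟨N, hN⟩ := monotone_stabilizes_iff_noetherian.2 (inferInstance : IsNoetherian k V) ⟨S, hmono⟩
    have hex : ∃ r, (⇑F)^[r] v ∈ S r := ⟨N, by
      rw [show S N = S (N + 1) from hN (N + 1) (Nat.le_succ N)]
      exact Submodule.mem_sup_left (Submodule.subset_span ⟨N, Nat.lt_succ_self N, rfl⟩)⟩
    have hmem := Nat.find_spec hex
    obtain ⟨r, hr⟩ : ∃ r, Nat.find hex = r + 1 := ⟨Nat.find hex - 1, by
      have : Nat.find hex ≠ 0 := fun h => hv (by simpa [h, S] using hmem)
      omega⟩
    rw [hr] at hmem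
    have hrnot : (⇑F)^[r] v ∉ S r := Nat.find_min hex (by omega)
    obtain ⟨s, hs, u, hu, hsu⟩ := Submodule.mem_sup.1 hmem
    rw [show (fun i => (⇑F)^[i] v) '' Set.Iio (r + 1) = Set.range (fun i : Fin (r + 1) => (⇑F)^[(i : ℕ)] v) by
      ext x; constructor
      · rintro ⟨i, hi, rfl⟩; exact ⟨⟨i, hi⟩, rfl⟩
      · rintro ⟨i, rfl⟩; exact ⟨i, i.2, rfl⟩, Submodule.mem_span_range_iff_exists_fun] at hs
    obtain ⟨a', ha'⟩ := hs
    let a : ℕ → k := fun i => if h : i < r + 1 then a' ⟨i, h⟩ else 0
    have hrel : (⇑F)^[r + 1] v - ∑ i ∈ Finset.range (r + 1), a i • (⇑F)^[i] v ∈ U := by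
      rw [Finset.sum_range, ← hsu, ← ha']
      simp only [a, dif_pos (Fin.is_lt _), Fin.eta, add_sub_cancel_left]
      exact hu
    have hsumS : ∀ (b : ℕ → k), ∑ i ∈ Finset.range r, b i • (⇑F)^[i] v ∈ S r := fun b =>
      Submodule.mem_sup_left (Submodule.sum_mem _ fun i hi => Submodule.smul_mem _ _
        (Submodule.subset_span ⟨i, Finset.mem_range.1 hi, rfl⟩))
    have ha0 : a 0 ≠ 0 := by
      intro h0
      choose b hb using fun i => hroot (a (i + 1))
      refine hrnot ?_
      have h3 : F ((⇑F)^[r] v - ∑ i ∈ Finset.range r, b i • (⇑F)^[i] v) ∈ U := by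
        rw [Finset.sum_range_succ', h0, zero_smul, add_zero] at hrel
        simpa [map_sum, hF, hb, ← Function.iterate_succ_apply' (f := ⇑F)] using hrel
      have h4 := add_mem (Submodule.mem_sup_right (hinj _ h3) : _ ∈ S r) (hsumS b)
      rwa [sub_add_cancel] at h4
    obtain ⟨x, hxr, hx0, hx⟩ := exists_ne_zero_root r a ha0
    let y := ∑ i ∈ Finset.range (r + 1), x i • (⇑F)^[i] v
    have hy : F y - y ∈ U := by
      have : F y - y = x r ^ p • ((⇑F)^[r + 1] v - ∑ i ∈ Finset.range (r + 1), a i • (⇑F)^[i] v) := by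
        simp only [y, map_sum, hF, ← Function.iterate_succ_apply' (f := ⇑F)]
        rw [smul_sub, Finset.smul_sum, Finset.sum_range_succ, Finset.sum_range_succ' (fun i => x i • (⇑F)^[i] v),
          Finset.sum_range_succ' (fun i => x r ^ p • a i • (⇑F)^[i] v)]
        simp only [hx, add_smul, smul_smul, Finset.sum_add_distrib, hx0, mul_comm (x r ^ p)]
        abel
      rw [this]
      exact Submodule.smul_mem _ _ hrel
    refine hrnot ?_
    have h5 := sub_mem (Submodule.mem_sup_right (hfix y hy) : y ∈ S r) (hsumS x)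
    simp only [y, Finset.sum_range_succ, add_sub_cancel_left] at h5
    have := Submodule.smul_mem _ (x r)⁻¹ h5
    rwa [inv_smul_smul₀ hxr] at this
  refine ⟨?_, codisjoint_iff.2 htop⟩
  rw [Submodule.disjoint_def]
  rintro z hz ⟨m, hm⟩
  obtain ⟨b, hbsub, hbspan, hbind⟩ := exists_linearIndependent k {v : V | F v = v}
  rw [hW0, ← hbspan, Finsupp.mem_span_iff_linearCombination] at hz
  obtain ⟨c, rfl⟩ := hz
  have hiter : ∀ w : b, (⇑F)^[m] (w : V) = w := fun w => Function.iterate_fixed (hbsub w.2) m
  rw [Finsupp.linearCombination_apply, Finsupp.sum] at hm ⊢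
  have h6 : ∑ w ∈ c.support, (c w) ^ p ^ m • (w : V) = 0 := by
    rw [← hm]
    exact (sum_iterate F hF m c.support (fun w => c w) (fun w => (w : V)) hiter).symm
  refine Finset.sum_eq_zero fun w hw => ?_
  have := linearIndependent_iff'.1 hbind c.support _ h6 w hw
  rw [pow_eq_zero_iff (pow_ne_zero _ hp.ne_zero)] at this
  rw [this, zero_smul]

end Groth.Agent.S8604
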