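import Groth.Statements.S8625
import Mathlib
-- import your own Groth.Agent.* helpers here

set_option autoImplicit false
universe u
open SGA4h

namespace Groth.Agent.S8625

/-- Let G be a group with an endomorphism F, and assume the Lang map g ↦ F(g)g⁻¹ is surjective (for
instance the geometric points of a connected algebraic group over F_q with its Frobenius, where the
surjectivity is the classical result of Lang; the other Lang map g ↦ g⁻¹F(g) is then surjective too,
by g ↦ g⁻¹). Let G^F be the subgroup of fixed points of F. (i) If F(g)g⁻¹ is fixed by F then so is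
g⁻¹F(g). (ii), (iii) There is a bijection of the set of conjugacy classes of G^F with itself
sending, for every g with F(g)g⁻¹ ∈ G^F, the class of F(g)g⁻¹ to the class of g⁻¹F(g) (in particular
the latter class depends only on the former). -/
theorem result {G : Type u} [Group G] (F : G →* G)
    (hL : Function.Surjective fun g : G => F g * g⁻¹) :
    (∀ g : G, F (F g * g⁻¹) = F g * g⁻¹ → F (g⁻¹ * F g) = g⁻¹ * F g) ∧
    ∃ φ : ConjClasses ↥(F.eqLocus (MonoidHom.id G)) → ConjClasses ↥(F.eqLocus (MonoidHom.id G)),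
      Function.Bijective φ ∧
      ∀ (g : G) (h : F (F g * g⁻¹) = F g * g⁻¹) (h' : F (g⁻¹ * F g) = g⁻¹ * F g),
        φ (ConjClasses.mk (⟨F g * g⁻¹, h⟩ : ↥(F.eqLocus (MonoidHom.id G)))) =
          ConjClasses.mk (⟨g⁻¹ * F g, h'⟩ : ↥(F.eqLocus (MonoidHom.id G))) := by
  classical
  have fwd : ∀ g : G, F (F g * g⁻¹) = F g * g⁻¹ → F (g⁻¹ * F g) = g⁻¹ * F g := by
    intro g h
    rw [map_mul, map_inv] at h
    rw [map_mul, map_inv, show F (F g) = F g * g⁻¹ * F g from mul_inv_eq_iff_eq_mul.mp h]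
    group
  have bwd : ∀ g : G, F (g⁻¹ * F g) = g⁻¹ * F g → F (F g * g⁻¹) = F g * g⁻¹ := by
    intro g h
    rw [map_mul, map_inv] at h
    rw [map_mul, map_inv, show F (F g) = F g * (g⁻¹ * F g) from inv_mul_eq_iff_eq_mul.mp h]
    group
  refine ⟨fwd, ?_⟩
  let H := F.eqLocus (MonoidHom.id G)
  choose s hs using hL
  have hsf : ∀ u : H, F (F (s u) * (s u)⁻¹) = F (s u) * (s u)⁻¹ := fun u => by
    have := hs (u : G); simp only at this; rw [this]; exact u.2
  let φ₀ : H → ConjClasses H := fun u => ConjClasses.mk ⟨(s u)⁻¹ * F (s u), fwd _ (hsf u)⟩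
  have hwd : ∀ (g h : G) (hg : F (g⁻¹ * F g) = g⁻¹ * F g) (hh : F (h⁻¹ * F h) = h⁻¹ * F h) (x : G), F x = x →
      F h * h⁻¹ = x * (F g * g⁻¹) * x⁻¹ →
      ConjClasses.mk (⟨g⁻¹ * F g, hg⟩ : H) = ConjClasses.mk ⟨h⁻¹ * F h, hh⟩ := by
    intro g h hg hh x hx e
    have eh : F h = x * (F g * g⁻¹) * x⁻¹ * h := mul_inv_eq_iff_eq_mul.mp e
    have hy : F ((x * g)⁻¹ * h) = (x * g)⁻¹ * h := by
      rw [map_mul, map_inv, map_mul, hx, eh]; group
    rw [ConjClasses.mk_eq_mk_iff_isConj, isConj_iff]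
    refine ⟨(⟨(x * g)⁻¹ * h, hy⟩ : H)⁻¹, Subtype.ext ?_⟩
    simp only [Subgroup.coe_mul, Subgroup.coe_inv]
    rw [eh]; group
  let φ : ConjClasses H → ConjClasses H := Quotient.lift φ₀ (fun u v huv => by
    obtain ⟨c, hc⟩ := isConj_iff.mp huv
    refine hwd _ _ _ _ (c : G) c.2 ?_
    have := congrArg Subtype.val hc
    simp only [Subgroup.coe_mul, Subgroup.coe_inv] at this
    have e1 := hs (u : G); have e2 := hs (v : G); simp only at e1 e2
    rw [e1, e2, this])
  have hval : ∀ (g : G) (h : F (F g * g⁻¹) = F g * g⁻¹) (h' : F (g⁻¹ * F g) = g⁻¹ * F g),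
      φ (ConjClasses.mk (⟨F g * g⁻¹, h⟩ : H)) = ConjClasses.mk (⟨g⁻¹ * F g, h'⟩ : H) := by
    intro g h h'
    refine hwd _ _ _ _ 1 (map_one F) ?_
    have := hs (F g * g⁻¹); simp only at this
    rw [one_mul, inv_one, mul_one]; exact this.symm
  refine ⟨φ, ⟨?_, ?_⟩, hval⟩
  · intro c d hcd
    obtain ⟨u, rfl⟩ := ConjClasses.mk_surjective c
    obtain ⟨v, rfl⟩ := ConjClasses.mk_surjective d
    change φ₀ u = φ₀ v at hcd
    rw [ConjClasses.mk_eq_mk_iff_isConj, isConj_iff] at hcd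
    obtain ⟨y, hy⟩ := hcd
    have hy' := congrArg Subtype.val hy
    simp only [Subgroup.coe_mul, Subgroup.coe_inv] at hy'
    have hyF : F (y : G) = y := y.2
    have e1 := hs (u : G); have e2 := hs (v : G); simp only at e1 e2
    have eh : F (s v) = s v * ((y : G) * ((s u)⁻¹ * F (s u)) * (y : G)⁻¹) := inv_mul_eq_iff_eq_mul.mp hy'.symm
    have hx : F (s v * y * (s u)⁻¹) = s v * y * (s u)⁻¹ := by
      rw [map_mul, map_mul, map_inv, hyF, eh]; group
    rw [ConjClasses.mk_eq_mk_iff_isConj, isConj_iff]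
    refine ⟨⟨s v * y * (s u)⁻¹, hx⟩, Subtype.ext ?_⟩
    simp only [Subgroup.coe_mul, Subgroup.coe_inv]
    refine Eq.trans ?_ e2
    refine (congrArg (fun t => (s v * y * (s u)⁻¹ : G) * t * (s v * y * (s u)⁻¹ : G)⁻¹) e1.symm).trans ?_
    rw [eh]; group
  · intro c
    obtain ⟨u, rfl⟩ := ConjClasses.mk_surjective c
    have e : ((s ((u : G)⁻¹))⁻¹)⁻¹ * F (s ((u : G)⁻¹))⁻¹ = u := by
      have := hs ((u : G)⁻¹); simp only at this
      rw [map_inv, inv_inv]
      refine Eq.trans ?_ ((congrArg Inv.inv this).trans (inv_inv _))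
      group
    have h' : F (((s ((u : G)⁻¹))⁻¹)⁻¹ * F (s ((u : G)⁻¹))⁻¹) = ((s ((u : G)⁻¹))⁻¹)⁻¹ * F (s ((u : G)⁻¹))⁻¹ := by
      rw [e]; exact u.2
    exact ⟨_, (hval _ (bwd _ h') h').trans (congrArg ConjClasses.mk (Subtype.ext e))⟩

end Groth.Agent.S8625
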