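import Groth.Statements.S8666
import Mathlib.RingTheory.PicardGroup
import Mathlib.RingTheory.Ideal.Operations
import Mathlib.Order.Preorder.Finite
import Mathlib.Data.Fintype.EquivFin

set_option autoImplicit false
universe u
open CAlg

namespace Groth.Agent.S8666

theorem exists_func (A : Type u) [CommRing A] (M : Type u) [AddCommGroup M] [Module A M] [Module.Invertible A M]
    (S : Finset (Ideal A)) : (∀ P ∈ S, P.IsPrime) → ∃ s : M, ∀ P ∈ S, ∃ f : M →ₗ[A] A, f s ∉ P := by
  classical
  induction S using Finset.strongInduction with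
  | _ S ih =>
    intro hS
    rcases S.eq_empty_or_nonempty with rfl | hne
    · exact ⟨0, fun P hP => absurd hP (Finset.notMem_empty P)⟩
    obtain ⟨P, hP, hPmin⟩ := S.exists_minimal hne
    haveI := hS P hP
    obtain ⟨s, hs⟩ := ih (S.erase P) (Finset.erase_ssubset hP) fun Q hQ => hS Q (Finset.mem_of_mem_erase hQ)
    by_cases hsP : ∃ f : M →ₗ[A] A, f s ∉ P
    · refine ⟨s, fun Q hQ => ?_⟩
      rcases eq_or_ne Q P with rfl | hne
      · exact hsP
      · exact hs Q (Finset.mem_erase.2 ⟨hne, hQ⟩)
    push Not at hsP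
    obtain ⟨f, t, hft⟩ : ∃ (f : M →ₗ[A] A) (t : M), f t ∉ P := by
      by_contra hc
      push Not at hc
      have hall : ∀ z, contractLeft A M z ∈ P := by
        intro z
        induction z using TensorProduct.induction_on with
        | zero => simp
        | tmul f t => simpa using hc f t
        | add x y hx hy => rw [map_add]; exact add_mem hx hy
      obtain ⟨z, hz⟩ := (Module.Invertible.bijective (R := A) (M := M)).2 1
      exact Ideal.IsPrime.ne_top inferInstance ((Ideal.eq_top_iff_one P).2 (hz ▸ hall z))
    have hQ : ∀ Q ∈ S.erase P, ∃ a ∈ Q, a ∉ P := by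
      intro Q hQ
      obtain ⟨hne, hQS⟩ := Finset.mem_erase.1 hQ
      by_contra hc
      push Not at hc
      exact hne (le_antisymm hc (hPmin hQS hc))
    choose a ha haP using hQ
    let c : A := ∏ Q ∈ (S.erase P).attach, a Q.1 Q.2
    have hcP : c ∉ P := fun h => by
      obtain ⟨Q, -, hQ⟩ := (Ideal.IsPrime.prod_mem_iff).1 h
      exact haP Q.1 Q.2 hQ
    refine ⟨s + c • t, fun Q hQ => ?_⟩
    rcases eq_or_ne Q P with rfl | hne
    · refine ⟨f, fun h => ?_⟩
      rw [map_add, map_smul, smul_eq_mul, Ideal.add_mem_iff_right _ (hsP f)] at h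
      rcases Ideal.IsPrime.mem_or_mem inferInstance h with h | h
      · exact hcP h
      · exact hft h
    · have hQ' : Q ∈ S.erase P := Finset.mem_erase.2 ⟨hne, hQ⟩
      obtain ⟨g, hg⟩ := hs Q hQ'
      have hcQ : c ∈ Q := Ideal.mem_of_dvd _
        (Finset.dvd_prod_of_mem (fun R : {x // x ∈ S.erase P} => a R.1 R.2) (Finset.mem_attach _ ⟨Q, hQ'⟩)) (ha Q hQ')
      refine ⟨g, fun h => hg ?_⟩
      rwa [map_add, map_smul, smul_eq_mul, Ideal.add_mem_iff_left _ (Q.mul_mem_right _ hcQ)] at h

theorem span_top (A : Type u) [CommRing A] (M : Type u) [AddCommGroup M] [Module A M] [Module.Invertible A M]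
    (P : Ideal A) [P.IsPrime] (s : M) (f : M →ₗ[A] A) (hf : f s ∉ P) :
    Submodule.span (Localization.AtPrime P) {LocalizedModule.mkLinearMap P.primeCompl M s} = ⊤ := by
  let F := (IsLocalizedModule.map P.primeCompl (LocalizedModule.mkLinearMap P.primeCompl M)
    (Algebra.linearMap A (Localization.AtPrime P)) f).extendScalarsOfIsLocalization P.primeCompl (Localization.AtPrime P)
  have hFs : F (LocalizedModule.mkLinearMap P.primeCompl M s) = algebraMap A _ (f s) := by
    simpa [F] using IsLocalizedModule.map_apply P.primeCompl (LocalizedModule.mkLinearMap P.primeCompl M)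
      (Algebra.linearMap A (Localization.AtPrime P)) f s
  obtain ⟨v, hv⟩ := (IsLocalization.map_units (Localization.AtPrime P) (⟨f s, hf⟩ : P.primeCompl)).exists_left_inv
  have hsurj : Function.Surjective F := fun r =>
    ⟨(r * v) • LocalizedModule.mkLinearMap P.primeCompl M s, by rw [map_smul, hFs, smul_eq_mul, mul_assoc, hv, mul_one]⟩
  have hinj := (Module.Invertible.bijective_of_surjective hsurj).1
  refine eq_top_iff.2 fun x _ => Submodule.mem_span_singleton.2 ⟨F x * v, hinj ?_⟩
  rw [map_smul, hFs, smul_eq_mul, mul_assoc, hv, mul_one]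


/-- Let A be a Noetherian ring, M an invertible A-module and p_1, …, p_k finitely many primes of A
(points of Spec A). Then there is a single element s ∈ M whose image generates M_{p_i} as an
A_{p_i}-module for every i, i.e. s is a basis of the stalk of M at each of the given points. -/
theorem result (A : Type u) [CommRing A] [IsNoetherianRing A]
    (M : Type u) [AddCommGroup M] [Module A M] [Module.Invertible A M] (ι : Type) [Finite ι] (p : ι → PrimeSpectrum A) :
    ∃ s : M, ∀ i : ι, Submodule.span (Localization.AtPrime (p i).asIdeal)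
      {LocalizedModule.mkLinearMap (p i).asIdeal.primeCompl M s} = ⊤ := by
  classical
  have := Fintype.ofFinite ι
  obtain ⟨s, hs⟩ := exists_func A M ((Finset.univ.image p).image PrimeSpectrum.asIdeal) (by
    intro P hP
    simp only [Finset.mem_image] at hP
    obtain ⟨q, -, rfl⟩ := hP
    exact q.2)
  refine ⟨s, fun i => ?_⟩
  obtain ⟨f, hf⟩ := hs (p i).asIdeal (by
    simp only [Finset.mem_image, Finset.mem_univ, true_and]
    exact ⟨p i, ⟨i, rfl⟩, rfl⟩)
  exact span_top A M (p i).asIdeal s f hf

end Groth.Agent.S8666
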