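import Groth.Statements.S8678
import Groth.Agent.LamG.Basic

set_option autoImplicit false
universe u
open Finset
open LambdaRing

namespace Groth.Agent.S8678

open Groth.Agent.LamG
/-- As the identity it proves in the pre-λ-ring K(Y') of the exceptional divisor: let K be a pre-λ-ring
(λ^0 = 1, λ^1 = id, additive formula) with λ^k(1) = 0 for all k ≥ 2, let d ≥ 2, and let F, L, N' ∈ K
satisfy λ^j(L) = 0 for j ≥ 2 (L is the class of an invertible module), λ^i(N') = 0 for i ≥ d − 1 (N'
is the class of a bundle of rank d − 2) and F + L = N' + 2 (for the blowing up of a regular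
immersion of codimension d: on the exceptional divisor the pulled-back conormal class is F + L, and
N = N' + 2). Then 1 − L divides λ_{−1}(F) = Σ_{i<d} (−1)^i λ^i(F). (The published proof uses only
additivity of λ_t and λ_t(1) = 1 + t, the hypotheses taken here.) -/
theorem result (K : Type u) [CommRing K] [LambdaRing.LambdaOps K]
    (h1 : ∀ k : ℕ, 2 ≤ k → LambdaRing.LambdaOps.lam k (1 : K) = 0) (d : ℕ) (hd : 2 ≤ d) (F L N' : K)
    (hL : ∀ j : ℕ, 2 ≤ j → LambdaRing.LambdaOps.lam j L = 0) (hN' : ∀ i : ℕ, d - 1 ≤ i → LambdaRing.LambdaOps.lam i N' = 0)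
    (hrel : F + L = N' + 2) :
    (1 - L) ∣ ∑ i ∈ range d, (-1 : K) ^ i * LambdaRing.LambdaOps.lam i F := by
  have hF : F = (N' + 1) + (1 - L) := by linear_combination hrel
  have he : ∀ k, (1 - L) ∣ LambdaOps.lam (k + 1) (1 - L) := by
    intro k
    induction k with
    | zero => rw [LambdaOps.lam_one]
    | succ k ih =>
      have h := LambdaOps.lam_add (k + 2) (1 - L) L
      rw [sub_add_cancel, h1 (k + 2) (by omega), sum_range_succ, sum_range_succ,
        Finset.sum_eq_zero (fun i hi => by rw [hL _ (by have := mem_range.1 hi; omega), mul_zero]),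
        Nat.sub_self, LambdaOps.lam_zero, show k + 2 - (k + 1) = 1 by omega, LambdaOps.lam_one] at h
      obtain ⟨c, hc⟩ := ih
      exact ⟨-(c * L), by linear_combination (-L) * hc - h⟩
  have hdiv : ∀ i, (1 - L) ∣ LambdaOps.lam i F - LambdaOps.lam i (N' + 1) := by
    intro i
    rw [hF, LambdaOps.lam_add, sum_range_succ, Nat.sub_self, LambdaOps.lam_zero, mul_one, add_sub_cancel_right]
    refine Finset.dvd_sum fun j hj => dvd_mul_of_dvd_right ?_ _
    obtain ⟨l, hl⟩ := Nat.exists_eq_add_of_le' (Nat.sub_pos_of_lt (mem_range.1 hj))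
    rw [hl]; exact he l
  obtain ⟨e, rfl⟩ := Nat.exists_eq_add_of_le' hd
  have hsum : (1 - L) ∣ ∑ i ∈ range (e + 1 + 1),
      (-1 : K) ^ i * (LambdaOps.lam i F - LambdaOps.lam i (N' + 1)) :=
    Finset.dvd_sum fun i _ => dvd_mul_of_dvd_right (hdiv i) _
  simp only [mul_sub, sum_sub_distrib, alt_sum_lam_add_one h1, hN' (e + 1) (by omega), mul_zero, sub_zero] at hsum
  exact hsum

end Groth.Agent.S8678
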