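import Groth.Statements.S8691
import Groth.Agent.LamG.Linear

set_option autoImplicit false
universe u
open Finset
open LambdaRing

namespace Groth.Agent.S8691

open Groth.Agent.LamG
/-- Let K be a λ-ring in the strict sense, d a natural number and N ∈ K with λ^i(N) = 0 for every i > d;
put λ_{−1}(N) = Σ_{i=0}^{d} (−1)^i λ^i(N). Then for every p ≥ 1 and every x ∈ K the element λ^p(x ·
λ_{−1}(N)) is divisible by λ_{−1}(N). (The published statement is for the λ-ring generated over the
integers by N and x subject to λ^i(N) = 0 for i > d, a polynomial ring; the divisibility passes to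
any λ-ring along the λ-homomorphism sending the generators to N and x, which is the substituted form
stated here.) The hypotheses hP and hQ, existence of the universal polynomials, are true statements
carried so that the identities of K can be used at every index. -/
theorem result (K : Type u) [CommRing K] [LambdaRing.LambdaOps K]
    (hK : LambdaRing.IsSpecial K)
    (hP : ∀ n : ℕ, ∃ P : MvPolynomial (Fin n ⊕ Fin n) ℤ, LambdaRing.IsMulPoly n P)
    (hQ : ∀ i j : ℕ, ∃ Q : MvPolynomial (Fin (i * j)) ℤ, LambdaRing.IsCompPoly i j Q)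
    (d : ℕ) (N : K) (hN : ∀ i : ℕ, d < i → LambdaRing.LambdaOps.lam i N = 0)
    (p : ℕ) (hp : 1 ≤ p) (x : K) :
    (∑ i ∈ range (d + 1), (-1 : K) ^ i * LambdaRing.LambdaOps.lam i N) ∣
      LambdaRing.LambdaOps.lam p (x * ∑ i ∈ range (d + 1), (-1 : K) ^ i * LambdaRing.LambdaOps.lam i N) := by
  classical
  cases d with
  | zero => simp [LambdaOps.lam_zero]
  | succ d =>
    have h1 := hK.lam_one_eq_zero
    set g := gamma (d + 1) (N - ((d + 1 : ℕ) : K)) with hg
    have hsum : ∑ i ∈ range (d + 1 + 1), (-1 : K) ^ i * LambdaOps.lam i N = (-1) ^ (d + 1) * g := by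
      rw [hg, gamma_sub_natCast_top h1 hN, ← mul_assoc, ← mul_pow, neg_one_mul, neg_neg, one_pow, one_mul]
    rw [hsum, ← mul_assoc x]
    generalize x * (-1 : K) ^ (d + 1) = x'
    have hu : IsUnit ((-1 : K) ^ (d + 1)) := (isUnit_one.neg).pow _
    rw [hu.mul_left_dvd]
    obtain ⟨P, hP'⟩ := hP p
    rw [hK.lam_mul p P hP' x' g, MvPolynomial.aeval_def, MvPolynomial.eval₂_eq]
    refine Finset.dvd_sum fun e he => dvd_mul_of_dvd_right ?_ _
    obtain ⟨-, b, hb⟩ := exists_mem_support_of_isMulPoly hp hP' (MvPolynomial.mem_support_iff.1 he)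
    refine dvd_trans ?_ (Finset.dvd_prod_of_mem _ hb)
    refine dvd_pow ?_ (Finsupp.mem_support_iff.1 hb)
    exact lam_top_dvd hK (fun j hj => gamma_sub_natCast_eq_zero h1 hN hj) b

end Groth.Agent.S8691
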