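import Groth.Statements.S8695
import Groth.Agent.LamG.Laws

set_option autoImplicit false
universe u v
open Finset nonZeroDivisors
open LambdaRing

namespace Groth.Agent.S8695

open Groth.Agent.LamG
/-- In the case where λ_{−1}(N) is a non-zero-divisor: let K be a binomial ring with its binomial
λ-structure, A a λ-ring in the strict sense which is an augmented K-λ-algebra with augmentation ε,
and Fil^n A the γ-filtration (the ideal generated by products of γ^{i}(z) with ε(z) = 0 of total
weight ≥ n; all of A for n = 0). Let d ≥ 1 and N ∈ A be of rank d, that is λ^k(N) = 0 for all k > d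
and ε(N) = d; put λ_{−1}(N) = Σ_{i ≤ d} (−1)^i λ^i(N), and suppose λ_{−1}(N) is a non-zero-divisor.
Then for p ≥ 1 and x ∈ A, the unique y with y · λ_{−1}(N) = γ^p(x · λ_{−1}(N)) — when it exists —
lies in Fil^{p−d} A. (The published statement is γ^p(N, x) ∈ Fil^{p−d} A for the element γ^p(N, x)
defined by substitution from the universal λ-ring, where it is characterised by γ^p(N, x) ·
λ_{−1}(N) = γ^p(x · λ_{−1}(N)); this row covers the case in which that identity determines the
element, λ_{−1}(N) being a non-zero-divisor. The published statement also omits the condition ε(N) =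
d, which its proof uses when it maps the universal generator to N − d compatibly with the
augmentations; without it N = 0, d = 1, x = 1, p = 2 in the integers gives γ^2(1) = 1 outside Fil^1
= 0, so ε(N) = d is assumed here, as is the standing assumption d ≥ 1.) The hypotheses hP and hQ,
existence of the universal polynomials, are true statements carried so that the identities of A can
be used at every index. -/
theorem result
    (K : Type u) [CommRing K] [LambdaRing.LambdaOps K] [BinomialRing K] (hKb : LambdaRing.IsBinomial K)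
    (hK : LambdaRing.IsSpecial K)
    (A : Type v) [CommRing A] [LambdaRing.LambdaOps A] [Algebra K A] (hA : LambdaRing.IsSpecial A)
    (hP : ∀ n : ℕ, ∃ P : MvPolynomial (Fin n ⊕ Fin n) ℤ, LambdaRing.IsMulPoly n P)
    (hQ : ∀ i j : ℕ, ∃ Q : MvPolynomial (Fin (i * j)) ℤ, LambdaRing.IsCompPoly i j Q)
    (ε : A →ₐ[K] K) (hε : LambdaRing.IsAugLambdaAlg K A ε)
    (d : ℕ) (hd : 1 ≤ d) (N : A) (hN : ∀ k : ℕ, d < k → LambdaRing.LambdaOps.lam k N = 0) (hNε : ε N = (d : K))
    (hnzd : (∑ j ∈ range (d + 1), (-1 : A) ^ j * LambdaRing.LambdaOps.lam j N) ∈ A⁰)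
    (p : ℕ) (hp : 1 ≤ p) (x y : A)
    (hy : y * (∑ j ∈ range (d + 1), (-1 : A) ^ j * LambdaRing.LambdaOps.lam j N) = LambdaRing.gamma p (x * (∑ j ∈ range (d + 1), (-1 : A) ^ j * LambdaRing.LambdaOps.lam j N))) :
    y ∈ LambdaRing.gammaFil (ε : A →+* K) (p - d) := by
  obtain ⟨e, rfl⟩ := Nat.exists_eq_add_of_le' hd
  have h1 := hA.lam_one_eq_zero
  set F := gammaGFil (ε : A →+* K) with hF
  have hz : (ε : A →+* K) (N - ((e + 1 : ℕ) : A)) = 0 := by simp [hNε]
  set g := gamma (e + 1) (N - ((e + 1 : ℕ) : A)) with hg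
  have hsum : ∑ j ∈ range (e + 1 + 1), (-1 : A) ^ j * LambdaOps.lam j N = (-1) ^ (e + 1) * g := by
    rw [hg, gamma_sub_natCast_top h1 hN, ← mul_assoc, ← mul_pow, neg_one_mul, neg_neg, one_pow, one_mul]
  have htop : ∀ j, e + 1 < j → gamma j (N - ((e + 1 : ℕ) : A)) = 0 := fun j hj =>
    gamma_sub_natCast_eq_zero h1 hN hj
  have hgood : F.Good g := good_gamma hA (good_gammaFil _ hz) e
  have hgmem : ∀ j, gamma (j + 1) g ∈ Ideal.span {g} * F.G (j + 1 - (e + 1)) :=
    gamma_top_mem hA (good_gammaFil _ hz) htop
  set s : A := (-1) ^ (e + 1) with hs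
  set c : K := ε (s * x) with hc
  set x' : A := s * x - algebraMap K A c with hx'
  have hx'0 : (ε : A →+* K) x' = 0 := by simp [hx', hc]
  have hlin : ∀ i z, algebraMap K A (LambdaOps.lam i z) = LambdaOps.lam i (algebraMap K A z) := hε.isLambdaAlg
  have key : gamma p (algebraMap K A c * g + x' * g) ∈ Ideal.span {g} * F.G (p - (e + 1)) := by
    rw [gamma_add]
    refine Submodule.sum_mem _ fun i hi => ?_
    have hip := Nat.lt_succ_iff.1 (mem_range.1 hi)
    have hgood' : F.Good (x' * g) := good_mul hA (good_gammaFil _ hx'0) hgood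
    cases i with
    | zero =>
      rw [gamma_zero, one_mul, Nat.sub_zero]
      exact gamma_mul_mem hA (good_gammaFil _ hx'0) hgood hgmem p hp
    | succ i =>
      obtain ⟨w, hw, hwe⟩ := Ideal.mem_span_singleton_mul.1
        (gamma_scalar_mem hA hKb (algebraMap K A) hlin c hgood hgmem (i + 1) (Nat.succ_pos i))
      refine Ideal.mem_span_singleton_mul.2 ⟨w * gamma (p - (i + 1)) (x' * g),
        F.anti (by omega) (F.mul_mem hw (hgood' (p - (i + 1)))), ?_⟩
      rw [← mul_assoc, hwe]
  rw [hsum] at hy hnzd
  rw [show algebraMap K A c * g + x' * g = x * (s * g) by rw [hx']; ring] at key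
  obtain ⟨w, hw, hwe⟩ := Ideal.mem_span_singleton_mul.1 key
  have hsq : s * s = 1 := by rw [hs, ← mul_pow, neg_one_mul, neg_neg, one_pow]
  have : y = s * w := by
    apply sub_eq_zero.1
    apply mem_nonZeroDivisors_iff_right.1 hnzd
    linear_combination hy - hwe - g * w * hsq
  rw [this]
  exact Ideal.mul_mem_left _ _ hw

end Groth.Agent.S8695
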