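import Groth.Statements.S8696
import Groth.Agent.LamG.Linear
import Groth.Agent.LamG.Factorial

set_option autoImplicit false
universe u v
open Finset nonZeroDivisors
open LambdaRing

namespace Groth.Agent.S8696

open Groth.Agent.LamG
/-- In the case where λ_{−1}(N) is a non-zero-divisor: let K be a binomial ring with its binomial
λ-structure, R a λ-ring in the strict sense which is an augmented K-λ-algebra with augmentation ε
and γ-filtration Fil^n R, d ≥ 1, N ∈ R of rank d (λ^k(N) = 0 for all k > d and ε(N) = d), λ_{−1}(N)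
= Σ_{i ≤ d} (−1)^i λ^i(N) a non-zero-divisor, i a natural number and x ∈ Fil^i R. If y ∈ R satisfies
y · λ_{−1}(N) = γ^{d+i}(x · λ_{−1}(N)), then y − (−1)^{d+i−1} (d+i−1)! · x ∈ Fil^{i+1} R. (The
published statement is about the element γ^{d+i}(N, x) defined by substitution from the universal
λ-ring, characterised there by γ^{q}(N, x) · λ_{−1}(N) = γ^{q}(x · λ_{−1}(N)); this row covers the
case in which that identity determines the element. The published statement also omits ε(N) = d,
which its proof uses when it maps the universal generator to N − d compatibly with the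
augmentations; it is assumed here, together with the standing assumption d ≥ 1.) The hypotheses hP
and hQ, existence of the universal polynomials, are true statements carried so that the identities
of R can be used at every index. -/
theorem result
    (K : Type u) [CommRing K] [LambdaRing.LambdaOps K] [BinomialRing K] (hKb : LambdaRing.IsBinomial K)
    (hK : LambdaRing.IsSpecial K)
    (A : Type v) [CommRing A] [LambdaRing.LambdaOps A] [Algebra K A] (hA : LambdaRing.IsSpecial A)
    (hP : ∀ n : ℕ, ∃ P : MvPolynomial (Fin n ⊕ Fin n) ℤ, LambdaRing.IsMulPoly n P)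
    (hQ : ∀ i j : ℕ, ∃ Q : MvPolynomial (Fin (i * j)) ℤ, LambdaRing.IsCompPoly i j Q)
    (ε : A →ₐ[K] K) (hε : LambdaRing.IsAugLambdaAlg K A ε)
    (d : ℕ) (hd : 1 ≤ d) (N : A) (hN : ∀ k : ℕ, d < k → LambdaRing.LambdaOps.lam k N = 0) (hNε : ε N = (d : K))
    (hnzd : (∑ j ∈ range (d + 1), (-1 : A) ^ j * LambdaRing.LambdaOps.lam j N) ∈ A⁰)
    (i : ℕ) (x : A) (hx : x ∈ LambdaRing.gammaFil (ε : A →+* K) i) (y : A)
    (hy : y * (∑ j ∈ range (d + 1), (-1 : A) ^ j * LambdaRing.LambdaOps.lam j N) = LambdaRing.gamma (d + i) (x * (∑ j ∈ range (d + 1), (-1 : A) ^ j * LambdaRing.LambdaOps.lam j N))) :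
    y - (-1 : A) ^ (d + i - 1) * ((d + i - 1).factorial : A) * x ∈ LambdaRing.gammaFil (ε : A →+* K) (i + 1) := by
  obtain ⟨e, rfl⟩ := Nat.exists_eq_add_of_le' hd
  have h1 := hA.lam_one_eq_zero
  set F := gammaGFil (ε : A →+* K) with hF
  have hz : (ε : A →+* K) (N - ((e + 1 : ℕ) : A)) = 0 := by simp [hNε]
  set g := gamma (e + 1) (N - ((e + 1 : ℕ) : A)) with hg
  have hsum : ∑ j ∈ range (e + 1 + 1), (-1 : A) ^ j * LambdaOps.lam j N = (-1) ^ (e + 1) * g := by
    rw [hg, gamma_sub_natCast_top h1 hN, ← mul_assoc, ← mul_pow, neg_one_mul, neg_neg, one_pow, one_mul]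
  have hgG : g ∈ F.G (e + 1) := gamma_mem_gammaFil _ hz _
  have htop : ∀ j, e + 1 < j → gamma j (N - ((e + 1 : ℕ) : A)) = 0 := fun j hj =>
    gamma_sub_natCast_eq_zero h1 hN hj
  have hcongr := lam_top_congr hA (F := F) (good_gammaFil _ hz) htop
  have hspan : ∀ n, LambdaOps.lam (n + 1) g ∈ Ideal.span {g} := fun n =>
    Ideal.mem_span_singleton.2 (lam_top_dvd hA htop n)
  set s : A := (-1) ^ (e + 1) with hs
  have hx' : s * x ∈ F.G i := Ideal.mul_mem_left _ _ hx
  have hlamx : ∀ n, LambdaOps.lam (n + 1) (s * x) ∈ F.G i := by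
    intro n
    cases i with
    | zero => exact F.mem_zero _
    | succ i => exact (top_of_mem hKb hA ε hε hx' n).1
  have hpsi : ∀ n, adamsOp (n + 1) (s * x) - ((n + 1 : ℕ) : A) ^ i * (s * x) ∈ F.G (i + 1) := by
    intro n
    cases i with
    | zero => simpa [hF, gammaGFil] using adamsOp_sub_mem hKb ε hε (s * x) n
    | succ i => exact ((top_of_mem hKb hA ε hε hx').adams n).2
  have key : ∀ n, LambdaOps.lam (n + 1) (s * x * g)
      - (-1) ^ n * ((n + 1 : ℕ) : A) ^ (e + i) * (s * x * g) ∈ Ideal.span {g} * F.G (i + 1) := by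
    intro n
    have herr := lam_mul_linear hA (s * x) g hlamx hspan n
    have hle : F.G i * (Ideal.span {g} * Ideal.span {g}) ≤ Ideal.span {g} * F.G (i + 1) := by
      rw [← mul_assoc, mul_comm _ (Ideal.span {g})]
      refine Ideal.mul_mono_right (Ideal.mul_le.2 fun a ha b hb => ?_)
      exact F.anti (Nat.le_refl _) (F.mul_mem ha
        (F.anti (by omega : 1 ≤ e + 1) ((Ideal.span_singleton_le_iff_mem _).2 hgG hb)))
    have t1 : (adamsOp (n + 1) (s * x) - ((n + 1 : ℕ) : A) ^ i * (s * x)) * LambdaOps.lam (n + 1) g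
        ∈ Ideal.span {g} * F.G (i + 1) := by
      rw [mul_comm (adamsOp _ _ - _)]; exact Ideal.mul_mem_mul (hspan n) (hpsi n)
    have t2 : (LambdaOps.lam (n + 1) g - (-1) ^ n * ((n + 1 : ℕ) : A) ^ e * g) * (s * x)
        ∈ Ideal.span {g} * F.G (i + 1) := by
      obtain ⟨w, hw, hwe⟩ := Ideal.mem_span_singleton_mul.1 (hcongr n)
      rw [← hwe, mul_assoc, Nat.add_comm i 1]
      exact Ideal.mul_mem_mul (Ideal.mem_span_singleton_self g) (F.mul_mem hw hx')
    have := add_mem (hle herr) (add_mem t1 (Ideal.mul_mem_left _ (((n + 1 : ℕ) : A) ^ i) t2))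
    convert this using 1
    rw [pow_add]; ring
  obtain ⟨w, hw, hwe⟩ := Ideal.mem_span_singleton_mul.1 (gamma_congr_of_lam (e + i) key)
  rw [hsum] at hy hnzd
  rw [show x * ((-1 : A) ^ (e + 1) * g) = s * x * g by rw [hs]; ring, show e + 1 + i = e + i + 1 by omega] at hy
  rw [show e + 1 + i - 1 = e + i by omega]
  have hsq : s * s = 1 := by rw [hs, ← mul_pow, neg_one_mul, neg_neg, one_pow]
  have : y - (-1) ^ (e + i) * ((e + i).factorial : A) * x = s * w := by
    apply sub_eq_zero.1
    apply mem_nonZeroDivisors_iff_right.1 hnzd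
    linear_combination hy - hwe - g * w * hsq
  rw [this]
  exact Ideal.mul_mem_left _ _ hw

end Groth.Agent.S8696
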