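import Groth.Statements.S8697
import Groth.Agent.LamG.Laws

set_option autoImplicit false
universe u v
open Finset
open LambdaRing

namespace Groth.Agent.S8697

open Groth.Agent.LamG
/-- Let K be a binomial ring with its binomial λ-structure and B a λ-ring in the strict sense which is
an augmented K-λ-algebra with augmentation ε. Let x ∈ B satisfy ε(x) = 0 and γ^k(x) = 0 for every k
> n, and assume that γ^1(x), …, γ^n(x) are algebraically independent over K and generate B as a
K-algebra — so B is the K-λ-algebra generated by one element subject to the relations γ^k = 0 for k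
> n, a polynomial ring K[γ^1 x, …, γ^n x]. Then for every k, the k-th ideal Fil^k B of the
γ-filtration (generated by the products of γ^{i}(z), ε(z) = 0, of total weight ≥ k) is the ideal
generated by the monomials ∏_j (γ^j x)^{e_j} with Σ_j j·e_j ≥ k: the λ-ring filtration is the
filtration by the weight in the γ^j x. (With λ in place of γ — relations λ^k x = 0 for k > n and
weights in the λ^j x — the assertion fails already for n = 1, where γ^i(x) = x for all i ≥ 1 puts x
in every Fil^k while x is not in the ideal (x²); the form with γ stated here is the one the proof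
establishes.) The hypotheses hP and hQ, existence of the universal polynomials, are true statements
carried so that the identities of B can be used at every index. -/
theorem result
    (K : Type u) [CommRing K] [LambdaRing.LambdaOps K] [BinomialRing K] (hKb : LambdaRing.IsBinomial K)
    (hK : LambdaRing.IsSpecial K)
    (B : Type v) [CommRing B] [LambdaRing.LambdaOps B] [Algebra K B] (hB : LambdaRing.IsSpecial B)
    (hP : ∀ n : ℕ, ∃ P : MvPolynomial (Fin n ⊕ Fin n) ℤ, LambdaRing.IsMulPoly n P)
    (hQ : ∀ i j : ℕ, ∃ Q : MvPolynomial (Fin (i * j)) ℤ, LambdaRing.IsCompPoly i j Q)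
    (ε : B →ₐ[K] K) (hε : LambdaRing.IsAugLambdaAlg K B ε)
    (n : ℕ) (x : B) (hx : ε x = 0) (hγ : ∀ k : ℕ, n < k → LambdaRing.gamma k x = 0)
    (hind : AlgebraicIndependent K (fun j : Fin n => LambdaRing.gamma ((j : ℕ) + 1) x))
    (hgen : Algebra.adjoin K (Set.range fun j : Fin n => LambdaRing.gamma ((j : ℕ) + 1) x) = ⊤)
    (k : ℕ) :
    LambdaRing.gammaFil (ε : B →+* K) k =
      Ideal.span {m : B | ∃ e : Fin n → ℕ, k ≤ ∑ j : Fin n, ((j : ℕ) + 1) * e j ∧
        m = ∏ j : Fin n, LambdaRing.gamma ((j : ℕ) + 1) x ^ e j} := by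
  have hlin : ∀ i z, algebraMap K B (LambdaOps.lam i z) = LambdaOps.lam i (algebraMap K B z) := hε.isLambdaAlg
  set T : ℕ → Set B := fun k => {m : B | ∃ e : Fin n → ℕ, k ≤ ∑ j : Fin n, ((j : ℕ) + 1) * e j ∧
      m = ∏ j : Fin n, gamma ((j : ℕ) + 1) x ^ e j} with hT
  let G : GFil B :=
    { G := fun k => Ideal.span (T k)
      zero_eq := (Ideal.eq_top_iff_one _).2 (Ideal.subset_span ⟨0, by simp, by simp⟩)
      anti := fun {a b} h => Ideal.span_mono fun _ ⟨e, h1, h2⟩ => ⟨e, h.trans h1, h2⟩
      mul_mem := fun {a b u v} hu hv => by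
        have h := Ideal.mul_mem_mul hu hv
        rw [Ideal.span_mul_span'] at h
        refine Ideal.span_mono ?_ h
        rintro _ ⟨_, ⟨e, h1, rfl⟩, _, ⟨e', h1', rfl⟩, rfl⟩
        refine ⟨e + e', ?_, ?_⟩
        · simp only [Pi.add_apply, mul_add, sum_add_distrib]; omega
        · simp only [Pi.add_apply, pow_add, prod_mul_distrib] }
  have hxG : G.Good x := by
    intro i
    cases i with
    | zero => exact G.mem_zero _
    | succ i =>
      by_cases hi : i < n
      · refine Ideal.subset_span ⟨Pi.single ⟨i, hi⟩ 1, ?_, ?_⟩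
        · simp [Pi.single_apply]
        · rw [Finset.prod_eq_single (⟨i, hi⟩ : Fin n) (fun b _ hb => by simp [hb]) (by simp)]
          simp
      · rw [hγ (i + 1) (by omega)]; exact Submodule.zero_mem _
  let S : Subalgebra K B :=
    { carrier := {z | G.Good (z - algebraMap K B (ε z))}
      zero_mem' := by simpa using GFil.good_zero
      one_mem' := by simpa using GFil.good_zero
      add_mem' := fun {a b} ha hb => by
        have := GFil.Good.add ha hb
        rwa [show a - algebraMap K B (ε a) + (b - algebraMap K B (ε b)) = a + b - algebraMap K B (ε (a + b)) by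
          rw [map_add, map_add]; ring] at this
      mul_mem' := fun {a b} ha hb => by
        have := GFil.Good.add (GFil.Good.add (good_mul hB ha hb) (good_scalar hB hKb (algebraMap K B) hlin (ε a) hb))
          (good_scalar hB hKb (algebraMap K B) hlin (ε b) ha)
        rwa [show (a - algebraMap K B (ε a)) * (b - algebraMap K B (ε b))
          + algebraMap K B (ε a) * (b - algebraMap K B (ε b)) + algebraMap K B (ε b) * (a - algebraMap K B (ε a))
          = a * b - algebraMap K B (ε (a * b)) by rw [map_mul, map_mul]; ring] at this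
      algebraMap_mem' := fun r => by simpa using GFil.good_zero }
  have hS : S = ⊤ := by
    rw [eq_top_iff, ← hgen]
    refine Algebra.adjoin_le ?_
    rintro _ ⟨j, rfl⟩
    change G.Good _
    have e0 : (ε : B →+* K) (gamma ((j : ℕ) + 1) x) = 0 := by
      rw [map_gamma (ε : B →+* K) hε.map_lam, show (ε : B →+* K) x = 0 from hx, gamma_zero_eq]
    simpa [show ε (gamma ((j : ℕ) + 1) x) = 0 from e0] using good_gamma hB hxG j
  refine le_antisymm (gammaFil_le (ε : B →+* K) G (fun z hz => ?_) k) (Ideal.span_le.2 ?_)
  · have hzS : z ∈ S := by rw [hS]; trivial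
    have : G.Good (z - algebraMap K B (ε z)) := hzS
    simpa [show ε z = 0 from hz] using this
  · rintro _ ⟨e, h1, rfl⟩
    refine (gammaGFil (ε : B →+* K)).anti h1 ?_
    refine (gammaGFil (ε : B →+* K)).prod_mem _ _ _ fun j _ => ?_
    rw [mul_comm]
    exact GFil.pow_mem _ (gamma_mem_gammaFil (ε : B →+* K) hx _) _

end Groth.Agent.S8697
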