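import Groth.Statements.S8698
import Groth.Agent.LamG.Laws

set_option autoImplicit false
universe u v w
open Finset
open LambdaRing

namespace Groth.Agent.S8698

open Groth.Agent.LamG
/-- Let K be a binomial ring with its binomial λ-structure, A a λ-ring in the strict sense which is an
augmented K-λ-algebra with augmentation ε_A, and B a λ-ring in the strict sense which is at once an
augmented K-λ-algebra with augmentation ε_B and an A-algebra compatibly with the K-structures, the
structure map A → B commuting with the λ^n and ε_B restricting to ε_A on A. Let x ∈ B with ε_B(x) =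
0, and assume that the family (γ^{j+1} x)_{j ∈ ℕ} is algebraically independent over A and generates
B as an A-algebra: B is the free λ-ring A[X, γ^2 X, γ^3 X, …] on one generator over A, augmented by
X ↦ 0. Then for every k the k-th ideal Fil^k B of the γ-filtration of B is the ideal generated by
the products a · m where m = ∏_j (γ^{j+1} x)^{e_j} is a monomial of weight i = Σ_j (j+1) e_j and a
lies in (the image of) Fil^{k−i} A, with Fil^s A = A for s ≤ 0; that is, Fil^k B = Fil^k A +
Fil^{k−1} A·M_1 + ⋯ + Fil^0 A·M_k + (monomials of weight > k), M_i denoting the monomials of weight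
i. The hypotheses hP and hQ, existence of the universal polynomials, are true statements carried so
that the identities of A and B can be used at every index. -/
theorem result
    (K : Type u) [CommRing K] [LambdaRing.LambdaOps K] [BinomialRing K] (hKb : LambdaRing.IsBinomial K)
    (hK : LambdaRing.IsSpecial K)
    (A : Type v) [CommRing A] [LambdaRing.LambdaOps A] [Algebra K A] (hA : LambdaRing.IsSpecial A)
    (εA : A →ₐ[K] K) (hεA : LambdaRing.IsAugLambdaAlg K A εA)
    (B : Type w) [CommRing B] [LambdaRing.LambdaOps B] [Algebra K B] [Algebra A B] [IsScalarTower K A B]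
    (hB : LambdaRing.IsSpecial B) (hAB : LambdaRing.IsLambdaAlg A B)
    (εB : B →ₐ[K] K) (hεB : LambdaRing.IsAugLambdaAlg K B εB) (hεAB : ∀ a : A, εB (algebraMap A B a) = εA a)
    (hP : ∀ n : ℕ, ∃ P : MvPolynomial (Fin n ⊕ Fin n) ℤ, LambdaRing.IsMulPoly n P)
    (hQ : ∀ i j : ℕ, ∃ Q : MvPolynomial (Fin (i * j)) ℤ, LambdaRing.IsCompPoly i j Q)
    (x : B) (hx : εB x = 0)
    (hind : AlgebraicIndependent A (fun j : ℕ => LambdaRing.gamma (j + 1) x))
    (hgen : Algebra.adjoin A (Set.range fun j : ℕ => LambdaRing.gamma (j + 1) x) = ⊤)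
    (k : ℕ) :
    LambdaRing.gammaFil (εB : B →+* K) k =
      Ideal.span {b : B | ∃ (e : ℕ →₀ ℕ) (a : A),
        a ∈ LambdaRing.gammaFil (εA : A →+* K) (k - e.sum fun j n => (j + 1) * n) ∧
        b = algebraMap A B a * e.prod fun j n => LambdaRing.gamma (j + 1) x ^ n} := by
  have hlin : ∀ i z, algebraMap K B (LambdaOps.lam i z) = LambdaOps.lam i (algebraMap K B z) := hεB.isLambdaAlg
  set wt : (ℕ →₀ ℕ) → ℕ := fun e => e.sum fun j n => (j + 1) * n with hwt
  set mon : (ℕ →₀ ℕ) → B := fun e => e.prod fun j n => gamma (j + 1) x ^ n with hmon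
  have hwadd : ∀ e e', wt (e + e') = wt e + wt e' := fun e e' =>
    Finsupp.sum_add_index' (fun _ => mul_zero _) (fun _ _ _ => mul_add _ _ _)
  have hmadd : ∀ e e', mon (e + e') = mon e * mon e' := fun e e' =>
    Finsupp.prod_add_index' (fun _ => pow_zero _) (fun _ _ _ => pow_add _ _ _)
  set T : ℕ → Set B := fun k => {b : B | ∃ (e : ℕ →₀ ℕ) (a : A), a ∈ gammaFil (εA : A →+* K) (k - wt e) ∧
      b = algebraMap A B a * mon e} with hT
  let G : GFil B :=
    { G := fun k => Ideal.span (T k)
      zero_eq := (Ideal.eq_top_iff_one _).2 (Ideal.subset_span ⟨0, 1, by simp [gammaFil_zero], by simp [hmon]⟩)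
      anti := fun {a b} h => Ideal.span_mono fun _ ⟨e, c, h1, h2⟩ => ⟨e, c, gammaFil_anti _ (by omega) h1, h2⟩
      mul_mem := fun {a b u v} hu hv => by
        have h := Ideal.mul_mem_mul hu hv
        rw [Ideal.span_mul_span'] at h
        refine Ideal.span_mono ?_ h
        rintro _ ⟨_, ⟨e, c, h1, rfl⟩, _, ⟨e', c', h1', rfl⟩, rfl⟩
        refine ⟨e + e', c * c', gammaFil_anti _ (by rw [hwadd]; omega) (gammaFil_mul_mem _ h1 h1'), ?_⟩
        rw [hmadd, map_mul]
        simp only
        ring }
  have hxG : G.Good x := by
    intro i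
    cases i with
    | zero => exact G.mem_zero _
    | succ i =>
      refine Ideal.subset_span ⟨Finsupp.single i 1, 1, ?_, ?_⟩
      · simp [hwt, gammaFil_zero]
      · simp [hmon]
  have hAG : ∀ a : A, εA a = 0 → G.Good (algebraMap A B a) := by
    intro a ha i
    rw [← map_gamma (algebraMap A B) hAB]
    exact Ideal.subset_span ⟨0, gamma i a, by simpa [hwt] using gamma_mem_gammaFil (εA : A →+* K) ha i,
      by simp [hmon]⟩
  let S : Subalgebra A B :=
    { carrier := {z | G.Good (z - algebraMap K B (εB z))}
      zero_mem' := by simpa using GFil.good_zero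
      one_mem' := by simpa using GFil.good_zero
      add_mem' := fun {a b} ha hb => by
        have := GFil.Good.add ha hb
        rwa [show a - algebraMap K B (εB a) + (b - algebraMap K B (εB b))
          = a + b - algebraMap K B (εB (a + b)) by rw [map_add, map_add]; ring] at this
      mul_mem' := fun {a b} ha hb => by
        have := GFil.Good.add (GFil.Good.add (good_mul hB ha hb) (good_scalar hB hKb (algebraMap K B) hlin (εB a) hb))
          (good_scalar hB hKb (algebraMap K B) hlin (εB b) ha)
        rwa [show (a - algebraMap K B (εB a)) * (b - algebraMap K B (εB b))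
          + algebraMap K B (εB a) * (b - algebraMap K B (εB b)) + algebraMap K B (εB b) * (a - algebraMap K B (εB a))
          = a * b - algebraMap K B (εB (a * b)) by rw [map_mul, map_mul]; ring] at this
      algebraMap_mem' := fun r => by
        have := hAG (r - algebraMap K A (εA r)) (by simp)
        rw [map_sub, ← IsScalarTower.algebraMap_apply, ← hεAB] at this
        exact this }
  have hS : S = ⊤ := by
    rw [eq_top_iff, ← hgen]
    refine Algebra.adjoin_le ?_
    rintro _ ⟨j, rfl⟩
    change G.Good _
    have e0 : (εB : B →+* K) (gamma (j + 1) x) = 0 := by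
      rw [map_gamma (εB : B →+* K) hεB.map_lam, show (εB : B →+* K) x = 0 from hx, gamma_zero_eq]
    simpa [show εB (gamma (j + 1) x) = 0 from e0] using good_gamma hB hxG j
  let C : GFil A :=
    { G := fun k => (gammaFil (εB : B →+* K) k).comap (algebraMap A B)
      zero_eq := by simp [gammaFil_zero]
      anti := fun h => Ideal.comap_mono (gammaFil_anti _ h)
      mul_mem := fun {a b u v} hu hv => by
        rw [Ideal.mem_comap, map_mul]; exact gammaFil_mul_mem _ hu hv }
  refine le_antisymm (gammaFil_le (εB : B →+* K) G (fun z hz => ?_) k) (Ideal.span_le.2 ?_)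
  · have hzS : z ∈ S := by rw [hS]; trivial
    have : G.Good (z - algebraMap K B (εB z)) := hzS
    simpa [show εB z = 0 from hz] using this
  · rintro _ ⟨e, a, h1, rfl⟩
    have ha : algebraMap A B a ∈ gammaFil (εB : B →+* K) (k - wt e) :=
      gammaFil_le (εA : A →+* K) C (fun z hz i => by
        change algebraMap A B (gamma i z) ∈ gammaFil (εB : B →+* K) i
        rw [map_gamma (algebraMap A B) hAB]
        exact gamma_mem_gammaFil _ (by simpa [hεAB] using hz) i) _ h1
    have hm : mon e ∈ gammaFil (εB : B →+* K) (wt e) :=
      (gammaGFil (εB : B →+* K)).prod_mem e.support (fun j => gamma (j + 1) x ^ e j) (fun j => (j + 1) * e j)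
        fun j _ => by
          rw [mul_comm]
          exact GFil.pow_mem _ (gamma_mem_gammaFil (εB : B →+* K) hx _) _
    exact gammaFil_anti _ (by change k ≤ k - wt e + wt e; omega) (gammaFil_mul_mem _ ha hm)

end Groth.Agent.S8698
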