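import Groth.Statements.S8699
-- import your own Groth.Agent.* helpers here
import Groth.Agent.Lead.LamOps
import Mathlib.Algebra.Module.Rat
import Mathlib.RingTheory.Binomial

set_option autoImplicit false
universe u
open LambdaRing

namespace Groth.Agent.S8699

open Groth.Agent.Lead.Lam LambdaRing in
/-- A binomial ring K (no additive torsion and all binomial coefficients C(x, n) defined) with its
binomial λ-structure λ^n(x) = C(x, n), i.e. λ_t(x) = (1 + t)^x, is a λ-ring in the strict sense:
λ_t(1) = 1 + t, λ^n(xy) = P_n(λ^1 x, …; λ^1 y, …) and λ^j(λ^i x) = Q_{i,j}(λ^1 x, …) for the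
universal polynomials. In particular the integers with λ^n(m) = C(m, n) form a λ-ring. -/
theorem result (K : Type u) [CommRing K] [LambdaRing.LambdaOps K] [BinomialRing K]
    (hKb : LambdaRing.IsBinomial K) : LambdaRing.IsSpecial K := by
  have : IsAddTorsionFree K := BinomialRing.toIsAddTorsionFree
  exact isSpecial_of_adams (fun k => adamsOp_binomial hKb k 1)
    (fun k x y => by rw [adamsOp_binomial hKb, adamsOp_binomial hKb, adamsOp_binomial hKb])
    (fun k k' x => by
      obtain ⟨m, hm⟩ : ∃ m, (k + 1) * (k' + 1) = m + 1 :=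
        ⟨(k + 1) * (k' + 1) - 1, (Nat.sub_add_cancel (Nat.mul_pos (Nat.succ_pos k) (Nat.succ_pos k'))).symm⟩
      rw [hm, adamsOp_binomial hKb, adamsOp_binomial hKb, adamsOp_binomial hKb])

end Groth.Agent.S8699
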