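import Groth.Statements.S8702
-- import your own Groth.Agent.* helpers here
import Groth.Agent.Lead.LamOps
import Groth.Agent.Lead.LamSeq
import Mathlib.Algebra.Module.Rat
import Mathlib.RingTheory.Binomial

set_option autoImplicit false
universe u
open LambdaRing

namespace Groth.Agent.S8702

open Groth.Agent.Lead.Lam LambdaRing in
/-- Let K be a commutative ring which is an algebra over the rationals, and let ψ^k : K → K, k ≥ 1, be
additive maps with ψ^1 the identity. Then there is one and only one pre-λ-structure on K whose Adams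
operations (defined through the logarithmic derivative of λ_t) are the ψ^k for every k ≥ 1, namely
λ_t(x) = exp(Σ_{k ≥ 1} (−1)^{k−1} ψ^k(x) t^k / k): in characteristic zero, pre-λ-structures and
families of additive operations ψ^k with ψ^1 = id determine each other. (The value of the family at
k = 0 is ignored.) -/
theorem result (K : Type u) [CommRing K] [Algebra ℚ K]
    (ψ : ℕ → K →+ K) (hψ : ψ 1 = AddMonoidHom.id K) :
    ∃! L : LambdaRing.LambdaOps K, ∀ k : ℕ, 1 ≤ k → ∀ x : K, @LambdaRing.adamsOp K _ L k x = ψ k x := by
  have : IsAddTorsionFree K := IsAddTorsionFree.of_module_rat K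
  let S : K → ℕ → K := fun x => seqOf (fun k => ψ (k + 1) x)
  have hS0 : ∀ x, S x 0 = 1 := fun x => seqOf_zero _
  have hnw : ∀ x k, nw (S x) k = ψ (k + 1) x := fun x k => nw_seqOf _ k
  let L : LambdaOps K :=
    { lam := fun n x => S x n
      lam_zero := hS0
      lam_one := fun x => by
        have h := rec_eq (hS0 x) 0
        simp [hS0, hnw, hψ] at h
        exact h
      lam_add := fun k x y => eq_of_nw (c := S (x + y)) (d := conv (S x) (S y)) (hS0 _)
        (by simp [conv, hS0]) k (fun i _ => by rw [nw_conv (hS0 x) (hS0 y), hnw, hnw, hnw, map_add]) k le_rfl }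
  refine ⟨L, fun k hk x => ?_, fun L' hL' => ?_⟩
  · obtain ⟨k, rfl⟩ : ∃ m, k = m + 1 := ⟨k - 1, by omega⟩
    exact hnw x k
  · obtain ⟨lam', z', o', a'⟩ := L'
    have hl : lam' = fun n x => S x n := by
      funext n x
      refine eq_of_nw (c := fun t => lam' t x) (d := S x) (z' x) (hS0 x) n (fun k _ => ?_) n le_rfl
      rw [hnw]
      exact hL' (k + 1) (by omega) x
    subst hl
    rfl

end Groth.Agent.S8702
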