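import Groth.Statements.S8703
-- import your own Groth.Agent.* helpers here
import Groth.Agent.Lead.LamOps
import Mathlib.Algebra.Module.Rat
import Mathlib.RingTheory.Binomial

set_option autoImplicit false
universe u
open LambdaRing

namespace Groth.Agent.S8703

open Groth.Agent.Lead.Lam LambdaRing in
/-- The Adams operations commute with λ-homomorphisms, and conversely, if K and K' are pre-λ-rings which
are algebras over the rationals, a ring homomorphism f : K → K' commuting with the ψ^k for all k ≥ 1
is a λ-homomorphism (commutes with all λ^i), the λ^i being expressible through the ψ^k in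
characteristic zero. -/
theorem result (K K' : Type u) [CommRing K] [CommRing K']
    [LambdaRing.LambdaOps K] [LambdaRing.LambdaOps K'] [Algebra ℚ K] [Algebra ℚ K'] (f : K →+* K') :
    LambdaRing.IsLambdaHom f ↔
      ∀ k : ℕ, 1 ≤ k → ∀ x : K, f (LambdaRing.adamsOp k x) = LambdaRing.adamsOp k (f x) := by
  have : IsAddTorsionFree K' := IsAddTorsionFree.of_module_rat K'
  constructor
  · intro h k hk x
    obtain ⟨k, rfl⟩ : ∃ m, k = m + 1 := ⟨k - 1, by omega⟩
    rw [adamsOp_eq, adamsOp_eq, map_nw f (c := fun t => LambdaOps.lam t x) (LambdaOps.lam_zero x)]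
    exact nw_congr (by simp [LambdaOps.lam_zero]) (LambdaOps.lam_zero (f x)) k fun t _ _ => h t x
  · intro h i x
    refine eq_of_nw (c := fun t => f (LambdaOps.lam t x)) (d := fun t => LambdaOps.lam t (f x))
      (by simp [LambdaOps.lam_zero]) (LambdaOps.lam_zero (f x)) i (fun k _ => ?_) i le_rfl
    rw [← map_nw f (c := fun t => LambdaOps.lam t x) (LambdaOps.lam_zero x)]
    exact h (k + 1) (by omega) x

end Groth.Agent.S8703
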