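import Groth.Statements.S8704
import Groth.Agent.LamG.Fil

set_option autoImplicit false
universe u v
open LambdaRing

namespace Groth.Agent.S8704

open Groth.Agent.LamG
/-- Let K and A be λ-rings in the strict sense, A an augmented K-λ-algebra with augmentation ε : A → K,
and Fil^n A its γ-filtration, the ideal generated by the products γ^{i_1}(x_1) ⋯ γ^{i_k}(x_k) with
i_1 + ⋯ + i_k ≥ n and all ε(x_r) = 0. If a subset S generates A as an abelian group, then Fil^n A,
as a K-submodule of A, is generated over K by the products γ^{i_1}(s_1 − ε(s_1)) ⋯ γ^{i_k}(s_k −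
ε(s_k)) with s_r ∈ S and i_1 + ⋯ + i_k ≥ n. -/
theorem result
    (K : Type u) [CommRing K] [LambdaRing.LambdaOps K] (hK : LambdaRing.IsSpecial K)
    (A : Type v) [CommRing A] [LambdaRing.LambdaOps A] [Algebra K A] (hA : LambdaRing.IsSpecial A)
    (ε : A →ₐ[K] K) (hε : LambdaRing.IsAugLambdaAlg K A ε)
    (S : Set A) (hS : AddSubgroup.closure S = ⊤) (n : ℕ) :
    (LambdaRing.gammaFil (ε : A →+* K) n).restrictScalars K =
      Submodule.span K {y : A | ∃ l : List (ℕ × A), (∀ p ∈ l, p.2 ∈ S) ∧ n ≤ (l.map Prod.fst).sum ∧
        y = (l.map fun p => LambdaRing.gamma p.1 (p.2 - algebraMap K A (ε p.2))).prod} := by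
  set T : ℕ → Set A := fun n => {y : A | ∃ l : List (ℕ × A), (∀ p ∈ l, p.2 ∈ S) ∧ n ≤ (l.map Prod.fst).sum ∧
    y = (l.map fun p => gamma p.1 (p.2 - algebraMap K A (ε p.2))).prod} with hT
  have hanti : ∀ m n, m ≤ n → Submodule.span K (T n) ≤ Submodule.span K (T m) := fun m n h =>
    Submodule.span_mono fun _ ⟨l, h1, h2, h3⟩ => ⟨l, h1, h.trans h2, h3⟩
  have hmul : ∀ m n, ∀ a ∈ Submodule.span K (T m), ∀ b ∈ Submodule.span K (T n),
      a * b ∈ Submodule.span K (T (m + n)) := by
    intro m n a ha b hb
    have h : a * b ∈ Submodule.span K (T m) * Submodule.span K (T n) := Submodule.mul_mem_mul ha hb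
    rw [Submodule.span_mul_span] at h
    refine Submodule.span_mono ?_ h
    rintro _ ⟨_, ⟨l, h1, h2, rfl⟩, _, ⟨l', h1', h2', rfl⟩, rfl⟩
    refine ⟨l ++ l', fun p hp => (List.mem_append.1 hp).elim (h1 p) (h1' p), ?_, by simp⟩
    rw [List.map_append, List.sum_append]; omega
  have hone : (1 : A) ∈ Submodule.span K (T 0) := Submodule.subset_span ⟨[], by simp, by simp, by simp⟩
  have htop : ∀ a : A, a ∈ Submodule.span K (T 0) := by
    intro a
    have ha : a ∈ AddSubgroup.closure S := by rw [hS]; trivial
    induction ha using AddSubgroup.closure_induction with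
    | mem s hs =>
      have e : s = (s - algebraMap K A (ε s)) + ε s • (1 : A) := by rw [Algebra.smul_def, mul_one, sub_add_cancel]
      rw [e]
      exact add_mem (Submodule.subset_span ⟨[(1, s)], by simpa using hs, by simp, by simp [gamma_one]⟩)
        (Submodule.smul_mem _ _ hone)
    | zero => exact zero_mem _
    | add u v _ _ hu hv => exact add_mem hu hv
    | neg u _ hu => exact neg_mem hu
  let G : GFil A :=
    { G := fun n =>
        { carrier := Submodule.span K (T n)
          zero_mem' := zero_mem _
          add_mem' := fun ha hb => add_mem ha hb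
          smul_mem' := fun c x hx => by
            simpa using hmul 0 n c (htop c) x hx }
      zero_eq := (Ideal.eq_top_iff_one _).2 hone
      anti := fun {m n} h x hx => hanti m n h hx
      mul_mem := fun {m n a b} ha hb => hmul m n a ha b hb }
  have hgood : ∀ z : A, G.Good (z - algebraMap K A (ε z)) := by
    intro z
    have hz : z ∈ AddSubgroup.closure S := by rw [hS]; trivial
    induction hz using AddSubgroup.closure_induction with
    | mem s hs =>
      exact fun i => Submodule.subset_span ⟨[(i, s)], by simpa using hs, by simp, by simp⟩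
    | zero => simpa using GFil.good_zero
    | add u v _ _ hu hv =>
      have := hu.add hv
      rwa [show u - algebraMap K A (ε u) + (v - algebraMap K A (ε v))
        = u + v - algebraMap K A (ε (u + v)) by rw [map_add, map_add]; ring] at this
    | neg u _ hu =>
      have := hu.neg
      rwa [show -(u - algebraMap K A (ε u)) = -u - algebraMap K A (ε (-u)) by
        rw [map_neg, map_neg]; ring] at this
  refine le_antisymm (fun x hx => ?_) (Submodule.span_le.2 ?_)
  · exact gammaFil_le (ε : A →+* K) G (fun z hz => by
      have := hgood z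
      rwa [show ε z = 0 from hz, map_zero, sub_zero] at this) n hx
  · rintro _ ⟨l, h1, h2, rfl⟩
    refine gammaFil_anti _ h2 ?_
    exact (gammaGFil (ε : A →+* K)).list_prod_mem _ Prod.fst l fun p _ =>
      gamma_mem_gammaFil _ (by simp) _

end Groth.Agent.S8704
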