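import Groth.Statements.S8705
import Groth.Agent.SGA7Lib.Cocycle
import Mathlib.LinearAlgebra.Quotient.Basic
import Mathlib.Tactic.Abel

set_option autoImplicit false
universe u
open SGA7

namespace Groth.Agent.S8705

/-- In the case of the punctual topos (ordinary abelian groups): let P be an abelian group and consider
the complex of free abelian groups Z[P × P × P] ⊕ Z[P × P] → Z[P × P] → Z[P], augmented to P by [p]
↦ p, with d₀[p, q] = [p + q] − [p] − [q], with d₁ on the first summand given by [p, q, r] ↦ [p + q,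
r] − [p, q + r] + [p, q] − [q, r] and on the second summand by [p, q] ↦ [p, q] − [q, p]. Then the
augmentation is surjective with kernel the image of d₀ (so H₀ is P), and the kernel of d₀ is the sum
of the images of the two components of d₁ (so H₁ vanishes). (The published statement is for abelian
sheaves on an arbitrary topos; this row is its case of a one-point space.) -/
theorem result (P : Type u) [AddCommGroup P] :
    letI ε : (P →₀ ℤ) →ₗ[ℤ] P := Finsupp.linearCombination ℤ (fun p : P => p)
    letI d₀ : (P × P →₀ ℤ) →ₗ[ℤ] (P →₀ ℤ) := Finsupp.linearCombination ℤ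
      (fun pq : P × P => Finsupp.single (pq.1 + pq.2) 1 - Finsupp.single pq.1 1 - Finsupp.single pq.2 1)
    letI d₁ : (P × P × P →₀ ℤ) →ₗ[ℤ] (P × P →₀ ℤ) := Finsupp.linearCombination ℤ
      (fun t : P × P × P => Finsupp.single (t.1 + t.2.1, t.2.2) 1 - Finsupp.single (t.1, t.2.1 + t.2.2) 1
        + Finsupp.single (t.1, t.2.1) 1 - Finsupp.single (t.2.1, t.2.2) 1)
    letI d₁' : (P × P →₀ ℤ) →ₗ[ℤ] (P × P →₀ ℤ) := Finsupp.linearCombination ℤ
      (fun pq : P × P => Finsupp.single pq 1 - Finsupp.single (pq.2, pq.1) 1)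
    Function.Surjective ε ∧ LinearMap.ker ε = LinearMap.range d₀ ∧
      LinearMap.ker d₀ = LinearMap.range d₁ ⊔ LinearMap.range d₁' := by
  set ε : (P →₀ ℤ) →ₗ[ℤ] P := Finsupp.linearCombination ℤ (fun p : P => p) with hε
  set d₀ : (P × P →₀ ℤ) →ₗ[ℤ] (P →₀ ℤ) := Finsupp.linearCombination ℤ
    (fun pq : P × P => Finsupp.single (pq.1 + pq.2) 1 - Finsupp.single pq.1 1 - Finsupp.single pq.2 1)
    with hd₀def
  set d₁ : (P × P × P →₀ ℤ) →ₗ[ℤ] (P × P →₀ ℤ) := Finsupp.linearCombination ℤ
    (fun t : P × P × P => Finsupp.single (t.1 + t.2.1, t.2.2) 1 - Finsupp.single (t.1, t.2.1 + t.2.2) 1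
      + Finsupp.single (t.1, t.2.1) 1 - Finsupp.single (t.2.1, t.2.2) 1) with hd₁def
  set d₁' : (P × P →₀ ℤ) →ₗ[ℤ] (P × P →₀ ℤ) := Finsupp.linearCombination ℤ
    (fun pq : P × P => Finsupp.single pq 1 - Finsupp.single (pq.2, pq.1) 1) with hd₁'def
  have hd₀ : ∀ p q : P, d₀ (Finsupp.single (p, q) 1) =
      Finsupp.single (p + q) 1 - Finsupp.single p 1 - Finsupp.single q 1 := fun p q => by
    simp [d₀]
  refine ⟨fun p => ⟨Finsupp.single p 1, by simp [ε]⟩, le_antisymm (fun x hx => ?_) ?_,
    le_antisymm (fun z hz => ?_) ?_⟩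
  · -- modulo the relations, every element is a single generator
    have key : ∀ x : P →₀ ℤ, ∃ z, x - Finsupp.single (ε x) 1 = d₀ z := by
      intro x
      induction x using Finsupp.induction_linear with
      | zero => exact ⟨Finsupp.single (0, 0) 1, by rw [hd₀]; simp⟩
      | add x y hx hy =>
        obtain ⟨a, ha⟩ := hx
        obtain ⟨b, hb⟩ := hy
        refine ⟨a + b - Finsupp.single (ε x, ε y) 1, ?_⟩
        rw [map_add ε, map_sub d₀, map_add d₀, ← ha, ← hb, hd₀]
        abel
      | single p n =>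
        have hn : ∀ m : ℤ, ∃ z, Finsupp.single p m - Finsupp.single (m • p) 1 = d₀ z := by
          intro m
          induction m using Int.induction_on with
          | zero => exact ⟨Finsupp.single (0, 0) 1, by rw [hd₀]; simp⟩
          | succ m ih =>
            obtain ⟨a, ha⟩ := ih
            refine ⟨a - Finsupp.single ((m : ℤ) • p, p) 1, ?_⟩
            rw [map_sub, ← ha, hd₀, Finsupp.single_add, add_zsmul, one_zsmul]
            abel
          | pred m ih =>
            obtain ⟨a, ha⟩ := ih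
            refine ⟨a + Finsupp.single ((-(m : ℤ) - 1) • p, p) 1, ?_⟩
            rw [map_add, ← ha, hd₀, Finsupp.single_sub, sub_zsmul, one_zsmul, neg_add_cancel_right]
            abel
        obtain ⟨z, hz⟩ := hn n
        exact ⟨z, by simpa [ε] using hz⟩
    obtain ⟨z, hz⟩ := key x
    rw [LinearMap.mem_ker.mp hx] at hz
    exact ⟨z - Finsupp.single (0, 0) 1, by rw [map_sub, ← hz, hd₀]; simp⟩
  · rintro _ ⟨z, rfl⟩
    have : ε.comp d₀ = 0 := by
      ext ⟨p, q⟩
      simp [ε, d₀]
    exact LinearMap.congr_fun this z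
  · let K : Submodule ℤ (P × P →₀ ℤ) := LinearMap.range d₁ ⊔ LinearMap.range d₁'
    let c : P → P → (P × P →₀ ℤ) ⧸ K := fun p q => Submodule.Quotient.mk (Finsupp.single (p, q) 1)
    have hassoc : ∀ p q r, c (p + q) r + c p q = c p (q + r) + c q r := by
      intro p q r
      rw [← sub_eq_zero]
      refine Eq.trans ?_ ((Submodule.Quotient.mk_eq_zero K).mpr
        (Submodule.mem_sup_left ⟨Finsupp.single (p, q, r) 1, rfl⟩))
      simp [c, d₁, sub_eq_add_neg]
      abel
    have hsymm : ∀ p q, c p q = c q p := by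
      intro p q
      rw [← sub_eq_zero]
      refine Eq.trans ?_ ((Submodule.Quotient.mk_eq_zero K).mpr
        (Submodule.mem_sup_right ⟨Finsupp.single (p, q) 1, rfl⟩))
      simp [c, d₁']
    obtain ⟨E, hE⟩ := Groth.Agent.SGA7Lib.Cocycle.exists_extension c hassoc hsymm
    obtain ⟨_, s, j, hj, hs⟩ := hE
    let ψ : (P →₀ ℤ) →ₗ[ℤ] E := Finsupp.linearCombination ℤ s
    have hψ : ψ.comp d₀ = -(j.toIntLinearMap.comp K.mkQ) := by
      ext ⟨p, q⟩
      simp [ψ, d₀, c, hs]
    have := LinearMap.congr_fun hψ z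
    rw [LinearMap.comp_apply, LinearMap.mem_ker.mp hz, map_zero, LinearMap.neg_apply,
      eq_comm, neg_eq_zero] at this
    exact (Submodule.Quotient.mk_eq_zero K).mp (hj (this.trans (map_zero j).symm))
  · refine sup_le ?_ ?_
    · rintro _ ⟨z, rfl⟩
      have : d₀.comp d₁ = 0 := by
        ext ⟨p, q, r⟩ : 3
        simp [d₀, d₁, add_assoc]
        abel
      exact LinearMap.congr_fun this z
    · rintro _ ⟨z, rfl⟩
      have : d₀.comp d₁' = 0 := by
        ext ⟨p, q⟩ : 3
        simp [d₀, d₁', add_comm p q]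
        abel
      exact LinearMap.congr_fun this z

end Groth.Agent.S8705
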