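import Groth.Statements.S8710
import Mathlib
import Groth.Agent.TorBal.LES

set_option autoImplicit false
universe u
open CategoryTheory CategoryTheory.Limits
open SGA7

namespace Groth.Agent.S8710

open CategoryTheory Limits HomologicalComplex MonoidalCategory

variable {R : Type u} [CommRing R]

noncomputable def torSymm (P S : ModuleCat.{u} R) (n : ℕ) :
    ((CategoryTheory.Tor (ModuleCat.{u} R) n).obj P).obj S ≅ ((CategoryTheory.Tor (ModuleCat.{u} R) n).obj S).obj P :=
  (projectiveResolution S).isoLeftDerivedObj ((tensoringLeft (ModuleCat.{u} R)).obj P) n ≪≫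
    ((Groth.Agent.TorBal.torResIso S n).app P).symm

theorem isZero_tor_flat (X S : ModuleCat.{u} R) [Module.Flat R X] (i : ℕ) :
    IsZero (((CategoryTheory.Tor (ModuleCat.{u} R) (i + 1)).obj X).obj S) := by
  refine IsZero.of_iso ?_ ((projectiveResolution S).isoLeftDerivedObj ((tensoringLeft (ModuleCat.{u} R)).obj X) (i + 1))
  refine (exactAt_iff_isZero_homology _ _).1 ?_
  have h := (projectiveResolution S).complex_exactAt_succ i
  rw [exactAt_iff' _ (i + 2) (i + 1) i (by simp) (by simp)] at h ⊢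
  rw [ShortComplex.ShortExact.moduleCat_exact_iff_function_exact] at h ⊢
  exact Module.Flat.lTensor_exact X h

theorem isZero_X₂ {C : Type*} [Category C] [Abelian C] {X Y Z : C} {f : X ⟶ Y} {g : Y ⟶ Z} {w : f ≫ g = 0}
    (h : (ShortComplex.mk f g w).Exact) (hX : IsZero X) (hZ : IsZero Z) : IsZero Y :=
  h.isZero_of_both_zeros (hX.eq_of_src _ _) (hZ.eq_of_tgt _ _)


/-- Let f : B' → B be a surjective map of R-algebras with B' flat over R, g : C → B a map of R-algebras,
P = B' ×_B C their fibre product (the equalizer of f ∘ pr₁ and g ∘ pr₂ in B' × C), S an R-algebra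
and n a natural number. If Tor_i^R(C, S) = 0 for 0 < i < n and Tor_i^R(B, S) = 0 for 0 < i ≤ n, then
Tor_i^R(P, S) = 0 for 0 < i < n. Here Tor_i^R(M, S) is the i-th left derived functor of M ⊗_R − on
R-modules, evaluated at S. (The published statement asks the vanishing for B only in degrees 0 < i <
n; the published proof and the corollary following it use it in degrees 0 < i ≤ n, which this row
assumes.) -/
theorem result (R B' B C S : Type u) [CommRing R] [CommRing B'] [CommRing B]
    [CommRing C] [CommRing S] [Algebra R B'] [Algebra R B] [Algebra R C] [Algebra R S]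
    (f : B' →ₐ[R] B) (hf : Function.Surjective f) (g : C →ₐ[R] B) [Module.Flat R B'] (n : ℕ)
    (hC : ∀ i : ℕ, 0 < i → i < n →
      IsZero (((Tor (ModuleCat.{u} R) i).obj (ModuleCat.of R C)).obj (ModuleCat.of R S)))
    (hB : ∀ i : ℕ, 0 < i → i ≤ n →
      IsZero (((Tor (ModuleCat.{u} R) i).obj (ModuleCat.of R B)).obj (ModuleCat.of R S))) :
    letI P := AlgHom.equalizer (f.comp (AlgHom.fst R B' C)) (g.comp (AlgHom.snd R B' C))
    ∀ i : ℕ, 0 < i → i < n →
      IsZero (((Tor (ModuleCat.{u} R) i).obj (ModuleCat.of R ↥P)).obj (ModuleCat.of R S)) := by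
  intro i hi hin
  let P := AlgHom.equalizer (f.comp (AlgHom.fst R B' C)) (g.comp (AlgHom.snd R B' C))
  obtain ⟨j, rfl⟩ : ∃ j, i = j + 1 := ⟨i - 1, by omega⟩
  let S' := ModuleCat.of R S
  let u : ↥P →ₗ[R] (B' × C) := P.val.toLinearMap
  let d : (B' × C) →ₗ[R] B := (f.comp (AlgHom.fst R B' C)).toLinearMap - (g.comp (AlgHom.snd R B' C)).toLinearMap
  let T : ShortComplex (ModuleCat.{u} R) := ShortComplex.mk (ModuleCat.ofHom u) (ModuleCat.ofHom d) (by
    ext x
    exact sub_eq_zero.2 x.2)
  have hT : T.ShortExact := ModuleCat.shortComplex_shortExact T (fun y => ⟨fun hy => ⟨⟨y, sub_eq_zero.1 hy⟩, rfl⟩, by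
      rintro ⟨x, rfl⟩
      exact sub_eq_zero.2 x.2⟩) Subtype.val_injective (fun b => by
      obtain ⟨b', rfl⟩ := hf b
      exact ⟨(b', 0), by show f b' - g 0 = f b'; rw [map_zero, sub_zero]⟩)
  let V : ShortComplex (ModuleCat.{u} R) := ShortComplex.mk (ModuleCat.ofHom (LinearMap.inl R B' C))
    (ModuleCat.ofHom (LinearMap.snd R B' C)) (by ext x; rfl)
  have hV : V.ShortExact := ModuleCat.shortComplex_shortExact V (fun y => ⟨fun hy => ⟨y.1, Prod.ext rfl (Eq.symm hy)⟩, by
      rintro ⟨x, rfl⟩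
      rfl⟩) LinearMap.inl_injective LinearMap.snd_surjective
  have hBC : IsZero (((Tor (ModuleCat.{u} R) (j + 1)).obj S').obj (ModuleCat.of R (B' × C))) :=
    isZero_X₂ (Groth.Agent.TorBal.tor_exact₂ S' hV (j + 1))
      ((isZero_tor_flat (ModuleCat.of R B') S' j).of_iso (torSymm _ _ _).symm)
      ((hC (j + 1) hi hin).of_iso (torSymm _ _ _).symm)
  have h := isZero_X₂ (Groth.Agent.TorBal.tor_exact₁ S' hT (j + 1))
    ((hB (j + 2) (by omega) (by omega)).of_iso (torSymm _ _ _).symm) hBC
  exact h.of_iso (torSymm _ _ _)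

end Groth.Agent.S8710
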