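import Groth.Statements.S8721
import Groth.Agent.SemiLin.Roots
-- import your own Groth.Agent.* helpers here

set_option autoImplicit false
universe u v
open SGA7II

namespace Groth.Agent.S8721

/-- Let k be a separably closed field of characteristic p > 0, q = p^r with r >= 1, V a
finite-dimensional k-vector space and phi : V -> V additive with phi(c v) = c^q phi(v). Let V_ss be
the intersection, over n >= 1, of the k-subspaces spanned by the images of the iterates phi^n (the
semisimple part of V). Then V_ss has a k-basis consisting of phi-fixed vectors, and every phi-fixed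
vector of V is a linear combination of this basis with coefficients c satisfying c^q = c; that is,
V_ss is obtained from the F_q-space of fixed vectors by extension of scalars. -/
theorem result (k : Type u) [Field k] [IsSepClosed k] (p : ℕ)
    [Fact p.Prime] [CharP k p] (r : ℕ) (hr : 0 < r) (V : Type v) [AddCommGroup V] [Module k V]
    [FiniteDimensional k V] (φ : V →+ V) (hφ : ∀ (c : k) (v : V), φ (c • v) = c ^ (p ^ r) • φ v) :
    let Vss : Submodule k V := ⨅ n : ℕ, Submodule.span k (Set.range (φ^[n + 1]))
    ∃ b : Module.Basis (Fin (Module.finrank k ↥Vss)) k ↥Vss, (∀ i, φ (b i : V) = (b i : V)) ∧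
      ∀ v : V, φ v = v → ∃ c : Fin (Module.finrank k ↥Vss) → k,
        (∀ i, c i ^ (p ^ r) = c i) ∧ v = ∑ i, c i • (b i : V) := by
  intro Vss
  let T : V →ₛₗ[SemiLin.Roots.qPow k p r] V :=
    { toFun := φ, map_add' := map_add φ, map_smul' := fun c v => by simp [hφ] }
  have e : Vss = SemiLin.Basic.Vss T := le_antisymm
    (le_iInf fun n => (iInf_le _ n).trans (SemiLin.Basic.W_succ_le T n))
    (le_iInf fun n => iInf_le _ (n + 1))
  clear_value Vss
  subst e
  obtain ⟨b, hb⟩ := SemiLin.Basic.exists_basis_fixed_Vss T (SemiLin.Roots.qPow_H2 p r hr)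
    (SemiLin.Roots.qPow_H3 p r hr)
  refine ⟨b, hb, fun v hv => ?_⟩
  have hv' : v ∈ SemiLin.Basic.Vss T := SemiLin.Basic.fixed_mem_Vss T hv
  have hsum : v = ∑ i, b.repr ⟨v, hv'⟩ i • (b i : V) := by
    have := congrArg (SemiLin.Basic.Vss T).subtype (b.sum_repr ⟨v, hv'⟩)
    simp only [map_sum, map_smul, Submodule.coe_subtype] at this
    exact this.symm
  refine ⟨fun i => b.repr ⟨v, hv'⟩ i, fun i => ?_, hsum⟩
  have := SemiLin.Basic.coeff_fixed T
    (b.linearIndependent.map' (SemiLin.Basic.Vss T).subtype (Submodule.ker_subtype _)) hb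
    (fun i => b.repr ⟨v, hv'⟩ i) (by show T (∑ i, _ • (b i : V)) = ∑ i, _ • (b i : V); rw [← hsum]; exact hv) i
  simpa using this

end Groth.Agent.S8721
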