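import Groth.Statements.S8722
import Groth.Agent.SemiLin.Roots
-- import your own Groth.Agent.* helpers here

set_option autoImplicit false
universe u v
open SGA7II

namespace Groth.Agent.S8722

/-- Let k be a separably closed field of characteristic p > 0, q = p^r with r >= 1, V a
finite-dimensional k-vector space and phi : V -> V additive with phi(c v) = c^q phi(v), semisimple
in the sense that its image spans V. Then for n >= 1 the fixed vectors of the n-th iterate of phi
are exactly the finite linear combinations of phi-fixed vectors with coefficients c satisfying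
c^(q^n) = c; that is, the fixed space of phi^n is obtained from the F_q-space of phi-fixed vectors
by extending scalars to F_{q^n}. -/
theorem result (k : Type u) [Field k] [IsSepClosed k] (p : ℕ)
    [Fact p.Prime] [CharP k p] (r : ℕ) (hr : 0 < r) (V : Type v) [AddCommGroup V] [Module k V]
    [FiniteDimensional k V] (φ : V →+ V) (hφ : ∀ (c : k) (v : V), φ (c • v) = c ^ (p ^ r) • φ v)
    (hss : Submodule.span k (Set.range φ) = ⊤) (n : ℕ) (hn : 0 < n) (v : V) :
    φ^[n] v = v ↔ ∃ (s : Finset V) (c : V → k), (∀ w ∈ s, φ w = w) ∧
      (∀ w ∈ s, c w ^ ((p ^ r) ^ n) = c w) ∧ v = ∑ w ∈ s, c w • w := by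
  classical
  let T : V →ₛₗ[SemiLin.Roots.qPow k p r] V :=
    { toFun := φ, map_add' := map_add φ, map_smul' := fun c v => by simp [hφ] }
  constructor
  · intro hv
    obtain ⟨b, hb⟩ := SemiLin.Basic.exists_basis_fixed T (SemiLin.Basic.Fix_eq_top T hss
      (SemiLin.Roots.qPow_H2 p r hr) (SemiLin.Roots.qPow_H3 p r hr))
    refine ⟨Finset.univ.image b, Function.extend b (fun i => b.repr v i) 0, ?_, ?_, ?_⟩
    · simp only [Finset.mem_image, Finset.mem_univ, true_and]
      rintro w ⟨i, rfl⟩
      exact hb i
    · simp only [Finset.mem_image, Finset.mem_univ, true_and]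
      rintro w ⟨i, rfl⟩
      rw [b.injective.extend_apply]
      have hv' : (⇑T)^[n] (∑ i, b.repr v i • b i) = ∑ i, b.repr v i • b i := by
        rw [b.sum_repr]; exact hv
      rw [SemiLin.Basic.iter_basis_fixed T hb] at hv'
      have := congrArg (fun x => b.repr x i) hv'
      simpa [SemiLin.Roots.qPow_iterate, Finsupp.single_apply] using this
    · rw [Finset.sum_image fun _ _ _ _ h => b.injective h]
      conv_lhs => rw [← b.sum_repr v]
      exact Finset.sum_congr rfl fun i _ => by rw [b.injective.extend_apply]
  · rintro ⟨s, c, hs, hc, rfl⟩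
    show (⇑T)^[n] _ = _
    rw [← Finset.sum_coe_sort s (fun w => c w • w),
      SemiLin.Basic.iter_basis_fixed T (f := fun w : s => (w : V)) (fun w => hs _ w.2)]
    exact Finset.sum_congr rfl fun w _ => by rw [SemiLin.Roots.qPow_iterate, hc _ w.2]

end Groth.Agent.S8722
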