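import Groth.Statements.S8724
import Mathlib

set_option autoImplicit false
open LefPen

namespace Groth.Agent.S8724

variable {R : Type*} [CommRing R] (y z : R)

theorem geom (k : ℕ) : (y - z) * ∑ i ∈ Finset.range (k + 1), y ^ i * z ^ (k - i) = y ^ (k + 1) - z ^ (k + 1) := by
  rw [← geom_sum₂_mul y z (k + 1), mul_comm]
  simp

theorem key (g : ℕ → R) (m N : ℕ) (h : m ≤ N) :
    (y - z) * ∑ i ∈ Finset.range N, ∑ j ∈ Finset.range N, (if i + j < m then g (i + j) * y ^ i * z ^ j else 0) =
      ∑ k ∈ Finset.range m, g k * (y ^ (k + 1) - z ^ (k + 1)) := by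
  have h1 : ∀ i, (∑ j ∈ Finset.range N, if i + j < m then g (i + j) * y ^ i * z ^ j else 0) =
      ∑ j ∈ Finset.range (m - i), g (i + j) * y ^ i * z ^ j := fun i => by
    rw [← Finset.sum_filter]
    refine Finset.sum_congr (Finset.ext fun j => ?_) fun _ _ => rfl
    simp only [Finset.mem_filter, Finset.mem_range]
    omega
  simp only [h1]
  rw [← Finset.sum_subset (Finset.range_subset_range.2 h) (fun i _ hi => by
      rw [show m - i = 0 by rw [Finset.mem_range] at hi; omega, Finset.range_zero, Finset.sum_empty]),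
    ← Finset.sum_range_diag_flip m (fun i j => g (i + j) * y ^ i * z ^ j), Finset.mul_sum]
  refine Finset.sum_congr rfl fun k _ => ?_
  rw [← geom, mul_left_comm, Finset.mul_sum (a := g k)]
  congr 1
  refine Finset.sum_congr rfl fun i hi => ?_
  rw [Nat.add_sub_cancel' (Nat.lt_succ_iff.1 (Finset.mem_range.1 hi)), mul_assoc]

theorem expand (m : ℕ) : (1 + y) ^ m = 1 + ∑ k ∈ Finset.range m, (m.choose (k + 1) : R) * y ^ (k + 1) := by
  rw [add_comm 1 y, add_pow, Finset.sum_range_succ']
  simp [add_comm, mul_comm]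

theorem result (a : ℕ) (ha : 1 ≤ a) :
    let y : MvPolynomial (Fin 2) ℤ := MvPolynomial.X 0
    let z : MvPolynomial (Fin 2) ℤ := MvPolynomial.X 1
    ((1 + y) ^ (a - 1) - (1 + z) ^ (a - 1) =
      (y - z) * ∑ i ∈ Finset.range a, ∑ j ∈ Finset.range a,
        if i + j + 1 ≤ a - 1 then ((a - 1).choose (i + j + 1) : MvPolynomial (Fin 2) ℤ) * y ^ i * z ^ j else 0) ∧
    ((1 + y) ^ a * z - (1 + z) ^ a * y =
      (y - z) * (-1 + ∑ i ∈ Finset.range (a + 1), ∑ j ∈ Finset.range (a + 1),
        if 1 ≤ i ∧ 1 ≤ j ∧ i + j ≤ a then (a.choose (i + j) : MvPolynomial (Fin 2) ℤ) * y ^ i * z ^ j else 0)) := by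
  intro y z
  obtain ⟨m, rfl⟩ : ∃ m, a = m + 1 := ⟨a - 1, by omega⟩
  refine ⟨?_, ?_⟩
  · simp only [Nat.add_sub_cancel, Nat.add_one_le_iff]
    rw [key y z (fun k => (m.choose (k + 1) : MvPolynomial (Fin 2) ℤ)) m (m + 1) (Nat.le_succ m), expand y, expand z,
      add_sub_add_left_eq_sub, ← Finset.sum_sub_distrib]
    exact Finset.sum_congr rfl fun k _ => (mul_sub _ _ _).symm
  · have h := key y z (fun k => ((m + 1).choose (k + 2) : MvPolynomial (Fin 2) ℤ) * (y * z)) m (m + 1) (Nat.le_succ m)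
    have hs : (∑ i ∈ Finset.range (m + 1 + 1), ∑ j ∈ Finset.range (m + 1 + 1),
        if 1 ≤ i ∧ 1 ≤ j ∧ i + j ≤ m + 1 then ((m + 1).choose (i + j) : MvPolynomial (Fin 2) ℤ) * y ^ i * z ^ j else 0) =
        ∑ i ∈ Finset.range (m + 1), ∑ j ∈ Finset.range (m + 1),
          if i + j < m then ((m + 1).choose (i + j + 2) : MvPolynomial (Fin 2) ℤ) * (y * z) * y ^ i * z ^ j else 0 := by
      rw [Finset.sum_range_succ']
      simp only [not_le.2 (Nat.zero_lt_one), false_and, if_false, Finset.sum_const_zero, add_zero]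
      refine Finset.sum_congr rfl fun i _ => ?_
      rw [Finset.sum_range_succ']
      simp only [not_le.2 (Nat.zero_lt_one), false_and, and_false, if_false, add_zero]
      refine Finset.sum_congr rfl fun j _ => ?_
      rw [show i + 1 + (j + 1) = i + j + 2 by omega]
      by_cases hij : i + j < m
      · rw [if_pos (by omega), if_pos hij]; ring
      · rw [if_neg (by omega), if_neg hij]
    rw [hs, mul_add, h, expand y, expand z, Finset.sum_range_succ', Finset.sum_range_succ']
    simp only [zero_add, Nat.choose_one_right, pow_one]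
    have h2 : ∀ k, ((m + 1).choose (k + 2) : MvPolynomial (Fin 2) ℤ) * (y * z) * (y ^ (k + 1) - z ^ (k + 1)) =
        ((m + 1).choose (k + 1 + 1) : MvPolynomial (Fin 2) ℤ) * y ^ (k + 1 + 1) * z -
        ((m + 1).choose (k + 1 + 1) : MvPolynomial (Fin 2) ℤ) * z ^ (k + 1 + 1) * y := fun k => by ring
    simp only [h2, Finset.sum_sub_distrib, add_mul, Finset.sum_mul]
    ring

end Groth.Agent.S8724
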