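import Groth.Statements.S8738
import Mathlib
-- import your own Groth.Agent.* helpers here

set_option autoImplicit false
universe u
open SGA7II

namespace Groth.Agent.S8738

/-- Let k be a field of characteristic zero and A a reduced Noetherian local k-algebra of Krull
dimension one, essentially of finite type over k (the local ring of a reduced curve over k at one of
its points), and let A' be the integral closure of A in its total ring of fractions (the
normalization). Then every k-derivation D of A extends to a k-derivation D' of A', i.e. D' agrees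
with D on the image of A. -/
theorem result (k : Type u) [Field k] [CharZero k] (A : Type u) [CommRing A]
    [Algebra k A] [IsReduced A] [IsNoetherianRing A] [IsLocalRing A] [Algebra.EssFiniteType k A]
    (hdim : ringKrullDim A = 1) (D : Derivation k A A) :
    ∃ D' : Derivation k ↥(integralClosure A (FractionRing A)) ↥(integralClosure A (FractionRing A)),
      ∀ a : A, (D' (algebraMap A ↥(integralClosure A (FractionRing A)) a) : FractionRing A) =
        algebraMap A (FractionRing A) (D a) := by
  classical
  let Q := FractionRing A
  -- extend `D` to the total ring of fractions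
  let f : A →+* TrivSqZeroExt Q Q :=
    { toFun := fun a => (algebraMap A Q a, algebraMap A Q (D a))
      map_one' := TrivSqZeroExt.ext (map_one _) (show algebraMap A Q (D 1) = 0 by simp)
      map_mul' := fun a b => TrivSqZeroExt.ext (map_mul _ a b) (show algebraMap A Q (D (a * b)) =
        algebraMap A Q a • algebraMap A Q (D b) + MulOpposite.op (algebraMap A Q b) • algebraMap A Q (D a) by
          rw [Derivation.leibniz, map_add, op_smul_eq_smul]; simp [smul_eq_mul, map_mul])
      map_zero' := TrivSqZeroExt.ext (map_zero _) (show algebraMap A Q (D 0) = 0 by simp)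
      map_add' := fun a b => TrivSqZeroExt.ext (map_add _ a b) (show algebraMap A Q (D (a + b)) = _ by simp) }
  have hf : ∀ s : nonZeroDivisors A, IsUnit (f s) := fun s => by
    rw [TrivSqZeroExt.isUnit_iff_isUnit_fst]
    exact IsLocalization.map_units Q s
  let ψ : Q →+* TrivSqZeroExt Q Q := IsLocalization.lift hf
  have hψ : ∀ a, ψ (algebraMap A Q a) = f a := IsLocalization.lift_eq hf
  have hfst : ((TrivSqZeroExt.fstHom Q Q Q).toRingHom).comp ψ = RingHom.id Q :=
    IsLocalization.ringHom_ext (nonZeroDivisors A) (RingHom.ext fun a => by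
      simp only [RingHom.comp_apply, hψ]; rfl)
  have hfst' : ∀ x, (ψ x).fst = x := fun x => RingHom.congr_fun hfst x
  let dq : Q → Q := fun x => (ψ x).snd
  have hdA : ∀ a, dq (algebraMap A Q a) = algebraMap A Q (D a) := fun a => by
    simp only [dq, hψ]; rfl
  have hdadd : ∀ x y, dq (x + y) = dq x + dq y := fun x y => by simp [dq]
  have hdmul : ∀ x y, dq (x * y) = x * dq y + y * dq x := fun x y => by
    simp only [dq, map_mul, TrivSqZeroExt.snd_mul, hfst', smul_eq_mul, op_smul_eq_smul]
  have hd0 : dq 0 = 0 := by simp [dq]
  have hd1 : dq 1 = 0 := by simp [dq]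
  -- the coefficientwise action on polynomials
  let d : Polynomial Q → Polynomial Q := fun g => g.sum fun i a => Polynomial.monomial i (dq a)
  have hcoeff : ∀ g i, (d g).coeff i = dq (g.coeff i) := fun g i => by
    simp only [d, Polynomial.sum_def, Polynomial.finsetSum_coeff, Polynomial.coeff_monomial, Finset.sum_ite_eq']
    split
    · rfl
    · rw [Polynomial.notMem_support_iff.1 ‹_›, hd0]
  have hdp : ∀ g h, d (g * h) = g * d h + h * d g := fun g h => by
    ext i
    rw [hcoeff, Polynomial.coeff_add, mul_comm h, Polynomial.coeff_mul, Polynomial.coeff_mul, Polynomial.coeff_mul]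
    let dq' : Q →+ Q := AddMonoidHom.mk' dq hdadd
    change dq' _ = _
    rw [map_sum, ← Finset.sum_add_distrib]
    refine Finset.sum_congr rfl fun x _ => ?_
    change dq _ = _
    rw [hdmul, hcoeff, hcoeff]
    ring
  have key : ∀ (x : Q) (n : ℕ) (g : Polynomial Q),
      (d^[n] ((Polynomial.C x - Polynomial.X) ^ n * g)).eval x = (n.factorial : Q) * dq x ^ n * g.eval x := by
    intro x n
    induction n with
    | zero => intro g; simp
    | succ n ih =>
      intro g
      have hlin : d (Polynomial.C x - Polynomial.X) = Polynomial.C (dq x) := by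
        ext i
        rw [hcoeff, Polynomial.coeff_sub, Polynomial.coeff_C, Polynomial.coeff_X, Polynomial.coeff_C]
        rcases i with _ | _ | i <;> simp [hd0, hd1, dq, map_neg]
      have hpow : ∀ m : ℕ, d ((Polynomial.C x - Polynomial.X) ^ (m + 1)) =
          ((m + 1 : ℕ) : Polynomial Q) * (Polynomial.C x - Polynomial.X) ^ m * Polynomial.C (dq x) := by
        intro m
        induction m with
        | zero => simp [hlin]
        | succ m ihm => rw [pow_succ, hdp, ihm, hlin]; push_cast; ring
      rw [Function.iterate_succ_apply, hdp, hpow]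
      have : (Polynomial.C x - Polynomial.X) ^ (n + 1) * d g +
          g * (((n + 1 : ℕ) : Polynomial Q) * (Polynomial.C x - Polynomial.X) ^ n * Polynomial.C (dq x)) =
          (Polynomial.C x - Polynomial.X) ^ n *
            ((Polynomial.C x - Polynomial.X) * d g + ((n + 1 : ℕ) : Polynomial Q) * Polynomial.C (dq x) * g) := by ring
      rw [this, ih, Polynomial.eval_add, Polynomial.eval_mul, Polynomial.eval_mul, Polynomial.eval_mul,
        Polynomial.eval_natCast, Polynomial.eval_C, Polynomial.eval_sub, Polynomial.eval_C, Polynomial.eval_X,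
        Nat.factorial_succ]
      push_cast
      ring
  have hfac : ∀ n : ℕ, IsUnit (algebraMap A Q (n.factorial : A)) := fun n => by
    rw [map_natCast]
    have h := (IsUnit.mk0 ((n.factorial : ℕ) : k) (Nat.cast_ne_zero.2 n.factorial_ne_zero)).map (algebraMap k Q)
    rwa [map_natCast] at h
  have hint : ∀ x : Q, IsIntegral A x → IsIntegral A (dq x) := by
    intro x hx
    let B := Algebra.adjoin A {x}
    have hB : B.toSubmodule.FG := hx.fg_adjoin_singleton
    obtain ⟨T, hT⟩ := hB
    obtain ⟨⟨u, hu⟩, huT⟩ := IsLocalization.exist_integer_multiples_of_finset (nonZeroDivisors A) T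
    have hBu : ∀ z ∈ B, algebraMap A Q u * z ∈ (algebraMap A Q).range := fun z hz => by
      have hle : Submodule.span A (T : Set Q) ≤
          (LinearMap.range (Algebra.linearMap A Q)).comap (LinearMap.mulLeft A (algebraMap A Q u)) := by
        rw [Submodule.span_le]
        intro a ha
        obtain ⟨b, hb⟩ := huT a ha
        exact ⟨b, hb.trans (Algebra.smul_def u a)⟩
      obtain ⟨b, hb⟩ := hle (hT ▸ hz : z ∈ Submodule.span A (T : Set Q))
      exact ⟨b, hb⟩
    have hn : ∀ n : ℕ, algebraMap A Q u * dq x ^ n ∈ B := by
      intro n
      have h1 : ∀ g : Polynomial Q, (∀ i, g.coeff i ∈ (algebraMap A Q).range) →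
          ∀ i, (d g).coeff i ∈ (algebraMap A Q).range := fun g hg i => by
        obtain ⟨a, ha⟩ := hg i
        exact ⟨D a, by rw [hcoeff, ← ha, hdA]⟩
      have h2 : ∀ m : ℕ, ∀ i, (d^[m] ((Polynomial.C x - Polynomial.X) ^ n * Polynomial.C (algebraMap A Q u))).coeff i ∈
          (algebraMap A Q).range := by
        intro m
        induction m with
        | zero =>
          intro i
          rw [Function.iterate_zero, id_eq, mul_comm, sub_eq_add_neg, Commute.add_pow (Commute.all _ _), Finset.mul_sum,
            Polynomial.finsetSum_coeff]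
          refine Subring.sum_mem _ fun j _ => ?_
          have : Polynomial.C (algebraMap A Q u) * (Polynomial.C x ^ j * (-Polynomial.X) ^ (n - j) * (n.choose j : Polynomial Q)) =
              Polynomial.C (algebraMap A Q u * x ^ j) * Polynomial.C ((-1) ^ (n - j) * (n.choose j : Q)) * Polynomial.X ^ (n - j) := by
            rw [map_mul, map_mul, map_pow, map_pow, map_natCast, Polynomial.C_neg, Polynomial.C_1, neg_pow (Polynomial.X : Polynomial Q)]; ring
          rw [this, ← map_mul, Polynomial.coeff_C_mul_X_pow]
          split
          · refine Subring.mul_mem _ (hBu _ (B.pow_mem (Algebra.subset_adjoin rfl) j)) ?_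
            exact Subring.mul_mem _ (Subring.pow_mem _ (Subring.neg_mem _ (Subring.one_mem _)) _) (natCast_mem _ _)
          · exact Subring.zero_mem _
        | succ m ih => intro i; rw [Function.iterate_succ_apply']; exact h1 _ ih i
      have h3 : (d^[n] ((Polynomial.C x - Polynomial.X) ^ n * Polynomial.C (algebraMap A Q u))).eval x ∈ B := by
        rw [Polynomial.eval_eq_sum, Polynomial.sum_def]
        refine sum_mem fun i _ => B.mul_mem ?_ (B.pow_mem (Algebra.subset_adjoin rfl) i)
        obtain ⟨a, ha⟩ := h2 n i
        exact ha ▸ B.algebraMap_mem a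
      rw [key, Polynomial.eval_C] at h3
      obtain ⟨v, hv⟩ := (hfac n).exists_left_inv
      have hk : (IsUnit.mk0 ((n.factorial : ℕ) : k) (Nat.cast_ne_zero.2 n.factorial_ne_zero)).unit⁻¹.val *
          ((n.factorial : ℕ) : k) = 1 := IsUnit.val_inv_mul _
      have h4 := B.mul_mem (B.algebraMap_mem (algebraMap k A
        (IsUnit.mk0 ((n.factorial : ℕ) : k) (Nat.cast_ne_zero.2 n.factorial_ne_zero)).unit⁻¹.val)) h3
      rw [← IsScalarTower.algebraMap_apply k A Q, ← mul_assoc, ← mul_assoc, ← map_natCast (algebraMap k Q), ← map_mul, hk,
        map_one, one_mul, mul_comm] at h4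
      exact h4
    let M : Submodule A Q := B.toSubmodule.map (LinearMap.mulLeft A ((IsLocalization.map_units Q (⟨u, hu⟩ : nonZeroDivisors A)).unit⁻¹.val))
    have hMfg : M.FG := Submodule.FG.map _ ⟨T, hT⟩
    have hle : (Algebra.adjoin A {dq x}).toSubmodule ≤ M := by
      rw [Algebra.adjoin_singleton_eq_range_aeval]
      rintro _ ⟨g, rfl⟩
      induction g using Polynomial.induction_on' with
      | add a b ha hb => rw [map_add]; exact add_mem ha hb
      | monomial i a =>
        refine ⟨algebraMap A Q u * Polynomial.aeval (dq x) (Polynomial.monomial i a), ?_, ?_⟩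
        · rw [Polynomial.aeval_monomial, mul_left_comm]
          exact B.mul_mem (B.algebraMap_mem a) (hn i)
        · simp only [LinearMap.mulLeft_apply, ← mul_assoc]
          rw [IsUnit.val_inv_mul, one_mul]
          rfl
    have := isNoetherian_of_fg_of_noetherian M hMfg
    exact IsIntegral.of_mem_of_fg (Algebra.adjoin A {dq x}) ((isNoetherian_submodule.1 this) _ hle) (dq x) (Algebra.subset_adjoin rfl)
  let C := integralClosure A Q
  refine ⟨Derivation.mk' { toFun := fun x : C => ⟨dq x.1, hint x.1 x.2⟩
                           map_add' := fun x y => Subtype.ext (hdadd x.1 y.1)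
                           map_smul' := fun c x => Subtype.ext ?_ } (fun x y => Subtype.ext ?_), fun a => ?_⟩
  · change dq (c • (x : Q)) = c • dq (x : Q)
    rw [Algebra.smul_def, Algebra.smul_def, hdmul, IsScalarTower.algebraMap_apply k A Q, hdA,
      Derivation.map_algebraMap, map_zero, mul_zero, add_zero]
  · exact hdmul x.1 y.1
  · exact hdA a

end Groth.Agent.S8738
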