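import Groth.Statements.S8747
import Groth.Agent.Adeq.Ext

set_option autoImplicit false
set_option backward.isDefEq.respectTransparency false
universe u
open CategoryTheory Limits
open Adeq

namespace Groth.Agent.S8747

/-- A short exact sequence `0 → underline(M) → G → L → 0` of module-valued functors on `A`-algebras with
`L` linearly adequate splits, and `G` is adequate. -/
theorem result (A : Type u) [CommRing A]
    (S : ShortComplex (Adeq.MVF A)) (hS : S.ShortExact) (M : ModuleCat.{u + 1} A)
    (e : S.X₁ ≅ (Adeq.underline A).obj M) (hL : Adeq.linAdequate A S.X₃) :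
    Nonempty S.Splitting ∧ Adeq.adequate A S.X₂ := by
  have hk := Groth.Agent.Adeq.isKer_of_shortExact hS
  have := hS.epi_g
  have hX := Groth.Agent.Adeq.adequate_of_iso_U M e
  obtain ⟨s, hs⟩ := Groth.Agent.Adeq.exists_lift_of_linAdequate hL hk
    (fun B => Groth.Agent.Adeq.surjective_pt S.g B) hX (𝟙 _)
  exact ⟨⟨ShortComplex.Splitting.ofExactOfSection S hS.exact s hs hS.mono_f⟩,
    Groth.Agent.Adeq.adequate_of_extension hk (fun B => Groth.Agent.Adeq.surjective_pt S.g B) hX
      (Groth.Agent.Adeq.adequate_of_linAdequate hL)⟩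

end Groth.Agent.S8747
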