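import Groth.Statements.S8780
import Groth.Agent.Adeq.Inj
import Groth.Agent.Adeq.Basic

set_option autoImplicit false
set_option backward.isDefEq.respectTransparency false
universe u
open CategoryTheory Limits
open AdeqTF

namespace Groth.Agent.S8780

/-- Take `I` injective in the category of module-valued functors on `A`-algebras. For every `A`-algebra
`B` and every short exact sequence `0 → N₁ → N → N₂ → 0` of `B`-modules, the induced map of tangent
modules `TI(B, N) → TI(B, N₂)` is surjective (`TI(B, N)` is the kernel of `I(B[N]) → I(B)`, `B[N]`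
the trivial square-zero extension). (The published statement asserts that `TI(B, N₁) → TI(B, N) →
TI(B, N₂) → 0` is exact; exactness at the middle term is false: for `A = B = ℚ`, the split sequence
`0 → ℚ → ℚ² → ℚ → 0` and the injective functor `D ↦ Map(Hom(D, ℚ[ε]/(ε²)), E)` with `E` an injective
hull of `ℚ[ε]/(ε²)`, the indicator function of the first coordinate form lies in the kernel of
`TI(B, ℚ²) → TI(B, ℚ)` and not in the image of `TI(B, ℚ) → TI(B, ℚ²)`. This row keeps the
surjectivity, which the published argument does establish.) -/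
theorem result (A : Type u) [CommRing A] (I : Adeq.MVF A) [Injective I]
    (B : Adeq.Alg A) (S : ShortComplex (ModuleCat.{u} B)) (hS : S.ShortExact) :
    Function.Surjective (AdeqTF.tangentMap B I S.g) := by
  intro y
  obtain ⟨y, hy⟩ := y
  obtain ⟨x, hx⟩ := Groth.Agent.Adeq.map_surjective_of_injective I (AdeqTF.map B S.g) (fun z => by
    obtain ⟨n, hn⟩ := (ModuleCat.epi_iff_surjective S.g).1 hS.epi_g z.snd
    refine ⟨TrivSqZeroExt.inl z.fst + TrivSqZeroExt.inr n, ?_⟩
    show TrivSqZeroExt.map S.g.hom (TrivSqZeroExt.inl z.fst + TrivSqZeroExt.inr n) = z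
    rw [map_add, TrivSqZeroExt.map_inl, TrivSqZeroExt.map_inr]
    refine (congrArg (fun w => TrivSqZeroExt.inl z.fst + TrivSqZeroExt.inr w) hn).trans ?_
    exact TrivSqZeroExt.inl_fst_add_inr_snd_eq z) y
  have e1 : AdeqTF.inl B S.X₂ ≫ AdeqTF.fst B S.X₂ = 𝟙 B := CommAlgCat.hom_ext (AlgHom.ext fun b => rfl)
  have e2 : AdeqTF.inl B S.X₂ ≫ AdeqTF.map B S.g = AdeqTF.inl B S.X₃ := CommAlgCat.hom_ext (AlgHom.ext fun b => TrivSqZeroExt.map_inl (f := S.g.hom) b)
  let c := Groth.Agent.Adeq.mp I (AdeqTF.fst B S.X₂) x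
  have hy' : Groth.Agent.Adeq.mp I (AdeqTF.fst B S.X₃) y = 0 := hy
  have hx' : Groth.Agent.Adeq.mp I (AdeqTF.map B S.g) x = y := hx
  have hc : c = 0 := by
    rw [← hx', ← Groth.Agent.Adeq.mp_comp, AdeqTF.map_fst] at hy'
    exact hy'
  exact ⟨⟨x, hc⟩, Subtype.ext hx'⟩

end Groth.Agent.S8780
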