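import Groth.Statements.S8804
import Groth.Agent.Adic.Rig.Closed
import Mathlib.RingTheory.KrullDimension.Field

set_option autoImplicit false
universe u
open AdicRing

namespace Groth.Agent.S8804

/-- Let A be a Noetherian ring which is complete for the adic topology of an ideal I, and let q be a
prime ideal of A. The following are equivalent: (1) I ⊄ q and q is maximal among the primes not
containing I; (5) dim(A/q) = 1 and I ⊄ q; (8) A/q is a one-dimensional complete local ring whose
maximal ideal is the radical of the image of I (stated as: the Krull dimension of A/q is 1, every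
maximal ideal of A/q equals the radical of I(A/q), and A/q is adically complete for that radical).
(The other equivalent forms, for other ideals of definition or for the induced topology, are not
stated.) -/
theorem result (A : Type u) [CommRing A] [IsNoetherianRing A] (I : Ideal A) [IsAdicComplete I A] (q : PrimeSpectrum A) : List.TFAE [¬ I ≤ q.asIdeal ∧ ∀ q' : PrimeSpectrum A, q ≤ q' → ¬ I ≤ q'.asIdeal → q' = q, ringKrullDim (A ⧸ q.asIdeal) = 1 ∧ ¬ I ≤ q.asIdeal, ringKrullDim (A ⧸ q.asIdeal) = 1 ∧ (∀ m : Ideal (A ⧸ q.asIdeal), m.IsMaximal → m = (I.map (Ideal.Quotient.mk q.asIdeal)).radical) ∧ IsAdicComplete (I.map (Ideal.Quotient.mk q.asIdeal)).radical (A ⧸ q.asIdeal)] := by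
  tfae_have 1 → 3 := fun h =>
    Groth.Agent.Adic.Rig.Closed.spec (J := I) (q := q) h
  tfae_have 3 → 2 := fun ⟨h1, h2, _⟩ => by
    refine ⟨h1, fun hle => ?_⟩
    obtain ⟨m, hm⟩ := Ideal.exists_maximal (A ⧸ q.asIdeal)
    have hbot : I.map (Ideal.Quotient.mk q.asIdeal) = ⊥ := by
      rw [Ideal.map_eq_bot_iff_le_ker, Ideal.mk_ker]; exact hle
    have hm0 : m = ⊥ := by
      rw [h2 m hm, hbot]
      exact le_bot_iff.mp ((Ideal.IsPrime.radical_le_iff Ideal.isPrime_bot).mpr le_rfl)
    have hf : IsField (A ⧸ q.asIdeal) := by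
      by_contra hnf
      exact Ring.ne_bot_of_isMaximal_of_not_isField hm hnf hm0
    exact zero_ne_one ((ringKrullDim_eq_zero_of_isField hf).symm.trans h1)
  tfae_have 2 → 1 := fun ⟨h1, h2⟩ => by
    refine ⟨h2, fun y hy hIy => ?_⟩
    by_contra hne
    have : Ring.KrullDimLE 1 (A ⧸ q.asIdeal) := Ring.krullDimLE_iff.mpr h1.le
    have hker : RingHom.ker (Ideal.Quotient.mk q.asIdeal) ≤ y.asIdeal := by rw [Ideal.mk_ker]; exact hy
    have hP : (y.asIdeal.map (Ideal.Quotient.mk q.asIdeal)).IsPrime :=
      Ideal.map_isPrime_of_surjective Ideal.Quotient.mk_surjective hker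
    have h0 : y.asIdeal.map (Ideal.Quotient.mk q.asIdeal) ≠ ⊥ := fun h => hne (PrimeSpectrum.ext (le_antisymm (by
      rwa [Ideal.map_eq_bot_iff_le_ker, Ideal.mk_ker] at h) hy))
    have hmax := Ring.krullDimLE_one_iff_of_noZeroDivisors.mp ‹_› _ h0 hP
    have h' := Ideal.comap_isMaximal_of_surjective (Ideal.Quotient.mk q.asIdeal) Ideal.Quotient.mk_surjective
      (K := y.asIdeal.map (Ideal.Quotient.mk q.asIdeal))
    rw [Ideal.comap_map_of_surjective _ Ideal.Quotient.mk_surjective, ← RingHom.ker_eq_comap_bot,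
      sup_eq_left.mpr hker] at h'
    exact hIy fun x hx => Ideal.mem_sInf.mp (IsAdicComplete.le_jacobson_bot I hx) ⟨bot_le, h'⟩
  tfae_finish

end Groth.Agent.S8804
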