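import Groth.Statements.S8812


set_option autoImplicit false
universe u
open CategoryTheory AlgebraicGeometry
open Algz

namespace Groth.Agent.S8812

/-- Let Y be a Noetherian scheme and Z ⊆ Y a closed subset. If y specializes to y' then δ_Z(y') ≤
δ_Z(y); equivalently each set {y | δ_Z(y) ≤ k} is stable under specialization. -/
theorem result (Y : Scheme.{u}) [IsNoetherian Y] (Z : Set Y) (hZ : IsClosed Z) (y y' : Y) (h : y ⤳ y') : Algz.deltaZ Z y' ≤ Algz.deltaZ Z y := by
  classical
  have mono : ∀ (w v v' : Y) (h : w ⤳ v) (h' : v ⤳ v'), Algz.codimPt w v h ≤ Algz.codimPt w v' (h.trans h') := by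
    intro w v v' h h'
    refine Order.height_le fun l hl => ?_
    let φ : Set.Ici (Specialization.toEquiv v) → Set.Ici (Specialization.toEquiv v') :=
      fun t => ⟨t.1, (show Specialization.ofEquiv t.1 ⤳ v from t.2).trans h'⟩
    exact Order.length_le_height (p := l.map φ fun a b hab => hab) (by rw [LTSeries.last_map, hl])
  refine le_iInf₂ fun k S => ?_
  have hw : S.w (Fin.last k) = y := S.last_eq
  by_cases hk : S.v (Fin.last k) = y
  · -- move the last set down to the closure of `y'`
    let v' : Fin (k + 1) → Y := Function.update S.v (Fin.last k) y'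
    let w' : Fin (k + 1) → Y := Function.update S.w (Fin.last k) y'
    have hv : ∀ i, S.v i ⤳ v' i := fun i => by
      by_cases hi : i = Fin.last k
      · rw [hi]; simp only [v', Function.update_self, hk]; first | exact h | skip
      · simp only [v', Function.update_of_ne hi]; exact specializes_rfl
    have hlast : v' (Fin.last k) = y' := Function.update_self ..
    have hwlast : w' (Fin.last k) = y' := Function.update_self ..
    have hwne : ∀ i, i ≠ Fin.last k → w' i = S.w i := fun i hi => Function.update_of_ne hi ..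
    have hvne : ∀ i, i ≠ Fin.last k → v' i = S.v i := fun i hi => Function.update_of_ne hi ..
    have hne : ∀ i : Fin k, i.castSucc ≠ Fin.last k := fun i => Fin.castSucc_ne_last i
    let T : Algz.DSystem Z y' k :=
      ⟨v', w', fun i => by
        by_cases hi : i = Fin.last k
        · rw [hi, hwlast, hlast]
        · rw [hwne i hi, hvne i hi]; exact S.spec i,
       fun i => by rw [hwne _ (hne i)]; exact (S.spec_succ i).trans (hv _),
       (hv 0).mem_closed hZ S.start_mem, hwlast⟩
    refine (iInf₂_le k T).trans (add_le_add_right (Finset.sup_mono_fun fun i _ => ?_) _)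
    refine tsub_le_tsub (Finset.sum_le_sum fun j _ => ?_) (Finset.sum_le_sum fun j _ => ?_)
    · by_cases hj : j = Fin.last k
      · subst hj
        refine le_of_eq_of_le (Order.height_eq_zero.mpr fun a _ => ?_) zero_le
        show a.1 ∈ Set.Ici (Specialization.toEquiv (w' (Fin.last k)))
        have e : w' (Fin.last k) = v' (Fin.last k) := hwlast.trans hlast.symm
        rw [e]; exact a.2
      · show Algz.codimPt (w' j) (v' j) _ ≤ _
        simp only [hwne j hj, hvne j hj]; exact le_refl _
    · show Algz.codimPt _ _ _ ≤ Algz.codimPt (w' j.castSucc) (v' j.succ) _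
      simp only [hwne _ (hne j)]
      exact mono _ _ _ (S.spec_succ j) (hv _)
  by_cases hyy : y = y'
  · subst hyy; exact iInf₂_le k S
  -- append the closure of `y'`
  let sv : Fin (k + 2) → Y := Fin.snoc S.v y'
  let sw : Fin (k + 2) → Y := Fin.snoc S.w y'
  have v0 : ∀ i, sv (Fin.castSucc i) = S.v i := fun i => Fin.snoc_castSucc ..
  have w0 : ∀ i, sw (Fin.castSucc i) = S.w i := fun i => Fin.snoc_castSucc ..
  have v1 : sv (Fin.last (k + 1)) = y' := Fin.snoc_last ..
  have w1 : sw (Fin.last (k + 1)) = y' := Fin.snoc_last ..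
  let T : Algz.DSystem Z y' (k + 1) :=
    ⟨sv, sw, fun i => by
      refine Fin.lastCases ?_ (fun i => ?_) i
      · rw [v1, w1]
      · rw [v0, w0]; exact S.spec i,
     fun i => by
      refine Fin.lastCases ?_ (fun i => ?_) i
      · rw [Fin.succ_last, v1, w0, hw]; exact h
      · rw [Fin.succ_castSucc, v0, w0]; exact S.spec_succ i,
     by show sv 0 ∈ Z; rw [← Fin.castSucc_zero, v0]; exact S.start_mem,
     w1⟩
  refine (iInf₂_le (k + 1) T).trans ?_
  have hc : ∀ j, T.c j.castSucc = S.c j := fun j => by
    show Algz.codimPt (sw j.castSucc) (sv j.castSucc) _ = _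
    simp only [v0, w0]; rfl
  have hcl : T.c (Fin.last (k + 1)) = 0 := by
    refine Order.height_eq_zero.mpr fun a _ => ?_
    have e1 : T.w (Fin.last (k + 1)) = y' := w1
    have e2 : T.v (Fin.last (k + 1)) = y' := v1
    show a.1 ∈ Set.Ici (Specialization.toEquiv (T.w (Fin.last (k + 1))))
    have e : T.w (Fin.last (k + 1)) = T.v (Fin.last (k + 1)) := e1.trans e2.symm
    rw [e]; exact a.2
  have hb : ∀ j : Fin k, T.b j.castSucc = S.b j := fun j => by
    show Algz.codimPt (sw j.castSucc.castSucc) (sv j.castSucc.succ) _ = _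
    simp only [Fin.succ_castSucc, v0, w0]; rfl
  have pos : ∀ (w v : Y) (hwv : w ⤳ v), w ≠ v → 1 ≤ Algz.codimPt w v hwv := fun w v hwv hne => by
    have hlt : (⟨Specialization.toEquiv v, Set.self_mem_Ici⟩ : Set.Ici (Specialization.toEquiv v)) <
        ⟨Specialization.toEquiv w, Specialization.toEquiv_le_toEquiv.mpr hwv⟩ :=
      lt_iff_le_not_ge.mpr ⟨hwv, fun h' => hne (hwv.antisymm (show v ⤳ w from h')).eq⟩
    let l : LTSeries (Set.Ici (Specialization.toEquiv v)) := (RelSeries.singleton _ _).snoc _ hlt
    exact Order.length_le_height (p := l) (RelSeries.last_snoc _ _ _).le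
  have hbl : 1 ≤ T.b (Fin.last k) := pos _ _ _ (by
    have e1 : T.w (Fin.last k).castSucc = y := (w0 _).trans hw
    have e2 : T.v (Fin.last k).succ = y' := by show sv _ = _; rw [Fin.succ_last, v1]
    rw [e1, e2]; exact hyy)
  have hck : 1 ≤ S.c (Fin.last k) := pos _ _ _ (by rw [hw]; exact fun e => hk e.symm)
  -- the maximum drops by one
  unfold Algz.DSystem.delta
  obtain ⟨i, -, hi⟩ := Finset.exists_mem_eq_sup (Finset.univ : Finset (Fin (k + 1 + 1))) Finset.univ_nonempty
    (fun i : Fin (k + 1 + 1) => (∑ j ∈ Finset.univ.filter (fun j : Fin (k + 1 + 1) => i ≤ j), T.c j) -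
      ∑ j ∈ Finset.univ.filter (fun j : Fin (k + 1) => i.val ≤ j.val), T.b j)
  rw [hi, Nat.cast_succ, add_assoc]
  refine add_le_add_right ?_ _
  revert hi
  refine Fin.lastCases (fun _ => ?_) (fun i _ => ?_) i
  · refine le_trans ?_ (Finset.le_sup (Finset.mem_univ (Fin.last k)))
    have e1 : (Finset.univ.filter fun j : Fin (k + 1 + 1) => Fin.last (k + 1) ≤ j) = {Fin.last (k + 1)} := by
      ext j; simp [Fin.last_le_iff]
    have e2 : (Finset.univ.filter fun j : Fin (k + 1) => Fin.last k ≤ j) = {Fin.last k} := by
      ext j; simp [Fin.last_le_iff]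
    have e3 : (Finset.univ.filter fun j : Fin k => (Fin.last k).val ≤ j.val) = ∅ := by
      ext j; simp
    rw [e1, e2, e3, Finset.sum_singleton, Finset.sum_singleton, hcl, zero_tsub, add_zero, Finset.sum_empty, tsub_zero]
    exact hck
  · by_cases hz : (∑ j ∈ Finset.univ.filter (fun j : Fin (k + 1 + 1) => i.castSucc ≤ j), T.c j) ≤
      ∑ j ∈ Finset.univ.filter (fun j : Fin (k + 1) => i.castSucc.val ≤ j.val), T.b j
    · rw [tsub_eq_zero_iff_le.mpr hz, add_zero]
      refine le_trans ?_ (Finset.le_sup (Finset.mem_univ (Fin.last k)))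
      have e2 : (Finset.univ.filter fun j : Fin (k + 1) => Fin.last k ≤ j) = {Fin.last k} := by
        ext j; simp [Fin.last_le_iff]
      have e3 : (Finset.univ.filter fun j : Fin k => (Fin.last k).val ≤ j.val) = ∅ := by
        ext j; simp
      rw [e2, e3, Finset.sum_singleton, Finset.sum_empty, tsub_zero]
      exact hck
    refine le_trans ?_ (Finset.le_sup (Finset.mem_univ i))
    simp only [Finset.sum_filter, Fin.sum_univ_castSucc (n := k + 1), Fin.sum_univ_castSucc (n := k), hc, hcl, hb,
      Fin.castSucc_le_castSucc_iff, Fin.val_castSucc, Fin.val_last, ite_self, add_zero] at hz ⊢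
    rw [if_pos (Nat.lt_succ_iff.mp i.2)] at hz ⊢
    revert hz hbl
    generalize (∑ j : Fin k, if i.val ≤ j.val then S.b j else 0) = B
    generalize T.b (Fin.last k) = β
    generalize (∑ j : Fin k, if i ≤ j.castSucc then S.c j.castSucc else 0) + _ = A
    intro hbl hz
    cases A with
    | top => cases B <;> cases β <;> simp_all
    | coe A =>
      cases B with
      | top => simp_all
      | coe B =>
        cases β with
        | top => simp_all
        | coe β => norm_cast at *; omega

end Groth.Agent.S8812
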