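import Groth.Statements.S8813


set_option autoImplicit false
universe u
open CategoryTheory AlgebraicGeometry
open Algz

namespace Groth.Agent.S8813

/-- Let Y be a Noetherian scheme, Z ⊆ Y a closed subset, y a point of Y and z a point of Z lying in the
closure of y. Then δ_Z(y) is at most the dimension of the local ring at z of the closure of y with
its reduced structure, that is, the Krull dimension of O_{Y,z}/𝔭 where 𝔭 is the prime ideal of the
local ring O_{Y,z} given by the point of Spec O_{Y,z} that maps to y. -/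
theorem result (Y : Scheme.{u}) [IsNoetherian Y] (Z : Set Y) (hZ : IsClosed Z) (y z : Y) (h : y ⤳ z) (hz : z ∈ Z) (P : PrimeSpectrum (Y.presheaf.stalk z)) (hP : (Y.fromSpecStalk z).base P = y) : ((Algz.deltaZ Z y : ℕ∞) : WithBot ℕ∞) ≤ ringKrullDim (↥(Y.presheaf.stalk z) ⧸ P.asIdeal) := by
  have hsp : ∀ Q Q' : PrimeSpectrum (Y.presheaf.stalk z), Y.fromSpecStalk z Q ⤳ Y.fromSpecStalk z Q' ↔ Q ≤ Q' := fun Q Q' =>
    (Y.fromSpecStalk z).isEmbedding.isInducing.specializes_iff.trans (PrimeSpectrum.le_iff_specializes _ _).symm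
  let S : Algz.DSystem Z y 0 := ⟨fun _ => z, fun _ => y, fun _ => h, fun i => i.elim0, hz, rfl⟩
  have hS : Algz.deltaZ Z y ≤ Algz.codimPt y z h := (iInf₂_le 0 S).trans (by simp [Algz.DSystem.delta, Algz.DSystem.c, S])
  refine le_trans (WithBot.coe_le_coe.mpr hS) ?_
  rw [Algz.codimPt, Order.height_eq_krullDim_Iic, ringKrullDim_quotient]
  rw [← Order.krullDim_orderDual (α := PrimeSpectrum.zeroLocus (R := Y.presheaf.stalk z) (P.asIdeal : Set (Y.presheaf.stalk z)))]
  have mem : ∀ t : Set.Ici (Specialization.toEquiv z), ∃ Q, Y.fromSpecStalk z Q = Specialization.ofEquiv t.1 := fun t => by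
    have : Specialization.ofEquiv t.1 ∈ Set.range (Y.fromSpecStalk z) := by rw [Scheme.range_fromSpecStalk]; exact t.2
    exact this
  choose Q hQ using mem
  refine Order.krullDim_le_of_strictMono (fun t => OrderDual.toDual ⟨Q t.1, (hsp P (Q t.1)).mp ?_⟩) fun a b hab => ?_
  · rw [hQ, hP]; exact t.2
  · refine lt_iff_le_not_ge.mpr ⟨(hsp (Q b.1) (Q a.1)).mp (by rw [hQ, hQ]; exact hab.le), fun h' => hab.not_ge ?_⟩
    have h2 := (hsp (Q a.1) (Q b.1)).mpr h'
    rw [hQ, hQ] at h2
    exact h2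

end Groth.Agent.S8813
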