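import Groth.Statements.S8814


set_option autoImplicit false
universe u
open CategoryTheory AlgebraicGeometry
open Algz

namespace Groth.Agent.S8814

/-- Let Y be a Noetherian scheme, Z ⊆ Y a closed subset and δ a dimension function on Y. If δ_Z(y) is a
natural number n, then δ(y) ≤ n + δ(z) for some z ∈ Z; in other words δ(y) ≤ δ_Z(y) + δ_max with
δ_max the maximum of δ on Z. -/
theorem result (Y : Scheme.{u}) [IsNoetherian Y] (Z : Set Y) (hZ : IsClosed Z) (δ : Y → ℤ) (hδ : Cyc.IsDimFun Y δ) (y : Y) (n : ℕ) (hn : Algz.deltaZ Z y = n) : ∃ z ∈ Z, δ y ≤ n + δ z := by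
  classical
  have hlt : ∀ a b : Y, a ⤳ b → a ≠ b → δ b < δ a := fun a b h hne => (hδ a b h hne).1
  have hle : ∀ a b : Y, a ⤳ b → δ b ≤ δ a := fun a b h => by
    by_cases e : a = b
    · rw [e]
    · exact (hlt a b h e).le
  have cod : ∀ (m : ℕ) (w v : Y) (h : w ⤳ v), δ w = δ v + m → Algz.codimPt w v h = m := by
    intro m w v h hm
    refine le_antisymm (Order.height_le fun l hl => ?_) ?_
    · have key : ∀ i : Fin (l.length + 1), δ v + (i : ℕ) ≤ δ (Specialization.ofEquiv (l i).1) := by
        intro i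
        induction i using Fin.induction with
        | zero => simpa using hle _ _ (show Specialization.ofEquiv (l 0).1 ⤳ v from (l 0).2)
        | succ i ih =>
          have h1 : l i.castSucc < l i.succ := l.step i
          have := hlt (Specialization.ofEquiv (l i.succ).1) (Specialization.ofEquiv (l i.castSucc).1) h1.le
            fun e => h1.ne (Subtype.ext (Specialization.ofEquiv.injective e).symm)
          simp only [Fin.val_castSucc] at ih
          simp only [Fin.val_succ, Nat.cast_add, Nat.cast_one]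
          omega
      have h1 := key (Fin.last _)
      rw [show l (Fin.last _) = l.last from rfl, hl] at h1
      simp only [Fin.val_last] at h1
      change δ v + _ ≤ δ w at h1
      exact_mod_cast (by omega : l.length ≤ m)
    · induction m generalizing w with
      | zero => simp
      | succ m ih =>
        obtain ⟨a, ⟨z, hwz, hzv, hne, rfl⟩, hmax⟩ := Int.exists_greatest_of_bdd
          (P := fun a => ∃ z, w ⤳ z ∧ z ⤳ v ∧ z ≠ w ∧ δ z = a)
          ⟨δ w, fun a ⟨z, hwz, _, _, e⟩ => e ▸ hle _ _ hwz⟩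
          ⟨δ v, v, h, specializes_rfl, fun e => by rw [e] at hm; omega, rfl⟩
        have himm : ∀ t : Y, w ⤳ t → t ⤳ z → t = w ∨ t = z := fun t h1 h2 => by
          by_contra hc
          rw [not_or] at hc
          have := hmax (δ t) ⟨t, h1, h2.trans hzv, hc.1, rfl⟩
          have := hlt t z h2 hc.2
          omega
        have h1 := (hδ w z hwz fun e => hne e.symm).2 himm
        have hi : (m : ℕ∞) ≤ Algz.codimPt z v hzv := ih z hzv (by push_cast at hm; omega)
        have hzw : (⟨Specialization.toEquiv z, Specialization.toEquiv_le_toEquiv.mpr hzv⟩ : Set.Ici (Specialization.toEquiv v)) <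
            ⟨Specialization.toEquiv w, Specialization.toEquiv_le_toEquiv.mpr h⟩ :=
          lt_iff_le_not_ge.mpr ⟨hwz, fun hh => hne (((show z ⤳ w from hh).antisymm hwz).eq)⟩
        rw [Nat.cast_succ]
        refine le_trans (add_le_add_left hi 1) ?_
        exact Order.height_add_one_le hzw
  unfold Algz.deltaZ at hn
  obtain ⟨k, S, hS⟩ : ∃ k, ∃ S : Algz.DSystem Z y k, S.delta ≤ n := by
    by_contra hc
    push Not at hc
    have h1 : ((n : ℕ∞) + 1) ≤ ⨅ (k : ℕ) (S : Algz.DSystem Z y k), S.delta :=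
      le_iInf₂ fun k S => Order.add_one_le_of_lt (hc k S)
    rw [hn] at h1
    have : n + 1 ≤ n := by exact_mod_cast h1
    omega
  refine ⟨S.v 0, S.start_mem, ?_⟩
  have hc : ∀ i, S.c i = ((δ (S.w i) - δ (S.v i)).toNat : ℕ) := fun i => cod _ _ _ _ (by
    have := hle _ _ (S.spec i); omega)
  have hb : ∀ i, S.b i = ((δ (S.w i.castSucc) - δ (S.v i.succ)).toNat : ℕ) := fun i => cod _ _ _ _ (by
    have := hle _ _ (S.spec_succ i); omega)
  have h2 := (add_le_add_right (Finset.le_sup (Finset.mem_univ (0 : Fin (k + 1)))) (k : ℕ∞)).trans hS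
  simp only [hc, hb, Fin.zero_le, Finset.filter_true, Fin.val_zero, Nat.zero_le] at h2
  rw [← Nat.cast_sum, ← Nat.cast_sum, ← ENat.natCast_sub, ← Nat.cast_add] at h2
  have h3 : k + (_ - _) ≤ n := Nat.cast_le.mp h2
  have tel : ∑ i : Fin (k + 1), (δ (S.w i) - δ (S.v i)) =
      ∑ i : Fin k, (δ (S.w i.castSucc) - δ (S.v i.succ)) + (δ (S.w (Fin.last k)) - δ (S.v 0)) := by
    simp only [Finset.sum_sub_distrib]
    rw [Fin.sum_univ_castSucc (fun i => δ (S.w i)), Fin.sum_univ_succ (fun i => δ (S.v i))]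
    ring
  have e1 : ((∑ i : Fin (k + 1), (δ (S.w i) - δ (S.v i)).toNat : ℕ) : ℤ) = ∑ i : Fin (k + 1), (δ (S.w i) - δ (S.v i)) := by
    push_cast
    exact Finset.sum_congr rfl fun i _ => Int.toNat_of_nonneg (sub_nonneg.mpr (hle _ _ (S.spec i)))
  have e2 : ((∑ i : Fin k, (δ (S.w i.castSucc) - δ (S.v i.succ)).toNat : ℕ) : ℤ) = ∑ i : Fin k, (δ (S.w i.castSucc) - δ (S.v i.succ)) := by
    push_cast
    exact Finset.sum_congr rfl fun i _ => Int.toNat_of_nonneg (sub_nonneg.mpr (hle _ _ (S.spec_succ i)))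
  rw [S.last_eq] at tel
  omega

end Groth.Agent.S8814
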