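import Groth.Statements.S8815
import Groth.Agent.HensPair.Catenary
import Mathlib.RingTheory.Ideal.KrullsHeightTheorem

set_option autoImplicit false
universe u
open CategoryTheory AlgebraicGeometry
open Algz

namespace Groth.Agent.S8815

/-- Let A be a catenary Noetherian local ring, Y = Spec A and Z the closed point. Then δ_Z(y) equals the
dimension of the closure of y, i.e. dim(A/p_y), for every point y. -/
theorem result (A : Type u) [CommRing A] [IsNoetherianRing A] [IsLocalRing A] (hA : CAlg.IsCatenary A) (y : Spec (CommRingCat.of A)) : ((Algz.deltaZ ({IsLocalRing.closedPoint A} : Set (Spec (CommRingCat.of A))) y : ℕ∞) : WithBot ℕ∞) = ringKrullDim (A ⧸ y.asIdeal) := by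
  open Groth.Agent.HensPair.Catenary in
  classical
  suffices H : ∀ y : PrimeSpectrum A, ((Algz.deltaZ (Y := PrimeSpectrum A) {IsLocalRing.closedPoint A} y : ℕ∞) : WithBot ℕ∞)
      = ringKrullDim (A ⧸ y.asIdeal) from H y
  clear y
  intro y
  have N : ∀ p q : PrimeSpectrum A, p ≤ q → ∃ n : ℕ, ∃ s : LTSeries (PrimeSpectrum A),
      s.head = p ∧ s.last = q ∧ IsMaxChain s ∧ s.length = n := fun p q h => by
    obtain ⟨s, h1, h2, h3⟩ := exists_max hA p q h
    exact ⟨s.length, s, h1, h2, h3, rfl⟩
  choose n s hs0 hs1 hsm hsn using N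
  let m : PrimeSpectrum A := IsLocalRing.closedPoint A
  have hm : ∀ p : PrimeSpectrum A, p ≤ m := fun p => IsLocalRing.le_maximalIdeal p.2.ne_top
  let D : PrimeSpectrum A → ℕ := fun p => n p m (hm p)
  have add : ∀ p q (h : p ≤ q), n p q h + D q = D p := fun p q h => by
    simp only [D, ← hsn]
    exact max_add hA (hsm p q h) (hsm q m (hm q)) (hsm p m (hm p)) ((hs0 ..).trans (hs0 ..).symm)
      ((hs1 ..).trans (hs0 ..).symm) ((hs1 ..).trans (hs1 ..).symm)
  have sp : ∀ {w v : PrimeSpectrum A}, w ⤳ v → (w : PrimeSpectrum A) ≤ v :=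
    fun h => (PrimeSpectrum.le_iff_specializes _ _).mpr h
  have cod : ∀ (w v : PrimeSpectrum A) (h : w ⤳ v), Algz.codimPt w v h = (n w v (sp h) : ℕ) := by
    intro w v h
    rw [← hsn]
    refine le_antisymm (Order.height_le fun l hl => ?_) ?_
    · let pr : Set.Ici (Specialization.toEquiv v) → (PrimeSpectrum A)ᵒᵈ :=
        fun z => OrderDual.toDual (Specialization.ofEquiv z.1 : PrimeSpectrum A)
      have hpr : StrictMono pr := fun a b hab => by
        refine lt_of_le_of_ne ((PrimeSpectrum.le_iff_specializes _ _).mpr hab.le) fun e => hab.ne ?_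
        exact Subtype.ext (Specialization.ofEquiv.injective e)
      let t : LTSeries (PrimeSpectrum A) := (l.map pr hpr).reverse
      have ht0 : t.head = w := by
        refine (RelSeries.head_reverse (l.map pr hpr)).trans ?_
        rw [LTSeries.last_map, hl]
        rfl
      have ht1 : t.last ≤ v := by
        refine le_of_eq_of_le (RelSeries.last_reverse (l.map pr hpr)) ?_
        rw [LTSeries.head_map]
        exact sp (show Specialization.ofEquiv l.head.1 ⤳ v from l.head.2)
      have hlen : t.length = l.length := rfl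
      rcases ht1.lt_or_eq with h' | h'
      · have := hsm w v (sp h) (t.snoc v h') (by rw [RelSeries.head_snoc, ht0, hs0]) (by rw [RelSeries.last_snoc, hs1])
        rw [RelSeries.snoc_length] at this
        exact_mod_cast (by omega : l.length ≤ (s w v (sp h)).length)
      · have := hsm w v (sp h) t (by rw [ht0, hs0]) (by rw [h', hs1])
        exact_mod_cast (by omega : l.length ≤ (s w v (sp h)).length)
    · let c := s w v (sp h)
      have hc : ∀ i, c i ≤ v := fun i => (c.monotone (Fin.le_last i)).trans (hs1 w v (sp h)).le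
      let l : LTSeries (Set.Ici (Specialization.toEquiv v)) :=
        ⟨c.length, fun i => ⟨Specialization.toEquiv (c i.rev : PrimeSpectrum A),
          (PrimeSpectrum.le_iff_specializes _ _).mp (hc _)⟩, fun i => by
          have hlt : c i.succ.rev < c i.castSucc.rev := c.strictMono (Fin.rev_lt_rev.mpr Fin.castSucc_lt_succ)
          exact lt_iff_le_not_ge.mpr ⟨(PrimeSpectrum.le_iff_specializes _ _).mp hlt.le,
            fun hge => hlt.not_ge ((PrimeSpectrum.le_iff_specializes _ _).mpr hge)⟩⟩
      have hl : l.last = ⟨Specialization.toEquiv w, Specialization.toEquiv_le_toEquiv.mpr h⟩ := by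
        refine Subtype.ext (congrArg Specialization.toEquiv ?_)
        show c (Fin.last _).rev = w
        rw [Fin.rev_last]; exact hs0 w v (sp h)
      exact Order.length_le_height (p := l) hl.le
  have hdim : ringKrullDim (A ⧸ y.asIdeal) = ((D y : ℕ) : ℕ∞) := by
    haveI : Nontrivial (A ⧸ y.asIdeal) := Ideal.Quotient.nontrivial_iff.mpr y.2.ne_top
    haveI : IsLocalRing (A ⧸ y.asIdeal) := .of_surjective' _ Ideal.Quotient.mk_surjective
    rw [← IsLocalRing.maximalIdeal_height_eq_ringKrullDim,
      ← IsLocalRing.map_maximalIdeal_of_surjective (Ideal.Quotient.mk y.asIdeal) Ideal.Quotient.mk_surjective]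
    have h2 := height_map_eq (hsm y m (hm y))
    rw [hs0, hs1, hsn] at h2
    exact congrArg _ h2
  rw [hdim]
  refine congrArg (WithBot.some) (le_antisymm ?_ ?_)
  · have hy : (y : PrimeSpectrum A) ⤳ (m : PrimeSpectrum A) := (PrimeSpectrum.le_iff_specializes _ _).mp (hm y)
    let S : Algz.DSystem ({IsLocalRing.closedPoint A} : Set (PrimeSpectrum A)) y 0 :=
      ⟨fun _ => m, fun _ => y, fun _ => hy, fun i => i.elim0, rfl, rfl⟩
    refine (iInf₂_le 0 S).trans ?_
    simp [Algz.DSystem.delta, Algz.DSystem.c, S, cod, D]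
  · refine le_iInf₂ fun k S => ?_
    let dv : ℕ → ℕ := fun i => if h : i < k + 1 then D (S.v ⟨i, h⟩) else 0
    let dw : ℕ → ℕ := fun i => if h : i < k + 1 then D (S.w ⟨i, h⟩) else 0
    have hc : ∀ i : Fin (k + 1), (S.c i) = ((dw i - dv i : ℕ) : ℕ∞) ∧ dv i ≤ dw i := fun i => by
      have := add _ _ (sp (S.spec i))
      simp only [dv, dw, i.2, dif_pos, Fin.eta]
      refine ⟨(cod _ _ _).trans ?_, by omega⟩
      congr 1; omega
    have hb : ∀ i : Fin k, (S.b i) = ((dw i - dv (i + 1) : ℕ) : ℕ∞) ∧ dv (i + 1) ≤ dw i := fun i => by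
      have := add _ _ (sp (S.spec_succ i))
      simp only [dv, dw, dif_pos (Nat.lt_succ_of_lt i.2), dif_pos (Nat.succ_lt_succ i.2)]
      refine ⟨(cod _ _ _).trans ?_, by exact Nat.le.intro (by rw [add_comm]; exact this)⟩
      congr 1
      exact (Nat.sub_eq_of_eq_add this.symm).symm
    have tel : ∀ j ≤ k, (∀ i < j + 1, dv i ≤ dw i) → (∀ i < j, dv (i + 1) ≤ dw i) →
        ∑ i ∈ Finset.range (j + 1), (dw i - dv i) + dv 0 = ∑ i ∈ Finset.range j, (dw i - dv (i + 1)) + dw j := by
      intro j
      induction j with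
      | zero => intro _ h1 _; have := h1 0 (by omega); simp; omega
      | succ j ih =>
        intro hj h1 h2
        have := ih (by omega) (fun i hi => h1 i (by omega)) (fun i hi => h2 i (by omega))
        rw [Finset.sum_range_succ _ (j + 1), Finset.sum_range_succ (fun i => dw i - dv (i + 1)) j]
        have := h1 (j + 1) (by omega)
        have := h2 j (by omega)
        omega
    have h0 : dv 0 = 0 := by
      have e : S.v 0 = m := S.start_mem
      simp only [dv, Nat.zero_lt_succ, dif_pos]
      show D (S.v 0) = 0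
      rw [e]
      have := add m m le_rfl
      have hh : n m m le_rfl = D m := rfl
      omega
    have hk : dw k = D y := by
      simp only [dw, Nat.lt_succ_self, dif_pos]
      exact congrArg D S.last_eq
    have key := tel k le_rfl (fun i hi => (hc ⟨i, hi⟩).2) (fun i hi => (hb ⟨i, hi⟩).2)
    refine le_trans ?_ (le_trans (Finset.le_sup (Finset.mem_univ (0 : Fin (k + 1)))) le_add_self)
    simp only [(hc _).1, (hb _).1, Fin.zero_le, Finset.filter_true, Fin.val_zero, Nat.zero_le]
    rw [← Nat.cast_sum, ← Nat.cast_sum, Fin.sum_univ_eq_sum_range (fun i => dw i - dv i),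
      Fin.sum_univ_eq_sum_range (fun i => dw i - dv (i + 1)), ← ENat.natCast_sub]
    exact Nat.cast_le.mpr (by omega)

end Groth.Agent.S8815
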