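import Groth.Statements.S8816


set_option autoImplicit false
universe u
open CategoryTheory AlgebraicGeometry
open Algz

namespace Groth.Agent.S8816

/-- Let Y be a Noetherian scheme and Z ⊆ Y closed. Given points y_0, …, y_k and y'_0, …, y'_{k-1} of Y
with y_0 ∈ Z such that each y'_i specializes to y_{i+1} with y'_i ≠ y_{i+1}, and each y'_i ⤳ y_i is
an immediate specialization (y'_i ≠ y_i and no point strictly between), one has δ_Z(y_k) ≤ k. (The
published statement also allows y'_i = y_{i+1}. In that generality the bound needs catenarity: for a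
Noetherian local domain of dimension 3 having a saturated chain of primes (0) ⊂ 𝔭 ⊂ 𝔪 of length 2,
with Z the closed point and the pattern y_0 = 𝔪, y'_0 = y_1 = 𝔭, y'_1 = y_2 = (0), one has k = 2 but
δ_Z((0)) = 3. The published proof handles nontrivial specializations y'_i ⤳ y_{i+1}, for which the
closures of the y_i and y'_i form a system of value k, and reduces to that case by shortening the
chain, which does not preserve immediacy; this row states the case the proof establishes.) -/
theorem result (Y : Scheme.{u}) [IsNoetherian Y] (Z : Set Y) (hZ : IsClosed Z) (k : ℕ) (y : Fin (k + 1) → Y) (y' : Fin k → Y) (h0 : y 0 ∈ Z) (hdown : ∀ i : Fin k, y' i ⤳ y i.castSucc ∧ y' i ≠ y i.castSucc ∧ ∀ z : Y, y' i ⤳ z → z ⤳ y i.castSucc → z = y' i ∨ z = y i.castSucc) (hup : ∀ i : Fin k, y' i ⤳ y i.succ ∧ y' i ≠ y i.succ) : Algz.deltaZ Z (y (Fin.last k)) ≤ k := by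
  classical
  let w : Fin (k + 1) → Y := Fin.snoc y' (y (Fin.last k))
  have hwc : ∀ i : Fin k, w i.castSucc = y' i := fun i => Fin.snoc_castSucc ..
  have hwl : w (Fin.last k) = y (Fin.last k) := Fin.snoc_last ..
  have spec : ∀ i, w i ⤳ y i := by
    refine Fin.lastCases ?_ fun i => ?_
    · rw [hwl]
    · rw [hwc]; exact (hdown i).1
  let S : Algz.DSystem Z (y (Fin.last k)) k :=
    ⟨y, w, spec, fun i => by rw [hwc]; exact (hup i).1, h0, hwl⟩
  have hck : S.c (Fin.last k) = 0 := by
    refine Order.height_eq_zero.mpr fun a _ => ?_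
    show Specialization.toEquiv (w (Fin.last k)) ≤ a.1
    rw [hwl]; exact a.2
  have hci : ∀ i : Fin k, S.c i.castSucc ≤ 1 := fun i => by
    refine Order.height_le fun l hl => ?_
    by_contra hlen
    have h2 : 2 ≤ l.length := by
      by_contra h
      exact hlen (by exact_mod_cast (by omega : l.length ≤ 1))
    have m1 : l ⟨0, by omega⟩ < l ⟨1, by omega⟩ := l.strictMono (Fin.mk_lt_mk.mpr Nat.zero_lt_one)
    have m2 : l ⟨1, by omega⟩ < l.last := l.strictMono (by simp [Fin.lt_def]; omega)
    rw [hl] at m2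
    let z : Y := Specialization.ofEquiv (l ⟨1, by omega⟩).1
    have hz1 : y' i ⤳ z := (hwc i) ▸ (m2.le : _)
    have hz2 : z ⤳ y i.castSucc := (l ⟨1, by omega⟩).2
    rcases (hdown i).2.2 z hz1 hz2 with h | h
    · exact m2.not_ge (show z ⤳ w i.castSucc by rw [h, hwc])
    · exact m1.not_ge (show Specialization.ofEquiv (l ⟨0, by omega⟩).1 ⤳ z by rw [h]; exact (l ⟨0, by omega⟩).2)
  have hbi : ∀ i : Fin k, 1 ≤ S.b i := fun i => by
    have hlt : (⟨Specialization.toEquiv (y i.succ), Set.self_mem_Ici⟩ : Set.Ici (Specialization.toEquiv (y i.succ))) <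
        ⟨Specialization.toEquiv (w i.castSucc), Specialization.toEquiv_le_toEquiv.mpr (S.spec_succ i)⟩ :=
      lt_iff_le_not_ge.mpr ⟨S.spec_succ i, fun h => by
        have h' : y i.succ ⤳ w i.castSucc := h
        rw [hwc] at h'
        exact (hup i).2 ((hup i).1.antisymm h').eq⟩
    let l : LTSeries (Set.Ici (Specialization.toEquiv (y i.succ))) :=
      (RelSeries.singleton _ ⟨Specialization.toEquiv (y i.succ), Set.self_mem_Ici⟩).snoc
        ⟨Specialization.toEquiv (w i.castSucc), Specialization.toEquiv_le_toEquiv.mpr (S.spec_succ i)⟩ hlt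
    exact Order.length_le_height (p := l) (RelSeries.last_snoc _ _ _).le
  refine (iInf₂_le k S).trans ?_
  refine le_of_le_of_eq (add_le_add_right (Finset.sup_le fun i _ => ?_) _) (add_zero _)
  rw [nonpos_iff_eq_zero, tsub_eq_zero_iff_le, Finset.sum_filter, Finset.sum_filter, Fin.sum_univ_castSucc, hck, ite_self, add_zero]
  refine Finset.sum_le_sum fun j _ => ?_
  by_cases h : i.val ≤ j.val
  · rw [if_pos h, if_pos (show i ≤ j.castSucc from h)]
    exact (hci j).trans (hbi j)
  · rw [if_neg h, if_neg (show ¬ i ≤ j.castSucc from h)]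

end Groth.Agent.S8816
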