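import Groth.Statements.S8817


set_option autoImplicit false
universe u
open CategoryTheory AlgebraicGeometry
open Algz

namespace Groth.Agent.S8817

/-- Let Y be a Noetherian scheme, Z ⊆ Y a closed subset and Y' ⊆ Y an open subscheme. For a point y' of
Y' the distance function of Y' relative to Y' ∩ Z at y' is at least the distance function of Y
relative to Z at y'. -/
theorem result (Y : Scheme.{u}) [IsNoetherian Y] (Z : Set Y) (hZ : IsClosed Z) (Y' : Y.Opens) (y' : (↑Y' : Scheme.{u})) : Algz.deltaZ Z (Y'.ι.base y') ≤ Algz.deltaZ ((fun x : (↑Y' : Scheme.{u}) => Y'.ι.base x) ⁻¹' Z) y' := by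
  classical
  let ι : (↑Y' : Scheme.{u}) → Y := fun x => Y'.ι.base x
  have hsp : ∀ a b : (↑Y' : Scheme.{u}), ι a ⤳ ι b ↔ a ⤳ b := fun a b => Y'.ι.isEmbedding.isInducing.specializes_iff
  have cod : ∀ (w v : (↑Y' : Scheme.{u})) (h : w ⤳ v), Algz.codimPt (ι w) (ι v) ((hsp w v).mpr h) = Algz.codimPt w v h := by
    intro w v h
    have hmem : ∀ t : Set.Ici (Specialization.toEquiv (ι v)), (Specialization.ofEquiv t.1 : Y) ∈ Y' := fun t =>
      (show Specialization.ofEquiv t.1 ⤳ ι v from t.2).mem_open Y'.2 v.2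
    let e : Set.Ici (Specialization.toEquiv v) ≃o Set.Ici (Specialization.toEquiv (ι v)) :=
      { toFun := fun t => ⟨Specialization.toEquiv (ι (Specialization.ofEquiv t.1)), (hsp _ _).mpr t.2⟩
        invFun := fun t => ⟨Specialization.toEquiv (⟨Specialization.ofEquiv t.1, hmem t⟩ : (↑Y' : Scheme.{u})),
          (hsp (⟨Specialization.ofEquiv t.1, hmem t⟩ : (↑Y' : Scheme.{u})) v).mp t.2⟩
        left_inv := fun t => rfl
        right_inv := fun t => rfl
        map_rel_iff' := fun {a b} => hsp (Specialization.ofEquiv b.1) (Specialization.ofEquiv a.1) }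
    exact Order.height_orderIso e ⟨Specialization.toEquiv w, Specialization.toEquiv_le_toEquiv.mpr h⟩
  refine le_iInf₂ fun k S => ?_
  let T : Algz.DSystem Z (Y'.ι.base y') k :=
    ⟨fun i => ι (S.v i), fun i => ι (S.w i), fun i => (hsp _ _).mpr (S.spec i), fun i => (hsp _ _).mpr (S.spec_succ i),
      S.start_mem, congrArg ι S.last_eq⟩
  refine (iInf₂_le k T).trans ?_
  have hc : T.c = S.c := funext fun i => cod _ _ (S.spec i)
  have hb : T.b = S.b := funext fun i => cod _ _ (S.spec_succ i)
  simp only [Algz.DSystem.delta, hc, hb, le_refl]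

end Groth.Agent.S8817
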