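import Groth.Statements.S8820
import Groth.Agent.HensPair.JacobsonDim
import Groth.Agent.HensPair.FibreTrdeg

set_option autoImplicit false
universe u
open CategoryTheory AlgebraicGeometry Limits
open Algz

namespace Groth.Agent.S8820

/-- Let Y be a universally catenary Noetherian scheme (every local ring universally catenary), Z ⊆ Y a
closed subset, f : Y' → Y a morphism of finite type from a Noetherian scheme all of whose fibres
have dimension at most e, and Z' = f⁻¹(Z). Then for every point y' of Y' with image y, if the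
residue field extension κ(y')/κ(y) has transcendence degree t, one has δ_Z(y) + t ≤ δ_{Z'}(y') + e
(equivalently δ_Z(y) ≤ δ_{Z'}(y') + e − t; written without subtraction). -/
theorem result (Y Y' : Scheme.{u}) [IsNoetherian Y] [IsNoetherian Y'] (hY : ∀ y : Y, CAlg.IsUniversallyCatenary (Y.presheaf.stalk y)) (Z : Set Y) (hZ : IsClosed Z) (f : Y' ⟶ Y) [LocallyOfFiniteType f] (e : ℕ) (hfib : ∀ y : Y, topologicalKrullDim ↑(pullback f (Y.fromSpecResidueField y)) ≤ (e : WithBot ℕ∞)) (y' : Y') (t : ℕ) (ht : @Algebra.trdeg (Y.residueField (f.base y')) (Y'.residueField y') _ _ (f.residueFieldMap y').hom.toAlgebra = t) : Algz.deltaZ Z (f.base y') + t ≤ Algz.deltaZ (f.base ⁻¹' Z) y' + e := by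
  open Groth.Agent.HensPair in
  classical
  have hcod : ∀ (X : Scheme.{u}) (w v : X) (h : w ⤳ v), ((Algz.codimPt w v h : ℕ∞) : WithBot ℕ∞) = CatScheme.cd w v := by
    intro X w v h
    rw [Algz.codimPt, Order.height_eq_krullDim_Iic]
    let e : Set.Iic (⟨Specialization.toEquiv w, Specialization.toEquiv_le_toEquiv.mpr h⟩ : Set.Ici (Specialization.toEquiv v)) ≃o
        ({t : X | w ⤳ t ∧ t ⤳ v} : Set X) :=
      { toFun := fun t => ⟨Specialization.ofEquiv t.1.1, t.2, t.1.2⟩
        invFun := fun t => ⟨⟨Specialization.toEquiv t.1, t.2.2⟩, t.2.1⟩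
        left_inv := fun _ => rfl
        right_inv := fun _ => rfl
        map_rel_iff' := Iff.rfl }
    exact Order.krullDim_eq_of_orderIso e
  have num : ∀ (X : Scheme.{u}) [IsLocallyNoetherian X] (w v : X) (h : w ⤳ v),
      ∃ n : ℕ, Algz.codimPt w v h = (n : ℕ) ∧ CatScheme.cd w v = (n : ℕ) := fun X _ w v h => by
    obtain ⟨n, hn⟩ := JacobsonDim.cd_nat w v h
    exact ⟨n, WithBot.coe_injective ((hcod X w v h).trans hn), hn⟩
  have htT : FibreTrdeg.T f y' = t := by
    have h := FibreTrdeg.T_spec f y'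
    rw [ht] at h
    exact_mod_cast h.symm
  have hTe : ∀ z : Y', FibreTrdeg.T f z ≤ e := fun z => by
    have h := ((FibreTrdeg.T_le_fibreDimAt f z).trans (Groth.Agent.Equidim.fibreDimAt_le_dim f z)).trans (hfib (f z))
    exact_mod_cast h
  conv_rhs => rw [Algz.deltaZ, ENat.iInf_add]
  refine le_iInf fun k => ?_
  rw [ENat.iInf_add]
  refine le_iInf fun S => ?_
  let R : Algz.DSystem Z (f.base y') k :=
    ⟨fun i => f (S.v i), fun i => f (S.w i), fun i => (S.spec i).map f.continuous,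
      fun i => (S.spec_succ i).map f.continuous, S.start_mem, congrArg f S.last_eq⟩
  refine (add_le_add_left (iInf₂_le k R) _).trans ?_
  have alt : ∀ (w v : Y') (h : w ⤳ v), ∃ i j : ℕ, Algz.codimPt w v h = (i : ℕ) ∧
      Algz.codimPt (f w) (f v) (h.map f.continuous) = (j : ℕ) ∧ i + FibreTrdeg.T f v = j + FibreTrdeg.T f w := fun w v h => by
    obtain ⟨i, hi, hi'⟩ := num Y' w v h
    obtain ⟨j, hj, hj'⟩ := num Y (f w) (f v) (h.map f.continuous)
    obtain ⟨j₁, i₁, h1, h2, -, heq⟩ := CatScheme.alt f v w h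
    rw [hi'] at h1
    rw [hj'] at h2
    have e1 : i = i₁ := by exact_mod_cast h1
    have e2 : j = j₁ := by exact_mod_cast h2
    exact ⟨i, j, hi, hj, by rw [e1, e2]; exact heq (hY _)⟩
  choose ci cj hci hcj hc using fun i => alt _ _ (S.spec i)
  choose bi bj hbi hbj hb using fun i => alt _ _ (S.spec_succ i)
  have eS1 : S.c = fun i => (ci i : ℕ∞) := funext hci
  have eS2 : S.b = fun i => (bi i : ℕ∞) := funext hbi
  have eR1 : R.c = fun i => (cj i : ℕ∞) := funext hcj
  have eR2 : R.b = fun i => (bj i : ℕ∞) := funext hbj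
  simp only [Algz.DSystem.delta, eS1, eS2, eR1, eR2]
  rw [add_assoc, add_assoc]
  refine add_le_add_right ?_ _
  obtain ⟨i, -, hi⟩ := Finset.exists_mem_eq_sup (Finset.univ : Finset (Fin (k + 1))) Finset.univ_nonempty
    (fun i : Fin (k + 1) => ∑ j ∈ Finset.univ.filter (fun j : Fin (k + 1) => i ≤ j), (cj j : ℕ∞) -
      ∑ j ∈ Finset.univ.filter (fun j : Fin k => i.val ≤ j.val), (bj j : ℕ∞))
  rw [hi]
  refine le_trans ?_ (add_le_add_left (Finset.le_sup (Finset.mem_univ i)) _)
  rw [← Nat.cast_sum, ← Nat.cast_sum, ← Nat.cast_sum, ← Nat.cast_sum, ← ENat.natCast_sub, ← ENat.natCast_sub,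
    ← Nat.cast_add, ← Nat.cast_add, Nat.cast_le]
  let Tw : ℕ → ℕ := fun j => if h : j < k + 1 then FibreTrdeg.T f (S.w ⟨j, h⟩) else 0
  let Tv : ℕ → ℕ := fun j => if h : j < k + 1 then FibreTrdeg.T f (S.v ⟨j, h⟩) else 0
  have h1 : ∀ j : Fin (k + 1), ((ci j : ℕ) : ℤ) - cj j = Tw j - Tv j := fun j => by
    simp only [Tw, Tv, j.2, dif_pos, Fin.eta]; have := hc j; omega
  have h2 : ∀ j : Fin k, ((bi j : ℕ) : ℤ) - bj j = Tw j - Tv (j.val + 1) := fun j => by
    simp only [Tw, Tv, dif_pos (Nat.lt_succ_of_lt j.2), dif_pos (Nat.succ_lt_succ j.2)]; exact (by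
      have := hb j
      show ((bi j : ℕ) : ℤ) - bj j = (FibreTrdeg.T f (S.w j.castSucc) : ℤ) - FibreTrdeg.T f (S.v j.succ)
      omega)
  have A : ((∑ j ∈ Finset.univ.filter (fun j : Fin (k + 1) => i ≤ j), ci j : ℕ) : ℤ) -
      (∑ j ∈ Finset.univ.filter (fun j : Fin (k + 1) => i ≤ j), cj j : ℕ) =
      ∑ j ∈ Finset.Ico i.val (k + 1), ((Tw j : ℤ) - Tv j) := by
    push_cast
    rw [← Finset.sum_sub_distrib, Finset.sum_congr rfl fun j _ => h1 j]
    simp only [Fin.le_def]
    rw [Finset.sum_filter, Fin.sum_univ_eq_sum_range (fun j => if i.val ≤ j then ((Tw j : ℤ) - Tv j) else 0), ← Finset.sum_filter]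
    refine Finset.sum_congr ?_ fun _ _ => rfl
    ext j; simp only [Finset.mem_filter, Finset.mem_range, Finset.mem_Ico]; omega
  have B : ((∑ j ∈ Finset.univ.filter (fun j : Fin k => i.val ≤ j.val), bi j : ℕ) : ℤ) -
      (∑ j ∈ Finset.univ.filter (fun j : Fin k => i.val ≤ j.val), bj j : ℕ) =
      ∑ j ∈ Finset.Ico i.val k, ((Tw j : ℤ) - Tv (j + 1)) := by
    push_cast
    rw [← Finset.sum_sub_distrib, Finset.sum_congr rfl fun j _ => h2 j]
    rw [Finset.sum_filter, Fin.sum_univ_eq_sum_range (fun j => if i.val ≤ j then ((Tw j : ℤ) - Tv (j + 1)) else 0), ← Finset.sum_filter]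
    refine Finset.sum_congr ?_ fun _ _ => rfl
    ext j; simp only [Finset.mem_filter, Finset.mem_range, Finset.mem_Ico]; omega
  have tel : ∀ n, i.val ≤ n → ∑ j ∈ Finset.Ico i.val (n + 1), ((Tw j : ℤ) - Tv j) -
      ∑ j ∈ Finset.Ico i.val n, ((Tw j : ℤ) - Tv (j + 1)) = Tw n - Tv i.val := by
    intro n hn
    induction n, hn using Nat.le_induction with
    | base => simp
    | succ n hn ih =>
      rw [Finset.sum_Ico_succ_top (by omega : i.val ≤ n + 1), Finset.sum_Ico_succ_top hn]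
      rw [Finset.sum_Ico_succ_top hn (fun j => ((Tw j : ℤ) - Tv (j + 1)))]
      rw [Finset.sum_Ico_succ_top hn] at ih
      linarith
  have key := tel k (Nat.lt_succ_iff.mp i.2)
  have hk : Tw k = t := by
    simp only [Tw, Nat.lt_succ_self, dif_pos]
    rw [show S.w ⟨k, Nat.lt_succ_self k⟩ = y' from S.last_eq, htT]
  have hv : Tv i.val ≤ e := by
    simp only [Tv, i.2, dif_pos, Fin.eta]; exact hTe _
  have hte : t ≤ e := htT ▸ hTe y'
  omega

end Groth.Agent.S8820
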