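import Groth.Statements.S8834
import Mathlib.RingTheory.FiniteType
import Mathlib.RingTheory.Finiteness.Ideal
import Mathlib.RingTheory.Ideal.Operations

set_option autoImplicit false
universe u
open AdicRing

namespace Groth.Agent.S8834

/-- Let A be a Noetherian ring complete for the adic topology of an ideal I and B a Noetherian ring
complete for the adic topology of an ideal J, with an algebra map A → B sending I into the radical
of J (a continuous homomorphism of adic Noetherian topological rings; the radicals of I and J are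
the ideals of topologically nilpotent elements). Assume B/√J is of finite type over A, equivalently
over A/√I. Then B is topologically of finite type over A: there are b_1, …, b_s ∈ B such that the
A-algebra map A[x_1, …, x_s] → B with x_i ↦ b_i has dense image for the J-adic topology, that is,
for every y ∈ B and every n there is a polynomial whose value at b differs from y by an element of
J^n. -/
theorem result (A : Type u) [CommRing A] [IsNoetherianRing A] (I : Ideal A) [IsAdicComplete I A] (B : Type u) [CommRing B] [Algebra A B] [IsNoetherianRing B] (J : Ideal B) [IsAdicComplete J B] (hIJ : I.map (algebraMap A B) ≤ J.radical) (hft : Algebra.FiniteType A (B ⧸ J.radical)) : ∃ s : ℕ, ∃ b : Fin s → B, ∀ (y : B) (n : ℕ), ∃ p : MvPolynomial (Fin s) A, y - MvPolynomial.aeval b p ∈ J ^ n := by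
  classical
  obtain ⟨N, hN⟩ := Ideal.exists_radical_pow_le_of_fg J J.radical.fg_of_isNoetherianRing
  obtain ⟨t, ht⟩ := (IsNoetherian.noetherian J.radical : J.radical.FG)
  obtain ⟨g, hg⟩ := hft.1
  choose w hw using fun y : g => Ideal.Quotient.mk_surjective y.1
  let T : Finset B := t ∪ Finset.univ.image w
  let S : Subalgebra A B := Algebra.adjoin A (T : Set B)
  have hmod : ∀ y : B, ∃ p ∈ S, y - p ∈ J.radical := by
    intro y
    have hmap : S.map (Ideal.Quotient.mkₐ A J.radical) = ⊤ := by
      rw [eq_top_iff, ← hg, AlgHom.map_adjoin]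
      refine Algebra.adjoin_mono fun q hq => ⟨w ⟨q, hq⟩, ?_, hw ⟨q, hq⟩⟩
      simp [T]
    obtain ⟨p, hp, hpy⟩ := (hmap ▸ Algebra.mem_top : Ideal.Quotient.mkₐ A J.radical y ∈ S.map _)
    exact ⟨p, hp, Ideal.Quotient.eq.mp hpy.symm⟩
  have hstep : ∀ n, ∀ z ∈ J.radical ^ n, ∃ p ∈ S, z - p ∈ J.radical ^ (n + 1) := by
    intro n
    induction n with
    | zero => intro z _; simpa using hmod z
    | succ n ih =>
      intro z hz
      rw [pow_succ'] at hz
      induction hz using Submodule.mul_induction_on' with
      | mem_mul_mem a ha b hb =>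
        obtain ⟨p, hp, hbp⟩ := ih b hb
        rw [← ht] at ha
        have h' : a * (b - p) ∈ J.radical ^ (n + 1 + 1) := by
          rw [pow_succ' _ (n + 1)]; exact Ideal.mul_mem_mul (ht ▸ ha) hbp
        have h2 : ∃ q ∈ S, a * p - q ∈ J.radical ^ (n + 1 + 1) := by
          have hpn : p ∈ J.radical ^ n := by
            have := sub_mem hb (Ideal.pow_le_pow_right (Nat.le_succ n) hbp)
            simpa using this
          obtain ⟨c, hc⟩ := (Submodule.mem_span_finset'.mp ha)
          choose q hq hcq using fun i : t => hmod (c i)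
          refine ⟨(∑ i : t, q i * i.1) * p, mul_mem (sum_mem fun i _ => mul_mem (hq i)
            (Algebra.subset_adjoin (by simp [T]))) hp, ?_⟩
          rw [← sub_mul, ← hc, ← Finset.sum_sub_distrib, Finset.sum_mul]
          refine sum_mem fun i _ => ?_
          rw [smul_eq_mul, ← sub_mul, pow_succ' _ (n + 1), pow_succ', mul_assoc]
          exact Ideal.mul_mem_mul (hcq i) (Ideal.mul_mem_mul
            (ht ▸ Submodule.subset_span i.2) hpn)
        obtain ⟨q, hq, hpq⟩ := h2
        refine ⟨q, hq, ?_⟩
        have h := add_mem h' hpq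
        convert h using 1; ring
      | add a _ b _ iha ihb =>
        obtain ⟨p, hp, h1⟩ := iha
        obtain ⟨q, hq, h2⟩ := ihb
        exact ⟨p + q, add_mem hp hq, by rw [add_sub_add_comm]; exact add_mem h1 h2⟩
  have hall : ∀ n (y : B), ∃ p ∈ S, y - p ∈ J.radical ^ n := by
    intro n
    induction n with
    | zero => exact fun y => ⟨0, zero_mem _, by simp⟩
    | succ n ih =>
      intro y
      obtain ⟨p, hp, h1⟩ := ih y
      obtain ⟨q, hq, h2⟩ := hstep n _ h1
      exact ⟨p + q, add_mem hp hq, by rwa [← sub_sub]⟩
  refine ⟨T.card, fun i => (T.equivFin.symm i).1, fun y n => ?_⟩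
  obtain ⟨p, hp, h⟩ := hall (N * n) y
  have hr : Set.range (fun i => (T.equivFin.symm i).1) = (T : Set B) := by
    ext x; exact ⟨by rintro ⟨i, rfl⟩; exact (T.equivFin.symm i).2, fun hx => ⟨T.equivFin ⟨x, hx⟩, by simp⟩⟩
  have hp' : p ∈ (MvPolynomial.aeval fun i => (T.equivFin.symm i).1 : MvPolynomial (Fin T.card) A →ₐ[A] B).range := by
    rw [← Algebra.adjoin_range_eq_range_aeval, hr]; exact hp
  obtain ⟨P, rfl⟩ := hp'
  refine ⟨P, Ideal.pow_right_mono hN n ?_⟩
  rw [← pow_mul]; exact h

end Groth.Agent.S8834
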