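import Groth.Statements.S8835
import Groth.Agent.Adic.Rig.Closed

set_option autoImplicit false
universe u
open AdicRing

namespace Groth.Agent.S8835

/-- Let A be a Noetherian ring complete for the adic topology of an ideal I, and B a Noetherian
A-algebra complete for the IB-adic topology with B/IB of finite type over A (an adic morphism,
topologically of finite type, of adic Noetherian topological rings). Let q be a prime of B which is
rig-closed (IB ⊄ q and q maximal among the primes not containing IB). If A/I is a Jacobson ring,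
then the inverse image p of q in A is rig-closed: I ⊄ p and p is maximal among the primes of A not
containing I. -/
theorem result (A : Type u) [CommRing A] [IsNoetherianRing A] (I : Ideal A) [IsAdicComplete I A] (B : Type u) [CommRing B] [Algebra A B] [IsNoetherianRing B] [IsAdicComplete (I.map (algebraMap A B)) B] (hft : Algebra.FiniteType A (B ⧸ (I.map (algebraMap A B)))) (q : PrimeSpectrum B) (hq : (¬ (I.map (algebraMap A B)) ≤ q.asIdeal ∧ ∀ y : PrimeSpectrum B, q ≤ y → ¬ (I.map (algebraMap A B)) ≤ y.asIdeal → y = q)) (hJ : IsJacobsonRing (A ⧸ I)) : (¬ I ≤ (PrimeSpectrum.comap (algebraMap A B) q).asIdeal ∧ ∀ y : PrimeSpectrum A, (PrimeSpectrum.comap (algebraMap A B) q) ≤ y → ¬ I ≤ y.asIdeal → y = (PrimeSpectrum.comap (algebraMap A B) q)) := by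
  obtain ⟨m, hm, hqm⟩ := Ideal.exists_le_maximal q.asIdeal q.isPrime.ne_top
  have hJm := Groth.Agent.Adic.Rig.Closed.map_le_of_isMaximal (I := I) m
  let _ := Ideal.Quotient.field m
  have := Groth.Agent.Adic.Rig.Closed.finiteType_quotient hft hJm
  let _ : Algebra (A ⧸ I) (B ⧸ m) := (Ideal.Quotient.lift I (algebraMap A (B ⧸ m)) fun a ha =>
    Ideal.Quotient.eq_zero_iff_mem.mpr (hJm (Ideal.mem_map_of_mem _ ha))).toAlgebra
  have : IsScalarTower A (A ⧸ I) (B ⧸ m) := IsScalarTower.of_algebraMap_eq' rfl
  have : Algebra.FiniteType (A ⧸ I) (B ⧸ m) := Algebra.FiniteType.of_restrictScalars_finiteType A _ _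
  have := finite_of_finite_type_of_isJacobsonRing (A ⧸ I) (B ⧸ m)
  exact Groth.Agent.Adic.Rig.Closed.isRigClosed_comap_of_finite hq
    (Groth.Agent.Adic.Rig.Closed.finite_of_residue hft hq m hqm (Module.Finite.trans (A ⧸ I) (B ⧸ m)))

end Groth.Agent.S8835
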