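import Groth.Statements.S8836
import Groth.Agent.Adic.Rig.Closed

set_option autoImplicit false
universe u
open AdicRing

namespace Groth.Agent.S8836

/-- Let A be a Noetherian ring complete for the adic topology of an ideal I, and B a Noetherian
A-algebra complete for the IB-adic topology, flat over A, with B/IB of finite type over A (a flat
adic morphism, topologically of finite type, of adic Noetherian topological rings). Let p be a prime
of A which is rig-closed (I ⊄ p and p maximal among the primes not containing I). The following are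
equivalent: (1) the maximal ideal of the local ring A/p lies in the image of Spec(B/√(IB)) →
Spec(A/√I), stated as: some prime Q of B containing IB lies over a maximal ideal of A containing p;
(2) there is a rig-closed prime q of B (IB ⊄ q, q maximal among the primes not containing IB) whose
inverse image in A is p. (The published statement adds that, when these hold, A/p ⊆ B/q is a finite
extension of rings and the residue field of the local ring B/q is finite over A/√I; this is not
restated here.) -/
theorem result (A : Type u) [CommRing A] [IsNoetherianRing A] (I : Ideal A) [IsAdicComplete I A] (B : Type u) [CommRing B] [Algebra A B] [IsNoetherianRing B] [IsAdicComplete (I.map (algebraMap A B)) B] (hft : Algebra.FiniteType A (B ⧸ (I.map (algebraMap A B)))) [Module.Flat A B] (p : PrimeSpectrum A) (hp : (¬ I ≤ p.asIdeal ∧ ∀ y : PrimeSpectrum A, p ≤ y → ¬ I ≤ y.asIdeal → y = p)) : (∃ Q : PrimeSpectrum B, (I.map (algebraMap A B)) ≤ Q.asIdeal ∧ p.asIdeal ≤ (PrimeSpectrum.comap (algebraMap A B) Q).asIdeal ∧ (PrimeSpectrum.comap (algebraMap A B)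 Q).asIdeal.IsMaximal) ↔ (∃ q : PrimeSpectrum B, (¬ (I.map (algebraMap A B)) ≤ q.asIdeal ∧ ∀ y : PrimeSpectrum B, q ≤ y → ¬ (I.map (algebraMap A B)) ≤ y.asIdeal → y = q) ∧ PrimeSpectrum.comap (algebraMap A B) q = p) := by
  constructor
  · rintro ⟨Q, -, hpQ, -⟩
    have : Q.asIdeal.LiesOver (Q.asIdeal.comap (algebraMap A B)) := ⟨rfl⟩
    obtain ⟨q₀, -, hq₀, hover⟩ := Ideal.exists_ideal_le_liesOver_of_le (p := p.asIdeal)
      (q := Q.asIdeal.comap (algebraMap A B)) Q.asIdeal hpQ
    have hJ : ¬ I.map (algebraMap A B) ≤ q₀ := fun h => hp.1 (by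
      rw [hover.over]; exact Ideal.map_le_iff_le_comap.mp h)
    obtain ⟨q, hle, hq⟩ := Groth.Agent.Adic.Rig.Closed.exists_ge hJ
    refine ⟨q, hq, hp.2 _ (fun x hx => ?_) fun h => hq.1 (Ideal.map_le_iff_le_comap.mpr h)⟩
    rw [hover.over] at hx
    exact hle hx
  · rintro ⟨q, hq, rfl⟩
    obtain ⟨m, hm, hqm⟩ := Ideal.exists_le_maximal q.asIdeal q.isPrime.ne_top
    have hJm := Groth.Agent.Adic.Rig.Closed.map_le_of_isMaximal (I := I) m
    exact ⟨⟨m, hm.isPrime⟩, hJm, Ideal.comap_mono hqm,
      Groth.Agent.Adic.Rig.Closed.isMaximal_of_lt hp (Ideal.comap_mono hqm) (Ideal.map_le_iff_le_comap.mp hJm)⟩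

end Groth.Agent.S8836
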