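import Groth.Statements.S8839
import Groth.Agent.Adic.Rig.CompletionQuot
import Mathlib.RingTheory.Localization.AtPrime.Basic

set_option autoImplicit false
universe u
open AdicRing

namespace Groth.Agent.S8839

/-- Let A be a Noetherian ring complete for the adic topology of an ideal I, n a natural number, and
A{x_1, …, x_n} the restricted power series ring, i.e. the I-adic completion of the polynomial ring
A[x_1, …, x_n]. Let q be a prime ideal of A{x_1, …, x_n}, q' its inverse image in A[x_1, …, x_n] and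
p its inverse image in A. Assume q is rig-closed (the extension of I is not contained in q and q is
maximal among such primes) and p is rig-closed in A (I ⊄ p, p maximal among the primes not
containing I). Then the local homomorphism A[x_1, …, x_n]_{q'} → A{x_1, …, x_n}_q induces an
isomorphism on completions with respect to the maximal ideals; stated as: for every m ≥ 1 the
induced map on quotients by the m-th powers of the maximal ideals is injective and surjective. -/
theorem result (A : Type u) [CommRing A] [IsNoetherianRing A] (I : Ideal A) [IsAdicComplete I A] (n : ℕ) (q : PrimeSpectrum (AdicCompletion (I.map (algebraMap A (MvPolynomial (Fin n) A))) (MvPolynomial (Fin n) A))) (hq : (¬ (I.map (algebraMap A (AdicCompletion (I.map (algebraMap A (MvPolynomial (Fin n) A))) (MvPolynomial (Fin n) A)))) ≤ q.asIdeal ∧ ∀ y : PrimeSpectrum (AdicCompletion (I.map (algebraMap A (MvPolynomial (Fin n) A))) (MvPolynomial (Fin n) A)), q ≤ y → ¬ (I.map (algebraMap A (AdicCompletion (I.map (algebraMap A (MvPolynomial (Fin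 n) A))) (MvPolynomial (Fin n) A)))) ≤ y.asIdeal → y = q)) (hp : (¬ I ≤ (PrimeSpectrum.comap (algebraMap A (AdicCompletion (I.map (algebraMap A (MvPolynomial (Fin n) A))) (MvPolynomial (Fin n) A))) q).asIdeal ∧ ∀ y : PrimeSpectrum A, (PrimeSpectrum.comap (algebraMap A (AdicCompletion (I.map (algebraMap A (MvPolynomial (Fin n) A))) (MvPolynomial (Fin n) A))) q) ≤ y → ¬ I ≤ y.asIdeal → y = (PrimeSpectrum.comap (algebraMap A (AdicCompletion (I.map (algebraMap A (MvPolynomial (Fin n) A))) (MvPolynomial (Fin n) A))) q))) (m : ℕ) (hm : 1 ≤ m) : (∀ x : (Localization.AtPrime (PrimeSpectrum.comap (algebraMap (MvPolynomial (Fin n) A) (AdicCompletion (I.map (algebraMap A (MvPolynomial (Fin n) A))) (MvPolynomial (Fin n) A))) q).asIdeal), (Localization.localRingHom (PrimeSpectrum.comap (algebraMap (MvPolynomial (Fin n) A) (AdicCompletion (I.map (algebraMap A (MvPolynomial (Fin n) A))) (MvPolynomial (Fin n) A))) q).asIdeal q.asIdeal (algebraMap (MvPolynomial (Fin n) A) (AdicCompletion (I.map (algebraMap A (MvPolynomial (Fin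 n) A))) (MvPolynomial (Fin n) A))) rfl) x ∈ (IsLocalRing.maximalIdeal (Localization.AtPrime q.asIdeal)) ^ m → x ∈ (IsLocalRing.maximalIdeal (Localization.AtPrime (PrimeSpectrum.comap (algebraMap (MvPolynomial (Fin n) A) (AdicCompletion (I.map (algebraMap A (MvPolynomial (Fin n) A))) (MvPolynomial (Fin n) A))) q).asIdeal)) ^ m) ∧ (∀ y : (Localization.AtPrime q.asIdeal), ∃ x : (Localization.AtPrime (PrimeSpectrum.comap (algebraMap (MvPolynomial (Fin n) A) (AdicCompletion (I.map (algebraMap A (MvPolynomial (Fin n) A))) (MvPolynomial (Fin n) A))) q).asIdeal), y - (Localization.localRingHom (PrimeSpectrum.comap (algebraMap (MvPolynomial (Fin n) A) (AdicCompletion (I.map (algebraMap A (MvPolynomial (Fin n) A))) (MvPolynomial (Fin n) A))) q).asIdeal q.asIdeal (algebraMap (MvPolynomial (Fin n) A) (AdicCompletion (I.map (algebraMap A (MvPolynomial (Fin n) A))) (MvPolynomial (Fin n) A))) rfl) x ∈ (IsLocalRing.maximalIdeal (Localization.AtPrime q.asIdeal)) ^ m) := by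
  let C := MvPolynomial (Fin n) A
  let J := I.map (algebraMap A C)
  let R := AdicCompletion J C
  let φ := algebraMap C R
  let q' := (PrimeSpectrum.comap φ q).asIdeal
  have hRn : IsNoetherianRing R :=
    Groth.Agent.Completion.NoetherianComplete.isNoetherianRing_adicCompletion _ (IsNoetherian.noetherian _)
  have hRc : IsAdicComplete (I.map (algebraMap A R)) R :=
    Groth.Agent.Adic.Base.Trunc.isAdicComplete_completion (IsNoetherian.noetherian I)
  have hft : Algebra.FiniteType A (R ⧸ I.map (algebraMap A R)) := by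
    refine Algebra.FiniteType.of_surjective ((Ideal.Quotient.mkₐ A _).comp (IsScalarTower.toAlgHom A C R)) fun y => ?_
    obtain ⟨y, rfl⟩ := Ideal.Quotient.mk_surjective y
    obtain ⟨c, hc⟩ := Groth.Agent.Adic.Base.Trunc.exists_sub_mem (IsNoetherian.noetherian _) 1 y
    rw [pow_one, Groth.Agent.Adic.Base.Trunc.completion_map] at hc
    exact ⟨c, (Ideal.Quotient.eq.mpr hc).symm⟩
  obtain ⟨M, hM, hqM⟩ := Ideal.exists_le_maximal q.asIdeal q.isPrime.ne_top
  have hfinR := Groth.Agent.Adic.Rig.Closed.finite_of_residue hft hq M hqM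
    (Groth.Agent.Adic.Rig.Closed.finite_residue_of_comap hft hp M (Ideal.comap_mono hqM))
  have hfin : Module.Finite A (C ⧸ q') := by
    let ι : (C ⧸ q') →ₐ[A] R ⧸ q.asIdeal := Ideal.quotientMapₐ q.asIdeal (IsScalarTower.toAlgHom A C R) le_rfl
    have : IsNoetherian A (R ⧸ q.asIdeal) := inferInstance
    exact Module.Finite.of_injective ι.toLinearMap (Ideal.quotientMap_injective' (H := le_rfl) le_rfl)
  have hfinpow : ∀ k, Module.Finite A (C ⧸ q' ^ k) := fun k => Groth.Agent.Adic.Rig.CompletionQuot.finite_quotient_pow q' k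
  have hbij : ∀ k, Function.Bijective (Ideal.quotientMap ((q' ^ k).map φ) φ Ideal.le_comap_map) := fun k =>
    have := hfinpow k
    Groth.Agent.Adic.Rig.CompletionQuot.bijective (I := I) (q' ^ k)
  have hqe : q.asIdeal = q'.map φ := by
    refine le_antisymm (fun x hx => ?_) Ideal.map_comap_le
    obtain ⟨y, hy⟩ := (Groth.Agent.Adic.Rig.CompletionQuot.bijective (I := I) q').2 (Ideal.Quotient.mk _ x)
    obtain ⟨y, rfl⟩ := Ideal.Quotient.mk_surjective y
    rw [Ideal.quotientMap_mk, Ideal.Quotient.eq] at hy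
    have hyq : y ∈ q' := by
      have := add_mem (Ideal.map_comap_le (f := φ) (K := q.asIdeal) hy) hx
      rwa [sub_add_cancel] at this
    have := sub_mem (Ideal.mem_map_of_mem φ hyq) hy
    rwa [sub_sub_cancel] at this
  have hpow : q.asIdeal ^ m = (q' ^ m).map φ := by rw [hqe, Ideal.map_pow]
  have hcont : ∀ c : C, φ c ∈ q.asIdeal ^ m → c ∈ q' ^ m := fun c hc => by
    rw [← Ideal.Quotient.eq_zero_iff_mem]
    refine (hbij m).1 ?_
    rw [Ideal.quotientMap_mk, map_zero, Ideal.Quotient.eq_zero_iff_mem]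
    exact hpow ▸ hc
  have happr : ∀ r : R, ∃ c : C, r - φ c ∈ q.asIdeal ^ m := fun r => by
    obtain ⟨y, hy⟩ := (hbij m).2 (Ideal.Quotient.mk _ r)
    obtain ⟨y, rfl⟩ := Ideal.Quotient.mk_surjective y
    rw [Ideal.quotientMap_mk, Ideal.Quotient.eq] at hy
    refine ⟨y, ?_⟩
    rw [hpow, ← neg_sub]
    exact neg_mem hy
  have hle : q.asIdeal ^ m ≤ q.asIdeal := Ideal.pow_le_self (by omega)
  have hsmall : ∀ r : R, r ∉ q.asIdeal → ∀ c : C, r - φ c ∈ q.asIdeal ^ m → c ∉ q' := fun r hr c hc hcq =>
    hr (by have := add_mem (hle hc) hcq; rwa [sub_add_cancel] at this)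
  let L := Localization.AtPrime q.asIdeal
  let K := Localization.AtPrime q'
  constructor
  · intro x hx
    obtain ⟨⟨c, s⟩, hcs⟩ := IsLocalization.surj q'.primeCompl x
    have h1 : algebraMap R L (φ c) ∈ (q.asIdeal ^ m).map (algebraMap R L) := by
      rw [Ideal.map_pow, Localization.AtPrime.map_eq_maximalIdeal, ← Localization.localRingHom_to_map q' q.asIdeal φ rfl c, ← hcs, map_mul]
      exact Ideal.mul_mem_right _ _ hx
    obtain ⟨⟨⟨a, ha⟩, u⟩, hau⟩ := (IsLocalization.mem_map_algebraMap_iff q.asIdeal.primeCompl L).mp h1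
    obtain ⟨w, hw⟩ := (IsLocalization.eq_iff_exists q.asIdeal.primeCompl L).mp ((map_mul (algebraMap R L) _ _).trans hau)
    have hmem : (w : R) * u * φ c ∈ q.asIdeal ^ m := by
      rw [show (w : R) * u * φ c = w * (φ c * u) by ring, hw]
      exact Ideal.mul_mem_left _ _ ha
    obtain ⟨v, hv⟩ := happr ((w : R) * u)
    have hvq : v ∉ q' := hsmall _ (q.asIdeal.primeCompl.mul_mem w.2 u.2) v hv
    have hvc : v * c ∈ q' ^ m := hcont _ (by
      rw [map_mul]
      have := sub_mem hmem (Ideal.mul_mem_right (φ c) _ hv)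
      rwa [← sub_mul, sub_sub_cancel] at this)
    have h2 := Ideal.mem_map_of_mem (algebraMap C K) hvc
    rw [Ideal.map_pow, Localization.AtPrime.map_eq_maximalIdeal, map_mul, ← hcs] at h2
    exact (Ideal.unit_mul_mem_iff_mem _ (IsLocalization.map_units K s)).mp (by
      have := (Ideal.unit_mul_mem_iff_mem _ (IsLocalization.map_units K (⟨v, hvq⟩ : q'.primeCompl))).mp h2
      rwa [mul_comm] at this)
  · intro y
    obtain ⟨⟨r, u⟩, hru⟩ := IsLocalization.surj q.asIdeal.primeCompl y
    obtain ⟨c, hc⟩ := happr r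
    obtain ⟨v, hv⟩ := happr u
    have hvq : v ∉ q' := hsmall _ u.2 v hv
    obtain ⟨vi, hvi⟩ := (IsLocalization.map_units K (⟨v, hvq⟩ : q'.primeCompl)).exists_right_inv
    refine ⟨algebraMap C K c * vi, ?_⟩
    have hvi' : algebraMap R L (φ v) * Localization.localRingHom q' q.asIdeal φ rfl vi = 1 := by
      rw [← Localization.localRingHom_to_map q' q.asIdeal φ rfl v, ← map_mul, hvi, map_one]
    show y - Localization.localRingHom q' q.asIdeal φ rfl (algebraMap C K c * vi) ∈ _
    rw [map_mul, Localization.localRingHom_to_map]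
    have hu := IsLocalization.map_units L u
    refine (Ideal.unit_mul_mem_iff_mem _ hu).mp ?_
    refine (Ideal.unit_mul_mem_iff_mem _ (IsLocalization.map_units L (⟨φ v, hvq⟩ : q.asIdeal.primeCompl))).mp ?_
    have hkey : algebraMap R L (r * φ v - φ c * u) ∈ IsLocalRing.maximalIdeal L ^ m := by
      rw [← Localization.AtPrime.map_eq_maximalIdeal (I := q.asIdeal), ← Ideal.map_pow]
      refine Ideal.mem_map_of_mem _ ?_
      have := sub_mem (Ideal.mul_mem_right (φ v) _ hc) (Ideal.mul_mem_left _ (φ c) hv)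
      rwa [show (r - φ c) * φ v - φ c * ((u : R) - φ v) = r * φ v - φ c * u by ring] at this
    rw [map_sub, map_mul, map_mul, ← hru] at hkey
    convert hkey using 1
    linear_combination (-(algebraMap R L (φ c) * algebraMap R L (u : R))) * hvi'

end Groth.Agent.S8839
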