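import Groth.Statements.S8840
import Groth.Agent.Adic.Rig.Shrink

set_option autoImplicit false
universe u
open AdicRing

namespace Groth.Agent.S8840

/-- Let A be a Noetherian ring complete for the adic topology of an ideal I, and B a Noetherian
A-algebra complete for the IB-adic topology with B/IB of finite type over A (an adic morphism,
topologically of finite type, of adic Noetherian topological rings). Let q be a prime of B which is
rig-closed (IB ⊄ q and q maximal among the primes not containing IB). Then there exists f ∈ A which
maps to a unit in B/q such that the following holds. Let A_{f} and B_{f} be the completed principal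
localizations (the I-adic completions of A_f and B_f) and ψ : A_{f} → B_{f} the canonical map,
characterised here as any ring map compatible with A_f → B_f (there is exactly one). Then the
inverse image p' under ψ of the ideal q' = q B_{f} is a rig-closed prime of A_{f}: p' is prime, I
A_{f} ⊄ p', and p' is maximal among the primes of A_{f} not containing I A_{f}. (That q B_{f} is
itself prime with quotient B/q holds because f is a unit modulo q; it is not restated.) -/
theorem result (A : Type u) [CommRing A] [IsNoetherianRing A] (I : Ideal A) [IsAdicComplete I A] (B : Type u) [CommRing B] [Algebra A B] [IsNoetherianRing B] [IsAdicComplete (I.map (algebraMap A B)) B] (hft : Algebra.FiniteType A (B ⧸ (I.map (algebraMap A B)))) (q : PrimeSpectrum B) (hq : (¬ (I.map (algebraMap A B)) ≤ q.asIdeal ∧ ∀ y : PrimeSpectrum B, q ≤ y → ¬ (I.map (algebraMap A B)) ≤ y.asIdeal → y = q)) : ∃ f : A, IsUnit (Ideal.Quotient.mk q.asIdeal (algebraMap A B f)) ∧ ∀ ψ : (AdicCompletion (I.map (algebraMap A (Localization.Away f))) (Localization.Away f)) →+* (AdicCompletion ((I.map (algebraMap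 A B)).map (algebraMap B (Localization.Away (algebraMap A B f)))) (Localization.Away (algebraMap A B f))), ψ.comp (algebraMap (Localization.Away f) (AdicCompletion (I.map (algebraMap A (Localization.Away f))) (Localization.Away f))) = (algebraMap (Localization.Away (algebraMap A B f)) (AdicCompletion ((I.map (algebraMap A B)).map (algebraMap B (Localization.Away (algebraMap A B f)))) (Localization.Away (algebraMap A B f)))).comp (Localization.awayMap (algebraMap A B) f) → (((q.asIdeal.map (algebraMap B (AdicCompletion ((I.map (algebraMap A B)).map (algebraMap B (Localization.Away (algebraMap A B f)))) (Localization.Away (algebraMap A B f))))).comap ψ).IsPrime ∧ ¬ (I.map (algebraMap A (AdicCompletion (I.map (algebraMap A (Localization.Away f))) (Localization.Away f)))) ≤ ((q.asIdeal.map (algebraMap B (AdicCompletion ((I.map (algebraMap A B)).map (algebraMap B (Localization.Away (algebraMap A B f)))) (Localization.Away (algebraMap A B f))))).comap ψ) ∧ ∀ y : PrimeSpectrum (AdicCompletion (I.map (algebraMap A (Localization.Away f))) (Localization.Away f)), ((q.asIdeal.map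 (algebraMap B (AdicCompletion ((I.map (algebraMap A B)).map (algebraMap B (Localization.Away (algebraMap A B f)))) (Localization.Away (algebraMap A B f))))).comap ψ) ≤ y.asIdeal → ¬ (I.map (algebraMap A (AdicCompletion (I.map (algebraMap A (Localization.Away f))) (Localization.Away f)))) ≤ y.asIdeal → y.asIdeal = ((q.asIdeal.map (algebraMap B (AdicCompletion ((I.map (algebraMap A B)).map (algebraMap B (Localization.Away (algebraMap A B f)))) (Localization.Away (algebraMap A B f))))).comap ψ)) := by
  obtain ⟨m, hm, hqm⟩ := Ideal.exists_le_maximal q.asIdeal q.isPrime.ne_top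
  let J := I.map (algebraMap A B)
  have hJm : J ≤ m := Groth.Agent.Adic.Rig.Closed.map_le_of_isMaximal (I := I) m
  let _ := Ideal.Quotient.field m
  have := Groth.Agent.Adic.Rig.Closed.finiteType_quotient hft hJm
  obtain ⟨f, hfK, hfin⟩ := Groth.Agent.Adic.Rig.Shrink.exists_finite_away (A := A) (K := B ⧸ m)
  have hspec := (Groth.Agent.Adic.Rig.Closed.spec (J := J) (q := q) hq).2.1
  have hunit : IsUnit (Ideal.Quotient.mk q.asIdeal (algebraMap A B f)) := by
    by_contra h
    obtain ⟨M, hM, hfM⟩ := exists_max_ideal_of_mem_nonunits h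
    have h1 : (m.map (Ideal.Quotient.mk q.asIdeal)).IsMaximal :=
      (Ideal.map_eq_top_or_isMaximal_of_surjective _ Ideal.Quotient.mk_surjective hm).resolve_left fun htop => by
        have := congrArg (Ideal.comap (Ideal.Quotient.mk q.asIdeal)) htop
        rw [Ideal.comap_map_mk hqm, Ideal.comap_top] at this
        exact hm.ne_top this
    rw [hspec M hM, ← hspec _ h1] at hfM
    have hfm : algebraMap A B f ∈ m := by
      have : algebraMap A B f ∈ (m.map (Ideal.Quotient.mk q.asIdeal)).comap (Ideal.Quotient.mk q.asIdeal) := hfM
      rwa [Ideal.comap_map_mk hqm] at this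
    refine hfK.ne_zero ?_
    rw [IsScalarTower.algebraMap_apply A B (B ⧸ m)]
    exact Ideal.Quotient.eq_zero_iff_mem.mpr hfm
  refine ⟨f, hunit, fun ψ hψ => ?_⟩
  let g := algebraMap A B f
  let T := Groth.Agent.Adic.Rig.CompletedLoc.K J g
  let S := Groth.Agent.Adic.Rig.CompletedLoc.K I f
  have hTn : IsNoetherianRing T := Groth.Agent.Adic.Rig.CompletedLoc.isNoetherianRing J g
  have hSn : IsNoetherianRing S := Groth.Agent.Adic.Rig.CompletedLoc.isNoetherianRing I f
  have hSc : IsAdicComplete (I.map (algebraMap A S)) S := Groth.Agent.Adic.Rig.CompletedLoc.isAdicComplete I f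
  have hψA : ψ.comp (algebraMap A S) = algebraMap A T := by
    have h1 : (Localization.awayMap (algebraMap A B) f).comp (algebraMap A (Localization.Away f)) =
        (algebraMap B (Localization.Away g)).comp (algebraMap A B) := IsLocalization.map_comp _
    refine RingHom.ext fun a => ?_
    rw [RingHom.comp_apply, IsScalarTower.algebraMap_apply A (Localization.Away f) S,
      IsScalarTower.algebraMap_apply A B T, IsScalarTower.algebraMap_apply B (Localization.Away g) T]
    exact (RingHom.congr_fun hψ _).trans (congrArg (algebraMap (Localization.Away g) T) (RingHom.congr_fun h1 a))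
  let _ : Algebra S T := ψ.toAlgebra
  have : IsScalarTower A S T := IsScalarTower.of_algebraMap_eq' hψA.symm
  have hmapI : (I.map (algebraMap A S)).map (algebraMap S T) = I.map (algebraMap A T) :=
    (Ideal.map_map _ _).trans (congrArg (fun h => Ideal.map h I) (IsScalarTower.algebraMap_eq A S T).symm)
  have hTJ : J.map (algebraMap B T) = I.map (algebraMap A T) :=
    (Ideal.map_map _ _).trans (congrArg (fun h => Ideal.map h I) (IsScalarTower.algebraMap_eq A B T).symm)
  have : IsAdicComplete ((I.map (algebraMap A S)).map (algebraMap S T)) T := by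
    rw [hmapI, ← hTJ]; exact Groth.Agent.Adic.Rig.CompletedLoc.isAdicComplete J g
  have hftS : Algebra.FiniteType S (T ⧸ (I.map (algebraMap A S)).map (algebraMap S T)) := by
    rw [hmapI]
    have h := Groth.Agent.Adic.Rig.CompletedLoc.finiteType J g rfl hft
    exact Algebra.FiniteType.of_restrictScalars_finiteType A _ _
  have hqp : (q.asIdeal.map (algebraMap B T)).IsPrime := Groth.Agent.Adic.Rig.CompletedLoc.isPrime J g q.asIdeal hunit
  let q' : PrimeSpectrum T := ⟨_, hqp⟩
  have hbij := Groth.Agent.Adic.Rig.CompletedLoc.bijective J g q.asIdeal hunit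
  have hback : ∀ y : PrimeSpectrum T, q' ≤ y → ¬ J.map (algebraMap B T) ≤ y.asIdeal → y = q' := by
    intro y hy hJy
    have h0 : PrimeSpectrum.comap (algebraMap B T) y = q :=
      hq.2 _ (fun x hx => hy (Ideal.mem_map_of_mem _ hx)) fun h => hJy (Ideal.map_le_iff_le_comap.mpr h)
    exact PrimeSpectrum.ext (Groth.Agent.Adic.Rig.CompletedLoc.eq_map J g q.asIdeal hunit y.asIdeal (congrArg PrimeSpectrum.asIdeal h0))
  have hcomap : q'.asIdeal.comap (algebraMap B T) = q.asIdeal := by
    refine le_antisymm (fun x hx => ?_) Ideal.le_comap_map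
    rw [← Ideal.Quotient.eq_zero_iff_mem]
    refine hbij.1 ?_
    rw [Ideal.quotientMap_mk, map_zero, Ideal.Quotient.eq_zero_iff_mem]
    exact hx
  have hnot : ¬ J.map (algebraMap B T) ≤ q'.asIdeal := fun h => hq.1 (hcomap ▸ Ideal.map_le_iff_le_comap.mp h)
  have hq' : Groth.Agent.Adic.Rig.Closed.IsRigClosed ((I.map (algebraMap A S)).map (algebraMap S T)) q' := by
    rw [hmapI, ← hTJ]; exact ⟨hnot, hback⟩
  obtain ⟨m', hm', hqm'⟩ := Ideal.exists_le_maximal q'.asIdeal hqp.ne_top
  have hresfin : Module.Finite S (T ⧸ m') := by
    have hsurj : Function.Surjective ((Ideal.Quotient.mk m').comp (algebraMap B T)) := by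
      intro y
      obtain ⟨y, rfl⟩ := Ideal.Quotient.mk_surjective y
      obtain ⟨x, hx⟩ := hbij.2 (Ideal.Quotient.mk _ y)
      obtain ⟨x, rfl⟩ := Ideal.Quotient.mk_surjective x
      rw [Ideal.quotientMap_mk, Ideal.Quotient.eq] at hx
      exact ⟨x, Ideal.Quotient.eq.mpr (hqm' hx)⟩
    have hmeq : m ≤ RingHom.ker ((Ideal.Quotient.mk m').comp (algebraMap B T)) := by
      let _ := Ideal.Quotient.field m'
      have hkmax := RingHom.ker_isMaximal_of_surjective _ hsurj
      have hle : q.asIdeal ≤ RingHom.ker ((Ideal.Quotient.mk m').comp (algebraMap B T)) := fun x hx =>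
        Ideal.Quotient.eq_zero_iff_mem.mpr (hqm' (Ideal.mem_map_of_mem _ hx))
      have hmax : ∀ {M : Ideal B}, q.asIdeal ≤ M → M.IsMaximal → M.map (Ideal.Quotient.mk q.asIdeal) =
          (J.map (Ideal.Quotient.mk q.asIdeal)).radical := fun hle hM =>
        hspec _ ((Ideal.map_eq_top_or_isMaximal_of_surjective _ Ideal.Quotient.mk_surjective hM).resolve_left fun htop => by
          have := congrArg (Ideal.comap (Ideal.Quotient.mk q.asIdeal)) htop
          rw [Ideal.comap_map_mk hle, Ideal.comap_top] at this
          exact hM.ne_top this)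
      have := congrArg (Ideal.comap (Ideal.Quotient.mk q.asIdeal)) ((hmax hqm hm).trans (hmax hle hkmax).symm)
      rw [Ideal.comap_map_mk hqm, Ideal.comap_map_mk hle] at this
      exact this.le
    let ν : B ⧸ m →+* T ⧸ m' := Ideal.Quotient.lift m ((Ideal.Quotient.mk m').comp (algebraMap B T)) fun x hx => hmeq hx
    have hν : Function.Surjective ν := fun y => (hsurj y).elim fun x hx => ⟨Ideal.Quotient.mk m x, hx⟩
    have h1 := (RingHom.Finite.of_surjective ν hν).comp hfin
    have h2 : ν.comp (IsLocalization.Away.lift (S := Localization.Away f) f hfK) =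
        (algebraMap S (T ⧸ m')).comp (algebraMap (Localization.Away f) S) := by
      refine IsLocalization.ringHom_ext (Submonoid.powers f) (RingHom.ext fun a => ?_)
      simp only [RingHom.comp_apply, IsLocalization.Away.lift_eq]
      rw [← IsScalarTower.algebraMap_apply A (Localization.Away f) S, ← IsScalarTower.algebraMap_apply A S (T ⧸ m'),
        IsScalarTower.algebraMap_apply A T (T ⧸ m'), IsScalarTower.algebraMap_apply A B T]
      rfl
    rw [h2] at h1
    exact RingHom.finite_algebraMap.mp (RingHom.Finite.of_comp_finite h1)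
  have hres := Groth.Agent.Adic.Rig.Closed.finite_of_residue hftS hq' m' hqm' hresfin
  have hp := Groth.Agent.Adic.Rig.Closed.isRigClosed_comap_of_finite hq' hres
  exact ⟨(PrimeSpectrum.comap (algebraMap S T) q').isPrime, hp.1,
    fun y hy hIy => congrArg PrimeSpectrum.asIdeal (hp.2 y hy hIy)⟩

end Groth.Agent.S8840
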