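import Groth.Statements.S8841
import Groth.Agent.Adic.Rig.CompletedLoc
import Groth.Agent.S8835

set_option autoImplicit false
universe u
open AdicRing

namespace Groth.Agent.S8841

/-- Let A be a Noetherian ring complete for the adic topology of an ideal I, and B a Noetherian
A-algebra complete for the IB-adic topology with B/IB of finite type over A (an adic morphism,
topologically of finite type, of adic Noetherian topological rings), and assume A/I is a Jacobson
ring. Suppose A → B is naively rig-flat: whenever q is a rig-closed prime of B (IB ⊄ q and q maximal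
among the primes not containing IB), the localization B_q is an A-flat ring. Then A → B is rig-flat:
for every f ∈ A, letting A_{f} and B_{f} be the completed principal localizations (the I-adic
completions of A_f and B_f) and ψ : A_{f} → B_{f} the canonical map, characterised here as any ring
map compatible with A_f → B_f (there is exactly one), the local ring (B_{f})_{q'} is flat over A_{f}
via ψ for every rig-closed prime q' of B_{f} (I B_{f} ⊄ q' and q' maximal among the primes not
containing I B_{f}). (That A_{f} → B_{f} is again adic and topologically of finite type is not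
restated.) -/
theorem result (A : Type u) [CommRing A] [IsNoetherianRing A] (I : Ideal A) [IsAdicComplete I A] (B : Type u) [CommRing B] [Algebra A B] [IsNoetherianRing B] [IsAdicComplete (I.map (algebraMap A B)) B] (hft : Algebra.FiniteType A (B ⧸ (I.map (algebraMap A B)))) (hJ : IsJacobsonRing (A ⧸ I)) (hnaive : ∀ q : PrimeSpectrum B, (¬ (I.map (algebraMap A B)) ≤ q.asIdeal ∧ ∀ y : PrimeSpectrum B, q ≤ y → ¬ (I.map (algebraMap A B)) ≤ y.asIdeal → y = q) → (algebraMap A (Localization.AtPrime q.asIdeal)).Flat) (f : A) (ψ : (AdicCompletion (I.map (algebraMap A (Localization.Away f))) (Localization.Away f)) →+* (AdicCompletion ((I.map (algebraMap A B)).map (algebraMap B (Localization.Away (algebraMap A B f)))) (Localization.Away (algebraMap A B f)))) (hψ : ψ.comp (algebraMap (Localization.Away f) (AdicCompletion (I.map (algebraMap A (Localization.Away f))) (Localization.Away f))) = (algebraMap (Localization.Away (algebraMap A B f)) (AdicCompletion ((I.map (algebraMap A B)).map (algebraMap B (Localization.Away (algebraMap A B f)))) (Localization.Away (algebraMap A B f)))).comp (Localization.awayMap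 (algebraMap A B) f)) (q' : PrimeSpectrum (AdicCompletion ((I.map (algebraMap A B)).map (algebraMap B (Localization.Away (algebraMap A B f)))) (Localization.Away (algebraMap A B f)))) (hq' : (¬ ((((I.map (algebraMap A B))).map (algebraMap B (Localization.Away (algebraMap A B f)))).map (algebraMap (Localization.Away (algebraMap A B f)) (AdicCompletion ((I.map (algebraMap A B)).map (algebraMap B (Localization.Away (algebraMap A B f)))) (Localization.Away (algebraMap A B f))))) ≤ q'.asIdeal ∧ ∀ y : PrimeSpectrum (AdicCompletion ((I.map (algebraMap A B)).map (algebraMap B (Localization.Away (algebraMap A B f)))) (Localization.Away (algebraMap A B f))), q' ≤ y → ¬ ((((I.map (algebraMap A B))).map (algebraMap B (Localization.Away (algebraMap A B f)))).map (algebraMap (Localization.Away (algebraMap A B f)) (AdicCompletion ((I.map (algebraMap A B)).map (algebraMap B (Localization.Away (algebraMap A B f)))) (Localization.Away (algebraMap A B f))))) ≤ y.asIdeal → y = q')) : ((algebraMap (AdicCompletion ((I.map (algebraMap A B)).map (algebraMap B (Localization.Away (algebraMap A B f)))) (Localization.Away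 (algebraMap A B f))) (Localization.AtPrime q'.asIdeal)).comp ψ).Flat := by
  let J := I.map (algebraMap A B)
  let g := algebraMap A B f
  let T := Groth.Agent.Adic.Rig.CompletedLoc.K J g
  let S := Groth.Agent.Adic.Rig.CompletedLoc.K I f
  have hTn : IsNoetherianRing T := Groth.Agent.Adic.Rig.CompletedLoc.isNoetherianRing J g
  have hSn : IsNoetherianRing S := Groth.Agent.Adic.Rig.CompletedLoc.isNoetherianRing I f
  have hTc : IsAdicComplete (J.map (algebraMap B T)) T := Groth.Agent.Adic.Rig.CompletedLoc.isAdicComplete J g
  have hTJ : J.map (algebraMap B T) = I.map (algebraMap A T) :=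
    (Ideal.map_map _ _).trans (congrArg (fun h => Ideal.map h I) (IsScalarTower.algebraMap_eq A B T).symm)
  have hqeq : J.map (algebraMap B T) = (J.map (algebraMap B (Localization.Away g))).map (algebraMap (Localization.Away g) T) :=
    Groth.Agent.Adic.Rig.CompletedLoc.map_eq J g
  have hq'' : Groth.Agent.Adic.Rig.Closed.IsRigClosed (J.map (algebraMap B T)) q' := by
    rw [hqeq]; exact hq'
  let _ : Algebra (A ⧸ I) (B ⧸ J) := (Ideal.quotientMap J (algebraMap A B) Ideal.le_comap_map).toAlgebra
  have : IsScalarTower A (A ⧸ I) (B ⧸ J) := IsScalarTower.of_algebraMap_eq' rfl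
  have : Algebra.FiniteType (A ⧸ I) (B ⧸ J) := Algebra.FiniteType.of_restrictScalars_finiteType A _ _
  have hjac : IsJacobsonRing (B ⧸ J) := isJacobsonRing_of_finiteType (A := A ⧸ I)
  have hq := Groth.Agent.S8835.result B J T (Groth.Agent.Adic.Rig.CompletedLoc.finiteType_base J g) q' hq'' hjac
  set q := PrimeSpectrum.comap (algebraMap B T) q'
  have hp := Groth.Agent.S8835.result A I B hft q hq hJ
  set p := PrimeSpectrum.comap (algebraMap A B) q
  have hpT : PrimeSpectrum.comap (algebraMap A T) q' = p := by
    rw [IsScalarTower.algebraMap_eq A B T, PrimeSpectrum.comap_comp]; rfl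
  have hfT := Groth.Agent.Adic.Rig.CompletedLoc.finiteType J g rfl hft
  have : IsAdicComplete (I.map (algebraMap A T)) T := hTJ ▸ hTc
  have hqA : Groth.Agent.Adic.Rig.Closed.IsRigClosed (I.map (algebraMap A T)) q' := hTJ ▸ hq''
  obtain ⟨m, hm, hqm⟩ := Ideal.exists_le_maximal q'.asIdeal q'.isPrime.ne_top
  have hfin := Groth.Agent.Adic.Rig.Closed.finite_of_residue hfT hqA m hqm
    (Groth.Agent.Adic.Rig.Closed.finite_residue_of_comap hfT hp m (hpT ▸ Ideal.comap_mono hqm))
  have hf : IsUnit (Ideal.Quotient.mk p.asIdeal f) := by
    let θ : A ⧸ p.asIdeal →+* T ⧸ q'.asIdeal := Ideal.quotientMap q'.asIdeal (algebraMap A T) (hpT ▸ le_rfl)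
    let _ : Algebra (A ⧸ p.asIdeal) (T ⧸ q'.asIdeal) := θ.toAlgebra
    have : IsScalarTower A (A ⧸ p.asIdeal) (T ⧸ q'.asIdeal) := IsScalarTower.of_algebraMap_eq fun a => rfl
    have : Module.Finite (A ⧸ p.asIdeal) (T ⧸ q'.asIdeal) := Module.Finite.of_restrictScalars_finite A _ _
    have : FaithfulSMul (A ⧸ p.asIdeal) (T ⧸ q'.asIdeal) := (faithfulSMul_iff_algebraMap_injective _ _).mpr
      (Ideal.quotientMap_injective' (by rw [← hpT]; exact le_rfl))
    refine IsUnit.of_map (algebraMap (A ⧸ p.asIdeal) (T ⧸ q'.asIdeal)) _ ?_
    show IsUnit (Ideal.Quotient.mk q'.asIdeal (algebraMap A T f))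
    refine IsUnit.map _ ?_
    rw [IsScalarTower.algebraMap_apply A B T, IsScalarTower.algebraMap_apply B (Localization.Away g) T]
    exact (IsLocalization.Away.algebraMap_isUnit (S := Localization.Away g) g).map _
  have hψA : ψ.comp (algebraMap A S) = algebraMap A T := by
    have h1 : (Localization.awayMap (algebraMap A B) f).comp (algebraMap A (Localization.Away f)) =
        (algebraMap B (Localization.Away g)).comp (algebraMap A B) := IsLocalization.map_comp _
    refine RingHom.ext fun a => ?_
    rw [RingHom.comp_apply, IsScalarTower.algebraMap_apply A (Localization.Away f) S,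
      IsScalarTower.algebraMap_apply A B T, IsScalarTower.algebraMap_apply B (Localization.Away g) T]
    exact (RingHom.congr_fun hψ _).trans (congrArg (algebraMap (Localization.Away g) T) (RingHom.congr_fun h1 a))
  let P := q'.asIdeal.comap ψ
  have hP : P.comap (algebraMap A S) = p.asIdeal := by
    rw [Ideal.comap_comap, hψA, ← hpT]; rfl
  have hPeq : P = p.asIdeal.map (algebraMap A S) := Groth.Agent.Adic.Rig.CompletedLoc.eq_map I f p.asIdeal hf P hP
  let R := Localization.AtPrime P
  let N := Localization.AtPrime q'.asIdeal
  let h : R →+* N := Localization.localRingHom P q'.asIdeal ψ rfl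
  suffices h.Flat by
    have hSR : (algebraMap S R).Flat := RingHom.flat_algebraMap_iff.mpr (IsLocalization.flat R P.primeCompl)
    have heq : h.comp (algebraMap S R) = (algebraMap T N).comp ψ := RingHom.ext fun x => Localization.localRingHom_to_map P q'.asIdeal ψ rfl x
    exact heq ▸ hSR.comp this
  let _ : Algebra R N := h.toAlgebra
  have hAN : (algebraMap A N) = h.comp (algebraMap A R) := by
    refine RingHom.ext fun a => ?_
    rw [IsScalarTower.algebraMap_apply A T N, RingHom.comp_apply, IsScalarTower.algebraMap_apply A S R]
    exact ((Localization.localRingHom_to_map P q'.asIdeal ψ rfl (algebraMap A S a)).trans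
      (congrArg (algebraMap T N) (RingHom.congr_fun hψA a))).symm
  have : IsScalarTower A R N := IsScalarTower.of_algebraMap_eq' hAN
  have : IsNoetherianRing R := IsLocalization.isNoetherianRing P.primeCompl _ hSn
  have : IsNoetherianRing N := IsLocalization.isNoetherianRing q'.asIdeal.primeCompl _ hTn
  have : Module.Flat A N := by
    have h1 := hnaive q hq
    have hBT : (algebraMap B T).Flat := RingHom.flat_algebraMap_iff.mpr (Groth.Agent.Adic.Rig.CompletedLoc.flat J g)
    have h2 : (Localization.localRingHom q.asIdeal q'.asIdeal (algebraMap B T) rfl).Flat := hBT.localRingHom _ _ rfl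
    have h3 := h1.comp h2
    rw [← RingHom.flat_algebraMap_iff]
    refine (show _ = algebraMap A N from RingHom.ext fun a => ?_) ▸ h3
    rw [RingHom.comp_apply, IsScalarTower.algebraMap_apply A B (Localization.AtPrime q.asIdeal),
      Localization.localRingHom_to_map, IsScalarTower.algebraMap_apply A T N, IsScalarTower.algebraMap_apply A B T]
  have hmap : p.asIdeal.map (algebraMap A R) = IsLocalRing.maximalIdeal R := by
    rw [IsScalarTower.algebraMap_eq A S R, ← Ideal.map_map, ← hPeq, Localization.AtPrime.map_eq_maximalIdeal]
  have hloc : IsLocalHom h := Localization.isLocalHom_localRingHom _ _ _ _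
  exact RingHom.flat_algebraMap_iff.mpr (Groth.Agent.Adic.Rig.CompletedLoc.flat_of_map_eq p.asIdeal hmap (by
    rw [IsLocalRing.jacobson_eq_maximalIdeal ⊥ bot_ne_top]
    exact ((IsLocalRing.local_hom_TFAE h).out 0 2).mp hloc))

end Groth.Agent.S8841
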