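import Groth.Statements.S8847
import Groth.Agent.Flat.CartierFibre

set_option autoImplicit false
universe u
open CategoryTheory CategoryTheory.Limits AlgebraicGeometry TopologicalSpace
open SDiv

namespace Groth.Agent.S8847

/-- Let φ : X ⟶ S be flat and locally of finite presentation and let 𝓘 be a quasi-coherent ideal sheaf
on X whose closed subscheme Z is flat and locally of finite presentation over S. If for every point
s of S the inverse image ideal of 𝓘 on the scheme-theoretic fibre X_s is the ideal sheaf of an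
effective Cartier divisor of X_s, then 𝓘 is the ideal sheaf of an effective Cartier divisor of X;
together with the flatness of Z over S this says Z is a relative effective Cartier divisor. -/
theorem result {X S : Scheme.{u}} (φ : X ⟶ S) [Flat φ] [LocallyOfFinitePresentation φ]
    (𝓘 : X.IdealSheafData) [Flat (𝓘.subschemeι ≫ φ)] [LocallyOfFinitePresentation (𝓘.subschemeι ≫ φ)]
    (hfib : ∀ s : ↥S, BlowUp.IsEffCartierIdeal (𝓘.comap (φ.fiberι s))) :
    BlowUp.IsEffCartierIdeal 𝓘 := by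
  intro x
  obtain ⟨_, ⟨V, hV, rfl⟩, hxV, -⟩ :=
    S.isBasis_affineOpens.exists_subset_of_mem_open (Set.mem_univ (φ x)) isOpen_univ
  obtain ⟨_, ⟨W, hW, rfl⟩, hxW, hWsub⟩ := X.isBasis_affineOpens.exists_subset_of_mem_open
    (show x ∈ φ ⁻¹ᵁ V from hxV) (φ ⁻¹ᵁ V).isOpen
  have hWV : W ≤ φ ⁻¹ᵁ V := hWsub
  obtain ⟨hfg, hfl⟩ :=
    Groth.Agent.Flat.CartierFibre.fg_and_flat_quotient φ 𝓘 hV ⟨W, hW⟩ hWV
  letI := (φ.appLE V W hWV).hom.toAlgebra
  haveI : Module.Flat Γ(S, V) (Γ(X, W) ⧸ 𝓘.ideal ⟨W, hW⟩) := hfl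
  obtain ⟨a, ha, hreg, hgen⟩ := Groth.Agent.Flat.CartierFibre.exists_data φ 𝓘 hfib hV ⟨W, hW⟩ hWV
    (hW.primeIdealOf ⟨x, hxW⟩).asIdeal
  obtain ⟨U, -, hxU, h, hh, hI, -⟩ := Groth.Agent.Flat.CartierFibre.exists_nhd φ 𝓘 hV ⟨W, hW⟩ hWV x
    hxW a ha hreg
    (Groth.Agent.Flat.CartierFibre.exists_mul_mem_span _ _ hfg a ha hgen)
  exact ⟨U, hxU, h, hh, hI⟩

end Groth.Agent.S8847
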