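import Groth.Statements.S8848
import Groth.Agent.Flat.CartierFibre

set_option autoImplicit false
universe u
open CategoryTheory CategoryTheory.Limits AlgebraicGeometry TopologicalSpace
open SDiv

namespace Groth.Agent.S8848

/-- Let φ : X ⟶ S be flat and locally of finite presentation and let 𝓘 be a quasi-coherent ideal sheaf
on X which is locally principal (generated by one section on some affine open neighbourhood of each
point of its support). If for every point s of S the inverse image ideal of 𝓘 on the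
scheme-theoretic fibre X_s is the ideal sheaf of an effective Cartier divisor of X_s, then 𝓘 is the
ideal sheaf of an effective Cartier divisor of X and its closed subscheme is flat over S (a relative
effective Cartier divisor). -/
theorem result {X S : Scheme.{u}} (φ : X ⟶ S) [Flat φ] [LocallyOfFinitePresentation φ]
    (𝓘 : X.IdealSheafData) (hZ : Curv2.IsLocPrincipal 𝓘)
    (hfib : ∀ s : ↥S, BlowUp.IsEffCartierIdeal (𝓘.comap (φ.fiberι s))) :
    BlowUp.IsEffCartierIdeal 𝓘 ∧ Flat (𝓘.subschemeι ≫ φ) := by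
  have key : ∀ x : X, ∃ (V : S.Opens) (_ : IsAffineOpen V) (U : X.affineOpens)
      (eU : U.1 ≤ φ ⁻¹ᵁ V), x ∈ U.1 ∧
      ∃ h : Γ(X, U.1), h ∈ nonZeroDivisors Γ(X, U.1) ∧ 𝓘.ideal U = Ideal.span {h} ∧
        ((Ideal.Quotient.mk (𝓘.ideal U)).comp (φ.appLE V U.1 eU).hom).Flat := by
    intro x
    obtain ⟨_, ⟨V, hV, rfl⟩, hxV, -⟩ :=
      S.isBasis_affineOpens.exists_subset_of_mem_open (Set.mem_univ (φ x)) isOpen_univ
    obtain ⟨W, hxW, hWV, f, hf⟩ : ∃ W : X.affineOpens, x ∈ W.1 ∧ W.1 ≤ φ ⁻¹ᵁ V ∧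
        ∃ f, 𝓘.ideal W = Ideal.span {f} := by
      by_cases hx : x ∈ 𝓘.support
      · obtain ⟨W₀, hxW₀, f, hf⟩ := hZ x hx
        obtain ⟨_, ⟨W, hW, rfl⟩, hxW, hWsub⟩ := X.isBasis_affineOpens.exists_subset_of_mem_open
          (show x ∈ (W₀.1 ⊓ φ ⁻¹ᵁ V : X.Opens) from ⟨hxW₀, hxV⟩) (W₀.1 ⊓ φ ⁻¹ᵁ V).isOpen
        refine ⟨⟨W, hW⟩, hxW, fun z hz => (hWsub hz).2, ?_⟩
        rw [← 𝓘.map_ideal (U := ⟨W, hW⟩) (V := W₀) (fun z hz => (hWsub hz).1), hf, Ideal.map_span,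
          Set.image_singleton]
        exact ⟨_, rfl⟩
      · obtain ⟨_, ⟨W, hW, rfl⟩, hxW, hWsub⟩ := X.isBasis_affineOpens.exists_subset_of_mem_open
          (show x ∈ (𝓘.support.compl ⊓ φ ⁻¹ᵁ V : X.Opens) from ⟨hx, hxV⟩)
          (𝓘.support.compl ⊓ φ ⁻¹ᵁ V).isOpen
        refine ⟨⟨W, hW⟩, hxW, fun z hz => (hWsub hz).2, 1, ?_⟩
        rw [Ideal.span_singleton_one]
        by_contra hne
        obtain ⟨m, hm, hle⟩ := Ideal.exists_le_maximal _ hne
        have h1 := 𝓘.coe_support_inter ⟨W, hW⟩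
        have h2 : hW.fromSpec ⟨m, hm.isPrime⟩ ∈ (𝓘.support : Set X) ∩ W :=
          h1.ge ((hW.fromSpec_image_zeroLocus _).le ⟨⟨m, hm.isPrime⟩, hle, rfl⟩)
        exact (hWsub h2.2).1 h2.1
    obtain ⟨a, ha, hreg, -⟩ := Groth.Agent.Flat.CartierFibre.exists_data φ 𝓘 hfib hV W hWV
      (W.2.primeIdealOf ⟨x, hxW⟩).asIdeal
    obtain ⟨U, eU, hxU, h⟩ := Groth.Agent.Flat.CartierFibre.exists_nhd φ 𝓘 hV W hWV x hxW f
      (hf ▸ Ideal.mem_span_singleton_self f) (fun y hy => hreg y (by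
        obtain ⟨c, rfl⟩ := Ideal.mem_span_singleton'.mp (hf ▸ ha)
        rw [mul_smul, hy, smul_zero]))
      ⟨1, fun h1 => Ideal.IsPrime.ne_top inferInstance ((Ideal.eq_top_iff_one _).mpr h1),
        fun i hi => by rw [one_mul, ← hf]; exact hi⟩
    exact ⟨V, hV, U, eU, hxU, h⟩
  refine ⟨fun x => ?_, Groth.Agent.Flat.CartierFibre.flat_subschemeι_comp φ 𝓘 fun x => ?_⟩
  · obtain ⟨V, hV, U, eU, hxU, h, hh, hI, -⟩ := key x
    exact ⟨U, hxU, h, hh, hI⟩
  · obtain ⟨V, hV, U, eU, hxU, h, -, -, hfl⟩ := key x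
    exact ⟨V, hV, U, eU, hxU, hfl⟩

end Groth.Agent.S8848
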