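import Groth.Statements.S8854
import Mathlib.RingTheory.Ideal.UFD
import Mathlib.RingTheory.Ideal.AssociatedPrime.Basic
import Mathlib.RingTheory.Filtration

set_option autoImplicit false
universe u
open SDiv

namespace Groth.Agent.S8854

/-- Let R be a Noetherian unique factorisation domain and I ⊆ R an ideal such that every associated
prime of R/I is minimal over I (R/I has no embedded primes) and every prime minimal over I has
height 1. Then I is principal: it is generated by one element. -/
theorem result (R : Type u) [CommRing R] [IsDomain R] [IsNoetherianRing R]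
    [UniqueFactorizationMonoid R] (I : Ideal R)
    (h1 : ∀ p : Ideal R, p ∈ associatedPrimes R (R ⧸ I) → p ∈ I.minimalPrimes)
    (h2 : ∀ p : Ideal R, p ∈ I.minimalPrimes → p.height = 1) :
    ∃ f : R, I = Ideal.span {f} := by
  classical
  rcases eq_or_ne I ⊥ with rfl | hI0
  · exact ⟨0, by simp⟩
  let S : Set (Ideal R) := {J | ∃ g : R, I = Ideal.span {g} * J}
  obtain ⟨J, ⟨g, hg⟩, hmax⟩ := set_has_maximal_iff_noetherian.2 (inferInstance : IsNoetherian R R) S ⟨I, 1, by simp⟩
  by_cases hJ : J = ⊤
  · exact ⟨g, by rw [hg, hJ, Ideal.mul_top]⟩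
  exfalso
  have hg0 : g ≠ 0 := fun e => hI0 (by rw [hg, e]; simp)
  let φ : (R ⧸ J) →ₗ[R] (R ⧸ I) := Submodule.liftQ J ((Submodule.mkQ I).comp (LinearMap.mulLeft R g)) fun x hx =>
    LinearMap.mem_ker.2 ((Submodule.Quotient.mk_eq_zero I).2 (hg ▸ Ideal.mul_mem_mul (Ideal.mem_span_singleton_self g) hx))
  have hφ : Function.Injective φ := (injective_iff_map_eq_zero φ).2 fun z hz => by
    obtain ⟨x, rfl⟩ := Submodule.Quotient.mk_surjective J z
    have h : g * x ∈ Ideal.span {g} * J := hg ▸ (Submodule.Quotient.mk_eq_zero I).1 hz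
    obtain ⟨y, hy, hy'⟩ := Ideal.mem_span_singleton_mul.1 h
    exact (Submodule.Quotient.mk_eq_zero J).2 (mul_left_cancel₀ hg0 hy' ▸ hy)
  have : Nontrivial (R ⧸ J) := Submodule.Quotient.nontrivial_iff.2 hJ
  obtain ⟨P, hP⟩ := associatedPrimes.nonempty R (R ⧸ J)
  have hPI := associatedPrimes.subset_of_injective hφ hP
  have hPp : P.IsPrime := hP.1
  obtain ⟨p, hp⟩ := (UniqueFactorizationMonoid.isPrincipal_of_height_eq_one (h2 P (h1 P hPI))).1
  have hJP : J ≤ P := by
    obtain ⟨-, x, hx⟩ := hP
    rw [hx]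
    intro j hj
    refine Ideal.le_radical ?_
    rw [Submodule.mem_colon_singleton, Submodule.mem_bot]
    obtain ⟨x, rfl⟩ := Submodule.Quotient.mk_surjective J x
    exact (Submodule.Quotient.mk_eq_zero J).2 (Ideal.mul_mem_right x J hj)
  let J' : Ideal R := Submodule.comap (LinearMap.mulLeft R p) J
  have hJ' : J = Ideal.span {p} * J' := by
    refine le_antisymm (fun x hx => ?_) ?_
    · have := hJP hx
      rw [hp, Submodule.mem_span_singleton] at this
      obtain ⟨t, rfl⟩ := this
      rw [smul_eq_mul, mul_comm t p]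
      exact Ideal.mul_mem_mul (Ideal.mem_span_singleton_self p) (show p * t ∈ J by rw [mul_comm]; exact hx)
    · rw [Ideal.span_singleton_mul_le_iff]
      exact fun t ht => ht
  have hle : J ≤ J' := fun x hx => Ideal.mul_mem_left J p hx
  have heq : J' = J := by
    by_contra hne
    exact hmax J' ⟨g * p, by rw [← Ideal.span_singleton_mul_span_singleton, mul_assoc, ← hJ', hg]⟩ (lt_of_le_of_ne hle (Ne.symm hne))
  have hpow : ∀ i : ℕ, J ≤ Ideal.span {p} ^ i := fun i => by
    induction i with
    | zero => simp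
    | succ i ih =>
      conv_lhs => rw [hJ', heq]
      rw [pow_succ', ]
      exact Ideal.mul_mono_right ih
  have hptop : Ideal.span {p} ≠ ⊤ := fun h => hPp.ne_top (hp.trans h)
  have : J ≤ ⨅ i : ℕ, Ideal.span {p} ^ i := le_iInf hpow
  rw [Ideal.iInf_pow_eq_bot_of_isDomain _ hptop, le_bot_iff] at this
  exact hI0 (by rw [hg, this]; simp)

end Groth.Agent.S8854
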