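import Groth.Statements.S8861
import Groth.Agent.ModStalk.UnitStalk
import Groth.Agent.Flat.CartierFibre
import Groth.Agent.BlowUpEC.Basic

set_option autoImplicit false
universe u
open CategoryTheory CategoryTheory.Limits AlgebraicGeometry TopologicalSpace
open SDiv

namespace Groth.Agent.S8861

/-- Let f : X ⟶ Y be a morphism of schemes and 𝓘 the ideal sheaf of an effective Cartier divisor D ⊆ Y.
If f x ∉ D for every weakly associated point x of X (weakly associated point of the structure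
sheaf), then the inverse image ideal sheaf of 𝓘 on X is the ideal of an effective Cartier divisor,
i.e. the pullback of D by f is defined. -/
theorem result {X Y : Scheme.{u}} (f : X ⟶ Y) (𝓘 : Y.IdealSheafData)
    (hD : BlowUp.IsEffCartierIdeal 𝓘)
    (h : ∀ x : ↥X, Curv2.IsWeakAssPoint (Coh.structureModule X) x → f x ∉ 𝓘.support) :
    BlowUp.IsEffCartierIdeal (𝓘.comap f) := by
  intro x
  obtain ⟨U, hxU, g, hg, hgU⟩ := hD (f x)
  obtain ⟨_, ⟨V, hV, rfl⟩, hxV, hVU⟩ :=
    X.isBasis_affineOpens.exists_subset_of_mem_open (show x ∈ f ⁻¹ᵁ U.1 from hxU) (f ⁻¹ᵁ U.1).isOpen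
  replace hVU : V ≤ f ⁻¹ᵁ U.1 := hVU
  refine ⟨⟨V, hV⟩, hxV, f.appLE U.1 V hVU g, ?_, ?_⟩
  · have hgerm : ∀ (y : X) (hy : y ∈ V),
        X.presheaf.germ V y hy (f.appLE U.1 V hVU g) ∈ nonZeroDivisors (X.presheaf.stalk y) := by
      refine fun y hy => Groth.Agent.ModStalk.germ_mem_nonZeroDivisors _ (fun z hz hw => ?_) y hy
      refine IsUnit.mem_nonZeroDivisors ?_
      have hfz : f z ∈ Y.basicOpen g := by
        rw [← Groth.Agent.BlowUpEC.compl_inter_eq_basicOpen U hgU]
        exact ⟨hVU hz, h z hw⟩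
      rw [← Scheme.mem_basicOpen, Scheme.Hom.appLE, CommRingCat.comp_apply, Scheme.basicOpen_res]
      exact ⟨hz, by rw [← Scheme.preimage_basicOpen]; exact hfz⟩
    rw [mem_nonZeroDivisors_iff_right]
    intro a ha
    refine TopCat.Presheaf.section_ext X.sheaf _ _ _ fun y hy => ?_
    refine Eq.trans ?_ (map_zero _).symm
    refine (mem_nonZeroDivisors_iff_right.mp (hgerm y hy)) _ ?_
    have h0 := congrArg (X.presheaf.germ V y hy) ha
    rw [map_mul, map_zero] at h0
    exact h0
  · rw [Groth.Agent.Flat.CartierFibre.ideal_comap 𝓘 f U ⟨V, hV⟩ hVU, hgU, Ideal.map_span, Set.image_singleton]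

end Groth.Agent.S8861
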