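import Groth.Statements.S8863
import Groth.Agent.ModStalk.UnitStalk

set_option autoImplicit false
universe u
open CategoryTheory CategoryTheory.Limits AlgebraicGeometry TopologicalSpace
open SDiv

namespace Groth.Agent.S8863

/-- Let X be a locally Noetherian scheme and x a point of X. Then the monoid S_x of germs at x of
regular sections of O_X (sections whose germ at every point of their open of definition is a
nonzerodivisor) is the whole monoid of nonzerodivisors of O_{X,x}; consequently K_{X,x} is the total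
ring of fractions of O_{X,x}. -/
theorem result (X : Scheme.{u}) [IsLocallyNoetherian X] (x : ↥X) :
    Mero.regStalk X x = nonZeroDivisors ↑(X.presheaf.stalk x) := by
  apply le_antisymm
  · rintro _ ⟨U, hx, f, hf, rfl⟩
    exact hf ⟨x, hx⟩
  intro g hg
  obtain ⟨W, hxW, t, rfl⟩ := X.presheaf.exists_germ_eq (x := x) g
  obtain ⟨_, ⟨V, hV, rfl⟩, hxV, hVW⟩ := X.isBasis_affineOpens.exists_subset_of_mem_open hxW W.isOpen
  replace hVW : V ≤ W := hVW
  rw [← X.presheaf.germ_res_apply (homOfLE hVW) x hxV t] at hg ⊢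
  generalize X.presheaf.map (homOfLE hVW).op t = t' at hg ⊢
  have := IsLocallyNoetherian.component_noetherian ⟨V, hV⟩
  obtain ⟨K, hK⟩ := IsNoetherian.noetherian (LinearMap.ker (LinearMap.mulLeft Γ(X, V) t'))
  have hkill : ∀ k ∈ K, ∃ c : Γ(X, V), x ∈ X.basicOpen c ∧ c * k = 0 := fun k hk => by
    have hk' : t' * k = 0 := LinearMap.mem_ker.mp (hK ▸ Submodule.subset_span hk)
    have hk0 : X.presheaf.germ V x hxV k = 0 :=
      (mem_nonZeroDivisors_iff_left.mp hg) _ (by rw [← map_mul, hk', map_zero])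
    rw [← Groth.Agent.ModStalk.germ_toUnit_eq_zero_iff] at hk0
    obtain ⟨c, hc, h0⟩ := Groth.Agent.ModStalk.exists_smul_eq_zero_of_germ _ hV x hxV _ hk0
    exact ⟨c, hc, h0⟩
  choose c hc hc0 using hkill
  let D : X.Opens := V ⊓ K.attach.inf fun r => X.basicOpen (c r.1 r.2)
  have hxD : x ∈ D := ⟨hxV, Finset.inf_induction (p := fun V : X.Opens => x ∈ V) trivial
    (fun _ h₁ _ h₂ => ⟨h₁, h₂⟩) fun r _ => hc r.1 r.2⟩
  refine ⟨D, hxD, X.presheaf.map (homOfLE (inf_le_left : D ≤ V)).op t', ?_, TopCat.Presheaf.germ_res_apply ..⟩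
  rintro ⟨y, hy⟩
  rw [TopCat.Presheaf.germ_res_apply, mem_nonZeroDivisors_iff_left]
  intro a ha
  letI := TopCat.Presheaf.algebra_section_stalk X.presheaf (⟨y, hy.1⟩ : V)
  haveI := hV.isLocalization_stalk ⟨y, hy.1⟩
  obtain ⟨⟨b, d⟩, hbd⟩ := IsLocalization.surj (hV.primeIdealOf ⟨y, hy.1⟩).asIdeal.primeCompl a
  have h1 : algebraMap Γ(X, V) (X.presheaf.stalk y) (t' * b) = 0 := by
    rw [map_mul, ← hbd, ← mul_assoc]
    erw [ha]
    rw [zero_mul]
  obtain ⟨e, he⟩ := (IsLocalization.map_eq_zero_iff (hV.primeIdealOf ⟨y, hy.1⟩).asIdeal.primeCompl _ _).mp h1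
  have hmem : e.1 * b ∈ LinearMap.ker (LinearMap.mulLeft Γ(X, V) t') :=
    LinearMap.mem_ker.mpr (show t' * (e.1 * b) = 0 by rw [mul_left_comm]; exact he)
  rw [← hK] at hmem
  have hz : ∀ k ∈ Submodule.span Γ(X, V) (K : Set Γ(X, V)), X.presheaf.germ V y hy.1 k = 0 := fun k hk => by
    induction hk using Submodule.span_induction with
    | mem k hk =>
      have h0 := congrArg (X.presheaf.germ V y hy.1) (hc0 k hk)
      rw [map_mul, map_zero] at h0
      exact ((Scheme.mem_basicOpen _ _ _ hy.1).mp (Finset.inf_le (f := fun r => X.basicOpen (c r.1 r.2))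
        (Finset.mem_attach K ⟨k, hk⟩) hy.2)).mul_right_eq_zero.mp h0
    | zero => rw [map_zero]
    | add b b' _ _ h h' => rw [map_add, h, h', add_zero]
    | smul r b _ h => rw [smul_eq_mul, map_mul, h, mul_zero]
  have h2 : algebraMap Γ(X, V) (X.presheaf.stalk y) (e.1 * b) = 0 := hz _ hmem
  have hue := IsLocalization.map_units (X.presheaf.stalk y) e
  rw [map_mul, hue.mul_right_eq_zero] at h2
  rw [h2] at hbd
  exact (IsLocalization.map_units (X.presheaf.stalk y) d).mul_left_eq_zero.mp hbd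

end Groth.Agent.S8863
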