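import Groth.Statements.S8871
import Groth.Agent.ModStalk.DepthTwo
import Groth.Agent.S5752
import Mathlib.RingTheory.KrullDimension.Module

set_option autoImplicit false
universe u
open CategoryTheory CategoryTheory.Limits AlgebraicGeometry TopologicalSpace
open SDiv

namespace Groth.Agent.S8871

open AlgebraicGeometry in
theorem supportDim_le_zero_iff {R : Type u} [CommRing R] [IsLocalRing R] (M : Type u) [AddCommGroup M]
    [Module R M] [Module.Finite R M] :
    Module.supportDim R M ≤ 0 ↔ IsLocalRing.maximalIdeal R ≤ (Module.annihilator R M).radical := by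
  rw [Module.supportDim, Order.krullDim_nonpos_iff_forall_isMax, Ideal.radical_eq_sInf]
  constructor
  · intro h
    refine le_sInf fun p ⟨hp, hpp⟩ => ?_
    have hmem : (⟨p, hpp⟩ : PrimeSpectrum R) ∈ Module.support R M := by
      rw [Module.support_eq_zeroLocus]; exact hp
    have hmax : (⟨IsLocalRing.maximalIdeal R, inferInstance⟩ : PrimeSpectrum R) ∈ Module.support R M := by
      rw [Module.support_eq_zeroLocus]; exact le_trans hp (IsLocalRing.le_maximalIdeal hpp.ne_top)
    exact h ⟨_, hmem⟩ (b := ⟨_, hmax⟩) (IsLocalRing.le_maximalIdeal hpp.ne_top)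
  · rintro h ⟨p, hp⟩ ⟨q, hq⟩ -
    rw [Module.support_eq_zeroLocus] at hp
    show q.asIdeal ≤ p.asIdeal
    exact le_trans (IsLocalRing.le_maximalIdeal q.2.ne_top) (h.trans (sInf_le ⟨hp, p.2⟩))


/-- Let X be a locally Noetherian scheme and F a coherent O_X-module. Then F has no embedded associated
points (every associated point of F is maximal among the associated points of F under
specialization) if and only if F has property (S_1): for every point x, depth F_x ≥ min(1, dim Supp
F_x), where dim Supp F_x is the Krull dimension of the support of the O_{X,x}-module F_x (for F_x =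
0 the depth is infinite and the support empty, so the condition holds). -/
theorem result (X : Scheme.{u}) [IsLocallyNoetherian X] (F : X.Modules) (hF : Coh.IsCoh F) :
    (∀ x : ↥X, Curv2.IsAssPoint F x → ∀ y : ↥X, Curv2.IsAssPoint F y → y ⤳ x → y = x) ↔
      ∀ x : ↥X, min (1 : WithBot ℕ∞) (Module.supportDim ↑(X.presheaf.stalk x) ↑(F.presheaf.stalk x)) ≤
        ((LocCoh.depth (X.presheaf.stalk x) (F.presheaf.stalk x) : ℕ∞) : WithBot ℕ∞) := by
  have := hF.1
  have := hF.2
  have hdepth : ∀ y : X, ((1 : ℕ∞) ≤ LocCoh.depth (X.presheaf.stalk y) (F.presheaf.stalk y)) ↔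
      ¬ Curv2.IsAssPoint F y := fun y => by
    rw [Order.one_le_iff_pos, pos_iff_ne_zero]
    exact not_congr (Groth.Agent.S5752.result _ _)
  have hcond : ∀ x : X, (min (1 : WithBot ℕ∞) (Module.supportDim ↑(X.presheaf.stalk x) ↑(F.presheaf.stalk x)) ≤
      ((LocCoh.depth (X.presheaf.stalk x) (F.presheaf.stalk x) : ℕ∞) : WithBot ℕ∞)) ↔
      (Curv2.IsAssPoint F x → IsLocalRing.maximalIdeal (X.presheaf.stalk x) ≤
        (Module.annihilator (X.presheaf.stalk x) (F.presheaf.stalk x)).radical) := fun x => by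
    rw [← supportDim_le_zero_iff]
    by_cases ha : Curv2.IsAssPoint F x
    · have h0 : LocCoh.depth (X.presheaf.stalk x) (F.presheaf.stalk x) = 0 := by
        by_contra hne
        exact (hdepth x).mp (Order.one_le_iff_pos.mpr (pos_iff_ne_zero.mpr hne)) ha
      rw [h0, min_le_iff]
      simp [ha]
    · exact iff_of_true (min_le_iff.mpr (Or.inl (WithBot.coe_le_coe.mpr ((hdepth x).mpr ha)))) (fun h => absurd h ha)
  constructor
  · intro h x
    rw [hcond]
    intro hx e he
    obtain ⟨_, ⟨V, hV, rfl⟩, hxV, -⟩ :=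
      X.isBasis_affineOpens.exists_subset_of_mem_open (Set.mem_univ x) isOpen_univ
    letI := TopCat.Presheaf.algebra_section_stalk X.presheaf (⟨x, hxV⟩ : V)
    haveI := hV.isLocalization_stalk ⟨x, hxV⟩
    have hm : ∀ m : F.presheaf.stalk x, ∃ k : ℕ, e ^ k • m = 0 := by
      intro m
      obtain ⟨c, s, hc, hs⟩ := Groth.Agent.ModStalk.exists_smul_eq_germ F hV x hxV m
      have hgen : ∀ (y : X) (hy : y ∈ V), y ⤳ x → y ≠ x → F.presheaf.germ V y hy s = 0 := fun y hy hyx hne => by
        by_contra h0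
        obtain ⟨z, hzy, -, hz⟩ := Groth.Agent.ModStalk.exists_isWeakAssPoint hV F ⟨y, hy⟩ s h0
        have hzx := h x hx z.1 ((Groth.Agent.ModStalk.isAssPoint_iff_isWeakAssPoint F _).mpr hz) (hzy.trans hyx)
        exact hne ((hyx.antisymm (hzx ▸ hzy)).eq)
      obtain ⟨⟨g, u⟩, hgu⟩ := IsLocalization.surj (hV.primeIdealOf ⟨x, hxV⟩).asIdeal.primeCompl e
      have hu : IsUnit (X.presheaf.germ V x hxV u.1) :=
        (Scheme.mem_basicOpen _ _ _ hxV).mp ((Groth.Agent.ModStalk.germ_mem_primeIdeal_iff hV ⟨x, hxV⟩ u.1).mp u.2)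
      have hgQ : g ∈ (hV.primeIdealOf ⟨x, hxV⟩).asIdeal := by
        by_contra hg
        refine (IsLocalRing.mem_maximalIdeal _).mp he (isUnit_of_mul_isUnit_left (y := X.presheaf.germ V x hxV u.1) ?_)
        show IsUnit (e * algebraMap Γ(X, V) (X.presheaf.stalk x) u.1)
        rw [hgu]
        exact (Scheme.mem_basicOpen _ _ _ hxV).mp ((Groth.Agent.ModStalk.germ_mem_primeIdeal_iff hV ⟨x, hxV⟩ g).mp hg)
      obtain ⟨k, d, hd, hk⟩ := Groth.Agent.ModStalk.exists_kill F hV x hxV s hgen g hgQ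
      refine ⟨k, ?_⟩
      have h1 := congrArg (F.presheaf.germ V x hxV) hk
      rw [Groth.Agent.ModStalk.germ_smul, Groth.Agent.ModStalk.germ_smul, map_zero, map_pow, ← hs] at h1
      have hgu' : e * X.presheaf.germ V x hxV u.1 = X.presheaf.germ V x hxV g := hgu
      rw [← hgu', mul_pow, smul_smul, smul_smul] at h1
      refine (((hu.pow k).mul (((Scheme.mem_basicOpen _ _ _ hxV).mp hd))).mul
        ((Scheme.mem_basicOpen _ _ _ hxV).mp hc)).smul_eq_zero.mp ?_
      rw [smul_smul, ← h1]
      congr 1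
      ring
    obtain ⟨T, hT⟩ := (inferInstance : Module.Finite (X.presheaf.stalk x) (F.presheaf.stalk x)).1
    choose k hk using hm
    refine ⟨T.sup k, Module.mem_annihilator.mpr fun m => ?_⟩
    refine Submodule.span_induction (fun t ht => ?_) (smul_zero _) (fun a b _ _ ha hb => by rw [smul_add, ha, hb, add_zero])
      (fun r a _ ha => by rw [smul_comm, ha, smul_zero]) (hT ▸ Submodule.mem_top : m ∈ Submodule.span _ (T : Set (F.presheaf.stalk x)))
    obtain ⟨j, hj⟩ := Nat.exists_eq_add_of_le (Finset.le_sup (f := k) ht)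
    rw [hj, add_comm, pow_add, mul_smul, hk, smul_zero]
  · intro h x hx y hy hyx
    by_contra hne
    obtain ⟨_, ⟨V, hV, rfl⟩, hxV, -⟩ :=
      X.isBasis_affineOpens.exists_subset_of_mem_open (Set.mem_univ x) isOpen_univ
    have hyV : y ∈ V := hyx.mem_open V.isOpen hxV
    obtain ⟨s, hs, -⟩ := (Groth.Agent.ModStalk.isWeakAssPoint_iff_affine F hV y hyV).mp
      ((Groth.Agent.ModStalk.isAssPoint_iff_isWeakAssPoint F y).mp hy)
    obtain ⟨g, hg, hgy⟩ := SetLike.not_le_iff_exists.mp fun h' => hne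
      (Groth.Agent.ModStalk.eq_of_primeIdeal_eq hV (x := ⟨x, hxV⟩) (y := ⟨y, hyV⟩) (le_antisymm
        (Groth.Agent.ModStalk.primeIdeal_le_of_specializes hV (x := ⟨x, hxV⟩) (y := ⟨y, hyV⟩) hyx) h'))
    have hgx : X.presheaf.germ V x hxV g ∈ IsLocalRing.maximalIdeal (X.presheaf.stalk x) := by
      rw [IsLocalRing.mem_maximalIdeal, mem_nonunits_iff, ← Scheme.mem_basicOpen _ _ _ hxV]
      exact fun h' => (Groth.Agent.ModStalk.germ_mem_primeIdeal_iff hV ⟨x, hxV⟩ g).mpr h' hg
    obtain ⟨k, hk⟩ := (hcond x).mp (h x) hx hgx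
    have h1 : F.presheaf.germ V x hxV (g ^ k • s) = 0 := by
      rw [Groth.Agent.ModStalk.germ_smul, map_pow]
      exact Module.mem_annihilator.mp hk _
    have h2 := Groth.Agent.ModStalk.germ_eq_zero_of_specializes F _ hyx hxV hyV h1
    rw [Groth.Agent.ModStalk.germ_smul, map_pow] at h2
    exact hs ((((Scheme.mem_basicOpen _ _ _ hyV).mp
      ((Groth.Agent.ModStalk.germ_mem_primeIdeal_iff hV ⟨y, hyV⟩ g).mp hgy)).pow k).smul_eq_zero.mp h2)

end Groth.Agent.S8871
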