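import Groth.Statements.S8872
import Groth.Agent.Fitting.Sheaf
import Groth.Agent.ModStalk.PullbackSections
import Groth.Agent.Flat.CartierFibre

set_option autoImplicit false
universe u
open CategoryTheory CategoryTheory.Limits AlgebraicGeometry TopologicalSpace
open SDiv

namespace Groth.Agent.S8872

/-- Let f : T ⟶ S be a morphism of schemes and F a quasi-coherent O_S-module of finite type. Then for
every i the inverse image ideal sheaf on T of the i-th Fitting ideal of F is the i-th Fitting ideal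
of f^*F. -/
theorem result {T S : Scheme.{u}} (f : T ⟶ S) (F : S.Modules) (hF : Coh.IsQCoh F) (hft : CohB1.IsFT F)
    (i : ℕ) : (Fitt.sheafIdeal F i).comap f = Fitt.sheafIdeal ((Scheme.Modules.pullback f).obj F) i := by
  haveI : F.IsQuasicoherent := hF
  haveI : SheafOfModules.IsFiniteType (R := S.ringCatSheaf) F := hft
  haveI : ((Scheme.Modules.pullback f).obj F).IsQuasicoherent :=
    Groth.Agent.ModStalk.isQuasicoherent_pullback f F
  haveI : SheafOfModules.IsFiniteType (R := T.ringCatSheaf) ((Scheme.Modules.pullback f).obj F) :=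
    Groth.Agent.ModStalk.isFiniteType_pullback f F
  have hcov : ∀ x : T, ∃ (U : S.affineOpens) (V : T.affineOpens), x ∈ V.1 ∧ V.1 ≤ f ⁻¹ᵁ U.1 := fun x => by
    obtain ⟨_, ⟨U, hU, rfl⟩, hxU, -⟩ :=
      S.isBasis_affineOpens.exists_subset_of_mem_open (Set.mem_univ (f x)) isOpen_univ
    obtain ⟨_, ⟨V, hV, rfl⟩, hxV, hle⟩ :=
      T.isBasis_affineOpens.exists_subset_of_mem_open (show x ∈ f ⁻¹ᵁ U from hxU) (f ⁻¹ᵁ U).2
    exact ⟨⟨U, hU⟩, ⟨V, hV⟩, hxV, hle⟩
  choose U V hxV hle using hcov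
  refine Scheme.IdealSheafData.ext_of_iSup_eq_top V
    (eq_top_iff.mpr fun x _ => Opens.mem_iSup.mpr ⟨x, hxV x⟩) fun x => ?_
  rw [Groth.Agent.Flat.CartierFibre.ideal_comap _ f (U x) (V x) (hle x),
    Groth.Agent.Fitting.sheafIdeal_ideal, Groth.Agent.Fitting.sheafIdeal_ideal]
  letI := (f.appLE (U x).1 (V x).1 (hle x)).hom.toAlgebra
  haveI := Groth.Agent.ModStalk.finite_sections (M := F) (U x).2
  obtain ⟨e, he⟩ := Groth.Agent.ModStalk.exists_sectionsEquiv f F (U x).2 (V x).2 (hle x)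
  letI : Module Γ(S, (U x).1) Γ((Scheme.Modules.pullback f).obj F, (V x).1) :=
    Module.compHom _ (f.appLE (U x).1 (V x).1 (hle x)).hom
  haveI : IsScalarTower Γ(S, (U x).1) Γ(T, (V x).1) Γ((Scheme.Modules.pullback f).obj F, (V x).1) :=
    IsScalarTower.of_algebraMap_smul fun _ _ => rfl
  let φ := ((e.restrictScalars Γ(S, (U x).1)).toLinearMap).comp
    (TensorProduct.mk Γ(S, (U x).1) Γ(T, (V x).1) Γ(F, (U x).1) 1)
  have hφ : IsBaseChange Γ(T, (V x).1) φ := IsBaseChange.of_equiv e fun m => rfl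
  exact (Groth.Agent.Fitting.ideal_of_isBaseChange hφ i).symm

end Groth.Agent.S8872
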