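import Groth.Statements.S8874
import Groth.Agent.Fitting.Generation
import Groth.Agent.S8872

set_option autoImplicit false
universe u
open CategoryTheory CategoryTheory.Limits AlgebraicGeometry TopologicalSpace
open SDiv

namespace Groth.Agent.S8874

/-- Let S be a scheme, F a quasi-coherent O_S-module of finite type, s a point of S and r a natural
number. Then F can be generated by r sections over some open neighbourhood of s if and only if the
r-th Fitting ideal of F is the unit ideal at s, i.e. s does not lie in the closed subset cut out by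
Fit_r(F). -/
theorem result (S : Scheme.{u}) (F : S.Modules) (hF : Coh.IsQCoh F) (hft : CohB1.IsFT F)
    (s : ↥S) (r : ℕ) :
    (∃ U : S.Opens, s ∈ U ∧ ∃ π : FlatMod.freeMod (↑U) r ⟶ F.restrict U.ι, Epi π) ↔
      s ∉ (Fitt.sheafIdeal F r).support := by
  haveI : F.IsQuasicoherent := hF
  haveI : SheafOfModules.IsFiniteType (R := S.ringCatSheaf) F := hft
  constructor
  · rintro ⟨U, hs, π, hπ⟩ hmem
    let G := (Scheme.Modules.pullback U.ι).obj F
    haveI : G.IsQuasicoherent := Groth.Agent.ModStalk.isQuasicoherent_pullback U.ι F
    haveI : SheafOfModules.IsFiniteType (R := (U : Scheme.{u}).ringCatSheaf) G :=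
      Groth.Agent.ModStalk.isFiniteType_pullback U.ι F
    refine Groth.Agent.Fitting.not_mem_support_of_epi G
      (π ≫ ((Scheme.Modules.restrictFunctorIsoPullback U.ι).app F).hom) ⟨s, hs⟩ ?_
    rw [← Groth.Agent.S8872.result U.ι F hF hft r, Scheme.IdealSheafData.support_comap]
    exact hmem
  · intro h
    obtain ⟨U, t, hs, ht⟩ := Groth.Agent.Fitting.exists_span_nhd_of_not_mem_support F s h
    exact ⟨U, hs, Groth.Agent.Fitting.exists_epi_freeMod F t ht⟩

end Groth.Agent.S8874
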