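import Groth.Statements.S8875
import Groth.Agent.Fitting.Generation
import Groth.Agent.S8872

set_option autoImplicit false
universe u
open CategoryTheory CategoryTheory.Limits AlgebraicGeometry TopologicalSpace
open SDiv

namespace Groth.Agent.S8875

/-- (1) ⇔ (3): let S be a scheme, F a quasi-coherent O_S-module of finite type and r ≥ 0. Then F is
finite locally free of rank r if and only if Fit_k(F) = 0 for every k < r and Fit_k(F) = O_S for
every k ≥ r. -/
theorem result (S : Scheme.{u}) (F : S.Modules) (hF : Coh.IsQCoh F) (hft : CohB1.IsFT F)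
    (r : ℕ) :
    FlatMod.IsFinLocFreeOfRank r F ↔
      (∀ k : ℕ, k < r → Fitt.sheafIdeal F k = ⊥) ∧ (∀ k : ℕ, r ≤ k → Fitt.sheafIdeal F k = ⊤) := by
  haveI : F.IsQuasicoherent := hF
  haveI : SheafOfModules.IsFiniteType (R := S.ringCatSheaf) F := hft
  constructor
  · intro hloc
    have hbasis : ∀ y : S, ∃ b : Fin r → F.presheaf.stalk y, LinearIndependent (S.presheaf.stalk y) b ∧
        Submodule.span (S.presheaf.stalk y) (Set.range b) = ⊤ := by
      intro y
      obtain ⟨U, hyU, ⟨e⟩⟩ := hloc y
      obtain ⟨hfree, hrank⟩ := Groth.Agent.ModStalk.free_stalk_of_pullback U.ι F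
        (((Scheme.Modules.restrictFunctorIsoPullback U.ι).app _).symm ≪≫ e) ⟨y, hyU⟩
      haveI : Module.Free (S.presheaf.stalk y) (F.presheaf.stalk y) := hfree
      haveI := Groth.Agent.ModStalk.finite_stalk F y
      let b := Module.finBasisOfFinrankEq (S.presheaf.stalk y) (F.presheaf.stalk y) (n := r) hrank
      exact ⟨b, b.linearIndependent, b.span_eq⟩
    refine ⟨fun k hk => Scheme.IdealSheafData.ext (funext fun W => ?_),
      fun k hk => Scheme.IdealSheafData.ext (funext fun W => ?_)⟩
    · rw [Groth.Agent.Fitting.sheafIdeal_ideal, Scheme.IdealSheafData.ideal_bot, Pi.bot_apply, eq_bot_iff]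
      intro a ha
      refine Ideal.mem_bot.mpr (TopCat.Presheaf.section_ext S.sheaf W.1 a 0 fun y hy => ?_)
      obtain ⟨b, hli, hsp⟩ := hbasis y
      have h0 := Groth.Agent.Fitting.map_ideal_germ F k W.2 y hy
      rw [Groth.Agent.Fitting.ideal_eq_F b hsp, Groth.Agent.Fitting.F_eq_bot_of_linearIndependent b hli hk] at h0
      have h1 := Ideal.mem_map_of_mem (S.presheaf.germ W.1 y hy).hom ha
      rw [← h0, Ideal.mem_bot] at h1
      exact h1.trans (map_zero (S.presheaf.germ W.1 y hy).hom).symm
    · rw [Groth.Agent.Fitting.sheafIdeal_ideal, Scheme.IdealSheafData.ideal_top, Pi.top_apply]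
      by_contra hne
      obtain ⟨m, hm, hle⟩ := Ideal.exists_le_maximal _ hne
      obtain ⟨y, hy⟩ := Groth.Agent.ModStalk.exists_point W.2 m
      obtain ⟨b, hli, hsp⟩ := hbasis y.1
      have h0 := Groth.Agent.Fitting.map_ideal_germ F k W.2 y.1 y.2
      rw [Groth.Agent.Fitting.ideal_eq_F b hsp, Groth.Agent.Fitting.F_eq_top_of_le b hk] at h0
      letI : Algebra Γ(S, W.1) (S.presheaf.stalk y.1) := (S.presheaf.germ W.1 y.1 y.2).hom.toAlgebra
      haveI : IsLocalization.AtPrime (S.presheaf.stalk y.1) (W.2.primeIdealOf y).asIdeal :=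
        W.2.isLocalization_stalk y
      exact (IsLocalization.map_algebraMap_ne_top_iff_disjoint (W.2.primeIdealOf y).asIdeal.primeCompl
        (S.presheaf.stalk y.1) (Fitt.ideal Γ(S, W.1) Γ(F, W.1) k)).mpr
        (Set.disjoint_left.mpr fun a ha haI => ha (hy.symm ▸ hle haI)) h0.symm
  · rintro ⟨hbot, htop⟩ x
    have hx : x ∉ (Fitt.sheafIdeal F r).support := by
      rw [htop r le_rfl, Scheme.IdealSheafData.support_top]
      exact fun h => h
    obtain ⟨U, t, hxU, ht⟩ := Groth.Agent.Fitting.exists_span_nhd_of_not_mem_support F x hx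
    have hli : ∀ (y : S) (hy : y ∈ U), LinearIndependent (S.presheaf.stalk y)
        fun i => F.presheaf.germ U y hy (t i) := by
      intro y hy
      refine Groth.Agent.Fitting.linearIndependent_of_F_eq_bot _ fun k hk => ?_
      obtain ⟨_, ⟨W, hW, rfl⟩, hyW, -⟩ :=
        S.isBasis_affineOpens.exists_subset_of_mem_open (Set.mem_univ y) isOpen_univ
      rw [← Groth.Agent.Fitting.ideal_eq_F _ (ht y hy), Groth.Agent.Fitting.map_ideal_germ F k hW y hyW,
        ← Groth.Agent.Fitting.sheafIdeal_ideal F k ⟨W, hW⟩, hbot k hk, Scheme.IdealSheafData.ideal_bot,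
        Pi.bot_apply, Ideal.map_bot]
    obtain ⟨e⟩ := Groth.Agent.ModStalk.exists_over_iso_free F (fun i : ULift.{u} (Fin r) => t i.down)
      (fun y hy => by
        rw [show (Set.range fun i : ULift.{u} (Fin r) => F.presheaf.germ U y hy (t i.down)) =
          Set.range fun i => F.presheaf.germ U y hy (t i) from
            Equiv.ulift.surjective.range_comp fun i => F.presheaf.germ U y hy (t i)]
        exact ht y hy)
      (fun y hy => (hli y hy).comp _ Equiv.ulift.injective)
    exact ⟨U, hxU, Groth.Agent.ModStalk.nonempty_iso_freeMod F e⟩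

end Groth.Agent.S8875
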