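import Groth.Statements.S8876
import Groth.Agent.Fitting.Sheaf

set_option autoImplicit false
universe u
open CategoryTheory CategoryTheory.Limits AlgebraicGeometry TopologicalSpace
open SDiv

namespace Groth.Agent.S8876

/-- Let S be a scheme and F a quasi-coherent O_S-module of finite type. Then the closed subset of S cut
out by Fit_0(F) equals the support of F (the scheme-theoretic support and the Fit_0 subscheme have
the same underlying set). -/
theorem result (S : Scheme.{u}) (F : S.Modules) (hF : Coh.IsQCoh F) (hft : CohB1.IsFT F) :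
    ((Fitt.sheafIdeal F 0).support : Set ↥S) = CohB1.support F := by
  haveI : F.IsQuasicoherent := hF
  haveI : SheafOfModules.IsFiniteType (R := S.ringCatSheaf) F := hft
  ext x
  obtain ⟨_, ⟨U, hU, rfl⟩, hxU, -⟩ :=
    S.isBasis_affineOpens.exists_subset_of_mem_open (Set.mem_univ x) isOpen_univ
  rw [SetLike.mem_coe, Groth.Agent.Fitting.mem_support_sheafIdeal_iff F 0 hU ⟨x, hxU⟩]
  haveI := Groth.Agent.ModStalk.finite_sections (M := F) hU
  let p := hU.primeIdealOf ⟨x, hxU⟩
  have h1 : Fitt.ideal Γ(S, U) Γ(F, U) 0 ≤ p.asIdeal ↔ p ∈ Module.support Γ(S, U) Γ(F, U) := by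
    rw [← Groth.Agent.Fitting.zeroLocus_ideal_zero]; rfl
  rw [h1]
  letI := Groth.Agent.ModStalk.sectionModule F (⟨x, hxU⟩ : U)
  haveI := Groth.Agent.ModStalk.isLocalizedModule_germ (M := F) hU ⟨x, hxU⟩
  rw [Module.mem_support_iff, ← not_subsingleton_iff_nontrivial]
  show _ ↔ ¬ Subsingleton _
  exact not_congr (IsLocalizedModule.iso p.asIdeal.primeCompl
    (Groth.Agent.ModStalk.germₗ F (⟨x, hxU⟩ : U))).toEquiv.subsingleton_congr

end Groth.Agent.S8876
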