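import Groth.Statements.S8886
import Mathlib.AlgebraicGeometry.Geometrically.Reduced
import Mathlib.AlgebraicGeometry.Morphisms.UniversallyOpen

set_option autoImplicit false
universe u
open CategoryTheory CategoryTheory.Limits AlgebraicGeometry TopologicalSpace
open SDiv

namespace Groth.Agent.S8886

/-- Let f : X ⟶ Y be a flat morphism of schemes with Y integral. If the scheme-theoretic fibre of f over
the generic point of Y is integral, then X is integral. -/
theorem result {X Y : Scheme.{u}} (f : X ⟶ Y) [Flat f] [IsIntegral Y]
    (h : IsIntegral (f.fiber (genericPoint ↥Y))) : IsIntegral X := by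
  set η := genericPoint ↥Y
  let g := Y.fromSpecResidueField η
  have : QuasiCompact g := ⟨fun _ _ _ => (Set.toFinite _).isCompact⟩
  have hd : IsSchemeTheoreticallyDominant g := by
    rw [isSchemeTheoreticallyDominant_iff_isDominant, isDominant_iff, denseRange_iff_closure_range,
      Scheme.range_fromSpecResidueField]
    exact genericPoint_closure ↥Y
  have : IsReduced (f.fiber η) := inferInstance
  have : IsReduced (pullback f g) := ‹IsReduced (f.fiber η)›
  have : IsReduced X := IsSchemeTheoreticallyDominant.isReduced (pullback.fst f g)
  have hne : Nonempty (f.fiber η) := inferInstance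
  have : Nonempty X := hne.map (f.fiberι η)
  have hirr : IsIrreducible (Set.univ : Set X) := by
    have h1 : IsIrreducible (Set.range (f.fiberι η)) := by
      rw [← Set.image_univ]
      exact (IrreducibleSpace.isIrreducible_univ (f.fiber η)).image _ (f.fiberι η).continuous.continuousOn
    suffices h : closure (Set.range (f.fiberι η)) = Set.univ by rw [← h]; exact h1.closure
    refine Set.eq_univ_of_forall fun x => ?_
    obtain ⟨x', hx', hfx'⟩ := Flat.generalizingMap f (genericPoint_specializes (f x) : η ⤳ f x)
    exact hx'.mem_closed isClosed_closure (subset_closure (by rw [Scheme.Hom.range_fiberι]; exact hfx'))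
  have : IrreducibleSpace X := { isPreirreducible_univ := hirr.isPreirreducible, toNonempty := inferInstance }
  exact isIntegral_of_irreducibleSpace_of_isReduced X

end Groth.Agent.S8886
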