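import Groth.Statements.S8888
import Groth.Agent.ModStalk.PullbackQCoh
import Mathlib.AlgebraicGeometry.FunctionField
import Mathlib.LinearAlgebra.Dimension.Constructions

set_option autoImplicit false
universe u
open CategoryTheory CategoryTheory.Limits AlgebraicGeometry TopologicalSpace
open SDiv

namespace Groth.Agent.S8888

theorem rank_aux {X Y : Scheme.{u}} (f : X ⟶ Y) (G : Y.Modules) (x : X) (hy : IsField ↑(Y.presheaf.stalk (f x))) :
    Module.rank ↑(X.presheaf.stalk x) ↑(((Scheme.Modules.pullback f).obj G).presheaf.stalk x) =
      Module.rank ↑(Y.presheaf.stalk (f x)) ↑(G.presheaf.stalk (f x)) := by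
  obtain ⟨e, -⟩ := Groth.Agent.ModStalk.exists_pullStalk_equiv f G x
  letI := (f.stalkMap x).hom.toAlgebra
  letI := hy.toField
  rw [e.rank_eq, Module.rank_baseChange, Cardinal.lift_id]


/-- Let f : X ⟶ Y be a dominant morphism of integral schemes and G a quasi-coherent O_Y-module. Then the
rank of f^*G on X, the dimension of its stalk at the generic point of X over the function field of
X, equals the rank of G on Y. -/
theorem result {X Y : Scheme.{u}} [IsIntegral X] [IsIntegral Y] (f : X ⟶ Y) [IsDominant f]
    (G : Y.Modules) (hG : Coh.IsQCoh G) :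
    Module.rank ↑(X.presheaf.stalk (genericPoint ↥X)) ↑(((Scheme.Modules.pullback f).obj G).presheaf.stalk (genericPoint ↥X)) =
      Module.rank ↑(Y.presheaf.stalk (genericPoint ↥Y)) ↑(G.presheaf.stalk (genericPoint ↥Y)) := by
  have key : f (genericPoint ↥X) = genericPoint ↥Y := by
    apply ((genericPoint_spec Y).eq _).symm
    have h := (genericPoint_spec X).image f.continuous
    rwa [Set.image_univ, f.denseRange.closure_range] at h
  have hK : IsField ↑(Y.presheaf.stalk (f (genericPoint ↥X))) := by
    rw [key]
    exact Field.toIsField Y.functionField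
  rw [rank_aux f G _ hK, key]

end Groth.Agent.S8888
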