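import Groth.Statements.S8891
import Groth.Agent.ModStalk.DepthTwo

set_option autoImplicit false
universe u
open CategoryTheory CategoryTheory.Limits AlgebraicGeometry TopologicalSpace
open SDiv

namespace Groth.Agent.S8891

/-- Let X be an integral locally Noetherian scheme and φ : F ⟶ G a morphism of quasi-coherent
O_X-modules with F coherent and G torsion free. Assume that for every point x either the stalk map
F_x → G_x is an isomorphism, or depth(F_x) ≥ 2 and x is not the generic point of X. Then φ is an
isomorphism. (The published statement allows the second alternative at the generic point as well;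
since the zero module has infinite depth, F = 0 and G = O_X then satisfy every hypothesis while 0 →
O_X is not an isomorphism. The general criterion this is a special case of requires x not to be
associated to G, which for torsion-free G ≠ 0 fails exactly at the generic point; so the generic
point is excluded from the second alternative here.) -/
theorem result (X : Scheme.{u}) [IsIntegral X] [IsLocallyNoetherian X] {F G : X.Modules}
    (φ : F ⟶ G) (hF : Coh.IsCoh F) (hG : Coh.IsQCoh G)
    (htf : ∀ x : ↥X, NoZeroSMulDivisors ↑(X.presheaf.stalk x) ↑(G.presheaf.stalk x))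
    (h : ∀ x : ↥X, Function.Bijective ((TopCat.Presheaf.stalkFunctor AddCommGrpCat.{u} x).map (Scheme.Modules.Hom.mapPresheaf φ)) ∨
      ((2 : ℕ∞) ≤ LocCoh.depth (X.presheaf.stalk x) (F.presheaf.stalk x) ∧ x ≠ genericPoint ↥X)) :
    IsIso φ := by
  refine Groth.Agent.ModStalk.isIso_of_depth φ hF hG fun x => (h x).imp id fun ⟨hd, hx⟩ => ⟨hd, fun hass => ?_⟩
  obtain ⟨m, hm⟩ := (Groth.Agent.ModStalk.isAssPoint_iff_isWeakAssPoint G x).mp hass
  obtain ⟨_, ⟨V, hV, rfl⟩, hxV, -⟩ :=
    X.isBasis_affineOpens.exists_subset_of_mem_open (Set.mem_univ x) isOpen_univ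
  have hspec : genericPoint X ⤳ x := (genericPoint_spec X).specializes (Set.mem_univ x)
  have hη : genericPoint X ∈ V := hspec.mem_open V.isOpen hxV
  have hle := Groth.Agent.ModStalk.primeIdeal_le_of_specializes hV (x := ⟨x, hxV⟩) (y := ⟨_, hη⟩) hspec
  obtain ⟨g, hg, hgη⟩ := SetLike.not_le_iff_exists.mp fun h' => hx
    (Groth.Agent.ModStalk.eq_of_primeIdeal_eq hV (x := ⟨x, hxV⟩) (y := ⟨_, hη⟩) (le_antisymm hle h')).symm
  have hgx : X.presheaf.germ V x hxV g ∈ IsLocalRing.maximalIdeal (X.presheaf.stalk x) := by
    rw [IsLocalRing.mem_maximalIdeal, mem_nonunits_iff, ← Scheme.mem_basicOpen _ _ _ hxV]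
    exact fun h' => (Groth.Agent.ModStalk.germ_mem_primeIdeal_iff hV ⟨x, hxV⟩ g).mpr h' hg
  rw [← hm] at hgx
  obtain ⟨k, hk⟩ := hgx
  have hg0 : X.presheaf.germ V x hxV g ≠ 0 := fun h0 => by
    have h1 : g = 0 := germ_injective_of_isIntegral X x hxV (h0.trans (map_zero _).symm)
    exact hgη (h1 ▸ Submodule.zero_mem _)
  have := htf x
  rcases eq_zero_or_eq_zero_of_smul_eq_zero (LinearMap.mem_ker.mp hk) with h0 | h0
  · exact pow_ne_zero k hg0 h0
  · refine (IsLocalRing.maximalIdeal.isMaximal (X.presheaf.stalk x)).ne_top ?_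
    rw [← hm, h0, Ideal.radical_eq_top]
    exact Submodule.eq_top_iff'.mpr fun a => LinearMap.mem_ker.mpr (smul_zero a)

end Groth.Agent.S8891
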