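import Groth.Statements.S8899
import Groth.Agent.ModStalk.PullbackQCoh
import Mathlib.LinearAlgebra.TensorProduct.Quotient

set_option autoImplicit false
universe u
open CategoryTheory CategoryTheory.Limits AlgebraicGeometry TopologicalSpace
open SDiv

namespace Groth.Agent.S8899

open TensorProduct in
theorem weak_aux {R B G : Type u} [CommRing R] [IsLocalRing R] [CommRing B] [IsLocalRing B] [Algebra R B]
    [Module.Flat R B] [AddCommGroup G] [Module R G] (m : G)
    (hm : Ideal.radical (LinearMap.ker (LinearMap.toSpanSingleton R G m)) = IsLocalRing.maximalIdeal R)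
    (hP : ∀ P : Ideal B, P.IsPrime → IsLocalRing.maximalIdeal R ≤ P.comap (algebraMap R B) →
      P = IsLocalRing.maximalIdeal B)
    (hloc : IsLocalHom (algebraMap R B)) :
    Ideal.radical (LinearMap.ker (LinearMap.toSpanSingleton B (B ⊗[R] G) (1 ⊗ₜ m))) = IsLocalRing.maximalIdeal B := by
  let I : Ideal R := LinearMap.ker (LinearMap.toSpanSingleton R G m)
  let J : Ideal B := LinearMap.ker (LinearMap.toSpanSingleton B (B ⊗[R] G) (1 ⊗ₜ m))
  have h1 : I.map (algebraMap R B) ≤ J := by
    rw [Ideal.map_le_iff_le_comap]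
    intro r hr
    show algebraMap R B r • ((1 : B) ⊗ₜ[R] m) = 0
    rw [algebraMap_smul, ← TensorProduct.tmul_smul, show r • m = 0 from hr, TensorProduct.tmul_zero]
  have h2 : J ≤ I.map (algebraMap R B) := by
    intro b hb
    let φ : (R ⧸ I) →ₗ[R] G := Submodule.liftQ I (LinearMap.toSpanSingleton R G m) le_rfl
    have hφ : Function.Injective φ := LinearMap.ker_eq_bot.mp (Submodule.ker_liftQ_eq_bot _ _ _ le_rfl)
    have hinj := Module.Flat.lTensor_preserves_injective_linearMap (M := B) φ hφ
    have hb0 : (b ⊗ₜ[R] Ideal.Quotient.mk I 1 : B ⊗[R] (R ⧸ I)) = 0 := by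
      apply hinj
      rw [map_zero, LinearMap.lTensor_tmul]
      show b ⊗ₜ[R] ((1 : R) • m) = 0
      rw [one_smul]
      have hb' : b • ((1 : B) ⊗ₜ[R] m) = 0 := hb
      rwa [TensorProduct.smul_tmul', smul_eq_mul, mul_one] at hb'
    have h := congrArg (TensorProduct.tensorQuotEquivQuotSMul B I) hb0
    rw [map_zero, TensorProduct.tensorQuotEquivQuotSMul_tmul_mk, one_smul, Submodule.Quotient.mk_eq_zero,
      Ideal.smul_top_eq_map] at h
    exact h
  show J.radical = _
  rw [le_antisymm h2 h1]
  have hIm : I ≤ IsLocalRing.maximalIdeal R := Ideal.le_radical.trans hm.le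
  apply le_antisymm
  · refine ((IsLocalRing.maximalIdeal.isMaximal B).isPrime.isRadical.radical_le_iff).mpr ?_
    exact (Ideal.map_mono hIm).trans
      (((IsLocalRing.local_hom_TFAE (algebraMap R B)).out 0 2).mp hloc)
  · rw [Ideal.radical_eq_sInf]
    refine le_sInf fun P ⟨hIP, hPp⟩ => ?_
    refine (hP P hPp ?_).ge
    rw [← hm]
    exact (hPp.comap _).isRadical.radical_le_iff.mpr (Ideal.map_le_iff_le_comap.mp hIP)


/-- Let f : X ⟶ S be a morphism of schemes, G a quasi-coherent O_S-module and x a point of X over s = f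
x such that f is flat at x, no point of f⁻¹(s) other than x specialises to x (x is the generic point
of some irreducible component of the fibre X_s), and s is weakly associated to G. Then x is weakly
associated to f^*G. -/
theorem result {X S : Scheme.{u}} (f : X ⟶ S) (G : S.Modules) (hG : Coh.IsQCoh G)
    (x : ↥X) (hfl : (f.stalkMap x).hom.Flat) (hgen : ∀ y : ↥X, f y = f x → y ⤳ x → y = x)
    (hs : Curv2.IsWeakAssPoint G (f x)) : Curv2.IsWeakAssPoint ((Scheme.Modules.pullback f).obj G) x := by
  obtain ⟨m, hm⟩ := hs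
  letI := (f.stalkMap x).hom.toAlgebra
  haveI : Module.Flat (S.presheaf.stalk (f x)) (X.presheaf.stalk x) := hfl
  haveI hloc : IsLocalHom (algebraMap (S.presheaf.stalk (f x)) (X.presheaf.stalk x)) :=
    inferInstanceAs (IsLocalHom (f.stalkMap x).hom)
  obtain ⟨e, he⟩ := Groth.Agent.ModStalk.exists_pullStalk_equiv f G x
  refine ⟨Groth.Agent.ModStalk.pullGerm f G x m, ?_⟩
  rw [show LinearMap.ker (LinearMap.toSpanSingleton (X.presheaf.stalk x) _ (Groth.Agent.ModStalk.pullGerm f G x m)) =
      LinearMap.ker (LinearMap.toSpanSingleton (X.presheaf.stalk x) _ (e (Groth.Agent.ModStalk.pullGerm f G x m))) from ?_]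
  · rw [he]
    refine weak_aux m hm (fun P hP hle => ?_) hloc
    let p : Spec (X.presheaf.stalk x) := ⟨P, hP⟩
    have hp : Spec.map (f.stalkMap x) p = IsLocalRing.closedPoint (S.presheaf.stalk (f x)) :=
      PrimeSpectrum.ext ((IsLocalRing.maximalIdeal.isMaximal _).eq_of_le (hP.comap _).ne_top hle).symm
    have h1 : f (X.fromSpecStalk x p) = f x := by
      rw [← Scheme.Hom.comp_apply, ← Scheme.SpecMap_stalkMap_fromSpecStalk, Scheme.Hom.comp_apply, hp,
        Scheme.fromSpecStalk_closedPoint]
    have h2 : X.fromSpecStalk x p ⤳ x := by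
      have : X.fromSpecStalk x p ∈ Set.range (X.fromSpecStalk x) := ⟨p, rfl⟩
      rwa [Scheme.range_fromSpecStalk] at this
    have h3 : p = IsLocalRing.closedPoint (X.presheaf.stalk x) :=
      (X.fromSpecStalk x).isEmbedding.injective ((hgen _ h1 h2).trans (X.fromSpecStalk_closedPoint).symm)
    exact congrArg PrimeSpectrum.asIdeal h3
  · ext r
    simp only [LinearMap.mem_ker, LinearMap.toSpanSingleton_apply, ← map_smul, map_eq_zero_iff e e.injective]

end Groth.Agent.S8899
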