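import Groth.Statements.S8901
import Groth.Agent.ModStalk.UnitStalk

set_option autoImplicit false
universe u
open CategoryTheory CategoryTheory.Limits AlgebraicGeometry TopologicalSpace
open SDiv

namespace Groth.Agent.S8901

/-- Let f : X ⟶ Y be a morphism of schemes under which each weakly associated point of X (of O_X) goes
to a point of Y with no proper generization (the generic point of some irreducible component of Y).
Then pullbacks of meromorphic functions are defined for f: for every open U ⊆ Y and every regular
section s of O_Y over U, the pulled-back section of O_X over f⁻¹U is regular. -/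
theorem result {X Y : Scheme.{u}} (f : X ⟶ Y)
    (h : ∀ x : ↥X, Curv2.IsWeakAssPoint (Coh.structureModule X) x → ∀ y : ↥Y, y ⤳ f x → y = f x)
    (U : Y.Opens) (s : Γ(Y, U)) (hs : s ∈ Mero.regSub Y U) : f.app U s ∈ Mero.regSub X (f ⁻¹ᵁ U) := by
  rintro ⟨x, hx⟩
  refine Groth.Agent.ModStalk.germ_mem_nonZeroDivisors _ (fun y hy hw => ?_) x hx
  refine (IsUnit.mem_nonZeroDivisors ?_)
  erw [← Scheme.Hom.germ_stalkMap_apply f U y hy s]
  exact (Groth.Agent.ModStalk.isUnit_of_minimal (f y) (h y hw) (hs ⟨f y, hy⟩)).map _

end Groth.Agent.S8901
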