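import Groth.Statements.S8914
import Groth.Agent.ModStalk.Semilocal
import Groth.Agent.ModStalk.Lift

set_option autoImplicit false
universe u
open CategoryTheory CategoryTheory.Limits AlgebraicGeometry TopologicalSpace
open SDiv

namespace Groth.Agent.S8914

open CategoryTheory CategoryTheory.Limits AlgebraicGeometry in
theorem exists_idealMod_app {S : Scheme.{u}} (I : S.IdealSheafData) (U : S.affineOpens) (a : Γ(S, U.1)) :
    a ∈ I.ideal U ↔ ∃ t : Γ(ClSub.idealMod I, U.1), (ClSub.idealModι I).app U.1 t = a := by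
  rw [← I.ker_subschemeι_app U, RingHom.mem_ker]
  let T : ShortComplex S.Modules := ShortComplex.mk (ClSub.idealModι I) (ClSub.toSubscheme I) (kernel.condition _)
  have hT : T.Exact := ShortComplex.exact_of_f_is_kernel T (kernelIsKernel (ClSub.toSubscheme I))
  have : Mono T.f := inferInstanceAs (Mono (kernel.ι (ClSub.toSubscheme I)))
  constructor
  · intro ha
    exact Groth.Agent.ModStalk.exists_app_eq hT (W := U.1) a ha
  · rintro ⟨t, rfl⟩
    exact congrArg (fun φ => Scheme.Modules.Hom.app φ U.1 t) (kernel.condition (ClSub.toSubscheme I))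

open CategoryTheory CategoryTheory.Limits AlgebraicGeometry in
theorem idealModι_injective {S : Scheme.{u}} (I : S.IdealSheafData) (U : S.Opens) :
    Function.Injective ((ClSub.idealModι I).app U) := by
  have : Mono (ClSub.idealModι I) := inferInstanceAs (Mono (kernel.ι (ClSub.toSubscheme I)))
  exact Groth.Agent.ModStalk.injective_app_of_mono _ (ClSub.idealModι I) U

open CategoryTheory CategoryTheory.Limits AlgebraicGeometry in
theorem forward {S : Scheme.{u}} (I : S.IdealSheafData) (h : PicF.IsInvertible (ClSub.idealMod I)) :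
    BlowUp.IsEffCartierIdeal I := by
  let L := ClSub.idealMod I
  have hE : FlatMod.IsFinLocFree L := fun y => by
    obtain ⟨U, hyU, ⟨e⟩⟩ := h y
    exact ⟨U, 1, hyU, ⟨e ≪≫ (coproductUniqueIso fun _ : Fin 1 => Coh.structureModule (U : Scheme.{u})).symm⟩⟩
  have := Groth.Agent.ModStalk.isFinitePresentation_of_isFinLocFree L hE
  have := Groth.Agent.ModStalk.isFiniteType_of_isFinLocFree L hE
  obtain ⟨hfree, hrank⟩ := Groth.Agent.ModStalk.free_stalk_of_isFinLocFree L hE
  intro x
  obtain ⟨W, hxW, ⟨e₀⟩⟩ := h x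
  obtain ⟨U₀, n, e, hxU₀, he⟩ := Groth.Agent.ModStalk.exists_basis_nhd L hfree hrank x
  obtain ⟨_, ⟨U, hU, rfl⟩, hxU, hUW⟩ := S.isBasis_affineOpens.exists_subset_of_mem_open
    (show x ∈ W ⊓ U₀ from ⟨hxW, hxU₀⟩) (W ⊓ U₀).isOpen
  have hU₀ : U ≤ U₀ := fun y hy => (hUW hy).2
  have h1 := (Groth.Agent.ModStalk.free_stalk_of_pullback W.ι L
    (((Scheme.Modules.restrictFunctorIsoPullback W.ι).app _).symm ≪≫ e₀ ≪≫
      (coproductUniqueIso fun _ : Fin 1 => Coh.structureModule (W : Scheme.{u})).symm) ⟨x, (hUW hxU).1⟩).2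
  let b := Module.Basis.mk (he x (hU₀ hxU)).2 (he x (hU₀ hxU)).1.ge
  have h2 := Module.finrank_eq_card_basis b
  rw [Fintype.card_fin] at h2
  obtain rfl : n = 1 := h2.symm.trans h1
  let e' : Γ(L, U) := L.presheaf.map (homOfLE hU₀).op (e 0)
  have hge : ∀ (y : S) (hy : y ∈ U), L.presheaf.germ U y hy e' = L.presheaf.germ U₀ y (hU₀ hy) (e 0) :=
    fun y hy => TopCat.Presheaf.germ_res_apply _ _ y hy _
  have hspan : ∀ (y : S) (hy : y ∈ U), Submodule.span (S.presheaf.stalk y) {L.presheaf.germ U y hy e'} = ⊤ := by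
    intro y hy
    rw [← (he y (hU₀ hy)).1, hge y hy]
    congr 1
    exact (Set.range_unique (f := fun i => L.presheaf.germ U₀ y (hU₀ hy) (e i))).symm
  have htop := Groth.Agent.ModStalk.eq_top_of_span_germ_eq_top hU L (Submodule.span Γ(S, U) {e'}) fun y =>
    eq_top_iff.mpr ((hspan y.1 y.2).ge.trans (Submodule.span_mono (Set.singleton_subset_iff.mpr
      ⟨e', Submodule.mem_span_singleton_self e', rfl⟩)))
  obtain ⟨f, hf⟩ : ∃ f : Γ(S, U), (ClSub.idealModι I).app U e' = f := ⟨_, rfl⟩
  have hmul : ∀ c : Γ(S, U), (ClSub.idealModι I).app U (c • e') = c * f := fun c => by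
    rw [Scheme.Modules.Hom.app_smul, hf]; rfl
  refine ⟨⟨U, hU⟩, hxU, f, mem_nonZeroDivisors_iff_right.mpr fun c hc => ?_, le_antisymm ?_ ?_⟩
  · have hce : c • e' = 0 := idealModι_injective I U (by rw [hmul, hc, map_zero]; rfl)
    refine TopCat.Presheaf.section_ext S.sheaf U _ _ fun y hy => ?_
    have h3 := congrArg (L.presheaf.germ U y hy) hce
    rw [Groth.Agent.ModStalk.germ_smul, map_zero, hge y hy] at h3
    have h4 := Fintype.linearIndependent_iff.mp (he y (hU₀ hy)).2 (fun _ => S.presheaf.germ U y hy c)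
      (by rw [Fin.sum_univ_one]; exact h3) 0
    exact h4.trans (map_zero _).symm
  · intro a ha
    obtain ⟨t, rfl⟩ := (exists_idealMod_app I ⟨U, hU⟩ a).mp ha
    obtain ⟨c, rfl⟩ := Submodule.mem_span_singleton.mp (htop.ge (Submodule.mem_top (x := t)))
    rw [hmul]
    exact Ideal.mem_span_singleton'.mpr ⟨c, rfl⟩
  · rw [Ideal.span_le, Set.singleton_subset_iff]
    exact (exists_idealMod_app I ⟨U, hU⟩ f).mpr ⟨e', hf⟩

open CategoryTheory CategoryTheory.Limits AlgebraicGeometry in
theorem backward {S : Scheme.{u}} (I : S.IdealSheafData) (h : BlowUp.IsEffCartierIdeal I) :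
    PicF.IsInvertible (ClSub.idealMod I) := by
  intro x
  obtain ⟨⟨U, hU⟩, hxU, f, hf, hI⟩ := h x
  obtain ⟨e, he⟩ := (exists_idealMod_app I ⟨U, hU⟩ f).mp (by rw [hI]; exact Ideal.mem_span_singleton_self f)
  let L := ClSub.idealMod I
  obtain ⟨iso⟩ := Groth.Agent.ModStalk.exists_over_iso_free L (fun _ : ULift.{u} (Fin 1) => e) (fun y hy => by
    rw [Set.range_const]
    refine eq_top_iff.mpr fun v _ => ?_
    obtain ⟨W, hyW, t, rfl⟩ := L.presheaf.exists_germ_eq v
    obtain ⟨g, hgW, hyg⟩ := hU.exists_basicOpen_le (V := W) ⟨y, hyW⟩ hy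
    obtain ⟨a, ha⟩ : ∃ a : Γ(S, S.basicOpen g), (ClSub.idealModι I).app (S.basicOpen g) (L.presheaf.map (homOfLE hgW).op t) = a := ⟨_, rfl⟩
    have hmem : a ∈ I.ideal (S.affineBasicOpen (U := ⟨U, hU⟩) g) := (exists_idealMod_app I (S.affineBasicOpen (U := ⟨U, hU⟩) g) a).mpr ⟨_, ha⟩
    rw [← I.map_ideal_basicOpen ⟨U, hU⟩ g, hI, Ideal.map_span, Set.image_singleton] at hmem
    obtain ⟨c, hc⟩ : ∃ c : Γ(S, S.basicOpen g), c * S.presheaf.map (homOfLE (S.basicOpen_le g)).op f = a :=
      Ideal.mem_span_singleton'.mp hmem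
    have hteq : L.presheaf.map (homOfLE hgW).op t = c • L.presheaf.map (homOfLE (S.basicOpen_le g)).op e := by
      apply idealModι_injective I (S.basicOpen g)
      rw [Scheme.Modules.Hom.app_smul, ha, ← hc]
      refine congrArg (c * ·) ?_
      rw [← he]
      exact (Groth.Agent.ModStalk.app_res (ClSub.idealModι I) (S.basicOpen_le g) e).symm
    rw [← L.presheaf.germ_res_apply (homOfLE hgW) y hyg t, hteq, Groth.Agent.ModStalk.germ_smul,
      TopCat.Presheaf.germ_res_apply]
    exact Submodule.smul_mem _ _ (Submodule.mem_span_singleton_self _)) (fun y hy => by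
    refine Fintype.linearIndependent_iff.mpr fun r hr i => ?_
    rw [Fintype.sum_unique] at hr
    obtain rfl : i = default := Subsingleton.elim _ _
    have h1 := congrArg (RefHull.stalkMapₗ (ClSub.idealModι I) y) hr
    rw [map_smul, map_zero, RefHull.stalkMapₗ_germ] at h1
    have h1' : r default • (Coh.structureModule S).presheaf.germ U y hy (Groth.Agent.ModStalk.toUnit f) = 0 := by
      rw [← he]; exact h1
    rw [← Groth.Agent.ModStalk.unitStalkEquiv_germ, ← map_smul, smul_eq_mul,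
      LinearEquiv.map_eq_zero_iff] at h1'
    letI := TopCat.Presheaf.algebra_section_stalk S.presheaf (⟨y, hy⟩ : U)
    haveI := hU.isLocalization_stalk ⟨y, hy⟩
    have hnz : S.presheaf.germ U y hy f ∈ nonZeroDivisors (S.presheaf.stalk y) :=
      IsLocalization.map_nonZeroDivisors_le (hU.primeIdealOf ⟨y, hy⟩).asIdeal.primeCompl (S.presheaf.stalk y)
        ⟨f, hf, rfl⟩
    exact mem_nonZeroDivisors_iff_right.mp hnz _ h1')
  obtain ⟨e'⟩ := Groth.Agent.ModStalk.nonempty_iso_freeMod L iso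
  exact ⟨U, hxU, ⟨e' ≪≫ coproductUniqueIso fun _ : Fin 1 => Coh.structureModule (U : Scheme.{u})⟩⟩


/-- Let S be a scheme and D ⊆ S a closed subscheme with quasi-coherent ideal sheaf 𝓘. Then the ideal
sheaf of D is an invertible O_S-module (that is, D is an effective Cartier divisor) if and only if
every point has an affine open neighbourhood Spec A in S with D ∩ Spec A = Spec A/(f) for a
nonzerodivisor f ∈ A. -/
theorem result {S : Scheme.{u}} (𝓘 : S.IdealSheafData) :
    PicF.IsInvertible (ClSub.idealMod 𝓘) ↔ BlowUp.IsEffCartierIdeal 𝓘 := by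
  exact ⟨forward _, backward _⟩

end Groth.Agent.S8914
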