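import Groth.Statements.S8915
import Groth.Agent.Fitting.Sheaf
import Groth.Agent.ModStalk.OmegaLocal
import Groth.Agent.ModStalk.FiniteCover
import Groth.Agent.Locus.Basic
import Groth.Agent.S5005
import Groth.Agent.S9387

set_option autoImplicit false
universe u
open CategoryTheory CategoryTheory.Limits AlgebraicGeometry TopologicalSpace
open SDiv

namespace Groth.Agent.S8915

/-- Let f : X ⟶ S be locally of finite type and quasi-separated. Then the closed subset of X defined by
the Fitting ideal Fit_0(Ω_{X/S}) is exactly the set of points at which f is not unramified, i.e.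
which have no open neighbourhood on which f is formally unramified. The published statement does not
assume f quasi-separated; this row does, because the module Ω_{X/S} used here is defined for
quasi-separated f. -/
theorem result {X S : Scheme.{u}} (f : X ⟶ S) [LocallyOfFiniteType f] [QuasiSeparated f]
    (x : ↥X) :
    x ∈ (Fitt.sheafIdeal (Omega.sheaf f) 0).support ↔ ¬ ∃ U : X.Opens, x ∈ U ∧ FormallyUnramified (U.ι ≫ f) := by
  have hd := Groth.Agent.S5005.result f
  haveI : (Omega.sheaf f).IsQuasicoherent := Groth.Agent.ModStalk.isQCoh_of_isUniversal hd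
  haveI : SheafOfModules.IsFiniteType (R := X.ringCatSheaf) (Omega.sheaf f) :=
    Groth.Agent.S9387.result f (Omega.sheaf f) (OmegaSh.dOmega f) hd
  rw [Groth.Agent.Locus.Basic.exists_formallyUnramified_nhd_iff]
  obtain ⟨_, ⟨V, hV, rfl⟩, hxV, -⟩ := S.isBasis_affineOpens.exists_subset_of_mem_open (Set.mem_univ (f x)) isOpen_univ
  obtain ⟨_, ⟨U, hU, rfl⟩, hxU, hle⟩ :=
    X.isBasis_affineOpens.exists_subset_of_mem_open (show x ∈ f ⁻¹ᵁ V from hxV) (f ⁻¹ᵁ V).2
  rw [Groth.Agent.Fitting.mem_support_sheafIdeal_iff (Omega.sheaf f) 0 hU ⟨x, hxU⟩,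
    Groth.Agent.Locus.Basic.formallyUnramified_stalkMap_iff f V hV U hU hle hxU]
  letI := (f.appLE V U hle).hom.toAlgebra
  obtain ⟨T, -⟩ := Groth.Agent.ModStalk.exists_kaehlerEquiv hle hd hV hU
  haveI := Groth.Agent.ModStalk.finite_sections (M := Omega.sheaf f) hU
  rw [Algebra.unramifiedLocus_eq_compl_support, Set.mem_compl_iff, not_not, LinearEquiv.support_eq T,
    ← Groth.Agent.Fitting.zeroLocus_ideal_zero]
  rfl

end Groth.Agent.S8915
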