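import Groth.Statements.S9386
import Groth.Agent.ModStalk.OmegaCompat

set_option autoImplicit false
universe u
open OmegaSh

namespace Groth.Agent.S9386

open AlgebraicGeometry CategoryTheory in
/-- For a cartesian square X' = X ×_S S' with projection g' : X' → X, the canonical map g'^*Ω_{X/S} →
Ω_{X'/S'} is an isomorphism (receptacle form: Ω_{X/S}, Ω_{X'/S'} are any modules carrying universal
derivations and the map is pinned by its values on pulled-back differentials). -/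
theorem result {X S X' S' : Scheme.{u}} (f : X ⟶ S) (g : S' ⟶ S) (g' : X' ⟶ X) (f' : X' ⟶ S')
    (hsq : IsPullback g' f' f g) (Ω : X.Modules) (d : OmegaSh.Der f Ω) (hd : OmegaSh.IsUniversal d)
    (Ω' : X'.Modules) (d' : OmegaSh.Der f' Ω') (hd' : OmegaSh.IsUniversal d')
    (c : (Scheme.Modules.pullback g').obj Ω ⟶ Ω') (hc : OmegaSh.IsDiffCompat g' d d' c) : IsIso c := by
  have : Ω.IsQuasicoherent := Groth.Agent.ModStalk.isQCoh_of_isUniversal hd
  have : Ω'.IsQuasicoherent := Groth.Agent.ModStalk.isQCoh_of_isUniversal hd'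
  have : ((Scheme.Modules.pullback g').obj Ω).IsQuasicoherent := Groth.Agent.ModStalk.isQuasicoherent_pullback g' Ω
  refine Groth.Agent.ModStalk.isIso_of_app_bijective c fun x => ?_
  obtain ⟨_, ⟨V, hV, rfl⟩, hxV, -⟩ := S.isBasis_affineOpens.exists_subset_of_mem_open
    (Set.mem_univ (g (f' x))) isOpen_univ
  have hgx : g' x ∈ f ⁻¹ᵁ V := by
    show f (g' x) ∈ V
    rw [← Scheme.Hom.comp_apply, hsq.w, Scheme.Hom.comp_apply]
    exact hxV
  obtain ⟨_, ⟨U, hU, rfl⟩, hxU, h₁⟩ := X.isBasis_affineOpens.exists_subset_of_mem_open hgx (f ⁻¹ᵁ V).2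
  obtain ⟨_, ⟨V', hV', rfl⟩, hxV', hgle⟩ := S'.isBasis_affineOpens.exists_subset_of_mem_open
    (show f' x ∈ g ⁻¹ᵁ V from hxV) (g ⁻¹ᵁ V).2
  let U' := g' ⁻¹ᵁ U ⊓ f' ⁻¹ᵁ V'
  have hU' : IsAffineOpen U' := by
    have : IsAffine _ := hV
    have : IsAffine _ := hU
    have : IsAffine _ := hV'
    exact .of_isIso (Scheme.Hom.isPullback_resLE hsq hgle h₁ (rfl : U' = _)).isoPullback.hom
  have hle : U' ≤ g' ⁻¹ᵁ U := inf_le_left
  have h₂ : U' ≤ f' ⁻¹ᵁ V' := inf_le_right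
  refine ⟨U', hU', ⟨hxU, hxV'⟩, ?_⟩
  letI := (f.appLE V U h₁).hom.toAlgebra
  letI := (f'.appLE V' U' h₂).hom.toAlgebra
  letI := (g'.appLE U U' hle).hom.toAlgebra
  letI := (g.appLE V V' hgle).hom.toAlgebra
  letI : Algebra Γ(S, V) Γ(X', U') :=
    ((algebraMap Γ(S', V') Γ(X', U')).comp (algebraMap Γ(S, V) Γ(S', V'))).toAlgebra
  haveI : IsScalarTower Γ(S, V) Γ(S', V') Γ(X', U') := IsScalarTower.of_algebraMap_eq fun _ => rfl
  haveI : IsScalarTower Γ(S, V) Γ(X, U) Γ(X', U') := IsScalarTower.of_algebraMap_eq fun a => by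
    show (g.appLE V V' hgle ≫ f'.appLE V' U' h₂) a = (f.appLE V U h₁ ≫ g'.appLE U U' hle) a
    rw [Scheme.Hom.appLE_comp_appLE, Scheme.Hom.appLE_comp_appLE]
    exact congr($(OmegaSh.appLE_congr_hom hsq.w.symm _ _) a)
  haveI : Algebra.IsPushout Γ(S, V) Γ(S', V') Γ(X, U) Γ(X', U') :=
    (CommRingCat.isPushout_iff_isPushout.mp ((isIso_pushoutSection_iff hsq hgle h₁ rfl).mp
      (isIso_pushoutSection_of_isAffineOpen hsq hgle h₁ rfl hV hV' hU))).symm
  exact Groth.Agent.ModStalk.app_bijective_of_map hc hd hd' hV hU hV' hU' h₁ h₂ hle rfl rfl rfl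
    (Groth.Agent.ModStalk.bijective_liftBaseChange_map_of_isPushout _ _ _ _)

end Groth.Agent.S9386
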