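import Groth.Statements.S8917
import Groth.Agent.S8872
import Groth.Agent.S5005
import Groth.Agent.S9386
import Groth.Agent.S9387
import Groth.Agent.ModStalk.OmegaExist

set_option autoImplicit false
universe u
open CategoryTheory CategoryTheory.Limits AlgebraicGeometry TopologicalSpace
open SDiv

namespace Groth.Agent.S8917

theorem sheafIdeal_congr {X : Scheme.{u}} {F G : X.Modules} [F.IsQuasicoherent] [G.IsQuasicoherent]
    [SheafOfModules.IsFiniteType (R := X.ringCatSheaf) F] [SheafOfModules.IsFiniteType (R := X.ringCatSheaf) G]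
    (e : F ≅ G) (i : ℕ) : Fitt.sheafIdeal F i = Fitt.sheafIdeal G i := by
  have hle : ∀ {F G : X.Modules} [F.IsQuasicoherent] [G.IsQuasicoherent]
      [SheafOfModules.IsFiniteType (R := X.ringCatSheaf) F]
      [SheafOfModules.IsFiniteType (R := X.ringCatSheaf) G] (e : F ≅ G) (U : X.affineOpens),
      Fitt.ideal Γ(X, U.1) Γ(F, U.1) i ≤ Fitt.ideal Γ(X, U.1) Γ(G, U.1) i := by
    intro F G _ _ _ _ e U
    haveI := Groth.Agent.ModStalk.finite_sections (M := F) U.2
    haveI := Groth.Agent.ModStalk.finite_sections (M := G) U.2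
    let f : Γ(F, U.1) →ₗ[Γ(X, U.1)] Γ(G, U.1) :=
      { toFun := fun s => e.hom.app U.1 s
        map_add' := fun a b => map_add _ a b
        map_smul' := fun r a => Scheme.Modules.Hom.app_smul e.hom r a }
    refine Groth.Agent.Fitting.ideal_mono_of_surjective f (fun t => ⟨e.inv.app U.1 t, ?_⟩) i
    exact ConcreteCategory.congr_hom (congrArg (fun φ => Scheme.Modules.Hom.app φ U.1) e.inv_hom_id) t
  refine Scheme.IdealSheafData.ext (funext fun U => ?_)
  rw [Groth.Agent.Fitting.sheafIdeal_ideal, Groth.Agent.Fitting.sheafIdeal_ideal]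
  exact le_antisymm (hle e U) (hle e.symm U)

/-- Let f : X ⟶ S be locally of finite type and quasi-separated and let g : S' ⟶ S be a morphism, X' = X
×_S S' with projections g' : X' ⟶ X and f' : X' ⟶ S'. Then for every i the inverse image ideal sheaf
under g' of the i-th Fitting ideal of Ω_{X/S} is the i-th Fitting ideal of Ω_{X'/S'}: the Fitting
subschemes of Ω are compatible with base change. The published statement does not assume f
quasi-separated; this row does, because the module Ω_{X/S} used here is defined for quasi-separated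
f. -/
theorem result {X S S' : Scheme.{u}} (f : X ⟶ S) [LocallyOfFiniteType f] [QuasiSeparated f] (g : S' ⟶ S)
    (i : ℕ) :
    (Fitt.sheafIdeal (Omega.sheaf f) i).comap (pullback.fst f g) = Fitt.sheafIdeal (Omega.sheaf (pullback.snd f g)) i := by
  have hd := Groth.Agent.S5005.result f
  have hd' := Groth.Agent.S5005.result (pullback.snd f g)
  haveI : (Omega.sheaf f).IsQuasicoherent := Groth.Agent.ModStalk.isQCoh_of_isUniversal hd
  haveI : SheafOfModules.IsFiniteType (R := X.ringCatSheaf) (Omega.sheaf f) :=
    Groth.Agent.S9387.result f (Omega.sheaf f) (OmegaSh.dOmega f) hd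
  haveI : (Omega.sheaf (pullback.snd f g)).IsQuasicoherent := Groth.Agent.ModStalk.isQCoh_of_isUniversal hd'
  haveI : SheafOfModules.IsFiniteType (R := (pullback f g).ringCatSheaf) (Omega.sheaf (pullback.snd f g)) :=
    Groth.Agent.S9387.result _ _ _ hd'
  haveI : ((Scheme.Modules.pullback (pullback.fst f g)).obj (Omega.sheaf f)).IsQuasicoherent :=
    Groth.Agent.ModStalk.isQuasicoherent_pullback _ _
  haveI : SheafOfModules.IsFiniteType (R := (pullback f g).ringCatSheaf)
      ((Scheme.Modules.pullback (pullback.fst f g)).obj (Omega.sheaf f)) :=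
    Groth.Agent.ModStalk.isFiniteType_pullback _ _
  obtain ⟨c, hc, -⟩ := Groth.Agent.ModStalk.existsUnique_isDiffCompat (pullback.fst f g)
    (d₂ := OmegaSh.dOmega (pullback.snd f g)) g pullback.condition.symm hd
  haveI := Groth.Agent.S9386.result f g _ _ (IsPullback.of_hasPullback f g) _ _ hd _ _ hd' c hc
  rw [Groth.Agent.S8872.result (pullback.fst f g) (Omega.sheaf f) inferInstance inferInstance i]
  exact sheafIdeal_congr (asIso c) i

end Groth.Agent.S8917
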