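import Groth.Statements.S8924
import Mathlib.LinearAlgebra.Span.Basic

set_option autoImplicit false
universe u v
open InjHull

namespace Groth.Agent.S8924

/-- For a submodule M of an R-module N, the inclusion of M into N is an essential injection if and only
if every nonzero element x of N has a multiple f • x which is a nonzero element of M. -/
theorem result (R : Type u) [CommRing R] (N : Type v) [AddCommGroup N] [Module R N] (M : Submodule R N) : InjHull.IsEssentialInj M.subtype ↔ ∀ x : N, x ≠ 0 → ∃ f : R, f • x ∈ M ∧ f • x ≠ 0 := by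
  constructor
  · intro h x hx
    have := h.essential (Submodule.span R {x}) (by simpa using hx)
    obtain ⟨y, hy, hy0⟩ := Submodule.exists_mem_ne_zero_of_ne_bot this
    obtain ⟨hy1, hy2⟩ := Submodule.mem_inf.1 hy
    obtain ⟨f, rfl⟩ := Submodule.mem_span_singleton.1 hy1
    rw [Submodule.range_subtype] at hy2
    exact ⟨f, hy2, hy0⟩
  · intro h
    refine ⟨Submodule.injective_subtype M, fun P hP hbot => ?_⟩
    obtain ⟨x, hx, hx0⟩ := Submodule.exists_mem_ne_zero_of_ne_bot hP
    obtain ⟨f, hf, hf0⟩ := h x hx0
    rw [Submodule.range_subtype] at hbot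
    exact hf0 ((Submodule.eq_bot_iff _).1 hbot _ ⟨P.smul_mem f hx, hf⟩)

end Groth.Agent.S8924
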