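import Groth.Statements.S8926
import Mathlib.Algebra.Module.Injective
import Mathlib.RingTheory.TensorProduct.Basic
import Mathlib.Algebra.Algebra.Epi
import Mathlib.LinearAlgebra.TensorProduct.Tower

set_option autoImplicit false
universe u
open InjHull

namespace Groth.Agent.S8926

/-- Suppose R → S is an epimorphism of rings and E is an S-module whose underlying R-module (via
restriction of scalars) is injective; then E is injective as an S-module as well. -/
theorem result (R S : Type u) [CommRing R] [CommRing S] [Algebra R S] [Algebra.IsEpi R S] (E : Type u) [AddCommGroup E] [Module S E] [Module R E] [IsScalarTower R S E] [Module.Injective R E] : Module.Injective S E := by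
  refine ⟨fun X Y _ _ _ _ f hf g => ?_⟩
  letI : Module R X := Module.compHom X (algebraMap R S)
  letI : Module R Y := Module.compHom Y (algebraMap R S)
  haveI : IsScalarTower R S X := .of_algebraMap_smul fun r x => rfl
  haveI : IsScalarTower R S Y := .of_algebraMap_smul fun r x => rfl
  obtain ⟨h, hh⟩ := Module.Injective.out (R := R) (Q := E) (f.restrictScalars R) hf (g.restrictScalars R)
  refine ⟨{ toFun := h, map_add' := map_add h, map_smul' := fun s y => ?_ }, hh⟩
  let φ : S →ₗ[R] S →ₗ[R] E := LinearMap.mk₂ R (fun a b => a • h (b • y))
    (fun a a' b => add_smul a a' _) (fun r a b => smul_assoc r a _)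
    (fun a b b' => by rw [add_smul, map_add, smul_add])
    (fun r a b => by rw [smul_assoc, map_smul, smul_comm])
  have h1 := congrArg (TensorProduct.lift φ) ((Algebra.isEpi_iff_forall_one_tmul_eq R S).mp inferInstance s)
  simp only [φ, TensorProduct.lift.tmul, LinearMap.mk₂_apply, one_smul] at h1
  exact h1

end Groth.Agent.S8926
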