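import Groth.Statements.S8927
import Mathlib

set_option autoImplicit false
universe u
open Disc

namespace Groth.Agent.S8927

/-- For a map A → B of Noetherian rings such that the localization B_q is flat over A for every
associated prime q of B, every nonzerodivisor of A maps to a nonzerodivisor of B. -/
theorem result (A B : Type u) [CommRing A] [CommRing B] [IsNoetherianRing A] [IsNoetherianRing B] [Algebra A B] (h3 : ∀ (q : Ideal B) [q.IsPrime], IsAssociatedPrime q B → Module.Flat A (Localization.AtPrime q)) : nonZeroDivisors A ≤ (nonZeroDivisors B).comap (algebraMap A B) := by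
  intro a ha
  rw [Submonoid.mem_comap, mem_nonZeroDivisors_iff_right]
  intro b hb
  by_contra hb0
  obtain ⟨q, hq, hle⟩ := exists_le_isAssociatedPrime_of_isNoetherianRing B b hb0
  haveI := hq.isPrime
  haveI := h3 q hq
  have h0 : algebraMap B (Localization.AtPrime q) b ⊗ₜ[A] (1 : A) = 0 := by
    refine Module.Flat.lTensor_preserves_injective_linearMap (LinearMap.mulLeft A a)
      (fun x y h => (mul_cancel_left_mem_nonZeroDivisors ha).mp h) ?_
    rw [map_zero, LinearMap.lTensor_tmul, LinearMap.mulLeft_apply, mul_one, ← mul_one a,
      ← smul_eq_mul, ← TensorProduct.smul_tmul, Algebra.smul_def,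
      IsScalarTower.algebraMap_apply A B (Localization.AtPrime q), ← map_mul, mul_comm, hb, map_zero,
      TensorProduct.zero_tmul]
  have h1 : algebraMap B (Localization.AtPrime q) b = 0 := by
    simpa using congrArg (TensorProduct.rid A (Localization.AtPrime q)) h0
  obtain ⟨⟨c, hc⟩, hc0⟩ := (IsLocalization.map_eq_zero_iff q.primeCompl _ _).mp h1
  exact hc (hle (by simpa [Submodule.mem_colon_singleton, LinearMap.mem_ker] using hc0))

end Groth.Agent.S8927
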