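import Groth.Statements.S8974
import Mathlib.Algebra.MvPolynomial.CommRing

set_option autoImplicit false
universe u
open Synt

namespace Groth.Agent.S8974

/-- Let R be a ring, n, d ≥ 1 and g_1, …, g_n ∈ R[y_1, …, y_n] of total degree at most d. Then there is
a ring map φ : A = ℤ[a_{i,E}] → R (E running over exponent vectors with |E| ≤ d) such that applying
φ to the coefficients of the universal polynomial f_i = Σ_E a_{i,E} x^E gives g_i for each i. (The
published statement is for a locally quasi-finite syntomic morphism of schemes and asserts, locally,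
a cartesian square with the universal family; this row is its affine core: the coefficient map.) -/
theorem result (R : Type u) [CommRing R] (n d : ℕ) (hn : 1 ≤ n) (hd : 1 ≤ d) (g : Fin n → MvPolynomial (Fin n) R) (hg : ∀ i, (g i).totalDegree ≤ d) : ∃ φ : Synt.UnivBase n d →+* R, ∀ i, MvPolynomial.map φ (Synt.univPoly n d i) = g i := by
  classical
  refine ⟨MvPolynomial.eval₂Hom (Int.castRingHom R) (fun p => (g p.1).coeff p.2.exponent), fun i => ?_⟩
  ext m
  rw [Synt.univPoly, map_sum, MvPolynomial.coeff_sum]
  simp only [MvPolynomial.map_monomial, MvPolynomial.coeff_monomial, MvPolynomial.eval₂Hom_X']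
  by_cases hm : ∑ j, m j ≤ d
  · let E₀ : Synt.UnivIdx n d := ⟨fun j => ⟨m j, Nat.lt_succ_of_le
      ((Finset.single_le_sum (fun k _ => Nat.zero_le (m k)) (Finset.mem_univ j)).trans hm)⟩, hm⟩
    have hE₀ : E₀.exponent = m := by ext j; rfl
    rw [Finset.sum_eq_single E₀]
    · rw [if_pos hE₀, hE₀]
    · intro E _ hne
      rw [if_neg]
      intro h
      apply hne
      apply Subtype.ext
      funext j
      apply Fin.ext
      exact congrArg (fun f : Fin n →₀ ℕ => f j) h
    · simp
  · rw [Finset.sum_eq_zero]
    · symm
      by_contra h
      apply hm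
      have h' := (MvPolynomial.le_totalDegree (MvPolynomial.mem_support_iff.2 h)).trans (hg i)
      rwa [Finsupp.sum_fintype _ _ (fun _ => rfl)] at h'
    · intro E _
      rw [if_neg]
      rintro rfl
      exact hm E.2

end Groth.Agent.S8974
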