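import Groth.Statements.S8988
import Groth.Agent.Misc9.PhSheaf
-- import your own Groth.Agent.* helpers here

set_option autoImplicit false
universe u
open HTop

namespace Groth.Agent.S8988

open CategoryTheory CategoryTheory.Limits AlgebraicGeometry Opposite in
/-- An h sheaf on schemes over S takes the same sections on an S-scheme and on any thickening of it of
finite presentation. -/
theorem result (S : Scheme.{u}) (F : HTop.ShH S) {X X' : Over S} (f : X ⟶ X') (hf : MoreMor.IsThickening f.left) [LocallyOfFinitePresentation f.left] : Function.Bijective (F.obj.map f.op) := by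
  haveI := hf.1
  haveI := hf.2
  refine Groth.Agent.Misc9.PhSheaf.over_bijective HTop.hPrecoverage S F.obj ((isSheaf_iff_isSheaf_of_type _ _).1 F.property) f ?_
  have h := (HTop.presieve₀_mem_hPrecoverage_iff (PreZeroHypercover.singleton.{0} f.left)).2 (Groth.Agent.Misc9.VCoverExamples.isHCover_singleton_of_proper f.left)
  rwa [PreZeroHypercover.presieve₀_singleton] at h

end Groth.Agent.S8988
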