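import Groth.Statements.S9048
import Groth.Agent.Lead.SiteCoh.AcycExt
import Groth.Agent.Lead.SiteCoh.ModAcyclic
import Groth.Agent.Lead.SiteCoh.TA
import Groth.Agent.ModSite9.ToSheaf
import Groth.Agent.ShMod.Grothendieck
-- import your own Groth.Agent.* helpers here

set_option autoImplicit false
universe u
open CategoryTheory CategoryTheory.Limits Opposite
open ModSite

namespace Groth.Agent.S9048

/-- On a ringed site (C, O), for a sheaf of sets K and an O-module F with underlying abelian sheaf F_ab,
the cohomology groups H^p(K, F) computed on Mod(O) — the derived functors of F ↦ Mor(K, F), i.e. the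
Ext groups out of the free O-module O[K] on K — agree with H^p(K, F_ab) computed on abelian sheaves.
Stated as the existence of a group isomorphism; the Ext groups of Mod(O) are an instance hypothesis. -/
theorem result
    {C : Type u} [SmallCategory C] {J : GrothendieckTopology C} (O : Sheaf J CommRingCat.{u})
    [HasExt.{u} (ModSite.Mod O)] (K : Sheaf J (Type u)) (F : ModSite.Mod O) (p : ℕ) :
    Nonempty (Abelian.Ext ((ModSite.sheafify O).obj ((PresheafOfModules.free (ModSite.ringSh O).obj).obj K.obj)) F p ≃+
      CohCx.HK K (ModSite.toAb F) p) := by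
  haveI := Groth.Agent.ShMod.Grothendieck.enoughInjectives (ModSite.ringSh O)
  haveI : Limits.PreservesFiniteColimits (SheafOfModules.toSheaf.{u} (ModSite.ringSh O)) :=
    Limits.PreservesColimitsOfSize.preservesFiniteColimits (SheafOfModules.toSheaf.{u} (ModSite.ringSh O))
  let adj := (PresheafOfModules.freeAdjunction (ModSite.ringSh O).obj).comp
    (PresheafOfModules.sheafificationAdjunction (𝟙 (ModSite.ringSh O).obj))
  let X := (ModSite.sheafify O).obj ((PresheafOfModules.free (ModSite.ringSh O).obj).obj K.obj)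
  let b : ∀ N : ModSite.Mod O, (X ⟶ N) ≃ (Groth.Agent.Lead.SiteCoh.freeP (J := J) K.obj ⟶ ModSite.toAb N) := fun N =>
    (adj.homEquiv K.obj N).trans (Groth.Agent.Lead.SiteCoh.setEquiv K.obj (ModSite.toAb N)).symm
  have hb : ∀ (N N' : ModSite.Mod O) (φ : N ⟶ N') (f : X ⟶ N),
      b N' (f ≫ φ) = b N f ≫ (SheafOfModules.toSheaf (ModSite.ringSh O)).map φ := fun N N' φ f => by
    apply (Groth.Agent.Lead.SiteCoh.setEquiv K.obj _).injective
    rw [Groth.Agent.Lead.SiteCoh.setEquiv_comp]
    simp only [b, Equiv.trans_apply, Equiv.apply_symm_apply]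
    erw [Equiv.apply_symm_apply, Equiv.apply_symm_apply]
    exact adj.homEquiv_naturality_right f φ
  let a : ∀ N : ModSite.Mod O, (X ⟶ N) ≃+ (Groth.Agent.Lead.SiteCoh.freeP (J := J) K.obj ⟶ ModSite.toAb N) := fun N =>
    { b N with
      map_add' := fun f g => by
        have hA : ∀ (φ : X ⟶ N), b N φ = b _ (𝟙 _) ≫ (SheafOfModules.toSheaf (ModSite.ringSh O)).map φ := fun φ => by
          rw [← hb, Category.id_comp]
        show b N (f + g) = b N f + b N g
        rw [hA, hA f, hA g, Functor.map_add, Preadditive.comp_add] }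
  exact Groth.Agent.Lead.SiteCoh.nonempty_ext_addEquiv (SheafOfModules.toSheaf.{u} (ModSite.ringSh O)) a hb
    (fun I _ q => Groth.Agent.Lead.SiteCoh.subsingleton_ext_freeP
      (Groth.Agent.Lead.SiteCoh.ModAcyclic.isTotallyAcyclic (ModSite.ringSh O) I) K.obj q) p F

end Groth.Agent.S9048
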