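import Groth.Statements.S9052
import Groth.Agent.KFlatLib.AcyclicFlat
import Groth.Agent.KFlatLib.ModSite
import Groth.Agent.ModSite9.FlatCycles
-- import your own Groth.Agent.* helpers here

set_option autoImplicit false
universe u
open CategoryTheory CategoryTheory.Limits Opposite
open ModSite

namespace Groth.Agent.S9052

/-- On a ringed site (C, O), let K be a K-flat, acyclic complex of O-modules whose terms are flat. Then
for every n the kernel of K^n → K^{n+1} (the module of n-cycles) is a flat O-module. Here a complex
K of O-modules is called K-flat when for every acyclic complex L of O-modules the total complex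
Tot(L ⊗_O K) is acyclic; this property enters only as a hypothesis. The instance binders saying that
the tensor bifunctor preserves zero morphisms always hold and are needed only to form total
complexes. -/
theorem result
    {C : Type u} [SmallCategory C] {J : GrothendieckTopology C} (O : Sheaf J CommRingCat.{u})
    [(ModSite.tensorBi O).PreservesZeroMorphisms] [∀ X : ModSite.Mod O, ((ModSite.tensorBi O).obj X).PreservesZeroMorphisms]
    (K : CochainComplex (ModSite.Mod O) ℤ)
    (hK : ∀ L : CochainComplex (ModSite.Mod O) ℤ, L.Acyclic →
      (HomologicalComplex.mapBifunctor L K (ModSite.tensorBi O) (ComplexShape.up ℤ)).Acyclic)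
    (hac : K.Acyclic) (hfl : ∀ i : ℤ, ModSite.IsFlat (K.X i)) (n : ℤ) :
    ModSite.IsFlat (K.cycles n) := by
  haveI : ∀ X : ModSite.Mod O, ((ModSite.tensorBi O).obj X).Additive := fun X =>
    haveI := preservesBinaryBiproducts_of_preservesBinaryCoproducts ((ModSite.tensorBi O).obj X)
    Functor.additive_of_preservesBinaryBiproducts _
  haveI : ∀ X : ModSite.Mod O, ((ModSite.tensorBi O).flip.obj X).Additive := fun X =>
    haveI : ((ModSite.tensorBi O).flip.obj X).PreservesZeroMorphisms :=
      haveI : PreservesFiniteColimits ((ModSite.tensorBi O).flip.obj X) := inferInstance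
      haveI : PreservesColimitsOfShape (Discrete PEmpty.{1}) ((ModSite.tensorBi O).flip.obj X) := inferInstance
      Functor.preservesZeroMorphisms_of_preserves_initial_object
    haveI : PreservesBinaryBiproducts ((ModSite.tensorBi O).flip.obj X) :=
      preservesBinaryBiproducts_of_preservesBinaryCoproducts _
    Functor.additive_of_preservesBinaryBiproducts _
  haveI : (ModSite.tensorBi O).Additive := ⟨fun {X Y f g} => by
    refine NatTrans.ext (funext fun Z => ?_)
    exact ((ModSite.tensorBi O).flip.obj Z).map_add (f := f) (g := g)⟩
  haveI : ∀ X : ModSite.Mod O, ((ModSite.tensorBi O).obj X).PreservesEpimorphisms := fun X => inferInstance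
  haveI : ∀ X : ModSite.Mod O, PreservesColimitsOfSize.{u, u} ((ModSite.tensorBi O).obj X) := fun X => inferInstance
  haveI : ∀ X : ModSite.Mod O, PreservesColimitsOfSize.{u, u} ((ModSite.tensorBi O).flip.obj X) := fun X => inferInstance
  have hk := (Groth.Agent.KFlatLib.isKFlat_iff_acyclic (O := O)).1 hK
  have hT : ∀ G i, ((((ModSite.tensorBi O).obj G).mapHomologicalComplex (ComplexShape.up ℤ)).obj K).ExactAt i := fun G =>
    (Groth.Agent.KFlatLib.acyc_iff _).1 (Groth.Agent.KFlatLib.acyc_map_obj (ModSite.tensorBi O) hk
      ((Groth.Agent.KFlatLib.acyc_iff K).2 hac) (Groth.Agent.KFlatLib.exists_flip_resolution O) G)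
  exact (Groth.Agent.ModTensor.isFlat_iff _).2 (Groth.Agent.ModSite9.flat_cycles (ModSite.tensorBi O) K hac hT
    (fun i => (Groth.Agent.ModTensor.isFlat_iff _).1 (hfl i)) n)

end Groth.Agent.S9052
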