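import Groth.Statements.S9054
import Groth.Agent.ModSite9.ProjNatural
import Groth.Agent.KFlatLib.Transport
-- import your own Groth.Agent.* helpers here

set_option autoImplicit false
universe u
open CategoryTheory CategoryTheory.Limits Opposite
attribute [local instance] HasDerivedCategory.standard
open ModSite

namespace Groth.Agent.S9054

/-- On a ringed site (C, O), if U is an object of C and K is a K-flat complex of O-modules, then the
restriction K|_U to the localised ringed site (C/U, O_U) is a K-flat complex of O_U-modules. -/
theorem result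
    {C : Type u} [SmallCategory C] {J : GrothendieckTopology C} (O : Sheaf J CommRingCat.{u})
    (U : C) (K : CochainComplex (ModSite.Mod O) ℤ) (hK : ModSite.IsKFlat K) :
    ModSite.IsKFlat (((ModSite.restr O U).mapHomologicalComplex (ComplexShape.up ℤ)).obj K) := by
  let G : ModSite.Mod (O.over U) ⥤ ModSite.Mod O := ModSite.extZero O U
  haveI : (ModSite.restr O U).Additive := Groth.Agent.ModSite9.restr_additive O U
  haveI : PreservesFiniteLimits G := (Groth.Agent.ModSite9.extZero_exact O U).1
  haveI : G.Faithful := (Groth.Agent.ModSite9.extZero_exact O U).2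
  haveI : PreservesColimitsOfSize.{u, u} G := (ModSite.extZeroAdj O U).leftAdjoint_preservesColimits
  haveI : G.Additive := (ModSite.extZeroAdj O U).left_adjoint_additive
  haveI : PreservesFiniteColimits G := PreservesColimitsOfSize.preservesFiniteColimits.{u, u} G
  haveI : G.PreservesHomology := Functor.preservesHomologyOfExact G
  haveI : ∀ I : Type, PreservesColimitsOfShape (Discrete I) G := fun I =>
    preservesColimitsOfShape_of_equiv (Discrete.equivalence (Equiv.ulift.{u, 0} (α := I))) G
  intro L hL
  obtain ⟨e⟩ := Groth.Agent.KFlatLib.nonempty_totIso (ModSite.tensorBi (O.over U)) (ModSite.tensorBi O)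
    (𝟭 _) (ModSite.restr O U) G (𝟭 _) G
    (fun X Y => ((Groth.Agent.ModSite9.projFlip O U Y).app X).symm)
    (fun {X X'} a Y => (Groth.Agent.ModSite9.projFlip O U Y).inv.naturality a)
    (fun X {Y Y'} b => by
      refine (Iso.comp_inv_eq ((Groth.Agent.ModSite9.projFlip O U Y').app X)).2 ?_
      refine Eq.trans ?_ (Category.assoc _ _ _).symm
      refine ((Iso.eq_inv_comp ((Groth.Agent.ModSite9.projFlip O U Y).app X)).2 ?_)
      exact (Groth.Agent.ModSite9.projFlip_natural_right O U X b).symm)
    L K
  have hGL : ∀ i, IsZero (((G.mapHomologicalComplex (ComplexShape.up ℤ)).obj L).homology i) := fun i =>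
    (G.map_isZero (hL i)).of_iso ((L.sc i).mapHomologyIso G)
  have h1 := hK _ hGL
  intro i
  have h2 := (h1 i).of_iso ((HomologicalComplex.homologyFunctor _ _ i).mapIso e.symm)
  rw [← HomologicalComplex.exactAt_iff_isZero_homology, HomologicalComplex.exactAt_iff]
  have h3 := (HomologicalComplex.exactAt_iff _ i).1 ((HomologicalComplex.exactAt_iff_isZero_homology _ i).2 h2)
  exact (ShortComplex.exact_map_iff_of_faithful _ G).1 h3

end Groth.Agent.S9054
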