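import Groth.Statements.S9059
import Groth.Agent.KFlatLib.ModSite

set_option autoImplicit false
universe u
open CategoryTheory CategoryTheory.Limits Opposite
attribute [local instance] HasDerivedCategory.standard
open ModSite

namespace Groth.Agent.S9059

/-- On a ringed site (C, O), the colimit of a sequence K₁ → K₂ → … of K-flat complexes of O-modules is
K-flat. -/
theorem result
    {C : Type u} [SmallCategory C] {J : GrothendieckTopology C} (O : Sheaf J CommRingCat.{u})
    (K : ℕ ⥤ CochainComplex (ModSite.Mod O) ℤ) (hK : ∀ n : ℕ, ModSite.IsKFlat (K.obj n)) :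
    ModSite.IsKFlat (colimit K) := by
  let e : AsSmall.{u} ℕ ≌ ℕ := (AsSmall.equiv).symm
  haveI : IsFiltered (AsSmall.{u} ℕ) := IsFiltered.of_equivalence AsSmall.equiv
  haveI := Groth.Agent.ModTensor.hasExactColimitsOfShape_filtered (O := O) (AsSmall.{u} ℕ)
  have h1 : ∀ n, Groth.Agent.KFlatLib.IsKFlat (ModSite.tensorBi O) ((e.functor ⋙ K).obj n) := fun n =>
    Groth.Agent.KFlatLib.isKFlat_iff.1 (hK (e.functor.obj n))
  refine Groth.Agent.KFlatLib.isKFlat_iff.2 ?_
  have h2 := Groth.Agent.KFlatLib.IsKFlat.colimit (ModSite.tensorBi O)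
    (c := (colimit.cocone K).whisker e.functor) (IsColimit.whiskerEquivalence (colimit.isColimit K) e) h1
  exact h2

end Groth.Agent.S9059
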