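import Groth.Statements.S9061
import Groth.Agent.KFlatLib.ModSite

set_option autoImplicit false
universe u
open CategoryTheory CategoryTheory.Limits Opposite
attribute [local instance] HasDerivedCategory.standard
open ModSite

namespace Groth.Agent.S9061

/-- On a ringed site (C, O), let a : K → L be a map of complexes of O-modules with K K-flat. Then there
exist a K-flat complex N and maps b : K → N, c : N → L such that c is a quasi-isomorphism and a is
homotopic to c ∘ b. If the terms of K are flat, then N may moreover be chosen with flat terms. -/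
theorem result
    {C : Type u} [SmallCategory C] {J : GrothendieckTopology C} (O : Sheaf J CommRingCat.{u})
    {K L : CochainComplex (ModSite.Mod O) ℤ} (a : K ⟶ L) (hK : ModSite.IsKFlat K) :
    ∃ (N : CochainComplex (ModSite.Mod O) ℤ) (b : K ⟶ N) (c : N ⟶ L), ModSite.IsKFlat N ∧ QuasiIso c ∧
      Nonempty (Homotopy a (b ≫ c)) ∧
      ((∀ n : ℤ, ModSite.IsFlat (K.X n)) → ∀ n : ℤ, ModSite.IsFlat (N.X n)) := by
  obtain ⟨N, b, c, h₁, h₂, h₃, h₄⟩ := Groth.Agent.KFlatLib.exists_factor (ModSite.tensorBi O) (Groth.Agent.KFlatLib.enough_tflat O) a hK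
  exact ⟨N, b, c, h₁, h₂, ⟨Homotopy.ofEq h₃.symm⟩, fun hf n =>
    Groth.Agent.KFlatLib.isFlat_of_tflat (h₄ (fun m => Groth.Agent.KFlatLib.tflat_of_isFlat (hf m)) n)⟩

end Groth.Agent.S9061
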