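import Groth.Statements.S9089
import Mathlib
-- import your own Groth.Agent.* helpers here

set_option autoImplicit false
universe u
open CategoryTheory Opposite
open ModSite

namespace Groth.Agent.S9089

/-- Part (1): ⇔ (2), for a ringed site (C, O) with C small and O a sheaf of commutative rings: the
following are equivalent. (1) For every object U and every section f of O over U there is a covering
sieve on U on each of whose arrows either f or 1 - f restricts to a unit. (2) For every object U,
every n ≥ 1 and all sections f₁, …, fₙ of O over U generating the unit ideal of O(U), there is a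
covering sieve on U on each of whose arrows some fᵢ restricts to a unit. -/
theorem result {C : Type u} [SmallCategory C] (J : GrothendieckTopology C)
    (O : Sheaf J CommRingCat.{u}) :
    (∀ (U : C) (f : O.obj.obj (op U)), ∃ S ∈ J U, ∀ ⦃V : C⦄ (g : V ⟶ U), S g →
        IsUnit ((O.obj.map g.op).hom f) ∨ IsUnit ((O.obj.map g.op).hom (1 - f))) ↔
    (∀ (U : C) (n : ℕ) (f : Fin n → O.obj.obj (op U)), 1 ≤ n → Ideal.span (Set.range f) = ⊤ →
        ∃ S ∈ J U, ∀ ⦃V : C⦄ (g : V ⟶ U), S g → ∃ i, IsUnit ((O.obj.map g.op).hom (f i))) := by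
  constructor
  · intro h U n f hn hspan
    classical
    have key : ∀ (s : Finset (Fin n)) (V : C) (g : V ⟶ U) (c : Fin n → O.obj.obj (Opposite.op V)),
        IsUnit (∑ i ∈ s, c i * (O.obj.map g.op).hom (f i)) →
        ∃ S ∈ J V, ∀ ⦃W : C⦄ (k : W ⟶ V), S k → ∃ i, IsUnit ((O.obj.map (k ≫ g).op).hom (f i)) := by
      intro s
      induction s using Finset.induction_on with
      | empty =>
        intro V g c hc
        rw [Finset.sum_empty] at hc
        haveI : Subsingleton (O.obj.obj (Opposite.op V)) := subsingleton_of_zero_eq_one (isUnit_zero_iff.1 hc)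
        refine ⟨⊤, J.top_mem V, fun W k _ => ?_⟩
        have h01 : (0 : O.obj.obj (Opposite.op W)) = 1 := by
          rw [← map_zero (O.obj.map k.op).hom, ← map_one (O.obj.map k.op).hom, Subsingleton.elim (0 : O.obj.obj (Opposite.op V)) 1]
        haveI := subsingleton_of_zero_eq_one h01
        exact ⟨⟨0, hn⟩, isUnit_of_subsingleton _⟩
      | insert i₀ s hi ih =>
        intro V g c hc
        rw [Finset.sum_insert hi] at hc
        obtain ⟨u, hu⟩ := hc
        obtain ⟨S, hS, hS'⟩ := h V (↑u⁻¹ * (c i₀ * (O.obj.map g.op).hom (f i₀)))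
        have hrec : ∀ ⦃W : C⦄ (k : W ⟶ V), S k → ∃ T ∈ J W, ∀ ⦃W' : C⦄ (k' : W' ⟶ W), T k' →
            ∃ i, IsUnit ((O.obj.map (k' ≫ k ≫ g).op).hom (f i)) := by
          intro W k hk
          rcases hS' k hk with h1 | h1
          · rw [map_mul, map_mul] at h1
            refine ⟨⊤, J.top_mem W, fun W' k' _ => ⟨i₀, ?_⟩⟩
            have h2 := (isUnit_of_mul_isUnit_right (isUnit_of_mul_isUnit_right h1)).map (O.obj.map k'.op).hom
            simpa [Functor.map_comp] using h2
          · refine ih W (k ≫ g) (fun i => (O.obj.map k.op).hom (↑u⁻¹ * c i)) ?_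
            have e : (1 : O.obj.obj (Opposite.op V)) - ↑u⁻¹ * (c i₀ * (O.obj.map g.op).hom (f i₀)) =
                ∑ i ∈ s, ↑u⁻¹ * c i * (O.obj.map g.op).hom (f i) := by
              simp only [mul_assoc]
              rw [← Finset.mul_sum, ← Units.inv_mul u, hu]
              ring
            rw [e, map_sum] at h1
            simpa [Functor.map_comp] using h1
        choose T hT hT' using hrec
        refine ⟨Sieve.bind S.arrows T, J.bind_covering hS hT, ?_⟩
        rintro W _ ⟨W', k', k, hk, hk', rfl⟩
        obtain ⟨i, hi⟩ := hT' k hk k' hk'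
        exact ⟨i, by rwa [Category.assoc]⟩
    obtain ⟨c, hc⟩ := (Ideal.mem_span_range_iff_exists_fun).1 (hspan ▸ Submodule.mem_top : (1 : O.obj.obj (Opposite.op U)) ∈ Ideal.span (Set.range f))
    obtain ⟨S, hS, hS'⟩ := key Finset.univ U (𝟙 U) c (by simp [hc])
    exact ⟨S, hS, fun V g hg => by simpa using hS' g hg⟩
  · intro h U f
    obtain ⟨S, hS, hS'⟩ := h U 2 ![f, 1 - f] (by omega) (by
      refine (Ideal.eq_top_iff_one _).2 ?_
      have hm := add_mem (Ideal.subset_span ⟨0, rfl⟩ : f ∈ Ideal.span (Set.range ![f, 1 - f]))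
        (Ideal.subset_span ⟨1, rfl⟩ : 1 - f ∈ Ideal.span (Set.range ![f, 1 - f]))
      simpa using hm)
    refine ⟨S, hS, fun V g hg => ?_⟩
    obtain ⟨i, hi⟩ := hS' g hg
    fin_cases i
    · exact Or.inl hi
    · exact Or.inr hi

end Groth.Agent.S9089
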