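import Groth.Agent.OverExtend.KInjective
import Groth.Statements.S9106
import Mathlib

set_option autoImplicit false
universe u v
open CategoryTheory CategoryTheory.Limits Opposite
open CohSite

namespace Groth.Agent.S9106

variable {E : Type u} [SmallCategory E]
  (h₁ : ∀ {a b c : E} (f : a ⟶ b) (g : a ⟶ c), ∃ (d : E) (p : b ⟶ d) (q : c ⟶ d), f ≫ p = g ≫ q)
  (h₂ : ∀ {a b : E} (f g : a ⟶ b), ∃ (d : E) (p : b ⟶ d), f ≫ p = g ≫ p)

include h₁ h₂ in
theorem component_isFiltered (j : CategoryTheory.ConnectedComponents E) : IsFiltered j.Component := by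
  have key : ∀ {x y : E}, Zigzag x y → ∃ (d : E) (_ : x ⟶ d) (_ : y ⟶ d), True := by
    intro x y h
    induction h with
    | refl => exact ⟨x, 𝟙 _, 𝟙 _, trivial⟩
    | tail _ hz ih =>
      obtain ⟨d, p, q, -⟩ := ih
      rcases hz with ⟨⟨f⟩⟩ | ⟨⟨f⟩⟩
      · obtain ⟨d', p', q', -⟩ := h₁ q f
        exact ⟨d', p ≫ p', q', trivial⟩
      · exact ⟨d, p, f ≫ q, trivial⟩
  have mem : ∀ {x d : E}, (x ⟶ d) → j.objectProperty x → j.objectProperty d := fun {x d} f hx =>
    (Quotient.sound' (Relation.ReflTransGen.single (Or.inr ⟨f⟩) : Zigzag d x)).trans hx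
  haveI : IsFilteredOrEmpty j.Component :=
    { cocone_objs := fun a b => by
        obtain ⟨d, p, q, -⟩ := key (Quotient.exact' (a.property.trans b.property.symm))
        exact ⟨⟨d, mem p a.property⟩, ObjectProperty.homMk p, ObjectProperty.homMk q, trivial⟩
      cocone_maps := fun a b f g => by
        obtain ⟨d, p, hp⟩ := h₂ f.hom g.hom
        exact ⟨⟨d, mem p b.property⟩, ObjectProperty.homMk p, ObjectProperty.hom_ext _ hp⟩ }
  exact ⟨⟩

variable (F : E ⥤ AddCommGrpCat.{u})

noncomputable def inj (j : CategoryTheory.ConnectedComponents E) (e : E) (h : j.objectProperty e) :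
    F.obj e ⟶ ∐ fun j : CategoryTheory.ConnectedComponents E => colimit (j.ι ⋙ F) :=
  colimit.ι (j.ι ⋙ F) ⟨e, h⟩ ≫ Sigma.ι (fun j : CategoryTheory.ConnectedComponents E => colimit (j.ι ⋙ F)) j

theorem inj_indep {j j' : CategoryTheory.ConnectedComponents E} {e : E} (h : j.objectProperty e) (h' : j'.objectProperty e) :
    inj F j e h = inj F j' e h' := by
  obtain rfl : j = j' := h.symm.trans h'
  rfl

noncomputable def decCocone : Cocone F where
  pt := ∐ fun j : CategoryTheory.ConnectedComponents E => colimit (j.ι ⋙ F)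
  ι :=
    { app := fun e => inj F (CategoryTheory.ConnectedComponents.mk e) e rfl
      naturality := fun e e' f => by
        have h : (CategoryTheory.ConnectedComponents.mk e).objectProperty e' :=
          Quotient.sound' (Relation.ReflTransGen.single (Or.inr ⟨f⟩) : Zigzag e' e)
        show F.map f ≫ inj F _ e' rfl = inj F _ e rfl ≫ 𝟙 _
        rw [Category.comp_id, inj_indep F rfl h]
        exact (Category.assoc _ _ _).symm.trans
          (congrArg (· ≫ _) (colimit.w ((CategoryTheory.ConnectedComponents.mk e).ι ⋙ F)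
            (ObjectProperty.homMk f : (⟨e, rfl⟩ : (CategoryTheory.ConnectedComponents.mk e).Component) ⟶ ⟨e', h⟩))) }

noncomputable def decCocone_isColimit : IsColimit (decCocone F) where
  desc s := Sigma.desc fun j => colimit.desc (j.ι ⋙ F) (s.whisker j.ι)
  fac s e := by
    show (colimit.ι ((CategoryTheory.ConnectedComponents.mk e).ι ⋙ F) ⟨e, rfl⟩ ≫ Sigma.ι (fun j : CategoryTheory.ConnectedComponents E => colimit (j.ι ⋙ F)) (CategoryTheory.ConnectedComponents.mk e)) ≫ Sigma.desc _ = _
    rw [Category.assoc, Sigma.ι_desc, colimit.ι_desc]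
    rfl
  uniq s m hm := by
    refine Sigma.hom_ext _ _ fun j => colimit.hom_ext fun e => ?_
    rw [Sigma.ι_desc, colimit.ι_desc]
    refine Eq.trans ?_ (hm e.obj)
    rw [← Category.assoc]
    exact congrArg (· ≫ m) (inj_indep F e.property rfl)

include h₁ h₂ in
theorem mono_of_components {F G : E ⥤ AddCommGrpCat.{u}} (φ : F ⟶ G) [∀ e, Mono (φ.app e)]
    {c : Cocone F} (hc : IsColimit c) {c' : Cocone G} (hc' : IsColimit c') (m : c.pt ⟶ c'.pt)
    (hm : ∀ e, c.ι.app e ≫ m = φ.app e ≫ c'.ι.app e) : Mono m := by
  let f : ∀ j : CategoryTheory.ConnectedComponents E, colimit (j.ι ⋙ F) ⟶ colimit (j.ι ⋙ G) :=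
    fun j => colimMap (Functor.whiskerLeft j.ι φ)
  haveI : ∀ j, Mono (f j) := fun j => by
    haveI := component_isFiltered h₁ h₂ j
    haveI : ∀ x : j.Component, Mono ((Functor.whiskerLeft j.ι φ).app x) := fun x => inferInstanceAs (Mono (φ.app _))
    haveI : Mono (Functor.whiskerLeft j.ι φ) := NatTrans.mono_of_mono_app _
    exact colim.map_mono (Functor.whiskerLeft j.ι φ)
  let σ : (decCocone F).pt ⟶ (decCocone G).pt := Limits.Sigma.map f
  haveI : Mono σ := by
    haveI : ∀ x : Discrete (CategoryTheory.ConnectedComponents E), Mono ((Discrete.natTrans fun i => f i.as :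
        Discrete.functor (fun j : CategoryTheory.ConnectedComponents E => colimit (j.ι ⋙ F)) ⟶
          Discrete.functor (fun j : CategoryTheory.ConnectedComponents E => colimit (j.ι ⋙ G))).app x) := fun x =>
      inferInstanceAs (Mono (f x.as))
    haveI := NatTrans.mono_of_mono_app (Discrete.natTrans fun i => f i.as :
        Discrete.functor (fun j : CategoryTheory.ConnectedComponents E => colimit (j.ι ⋙ F)) ⟶
          Discrete.functor (fun j : CategoryTheory.ConnectedComponents E => colimit (j.ι ⋙ G)))
    exact colim.map_mono _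
  have e : m = (hc.coconePointUniqueUpToIso (decCocone_isColimit F)).hom ≫ σ ≫
      ((decCocone_isColimit G).coconePointUniqueUpToIso hc').hom := hc.hom_ext fun x => by
    rw [hm, IsColimit.comp_coconePointUniqueUpToIso_hom_assoc]
    show _ = (colimit.ι ((CategoryTheory.ConnectedComponents.mk x).ι ⋙ F) ⟨x, rfl⟩ ≫ Sigma.ι (fun j : CategoryTheory.ConnectedComponents E => colimit (j.ι ⋙ F)) (CategoryTheory.ConnectedComponents.mk x)) ≫ Limits.Sigma.map f ≫ _
    rw [Category.assoc, Sigma.ι_map_assoc, ι_colimMap_assoc]
    refine congrArg (φ.app x ≫ ·) ?_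
    rw [← Category.assoc]
    exact (IsColimit.comp_coconePointUniqueUpToIso_hom (decCocone_isColimit G) hc' x).symm
  rw [e]
  infer_instance

end Groth.Agent.S9106

namespace Groth.Agent.S9106

variable {C D : Type u} [SmallCategory C] [SmallCategory D] (u : C ⥤ D)
  [HasPullbacks C] [HasEqualizers C]
  [PreservesLimitsOfShape WalkingCospan u] [PreservesLimitsOfShape WalkingParallelPair u]

theorem exists_span {d : D} {a b c : CostructuredArrow u.op (op d)} (f : a ⟶ b) (g : a ⟶ c) :
    ∃ (e : CostructuredArrow u.op (op d)) (p : b ⟶ e) (q : c ⟶ e), f ≫ p = g ≫ q := by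
  have hf : b.hom.unop ≫ u.map f.left.unop = a.hom.unop :=
    congrArg Quiver.Hom.unop (CostructuredArrow.w f)
  have hg : c.hom.unop ≫ u.map g.left.unop = a.hom.unop :=
    congrArg Quiver.Hom.unop (CostructuredArrow.w g)
  have H := (IsPullback.of_hasPullback f.left.unop g.left.unop).map u
  let l := H.lift b.hom.unop c.hom.unop (hf.trans hg.symm)
  refine ⟨CostructuredArrow.mk (Y := op (pullback f.left.unop g.left.unop)) l.op,
    CostructuredArrow.homMk (pullback.fst _ _).op ?_, CostructuredArrow.homMk (pullback.snd _ _).op ?_, ?_⟩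
  · apply Quiver.Hom.unop_inj
    exact H.lift_fst _ _ _
  · apply Quiver.Hom.unop_inj
    exact H.lift_snd _ _ _
  · ext
    exact Quiver.Hom.unop_inj (pullback.condition (f := f.left.unop) (g := g.left.unop))

theorem exists_coeq {d : D} {a b : CostructuredArrow u.op (op d)} (f g : a ⟶ b) :
    ∃ (e : CostructuredArrow u.op (op d)) (p : b ⟶ e), f ≫ p = g ≫ p := by
  have hf : b.hom.unop ≫ u.map f.left.unop = a.hom.unop :=
    congrArg Quiver.Hom.unop (CostructuredArrow.w f)
  have hg : b.hom.unop ≫ u.map g.left.unop = a.hom.unop :=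
    congrArg Quiver.Hom.unop (CostructuredArrow.w g)
  have H := isLimitForkMapOfIsLimit u (equalizer.condition f.left.unop g.left.unop)
    (equalizerIsEqualizer f.left.unop g.left.unop)
  let l := Fork.IsLimit.lift' H b.hom.unop (hf.trans hg.symm)
  refine ⟨CostructuredArrow.mk (Y := op (equalizer f.left.unop g.left.unop)) l.1.op,
    CostructuredArrow.homMk (equalizer.ι _ _).op ?_, ?_⟩
  · apply Quiver.Hom.unop_inj
    exact l.2
  · ext
    exact Quiver.Hom.unop_inj (equalizer.condition f.left.unop g.left.unop)

theorem lan_preservesMono {P Q : Cᵒᵖ ⥤ AddCommGrpCat.{u}} (φ : P ⟶ Q) [Mono φ] :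
    Mono ((u.op.lan).map φ) := by
  haveI : ∀ c, Mono (((u.op.lan).map φ).app c) := by
    rintro ⟨d⟩
    let π := CostructuredArrow.proj u.op (op d)
    haveI : ∀ e, Mono ((Functor.whiskerLeft π φ).app e) := fun e => inferInstanceAs (Mono (φ.app _))
    refine mono_of_components (fun f g => exists_span u f g) (fun f g => exists_coeq u f g)
      (Functor.whiskerLeft π φ)
      (u.op.isPointwiseLeftKanExtensionLeftKanExtensionUnit P (op d))
      (u.op.isPointwiseLeftKanExtensionLeftKanExtensionUnit Q (op d)) _ fun g => ?_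
    have h := NatTrans.congr_app ((u.op.lanUnit (H := AddCommGrpCat.{u})).naturality φ) g.left
    have hn := ((u.op.lan).map φ).naturality g.hom
    show ((u.op.leftKanExtensionUnit P).app g.left ≫ (u.op.leftKanExtension P).map g.hom) ≫ _ = _
    rw [Category.assoc]
    refine (congrArg (_ ≫ ·) hn).trans ?_
    rw [← Category.assoc]
    refine (congrArg (· ≫ _) h.symm).trans ?_
    exact Category.assoc _ _ _
  exact NatTrans.mono_of_mono_app _

/-- Let u : C ⥤ D be a functor between small sites which is cocontinuous and continuous, and assume that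
C has fibre products and equalizers and that u commutes with them. Let g be the morphism of topoi
attached to u. Then g_! on abelian sheaves, i.e. the left adjoint of restriction along u (left Kan
extension along u followed by sheafification), is exact: being a left adjoint it is right exact, and
it moreover preserves finite limits. -/
theorem result {C D : Type u} [SmallCategory C] [SmallCategory D]
    (J : GrothendieckTopology C) (K : GrothendieckTopology D) (u : C ⥤ D)
    [u.IsCocontinuous J K] [u.IsContinuous J K] [HasPullbacks C] [HasEqualizers C]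
    [PreservesLimitsOfShape WalkingCospan u] [PreservesLimitsOfShape WalkingParallelPair u] :
    PreservesFiniteLimits (u.sheafPullback AddCommGrpCat.{u} J K) := by
  let L := Functor.sheafPullbackConstruction.sheafPullback u AddCommGrpCat.{u} J K
  let adj := Functor.sheafPullbackConstruction.sheafAdjunctionContinuous u AddCommGrpCat.{u} J K
  haveI : (u.sheafPushforwardContinuous AddCommGrpCat.{u} J K).Additive := ⟨rfl⟩
  haveI := adj.left_adjoint_additive
  haveI : L.PreservesMonomorphisms := ⟨fun f _ => by
    haveI := lan_preservesMono u ((sheafToPresheaf J AddCommGrpCat.{u}).map f)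
    exact (presheafToSheaf K AddCommGrpCat.{u}).map_mono ((u.op.lan).map ((sheafToPresheaf J AddCommGrpCat.{u}).map f))⟩
  haveI := OverExtend.KInjective.preservesHomology_of_preservesMonomorphisms adj
  haveI : PreservesFiniteLimits L := Functor.preservesFiniteLimits_of_preservesHomology _
  exact preservesFiniteLimits_of_natIso (Functor.sheafPullbackConstruction.sheafPullbackIso u AddCommGrpCat.{u} J K).symm

end Groth.Agent.S9106
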