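import Groth.Statements.S9108
import Mathlib
-- import your own Groth.Agent.* helpers here

set_option autoImplicit false
universe u
open CategoryTheory
open CohSite

namespace Groth.Agent.S9108

/-- Let u : C ⥤ D be a functor between small sites which is cocontinuous, continuous (restriction along
u preserves sheaves, and u sends covering families to covering families) and fully faithful; let g
be the morphism of topoi attached to u, so that g⁻¹ is restriction along u, g_* its right adjoint
and g_! its left adjoint on abelian sheaves. Then for every abelian sheaf F on C the canonical maps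
F → g⁻¹g_!F (unit) and g⁻¹g_*F → F (counit) are isomorphisms. -/
theorem result {C D : Type u} [SmallCategory C] [SmallCategory D]
    (J : GrothendieckTopology C) (K : GrothendieckTopology D) (u : C ⥤ D)
    [u.IsCocontinuous J K] [u.IsContinuous J K] (hu : CoverPreserving J K u) [u.Full] [u.Faithful]
    (F : Sheaf J AddCommGrpCat.{u}) :
    IsIso ((u.sheafAdjunctionContinuous AddCommGrpCat.{u} J K).unit.app F) ∧
      IsIso ((u.sheafAdjunctionCocontinuous AddCommGrpCat.{u} J K).counit.app F) := by
  let H := u.sheafPushforwardCocontinuous AddCommGrpCat.{u} J K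
  let t : Adjunction.Triple (u.sheafPullback AddCommGrpCat.{u} J K)
      (u.sheafPushforwardContinuous AddCommGrpCat.{u} J K) H :=
    ⟨u.sheafAdjunctionContinuous _ _ _, u.sheafAdjunctionCocontinuous _ _ _⟩
  haveI : IsIso (u.op.ranAdjunction AddCommGrpCat.{u}).counit := inferInstance
  let ff : (u.op.ran : (Cᵒᵖ ⥤ AddCommGrpCat.{u}) ⥤ _).FullyFaithful :=
    (u.op.ranAdjunction AddCommGrpCat.{u}).fullyFaithfulROfIsIsoCounit
  let hH : H.FullyFaithful := Functor.FullyFaithful.ofCompFaithful (G := sheafToPresheaf K AddCommGrpCat.{u})
    (((fullyFaithfulSheafToPresheaf J AddCommGrpCat.{u}).comp ff).ofIso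
      (u.sheafPushforwardCocontinuousCompSheafToPresheafIso AddCommGrpCat.{u} J K).symm)
  haveI := (t.fullyFaithfulEquiv.symm hH).full
  haveI := (t.fullyFaithfulEquiv.symm hH).faithful
  haveI := hH.full
  haveI := hH.faithful
  exact ⟨inferInstance, inferInstance⟩

end Groth.Agent.S9108
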