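import Groth.Statements.S9109
import Mathlib
-- import your own Groth.Agent.* helpers here

set_option autoImplicit false
universe u
open CategoryTheory CategoryTheory.Limits
open CohSite

namespace Groth.Agent.S9109

/-- Part (1): on a small site (C, J) with a point p: the skyscraper functor p_* from abelian groups to
abelian sheaves on C (right adjoint to the stalk functor at p; its value on A is the sheaf U ↦ ∏_{x
∈ p⁻¹U} A) is exact. As a right adjoint it preserves limits; the statement here is that it also
preserves finite colimits. -/
theorem result {C : Type u} [SmallCategory C] {J : GrothendieckTopology C}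
    (p : GrothendieckTopology.Point.{u} J) :
    PreservesFiniteColimits (p.skyscraperSheafFunctor (A := AddCommGrpCat.{u})) := by
  let adj : p.sheafFiber (A := AddCommGrpCat.{u}) ⊣ p.skyscraperSheafFunctor := p.skyscraperSheafAdjunction
  haveI := adj.rightAdjoint_preservesLimits
  haveI : Limits.PreservesFiniteLimits (p.skyscraperSheafFunctor (A := AddCommGrpCat.{u})) := inferInstance
  haveI : (p.skyscraperSheafFunctor (A := AddCommGrpCat.{u})).Additive :=
    Functor.additive_of_preserves_binary_products _
  haveI : (p.skyscraperSheafFunctor (A := AddCommGrpCat.{u})).PreservesEpimorphisms := ⟨fun {A B} g hg => by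
    rw [← Sheaf.isLocallySurjective_iff_epi']
    refine Presheaf.isLocallySurjective_of_surjective _ _ fun W => ?_
    intro y
    have hs := (AddCommGrpCat.epi_iff_surjective g).1 hg
    let π := fun (M : AddCommGrpCat.{u}) (x : p.fiber.obj W.unop) => Limits.Pi.π (fun _ : p.fiber.obj W.unop => M) x
    choose a ha using fun x => hs (π B x y)
    obtain ⟨z, hz, -⟩ := (Limits.Types.isLimit_iff _).1
      ⟨Limits.isLimitOfPreserves (forget AddCommGrpCat.{u}) (Limits.productIsProduct fun _ : p.fiber.obj W.unop => A)⟩
      (fun x => a x.as) (by rintro ⟨x⟩ ⟨x'⟩ ⟨⟨h⟩⟩; cases h; rfl)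
    refine ⟨z, Limits.Concrete.isLimit_ext _ (Limits.productIsProduct fun _ : p.fiber.obj W.unop => B) _ _ fun ⟨x⟩ => ?_⟩
    have h := ConcreteCategory.congr_hom (Limits.Pi.map_π (fun _ : p.fiber.obj W.unop => g) x) z
    exact h.trans ((congrArg g (hz ⟨x⟩)).trans (ha x))⟩
  haveI := Functor.preservesHomology_of_preservesEpis_and_kernels (p.skyscraperSheafFunctor (A := AddCommGrpCat.{u}))
  exact Functor.preservesFiniteColimits_of_preservesHomology _

end Groth.Agent.S9109
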