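import Groth.Statements.S9111
import Groth.Agent.ModTensor.Flat

set_option autoImplicit false
universe u
open CategoryTheory CategoryTheory.Limits
open ModSite

namespace Groth.Agent.S9111

/-- Let C be a small category and O a presheaf of commutative rings on C. If 0 → F'' → F' → F → 0 is a
short exact sequence of presheaves of O-modules whose right-hand term F is flat (the sectionwise
tensor product functor - ⊗_{p,O} F is exact), then for every presheaf of O-modules G the tensored
sequence 0 → F'' ⊗_{p,O} G → F' ⊗_{p,O} G → F ⊗_{p,O} G → 0 is short exact. The instance binder (the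
functor - ⊗_{p,O} G preserves zero morphisms) always holds and is only needed to form the complex. -/
theorem result {C : Type u} [SmallCategory C] (O : Cᵒᵖ ⥤ CommRingCat.{u})
    (S : ShortComplex (PresheafOfModules.{u} (O ⋙ forget₂ CommRingCat.{u} RingCat.{u}))) (hS : S.ShortExact)
    (hF : PreservesFiniteLimits (MonoidalCategory.tensorRight S.X₃) ∧ PreservesFiniteColimits (MonoidalCategory.tensorRight S.X₃))
    (G : PresheafOfModules.{u} (O ⋙ forget₂ CommRingCat.{u} RingCat.{u})) [(MonoidalCategory.tensorRight G).PreservesZeroMorphisms] :
    (S.map (MonoidalCategory.tensorRight G)).ShortExact := by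
  haveI := hF.1
  let P := PresheafOfModules.{u} (O ⋙ forget₂ CommRingCat.{u} RingCat.{u})
  haveI : ((MonoidalCategory.curriedTensor P).obj S.X₃).PreservesMonomorphisms :=
    (Functor.preservesMonomorphisms.iso_iff (BraidedCategory.tensorLeftIsoTensorRight S.X₃)).2 inferInstance
  obtain ⟨Q, π, hQ, hπ⟩ := Groth.Agent.ModTensor.exists_epi_flat G
  haveI : ((MonoidalCategory.curriedTensor P).flip.obj Q).PreservesMonomorphisms :=
    Groth.Agent.ModTensor.preservesMonos_tensorRight Q hQ
  haveI : ((MonoidalCategory.curriedTensor P).flip.obj G).PreservesZeroMorphisms :=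
    (inferInstance : (MonoidalCategory.tensorRight G).PreservesZeroMorphisms)
  exact Groth.Agent.ModTensor.shortExact_map_of_flat_X₃ (MonoidalCategory.curriedTensor P) S hS G π

end Groth.Agent.S9111
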