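import Groth.Statements.S9137
import Mathlib.RingTheory.ZariskisMainTheorem
import Mathlib.RingTheory.EssentialFiniteness
import Mathlib.RingTheory.Ideal.AssociatedPrime.Finiteness
import Mathlib.RingTheory.LocalRing.ResidueField.Basic
import Mathlib.RingTheory.KrullDimension.Basic
import Mathlib.RingTheory.Finiteness.Quotient

set_option autoImplicit false
set_option synthInstance.maxHeartbeats 400000
set_option maxHeartbeats 1000000
universe u
open CAlg

namespace Groth.Agent.S9137

theorem finite_fibre (R S : Type u) [CommRing R] [CommRing S]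
    [IsLocalRing R] [IsLocalRing S] [Algebra R S] [IsLocalHom (algebraMap R S)] [Algebra.EssFiniteType R S]
    (hres : Module.Finite (IsLocalRing.ResidueField R) (IsLocalRing.ResidueField S))
    (hdim : ringKrullDim (S ⧸ (IsLocalRing.maximalIdeal R).map (algebraMap R S)) = 0) :
    Module.Finite R (S ⧸ (IsLocalRing.maximalIdeal R).map (algebraMap R S)) := by
  let I := (IsLocalRing.maximalIdeal R).map (algebraMap R S)
  let A := S ⧸ I
  haveI : Module.Finite R (IsLocalRing.ResidueField S) := Module.Finite.trans (IsLocalRing.ResidueField R) _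
  haveI : Nontrivial A := Ideal.Quotient.nontrivial_iff.2 fun h =>
    (IsLocalRing.maximalIdeal.isMaximal S).ne_top (top_le_iff.1 (h ▸ Ideal.map_le_iff_le_comap.2 (IsLocalRing.maximalIdeal_comap (algebraMap R S)).ge))
  haveI : IsLocalRing A := IsLocalRing.of_surjective' (Ideal.Quotient.mk I) Ideal.Quotient.mk_surjective
  haveI : IsNoetherianRing A := by
    letI : Algebra (IsLocalRing.ResidueField R) A :=
      (Ideal.quotientMap I (algebraMap R S) Ideal.le_comap_map).toAlgebra
    haveI : IsScalarTower R (IsLocalRing.ResidueField R) A := IsScalarTower.of_algebraMap_eq fun x => rfl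
    haveI : Algebra.EssFiniteType R A := inferInstance
    haveI : Algebra.EssFiniteType (IsLocalRing.ResidueField R) A := Algebra.EssFiniteType.of_comp R _ _
    exact Algebra.EssFiniteType.isNoetherianRing (IsLocalRing.ResidueField R) A
  haveI : Ring.KrullDimLE 0 A := Ring.krullDimLE_iff.2 hdim.le
  suffices H : ∀ (N : Type u) [AddCommGroup N] [Module A N] [Module.Finite A N] [Module R N] [IsScalarTower R A N],
      Module.Finite R N from H A
  intro N _ _ hfin
  induction hfin using IsNoetherianRing.induction_on_isQuotientEquivQuotientPrime with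
  | subsingleton N' => intro _ _; infer_instance
  | quotient N' q e =>
    intro _ _
    haveI := q.2
    have hq : q.1 = IsLocalRing.maximalIdeal A :=
      IsLocalRing.eq_maximalIdeal (Ideal.IsPrime.isMaximal' inferInstance)
    let f : S →ₐ[R] A ⧸ q.1 := (Ideal.Quotient.mkₐ R q.1).comp (Ideal.Quotient.mkₐ R I)
    have hle : ∀ x ∈ IsLocalRing.maximalIdeal S, f x = 0 := fun x hx => Ideal.Quotient.eq_zero_iff_mem.2 (by
      rw [hq, IsLocalRing.mem_maximalIdeal]
      intro hu
      exact (IsLocalRing.mem_maximalIdeal _).1 hx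
        ((IsLocalHom.of_surjective (Ideal.Quotient.mk I) Ideal.Quotient.mk_surjective).map_nonunit x hu))
    let g : IsLocalRing.ResidueField S →ₗ[R] A ⧸ q.1 := (Ideal.Quotient.liftₐ (IsLocalRing.maximalIdeal S) f hle).toLinearMap
    haveI : Module.Finite R (A ⧸ q.1) := Module.Finite.of_surjective g fun y => by
      obtain ⟨y, rfl⟩ := Ideal.Quotient.mk_surjective y
      obtain ⟨x, rfl⟩ := Ideal.Quotient.mk_surjective y
      exact ⟨IsLocalRing.residue S x, rfl⟩
    exact Module.Finite.equiv (e.restrictScalars R).symm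
  | exact N1 N2 N3 f g hf hg hfg ih1 ih3 =>
    intro _ _
    letI : Module R N1 := Module.compHom N1 (algebraMap R A)
    haveI : IsScalarTower R A N1 := IsScalarTower.of_algebraMap_smul fun _ _ => rfl
    letI : Module R N3 := Module.compHom N3 (algebraMap R A)
    haveI : IsScalarTower R A N3 := IsScalarTower.of_algebraMap_smul fun _ _ => rfl
    haveI := ih1
    haveI := ih3
    refine ⟨Submodule.fg_of_fg_map_of_fg_inf_ker (g.restrictScalars R) ?_ ?_⟩
    · rw [Submodule.map_top, LinearMap.range_eq_top.2 (show Function.Surjective (g.restrictScalars R) from hg)]; exact Module.Finite.fg_top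
    · rw [top_inf_eq, show LinearMap.ker (g.restrictScalars R) = LinearMap.range (f.restrictScalars R) from SetLike.ext fun x => hfg x]
      exact Module.Finite.iff_fg.mp (Module.Finite.range _)


/-- Let R → S be a local ring homomorphism between local rings, essentially of finite type, such that
the residue field of S is finite over that of R and S/m_R S has dimension zero. Then S is, as an
R-algebra, the localization of a finite R-algebra at a prime. -/
theorem result (R S : Type u) [CommRing R] [CommRing S]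
    [IsLocalRing R] [IsLocalRing S] [Algebra R S] [IsLocalHom (algebraMap R S)]
    [Algebra.EssFiniteType R S]
    (hres : Module.Finite (IsLocalRing.ResidueField R) (IsLocalRing.ResidueField S))
    (hdim : ringKrullDim (S ⧸ (IsLocalRing.maximalIdeal R).map (algebraMap R S)) = 0) :
    ∃ (S' : Type u) (_ : CommRing S') (_ : Algebra R S') (_ : Algebra S' S) (_ : IsScalarTower R S' S)
      (q : Ideal S') (_ : q.IsPrime), Module.Finite R S' ∧ IsLocalization.AtPrime S q := by
  classical
  haveI hfinA : Module.Finite R (S ⧸ (IsLocalRing.maximalIdeal R).map (algebraMap R S)) := finite_fibre R S hres hdim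
  let S0 := Algebra.EssFiniteType.subalgebra R S
  let P : Ideal S0 := (IsLocalRing.maximalIdeal S).comap (algebraMap S0 S)
  haveI : P.IsPrime := Ideal.IsPrime.comap _
  haveI hloc : IsLocalization.AtPrime S P := by
    refine IsLocalization.of_le (Algebra.EssFiniteType.submonoid R S) P.primeCompl (fun x hx => ?_) (fun x hx => ?_)
    · exact fun h => (IsLocalRing.mem_maximalIdeal _).1 h (IsLocalization.map_units S (⟨x, hx⟩ : Algebra.EssFiniteType.submonoid R S))
    · exact IsLocalRing.notMem_maximalIdeal.1 hx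
  have hunder : P.under R = IsLocalRing.maximalIdeal R := by
    show Ideal.comap (algebraMap R S0) (Ideal.comap (algebraMap S0 S) _) = _
    rw [Ideal.comap_comap, ← IsScalarTower.algebraMap_eq]
    exact IsLocalRing.maximalIdeal_comap (algebraMap R S)
  haveI : Algebra.WeaklyQuasiFiniteAt R P := by
    rw [Algebra.weaklyQuasiFiniteAt_iff, hunder]
    let e : Localization.AtPrime P ≃ₐ[R] S := (IsLocalization.algEquiv P.primeCompl (Localization.AtPrime P) S).restrictScalars R
    refine Algebra.QuasiFinite.of_surjective_algHom (S := S ⧸ (IsLocalRing.maximalIdeal R).map (algebraMap R S))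
      (Ideal.quotientEquivAlg _ _ e.symm ?_).toAlgHom (AlgEquiv.surjective _)
    rw [Ideal.map_map]
    congr 1
    exact RingHom.ext fun r => (e.symm.commutes r).symm
  obtain ⟨S', hS', r, hr, hbij⟩ := Algebra.QuasiFiniteAt.exists_fg_and_exists_notMem_and_awayMap_bijective (R := R) P
  have key : ∀ a : S0, ∃ n : ℕ, r.1 ^ n * a ∈ S' := by
    intro a
    obtain ⟨x, hx⟩ := hbij.2 (algebraMap S0 _ a)
    obtain ⟨⟨b, ⟨_, m, rfl⟩⟩, hb⟩ := IsLocalization.surj (Submonoid.powers r) x
    have h2 := congrArg (Localization.awayMap S'.val.toRingHom r) hb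
    rw [map_mul, hx] at h2
    simp only [Localization.awayMap, IsLocalization.Away.map, IsLocalization.map_eq, ← map_mul] at h2
    obtain ⟨⟨_, k, rfl⟩, hc⟩ := IsLocalization.exists_of_eq (M := Submonoid.powers (S'.val.toRingHom r)) h2
    refine ⟨k + m, ?_⟩
    have hc' : r.1 ^ k * (a * r.1 ^ m) = r.1 ^ k * b.1 := hc
    rw [show r.1 ^ (k + m) * a = r.1 ^ k * (a * r.1 ^ m) by ring, hc']
    exact mul_mem (pow_mem r.2 k) b.2
  let q : Ideal S' := P.comap S'.val.toRingHom
  haveI : q.IsPrime := Ideal.IsPrime.comap _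
  haveI : Module.Finite R S' := Module.Finite.iff_fg.mpr hS'
  letI : Algebra S' S := ((algebraMap S0 S).comp S'.val.toRingHom).toAlgebra
  haveI ist : IsScalarTower R S' S := IsScalarTower.of_algebraMap_eq fun x => IsScalarTower.algebraMap_apply R S0 S x
  refine ⟨S', inferInstance, inferInstance, inferInstance, ist, q, inferInstance, inferInstance, ⟨⟨fun ⟨y, hy⟩ => ?_, fun z => ?_, fun {a b} hab => ?_⟩⟩⟩
  · exact IsLocalization.map_units S (⟨y.1, hy⟩ : P.primeCompl)
  · obtain ⟨⟨a, t⟩, hat⟩ := IsLocalization.surj P.primeCompl z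
    obtain ⟨n, hn⟩ := key a
    obtain ⟨m, hm⟩ := key t.1
    have htq : (⟨r.1 ^ n * (r.1 ^ m * t.1), mul_mem (pow_mem r.2 n) hm⟩ : S') ∈ q.primeCompl := by
      show r.1 ^ n * (r.1 ^ m * t.1) ∉ P
      exact P.primeCompl.mul_mem (P.primeCompl.pow_mem hr n) (P.primeCompl.mul_mem (P.primeCompl.pow_mem hr m) t.2)
    refine ⟨(⟨r.1 ^ m * (r.1 ^ n * a), mul_mem (pow_mem r.2 m) hn⟩, ⟨_, htq⟩), ?_⟩
    show z * algebraMap S0 S (r.1 ^ n * (r.1 ^ m * t.1)) = algebraMap S0 S (r.1 ^ m * (r.1 ^ n * a))
    rw [map_mul, map_mul, map_mul (algebraMap S0 S) (r.1 ^ m), map_mul (algebraMap S0 S) (r.1 ^ n) a, ← hat]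
    ring
  · obtain ⟨t, ht⟩ := IsLocalization.exists_of_eq (M := P.primeCompl) hab
    obtain ⟨m, hm⟩ := key t.1
    refine ⟨⟨⟨r.1 ^ m * t.1, hm⟩, P.primeCompl.mul_mem (P.primeCompl.pow_mem hr m) t.2⟩, Subtype.ext ?_⟩
    show r.1 ^ m * t.1 * a.1 = r.1 ^ m * t.1 * b.1
    have ht' : t.1 * a.1 = t.1 * b.1 := ht
    rw [mul_assoc, ht', mul_assoc]

end Groth.Agent.S9137
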