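import Groth.Statements.S9139
import Mathlib.RingTheory.FiniteType
import Mathlib.RingTheory.Nilpotent.Lemmas
import Mathlib.RingTheory.Noetherian.Nilpotent
import Mathlib.RingTheory.Ideal.Quotient.Operations
import Mathlib.RingTheory.Ideal.Maps

set_option autoImplicit false
universe u
open CAlg

namespace Groth.Agent.S9139

/-- Let I be a locally nilpotent ideal of a ring R (every element of I is nilpotent) and S → S' a map of
R-algebras with S' of finite type over R. If S → S'/IS' is surjective then so is S → S'. -/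
theorem result (R S S' : Type u) [CommRing R] [CommRing S]
    [CommRing S'] [Algebra R S] [Algebra R S'] [Algebra.FiniteType R S'] (I : Ideal R)
    (hI : ∀ x ∈ I, IsNilpotent x) (f : S →ₐ[R] S')
    (hf : Function.Surjective ((Ideal.Quotient.mk (I.map (algebraMap R S'))).comp f.toRingHom)) :
    Function.Surjective f := by
  classical
  obtain ⟨X, hX⟩ := Algebra.FiniteType.out (R := R) (A := S')
  have hrep : ∀ x : S', ∃ (s : S) (J : Ideal R), J.FG ∧ J ≤ I ∧ x - f s ∈ J • (⊤ : Submodule R S') := by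
    intro x
    obtain ⟨s, hs⟩ := hf (Ideal.Quotient.mk _ x)
    have hd : x - f s ∈ I • (⊤ : Submodule R S') := by
      rw [Ideal.smul_top_eq_map, Submodule.restrictScalars_mem]
      exact Ideal.Quotient.eq.1 hs.symm
    obtain ⟨J, hJ1, hJ2, hJ3⟩ : ∃ J : Ideal R, J.FG ∧ J ≤ I ∧ x - f s ∈ J • (⊤ : Submodule R S') := by
      generalize x - f s = d at hd
      induction hd using Submodule.smul_induction_on' with
      | smul r hr n _ => exact ⟨Ideal.span {r}, ⟨{r}, by simp⟩, by simpa using hr,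
          Submodule.smul_mem_smul (Ideal.subset_span rfl) Submodule.mem_top⟩
      | add a _ b _ ha hb =>
        obtain ⟨J, h1, h2, h3⟩ := ha
        obtain ⟨J', h1', h2', h3'⟩ := hb
        exact ⟨J ⊔ J', Submodule.FG.sup h1 h1', sup_le h2 h2', add_mem (Submodule.smul_mono_left le_sup_left h3)
          (Submodule.smul_mono_left le_sup_right h3')⟩
    exact ⟨s, J, hJ1, hJ2, hJ3⟩
  choose s J hJfg hJI hJmem using hrep
  let J₀ : Ideal R := X.sup J
  have hJ₀fg : J₀.FG := Submodule.fg_finset_sup X J fun x _ => hJfg x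
  obtain ⟨N, hN⟩ : IsNilpotent J₀ := (Ideal.FG.isNilpotent_iff_le_nilradical hJ₀fg).2 fun r hr =>
    hI r ((Finset.sup_le fun x _ => hJI x : J₀ ≤ I) hr)
  let W : Submodule R S' := Subalgebra.toSubmodule f.range
  have hWW : ∀ a ∈ W ⊔ J₀ • ⊤, ∀ b ∈ W ⊔ J₀ • ⊤, a * b ∈ W ⊔ J₀ • (⊤ : Submodule R S') := by
    have hmul : ∀ (c a : S'), a ∈ J₀ • (⊤ : Submodule R S') → c * a ∈ J₀ • (⊤ : Submodule R S') :=
      fun c a ha => Submodule.smul_top_le_comap_smul_top J₀ (LinearMap.mulLeft R c) ha
    intro a ha b hb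
    obtain ⟨a₁, ha₁, a₂, ha₂, rfl⟩ := Submodule.mem_sup.1 ha
    obtain ⟨b₁, hb₁, b₂, hb₂, rfl⟩ := Submodule.mem_sup.1 hb
    rw [show (a₁ + a₂) * (b₁ + b₂) = a₁ * b₁ + ((b₁ + b₂) * a₂ + a₁ * b₂) by ring]
    exact Submodule.add_mem_sup (f.range.mul_mem ha₁ hb₁) (add_mem (hmul _ _ ha₂) (hmul _ _ hb₂))
  let D : Subalgebra R S' :=
    { carrier := (W ⊔ J₀ • (⊤ : Submodule R S') : Submodule R S')
      mul_mem' := fun {a b} ha hb => hWW a ha b hb
      add_mem' := fun ha hb => add_mem ha hb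
      algebraMap_mem' := fun r => Submodule.mem_sup_left (f.range.algebraMap_mem r) }
  have hD : ∀ y : S', y ∈ W ⊔ J₀ • (⊤ : Submodule R S') := fun y => by
    have h : Algebra.adjoin R (X : Set S') ≤ D := Algebra.adjoin_le fun x hx => by
      rw [← add_sub_cancel (f (s x)) x]
      exact Submodule.add_mem_sup ⟨s x, rfl⟩ (Submodule.smul_mono_left (Finset.le_sup hx) (hJmem x))
    rw [hX] at h
    exact h Algebra.mem_top
  have key : ∀ k, (⊤ : Submodule R S') ≤ W ⊔ J₀ ^ k • ⊤ := by
    intro k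
    induction k with
    | zero => rw [pow_zero, Ideal.one_eq_top, Submodule.top_smul]; exact le_sup_right
    | succ k ih =>
      refine fun y _ => (sup_le (le_sup_left) ?_ : W ⊔ J₀ • ⊤ ≤ W ⊔ J₀ ^ (k + 1) • (⊤ : Submodule R S')) (hD y)
      refine (Submodule.smul_mono le_rfl ih).trans ?_
      rw [Submodule.smul_sup, pow_succ', Submodule.mul_smul]
      exact sup_le_sup Submodule.smul_le_right le_rfl
  intro y
  have := key N (Submodule.mem_top (x := y))
  rw [hN, Ideal.zero_eq_bot, Submodule.bot_smul, sup_bot_eq] at this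
  exact this

end Groth.Agent.S9139
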