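import Groth.Statements.S9140
import Mathlib.RingTheory.FinitePresentation
import Mathlib.RingTheory.Flat.EquationalCriterion
import Mathlib.RingTheory.Nakayama
import Mathlib.RingTheory.Nilpotent.Lemmas

set_option autoImplicit false
universe u
open CAlg

namespace Groth.Agent.S9140

theorem span_rep {R S : Type*} [CommRing R] [CommRing S] [Algebra R S] (I : Ideal R) (x : S) (hx : x ∈ I.map (algebraMap R S)) :
    ∃ (l : ℕ) (a : Fin l → I) (s : Fin l → S), x = ∑ i, (a i : R) • s i := by
  induction hx using Submodule.span_induction with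
  | mem y hy => obtain ⟨b, hb, rfl⟩ := hy; exact ⟨1, fun _ => ⟨b, hb⟩, fun _ => 1, by simp [Algebra.smul_def]⟩
  | zero => exact ⟨0, Fin.elim0, Fin.elim0, by simp⟩
  | add u v _ _ hu hv =>
    obtain ⟨l, a, s, rfl⟩ := hu
    obtain ⟨l', a', s', rfl⟩ := hv
    exact ⟨l + l', Fin.append a a', Fin.append s s', by simp [Fin.sum_univ_add]⟩
  | smul c u _ hu =>
    obtain ⟨l, a, s, rfl⟩ := hu
    exact ⟨l, a, fun i => c * s i, by simp [Finset.mul_sum]⟩

theorem nilradical_le_jacobson (S : Type*) [CommRing S] (x : S) (hx : IsNilpotent x) : x ∈ Ideal.jacobson (⊥ : Ideal S) :=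
  Ideal.radical_le_jacobson hx


/-- Let I be a locally nilpotent ideal of a ring R and S → S' a map of R-algebras with S of finite type
over R and S' of finite presentation and flat over R. If the induced map S/IS → S'/IS' is bijective
(stated as: S → S'/IS' is surjective with kernel IS), then S → S' is bijective. -/
theorem result (R S S' : Type u)
    [CommRing R] [CommRing S] [CommRing S'] [Algebra R S] [Algebra R S'] [Algebra.FiniteType R S]
    [Algebra.FinitePresentation R S'] [Module.Flat R S'] (I : Ideal R) (hI : ∀ x ∈ I, IsNilpotent x)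
    (f : S →ₐ[R] S')
    (hsurj : Function.Surjective ((Ideal.Quotient.mk (I.map (algebraMap R S'))).comp f.toRingHom))
    (hker : ∀ s : S, f s ∈ I.map (algebraMap R S') → s ∈ I.map (algebraMap R S)) :
    Function.Bijective f := by
  classical
  have hmod : ∀ z : S', ∃ s, z - f s ∈ I.map (algebraMap R S') := fun z => by
    obtain ⟨z', hz'⟩ := hsurj (Ideal.Quotient.mk _ z)
    exact ⟨z', Ideal.Quotient.eq.1 hz'.symm⟩
  have hfg : ∀ z : S', ∃ J : Ideal R, J ≤ I ∧ J.FG ∧ ∃ s, z - f s ∈ J.map (algebraMap R S') := fun z => by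
    obtain ⟨s, hs⟩ := hmod z
    suffices H : ∀ x ∈ I.map (algebraMap R S'), ∃ J : Ideal R, J ≤ I ∧ J.FG ∧ x ∈ J.map (algebraMap R S') by
      obtain ⟨J, h1, h2, h3⟩ := H _ hs
      exact ⟨J, h1, h2, s, h3⟩
    intro x hx
    induction hx using Submodule.span_induction with
    | mem y hy =>
      obtain ⟨a, ha, rfl⟩ := hy
      exact ⟨Ideal.span {a}, (Ideal.span_singleton_le_iff_mem _).2 ha, ⟨{a}, by simp⟩, Ideal.mem_map_of_mem _ (Ideal.mem_span_singleton_self a)⟩
    | zero => exact ⟨⊥, bot_le, Submodule.fg_bot, zero_mem _⟩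
    | add a b _ _ ha hb =>
      obtain ⟨J, h1, h2, h3⟩ := ha
      obtain ⟨K, k1, k2, k3⟩ := hb
      exact ⟨J ⊔ K, sup_le h1 k1, Submodule.FG.sup h2 k2, add_mem (Ideal.map_mono le_sup_left h3) (Ideal.map_mono le_sup_right k3)⟩
    | smul c a _ ha =>
      obtain ⟨J, h1, h2, h3⟩ := ha
      exact ⟨J, h1, h2, Ideal.mul_mem_left _ c h3⟩
  obtain ⟨G, hG⟩ := (inferInstance : Algebra.FiniteType R S').out
  choose J hJI hJfg sJ hsJ using hfg
  let J0 : Ideal R := G.sup J
  have hJ0 : J0 ≤ I := Finset.sup_le fun g _ => hJI g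
  have hJ0fg : J0.FG := Submodule.fg_finset_sup _ _ fun g _ => hJfg g
  have h1 : ∀ z : S', ∃ s, z - f s ∈ J0.map (algebraMap R S') := fun z => by
    have hz : z ∈ Algebra.adjoin R (G : Set S') := hG ▸ trivial
    induction hz using Algebra.adjoin_induction with
    | mem g hg => exact ⟨sJ g, Ideal.map_mono (Finset.le_sup hg) (hsJ g)⟩
    | algebraMap r => exact ⟨algebraMap R S r, by simp⟩
    | add a b _ _ ha hb =>
      obtain ⟨s, hs⟩ := ha
      obtain ⟨t, ht⟩ := hb
      exact ⟨s + t, by rw [map_add, add_sub_add_comm]; exact add_mem hs ht⟩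
    | mul a b _ _ ha hb =>
      obtain ⟨s, hs⟩ := ha
      obtain ⟨t, ht⟩ := hb
      exact ⟨s * t, by rw [map_mul, show a * b - f s * f t = (a - f s) * b + f s * (b - f t) by ring]; exact add_mem (Ideal.mul_mem_right _ _ hs) (Ideal.mul_mem_left _ _ ht)⟩
  have hk : ∀ k (z : S'), ∃ s, z - f s ∈ (J0 ^ k).map (algebraMap R S') := by
    intro k
    induction k with
    | zero => exact fun z => ⟨0, by simp [Ideal.one_eq_top, Ideal.map_top]⟩
    | succ k ih =>
      intro z
      obtain ⟨s, hs⟩ := ih z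
      suffices H : ∀ x ∈ (J0 ^ k).map (algebraMap R S'), ∀ w, ∃ t, w * x - f t ∈ (J0 ^ (k + 1)).map (algebraMap R S') by
        obtain ⟨t, ht⟩ := H _ hs 1
        exact ⟨s + t, by rwa [one_mul, sub_sub, ← map_add] at ht⟩
      intro x hx
      induction hx using Submodule.span_induction with
      | mem y hy =>
        obtain ⟨a, ha, rfl⟩ := hy
        intro w
        obtain ⟨t, ht⟩ := h1 w
        refine ⟨t * algebraMap R S a, ?_⟩
        rw [map_mul, f.commutes, ← sub_mul, pow_succ', Ideal.map_mul]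
        exact Ideal.mul_mem_mul ht (Ideal.mem_map_of_mem _ ha)
      | zero => exact fun w => ⟨0, by simp⟩
      | add a b _ _ ha hb =>
        intro w
        obtain ⟨s, hs⟩ := ha w
        obtain ⟨t, ht⟩ := hb w
        exact ⟨s + t, by rw [mul_add, map_add, add_sub_add_comm]; exact add_mem hs ht⟩
      | smul c a _ ha => intro w; rw [smul_eq_mul, ← mul_assoc]; exact ha (w * c)
  have hsur : Function.Surjective f := fun z => by
    obtain ⟨N, hN⟩ := Ideal.exists_pow_le_of_le_radical_of_fg (I := J0) (J := ⊥) (fun x hx => hI x (hJ0 hx)) hJ0fg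
    obtain ⟨s, hs⟩ := hk N z
    rw [le_bot_iff.1 hN, Ideal.map_bot, Submodule.mem_bot, sub_eq_zero] at hs
    exact ⟨s, hs.symm⟩
  refine ⟨(RingHom.injective_iff_ker_eq_bot f.toRingHom).2 ?_, hsur⟩
  obtain ⟨n, g, hg⟩ := Algebra.FiniteType.iff_quotient_mvPolynomial''.1 (inferInstance : Algebra.FiniteType R S)
  have hKfg : (RingHom.ker f.toRingHom).FG := by
    have := (Algebra.FinitePresentation.ker_fG_of_surjective (f.comp g) (hsur.comp hg)).map g.toRingHom
    convert this using 1
    show _ = Ideal.map g.toRingHom (RingHom.ker (f.toRingHom.comp g.toRingHom))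
    rw [← RingHom.comap_ker, Ideal.map_comap_of_surjective g.toRingHom hg]
  refine Submodule.eq_bot_of_le_smul_of_le_jacobson_bot (I.map (algebraMap R S)) _ hKfg (fun x hx => ?_) ?_
  · have hxI : x ∈ I.map (algebraMap R S) := hker x (by rw [show f x = 0 from hx]; exact zero_mem _)
    obtain ⟨l, a, sx, hax⟩ := span_rep I x hxI
    have hrel : ∑ i, (a i : R) • f (sx i) = 0 := by
      have h0 : f x = 0 := hx
      rw [hax, map_sum] at h0
      simpa [map_smul] using h0
    obtain ⟨m, c, y, hy, hc⟩ := Module.Flat.isTrivialRelation_of_sum_smul_eq_zero hrel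
    choose t ht using fun j => hsur (y j)
    have hx2 : x = ∑ i, (a i : R) • (sx i - ∑ j, c i j • t j) := by
      simp only [smul_sub, Finset.sum_sub_distrib, Finset.smul_sum, smul_smul, ← hax]
      rw [Finset.sum_comm]
      simp only [← Finset.sum_smul, hc, zero_smul, Finset.sum_const_zero, sub_zero]
    rw [hx2]
    refine Submodule.sum_mem _ fun i _ => ?_
    rw [← algebraMap_smul S (a i : R) (sx i - ∑ j, c i j • t j)]
    refine Submodule.smul_mem_smul (Ideal.mem_map_of_mem _ (a i).2) ?_
    show f (sx i - ∑ j, c i j • t j) = 0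
    simp [map_sum, ht, ← hy]
  · exact Ideal.map_le_iff_le_comap.2 fun a ha => Ideal.mem_comap.2 (nilradical_le_jacobson _ _ ((hI a ha).map _))

end Groth.Agent.S9140
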