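-- Proof of S9155.
import Groth.Prelude.Def_DiffOp
import Mathlib.Algebra.Module.LocalizedModule.Basic
import Mathlib.RingTheory.Localization.Basic
import Groth.Agent.Diff.BaseChange
import Mathlib.RingTheory.Localization.BaseChange

set_option autoImplicit false
universe u
open Diff16

open scoped TensorProduct

namespace Groth.Agent.S9155

/-- A differential operator of order at most k between modules over B (relative to A → B) has exactly
one extension to the localized modules over S⁻¹B that is again a differential operator of order at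
most k (relative to A → S⁻¹B), compatible with the localization maps. -/
theorem result (A B : Type u) [CommRing A] [CommRing B] [Algebra A B]
    (S : Submonoid B) (M N : Type u) [AddCommGroup M] [Module B M] [Module A M] [IsScalarTower A B M]
    [AddCommGroup N] [Module B N] [Module A N] [IsScalarTower A B N] (k : ℕ) (D : M →ₗ[A] N)
    (hD : Diff16.IsDiffOpLE A B M N k D) :
    ∃! E : LocalizedModule S M →ₗ[A] LocalizedModule S N,
      Diff16.IsDiffOpLE A (Localization S) (LocalizedModule S M) (LocalizedModule S N) k E ∧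
        E ∘ₗ (LocalizedModule.mkLinearMap S M).restrictScalars A =
          (LocalizedModule.mkLinearMap S N).restrictScalars A ∘ₗ D := by
  let L := Localization S
  haveI : Algebra.FormallyEtale B L := Algebra.FormallyEtale.of_isLocalization S
  have hM := IsLocalizedModule.isBaseChange S L (LocalizedModule.mkLinearMap S M)
  have hN := IsLocalizedModule.isBaseChange S L (LocalizedModule.mkLinearMap S N)
  let eM := hM.equiv
  let eN := hN.equiv
  have eM1 : ∀ m, eM ((1 : L) ⊗ₜ[B] m) = LocalizedModule.mkLinearMap S M m := fun m => by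
    simp [eM, IsBaseChange.equiv_tmul]
  have eN1 : ∀ x, eN ((1 : L) ⊗ₜ[B] x) = LocalizedModule.mkLinearMap S N x := fun x => by
    simp [eN, IsBaseChange.equiv_tmul]
  obtain ⟨D', ⟨hD', hD1⟩, huniq⟩ :=
    Groth.Agent.Diff.Etale.existsUnique_ext (B' := L) k D hD
  have h0 : ∀ (X Y : Type u) [AddCommGroup X] [Module L X] [Module A X] [IsScalarTower A L X]
      [AddCommGroup Y] [Module L Y] [Module A Y] [IsScalarTower A L Y] (f : X →ₗ[L] Y),
      Diff16.IsDiffOpLE A L X Y 0 (f.restrictScalars A) :=
    fun X Y _ _ _ _ _ _ _ _ f b x => f.map_smul b x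
  let E : LocalizedModule S M →ₗ[A] LocalizedModule S N :=
    eN.toLinearMap.restrictScalars A ∘ₗ D' ∘ₗ eM.symm.toLinearMap.restrictScalars A
  refine ⟨E, ⟨?_, ?_⟩, ?_⟩
  · exact Groth.Agent.Diff.Basic.isDiffOpLE_comp k k 0 rfl _ _
      (Groth.Agent.Diff.Basic.isDiffOpLE_comp k 0 k (zero_add k) _ _ (h0 _ _ eM.symm.toLinearMap) hD')
      (h0 _ _ eN.toLinearMap)
  · refine LinearMap.ext fun m => ?_
    show eN (D' (eM.symm (LocalizedModule.mkLinearMap S M m))) =
      LocalizedModule.mkLinearMap S N (D m)
    rw [← eM1, LinearEquiv.symm_apply_apply, ← eN1]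
    exact congrArg eN (LinearMap.congr_fun hD1 m)
  · rintro G ⟨hG, hG1⟩
    let G' : L ⊗[B] M →ₗ[A] L ⊗[B] N :=
      eN.symm.toLinearMap.restrictScalars A ∘ₗ G ∘ₗ eM.toLinearMap.restrictScalars A
    have hG' : G' = D' := by
      refine huniq G' ⟨Groth.Agent.Diff.Basic.isDiffOpLE_comp k k 0 rfl _ _
        (Groth.Agent.Diff.Basic.isDiffOpLE_comp k 0 k (zero_add k) _ _ (h0 _ _ eM.toLinearMap) hG)
        (h0 _ _ eN.symm.toLinearMap), LinearMap.ext fun m => ?_⟩
      show eN.symm (G (eM ((1 : L) ⊗ₜ[B] m))) = (1 : L) ⊗ₜ[B] D m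
      rw [eM1, LinearEquiv.symm_apply_eq, eN1]
      exact LinearMap.congr_fun hG1 m
    refine LinearMap.ext fun x => ?_
    show G x = eN (D' (eM.symm x))
    rw [← hG']
    show G x = eN (eN.symm (G (eM (eM.symm x))))
    simp

end Groth.Agent.S9155
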