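import Groth.Statements.S9157
import Mathlib.RingTheory.Localization.Finiteness
import Mathlib.Algebra.Module.FinitePresentation

set_option autoImplicit false
universe u
open CAlg

namespace Groth.Agent.S9157

/-- If the localization S⁻¹M of an R-module M is finitely presented over S⁻¹R, then some finitely
presented R-module M' maps to M inducing an isomorphism S⁻¹M' → S⁻¹M. -/
theorem result (R : Type u) [CommRing R] (S : Submonoid R)
    (M : Type u) [AddCommGroup M] [Module R M]
    [Module.FinitePresentation (Localization S) (LocalizedModule S M)] :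
    ∃ (M' : Type u) (_ : AddCommGroup M') (_ : Module R M') (φ : M' →ₗ[R] M),
      Module.FinitePresentation R M' ∧ Function.Bijective (LocalizedModule.map S φ) := by
  classical
  obtain ⟨G, hG⟩ := (Module.Finite.fg_top : (⊤ : Submodule (Localization S) (LocalizedModule S M)).FG)
  have hnum : ∀ g : LocalizedModule S M, ∃ p : M × S, LocalizedModule.mk p.1 p.2 = g := by
    intro g; induction g using LocalizedModule.induction_on with
    | _ m s => exact ⟨(m, s), rfl⟩
  choose num hnum using hnum
  let φ0 : (↥G → R) →ₗ[R] M := Fintype.linearCombination R (fun i : ↥G => (num i.1).1)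
  have hsurj : Function.Surjective (LocalizedModule.map S φ0) := by
    rw [← LinearMap.range_eq_top, eq_top_iff, ← hG, Submodule.span_le]
    intro g hg
    refine ⟨LocalizedModule.mk (Pi.single ⟨g, hg⟩ 1) (num g).2, ?_⟩
    rw [LocalizedModule.map_mk]
    simp [φ0, hnum g, Fintype.linearCombination_apply_single]
  have : Module.Finite (Localization S) (LocalizedModule S (↥G → R)) :=
    Module.Finite.of_isLocalizedModule S (LocalizedModule.mkLinearMap S (↥G → R))
  obtain ⟨T, hT⟩ := Module.FinitePresentation.fg_ker (LocalizedModule.map S φ0) hsurj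
  have hk : ∀ t : ↥T, ∃ (k : ↥G → R) (s : S) (u : S), LocalizedModule.mk k s = t.1 ∧ φ0 (u • k) = 0 := by
    intro t
    have ht : t.1 ∈ LinearMap.ker (LocalizedModule.map S φ0) := hT ▸ Submodule.subset_span t.2
    generalize t.1 = x at ht
    induction x using LocalizedModule.induction_on with
    | _ k s =>
      rw [LinearMap.mem_ker, LocalizedModule.map_mk, ← LocalizedModule.zero_mk 1, LocalizedModule.mk_eq] at ht
      obtain ⟨u, hu⟩ := ht
      refine ⟨k, s, u, rfl, ?_⟩
      simpa [Submonoid.smul_def, map_smul] using hu
  choose k s u hks hku using hk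
  let K' : Submodule R (↥G → R) := Submodule.span R (Set.range fun t : ↥T => u t • k t)
  have hle : K' ≤ LinearMap.ker φ0 := Submodule.span_le.mpr (by rintro _ ⟨t, rfl⟩; exact hku t)
  have hker : LinearMap.ker (LocalizedModule.map S φ0) ≤ LinearMap.ker (LocalizedModule.map S K'.mkQ) := by
    rw [← hT, Submodule.span_le]
    intro x hx
    have hx' := hks ⟨x, hx⟩
    simp only at hx'
    rw [← hx', SetLike.mem_coe, LinearMap.mem_ker, LocalizedModule.map_mk, ← LocalizedModule.zero_mk 1, LocalizedModule.mk_eq]
    refine ⟨u ⟨x, hx⟩, ?_⟩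
    have : K'.mkQ (u ⟨x, hx⟩ • k ⟨x, hx⟩) = 0 :=
      (Submodule.Quotient.mk_eq_zero _).mpr (Submodule.subset_span ⟨_, rfl⟩)
    simpa [Submonoid.smul_def, map_smul] using this
  refine ⟨(↥G → R) ⧸ K', inferInstance, inferInstance, K'.liftQ φ0 hle, ?_, ?_, ?_⟩
  · exact Module.finitePresentation_of_surjective K'.mkQ (Submodule.mkQ_surjective K')
      (by rw [Submodule.ker_mkQ]; exact Submodule.fg_span (Set.finite_range _))
  · rw [injective_iff_map_eq_zero]
    intro y hy
    induction y using LocalizedModule.induction_on with
    | _ q r =>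
      obtain ⟨v, rfl⟩ := Submodule.mkQ_surjective K' q
      have h1 : LocalizedModule.mk v r ∈ LinearMap.ker (LocalizedModule.map S φ0) := by
        rw [LinearMap.mem_ker, LocalizedModule.map_mk]
        rw [LocalizedModule.map_mk] at hy
        simpa using hy
      have h2 := hker h1
      rwa [LinearMap.mem_ker, LocalizedModule.map_mk] at h2
  · intro y
    obtain ⟨z, rfl⟩ := hsurj y
    induction z using LocalizedModule.induction_on with
    | _ v r => exact ⟨LocalizedModule.mk (K'.mkQ v) r, by simp [LocalizedModule.map_mk]⟩

end Groth.Agent.S9157
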