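import Groth.Statements.S9161
import Mathlib.LinearAlgebra.Prod
import Mathlib.Tactic.Abel

set_option autoImplicit false
universe u
open CAlg

namespace Groth.Agent.S9161

/-- If two two-term complexes of R-modules A₁ → A₀ and B₁ → B₀ are homotopy equivalent (maps of
complexes both ways whose composites are homotopic to the identity maps), then A₁ ⊕ B₀ and B₁ ⊕ A₀
are isomorphic R-modules. -/
theorem result (R : Type u) [CommRing R]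
    (A₁ A₀ B₁ B₀ : Type u) [AddCommGroup A₁] [Module R A₁] [AddCommGroup A₀] [Module R A₀]
    [AddCommGroup B₁] [Module R B₁] [AddCommGroup B₀] [Module R B₀]
    (dA : A₁ →ₗ[R] A₀) (dB : B₁ →ₗ[R] B₀) (φ₁ : A₁ →ₗ[R] B₁) (φ₀ : A₀ →ₗ[R] B₀)
    (ψ₁ : B₁ →ₗ[R] A₁) (ψ₀ : B₀ →ₗ[R] A₀) (hφ : dB ∘ₗ φ₁ = φ₀ ∘ₗ dA) (hψ : dA ∘ₗ ψ₁ = ψ₀ ∘ₗ dB)
    (h : A₀ →ₗ[R] A₁) (hh₁ : LinearMap.id - ψ₁ ∘ₗ φ₁ = h ∘ₗ dA) (hh₀ : LinearMap.id - ψ₀ ∘ₗ φ₀ = dA ∘ₗ h)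
    (h' : B₀ →ₗ[R] B₁) (hh'₁ : LinearMap.id - φ₁ ∘ₗ ψ₁ = h' ∘ₗ dB)
    (hh'₀ : LinearMap.id - φ₀ ∘ₗ ψ₀ = dB ∘ₗ h') :
    Nonempty ((A₁ × B₀) ≃ₗ[R] (B₁ × A₀)) := by
  let F : (A₁ × B₀) →ₗ[R] (B₁ × A₀) := LinearMap.prod (φ₁.coprod (-h')) (dA.coprod ψ₀)
  let G : (B₁ × A₀) →ₗ[R] (A₁ × B₀) := LinearMap.prod (ψ₁.coprod h) ((-dB).coprod φ₀)
  have e1 : ∀ x, ψ₁ (φ₁ x) = x - h (dA x) := fun x => by
    have := LinearMap.congr_fun hh₁ x; simp at this; rw [← this]; abel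
  have e0 : ∀ x, ψ₀ (φ₀ x) = x - dA (h x) := fun x => by
    have := LinearMap.congr_fun hh₀ x; simp at this; rw [← this]; abel
  have e1' : ∀ x, φ₁ (ψ₁ x) = x - h' (dB x) := fun x => by
    have := LinearMap.congr_fun hh'₁ x; simp at this; rw [← this]; abel
  have e0' : ∀ x, φ₀ (ψ₀ x) = x - dB (h' x) := fun x => by
    have := LinearMap.congr_fun hh'₀ x; simp at this; rw [← this]; abel
  have c1 : ∀ x, dB (φ₁ x) = φ₀ (dA x) := fun x => LinearMap.congr_fun hφ x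
  have c2 : ∀ x, dA (ψ₁ x) = ψ₀ (dB x) := fun x => LinearMap.congr_fun hψ x
  have hGF : ∀ p, G (F p) = (p.1 + (h (ψ₀ p.2) - ψ₁ (h' p.2)), p.2) := by
    rintro ⟨a, b⟩
    refine Prod.ext ?_ ?_ <;> simp [F, G, e1, e0', c1] <;> abel
  have hFG : ∀ p, F (G p) = (p.1 + (φ₁ (h p.2) - h' (φ₀ p.2)), p.2) := by
    rintro ⟨a, b⟩
    refine Prod.ext ?_ ?_ <;> simp [F, G, e1', e0, c2] <;> abel
  refine ⟨LinearEquiv.ofBijective F ⟨fun p q hpq => ?_, fun z => ?_⟩⟩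
  · have := congrArg G hpq
    rw [hGF, hGF, Prod.mk.injEq] at this
    obtain ⟨h1, h2⟩ := this
    rw [h2, add_left_inj] at h1
    exact Prod.ext h1 h2
  · refine ⟨G (z.1 - (φ₁ (h z.2) - h' (φ₀ z.2)), z.2), ?_⟩
    rw [hFG]; simp

end Groth.Agent.S9161
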