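import Groth.Statements.S9163
import Mathlib.RingTheory.IntegralClosure.IsIntegralClosure.Basic
import Mathlib.RingTheory.FiniteType
import Mathlib.RingTheory.Adjoin.Tower
import Mathlib.Algebra.Polynomial.Lifts

set_option autoImplicit false
universe u
open CAlg

namespace Groth.Agent.S9163

/-- If S is integral over R, then any finitely many elements of R and of S lie in a pair R₀ ⊆ R, S₀ ⊆ S
with R₀ a finite type ℤ-subalgebra, S₀ an R₀-subalgebra of S, and S₀ finite as an R₀-module; so R →
S is the directed colimit of finite maps between finite type ℤ-algebras. -/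
theorem result (R S : Type u) [CommRing R] [CommRing S] [Algebra R S]
    [Algebra.IsIntegral R S] (E : Finset R) (F : Finset S) :
    ∃ (R₀ : Subalgebra ℤ R) (S₀ : Subalgebra R₀ S), Algebra.FiniteType ℤ R₀ ∧ (E : Set R) ⊆ R₀ ∧
      (F : Set S) ⊆ S₀ ∧ Module.Finite R₀ S₀ := by
  classical
  choose P hP1 hP2 using fun x : S => (Algebra.IsIntegral.isIntegral (R := R) x)
  let T : Finset R := E ∪ F.biUnion fun x => (P x).coeffs
  let R₀ : Subalgebra ℤ R := Algebra.adjoin ℤ (T : Set R)
  have hint : ∀ x ∈ F, IsIntegral R₀ x := fun x hx => by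
    have hlift : P x ∈ Polynomial.lifts (algebraMap R₀ R) := by
      rw [Polynomial.lifts_iff_coeff_lifts]
      intro n
      by_cases h0 : (P x).coeff n = 0
      · exact ⟨0, by rw [h0, map_zero]⟩
      · exact ⟨⟨_, Algebra.subset_adjoin (Finset.mem_union_right _ (Finset.mem_biUnion.2
          ⟨x, hx, Polynomial.mem_coeffs_iff.2 ⟨n, Polynomial.mem_support_iff.2 h0, rfl⟩⟩))⟩, rfl⟩
    rcases subsingleton_or_nontrivial R with hR | hR
    · haveI : Subsingleton R₀ := Subtype.val_injective.subsingleton
      exact ⟨0, Subsingleton.elim _ _, Polynomial.eval₂_zero _ _⟩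
    obtain ⟨q, hq1, -, hq2⟩ := Polynomial.lifts_and_degree_eq_and_monic hlift (hP1 x)
    refine ⟨q, hq2, ?_⟩
    rw [IsScalarTower.algebraMap_eq R₀ R S, ← Polynomial.eval₂_map, hq1]
    exact hP2 x
  refine ⟨R₀, Algebra.adjoin R₀ (F : Set S),
    (Subalgebra.fg_iff_finiteType _).1 (Subalgebra.fg_adjoin_finset T),
    fun r hr => Algebra.subset_adjoin (Finset.mem_union_left _ hr), Algebra.subset_adjoin, ?_⟩
  exact Module.Finite.iff_fg.2 (fg_adjoin_of_finite F.finite_toSet hint)

end Groth.Agent.S9163
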