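import Groth.Statements.S9178
import Mathlib.RingTheory.Kaehler.Basic
import Mathlib.RingTheory.Ideal.Cotangent
import Mathlib.RingTheory.Derivation.Basic

set_option autoImplicit false
universe u
open CAlg

namespace Groth.Agent.S9178

/-- For ring maps A → B → C with A → C surjective, writing I = ker(A → C) and J = ker(B → C), the
sequence I/I² → J/J² → C ⊗_B Ω_{B/A} → 0 is exact. Stated: the image of I/I² in J/J² is exactly the
kernel of J/J² → C ⊗_B Ω_{B/A} (surjectivity of the latter map is the standard conormal sequence for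
the surjection B → C). -/
theorem result (A B C : Type u) [CommRing A] [CommRing B]
    [CommRing C] [Algebra A B] [Algebra B C] [Algebra A C] [IsScalarTower A B C]
    (hAC : Function.Surjective (algebraMap A C))
    (h : RingHom.ker (algebraMap A C) ≤ (RingHom.ker (algebraMap B C)).comap (Algebra.ofId A B)) :
    Function.Exact
      (Ideal.mapCotangent (RingHom.ker (algebraMap A C)) (RingHom.ker (algebraMap B C)) (Algebra.ofId A B) h)
      (KaehlerDifferential.kerCotangentToTensor A B C) := by
  classical
  set J := RingHom.ker (algebraMap B C)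
  let mc := Ideal.mapCotangent (RingHom.ker (algebraMap A C)) J (Algebra.ofId A B) h
  let N : Submodule B J.Cotangent := Submodule.span B (Set.range mc)
  have hJkill : ∀ j ∈ J, ∀ y : J.Cotangent, j • y = 0 := fun j hj y => by
    obtain ⟨⟨y, hy⟩, rfl⟩ := J.toCotangent_surjective y
    rw [← map_smul, Ideal.toCotangent_eq_zero, pow_two]
    exact Ideal.mul_mem_mul hj hy
  have hsec : ∀ b : B, ∃ a : A, b - algebraMap A B a ∈ J := fun b => by
    obtain ⟨a, ha⟩ := hAC (algebraMap B C b)
    exact ⟨a, by rw [RingHom.mem_ker, map_sub, ← IsScalarTower.algebraMap_apply, ha, sub_self]⟩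
  choose s hs using hsec
  let q : J → J.Cotangent ⧸ N := fun x => Submodule.Quotient.mk (J.toCotangent x)
  have hq : ∀ (b : B) (a : A) (hb : b - algebraMap A B a ∈ J), q ⟨_, hb⟩ = q ⟨_, hs b⟩ := fun b a hb => by
    refine (Submodule.Quotient.eq N).2 (Submodule.subset_span ⟨(RingHom.ker (algebraMap A C)).toCotangent ⟨s b - a, ?_⟩, ?_⟩)
    · have h1 := sub_mem hb (hs b)
      rw [sub_sub_sub_cancel_left, ← map_sub, RingHom.mem_ker, ← IsScalarTower.algebraMap_apply] at h1
      exact h1
    · refine (Ideal.mapCotangent_toCotangent _ _ _ _ _).trans ((congrArg J.toCotangent (Subtype.ext ?_)).trans (map_sub J.toCotangent _ _))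
      simp [Algebra.ofId_apply]
  let f : B →ₗ[A] J.Cotangent ⧸ N :=
    { toFun := fun b => q ⟨_, hs b⟩
      map_add' := fun b c => by
        rw [← hq (b + c) (s b + s c) (by rw [map_add, add_sub_add_comm]; exact add_mem (hs b) (hs c))]
        show Submodule.Quotient.mk (J.toCotangent _) = Submodule.Quotient.mk (J.toCotangent _) + Submodule.Quotient.mk (J.toCotangent _)
        rw [← Submodule.Quotient.mk_add]
        refine congrArg _ ((congrArg J.toCotangent (Subtype.ext ?_)).trans (map_add J.toCotangent _ _))
        simp [add_sub_add_comm]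
      map_smul' := fun r b => by
        rw [← hq (r • b) (r * s b) (by rw [Algebra.smul_def, map_mul, ← mul_sub]; exact J.mul_mem_left _ (hs b)), RingHom.id_apply, ← algebraMap_smul B r (q ⟨_, hs b⟩)]
        show Submodule.Quotient.mk (J.toCotangent _) = algebraMap A B r • Submodule.Quotient.mk (J.toCotangent _)
        rw [← Submodule.Quotient.mk_smul, ← map_smul]
        congr 2
        exact Subtype.ext (by simp [Algebra.smul_def, mul_sub]) }
  let D : Derivation A B (J.Cotangent ⧸ N) := Derivation.mk' f fun b c => by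
    show q _ = b • q _ + c • q _
    rw [← hq (b * c) (s b * s c) (by
      rw [map_mul, show b * c - algebraMap A B (s b) * algebraMap A B (s c) = b * (c - algebraMap A B (s c)) + algebraMap A B (s c) * (b - algebraMap A B (s b)) by ring]
      exact add_mem (J.mul_mem_left _ (hs c)) (J.mul_mem_left _ (hs b)))]
    have hk : c • J.toCotangent ⟨_, hs b⟩ = algebraMap A B (s c) • J.toCotangent ⟨_, hs b⟩ := by
      rw [← sub_eq_zero, ← sub_smul]
      exact hJkill _ (hs c) _
    show Submodule.Quotient.mk (J.toCotangent _) = b • Submodule.Quotient.mk (J.toCotangent _) + c • Submodule.Quotient.mk (J.toCotangent _)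
    rw [← Submodule.Quotient.mk_smul, ← Submodule.Quotient.mk_smul, ← Submodule.Quotient.mk_add, hk, ← map_smul, ← map_smul, ← map_add]
    congr 2
    exact Subtype.ext (by simp [Algebra.smul_def]; ring)
  have hBC : Function.Surjective (algebraMap B C) := fun c => by
    obtain ⟨a, rfl⟩ := hAC c
    exact ⟨algebraMap A B a, (IsScalarTower.algebraMap_apply A B C a).symm⟩
  let L := D.liftKaehlerDifferential
  have hL : LinearMap.ker (Algebra.linearMap B C) ≤ LinearMap.ker (LinearMap.toSpanSingleton B _ L) := fun j hj => by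
    refine LinearMap.mem_ker.2 (LinearMap.ext fun ω => ?_)
    show j • L ω = 0
    obtain ⟨y, hy⟩ := Submodule.Quotient.mk_surjective N (L ω)
    rw [← hy, ← Submodule.Quotient.mk_smul, hJkill j hj, Submodule.Quotient.mk_zero]
  let g := TensorProduct.lift (((LinearMap.ker (Algebra.linearMap B C)).liftQ _ hL).comp
    ((Algebra.linearMap B C).quotKerEquivOfSurjective hBC).symm.toLinearMap)
  have hg : ∀ ω, g ((1 : C) ⊗ₜ[B] ω) = L ω := fun ω => by
    have h1 : ((Algebra.linearMap B C).quotKerEquivOfSurjective hBC).symm (1 : C) = Submodule.Quotient.mk 1 :=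
      ((Algebra.linearMap B C).quotKerEquivOfSurjective hBC).symm_apply_eq.2 (map_one (algebraMap B C)).symm
    show (((LinearMap.ker (Algebra.linearMap B C)).liftQ _ hL) (((Algebra.linearMap B C).quotKerEquivOfSurjective hBC).symm (1 : C))) ω = L ω
    rw [h1]
    exact LinearMap.congr_fun (one_smul B L) ω
  intro y
  obtain ⟨⟨x, hx⟩, rfl⟩ := J.toCotangent_surjective y
  constructor
  · intro hy
    rw [KaehlerDifferential.kerCotangentToTensor_toCotangent] at hy
    have h0 := congrArg g hy
    rw [hg, map_zero, Derivation.liftKaehlerDifferential_comp_D] at h0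
    have h1 : q ⟨x, hx⟩ = 0 := by
      rw [← show (⟨x - algebraMap A B 0, by simpa using hx⟩ : J) = ⟨x, hx⟩ from Subtype.ext (by simp)]
      exact (hq x 0 (by simpa using hx)).trans h0
    have h2 : J.toCotangent ⟨x, hx⟩ ∈ N := (Submodule.Quotient.mk_eq_zero N).1 h1
    refine Submodule.span_induction (p := fun z _ => z ∈ Set.range mc) (fun z hz => hz) ⟨0, map_zero mc⟩
      (fun u v _ _ ⟨a, ha⟩ ⟨b, hb⟩ => ⟨a + b, by rw [map_add, ha, hb]⟩) (fun b u _ ⟨a, ha⟩ => ⟨s b • a, ?_⟩) h2
    rw [map_smul, ha, ← algebraMap_smul B (s b) u]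
    have := hJkill _ (hs b) u
    rw [sub_smul, sub_eq_zero] at this
    exact this.symm
  · rintro ⟨z, hz⟩
    obtain ⟨⟨a, ha⟩, rfl⟩ := (RingHom.ker (algebraMap A C)).toCotangent_surjective z
    rw [← hz, Ideal.mapCotangent_toCotangent, KaehlerDifferential.kerCotangentToTensor_toCotangent]
    simp [Algebra.ofId_apply]

end Groth.Agent.S9178
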