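import Groth.Statements.S9201
import Groth.Agent.Lead.Lim.Structure
-- import your own Groth.Agent.* helpers here

set_option autoImplicit false
universe u
open CategoryTheory AlgebraicGeometry
open Lim

namespace Groth.Agent.S9201

/-- Let S be a quasi-separated scheme and X = lim X_i a cofiltered limit of S-schemes X_i (a diagram
with a compatible family of structure maps to S) whose transition morphisms are closed immersions,
every X_i quasi-compact, quasi-separated and locally of finite type over S; the structure map X → S
is the composite X → X_{i₀} → S for any index i₀. If X → S is an immersion, then X_i → S is an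
immersion for all i beyond some index i₁. -/
theorem result {I : Type u} [SmallCategory I] [IsCofiltered I] (S : Scheme.{u}) [QuasiSeparatedSpace S]
    (D : I ⥤ Scheme.{u}) (t : D ⟶ (Functor.const I).obj S) (c : Limits.Cone D) (hc : Limits.IsLimit c)
    [∀ (i j : I) (a : i ⟶ j), IsClosedImmersion (D.map a)]
    [∀ i, CompactSpace (D.obj i)] [∀ i, QuasiSeparatedSpace (D.obj i)]
    [∀ i, LocallyOfFiniteType (t.app i)] (i₀ : I)
    [IsImmersion (c.π.app i₀ ≫ t.app i₀)] :
    ∃ i₁ : I, ∀ (i : I) (_ : i ⟶ i₁), IsImmersion (t.app i) := by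
  haveI hD : ∀ {i j : I} (f : i ⟶ j), IsClosedImmersion (D.map f) := fun f => ‹∀ (i j : I) (f : i ⟶ j), IsClosedImmersion (D.map f)› _ _ f
  haveI : ∀ {i j : I} (f : i ⟶ j), IsAffineHom (D.map f) := fun f => inferInstance
  haveI : IsImmersion (c.π.app i₀ ≫ t.app i₀) := inferInstance
  obtain ⟨i₁, φ, h⟩ := Groth.Agent.Lead.Lim.exists_isImmersion_structure (S := S) D c hc (fun f => hD f) i₀ (t.app i₀)
  refine ⟨i₁, fun i f => ?_⟩
  have e₁ : D.map φ ≫ t.app i₀ = t.app i₁ := (t.naturality φ).trans (Category.comp_id _)
  have e : D.map f ≫ t.app i₁ = t.app i := (t.naturality f).trans (Category.comp_id _)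
  rw [e₁] at h
  exact e ▸ inferInstance

end Groth.Agent.S9201
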