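import Groth.Statements.S9210
import Groth.Agent.Lead.DVR.Variants
-- import your own Groth.Agent.* helpers here

set_option autoImplicit false
universe u
open CategoryTheory CategoryTheory.Limits AlgebraicGeometry
open Lim

namespace Groth.Agent.S9210

/-- Let S be a locally Noetherian scheme, f : X → S a morphism locally of finite type and h : U → X a
morphism of finite type whose image is dense in X. Suppose that for every discrete valuation ring A
with fraction field K and every commutative square formed by a morphism Spec K → U → X and a
morphism Spec A → S, there is at most one morphism Spec A → X making the resulting diagram commute.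
Then f is separated. -/
theorem result {X S U : Scheme.{u}} [IsLocallyNoetherian S] (f : X ⟶ S)
    [LocallyOfFiniteType f] (h : U ⟶ X) [LocallyOfFiniteType h] [QuasiCompact h] (hd : DenseRange h.base)
    (H : ∀ (A : Type u) [CommRing A] [IsDomain A] [IsDiscreteValuationRing A]
      (u : Spec (CommRingCat.of (FractionRing A)) ⟶ U) (y : Spec (CommRingCat.of A) ⟶ S),
      u ≫ h ≫ f = Spec.map (CommRingCat.ofHom (algebraMap A (FractionRing A))) ≫ y →
        ∀ l₁ l₂ : Spec (CommRingCat.of A) ⟶ X, l₁ ≫ f = y → Spec.map (CommRingCat.ofHom (algebraMap A (FractionRing A))) ≫ l₁ = u ≫ h →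
          l₂ ≫ f = y → Spec.map (CommRingCat.ofHom (algebraMap A (FractionRing A))) ≫ l₂ = u ≫ h → l₁ = l₂) :
    IsSeparated f := by
  haveI : IsLocallyNoetherian X := LocallyOfFiniteType.isLocallyNoetherian f
  haveI : IsLocallyNoetherian (Limits.pullback f f) :=
    LocallyOfFiniteType.isLocallyNoetherian (Limits.pullback.fst f f ≫ f)
  haveI : QuasiSeparated f := inferInstance
  have := Groth.Agent.Lead.DVR.universallyClosed_of_good (Limits.pullback.diagonal f) fun z => by
    obtain ⟨η, hη, hz⟩ := Groth.Agent.Lead.DVR.exists_generic_specializes z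
    obtain ⟨u, rfl⟩ := Groth.Agent.Lead.DVR.mem_range_of_denseRange h hd η hη
    refine ⟨_, hz, Groth.Agent.Lead.DVR.good_of_lift _ h u fun A _ _ _ u' y w => ?_⟩
    have h1 := congrArg (· ≫ Limits.pullback.fst f f) w
    have h2 := congrArg (· ≫ Limits.pullback.snd f f) w
    simp only [Category.assoc, Limits.pullback.diagonal_fst, Limits.pullback.diagonal_snd, Category.comp_id] at h1 h2
    have e := H A u' (y ≫ Limits.pullback.fst f f ≫ f) (by rw [← Category.assoc, ← Category.assoc, ← Category.assoc]; exact congrArg (· ≫ f) (by simpa [Category.assoc] using h1))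
      (y ≫ Limits.pullback.fst f f) (y ≫ Limits.pullback.snd f f) (Category.assoc _ _ _) h1.symm
      (by rw [Category.assoc, ← Limits.pullback.condition]) h2.symm
    refine ⟨y ≫ Limits.pullback.fst f f, Limits.pullback.hom_ext ?_ ?_, h1.symm⟩
    · simp
    · simpa using e
  exact ⟨.of_isPreimmersion _ (Limits.pullback.diagonal f).isClosedMap.isClosed_range⟩

end Groth.Agent.S9210
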