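import Groth.Statements.S9212
import Groth.Agent.Lead.DVR.Variants
import Groth.Agent.S2335
import Groth.Agent.S9211
-- import your own Groth.Agent.* helpers here

set_option autoImplicit false
universe u
open CategoryTheory CategoryTheory.Limits AlgebraicGeometry
open Lim

namespace Groth.Agent.S9212

/-- Let S be a locally Noetherian scheme and f : X → S a morphism of finite type. Then f is proper if
and only if: for every generic point η of an irreducible component of X, every discrete valuation
ring A contained in the residue field κ(η) with fraction field κ(η) (a valuation subring of κ(η)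
which is a discrete valuation ring), and every morphism Spec A → S whose restriction to Spec κ(η) is
the canonical morphism Spec κ(η) → X followed by f, there is exactly one morphism Spec A → X over S
restricting to the canonical morphism on Spec κ(η). -/
theorem result {X S : Scheme.{u}} [IsLocallyNoetherian S] (f : X ⟶ S)
    [LocallyOfFiniteType f] [QuasiCompact f] :
    IsProper f ↔ ∀ (η : X), closure {η} ∈ irreducibleComponents (X : Type u) →
      ∀ (A : ValuationSubring (X.residueField η)), IsDiscreteValuationRing A →
        ∀ y : Spec (CommRingCat.of A) ⟶ S,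
          Spec.map (CommRingCat.ofHom A.subtype) ≫ y = X.fromSpecResidueField η ≫ f →
          ∃! l : Spec (CommRingCat.of A) ⟶ X,
            l ≫ f = y ∧ Spec.map (CommRingCat.ofHom A.subtype) ≫ l = X.fromSpecResidueField η := by
  constructor
  · intro _ η hη A hA y hy
    haveI := hA
    obtain ⟨l, hl, hl'⟩ := Groth.Agent.Lead.DVR.DvrExist.lift f (Groth.Agent.Lead.DVR.dvrExist_of_universallyClosed f)
      A (X.residueField η) (X.fromSpecResidueField η) y hy.symm
    exact ⟨l, ⟨hl, hl'⟩, fun l' h' => (Groth.Agent.S9211.result f).mp inferInstance η hη A hA l' l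
      (h'.1.trans hl.symm) h'.2 hl'⟩
  · intro h
    haveI : IsSeparated f := (Groth.Agent.S9211.result f).mpr fun η hη A hA l₁ l₂ e e₁ e₂ => by
      obtain ⟨l, -, hu⟩ := h η hη A hA (l₁ ≫ f) (by rw [← Category.assoc]; exact congrArg (· ≫ f) e₁)
      exact (hu l₁ ⟨rfl, e₁⟩).trans (hu l₂ ⟨e.symm, e₂⟩).symm
    haveI : UniversallyClosed f := Groth.Agent.Lead.DVR.universallyClosed_of_good f fun z => by
      obtain ⟨η, hη, hz⟩ := Groth.Agent.Lead.DVR.exists_generic_specializes z
      exact ⟨η, hz, fun A hA y hy => (h η hη A hA y hy).exists⟩
    exact ⟨⟩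

end Groth.Agent.S9212
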