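import Groth.Statements.S9233
import Groth.Agent.HensPair.LocalFacts
import Groth.Agent.HensPair.Noetherian
import Groth.Agent.S2938

set_option autoImplicit false
universe u
open Hensel

namespace Groth.Agent.S9233

/-- The henselization S of a Noetherian local ring R has the same depth as R. -/
theorem result (R S : Type u) [CommRing R] [IsLocalRing R] [IsNoetherianRing R]
    [CommRing S] [IsLocalRing S] [Algebra R S] [IsLocalHom (algebraMap R S)]
    [Hensel.IsHenselization R S] : LocCoh.depth S S = LocCoh.depth R R := by
  have hB := HensPair.Local.isPairHenselization (A := R) (B := S)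
  have := HensPair.LocalFacts.faithfullyFlat (R := R) (S := S)
  have := HensPair.Noetherian.isNoetherianRing hB
  have hdepth : LocCoh.depth S S = LocCoh.depth R R := by
    have h := (Groth.Agent.S2938.result R S (IsLocalRing.maximalIdeal R) R).2 inferInstance
    rw [HensPair.LocalFacts.map_maximalIdeal,
      IdealDepth.congr _ (TensorProduct.AlgebraTensorModule.rid R S S)] at h
    exact h
  exact hdepth

end Groth.Agent.S9233
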