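import Groth.Statements.S9240
import Groth.Agent.HensPair.Local
import Groth.Agent.HensPair.Noetherian
import Mathlib.RingTheory.Ideal.GoingDown
import Mathlib.RingTheory.Spectrum.Prime.RingHom

set_option autoImplicit false
universe u
open Brnch

namespace Groth.Agent.S9240

/-- Let A be a Noetherian local ring, S its henselization and A^ its completion, and let ψ : S → A^ be
the ring map compatible with the structure maps from A (it is unique, A^ being henselian). Then
contraction along ψ sends every minimal prime of A^ to a minimal prime of S, and every minimal prime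
of S arises this way: contraction maps the minimal primes of A^ onto the minimal primes of S. -/
theorem result (A S : Type u) [CommRing A] [IsLocalRing A]
    [IsNoetherianRing A] [CommRing S] [IsLocalRing S] [Algebra A S] [IsLocalHom (algebraMap A S)]
    [Hensel.IsHenselization A S] (ψ : S →+* AdicCompletion (IsLocalRing.maximalIdeal A) A)
    (hψ : ψ.comp (algebraMap A S) = algebraMap A (AdicCompletion (IsLocalRing.maximalIdeal A) A)) :
    Set.MapsTo (Ideal.comap ψ) (minimalPrimes (AdicCompletion (IsLocalRing.maximalIdeal A) A))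
        (minimalPrimes S) ∧
      Set.SurjOn (Ideal.comap ψ) (minimalPrimes (AdicCompletion (IsLocalRing.maximalIdeal A) A))
        (minimalPrimes S) := by
  have hB := HensPair.Local.isPairHenselization (A := A) (B := S)
  let C := AdicCompletion (IsLocalRing.maximalIdeal A) A
  let π : S →ₐ[A] C := ⟨ψ, fun a => RingHom.congr_fun hψ a⟩
  let : Algebra S C := π.toRingHom.toAlgebra
  have := HensPair.Noetherian.faithfullyFlat_completion hB π
  have hmaps : Set.MapsTo (Ideal.comap ψ) (minimalPrimes C) (minimalPrimes S) := by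
    intro Q hQ
    have := hQ.1.1
    refine ⟨⟨Ideal.IsPrime.comap ψ, bot_le⟩, fun P hP hPQ => ?_⟩
    have := hP.1
    have : Q.LiesOver (Q.comap ψ) := ⟨rfl⟩
    obtain ⟨P', hP'Q, hP'p, hP'o⟩ := Ideal.exists_ideal_le_liesOver_of_le (R := S) (p := P) (q := Q.comap ψ) Q hPQ
    have hle : Q ≤ P' := hQ.2 ⟨hP'p, bot_le⟩ hP'Q
    intro x hx
    exact hP'o.over.ge (hle hx)
  refine ⟨hmaps, fun P hP => ?_⟩
  have := hP.1.1
  obtain ⟨Q, hQ⟩ := PrimeSpectrum.comap_surjective_of_faithfullyFlat (A := S) (B := C) ⟨P, ‹_›⟩
  obtain ⟨Q₀, hQ₀, hle⟩ := Ideal.exists_minimalPrimes_le (I := (⊥ : Ideal C)) (J := Q.asIdeal) bot_le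
  refine ⟨Q₀, hQ₀, le_antisymm ?_ ?_⟩
  · exact (Ideal.comap_mono hle).trans (congrArg PrimeSpectrum.asIdeal hQ).le
  · exact hP.2 (hmaps hQ₀).1 ((Ideal.comap_mono hle).trans (congrArg PrimeSpectrum.asIdeal hQ).le)

end Groth.Agent.S9240
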