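import Groth.Statements.S9246
import Groth.Agent.EtaleLocal.Basic
import Groth.Agent.Fpqc.Fppf
import Mathlib.RingTheory.Flat.Localization
import Mathlib.RingTheory.Unramified.LocalRing

set_option autoImplicit false
universe u
open CAlg

namespace Groth.Agent.S9246

/-- Let A → B be an étale ring map and q a prime of B lying over the prime p of A. Then A_p is a regular
local ring if and only if B_q is a regular local ring. -/
theorem result (A B : Type u) [CommRing A] [CommRing B]
    [Algebra A B] [Algebra.Etale A B] (q : Ideal B) [q.IsPrime] :
    IsRegularLocalRing (Localization.AtPrime (Ideal.comap (algebraMap A B) q)) ↔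
      IsRegularLocalRing (Localization.AtPrime q) := by
  let p := q.under A
  haveI : q.LiesOver p := ⟨rfl⟩
  letI := Localization.AtPrime.algebraOfLiesOver p q
  show IsRegularLocalRing (Localization.AtPrime p) ↔ _
  haveI : Module.Flat (Localization.AtPrime p) (Localization.AtPrime q) := by
    rw [Module.flat_iff_of_isLocalization (Localization.AtPrime p) p.primeCompl]
    exact Module.Flat.trans A B _
  haveI : IsLocalHom (algebraMap (Localization.AtPrime p) (Localization.AtPrime q)) := by
    rw [Localization.AtPrime.IsLiesOverAlgebra.algebraMap_eq]
    infer_instance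
  haveI : Module.FaithfullyFlat (Localization.AtPrime p) (Localization.AtPrime q) :=
    Module.FaithfullyFlat.of_flat_of_isLocalHom
  haveI : Algebra.EssFiniteType (Localization.AtPrime p) (Localization.AtPrime q) := .of_comp A _ _
  haveI : Algebra.IsUnramifiedAt A q := inferInstance
  have h : (IsLocalRing.maximalIdeal (Localization.AtPrime p)).map (algebraMap _ (Localization.AtPrime q)) =
      IsLocalRing.maximalIdeal (Localization.AtPrime q) := by
    rw [← Localization.AtPrime.map_eq_maximalIdeal, Ideal.map_map, ← IsScalarTower.algebraMap_eq]
    exact ((Algebra.isUnramifiedAt_iff_map_eq A p q).1 inferInstance).2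
  constructor
  · intro hR
    haveI : IsNoetherianRing (Localization.AtPrime q) :=
      Algebra.EssFiniteType.isNoetherianRing (Localization.AtPrime p) _
    exact (Groth.Agent.EtaleLocal.Basic.isRegularLocalRing_iff h).mp hR
  · intro hS
    haveI : IsNoetherianRing (Localization.AtPrime p) :=
      Groth.Agent.Fpqc.Fppf.isNoetherianRing_of_faithfullyFlat _ (Localization.AtPrime q)
    exact (Groth.Agent.EtaleLocal.Basic.isRegularLocalRing_iff h).mpr hS

end Groth.Agent.S9246
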