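import Groth.Statements.S9260
import Mathlib.RingTheory.Invariant.Basic
import Mathlib.RingTheory.Ideal.Maps
import Mathlib.Algebra.Polynomial.BigOperators
import Mathlib.Algebra.MvPolynomial.Eval

set_option autoImplicit false
universe u
open CAlg

namespace Groth.Agent.S9260

theorem rep {A R : Type*} [CommRing A] [CommRing R] [Algebra A R] (J : Ideal A) (x : R) (hx : x ∈ Ideal.map (algebraMap A R) J) :
    ∃ (m : ℕ) (a : Fin m → J) (r : Fin m → R), x = ∑ j, r j * algebraMap A R (a j) := by
  induction hx using Submodule.span_induction with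
  | mem y hy => obtain ⟨b, hb, rfl⟩ := hy; exact ⟨1, fun _ => ⟨b, hb⟩, fun _ => 1, by simp⟩
  | zero => exact ⟨0, Fin.elim0, Fin.elim0, by simp⟩
  | add u v _ _ hu hv =>
    obtain ⟨l, a, s, rfl⟩ := hu
    obtain ⟨l', a', s', rfl⟩ := hv
    exact ⟨l + l', Fin.append a a', Fin.append s s', by simp [Fin.sum_univ_add]⟩
  | smul c u _ hu =>
    obtain ⟨l, a, s, rfl⟩ := hu
    exact ⟨l, a, fun i => c * s i, by simp [Finset.mul_sum, mul_assoc]⟩


/-- Suppose a finite group G with n elements acts on a ring R by ring automorphisms, A → R is a ring map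
compatible with the action whose image contains the invariants (so that A maps onto R^G), J is an
ideal of A, and x lies in JR. Then ∏_σ (T - σ(x)) is the image of a monic polynomial over A of
degree at most n whose coefficients below degree n all lie in J. (The published statement takes A =
R^G and a polynomial of degree n; this row allows any such A mapping onto R^G and asks degree at
most n, which is the same when A is nonzero.) -/
theorem result (A R G : Type u) [CommRing A]
    [CommRing R] [Algebra A R] [Group G] [Fintype G] [MulSemiringAction G R] [SMulCommClass G A R]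
    [Algebra.IsInvariant A R G] (J : Ideal A) (x : R) (hx : x ∈ Ideal.map (algebraMap A R) J) :
    ∃ P : Polynomial A, P.Monic ∧ P.natDegree ≤ Fintype.card G ∧
      (∀ i : ℕ, i < Fintype.card G → P.coeff i ∈ J) ∧
      Polynomial.map (algebraMap A R) P = ∏ σ : G, (Polynomial.X - Polynomial.C (σ • x)) := by
  classical
  obtain ⟨m, a, r, hxr⟩ := rep J x hx
  let L : G → (MvPolynomial (Fin m) R) := fun σ => ∑ j, MvPolynomial.C (σ • r j) * MvPolynomial.X j
  let F : Polynomial (MvPolynomial (Fin m) R) := ∏ σ : G, (Polynomial.X - Polynomial.C (L σ))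
  let e : (MvPolynomial (Fin m) R) →+* R := MvPolynomial.eval (fun j => algebraMap A R (a j))
  have hFmap : F.map e = ∏ σ : G, (Polynomial.X - Polynomial.C (σ • x)) := by
    simp only [F, Polynomial.map_prod, Polynomial.map_sub, Polynomial.map_X, Polynomial.map_C]
    refine Finset.prod_congr rfl fun σ _ => ?_
    congr 2
    simp only [L, e, map_sum, map_mul, MvPolynomial.eval_C, MvPolynomial.eval_X, hxr, Finset.smul_sum, smul_mul']
    refine Finset.sum_congr rfl fun j _ => ?_
    rw [smul_algebraMap]
  have hmon : F.Monic := Polynomial.monic_prod_of_monic _ _ fun σ _ => Polynomial.monic_X_sub_C _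
  have hdeg : F.natDegree ≤ Fintype.card G := by
    refine (Polynomial.natDegree_prod_le _ _).trans ?_
    exact (Finset.sum_le_sum fun σ _ => Polynomial.natDegree_X_sub_C_le _).trans (by simp)
  have hinv : ∀ (g : G) (i : ℕ) (d : Fin m →₀ ℕ), g • (F.coeff i).coeff d = (F.coeff i).coeff d := fun g i d => by
    let φ : (MvPolynomial (Fin m) R) →+* (MvPolynomial (Fin m) R) := MvPolynomial.map (MulSemiringAction.toRingHom G R g)
    have h : F.map φ = F := by
      simp only [F, Polynomial.map_prod, Polynomial.map_sub, Polynomial.map_X, Polynomial.map_C]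
      refine Fintype.prod_equiv (Equiv.mulLeft g) _ _ fun σ => ?_
      congr 2
      simp [φ, L, mul_smul]
    conv_rhs => rw [← h]
    rw [Polynomial.coeff_map, MvPolynomial.coeff_map]
    rfl
  have hlift : ∀ i, ∃ H : MvPolynomial (Fin m) A, MvPolynomial.map (algebraMap A R) H = F.coeff i ∧ (i < Fintype.card G → H.coeff 0 = 0) := fun i => by
    choose c hc using fun d => Algebra.IsInvariant.isInvariant (A := A) (G := G) ((F.coeff i).coeff d) (fun g => hinv g i d)
    let c' : (Fin m →₀ ℕ) → A := fun d => if (F.coeff i).coeff d = 0 then 0 else c d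
    have hc' : ∀ d, algebraMap A R (c' d) = (F.coeff i).coeff d := fun d => by
      simp only [c']
      split_ifs with h
      · rw [map_zero, h]
      · exact hc d
    refine ⟨∑ d ∈ (F.coeff i).support, MvPolynomial.monomial d (c' d), ?_, fun hi => ?_⟩
    · simp only [map_sum, MvPolynomial.map_monomial, hc']
      exact MvPolynomial.support_sum_monomial_coeff _
    · have h0 : (F.coeff i).coeff 0 = 0 := by
        have : F.map (MvPolynomial.constantCoeff : (MvPolynomial (Fin m) R) →+* R) = Polynomial.X ^ Fintype.card G := by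
          simp [F, L, Polynomial.map_prod, Polynomial.map_sum]
        have h2 := congrArg (Polynomial.coeff · i) this
        simp only [Polynomial.coeff_map, Polynomial.coeff_X_pow, if_neg hi.ne] at h2
        rw [MvPolynomial.constantCoeff_eq] at h2
        exact h2
      rw [MvPolynomial.coeff_sum]
      refine Finset.sum_eq_zero fun d hd => ?_
      rw [MvPolynomial.coeff_monomial, if_neg]
      rintro rfl
      exact MvPolynomial.mem_support_iff.1 hd h0
  choose H hH1 hH2 using hlift
  let ev : MvPolynomial (Fin m) A →+* A := MvPolynomial.eval (fun j => (a j : A))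
  have hev : ∀ i, algebraMap A R (ev (H i)) = e (F.coeff i) := fun i => by
    rw [← hH1 i]
    simp only [ev, e, MvPolynomial.eval_map]
    exact MvPolynomial.eval₂_comp _ _ _
  let N := Fintype.card G
  let P : Polynomial A := Polynomial.X ^ N + ∑ i ∈ Finset.range N, Polynomial.C (ev (H i)) * Polynomial.X ^ i
  have hlow : (∑ i ∈ Finset.range N, Polynomial.C (ev (H i)) * Polynomial.X ^ i).degree < (N : WithBot ℕ) := by
    refine (Polynomial.degree_sum_le _ _).trans_lt ((Finset.sup_lt_iff (WithBot.bot_lt_coe _)).2 fun i hi => ?_)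
    exact (Polynomial.degree_C_mul_X_pow_le i _).trans_lt (by exact_mod_cast Finset.mem_range.1 hi)
  have hPm : P.Monic := Polynomial.monic_X_pow_add hlow
  have hcoef : ∀ i, i < N → P.coeff i = ev (H i) := fun i hi => by
    simp only [P, Polynomial.coeff_add, Polynomial.coeff_X_pow, if_neg hi.ne, zero_add, Polynomial.finsetSum_coeff, Polynomial.coeff_C_mul]
    rw [Finset.sum_eq_single i (fun b _ hb => by rw [if_neg hb.symm, mul_zero]) (fun h => absurd (Finset.mem_range.2 hi) h), if_pos rfl, mul_one]
  have hPd : P.natDegree ≤ N := (Polynomial.natDegree_add_le _ _).trans (max_le (Polynomial.natDegree_X_pow_le N) (Polynomial.natDegree_le_iff_degree_le.2 hlow.le))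
  refine ⟨P, hPm, hPd, fun i hi => ?_, ?_⟩
  · rw [hcoef i hi]
    simp only [ev, MvPolynomial.eval_eq]
    refine J.sum_mem fun d hd => Ideal.mul_mem_left _ _ ?_
    have hd0 : d ≠ 0 := fun h => MvPolynomial.mem_support_iff.1 hd (h ▸ hH2 i hi)
    obtain ⟨j, hj⟩ := Finsupp.support_nonempty_iff.2 hd0
    obtain ⟨q, hq⟩ := Finset.dvd_prod_of_mem (fun i => (a i : A) ^ d i) hj
    rw [hq]
    exact Ideal.mul_mem_right _ _ (Ideal.pow_mem_of_mem _ (a j).2 _ (Nat.pos_of_ne_zero (Finsupp.mem_support_iff.1 hj)))
  · rcases subsingleton_or_nontrivial R with hR | hR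
    · exact Subsingleton.elim _ _
    rw [← hFmap]
    have hFdeg : (F.map e).natDegree = N := by
      rw [hFmap, Polynomial.natDegree_prod_of_monic _ _ (fun σ _ => Polynomial.monic_X_sub_C _)]
      simp [N]
    refine Polynomial.ext fun i => ?_
    rw [Polynomial.coeff_map, Polynomial.coeff_map]
    rcases lt_trichotomy i N with hi | rfl | hi
    · rw [hcoef i hi, hev]
    · have h1 : P.coeff N = 1 := by
        rw [show P = Polynomial.X ^ N + ∑ i ∈ Finset.range N, Polynomial.C (ev (H i)) * Polynomial.X ^ i from rfl, Polynomial.coeff_add, Polynomial.coeff_eq_zero_of_degree_lt hlow, add_zero, Polynomial.coeff_X_pow_self]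
      rw [h1, map_one, ← Polynomial.coeff_map, ← hFdeg]
      exact ((hmon.map e).coeff_natDegree).symm
    · rw [Polynomial.coeff_eq_zero_of_natDegree_lt (hPd.trans_lt hi), Polynomial.coeff_eq_zero_of_natDegree_lt (hdeg.trans_lt hi), map_zero, map_zero]

end Groth.Agent.S9260
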