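import Groth.Statements.S9262
import Groth.Agent.HensPoint.StrictProps
import Groth.Agent.RegularLocal.Basic
import Groth.Agent.HensPair.Noetherian
import Mathlib.RingTheory.DiscreteValuationRing.TFAE

set_option autoImplicit false
universe u
open Hensel

namespace Groth.Agent.S9262

/-- Let R be a Noetherian local ring with henselization S and strict henselization T. Then R is a
discrete valuation ring exactly when S is one, and exactly when T is one. -/
theorem result (R S T : Type u)
    [CommRing R] [IsLocalRing R] [IsNoetherianRing R] [CommRing S] [IsLocalRing S] [Algebra R S]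
    [IsLocalHom (algebraMap R S)] [Hensel.IsHenselization R S] [CommRing T] [IsLocalRing T]
    [Algebra R T] [IsLocalHom (algebraMap R T)] [Hensel.IsStrictHenselization R T] :
    ((∃ _ : IsDomain R, IsDiscreteValuationRing R) ↔ (∃ _ : IsDomain S, IsDiscreteValuationRing S)) ∧
      ((∃ _ : IsDomain R, IsDiscreteValuationRing R) ↔
        (∃ _ : IsDomain T, IsDiscreteValuationRing T)) := by
  have key : ∀ (B : Type u) [CommRing B] [IsLocalRing B] [IsNoetherianRing B],
      (∃ _ : IsDomain B, IsDiscreteValuationRing B) ↔ IsRegularLocalRing B ∧ ringKrullDim B = 1 := by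
    intro B _ _ _
    constructor
    · rintro ⟨_, _⟩
      exact ⟨inferInstance, IsDiscreteValuationRing.ringKrullDim_eq_one B⟩
    · rintro ⟨hreg, hdim⟩
      have : IsDomain B := RegularLocal.Basic.isDomain
      have hnf : ¬ IsField B := fun hf => by
        rw [ringKrullDim_eq_zero_of_isField hf] at hdim
        exact zero_ne_one hdim
      have hspan : (IsLocalRing.maximalIdeal B).spanFinrank = 1 := by
        have := IsRegularLocalRing.spanFinrank_maximalIdeal (R := B)
        rw [hdim] at this
        exact_mod_cast this
      obtain ⟨s, hs, hsm⟩ := Submodule.FG.exists_span_finset_card_eq_spanFinrank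
        (IsNoetherian.noetherian (IsLocalRing.maximalIdeal B))
      rw [hspan, Finset.card_eq_one] at hs
      obtain ⟨a, rfl⟩ := hs
      have hp : (IsLocalRing.maximalIdeal B).IsPrincipal :=
        ⟨⟨a, by rw [← hsm, Finset.coe_singleton]⟩⟩
      exact ⟨this, ((IsDiscreteValuationRing.TFAE B hnf).out 0 4).mpr hp⟩
  have hS := HensPoint.StrictProps.hens (R := R) (S := S)
  have hT := HensPoint.StrictProps.strict (R := R) (S := T)
  have hS' := HensPair.Noetherian.isNoetherianRing (HensPair.Local.isPairHenselization (A := R) (B := S))
  have := HensPoint.StrictProps.isNoetherianRing (R := R) (S := T)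
  have := hS.flat
  have := hT.flat
  have : Module.FaithfullyFlat R S := Module.FaithfullyFlat.of_flat_of_isLocalHom
  have : Module.FaithfullyFlat R T := Module.FaithfullyFlat.of_flat_of_isLocalHom
  have hm : (IsLocalRing.maximalIdeal R).map (algebraMap R S) = IsLocalRing.maximalIdeal S :=
    (HensPair.Local.isLocalRing (HensPair.Local.isPairHenselization (A := R) (B := S))).2 ‹_›
  rw [key R, key S, key T, EtaleLocal.Basic.isRegularLocalRing_iff hm,
    hS.ringKrullDim_eq, hT.ringKrullDim_eq]
  refine ⟨Iff.rfl, ?_⟩
  rw [← EtaleLocal.Basic.isRegularLocalRing_iff hm,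
    EtaleLocal.Basic.isRegularLocalRing_iff (S := T) HensPoint.Strict.map_maximalIdeal]

end Groth.Agent.S9262
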