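import Groth.Statements.S9278
import Groth.Agent.LocalAlg.Determinantal

set_option autoImplicit false
universe u
open CAlgX

namespace Groth.Agent.S9278

/-- Let R be a Noetherian local ring and φ : R^m → R^n a map of finite free modules with matrix M. Then
φ is injective if and only if the rank of M is m and the determinantal ideal I(M) is the unit ideal
or contains a nonzerodivisor. -/
theorem result (R : Type u) [CommRing R]
    [IsLocalRing R] [IsNoetherianRing R] (m n : ℕ) (M : Matrix (Fin n) (Fin m) R) :
    Function.Injective (Matrix.mulVecLin M) ↔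
      CAlgX.matrixRank M = m ∧ (CAlgX.detIdeal M = ⊤ ∨ ∃ a ∈ CAlgX.detIdeal M, IsRegular a) := by
  rw [Groth.Agent.LocalAlg.Determinantal.mulVec_injective_iff_rank]
  refine and_congr_right fun _ => ?_
  constructor
  · intro h
    obtain ⟨a, ha, ha'⟩ := Groth.Agent.LocalAlg.Determinantal.exists_mem_nonZeroDivisors h
    exact Or.inr ⟨a, ha, isRegular_iff_mem_nonZeroDivisors.2 ha'⟩
  · intro h
    refine le_bot_iff.1 fun x hx => ?_
    rw [Submodule.mem_annihilator] at hx
    rw [Ideal.mem_bot]
    rcases h with h | ⟨a, ha, ha'⟩
    · simpa using hx 1 (h ▸ Submodule.mem_top)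
    · exact ha'.right.eq_iff.1 (by simpa using hx a ha)

end Groth.Agent.S9278
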