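import Groth.Statements.S9283
import Mathlib.RingTheory.Finiteness.Ideal
import Mathlib.RingTheory.LocalRing.MaximalIdeal.Basic
import Mathlib.RingTheory.Ideal.Maps

set_option autoImplicit false
universe u
open CAlg

namespace Groth.Agent.S9283

/-- Let R be an auto-associated ring, that is, a local ring whose maximal ideal is weakly associated to
R: some nonzero x ∈ R is killed by a power of every element of the maximal ideal. Then every proper
finitely generated ideal of R has a nonzero annihilator. -/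
theorem result (R : Type u) [CommRing R] [IsLocalRing R]
    (h : ∃ x : R, x ≠ 0 ∧ ∀ f ∈ IsLocalRing.maximalIdeal R, ∃ n : ℕ, f ^ n * x = 0)
    (I : Ideal R) (hI : I.FG) (hI' : I ≠ ⊤) : I.annihilator ≠ ⊥ := by
  classical
  obtain ⟨x, hx, hxn⟩ := h
  obtain ⟨s, rfl⟩ := hI
  have hsm : ∀ f ∈ s, f ∈ IsLocalRing.maximalIdeal R := fun f hf =>
    IsLocalRing.le_maximalIdeal hI' (Ideal.subset_span hf)
  have key : ∀ t : Finset R, t ⊆ s → ∃ y : R, y ≠ 0 ∧ (∃ c, y = c * x) ∧ ∀ f ∈ t, f * y = 0 := by
    intro t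
    induction t using Finset.induction_on with
    | empty => exact fun _ => ⟨x, hx, ⟨1, (one_mul x).symm⟩, by simp⟩
    | insert g t hg ih =>
      intro hts
      obtain ⟨y, hy, ⟨c, rfl⟩, hyt⟩ := ih ((Finset.subset_insert g t).trans hts)
      have hex : ∃ n : ℕ, g ^ n * (c * x) = 0 := by
        obtain ⟨n, hn⟩ := hxn g (hsm g (hts (Finset.mem_insert_self g t)))
        exact ⟨n, by rw [mul_left_comm, hn, mul_zero]⟩
      have h0 : Nat.find hex ≠ 0 := fun h0 => hy (by simpa [h0] using Nat.find_spec hex)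
      refine ⟨g ^ (Nat.find hex - 1) * (c * x), Nat.find_min hex (by omega),
        ⟨g ^ (Nat.find hex - 1) * c, by ring⟩, fun f hf => ?_⟩
      rcases Finset.mem_insert.1 hf with rfl | hf
      · rw [← mul_assoc, ← pow_succ', Nat.sub_add_cancel (Nat.one_le_iff_ne_zero.2 h0)]
        exact Nat.find_spec hex
      · rw [mul_left_comm, hyt f hf, mul_zero]
  obtain ⟨y, hy, -, hys⟩ := key s subset_rfl
  intro hbot
  refine hy ?_
  rw [← Submodule.mem_bot R, ← hbot, Submodule.mem_annihilator_span]
  rintro ⟨f, hf⟩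
  rw [smul_eq_mul, mul_comm]
  exact hys f hf

end Groth.Agent.S9283
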