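import Groth.Statements.S9284
import Groth.Agent.LocalAlg.Determinantal
import Mathlib.Algebra.Module.Projective
import Mathlib.LinearAlgebra.Finsupp.SumProd
import Mathlib.LinearAlgebra.TensorProduct.RightExactness

set_option autoImplicit false
universe u
open CAlgX

namespace Groth.Agent.S9284

open TensorProduct

lemma exists_partial_leftInverse {R : Type u} [CommRing R]
    (hP : ∀ I : Ideal R, I.FG → I ≠ ⊤ → I.annihilator ≠ ⊥) {ι κ : Type u}
    (v : (ι →₀ R) →ₗ[R] (κ →₀ R)) (hv : Function.Injective v) (s : Finset ι) :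
    ∃ w : (κ →₀ R) →ₗ[R] (ι →₀ R), ∀ x : ι →₀ R, (x.support : Set ι) ⊆ s → w (v x) = x := by
  classical
  let e : Fin s.card → ι := fun k => (s.equivFin.symm k : ι)
  have he : Function.Injective e := Subtype.val_injective.comp s.equivFin.symm.injective
  let emb : (Fin s.card → R) →ₗ[R] (ι →₀ R) :=
    (Finsupp.lmapDomain R R e).comp (Finsupp.linearEquivFunOnFinite R R (Fin s.card)).symm.toLinearMap
  have hemb : Function.Injective emb :=
    (Finsupp.mapDomain_injective he).comp (LinearEquiv.injective _)
  let a := v.comp emb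
  let T : Finset κ := Finset.univ.biUnion fun k : Fin s.card => (a (Pi.single k 1)).support
  let f : Fin T.card → κ := fun k => (T.equivFin.symm k : κ)
  let pr : (κ →₀ R) →ₗ[R] (Fin T.card → R) := LinearMap.pi fun i => Finsupp.lapply (f i)
  have ha : Function.Injective (pr.comp a) := by
    rw [← LinearMap.ker_eq_bot, LinearMap.ker_eq_bot']
    intro c hc
    refine (hv.comp hemb) ?_
    show v (emb c) = v (emb 0)
    rw [map_zero, map_zero]
    ext k
    by_cases hk : k ∈ T
    · have := congrFun hc (T.equivFin ⟨k, hk⟩)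
      simpa [pr, f, a] using this
    · show a c k = 0
      rw [show c = ∑ j, c j • Pi.single (M := fun _ => R) j (1 : R) from pi_eq_sum_univ' c, map_sum,
        Finsupp.finset_sum_apply]
      refine Finset.sum_eq_zero fun j _ => ?_
      rw [map_smul, Finsupp.smul_apply, Finsupp.notMem_support_iff.1, smul_zero]
      exact fun h => hk (Finset.mem_biUnion.2 ⟨j, Finset.mem_univ j, h⟩)
  let A := LinearMap.toMatrix' (pr.comp a)
  have hA : A.mulVecLin = pr.comp a := Matrix.toLin'_toMatrix' (pr.comp a)
  have h1 := (Groth.Agent.LocalAlg.Determinantal.mulVec_injective_iff A).1 (hA ▸ ha)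
  have htop : CAlgX.minorIdeal A s.card = ⊤ := by
    by_contra hne
    exact hP _ (Submodule.fg_span (Set.finite_range _)) hne h1
  obtain ⟨B, hB⟩ := Groth.Agent.LocalAlg.Determinantal.exists_mul_eq_smul_one A (htop ▸ Submodule.mem_top : (1 : R) ∈ _)
  refine ⟨emb.comp (B.mulVecLin.comp pr), fun x hx => ?_⟩
  obtain ⟨c, rfl⟩ : ∃ c, emb c = x := by
    refine ⟨fun k => x (e k), ?_⟩
    ext i
    by_cases hi : i ∈ s
    · have : i = e (s.equivFin ⟨i, hi⟩) := by simp [e]
      rw [this]
      simp [emb, Finsupp.mapDomain_apply he]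
    · rw [Finsupp.notMem_support_iff.1 (fun h => hi (hx h))]
      show Finsupp.mapDomain e _ i = 0
      refine Finsupp.mapDomain_notin_range _ _ ?_
      rintro ⟨k, rfl⟩
      exact hi (s.equivFin.symm k).2
  show emb (B.mulVecLin ((pr.comp a) c)) = emb c
  rw [← hA, Matrix.mulVecLin_apply, Matrix.mulVecLin_apply, Matrix.mulVec_mulVec, hB, one_smul,
    Matrix.one_mulVec]

lemma rTensor_injective_of_free {R : Type u} [CommRing R]
    (hP : ∀ I : Ideal R, I.FG → I ≠ ⊤ → I.annihilator ≠ ⊥) {ι κ : Type u}
    (v : (ι →₀ R) →ₗ[R] (κ →₀ R)) (hv : Function.Injective v)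
    (Q : Type u) [AddCommGroup Q] [Module R Q] : Function.Injective (v.rTensor Q) := by
  classical
  intro ta tb hab
  have hsupp : ∀ t : (ι →₀ R) ⊗[R] Q, ∃ s : Finset ι, ∀ s', s ⊆ s' →
      ((Finsupp.supported R R (s' : Set ι)).subtype.comp
        (Finsupp.restrictDom R R (s' : Set ι))).rTensor Q t = t := by
    intro t
    induction t using TensorProduct.induction_on with
    | zero => exact ⟨∅, fun _ _ => map_zero _⟩
    | tmul x q =>
      refine ⟨x.support, fun s' hs => ?_⟩
      rw [LinearMap.rTensor_tmul, LinearMap.comp_apply, Submodule.subtype_apply,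
        Finsupp.restrictDom_apply]
      congr 1
      exact (Finsupp.filter_eq_self_iff _ _).2 fun i hi => hs (Finsupp.mem_support_iff.2 hi)
    | add a b ha hb =>
      obtain ⟨sa, ha⟩ := ha
      obtain ⟨sb, hb⟩ := hb
      exact ⟨sa ∪ sb, fun s' hs => by
        rw [map_add, ha s' (Finset.union_subset_left hs), hb s' (Finset.union_subset_right hs)]⟩
  obtain ⟨sa, hsa⟩ := hsupp ta
  obtain ⟨sb, hsb⟩ := hsupp tb
  obtain ⟨w, hw⟩ := exists_partial_leftInverse hP v hv (sa ∪ sb)
  have h : ∀ t : (ι →₀ R) ⊗[R] Q, ((Finsupp.supported R R ((sa ∪ sb : Finset ι) : Set ι)).subtype.comp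
      (Finsupp.restrictDom R R ((sa ∪ sb : Finset ι) : Set ι))).rTensor Q t = t →
      w.rTensor Q (v.rTensor Q t) = t := by
    intro t ht
    conv_rhs => rw [← ht]
    conv_lhs => rw [← ht, ← LinearMap.rTensor_comp_apply, ← LinearMap.rTensor_comp_apply]
    congr 2
    exact LinearMap.ext fun x => hw _ (Finsupp.restrictDom R R _ x).2
  rw [← h ta (hsa _ Finset.subset_union_left), ← h tb (hsb _ Finset.subset_union_right), hab]

/-- Let R be a ring such that every proper finitely generated ideal of R has a nonzero annihilator, and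
let u : N → M be an R-linear map between projective R-modules. Then u stays injective after
tensoring with every R-module exactly when u is injective. -/
theorem result (R : Type u) [CommRing R]
    (hP : (∀ I : Ideal R, I.FG → I ≠ ⊤ → I.annihilator ≠ ⊥))
    (N M : Type u) [AddCommGroup N] [Module R N] [Module.Projective R N] [AddCommGroup M]
    [Module R M] [Module.Projective R M] (u : N →ₗ[R] M) :
    CAlgX.UniversallyInjective R u ↔ Function.Injective u := by
  constructor
  · intro h
    have h1 := h R
    intro x y hxy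
    exact (TensorProduct.rid R N).symm.injective (h1 (by simp [hxy]))
  · intro hu Q _ _
    obtain ⟨σ, hσ⟩ := Module.projective_def'.1 (inferInstance : Module.Projective R N)
    obtain ⟨j, hj⟩ := Module.projective_def'.1 (inferInstance : Module.Projective R M)
    let p : (N →₀ R) →ₗ[R] N := Finsupp.linearCombination R (id : N → N)
    have hpσ : ∀ y, p (σ y) = y := fun y => LinearMap.congr_fun hσ y
    have hj' : ∀ y, Finsupp.linearCombination R (id : M → M) (j y) = y := fun y => LinearMap.congr_fun hj y
    let G := (Finsupp.sumFinsuppLEquivProdFinsupp R : ((M ⊕ N) →₀ R) ≃ₗ[R] _).symm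
    let v : (N →₀ R) →ₗ[R] ((M ⊕ N) →₀ R) :=
      G.toLinearMap.comp ((j.comp (u.comp p)).prod (LinearMap.id - σ.comp p))
    have hv : Function.Injective v := by
      rw [← LinearMap.ker_eq_bot, LinearMap.ker_eq_bot']
      intro x hx
      have hx' : (j.comp (u.comp p)).prod (LinearMap.id - σ.comp p) x = 0 :=
        G.injective (hx.trans (map_zero G).symm)
      have h1 : j (u (p x)) = 0 := congrArg Prod.fst hx'
      have h2 : x - σ (p x) = 0 := congrArg Prod.snd hx'
      have h3 : p x = 0 := hu (by rw [← hj' (u (p x)), h1, map_zero, map_zero])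
      rwa [h3, map_zero, sub_zero] at h2
    have hvQ := rTensor_injective_of_free hP v hv Q
    have hvσ : v.comp σ = (G.toLinearMap.comp ((LinearMap.inl R _ _).comp j)).comp u := by
      ext y : 1
      simp [v, hpσ]
    clear_value v
    intro a b hab
    have : (v.comp σ).rTensor Q a = (v.comp σ).rTensor Q b := by
      rw [hvσ, LinearMap.rTensor_comp_apply, hab, ← LinearMap.rTensor_comp_apply]
    rw [LinearMap.rTensor_comp_apply, LinearMap.rTensor_comp_apply] at this
    have := congrArg (p.rTensor Q) (hvQ this)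
    rwa [← LinearMap.rTensor_comp_apply, ← LinearMap.rTensor_comp_apply,
      show p.comp σ = LinearMap.id from hσ, LinearMap.rTensor_id, LinearMap.id_apply,
      LinearMap.id_apply] at this

end Groth.Agent.S9284
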