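import Groth.Statements.S9285
import Mathlib.LinearAlgebra.Pi
import Mathlib.RingTheory.Finiteness.Basic
import Mathlib.RingTheory.Ideal.Maps

set_option autoImplicit false
universe u
open CAlg

namespace Groth.Agent.S9285

/-- A ring R has the property that every proper finitely generated ideal has a nonzero annihilator if
and only if every injective linear map R → R^n admits a retraction. -/
theorem result (R : Type u) [CommRing R] :
    (∀ I : Ideal R, I.FG → I ≠ ⊤ → I.annihilator ≠ ⊥) ↔
      ∀ (n : ℕ) (u : R →ₗ[R] (Fin n → R)), Function.Injective u →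
        ∃ v : (Fin n → R) →ₗ[R] R, v.comp u = LinearMap.id := by
  classical
  constructor
  · intro h n u hu
    have htop : Ideal.span (Set.range (u 1)) = ⊤ := by
      by_contra hne
      obtain ⟨a, ha, ha0⟩ := Submodule.exists_mem_ne_zero_of_ne_bot (h _ ⟨Finset.univ.image (u 1), by simp⟩ hne)
      apply ha0
      apply hu
      rw [map_zero, ← mul_one a, ← smul_eq_mul, map_smul]
      ext i
      exact Submodule.mem_annihilator.1 ha (u 1 i) (Ideal.subset_span ⟨i, rfl⟩)
    obtain ⟨c, hc⟩ := (Ideal.mem_span_range_iff_exists_fun).1 (show (1 : R) ∈ Ideal.span (Set.range (u 1)) from htop ▸ trivial)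
    refine ⟨∑ i, c i • LinearMap.proj i, ?_⟩
    ext
    simpa using hc
  · intro h I hI hne hann
    obtain ⟨n, g, hg⟩ := Submodule.fg_iff_exists_fin_generating_family.1 hI
    let u : R →ₗ[R] (Fin n → R) := LinearMap.toSpanSingleton R (Fin n → R) g
    have hu : Function.Injective u := by
      rw [injective_iff_map_eq_zero]
      intro a ha
      rw [← Submodule.mem_bot R (x := a), ← hann, Submodule.mem_annihilator]
      intro y hy
      rw [← hg] at hy
      induction hy using Submodule.span_induction with
      | mem z hz => obtain ⟨i, rfl⟩ := hz; exact congrFun ha i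
      | zero => exact smul_zero a
      | add z w _ _ hz hw => rw [smul_add, hz, hw, add_zero]
      | smul c z _ hz => rw [smul_comm, hz, smul_zero]
    obtain ⟨v, hv⟩ := h n u hu
    apply hne
    rw [Ideal.eq_top_iff_one]
    have h1 : v g = 1 := by simpa [u] using LinearMap.congr_fun hv 1
    rw [← h1, LinearMap.pi_apply_eq_sum_univ v g]
    refine Submodule.sum_mem _ fun i _ => ?_
    rw [smul_eq_mul, ← hg]
    exact Ideal.mul_mem_right _ _ (Submodule.subset_span ⟨i, rfl⟩)

end Groth.Agent.S9285
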