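import Groth.Statements.S9286
import Mathlib.RingTheory.Finiteness.Projective
import Mathlib.LinearAlgebra.Dual.Lemmas
import Mathlib.Algebra.Module.Projective
import Mathlib.RingTheory.Finiteness.Basic
import Mathlib.RingTheory.Finiteness.Prod
import Mathlib.RingTheory.Ideal.Maps
import Mathlib.LinearAlgebra.FreeModule.Finite.Basic

set_option autoImplicit false
universe u
open CAlg

namespace Groth.Agent.S9286

theorem exists_retraction {R : Type u} [CommRing R] (hP : ∀ I : Ideal R, I.FG → I ≠ ⊤ → I.annihilator ≠ ⊥) :
    ∀ (n : ℕ) (M : Type u) [AddCommGroup M] [Module R M] [Module.Finite R M] [Module.Projective R M]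
      (u : (Fin n → R) →ₗ[R] M), Function.Injective u → ∃ r : M →ₗ[R] (Fin n → R), r ∘ₗ u = LinearMap.id := by
  intro n
  induction n with
  | zero => exact fun M _ _ _ _ u _ => ⟨0, LinearMap.ext fun x => Subsingleton.elim _ _⟩
  | succ n ih =>
    intro M _ _ _ _ u hu
    let e₀ : Fin (n + 1) → R := Fin.cons 1 0
    let v := u e₀
    let ev : Module.Dual R M →ₗ[R] R := Module.Dual.eval R M v
    obtain ⟨φ, hφ⟩ : ∃ φ : Module.Dual R M, φ v = 1 := by
      by_contra hne
      have hI : LinearMap.range ev ≠ ⊤ := fun h => hne (by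
        obtain ⟨φ, hφ⟩ := LinearMap.range_eq_top.1 h 1
        exact ⟨φ, hφ⟩)
      refine hP (LinearMap.range ev) ((LinearMap.range_eq_map ev).symm ▸ Module.Finite.fg_top.map ev) hI ?_
      refine (Submodule.eq_bot_iff _).2 fun a ha => ?_
      have h0 : a • v = 0 := by
        refine (Module.forall_dual_apply_eq_zero_iff R (a • v)).1 fun ψ => ?_
        rw [map_smul]
        exact (Submodule.mem_annihilator.1 ha) _ ⟨ψ, rfl⟩
      have h1 : a • e₀ = 0 := hu (by rw [map_smul, map_zero]; exact h0)
      simpa [e₀] using congrFun h1 0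
    let p : M →ₗ[R] LinearMap.ker φ := (LinearMap.id - (LinearMap.toSpanSingleton R M v) ∘ₗ φ).codRestrict _
      fun x => by simp [hφ]
    have hp : p ∘ₗ (LinearMap.ker φ).subtype = LinearMap.id :=
      LinearMap.ext fun x => Subtype.ext (by simp [p, show φ (x : M) = 0 from x.2])
    haveI : Module.Finite R (LinearMap.ker φ) :=
      Module.Finite.of_surjective p fun x => ⟨x, LinearMap.congr_fun hp x⟩
    haveI : Module.Projective R (LinearMap.ker φ) := Module.Projective.of_split _ p hp
    let ι : (Fin n → R) →ₗ[R] (Fin (n + 1) → R) :=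
      { toFun := fun w => Fin.cons 0 w
        map_add' := fun a b => funext fun i => by refine Fin.cases ?_ ?_ i <;> simp
        map_smul' := fun c a => funext fun i => by refine Fin.cases ?_ ?_ i <;> simp }
    let u' : (Fin n → R) →ₗ[R] LinearMap.ker φ := p ∘ₗ u ∘ₗ ι
    have hu' : Function.Injective u' := by
      refine (injective_iff_map_eq_zero u').2 fun w hw => ?_
      have h : u (ι w) - φ (u (ι w)) • v = 0 := by
        simpa [u', p] using congrArg (fun z : LinearMap.ker φ => (z : M)) hw
      rw [← map_smul, ← map_sub] at h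
      have h2 := hu (h.trans (map_zero u).symm)
      funext i
      simpa [ι, e₀] using congrFun h2 i.succ
    obtain ⟨r', hr'⟩ := ih (LinearMap.ker φ) u' hu'
    let r : M →ₗ[R] (Fin (n + 1) → R) :=
      LinearMap.toSpanSingleton R _ e₀ ∘ₗ (φ - φ ∘ₗ u ∘ₗ ι ∘ₗ r' ∘ₗ p) + ι ∘ₗ r' ∘ₗ p
    refine ⟨r, LinearMap.ext fun x => ?_⟩
    obtain ⟨c, w, rfl⟩ : ∃ c w, x = c • e₀ + ι w :=
      ⟨x 0, Fin.tail x, funext fun i => by refine Fin.cases ?_ ?_ i <;> simp [e₀, ι, Fin.tail]⟩
    have hp0 : p v = 0 := Subtype.ext (by simp [p, hφ])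
    have h1 : r' (p (u (c • e₀ + ι w))) = w := by
      rw [map_add, map_smul, map_add, map_smul, show u e₀ = v from rfl, hp0, smul_zero, zero_add]
      exact LinearMap.congr_fun hr' w
    simp only [r, LinearMap.comp_apply, LinearMap.add_apply, LinearMap.sub_apply, LinearMap.toSpanSingleton_apply,
      LinearMap.id_apply, h1]
    rw [map_add, map_smul, map_add, map_smul, show φ (u e₀) = 1 from hφ, smul_eq_mul, mul_one, add_sub_cancel_right]

/-- Let R be a ring in which every proper finitely generated ideal has a nonzero annihilator. Given an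
injective R-linear map u : N → M, where both N and M are finite and projective over R, the quotient
Coker(u) = M/u(N) is again projective as an R-module. -/
theorem result (R : Type u) [CommRing R]
    (hP : (∀ I : Ideal R, I.FG → I ≠ ⊤ → I.annihilator ≠ ⊥))
    (N M : Type u) [AddCommGroup N] [Module R N] [Module.Finite R N] [Module.Projective R N]
    [AddCommGroup M] [Module R M] [Module.Finite R M] [Module.Projective R M]
    (u : N →ₗ[R] M) (hu : Function.Injective u) :
    Module.Projective R (M ⧸ LinearMap.range u) := by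
  obtain ⟨n, f, g, -, -, hfg⟩ := Module.Finite.exists_comp_eq_id_of_projective R N
  let K := LinearMap.ker f
  haveI : Module.Finite R K := Module.Finite.of_surjective (M := Fin n → R)
    ((LinearMap.id - g ∘ₗ f).codRestrict K fun x => by
      simp [K, show ∀ y, f (g y) = y from fun y => LinearMap.congr_fun hfg y])
    fun x => ⟨x, Subtype.ext (by simp [show f (x : Fin n → R) = 0 from x.2])⟩
  haveI : Module.Projective R K := Module.Projective.of_split (M := Fin n → R) K.subtype
    ((LinearMap.id - g ∘ₗ f).codRestrict K fun x => by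
      simp [K, show ∀ y, f (g y) = y from fun y => LinearMap.congr_fun hfg y])
    (LinearMap.ext fun x => Subtype.ext (by simp [show f (x : Fin n → R) = 0 from x.2]))
  let u' : (Fin n → R) →ₗ[R] M × K := (u ∘ₗ f).prod
    ((LinearMap.id - g ∘ₗ f).codRestrict K fun x => by
      simp [K, show ∀ y, f (g y) = y from fun y => LinearMap.congr_fun hfg y])
  have hu' : Function.Injective u' := by
    refine (injective_iff_map_eq_zero u').2 fun x hx => ?_
    have h1 : f x = 0 := hu ((congrArg Prod.fst hx).trans (map_zero u).symm)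
    have h2 : x - g (f x) = 0 := congrArg (fun z => ((Prod.snd z : K) : Fin n → R)) hx
    simpa [h1] using h2
  obtain ⟨r, hr⟩ := exists_retraction hP n (M × K) u' hu'
  have hru : (f ∘ₗ r ∘ₗ LinearMap.inl R M K) ∘ₗ u = LinearMap.id := by
    refine LinearMap.ext fun x => ?_
    have e : u' (g x) = (u x, 0) := Prod.ext
      (by simp [u', show f (g x) = x from LinearMap.congr_fun hfg x])
      (Subtype.ext (by simp [u', show f (g x) = x from LinearMap.congr_fun hfg x]))
    have := LinearMap.congr_fun hr (g x)
    rw [LinearMap.comp_apply, e] at this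
    simp [this, show f (g x) = x from LinearMap.congr_fun hfg x]
  let ρ := f ∘ₗ r ∘ₗ LinearMap.inl R M K
  refine Module.Projective.of_split
    ((LinearMap.range u).liftQ (LinearMap.id - u ∘ₗ ρ) ?_) (LinearMap.range u).mkQ ?_
  · rintro _ ⟨x, rfl⟩
    simp [show ρ (u x) = x from LinearMap.congr_fun hru x]
  · refine Submodule.linearMap_qext _ (LinearMap.ext fun x => ?_)
    simp

end Groth.Agent.S9286
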