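import Groth.Statements.S9291
import Groth.Agent.HensPair.Descend

set_option autoImplicit false
universe u
open EtAlg

namespace Groth.Agent.S9291

/-- Let A be a ring, I an ideal and u a unit of A/I. Then there is an étale ring map A → A' such that
A/I → A'/IA' is an isomorphism, together with a unit of A' mapping to the image of u. -/
theorem result (A : Type u) [CommRing A] (I : Ideal A) (u : (A ⧸ I)ˣ) :
    ∃ (A' : Type u) (_ : CommRing A') (_ : Algebra A A'), Algebra.Etale A A' ∧
      Function.Bijective (Ideal.quotientMap (Ideal.map (algebraMap A A') I) (algebraMap A A')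
        Ideal.le_comap_map) ∧
      ∃ u' : A'ˣ, Ideal.Quotient.mk (Ideal.map (algebraMap A A') I) (u' : A') =
        Ideal.quotientMap (Ideal.map (algebraMap A A') I) (algebraMap A A') Ideal.le_comap_map
          (u : A ⧸ I) := by
  obtain ⟨a, ha⟩ := Ideal.Quotient.mk_surjective (u : A ⧸ I)
  obtain ⟨b, hb⟩ := Ideal.Quotient.mk_surjective (↑u⁻¹ : A ⧸ I)
  have hab : a * b - 1 ∈ I.map (algebraMap A A) := by
    rw [Algebra.algebraMap_self, Ideal.map_id, ← Ideal.Quotient.eq, map_mul, ha, hb, map_one, Units.mul_inv]
  have hA' := (HensPair.Descend.nbhd_self (I := I)).away hab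
  have hu : IsUnit (algebraMap A (Localization.Away (a * b)) a) :=
    isUnit_of_dvd_unit (map_dvd _ (dvd_mul_right a b)) (IsLocalization.Away.algebraMap_isUnit (a * b))
  refine ⟨Localization.Away (a * b), inferInstance, inferInstance, hA'.etale, hA'.bijective, hu.unit, ?_⟩
  rw [IsUnit.unit_spec, ← ha]
  rfl

end Groth.Agent.S9291
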