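import Groth.Statements.S9300
import Mathlib.RingTheory.Spectrum.Prime.Basic
import Mathlib.RingTheory.Ideal.Maximal

set_option autoImplicit false
universe u
open CAlg

namespace Groth.Agent.S9300

/-- Let A and B be domains and A → B a ring map for which the generic point of Spec(A) has a unique
preimage in Spec(B). Then every nonzero ideal of B has nonzero preimage in A. -/
theorem result (A B : Type u) [CommRing A] [IsDomain A]
    [CommRing B] [IsDomain B] (φ : A →+* B)
    (h : ∃! q : PrimeSpectrum B, Ideal.comap φ q.asIdeal = ⊥) (J : Ideal B) (hJ : J ≠ ⊥) :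
    Ideal.comap φ J ≠ ⊥ := by
  intro hcomap
  let T : Submonoid B := (nonZeroDivisors A).map φ
  have hdisj : Disjoint (J : Set B) T := by
    rw [Set.disjoint_left]
    rintro _ hx ⟨a, ha, rfl⟩
    have : a ∈ Ideal.comap φ J := hx
    rw [hcomap, Submodule.mem_bot] at this
    exact nonZeroDivisors.ne_zero ha this
  obtain ⟨P, hP, hJP, hPT⟩ := Ideal.exists_le_prime_disjoint J T hdisj
  have hPbot : Ideal.comap φ P = ⊥ := by
    rw [eq_bot_iff]
    intro a ha
    by_contra h0
    exact Set.disjoint_left.1 hPT ha ⟨a, mem_nonZeroDivisors_of_ne_zero (by simpa using h0), rfl⟩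
  obtain ⟨q, hq, huniq⟩ := h
  have h0 : Ideal.comap φ (⊥ : Ideal B) = ⊥ := le_bot_iff.1 ((Ideal.comap_mono bot_le).trans hPbot.le)
  have e := (huniq ⟨P, hP⟩ hPbot).trans (huniq ⟨⊥, Ideal.isPrime_bot⟩ h0).symm
  exact hJ (le_bot_iff.1 (hJP.trans (congrArg PrimeSpectrum.asIdeal e).le))

end Groth.Agent.S9300
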