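import Groth.Statements.S9301
import Mathlib.RingTheory.QuasiFinite.Basic
import Mathlib.RingTheory.Flat.TorsionFree
import Mathlib.RingTheory.Localization.Integral
import Mathlib.RingTheory.Ideal.GoingUp

set_option autoImplicit false
universe u
open CAlg

namespace Groth.Agent.S9301

open scoped TensorProduct

/-- Let A and B be domains and A → B a flat ring map which is the localization of a quasi-finite ring
map A → B₀ (of finite type with finite fibres). Then every nonzero ideal of B has nonzero preimage
in A. -/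
theorem result (A B₀ B : Type u) [CommRing A] [IsDomain A]
    [CommRing B₀] [CommRing B] [IsDomain B] [Algebra A B₀] [Algebra.FiniteType A B₀]
    [Algebra.QuasiFinite A B₀] (S : Submonoid B₀) [Algebra B₀ B] [IsLocalization S B] [Algebra A B]
    [IsScalarTower A B₀ B] [Module.Flat A B] (J : Ideal B) (hJ : J ≠ ⊥) :
    Ideal.comap (algebraMap A B) J ≠ ⊥ := by
  obtain ⟨b, hbJ, hb⟩ := Submodule.exists_mem_ne_zero_of_ne_bot hJ
  obtain ⟨⟨b₀, s⟩, hbs⟩ := IsLocalization.surj S b
  have hb₀J : algebraMap B₀ B b₀ ∈ J := hbs ▸ J.mul_mem_right _ hbJ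
  have hb₀ : algebraMap B₀ B b₀ ≠ 0 := by
    rw [← hbs]
    exact mul_ne_zero hb (IsLocalization.map_units B s).ne_zero
  refine Ideal.comap_ne_bot_of_algebraic_mem hb₀ hb₀J ?_
  have hinj : Function.Injective (algebraMap A B) := (injective_iff_map_eq_zero _).2 fun a ha => by
    by_contra hne
    have h := Module.Flat.isSMulRegular_of_nonZeroDivisors (M := B) (mem_nonZeroDivisors_of_ne_zero hne)
    exact one_ne_zero (h (show a • (1 : B) = a • (0 : B) by rw [smul_zero, Algebra.smul_def, ha, zero_mul]))
  let L := FractionRing B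
  let K := FractionRing A
  haveI : FaithfulSMul A L := (faithfulSMul_iff_algebraMap_injective A L).2 (by
    rw [IsScalarTower.algebraMap_eq A B L]
    exact (IsFractionRing.injective B L).comp hinj)
  letI : Algebra K L := FractionRing.liftAlgebra A L
  haveI : Algebra.QuasiFinite K (K ⊗[A] B₀) := inferInstance
  haveI : Module.Finite K (K ⊗[A] B₀) := Algebra.QuasiFinite.iff_of_isArtinianRing.1 inferInstance
  let ψ : K ⊗[A] B₀ →ₐ[K] L :=
    Algebra.TensorProduct.lift (Algebra.ofId K L) (IsScalarTower.toAlgHom A B₀ L) fun _ _ => Commute.all _ _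
  have h1 : IsIntegral K (algebraMap B L (algebraMap B₀ B b₀)) := by
    have h := (IsIntegral.of_finite K ((1 : K) ⊗ₜ[A] b₀)).map ψ
    simpa [ψ, ← IsScalarTower.algebraMap_apply B₀ B L] using h
  have h2 : IsAlgebraic A (algebraMap B L (algebraMap B₀ B b₀)) := (IsFractionRing.isAlgebraic_iff A K L).2 h1.isAlgebraic
  exact (isAlgebraic_algebraMap_iff (IsFractionRing.injective B L)).1 h2

end Groth.Agent.S9301
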