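import Groth.Statements.S9302
import Groth.Agent.HensPair.Limits
import Mathlib.CategoryTheory.Limits.Types.Limits
import Mathlib.Algebra.Category.Ring.Limits

set_option autoImplicit false
universe u
open CategoryTheory
open EtAlg

namespace Groth.Agent.S9302

/-- Henselian pairs are preserved under limits: for an inverse system (A_j, I_j) of henselian pairs over
a preordered set J, the limit A = lim A_j with the ideal I = lim I_j (elements all of whose
projections lie in the I_j) is a henselian pair. -/
theorem result (J : Type u) [Preorder J] (F : J ⥤ CommRingCat.{u})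
    (I : ∀ j : J, Ideal (F.obj j))
    (hI : ∀ (i j : J) (φ : i ⟶ j), Ideal.map (F.map φ).hom (I i) ≤ I j)
    (h : ∀ j : J, HenselianRing (F.obj j) (I j)) :
    HenselianRing ((Limits.limit F : CommRingCat.{u}) : Type u)
      (⨅ j : J, Ideal.comap (Limits.limit.π F j).hom (I j)) := by
  have hc := Limits.isLimitOfPreserves (forget CommRingCat.{u}) (Limits.limit.isLimit F)
  refine HensPair.Limits.henselian_of_glue (fun j => (F.obj j : Type u))
    (fun j => (Limits.limit.π F j).hom) (E := Σ i j : J, ULift.{u} (PLift (i ≤ j)))
    (fun e => e.1) (fun e => e.2.1) (fun e => (F.map (homOfLE e.2.2.down.down)).hom) (fun e => ?_) I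
    (fun e => hI _ _ _) h (fun a b hab => ?_) (fun s hs => ?_)
  · rw [← CommRingCat.hom_comp, Limits.limit.w]
  · exact (Limits.Types.isLimitEquivSections hc).injective (Subtype.ext (funext hab))
  · refine ⟨(Limits.Types.isLimitEquivSections hc).symm ⟨s, fun {i j} φ => ?_⟩, fun j => ?_⟩
    · exact hs ⟨i, j, ⟨⟨φ.le⟩⟩⟩
    · exact Limits.Types.isLimitEquivSections_symm_apply hc ⟨s, _⟩ j

end Groth.Agent.S9302
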