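import Groth.Statements.S9303
import Mathlib.RingTheory.Ideal.Operations
import Mathlib.Tactic.Ring

set_option autoImplicit false
universe u
open CAlg

namespace Groth.Agent.S9303


section aux
variable {A : Type u} [CommRing A] (C : Type u) [CommRing C] [Algebra A C]

local notation "Cloc" f => Localization (Algebra.algebraMapSubmonoid C (Submonoid.powers f))

lemma loc_map_eq (B : Type u) [CommRing B] [Algebra A B] (f : A) (a : A) :
    algebraMap (Localization.Away f) (Localization (Algebra.algebraMapSubmonoid B (Submonoid.powers f)))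
        (algebraMap A (Localization.Away f) a)
      = algebraMap B (Localization (Algebra.algebraMapSubmonoid B (Submonoid.powers f))) (algebraMap A B a) := by
  rw [← IsScalarTower.algebraMap_apply, ← IsScalarTower.algebraMap_apply]

/-- Everything we need from the hypothesis at a single `f`, in terms of `A` only. -/
lemma data (f : A) (e : Localization.Away f) (he : IsIdempotentElem e)
    (hloc : IsLocalization.Away e (Localization (Algebra.algebraMapSubmonoid C (Submonoid.powers f)))) :
    ∃ (e0 : A) (M : ℕ), (∃ q, algebraMap A C (f ^ q * (e0 - f ^ M)) = 0) ∧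
      (∀ c : C, ∃ (b0 : A) (k p : ℕ),
        algebraMap A C (f ^ p * b0) = algebraMap A C (f ^ (p + k)) * c) ∧
      (∀ a : A, algebraMap A C a = 0 → ∃ p, f ^ p * (e0 * a) = 0) := by
  let ψ := algebraMap (Localization.Away f) (Localization (Algebra.algebraMapSubmonoid C (Submonoid.powers f)))
  have hψe : ψ e = 1 := by
    have hu : IsUnit (ψ e) := IsLocalization.Away.algebraMap_isUnit e
    exact (IsIdempotentElem.iff_eq_one_of_isUnit hu).mp (he.map ψ)
  obtain ⟨M, e0, hM⟩ : ∃ (M : ℕ) (e0 : A), e * algebraMap A (Localization.Away f) (f ^ M) = algebraMap A (Localization.Away f) e0 := by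
    obtain ⟨⟨e0, ⟨_, M, rfl⟩⟩, h⟩ := IsLocalization.surj (Submonoid.powers f) e
    exact ⟨M, e0, h⟩
  -- equality in `(Localization (Algebra.algebraMapSubmonoid C (Submonoid.powers f)))` of elements of `C`
  have hCeq : ∀ x y : C, algebraMap C (Localization (Algebra.algebraMapSubmonoid C (Submonoid.powers f))) x = algebraMap C (Localization (Algebra.algebraMapSubmonoid C (Submonoid.powers f))) y →
      ∃ p, algebraMap A C (f ^ p) * x = algebraMap A C (f ^ p) * y := by
    intro x y hxy
    obtain ⟨⟨_, _, ⟨p, rfl⟩, rfl⟩, hs⟩ :=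
      (IsLocalization.eq_iff_exists (Algebra.algebraMapSubmonoid C (Submonoid.powers f)) (Localization (Algebra.algebraMapSubmonoid C (Submonoid.powers f)))).mp hxy
    exact ⟨p, hs⟩
  refine ⟨e0, M, ?_, ?_, ?_⟩
  · have h1 : algebraMap C (Localization (Algebra.algebraMapSubmonoid C (Submonoid.powers f))) (algebraMap A C e0) = algebraMap C (Localization (Algebra.algebraMapSubmonoid C (Submonoid.powers f))) (algebraMap A C (f ^ M)) := by
      rw [← loc_map_eq, ← loc_map_eq, ← hM, map_mul]; exact (congrArg (· * _) hψe).trans (one_mul _)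
    obtain ⟨q, hq⟩ := hCeq _ _ h1
    exact ⟨q, by rw [map_mul, map_sub, mul_sub, sub_eq_zero]; exact hq⟩
  · intro c
    obtain ⟨b, hb⟩ := IsLocalization.Away.algebraMap_surjective_of_isIdempotentElem
      (S := Localization (Algebra.algebraMapSubmonoid C (Submonoid.powers f))) e he (algebraMap C (Localization (Algebra.algebraMapSubmonoid C (Submonoid.powers f))) c)
    obtain ⟨⟨b0, ⟨_, k, rfl⟩⟩, hk⟩ := IsLocalization.surj (Submonoid.powers f) b
    have h1 : algebraMap C (Localization (Algebra.algebraMapSubmonoid C (Submonoid.powers f))) (algebraMap A C b0) = algebraMap C (Localization (Algebra.algebraMapSubmonoid C (Submonoid.powers f))) (algebraMap A C (f ^ k) * c) := by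
      rw [← loc_map_eq, ← hk, map_mul, hb, loc_map_eq, ← map_mul, mul_comm]
    obtain ⟨p, hp⟩ := hCeq _ _ h1
    refine ⟨b0, k, p, ?_⟩
    rw [map_mul, hp, pow_add, map_mul, mul_assoc]
  · intro a ha
    have h1 : ψ (algebraMap A (Localization.Away f) a) = ψ 0 := by
      rw [loc_map_eq, ha, map_zero, map_zero]
    obtain ⟨⟨_, n, rfl⟩, hn⟩ := (IsLocalization.eq_iff_exists (Submonoid.powers e) (Localization (Algebra.algebraMapSubmonoid C (Submonoid.powers f)))).mp h1
    have h2 : e * algebraMap A (Localization.Away f) a = 0 := by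
      rcases n with _ | n
      · simp at hn; simp [hn]
      · simpa [he.pow_succ_eq n] using hn
    have h3 : algebraMap A (Localization.Away f) (e0 * a) = algebraMap A (Localization.Away f) 0 := by
      rw [map_mul, ← hM, map_zero, mul_right_comm, h2, zero_mul]
    obtain ⟨⟨_, p, rfl⟩, hp⟩ := (IsLocalization.eq_iff_exists (Submonoid.powers f) (Localization.Away f)).mp h3
    exact ⟨p, by simpa using hp⟩

end aux

/-- Let A be a ring, I a finitely generated ideal and A → C a ring map such that for every f ∈ I the map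
A_f → C_f is the localization of A_f at an idempotent. Then there is a surjection A → C' (C' = A/K
for an ideal K) such that A_f → (C × C')_f is an isomorphism for every f ∈ I. -/
theorem result (A : Type u) [CommRing A]
    (I : Ideal A) (hI : I.FG) (C : Type u) [CommRing C] [Algebra A C]
    (h : ∀ f ∈ I, ∃ e : Localization.Away f, IsIdempotentElem e ∧
      IsLocalization.Away e (Localization (Algebra.algebraMapSubmonoid C (Submonoid.powers f)))) :
    ∃ K : Ideal A, ∀ f ∈ I, Function.Bijective
      (algebraMap (Localization.Away f)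
        (Localization (Algebra.algebraMapSubmonoid (C × (A ⧸ K)) (Submonoid.powers f)))) := by
  classical
  let g := algebraMap A C
  obtain ⟨s, hs⟩ := hI
  have hdata : ∀ f ∈ I, ∃ (e0 : A) (M q : ℕ), g (f ^ q * (e0 - f ^ M)) = 0 ∧
      (∀ c : C, ∃ (b0 : A) (k p : ℕ), g (f ^ p * b0) = g (f ^ (p + k)) * c) ∧
      (∀ a : A, g a = 0 → ∃ p, f ^ p * (e0 * a) = 0) := by
    intro f hf
    obtain ⟨e, he, hloc⟩ := h f hf
    obtain ⟨e0, M, ⟨q, hq⟩, h2, h3⟩ := data C f e he hloc
    exact ⟨e0, M, q, hq, h2, h3⟩
  choose! e0 M q hq hlift hann using hdata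
  let d : A → A := fun f => f ^ q f * (f ^ M f - e0 f)
  have hd : ∀ f ∈ I, g (d f) = 0 := fun f hf => by
    have : d f = -(f ^ q f * (e0 f - f ^ M f)) := by simp only [d]; ring
    rw [this, map_neg, hq f hf, neg_zero]
  have hsI : ∀ t ∈ s, t ∈ I := fun t ht => hs ▸ Ideal.subset_span ht
  let K : Ideal A :=
    { carrier := {a | ∀ t ∈ s, a * d t = 0}
      add_mem' := fun {a b} ha hb t ht => by rw [add_mul, ha t ht, hb t ht, add_zero]
      zero_mem' := fun t _ => zero_mul _
      smul_mem' := fun c a ha t ht => by rw [smul_eq_mul, mul_assoc, ha t ht, mul_zero] }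
  have hKa : ∀ f ∈ I, ∀ a ∈ K, ∃ N, f ^ N * (a * d f) = 0 := by
    intro f hf a ha
    let Ann : Ideal A :=
      { carrier := {x | x * (a * d f) = 0}
        add_mem' := fun {x y} hx hy => by
          simp only [Set.mem_setOf_eq] at hx hy ⊢; rw [add_mul, hx, hy, add_zero]
        zero_mem' := zero_mul _
        smul_mem' := fun c x hx => by
          simp only [Set.mem_setOf_eq, smul_eq_mul] at hx ⊢; rw [mul_assoc, hx, mul_zero] }
    have hle : I ≤ Ann.radical := by
      rw [← hs, Ideal.span_le]
      intro t ht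
      obtain ⟨p, hp⟩ := hann t (hsI t ht) (d f) (hd f hf)
      refine ⟨p + q t + M t, ?_⟩
      show t ^ (p + q t + M t) * (a * d f) = 0
      have e1 : t ^ (p + q t + M t) * (a * d f)
          = t ^ p * d f * (a * d t) + a * t ^ q t * (t ^ p * (e0 t * d f)) := by
        simp only [d]; ring
      rw [e1, hp, ha t ht, mul_zero, mul_zero, add_zero]
    obtain ⟨N, hN⟩ := hle hf
    exact ⟨N, hN⟩
  have hKb : ∀ f ∈ I, ∃ P, f ^ P * e0 f ∈ K := by
    intro f hf
    have : ∀ t ∈ s, ∃ p, f ^ p * (e0 f * d t) = 0 := fun t ht => hann f hf _ (hd t (hsI t ht))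
    choose! p hp using this
    refine ⟨s.sup p, fun t ht => ?_⟩
    obtain ⟨r, hr⟩ := Nat.exists_eq_add_of_le (Finset.le_sup (f := p) ht)
    calc f ^ s.sup p * e0 f * d t = f ^ r * (f ^ p t * (e0 f * d t)) := by rw [hr, pow_add]; ring
      _ = 0 := by rw [hp t ht, mul_zero]
  refine ⟨K, fun f hf => ?_⟩
  set X := C × (A ⧸ K)
  set Xf := Localization (Algebra.algebraMapSubmonoid X (Submonoid.powers f))
  set φ := algebraMap (Localization.Away f) Xf
  have hφ : ∀ a : A, φ (algebraMap A (Localization.Away f) a) = algebraMap X Xf (algebraMap A X a) :=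
    loc_map_eq X f
  constructor
  · rw [injective_iff_map_eq_zero]
    intro y hy
    obtain ⟨⟨a, s'⟩, hs'⟩ := IsLocalization.surj (Submonoid.powers f) y
    have h0 : algebraMap X Xf (algebraMap A X a) = algebraMap X Xf 0 := by
      rw [← hφ, ← hs', map_mul, hy, zero_mul, map_zero]
    obtain ⟨⟨_, _, ⟨m, rfl⟩, rfl⟩, hm⟩ :=
      (IsLocalization.eq_iff_exists (Algebra.algebraMapSubmonoid X (Submonoid.powers f)) Xf).mp h0
    rw [mul_zero, ← map_mul] at hm
    have hJ : g (f ^ m * a) = 0 := congrArg Prod.fst hm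
    have hK : f ^ m * a ∈ K := Ideal.Quotient.eq_zero_iff_mem.mp (congrArg Prod.snd hm)
    obtain ⟨N, hN⟩ := hKa f hf _ hK
    obtain ⟨p, hp⟩ := hann f hf _ hJ
    have hz : f ^ (N + q f + M f + p + m) * a = 0 := by
      have e1 : f ^ (N + q f + M f + p + m) * a
          = f ^ p * (f ^ N * (f ^ m * a * d f))
            + f ^ (N + q f) * (f ^ p * (e0 f * (f ^ m * a))) := by
        simp only [d]; ring
      rw [e1, hN, hp, mul_zero, mul_zero, add_zero]
    have hu : IsUnit (algebraMap A (Localization.Away f) (f ^ (N + q f + M f + p + m))) :=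
      IsLocalization.map_units _ (⟨_, _, rfl⟩ : Submonoid.powers f)
    have ha0 : algebraMap A (Localization.Away f) a = 0 := by
      apply hu.mul_right_eq_zero.mp
      rw [← map_mul, hz, map_zero]
    rw [ha0] at hs'
    exact (IsLocalization.map_units _ s').mul_left_eq_zero.mp hs'
  · have hunit : ∀ n, IsUnit (φ (algebraMap A (Localization.Away f) (f ^ n))) := fun n =>
      (IsLocalization.map_units _ (⟨_, n, rfl⟩ : Submonoid.powers f)).map φ
    -- the image is a subring containing the inverse of `f`
    have hdiv : ∀ (z : Xf) (n : ℕ) (y : Localization.Away f),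
        φ (algebraMap A (Localization.Away f) (f ^ n)) * z = φ y → z ∈ φ.range := by
      intro z n y hz
      obtain ⟨u, hu⟩ := IsLocalization.map_units (Localization.Away f)
        (⟨_, n, rfl⟩ : Submonoid.powers f)
      refine ⟨↑u⁻¹ * y, (hunit n).mul_left_cancel ?_⟩
      rw [hz, ← map_mul, ← mul_assoc]
      congr 1
      simp only at hu
      rw [← hu, u.mul_inv, one_mul]
    have hfst : ∀ c : C, algebraMap X Xf (c, 0) ∈ φ.range := by
      intro c
      obtain ⟨b0, k, p, hp⟩ := hlift f hf c
      obtain ⟨P, hP⟩ := hKb f hf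
      let r := p + q f + P
      refine hdiv _ (r + M f + k) (algebraMap A _ (f ^ r * (e0 f * b0))) ?_
      rw [hφ, hφ, ← map_mul]
      congr 1
      refine Prod.ext ?_ ?_
      · show g (f ^ (r + M f + k)) * c = g (f ^ r * (e0 f * b0))
        have e1 : f ^ r * (e0 f * b0) = f ^ P * (f ^ q f * (e0 f - f ^ M f)) * (f ^ p * b0)
            + f ^ (P + q f + M f) * (f ^ p * b0) := by
          simp only [r]; ring
        rw [e1, map_add, map_mul, map_mul g (f ^ P), hq f hf, mul_zero, zero_mul, zero_add,
          map_mul, hp]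
        simp only [r, pow_add, map_mul]
        ring
      · show Ideal.Quotient.mk K (f ^ (r + M f + k)) * 0 = Ideal.Quotient.mk K (f ^ r * (e0 f * b0))
        rw [mul_zero, eq_comm, Ideal.Quotient.eq_zero_iff_mem]
        rw [show f ^ r * (e0 f * b0) = f ^ (p + q f) * b0 * (f ^ P * e0 f) by simp only [r]; ring]
        exact Ideal.mul_mem_left _ _ hP
    have hsnd : ∀ a : A, algebraMap X Xf (0, Ideal.Quotient.mk K a) ∈ φ.range := by
      intro a
      obtain ⟨P, hP⟩ := hKb f hf
      let r := q f + P
      refine hdiv _ (r + M f) (algebraMap A _ (f ^ P * a * d f)) ?_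
      rw [hφ, hφ, ← map_mul]
      congr 1
      refine Prod.ext ?_ ?_
      · show g (f ^ (r + M f)) * 0 = g (f ^ P * a * d f)
        rw [mul_zero, map_mul, hd f hf, mul_zero]
      · show Ideal.Quotient.mk K (f ^ (r + M f)) * Ideal.Quotient.mk K a
            = Ideal.Quotient.mk K (f ^ P * a * d f)
        rw [← map_mul, Ideal.Quotient.mk_eq_mk_iff_sub_mem,
          show f ^ (r + M f) * a - f ^ P * a * d f = f ^ q f * a * (f ^ P * e0 f) by
            simp only [r, d]; ring]
        exact Ideal.mul_mem_left _ _ hP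
    intro z
    obtain ⟨⟨x, ⟨_, _, ⟨n, rfl⟩, rfl⟩⟩, hx⟩ :=
      IsLocalization.surj (Algebra.algebraMapSubmonoid X (Submonoid.powers f)) z
    obtain ⟨c, w⟩ := x
    obtain ⟨a, rfl⟩ := Ideal.Quotient.mk_surjective w
    have hsum : algebraMap X Xf (c, Ideal.Quotient.mk K a) ∈ φ.range := by
      have : ((c, Ideal.Quotient.mk K a) : X) = (c, 0) + (0, Ideal.Quotient.mk K a) := by simp
      rw [this, map_add]
      exact add_mem (hfst c) (hsnd a)
    obtain ⟨y, hy⟩ := hsum
    refine hdiv z n y ?_
    rw [hy, hφ, mul_comm]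
    exact hx

end Groth.Agent.S9303
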