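import Groth.Statements.S9305
import Groth.Agent.HensPair.Branches

set_option autoImplicit false
universe u
open CAlg

namespace Groth.Agent.S9305

open TensorProduct in
/-- Let A be a local ring with finitely many minimal primes, A' the integral closure of A_red in its
total ring of fractions and A^sh a strict henselization of A. In the ring A' ⊗_A A^sh, each minimal
prime lies in exactly one maximal ideal and each maximal ideal contains exactly one minimal prime. -/
theorem result {A Ash : Type u} [CommRing A]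
    [IsLocalRing A] (hfin : (minimalPrimes A).Finite) [CommRing Ash] [IsLocalRing Ash] [Algebra A Ash]
    [IsLocalHom (algebraMap A Ash)] [Hensel.IsStrictHenselization A Ash] :
    (∀ q ∈ minimalPrimes ((CAlg2.normRed A) ⊗[A] Ash),
        ∃! m : Ideal ((CAlg2.normRed A) ⊗[A] Ash), m.IsMaximal ∧ q ≤ m) ∧
      (∀ m : Ideal ((CAlg2.normRed A) ⊗[A] Ash), m.IsMaximal →
        ∃! q : Ideal ((CAlg2.normRed A) ⊗[A] Ash), q ∈ minimalPrimes ((CAlg2.normRed A) ⊗[A] Ash) ∧ q ≤ m) := by
  have := Groth.Agent.HensPair.Branches.isIntegral_normRed A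
  have := (inferInstance : Hensel.IsStrictHenselization A Ash).henselian
  have := Groth.Agent.HensPair.Branches.minimalPrimes_red_finite A hfin
  have : IsReduced (CAlg2.red A) := Ideal.isRadical_iff_quotient_reduced _ |>.mp (Ideal.radical_isRadical _)
  obtain ⟨h1, h2⟩ := Groth.Agent.HensPair.Branches.minimal_maximal_facts
    (C := CAlg2.normRed A) (S := Ash) (Groth.Agent.HensPoint.StrictProps.strict (R := A)) fun M hM =>
      Groth.Agent.HensPair.BranchNormal.isDomain_isIntegrallyClosed_localization (CAlg2.red A)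
        (FractionRing (CAlg2.red A)) M
  refine ⟨fun q hq => ?_, fun m hm => ?_⟩
  · obtain ⟨N, hN, hu⟩ := h2 ⟨q, hq⟩
    exact ⟨N.asIdeal, ⟨N.isMaximal, hN⟩, fun m hm => congrArg MaximalSpectrum.asIdeal (hu ⟨m, hm.1⟩ hm.2)⟩
  · obtain ⟨P, hP, hu⟩ := h1 ⟨m, hm⟩
    exact ⟨P.1, ⟨P.2, hP⟩, fun q hq => congrArg Subtype.val (hu ⟨q, hq.1⟩ hq.2)⟩

end Groth.Agent.S9305
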