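import Groth.Statements.S9319
import Groth.Agent.Alg.PBasis.SmoothIff
import Mathlib.RingTheory.Kaehler.JacobiZariski
import Mathlib.FieldTheory.Perfect
import Mathlib.LinearAlgebra.TensorProduct.Tower

set_option autoImplicit false
universe u
open CAlg

namespace Groth.Agent.S9319

open TensorProduct Algebra

theorem perfectField_bot (K : Type u) [Field K] : PerfectField (⊥ : Subfield K) := by
  obtain _ | ⟨p, hp, hK⟩ := CharP.exists' K
  · haveI : CharZero (⊥ : Subfield K) :=
      ⟨fun a b h => Nat.cast_injective (R := K) (by simpa using congrArg Subtype.val h)⟩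
    infer_instance
  haveI : CharP (⊥ : Subfield K) p :=
    RingHom.charP (⊥ : Subfield K).subtype Subtype.val_injective p
  haveI : ExpChar (⊥ : Subfield K) p := .prime hp.out
  haveI : ExpChar K p := .prime hp.out
  have h : (⊥ : Subfield K) ≤ RingHom.eqLocusField (frobenius K p) (RingHom.id K) := bot_le
  haveI : PerfectRing (⊥ : Subfield K) p := PerfectRing.ofSurjective _ p fun x => by
    refine ⟨x, Subtype.ext ?_⟩
    exact h x.2
  exact PerfectRing.toPerfectField _ p

theorem δ_map_natural {R K L M : Type u} [CommRing R] [CommRing K] [CommRing L] [CommRing M] [Algebra R K]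
    [Algebra K L] [Algebra K M] [Algebra L M] [IsScalarTower K L M] [Algebra R L] [Algebra R M] [IsScalarTower R K L] [IsScalarTower R K M] (y : H1Cotangent K L) :
    H1Cotangent.δ R K M (H1Cotangent.map K K L M y) =
      LinearMap.rTensor Ω[K⁄R] (IsScalarTower.toAlgHom K L M).toLinearMap (H1Cotangent.δ R K L y) := by
  let P := Generators.self K L
  let P' := Generators.self K M
  let f : Generators.Hom P P' := Generators.defaultHom P P'
  obtain ⟨x, hx⟩ := y
  obtain ⟨x, rfl⟩ := Extension.Cotangent.mk_surjective x
  let θ := LinearMap.rTensor Ω[K⁄R] (IsScalarTower.toAlgHom K L M).toLinearMap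
  have hsmul : ∀ (l : L) z, θ (l • z) = algebraMap L M l • θ z := by
    intro l z
    induction z using TensorProduct.induction_on with
    | zero => simp
    | tmul a b => simp [θ, TensorProduct.smul_tmul', Algebra.smul_def]
    | add a b ha hb => simp only [smul_add, map_add, ha, hb]
  have key : ∀ z : P.Ring, Generators.H1Cotangent.δAux R P' (f.toAlgHom z) =
      θ (Generators.H1Cotangent.δAux R P z) := by
    intro z
    induction z using MvPolynomial.induction_on with
    | C r => simp [MvPolynomial.algebraMap_eq, Generators.H1Cotangent.δAux_C, θ]
    | add a b ha hb => simp only [map_add, ha, hb]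
    | mul_X a i ha =>
      rw [map_mul, Generators.Hom.toAlgHom_X, Generators.H1Cotangent.δAux_mul, Generators.H1Cotangent.δAux_mul]
      have h0 : f.val i = MvPolynomial.X (algebraMap L M i) := rfl
      rw [h0, Generators.H1Cotangent.δAux_X, Generators.H1Cotangent.δAux_X, smul_zero, smul_zero, zero_add, zero_add, ha]
      rw [← IsScalarTower.algebraMap_smul (R := P'.Ring) M, ← IsScalarTower.algebraMap_smul (R := P.Ring) L, hsmul]
      congr 1
      simp [P, P', Generators.algebraMap_apply]
  change Generators.H1Cotangent.δ P' (Generators.self R K) ⟨_, _⟩ =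
    θ (Generators.H1Cotangent.δ P (Generators.self R K) ⟨_, _⟩)
  simp only [LinearMap.domRestrict_apply, Extension.Cotangent.map_mk]
  rw [Generators.H1Cotangent.δ_eq_δAux, Generators.H1Cotangent.δ_eq_δAux]
  exact key _

theorem injective_map_of_field {K L M : Type u} [Field K] [Field L] [Field M] [Algebra K L] [Algebra L M]
    [Algebra K M] [IsScalarTower K L M] :
    Function.Injective ((H1Cotangent.map K K L M).liftBaseChange M) := by
  let R := (⊥ : Subfield K)
  haveI := perfectField_bot K
  haveI : IsScalarTower R K L := inferInstance
  haveI : IsScalarTower R K M := inferInstance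
  haveI : Algebra.IsGeometricallyReduced R L := Groth.Agent.Alg.PBasis.geometricallyReduced_of_perfectField R L
  haveI : Algebra.FormallySmooth R L := Groth.Agent.Alg.PBasis.formallySmooth_of_geometricallyReduced
  have hδ : Function.Injective (H1Cotangent.δ R K L) := by
    refine (injective_iff_map_eq_zero _).2 fun y hy => ?_
    obtain ⟨z, rfl⟩ := (H1Cotangent.exact_map_δ R K L y).1 hy
    rw [Subsingleton.elim z 0, map_zero]
  let e := TensorProduct.AlgebraTensorModule.cancelBaseChange K L M M Ω[K⁄R]
  have hcomp : ∀ z, H1Cotangent.δ R K M ((H1Cotangent.map K K L M).liftBaseChange M z) =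
      e (LinearMap.baseChange M (H1Cotangent.δ R K L) z) := by
    intro z
    induction z using TensorProduct.induction_on with
    | zero => simp
    | add a b ha hb => simp only [map_add, ha, hb]
    | tmul m y =>
      rw [LinearMap.liftBaseChange_tmul, map_smul, δ_map_natural, LinearMap.baseChange_tmul]
      generalize H1Cotangent.δ R K L y = w
      induction w using TensorProduct.induction_on with
      | zero => simp
      | add a b ha hb => simp only [map_add, TensorProduct.tmul_add, smul_add, ha, hb]
      | tmul a b => simp [e, TensorProduct.smul_tmul', Algebra.smul_def, mul_comm]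
  intro a b h
  have h' := congrArg (H1Cotangent.δ R K M) h
  rw [hcomp, hcomp] at h'
  exact Module.Flat.lTensor_preserves_injective_linearMap (H1Cotangent.δ R K L) hδ (e.injective h')

open TensorProduct in
/-- For a tower of fields `K ⊆ L ⊆ M`, the first map of the Jacobi–Zariski sequence, from `H_1(L_{L/K})
⊗_L M` to `H_1(L_{M/K})`, is injective; here `H_1(L)` denotes the first homology of the naive
cotangent complex and the map is the `M`-linear extension of the functoriality map. (The rest of the
six-term sequence is exact for any three rings, so for fields it is exact with a zero on the left.) -/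
theorem result {K L M : Type u} [Field K] [Field L]
    [Field M] [Algebra K L] [Algebra L M] [Algebra K M] [IsScalarTower K L M] :
    Function.Injective ((Algebra.H1Cotangent.map K K L M).liftBaseChange M) := by
  exact injective_map_of_field

end Groth.Agent.S9319
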