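import Groth.Statements.S9330
import Groth.Agent.HensPair.Limits

set_option autoImplicit false
universe u
open Hensel

namespace Groth.Agent.S9330

/-- Let `(A_i, I_i)` be a directed system of pairs (rings `A_i` with ideals `I_i`, the transition maps
sending `I_i` into `I_j`), with colimit ring `A` and `I ⊆ A` the ideal generated by (equivalently,
the union of) the images of the `I_i`. For each `i` let `B_i` be a henselization of the pair `(A_i,
I_i)`, with the compatible transition maps `B_i → B_j` over `A_i → A_j` (these are the induced ones,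
being unique), and give the colimit of the `B_i` the `A`-algebra structure induced by the maps `A_i
→ B_i`. Then `colim B_i`, with the extension of `I`, is a henselization of the pair `(A, I)`. (The
index set is taken in the universe of the rings; the statement fails for non-filtered colimits.) -/
theorem result {ι : Type u} [Preorder ι] [IsDirectedOrder ι] [Nonempty ι]
    (G : ι → Type u) [∀ i, CommRing (G i)] (f : ∀ i j : ι, i ≤ j → (G i →+* G j))
    [DirectedSystem G (fun i j h => f i j h)] (I : ∀ i, Ideal (G i))
    (hI : ∀ (i j : ι) (h : i ≤ j), (I i).map (f i j h) ≤ I j)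
    (B : ι → Type u) [∀ i, CommRing (B i)] [∀ i, Algebra (G i) (B i)]
    (hB : ∀ i, Hens2.IsPairHenselization (G i) (I i) (B i))
    (g : ∀ i j : ι, i ≤ j → (B i →+* B j)) [DirectedSystem B (fun i j h => g i j h)]
    (hg : ∀ (i j : ι) (h : i ≤ j), (g i j h).comp (algebraMap (G i) (B i)) = (algebraMap (G j) (B j)).comp (f i j h))
    [Algebra (DirectLimit G f) (DirectLimit B g)]
    (halg : ∀ (i : ι) (x : G i), algebraMap (DirectLimit G f) (DirectLimit B g) (DirectLimit.Ring.of G f i x) =
      DirectLimit.Ring.of B g i (algebraMap (G i) (B i) x)) :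
    Hens2.IsPairHenselization (DirectLimit G f) (⨆ i, (I i).map (DirectLimit.Ring.of G f i))
      (DirectLimit B g) := by
  let c := fun i => DirectLimit.Ring.of B g i
  let d := fun i => DirectLimit.Ring.of G f i
  have hsurj : ∀ a : DirectLimit B g, ∃ i x, c i x = a := fun a => by
    obtain ⟨i, x, rfl⟩ := DirectLimit.exists_eq_mk _ a
    exact ⟨i, x, rfl⟩
  have hzero : ∀ i (x : B i), c i x = 0 → ∃ j, ∃ hij : i ≤ j, g i j hij x = 0 := fun i x hx => by
    rw [← map_zero (c i)] at hx
    obtain ⟨j, h1, h2, h⟩ := Quotient.eq.mp hx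
    exact ⟨j, h1, h.trans (map_zero _)⟩
  have hJ : ∀ i j (h : i ≤ j), ((I i).map (algebraMap (G i) (B i))).map (g i j h) ≤
      (I j).map (algebraMap (G j) (B j)) := fun i j h => by
    rw [Ideal.map_map, hg, ← Ideal.map_map]
    exact Ideal.map_mono (hI i j h)
  have hcd : ∀ i, (c i).comp (algebraMap (G i) (B i)) =
      (algebraMap (DirectLimit G f) (DirectLimit B g)).comp (d i) :=
    fun i => RingHom.ext fun x => (halg i x).symm
  have hH := HensPair.Limits.henselian_of_directed B g c (fun i j h x => DirectLimit.Ring.of_f h x)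
    hsurj hzero (fun i => (I i).map (algebraMap (G i) (B i))) hJ (fun i => (hB i).1)
  have hid : (⨆ i, ((I i).map (algebraMap (G i) (B i))).map (c i)) =
      (⨆ i, (I i).map (d i)).map (algebraMap (DirectLimit G f) (DirectLimit B g)) := by
    rw [Ideal.map_iSup]
    exact iSup_congr fun i => by rw [Ideal.map_map, hcd, ← Ideal.map_map]
  refine ⟨hid ▸ hH, fun C _ J φ hC hφ => ?_⟩
  have hle : ∀ i, (I i).map (φ.comp (d i)) ≤ J := fun i => by
    rw [← Ideal.map_map]
    exact (Ideal.map_mono (le_iSup (fun i => (I i).map (d i)) i)).trans hφ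
  choose γ hγ hu using fun i => (hB i).2 C J (φ.comp (d i)) hC (hle i)
  have hcompat : ∀ i j (h : i ≤ j) (x : B i), γ j (g i j h x) = γ i x := fun i j h x => by
    have : (γ j).comp (g i j h) = γ i := hu i _ (show _ = _ by
      rw [RingHom.comp_assoc, hg, ← RingHom.comp_assoc, hγ j, RingHom.comp_assoc]
      exact congrArg φ.comp (RingHom.ext fun y => DirectLimit.Ring.of_f h y))
    exact RingHom.congr_fun this x
  refine ⟨DirectLimit.Ring.lift B g C γ hcompat, ?_, fun g' hg' => ?_⟩
  · refine DirectLimit.Ring.hom_ext _ fun i => RingHom.ext fun x => ?_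
    simp only [RingHom.comp_apply, halg]
    exact RingHom.congr_fun (hγ i) x
  · refine DirectLimit.Ring.hom_ext _ fun i => ?_
    rw [DirectLimit.Ring.lift_comp_of]
    exact hu i _ (show _ = _ by rw [RingHom.comp_assoc, hcd i, ← RingHom.comp_assoc, hg'])

end Groth.Agent.S9330
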