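import Groth.Statements.S9332
import Mathlib
-- import your own Groth.Agent.* helpers here

set_option autoImplicit false
universe u
open QFin

namespace Groth.Agent.S9332

open AlgebraicGeometry CategoryTheory in
/-- Let f : X → S be locally of finite type and x ∈ X. Then x is closed in its fibre X_{f x} if and only
if κ(x) is a finite extension of κ(f x) (via the residue field map of f at x). -/
theorem result {X S : Scheme.{u}} (f : X ⟶ S) [LocallyOfFiniteType f] (x : X) :
    IsClosed ({f.asFiber x} : Set ↑(f.fiber (f.base x))) ↔ (f.residueFieldMap x).hom.Finite := by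
  haveI : LocallyOfFiniteType (f.fiberToSpecResidueField (f.base x)) := MorphismProperty.pullback_snd _ _ ‹_›
  haveI : JacobsonSpace (Spec (S.residueField (f.base x))) := inferInstanceAs (JacobsonSpace (PrimeSpectrum _))
  haveI : JacobsonSpace (f.fiber (f.base x)) := LocallyOfFiniteType.jacobsonSpace (f.fiberToSpecResidueField (f.base x))
  let L : Spec (X.residueField x) ⟶ f.fiber (f.base x) :=
    Limits.pullback.lift (X.fromSpecResidueField x) (Spec.map (f.residueFieldMap x)) (f.SpecMap_residueFieldMap_fromSpecResidueField x).symm
  have hL1 : L ≫ f.fiberι (f.base x) = X.fromSpecResidueField x := Limits.pullback.lift_fst _ _ _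
  have hL2 : L ≫ f.fiberToSpecResidueField (f.base x) = Spec.map (f.residueFieldMap x) := Limits.pullback.lift_snd _ _ _
  have hpt : ∀ p, L p = f.asFiber x := by
    intro p
    apply (f.fiberι (f.base x)).isEmbedding.injective
    rw [f.fiberι_asFiber]
    refine Eq.trans ?_ (X.fromSpecResidueField_apply x p)
    rw [← hL1]; rfl
  haveI : IsPreimmersion (L ≫ f.fiberι (f.base x)) := by rw [hL1]; infer_instance
  haveI : IsPreimmersion L := IsPreimmersion.of_comp L (f.fiberι (f.base x))
  have hfin : (f.residueFieldMap x).hom.Finite ↔ LocallyOfFiniteType (Spec.map (f.residueFieldMap x)) := by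
    rw [← IsFinite.SpecMap_iff]
    exact isFinite_iff_locallyOfFiniteType_of_jacobsonSpace
  rw [hfin]
  constructor
  · intro hc
    have hr : Set.range L = {f.asFiber x} := by
      ext q
      exact ⟨by rintro ⟨p, rfl⟩; exact hpt p, fun hq => ⟨IsLocalRing.closedPoint _, (hpt _).trans hq.symm⟩⟩
    haveI : IsClosedImmersion L := IsClosedImmersion.of_isPreimmersion L (hr ▸ hc)
    rw [← hL2]; infer_instance
  · intro hft
    haveI : LocallyOfFiniteType (L ≫ f.fiberToSpecResidueField (f.base x)) := by rw [hL2]; exact hft
    haveI : LocallyOfFiniteType L := locallyOfFiniteType_of_comp L (f.fiberToSpecResidueField (f.base x))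
    have := L.closePoints_subset_preimage_closedPoints (IsLocalRing.isClosed_singleton_closedPoint (X.residueField x))
    rw [Set.mem_preimage, mem_closedPoints_iff, hpt] at this
    exact this

end Groth.Agent.S9332
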