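import Groth.Statements.S9334
import Mathlib
-- import your own Groth.Agent.* helpers here

set_option autoImplicit false
universe u
open QFin

namespace Groth.Agent.S9334

open AlgebraicGeometry CategoryTheory in
/-- Let f : X → S be locally of finite type, x ∈ X, and write s = f x. The morphism f is quasi-finite at
x exactly when x is a closed point of the fibre X_s and no point x' ≠ x of X_s specializes to x. -/
theorem result {X S : Scheme.{u}} (f : X ⟶ S) [LocallyOfFiniteType f] (x : X) :
    f.QuasiFiniteAt x ↔
      (IsClosed ({f.asFiber x} : Set ↑(f.fiber (f.base x))) ∧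
        ∀ x' : ↑(f.fiber (f.base x)), x' ⤳ f.asFiber x → x' = f.asFiber x) := by
  constructor
  · intro h
    have hc := Scheme.Hom.QuasiFiniteAt.isClopen_singleton_asFiber (f := f) h
    exact ⟨hc.1, fun x' hx' => hx'.mem_open hc.2 rfl⟩
  · rintro ⟨hcl, hgen⟩
    rw [Scheme.Hom.quasiFiniteAt_iff_isOpen_singleton_asFiber]
    haveI : LocallyOfFiniteType (f.fiberToSpecResidueField (f.base x)) := MorphismProperty.pullback_snd _ _ ‹_›
    haveI : IsLocallyNoetherian (f.fiber (f.base x)) := LocallyOfFiniteType.isLocallyNoetherian (f.fiberToSpecResidueField (f.base x))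
    obtain ⟨U, hU, hzU, -⟩ := exists_isAffineOpen_mem_and_subset (X := f.fiber (f.base x)) (x := f.asFiber x) (U := ⊤) trivial
    haveI : IsAffine U.toScheme := hU
    haveI : CompactSpace U.toScheme := inferInstance
    haveI : AlgebraicGeometry.IsNoetherian U.toScheme := {}
    let z : U.toScheme := ⟨f.asFiber x, hzU⟩
    let C : Set U.toScheme := ⋃ s ∈ {s ∈ irreducibleComponents U.toScheme | z ∉ s}, s
    have hC : IsClosed C :=
      (TopologicalSpace.NoetherianSpace.finite_irreducibleComponents.subset fun s hs => hs.1).isClosed_biUnion
        fun s hs => isClosed_of_mem_irreducibleComponents s hs.1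
    have hCz : Cᶜ = {z} := by
      ext w
      constructor
      · intro hw
        have hwmem := mem_irreducibleComponent (x := w)
        have hzmem : z ∈ irreducibleComponent w := by
          by_contra hn
          exact hw (Set.mem_biUnion ⟨irreducibleComponent_mem_irreducibleComponents w, hn⟩ hwmem)
        obtain ⟨g, hg⟩ := QuasiSober.sober isIrreducible_irreducibleComponent (isClosed_irreducibleComponent (x := w))
        have hgz : g ⤳ z := hg.specializes hzmem
        have h1 : g.1 = f.asFiber x := hgen _ (hgz.map (U.ι.continuous))
        have hgz' : g = z := Subtype.ext h1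
        have hgw : g ⤳ w := hg.specializes hwmem
        have hmem : w.1 ∈ closure ({f.asFiber x} : Set (f.fiber (f.base x))) := by
          rw [← h1]; exact specializes_iff_mem_closure.mp (hgw.map U.ι.continuous)
        rw [hcl.closure_eq] at hmem
        exact Subtype.ext hmem
      · rintro rfl hw
        obtain ⟨s, hs, hzs⟩ := Set.mem_iUnion₂.mp hw
        exact hs.2 hzs
    have hopen := U.ι.isOpenEmbedding.isOpenMap _ hC.isOpen_compl
    rw [hCz, Set.image_singleton] at hopen
    exact hopen

end Groth.Agent.S9334
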