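import Groth.Statements.S9335
import Mathlib
-- import your own Groth.Agent.* helpers here

set_option autoImplicit false
universe u
open QFin

namespace Groth.Agent.S9335

open AlgebraicGeometry CategoryTheory in
/-- If f : X → S is of finite type and s ∈ S, then f is quasi-finite at only finitely many points of the
fibre over s. -/
theorem result {X S : Scheme.{u}} (f : X ⟶ S) [LocallyOfFiniteType f] [QuasiCompact f] (s : S) :
    {x : ↑X | f.base x = s ∧ f.QuasiFiniteAt x}.Finite := by
  haveI : LocallyOfFiniteType (f.fiberToSpecResidueField s) := MorphismProperty.pullback_snd _ _ ‹_›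
  haveI : IsLocallyNoetherian (f.fiber s) := LocallyOfFiniteType.isLocallyNoetherian (f.fiberToSpecResidueField s)
  haveI : IsNoetherian (f.fiber s) := {}
  haveI : TopologicalSpace.NoetherianSpace (f.fiber s) := inferInstance
  let D : Set (f.fiber s) := {q | IsOpen ({q} : Set (f.fiber s))}
  have hD : D.Finite := by
    obtain ⟨t, ht⟩ := (TopologicalSpace.NoetherianSpace.isCompact D).elim_finite_subcover
      (fun q : D => ({(q : f.fiber s)} : Set (f.fiber s))) (fun q => q.2)
      (fun q hq => Set.mem_iUnion.mpr ⟨⟨q, hq⟩, rfl⟩)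
    refine (t.finite_toSet.image Subtype.val).subset fun q hq => ?_
    obtain ⟨i, hi, hqi⟩ := Set.mem_iUnion₂.mp (ht hq)
    exact ⟨i, hi, hqi.symm⟩
  refine (hD.image (f.fiberι s)).subset ?_
  rintro x ⟨rfl, hx⟩
  exact ⟨f.asFiber x, Scheme.Hom.quasiFiniteAt_iff_isOpen_singleton_asFiber.mp hx, f.fiberι_asFiber x⟩

end Groth.Agent.S9335
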