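import Groth.Statements.S9339
import Mathlib
import Groth.Agent.FppfDescFT.Scheme
-- import your own Groth.Agent.* helpers here

set_option autoImplicit false
universe u
open FtPts

namespace Groth.Agent.S9339

open AlgebraicGeometry CategoryTheory in
/-- A morphism locally of finite type maps finite type points (points s whose canonical morphism Spec
κ(s) → S is locally of finite type) to finite type points. -/
theorem result {T S : Scheme.{u}} (f : T ⟶ S) [LocallyOfFiniteType f] :
    f.base '' {t : ↑T | LocallyOfFiniteType (T.fromSpecResidueField t)} ⊆
      {s : ↑S | LocallyOfFiniteType (S.fromSpecResidueField s)} := by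
  rintro _ ⟨t, ht, rfl⟩
  have ht' : LocallyOfFiniteType (T.fromSpecResidueField t) := ht
  show LocallyOfFiniteType (S.fromSpecResidueField (f.base t))
  let φ := Spec.map (f.residueFieldMap t)
  have hφ : φ ≫ S.fromSpecResidueField (f.base t) = T.fromSpecResidueField t ≫ f :=
    f.SpecMap_residueFieldMap_fromSpecResidueField t
  haveI hc : LocallyOfFiniteType (φ ≫ S.fromSpecResidueField (f.base t)) := by rw [hφ]; infer_instance
  haveI : LocallyOfFiniteType φ := locallyOfFiniteType_of_comp φ (S.fromSpecResidueField (f.base t))
  haveI : LocallyOfFinitePresentation φ := inferInstance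
  haveI : Flat φ := by
    rw [HasRingHomProperty.Spec_iff (P := @Flat)]
    algebraize [(f.residueFieldMap t).hom]
    exact RingHom.flat_algebraMap_iff.mpr (inferInstance : Module.Flat (S.residueField (f.base t)) (T.residueField t))
  haveI : Surjective φ := ⟨fun s => ⟨IsLocalRing.closedPoint _, Subsingleton.elim _ _⟩⟩
  exact Groth.Agent.FppfDescFT.locallyOfFiniteType φ (S.fromSpecResidueField (f.base t))

end Groth.Agent.S9339
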