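import Groth.Statements.S9340
import Mathlib
import Groth.Agent.S9339
-- import your own Groth.Agent.* helpers here

set_option autoImplicit false
universe u
open FtPts

namespace Groth.Agent.S9340

open AlgebraicGeometry CategoryTheory in
/-- A surjective morphism locally of finite type maps the set of finite type points of the source onto
the set of finite type points of the target. -/
theorem result {T S : Scheme.{u}} (f : T ⟶ S) [LocallyOfFiniteType f] [Surjective f] :
    f.base '' {t : ↑T | LocallyOfFiniteType (T.fromSpecResidueField t)} =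
      {s : ↑S | LocallyOfFiniteType (S.fromSpecResidueField s)} := by
  refine Set.Subset.antisymm (S9339.result f) ?_
  intro s hs
  haveI : LocallyOfFiniteType (S.fromSpecResidueField s) := hs
  haveI : LocallyOfFiniteType (f.fiberι s) := MorphismProperty.pullback_fst _ _ ‹_›
  haveI : LocallyOfFiniteType (f.fiberToSpecResidueField s) := MorphismProperty.pullback_snd _ _ ‹_›
  haveI : JacobsonSpace (Spec (S.residueField s)) := inferInstanceAs (JacobsonSpace (PrimeSpectrum _))
  haveI : JacobsonSpace (f.fiber s) := LocallyOfFiniteType.jacobsonSpace (f.fiberToSpecResidueField s)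
  haveI : Nonempty (f.fiber s) := by
    obtain ⟨x, hx⟩ := f.surjective s
    exact ⟨(f.fiberHomeo s).symm ⟨x, hx⟩⟩
  obtain ⟨z, -, hz⟩ := nonempty_inter_closedPoints (X := f.fiber s) (Z := Set.univ) Set.univ_nonempty isClosed_univ.isLocallyClosed
  haveI := isClosed_singleton_iff_locallyOfFiniteType.mp (mem_closedPoints_iff.mp hz)
  refine ⟨f.fiberι s z, ?_, ?_⟩
  · show LocallyOfFiniteType (T.fromSpecResidueField (f.fiberι s z))
    haveI : IsIso ((f.fiberι s).residueFieldMap z) := by
      rw [ConcreteCategory.isIso_iff_bijective]
      refine ⟨((f.fiberι s).residueFieldMap z).hom.injective, fun b => ?_⟩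
      obtain ⟨c, rfl⟩ := (f.fiber s).residue_surjective z b
      obtain ⟨a, rfl⟩ := (f.fiberι s).stalkMap_surjective z c
      exact ⟨T.residue _ a, congr($(Scheme.residue_residueFieldMap (f := f.fiberι s) z) a)⟩
    rw [← IsIso.inv_hom_id_assoc (Spec.map ((f.fiberι s).residueFieldMap z)) (T.fromSpecResidueField (f.fiberι s z)),
      (f.fiberι s).SpecMap_residueFieldMap_fromSpecResidueField z]
    infer_instance
  · have h2 : f.fiberι s z ∈ f ⁻¹' {s} := f.range_fiberι s ▸ ⟨z, rfl⟩
    exact h2

end Groth.Agent.S9340
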