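import Groth.Statements.S9342
import Mathlib
-- import your own Groth.Agent.* helpers here

set_option autoImplicit false
universe u
open FtPts

namespace Groth.Agent.S9342

open AlgebraicGeometry CategoryTheory in
/-- The finite type points of a scheme S are exactly the points that are closed in some affine open
neighbourhood. -/
theorem result (S : Scheme.{u}) (s : S) :
    LocallyOfFiniteType (S.fromSpecResidueField s) ↔
      ∃ U : S.Opens, IsAffineOpen U ∧ ∃ hs : s ∈ U, IsClosed ({⟨s, hs⟩} : Set ↥U) := by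
  constructor
  · intro hlft
    obtain ⟨U, hU, hsU, -⟩ := exists_isAffineOpen_mem_and_subset (X := S) (x := s) (U := ⊤) trivial
    haveI : IsAffine U.toScheme := hU
    let ψ := IsOpenImmersion.lift U.ι (S.fromSpecResidueField s)
      (by rw [Scheme.range_fromSpecResidueField, Scheme.Opens.range_ι]; simpa using hsU)
    have hψ : ψ ≫ U.ι = S.fromSpecResidueField s := IsOpenImmersion.lift_fac _ _ _
    haveI : LocallyOfFiniteType (ψ ≫ U.ι) := by rw [hψ]; exact hlft
    haveI : LocallyOfFiniteType ψ := locallyOfFiniteType_of_comp ψ U.ι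
    haveI : IsPreimmersion (ψ ≫ U.ι) := by rw [hψ]; infer_instance
    haveI : IsPreimmersion ψ := IsPreimmersion.of_comp ψ U.ι
    obtain ⟨φ, hφ⟩ := Spec.map_surjective (ψ ≫ hU.isoSpec.hom)
    haveI : LocallyOfFiniteType (Spec.map φ) := by rw [hφ]; infer_instance
    haveI : IsPreimmersion (Spec.map φ) := by rw [hφ]; infer_instance
    have hft : φ.hom.FiniteType := (HasRingHomProperty.Spec_iff (P := @LocallyOfFiniteType)).mp ‹_›
    have hsur := ((IsPreimmersion.SpecMap_iff φ).mp ‹_›).2
    have hdiv : ∀ x : S.residueField s, ∃ a b : Γ(S, U), φ.hom b ≠ 0 ∧ φ.hom b * x = φ.hom a := by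
      intro x
      obtain ⟨a, b, c, hc, hb, h⟩ := (RingHom.surjective_localRingHom_iff (⊥ : Ideal (S.residueField s))).mp (hsur ⊥ inferInstance) x
      refine ⟨a, b, fun h0 => hb (by simp [h0]), ?_⟩
      have hc' : c ≠ 0 := fun h0 => hc (by simp [h0])
      rw [mul_assoc] at h
      exact mul_left_cancel₀ hc' h
    algebraize [φ.hom]
    obtain ⟨T, hT⟩ := Algebra.FiniteType.out (R := Γ(S, U)) (A := S.residueField s)
    choose a b hb hab using hdiv
    classical
    let g : Γ(S, U) := ∏ x ∈ T, b x
    have hg : φ.hom g ≠ 0 := by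
      simp only [g, map_prod]; exact Finset.prod_ne_zero_iff.mpr fun x _ => hb x
    have hmem : ∀ x : S.residueField s, ∃ n : ℕ, ∃ c, φ.hom g ^ n * x = φ.hom c := by
      intro x
      have hx : x ∈ Algebra.adjoin Γ(S, U) (T : Set (S.residueField s)) := hT ▸ Algebra.mem_top
      induction hx using Algebra.adjoin_induction with
      | mem y hy =>
        obtain ⟨d, hd⟩ := Finset.dvd_prod_of_mem b hy
        refine ⟨1, d * a y, ?_⟩
        simp only [g, pow_one, hd, map_mul]
        rw [← hab y]; ring
      | algebraMap r => exact ⟨0, r, by simp [RingHom.algebraMap_toAlgebra]⟩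
      | add y z _ _ hy hz =>
        obtain ⟨n, c, hc⟩ := hy; obtain ⟨m, d, hd⟩ := hz
        refine ⟨n + m, g ^ m * c + g ^ n * d, ?_⟩
        rw [map_add, map_mul, map_mul, map_pow, map_pow, ← hc, ← hd]; ring
      | mul y z _ _ hy hz =>
        obtain ⟨n, c, hc⟩ := hy; obtain ⟨m, d, hd⟩ := hz
        refine ⟨n + m, c * d, ?_⟩
        rw [map_mul, ← hc, ← hd]; ring
    let k : Spec (S.residueField s) := IsLocalRing.closedPoint _
    have hk : (Spec.map φ k).asIdeal = RingHom.ker φ.hom := by
      show Ideal.comap φ.hom (IsLocalRing.maximalIdeal (S.residueField s)) = _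
      rw [IsLocalRing.maximalIdeal_eq_bot]; rfl
    have hfs : hU.fromSpec (Spec.map φ k) = s := by
      rw [hφ, IsAffineOpen.fromSpec, ← Scheme.Hom.comp_apply]
      simp [hψ]
    refine ⟨S.basicOpen g, hU.basicOpen g, ?_, ?_⟩
    · rw [← hfs]
      show Spec.map φ k ∈ hU.fromSpec ⁻¹ᵁ S.basicOpen g
      rw [hU.fromSpec_preimage_basicOpen]
      show g ∉ (Spec.map φ k).asIdeal
      rw [hk]; exact hg
    · rw [← closure_subset_iff_isClosed]
      intro y hy
      rw [Topology.IsInducing.subtypeVal.closure_eq_preimage_closure_image, Set.image_singleton] at hy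
      obtain ⟨q, hq⟩ : y.1 ∈ Set.range hU.fromSpec := by rw [hU.range_fromSpec]; exact S.basicOpen_le g y.2
      have hgq : g ∉ q.asIdeal := by
        have h1 : q ∈ hU.fromSpec ⁻¹ᵁ S.basicOpen g := by show hU.fromSpec q ∈ (S.basicOpen g : Set S); rw [hq]; exact y.2
        rw [hU.fromSpec_preimage_basicOpen] at h1; exact h1
      have hsp : Spec.map φ k ⤳ q := by
        rw [← hU.fromSpec.isOpenEmbedding.isInducing.specializes_iff, hfs, hq]
        exact specializes_iff_mem_closure.mpr hy
      have hle := (PrimeSpectrum.le_iff_specializes (Spec.map φ k) q).mpr hsp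
      have heq : q = Spec.map φ k := by
        refine PrimeSpectrum.ext (le_antisymm ?_ hle)
        rw [hk]
        intro z hz
        by_contra hne
        obtain ⟨n, c, hc⟩ := hmem (φ.hom z)⁻¹
        have h2 : g ^ n - c * z ∈ RingHom.ker φ.hom := by
          rw [RingHom.mem_ker, map_sub, map_mul, map_pow, ← hc, mul_assoc, inv_mul_cancel₀ hne, mul_one, sub_self]
        have h3 : g ^ n ∈ q.asIdeal := by
          have h4 : g ^ n - c * z ∈ q.asIdeal := hle (hk ▸ h2)
          simpa using add_mem h4 (q.asIdeal.mul_mem_left c hz)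
        exact hgq (q.2.mem_of_pow_mem n h3)
      apply Subtype.ext
      rw [← hq, heq]
      exact hfs
  · rintro ⟨U, hU, hs, hc⟩
    haveI : IsAffine U.toScheme := hU
    let ψ := IsOpenImmersion.lift U.ι (S.fromSpecResidueField s)
      (by rw [Scheme.range_fromSpecResidueField, Scheme.Opens.range_ι]; simpa using hs)
    have hψ : ψ ≫ U.ι = S.fromSpecResidueField s := IsOpenImmersion.lift_fac _ _ _
    haveI : IsPreimmersion (ψ ≫ U.ι) := by rw [hψ]; infer_instance
    haveI : IsPreimmersion ψ := IsPreimmersion.of_comp ψ U.ι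
    have hr : Set.range ψ = {(⟨s, hs⟩ : U.toScheme)} := by
      have hp : ∀ p, ψ p = (⟨s, hs⟩ : U.toScheme) := fun p => by
        apply U.ι.isOpenEmbedding.injective
        rw [← Scheme.Hom.comp_apply, hψ, Scheme.fromSpecResidueField_apply]; rfl
      ext q
      exact ⟨by rintro ⟨p, rfl⟩; exact hp p, fun hq => ⟨IsLocalRing.closedPoint _, (hp _).trans hq.symm⟩⟩
    haveI : IsClosedImmersion ψ := IsClosedImmersion.of_isPreimmersion ψ (hr ▸ hc)
    rw [← hψ]; infer_instance

end Groth.Agent.S9342
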