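import Groth.Statements.S9343
import Groth.Agent.Topo.QCImage
import Mathlib.AlgebraicGeometry.Morphisms.UniversallyOpen
import Mathlib.AlgebraicGeometry.Morphisms.FinitePresentation
import Mathlib.AlgebraicGeometry.Morphisms.Etale
import Mathlib.AlgebraicGeometry.Morphisms.Flat
import Mathlib.AlgebraicGeometry.Fiber
import Mathlib.AlgebraicGeometry.Noetherian
import Mathlib.AlgebraicGeometry.Stalk
import Mathlib.RingTheory.Spectrum.Prime.Topology
import Mathlib.AlgebraicGeometry.Morphisms.Separated

set_option autoImplicit false
universe u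
open Dom

namespace Groth.Agent.S9343
open Groth.Agent.Topo

open AlgebraicGeometry CategoryTheory in
/-- The base change of a quasi-compact dominant morphism f : X → S along a morphism g : S' → S along
which generalizations lift is dominant. -/
theorem result {X S X' S' : Scheme.{u}} (f : X ⟶ S) [QuasiCompact f] [IsDominant f]
    (g : S' ⟶ S) (g' : X' ⟶ X) (f' : X' ⟶ S') (hsq : IsPullback g' f' f g) (hg : GeneralizingMap g.base) :
    IsDominant f' := by
  refine ⟨fun y => ?_⟩
  obtain ⟨x, hx⟩ := QCImage.exists_specializes_of_mem_closure_range f (f.denseRange (g y))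
  obtain ⟨z, hz, hze⟩ := hg hx
  obtain ⟨p, -, hp⟩ := Scheme.exists_preimage_of_isPullback hsq x z hze.symm
  exact closure_mono (Set.singleton_subset_iff.mpr (show _ ∈ Set.range f' from ⟨p, hp⟩)) hz.mem_closure

end Groth.Agent.S9343
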