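import Groth.Statements.S9345
import Groth.Agent.Topo.QCImage
import Mathlib.AlgebraicGeometry.Morphisms.UniversallyOpen
import Mathlib.AlgebraicGeometry.Morphisms.FinitePresentation
import Mathlib.AlgebraicGeometry.Morphisms.Etale
import Mathlib.AlgebraicGeometry.Morphisms.Flat
import Mathlib.AlgebraicGeometry.Fiber
import Mathlib.AlgebraicGeometry.Noetherian
import Mathlib.AlgebraicGeometry.Stalk
import Mathlib.RingTheory.Spectrum.Prime.Topology
import Mathlib.AlgebraicGeometry.Morphisms.Separated

set_option autoImplicit false
universe u
open Dom

namespace Groth.Agent.S9345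
open Groth.Agent.Topo

open AlgebraicGeometry CategoryTheory in
/-- For a morphism f : X → S whose source has only finitely many irreducible components, the image of f
is dense exactly when it contains the generic point of each irreducible component of S, and then S
too has finitely many. -/
theorem result {X S : Scheme.{u}} (f : X ⟶ S)
    (hX : (irreducibleComponents (↑X : Type u)).Finite) :
    (IsDominant f ↔ ∀ s : ↑S, closure {s} ∈ irreducibleComponents (↑S : Type u) → s ∈ Set.range f.base) ∧
      (IsDominant f → (irreducibleComponents (↑S : Type u)).Finite) := by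
  have hfin : {x : X | closure {x} ∈ irreducibleComponents (X : Type u)}.Finite :=
    (hX.preimage (f := fun x : X => closure {x}) (fun a _ b _ h => (inseparable_iff_closure_eq.mpr h).eq))
  set T : Set S := f.base '' {x : X | closure {x} ∈ irreducibleComponents (X : Type u)}
  have hsub : closure (Set.range f.base) ⊆ ⋃ t ∈ T, closure {t} := by
    refine closure_minimal ?_ ((hfin.image _).isClosed_biUnion fun _ _ => isClosed_closure)
    rintro _ ⟨x, rfl⟩
    obtain ⟨η, hη, hc, -⟩ := QCImage.exists_maximal_specializes x
    exact Set.mem_biUnion ⟨η, hc, rfl⟩ (hη.map f.continuous).mem_closure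
  have key : IsDominant f → ∀ s : S, closure {s} ∈ irreducibleComponents (S : Type u) → s ∈ T := by
    intro h s hs
    rw [QCImage.closure_singleton_mem_irreducibleComponents_iff] at hs
    obtain ⟨t, ht, hst⟩ := Set.mem_iUnion₂.mp (hsub (h.denseRange s))
    rwa [← hs t (specializes_iff_mem_closure.mpr hst)]
  refine ⟨⟨fun h s hs => Set.image_subset_range _ _ (key h s hs), fun h => ⟨fun y => ?_⟩⟩, fun h => ?_⟩
  · obtain ⟨η, hη, hc, -⟩ := QCImage.exists_maximal_specializes y
    exact closure_mono (Set.singleton_subset_iff.mpr (h η hc)) hη.mem_closure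
  · refine ((hfin.image f.base).image (fun s : S => closure {s})).subset fun Z hZ => ?_
    have hg := hZ.1.isGenericPoint_genericPoint (isClosed_of_mem_irreducibleComponents Z hZ)
    exact ⟨_, key h _ (hg.def.symm ▸ hZ), hg.def⟩

end Groth.Agent.S9345
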