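import Groth.Statements.S9348
import Mathlib
-- import your own Groth.Agent.* helpers here

set_option autoImplicit false
universe u
open Dom

namespace Groth.Agent.S9348

open AlgebraicGeometry CategoryTheory in
/-- Let f : X → Y be a morphism and g : Y' → Y open and surjective. If the base change f' : X ×_Y Y' →
Y' of f is quasi-compact, then so is f. -/
theorem result {X Y X' Y' : Scheme.{u}} (f : X ⟶ Y) (g : Y' ⟶ Y) [Surjective g]
    (hg : IsOpenMap g.base) (g' : X' ⟶ X) (f' : X' ⟶ Y') (hsq : IsPullback g' f' f g) [QuasiCompact f'] :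
    QuasiCompact f := by
  refine ⟨fun V hVo hV => ?_⟩
  obtain ⟨t, ht, hVt⟩ : ∃ W : Y'.Opens, IsCompact (W : Set Y') ∧ g.base '' (W : Set Y') = V := by
    obtain ⟨W, hW, hWV⟩ := hg.exists_opens_image_eq_of_prespectralSpace g.continuous
      (by rw [g.surjective.range_eq]; exact Set.subset_univ V) hVo hV
    exact ⟨W, hW, hWV⟩
  have hW := QuasiCompact.isCompact_preimage (f := f') (t : Set Y') t.2 ht
  convert hW.image g'.continuous using 1
  ext x
  constructor
  · intro hx
    obtain ⟨w, hw, hwx⟩ := hVt.symm ▸ (show f x ∈ V from hx)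
    obtain ⟨x', hx1, hx2⟩ := Scheme.Pullback.exists_preimage_pullback x w hwx.symm
    refine ⟨hsq.isoPullback.inv x', ?_, ?_⟩
    · show f' (hsq.isoPullback.inv x') ∈ (t : Set Y')
      rw [← Scheme.Hom.comp_apply, hsq.isoPullback_inv_snd, hx2]; exact hw
    · rw [← Scheme.Hom.comp_apply, hsq.isoPullback_inv_fst, hx1]
  · rintro ⟨x', hx', rfl⟩
    show f (g' x') ∈ V
    rw [← Scheme.Hom.comp_apply, hsq.w, Scheme.Hom.comp_apply, ← hVt]
    exact ⟨_, hx', rfl⟩

end Groth.Agent.S9348
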