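import Groth.Statements.S9350
import Groth.Agent.ModStalk.PullbackBC

set_option autoImplicit false
set_option backward.isDefEq.respectTransparency false
set_option linter.style.haveILetI false
set_option maxHeartbeats 800000
universe u
open FlatMod

namespace Groth.Agent.S9350
open scoped TensorProduct

open AlgebraicGeometry CategoryTheory in
/-- Let h : X → Y be a morphism of S-schemes, q : Y → S, G a quasi-coherent O_Y-module and x ∈ X with h
flat at x. Flatness of G over S at h x is equivalent to flatness of h^*G over S at x. -/
theorem result {X Y S : Scheme.{u}} (h : X ⟶ Y) (q : Y ⟶ S)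
    (G : Y.Modules) (hG : Coh.IsQCoh G) (x : X) (hflat : (h.stalkMap x).hom.Flat) :
    FlatMod.IsFlatOverAt q G (h.base x) ↔ FlatMod.IsFlatOverAt (h ≫ q) ((Scheme.Modules.pullback h).obj G) x := by
  let R := S.presheaf.stalk (q.base (h.base x))
  let A := Y.presheaf.stalk (h.base x)
  let K := X.presheaf.stalk x
  letI : Algebra R A := (q.stalkMap (h.base x)).hom.toAlgebra
  letI : Algebra A K := (h.stalkMap x).hom.toAlgebra
  letI : Algebra R K := ((h ≫ q).stalkMap x).hom.toAlgebra
  haveI : IsScalarTower R A K := IsScalarTower.of_algebraMap_eq fun r =>
    congrArg (fun φ : R ⟶ K => φ.hom r) (Scheme.Hom.stalkMap_comp h q x)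
  letI := FlatMod.moduleStalkOver q G (h.base x)
  haveI : IsScalarTower R A (G.presheaf.stalk (h.base x)) := IsScalarTower.of_algebraMap_smul fun _ _ => rfl
  haveI : Module.Flat A K := hflat
  haveI : IsLocalHom (algebraMap A K) := inferInstanceAs (IsLocalHom (h.stalkMap x).hom)
  haveI : Module.FaithfullyFlat A K := Module.FaithfullyFlat.of_flat_of_isLocalHom
  obtain ⟨e, -⟩ := Groth.Agent.ModStalk.exists_pullStalk_equiv h G x
  letI hmod : Module R (((Scheme.Modules.pullback h).obj G).presheaf.stalk x) :=
    FlatMod.moduleStalkOver (h ≫ q) ((Scheme.Modules.pullback h).obj G) x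
  let F := G.presheaf.stalk (h.base x)
  let e' : ((Scheme.Modules.pullback h).obj G).presheaf.stalk x ≃ₗ[R] (K ⊗[A] F) :=
    { e.toAddEquiv with
      map_smul' := fun r v => by
        refine (map_smul e (((h ≫ q).stalkMap x).hom r) v).trans ?_
        exact IsScalarTower.algebraMap_smul K r (e v) }
  constructor
  · intro hF
    haveI : Module.Flat R F := hF
    haveI : Module.Flat R (K ⊗[A] F) := by
      rw [Module.Flat.iff_lTensor_injective']
      intro I
      let j := TensorProduct.AlgebraTensorModule.lTensor A F (I.subtype : I →ₗ[R] R)
      have hj : Function.Injective j :=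
        Module.Flat.lTensor_preserves_injective_linearMap (M := F) I.subtype (Submodule.injective_subtype I)
      have h1 : Function.Injective (j.lTensor K) :=
        Module.Flat.lTensor_preserves_injective_linearMap (M := K) j hj
      let a₁ := TensorProduct.AlgebraTensorModule.assoc R A A K F I
      let a₂ := TensorProduct.AlgebraTensorModule.assoc R A A K F R
      have h2 : ∀ z, a₂ (I.subtype.lTensor (K ⊗[A] F) z) = j.lTensor K (a₁ z) := by
        intro z
        induction z using TensorProduct.induction_on with
        | zero => simp
        | add a b ha hb => simp only [map_add, ha, hb]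
        | tmul w i =>
          induction w using TensorProduct.induction_on with
          | zero => simp
          | add a b ha hb => simp only [TensorProduct.add_tmul, map_add, ha, hb]
          | tmul k v => rfl
      intro a b hab
      exact a₁.injective (h1 ((h2 a).symm.trans ((congrArg a₂ hab).trans (h2 b))))
    show Module.Flat R (((Scheme.Modules.pullback h).obj G).presheaf.stalk x)
    exact Module.Flat.of_linearEquiv e'
  · intro hF
    haveI : Module.Flat R (((Scheme.Modules.pullback h).obj G).presheaf.stalk x) := hF
    haveI : Module.Flat R (K ⊗[A] F) := Module.Flat.of_linearEquiv e'.symm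
    exact Groth.Agent.ModStalk.flat_of_flat_tensor (R := R) (A := A) (R' := R) (K := K)

end Groth.Agent.S9350
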