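import Groth.Statements.S9356
import Groth.Agent.HensPair.FieldTrdeg

set_option autoImplicit false
universe u
open FibDim

namespace Groth.Agent.S9356

open AlgebraicGeometry CategoryTheory in
/-- Let f : X → S be locally of finite type and x ⤳ x' a nontrivial specialization of points of the
fibre X_s. Then dim_x(X_s) ≤ dim_{x'}(X_s) and dim O_{X_s,x} < dim O_{X_s,x'}. (The assertion on
transcendence degrees of residue fields is a separate statement.) -/
theorem result {X S : Scheme.{u}} (f : X ⟶ S) [LocallyOfFiniteType f] (s : S)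
    (x x' : ↑(f.fiber s)) (hsp : x ⤳ x') (hne : x ≠ x') :
    FlatMor.localDim ↑(f.fiber s) x ≤ FlatMor.localDim ↑(f.fiber s) x' ∧
      ringKrullDim ((f.fiber s).presheaf.stalk x) < ringKrullDim ((f.fiber s).presheaf.stalk x') := by
  open Groth.Agent.HensPair in
  haveI : LocallyOfFiniteType (f.fiberToSpecResidueField s) :=
    MorphismProperty.pullback_snd (P := @LocallyOfFiniteType) _ _ inferInstance
  haveI : Subsingleton ↥(Spec (S.residueField s)) := inferInstanceAs (Subsingleton (PrimeSpectrum (S.residueField s)))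
  refine ⟨le_iInf fun O => Groth.Agent.TopDim.Basic.localDim_le x O.1 (hsp.mem_open O.1.isOpen O.2), ?_⟩
  obtain ⟨k, hk, hd, -⟩ := FieldTrdeg.main (f.fiberToSpecResidueField s) x
  obtain ⟨k', hk', hd', -⟩ := FieldTrdeg.main (f.fiberToSpecResidueField s) x'
  rw [hd, hd']
  have hlt : x' < x := lt_of_le_not_ge hsp fun h => hne (hsp.antisymm h).eq
  have h1 := Order.coheight_strictAnti hlt (by rw [hk]; exact ENat.natCast_lt_top k)
  rw [hk, hk'] at h1
  exact_mod_cast h1

end Groth.Agent.S9356
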