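import Groth.Statements.S9357
import Groth.Agent.HensPair.FibDimComp

set_option autoImplicit false
universe u
open FibDim

namespace Groth.Agent.S9357

open AlgebraicGeometry CategoryTheory in
/-- Suppose both f : X → Y and g : Y → Z are morphisms locally of finite type. When the relative
dimension of f is at most d and that of g is at most e, the composite g ∘ f has relative dimension
at most d + e. Moreover, when f is flat of relative dimension exactly d and g is of relative
dimension exactly e, the composite g ∘ f is of relative dimension exactly d + e (every nonempty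
fibre equidimensional of that dimension). -/
theorem result {X Y Z : Scheme.{u}} (f : X ⟶ Y) (g : Y ⟶ Z) [LocallyOfFiniteType f] [LocallyOfFiniteType g] (d e : ℕ) :
    ((∀ x : ↑X, FlatMor.fibreDimAt f x ≤ d) → (∀ y : ↑Y, FlatMor.fibreDimAt g y ≤ e) →
        ∀ x : ↑X, FlatMor.fibreDimAt (f ≫ g) x ≤ (d + e : ℕ)) ∧
      (Cyc.HasRelDim f d → Cyc.HasRelDim g e → Flat f → Cyc.HasRelDim (f ≫ g) (d + e)) := by
  open Groth.Agent.HensPair in
  refine ⟨fun h1 h2 x => ?_, fun h1 h2 hfl t T hT => ?_⟩
  · refine (FibDimComp.comp f g x).1.trans ?_
    rw [Nat.cast_add]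
    exact add_le_add (h1 x) (h2 _)
  · haveI := hfl
    let c : (f ≫ g).fiber t := hT.1.genericPoint
    have hcT : closure ({c} : Set ↥((f ≫ g).fiber t)) = T :=
      (hT.1.isGenericPoint_genericPoint_closure.def).trans (isClosed_of_mem_irreducibleComponents T hT).closure_eq
    have hmax : ∀ p, p ⤳ c → p = c := fun p hp => by
      have hsub : T ⊆ closure {p} := hcT ▸ closure_minimal (Set.singleton_subset_iff.mpr hp.mem_closure) isClosed_closure
      exact (hp.antisymm (specializes_iff_mem_closure.mpr (hcT.symm ▸ hT.2 isIrreducible_singleton.closure hsub (subset_closure rfl)))).eq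
    rw [← hcT, DimBC.dim_component_eq (f ≫ g) t c hmax]
    let x := (f ≫ g).fiberι t c
    rw [(FibDimComp.comp f g x).2 (Flat.stalkMap f x),
      DimBC.fibreDimAt_of_components f x (h1 _), DimBC.fibreDimAt_of_components g (f x) (h2 _), Nat.cast_add]

end Groth.Agent.S9357
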