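import Groth.Statements.S9359
import Groth.Agent.HensPair.RelDim

set_option autoImplicit false
universe u
open FibDim

namespace Groth.Agent.S9359

open AlgebraicGeometry CategoryTheory in
/-- Let f : X → Y be flat, locally of finite type and of relative dimension d, with X and Y locally
Noetherian. Then dim_x(X) = dim_y(Y) + d for every x ∈ X with image y. -/
theorem result {X Y : Scheme.{u}} [IsLocallyNoetherian X] [IsLocallyNoetherian Y] (f : X ⟶ Y)
    [Flat f] [LocallyOfFiniteType f] (d : ℕ) (hd : Cyc.HasRelDim f d) (x : X) :
    FlatMor.localDim ↑X x = FlatMor.localDim ↑Y (f.base x) + (d : WithBot ℕ∞) := by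
  open Groth.Agent.HensPair in
  refine RelDim.localDim_add f x ⊤ trivial d fun z _ => ?_
  haveI : LocallyOfFiniteType (f.fiberToSpecResidueField (f z)) :=
    MorphismProperty.pullback_snd (P := @LocallyOfFiniteType) _ _ inferInstance
  haveI : IsLocallyNoetherian (f.fiber (f z)) :=
    LocallyOfFiniteType.isLocallyNoetherian (f.fiberToSpecResidueField (f z))
  refine le_antisymm ?_ ?_
  · obtain ⟨c, -, hmax, hdim⟩ := FibreTrdeg.exists_maximal_dim f z
    rw [← Groth.Agent.Equidim.localDim_fiber_eq f (f z) c _ rfl] at hdim
    refine hdim.trans ((Groth.Agent.Equidim.AffineCrit.localDim_le_component f (f z) c hmax).trans (le_of_eq ?_))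
    exact hd (f z) _ (Groth.Agent.Equidim.closure_mem_irreducibleComponents c hmax)
  · obtain ⟨c, hc, hmax⟩ := Groth.Agent.Equidim.AffineCrit.exists_maximal_above (f.asFiber z)
    refine le_trans (le_of_eq ?_) (Groth.Agent.Equidim.AffineCrit.le_localDim f (f z) _
      isIrreducible_singleton.closure isClosed_closure _ hc.mem_closure)
    exact (hd (f z) _ (Groth.Agent.Equidim.closure_mem_irreducibleComponents c hmax)).symm

end Groth.Agent.S9359
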