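import Groth.Statements.S9373
import Groth.Agent.ModStalk.Affine
import Mathlib
-- import your own Groth.Agent.* helpers here

set_option autoImplicit false
set_option backward.isDefEq.respectTransparency false
universe u
open QCohSub

open CategoryTheory CategoryTheory.Limits AlgebraicGeometry
namespace Groth.Agent.S9373

open AlgebraicGeometry CategoryTheory in
/-- The support of a quasi-coherent O_X-module is closed under specialization. -/
theorem result (X : Scheme.{u}) (F : X.Modules) (hF : Coh.IsQCoh F) :
    StableUnderSpecialization (CohB1.support F) := by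
  intro x y hxy hx hy
  haveI : F.IsQuasicoherent := hF
  obtain ⟨U, hU, hyU, -⟩ := exists_isAffineOpen_mem_and_subset (X := X) (U := ⊤) (x := y) trivial
  have hxU : x ∈ U := hxy.mem_open U.2 hyU
  apply hx
  refine subsingleton_of_forall_eq 0 fun m => ?_
  obtain ⟨c, s, hc, hs⟩ := ModStalk.exists_smul_eq_germ F hU x hxU m
  obtain ⟨c', hc', hs'⟩ := ModStalk.exists_smul_eq_zero_of_germ F hU y hyU s (Subsingleton.elim _ _)
  have h1 : X.presheaf.germ U x hxU c' • F.presheaf.germ U x hxU s = 0 := by
    rw [← ModStalk.germ_smul, hs', map_zero]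
  rw [← hs, smul_smul] at h1
  have hu : IsUnit (X.presheaf.germ U x hxU c' * X.presheaf.germ U x hxU c) :=
    ((RingedSpace.mem_basicOpen _ c' x hxU).1 (hxy.mem_open (X.basicOpen c').2 hc')).mul
      ((RingedSpace.mem_basicOpen _ c x hxU).1 hc)
  exact hu.smul_eq_zero.1 h1

end Groth.Agent.S9373
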