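import Groth.Statements.S9375
import Groth.Agent.ModStalk.OmegaExact
import Groth.Agent.ModStalk.OmegaSplit

set_option autoImplicit false
universe u
open OmegaSh

namespace Groth.Agent.S9375

open scoped TensorProduct
open Groth.Agent.ModStalk
open AlgebraicGeometry CategoryTheory Limits

set_option linter.style.haveILetI false

/-- If the composite `A → C` is surjective, a kernel element of `B → C` with vanishing differential comes from
the square of the kernel and the kernel of `A → C`. -/
theorem mem_of_tmul_D_eq_zero {A B C : Type u} [CommRing A] [CommRing B] [CommRing C] [Algebra A B] [Algebra A C]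
    [Algebra B C] [IsScalarTower A B C] (hA : Function.Surjective (algebraMap A C)) (x : B)
    (hx : algebraMap B C x = 0) (h : (1 : C) ⊗ₜ[B] KaehlerDifferential.D A B x = 0) :
    x ∈ RingHom.ker (algebraMap B C) * RingHom.ker (algebraMap B C) ⊔
      (RingHom.ker (algebraMap A C)).map (algebraMap A B) := by
  let I := RingHom.ker (algebraMap B C)
  let J : Ideal B := (RingHom.ker (algebraMap A C)).map (algebraMap A B)
  let N : Ideal B := I * I ⊔ J
  choose lft hlft using hA
  let F : B → B := fun b => b - algebraMap A B (lft (algebraMap B C b))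
  have hF : ∀ b, F b ∈ I := fun b => RingHom.mem_ker.mpr (by
    rw [map_sub, ← IsScalarTower.algebraMap_apply, hlft, sub_self])
  have hmk : ∀ (a : A) (b : B), algebraMap B C b = algebraMap A C a →
      Ideal.Quotient.mk N (F b) = Ideal.Quotient.mk N (b - algebraMap A B a) := fun a b hab => by
    refine (Ideal.Quotient.mk_eq_mk_iff_sub_mem _ _).mpr (Submodule.mem_sup_right ?_)
    rw [show F b - (b - algebraMap A B a) = algebraMap A B (a - lft (algebraMap B C b)) by simp only [F, map_sub]; ring]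
    exact Ideal.mem_map_of_mem _ (RingHom.mem_ker.mpr (by rw [map_sub, hlft, hab, sub_self]))
  let D0 : B →ₗ[A] B ⧸ N :=
    { toFun := fun b => Ideal.Quotient.mk N (F b)
      map_add' := fun b b' => by
        rw [hmk (lft (algebraMap B C b) + lft (algebraMap B C b')) (b + b') (by rw [map_add, map_add, hlft, hlft]),
          ← map_add]
        congr 1
        simp only [F, map_add]; ring
      map_smul' := fun a b => by
        rw [hmk (a * lft (algebraMap B C b)) (a • b) (by
          rw [map_mul, hlft, Algebra.smul_def, map_mul, ← IsScalarTower.algebraMap_apply]),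
          RingHom.id_apply, Algebra.smul_def a (Ideal.Quotient.mk N (F b)), ← Ideal.Quotient.mk_algebraMap, ← map_mul]
        congr 1
        simp only [F, Algebra.smul_def, map_mul]; ring }
  let D : Derivation A B (B ⧸ N) := Derivation.mk' D0 fun b b' => by
    show Ideal.Quotient.mk N (F (b * b')) =
      b • Ideal.Quotient.mk N (F b') + b' • Ideal.Quotient.mk N (F b)
    rw [hmk (lft (algebraMap B C b) * lft (algebraMap B C b')) (b * b') (by rw [map_mul, map_mul, hlft, hlft]),
      ← Ideal.Quotient.mk_eq_mk, ← Ideal.Quotient.mk_eq_mk, ← Ideal.Quotient.mk_eq_mk]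
    rw [← Submodule.Quotient.mk_smul, ← Submodule.Quotient.mk_smul, ← Submodule.Quotient.mk_add,
      Submodule.Quotient.eq]
    refine Submodule.mem_sup_left ?_
    rw [show b * b' - algebraMap A B (lft (algebraMap B C b) * lft (algebraMap B C b')) -
      (b • F b' + b' • F b) = -(F b * F b') by simp only [F, map_mul, smul_eq_mul]; ring]
    exact neg_mem (Ideal.mul_mem_mul (hF b) (hF b'))
  let L := D.liftKaehlerDifferential
  have hL : ∀ (i : B), i ∈ I → ∀ ω, i • L ω = 0 := fun i hi ω => by
    have hmem : ω ∈ Submodule.span B (Set.range (KaehlerDifferential.D A B)) := by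
      rw [KaehlerDifferential.span_range_derivation]; trivial
    induction hmem using Submodule.span_induction with
    | mem ω hω =>
      obtain ⟨b, rfl⟩ := hω
      rw [D.liftKaehlerDifferential_comp_D]
      show i • Ideal.Quotient.mk N (F b) = 0
      rw [← Ideal.Quotient.mk_eq_mk, ← Submodule.Quotient.mk_smul, Submodule.Quotient.mk_eq_zero]
      exact Submodule.mem_sup_left (Ideal.mul_mem_mul hi (hF b))
    | zero => rw [map_zero, smul_zero]
    | add v w _ _ hv hw => rw [map_add, smul_add, hv, hw, add_zero]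
    | smul r v _ hv => rw [map_smul, smul_comm, hv, smul_zero]
  have hsurj : Function.Surjective (Algebra.linearMap B C) := fun c =>
    ⟨algebraMap A B (lft c), (IsScalarTower.algebraMap_apply A B C (lft c)).symm.trans (hlft c)⟩
  have hex : Function.Exact (Submodule.subtype (I : Submodule B B)) (Algebra.linearMap B C) := fun b =>
    ⟨fun hb => ⟨⟨b, hb⟩, rfl⟩, fun ⟨t, ht⟩ => ht ▸ t.2⟩
  obtain ⟨t, ht⟩ := (rTensor_exact Ω[B⁄A] hex hsurj ((1 : B) ⊗ₜ[B] KaehlerDifferential.D A B x)).mp (by
    rw [LinearMap.rTensor_tmul, Algebra.linearMap_apply, map_one]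
    exact h)
  have ht0 : L (TensorProduct.lid B Ω[B⁄A] ((Submodule.subtype (I : Submodule B B)).rTensor _ t)) = 0 := by
    clear ht
    induction t using TensorProduct.induction_on with
    | zero => simp
    | add v w hv hw => rw [map_add, map_add, map_add, hv, hw, add_zero]
    | tmul i ω => rw [LinearMap.rTensor_tmul, TensorProduct.lid_tmul, map_smul]; exact hL _ i.2 ω
  rw [ht, TensorProduct.lid_tmul, one_smul, D.liftKaehlerDifferential_comp_D] at ht0
  have h1 : Ideal.Quotient.mk N (x - algebraMap A B 0) = 0 := (hmk 0 x (by rw [hx, map_zero])).symm.trans ht0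
  rw [map_zero, sub_zero] at h1
  exact Ideal.Quotient.eq_zero_iff_mem.mp h1

/-- Every section of the conormal sheaf over a good affine open is the class of an element of the ideal. -/
theorem exists_class {Z X : Scheme.{u}} (i : Z ⟶ X) [QuasiCompact i] {U : X.Opens} (hU : IsAffineOpen U)
    (hW : IsAffineOpen (i ⁻¹ᵁ U)) (hs : Function.Surjective (i.app U)) (a : Γ(Omega.conormal i, i ⁻¹ᵁ U)) :
    ∃ k : Γ(ClSub.idealMod i.ker, U), a = pullSec i (ClSub.idealMod i.ker) (le_refl (i ⁻¹ᵁ U)) k := by
  have : (ClSub.idealMod i.ker).IsQuasicoherent := isQuasicoherent_idealMod _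
  obtain ⟨e, he⟩ := exists_sectionsEquiv i (ClSub.idealMod i.ker) hU hW le_rfl
  letI := (i.appLE U (i ⁻¹ᵁ U) le_rfl).hom.toAlgebra
  obtain ⟨t, rfl⟩ := e.surjective a
  induction t using TensorProduct.induction_on with
  | zero => exact ⟨0, by rw [map_zero, map_zero]⟩
  | add t t' h h' =>
    obtain ⟨k, hk⟩ := h
    obtain ⟨k', hk'⟩ := h'
    exact ⟨k + k', by rw [map_add, map_add, hk, hk']⟩
  | tmul b m =>
    obtain ⟨r, rfl⟩ := hs b
    refine ⟨r • m, ?_⟩
    rw [show i.app U r = r • (1 : Γ(Z, i ⁻¹ᵁ U)) by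
      rw [Algebra.smul_def, mul_one]
      exact congr($(Scheme.Hom.app_eq_appLE i) r), TensorProduct.smul_tmul, he]


open AlgebraicGeometry CategoryTheory Limits in
/-- For quasi-compact immersions i : Z → X and j : Z → Y with j = i ≫ p for p : X → Y, there is an exact
sequence C_{Z/Y} → C_{Z/X} → i^*Ω_{X/Y} → 0 with the canonical maps; Ω_{X/Y} is any receptacle of a
universal derivation. (The published statement allows arbitrary immersions; this row assumes i and j
quasi-compact.) -/
theorem result {Z X Y : Scheme.{u}} (p : X ⟶ Y) (i : Z ⟶ X) (j : Z ⟶ Y) [IsImmersion i] [IsImmersion j]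
    [QuasiCompact i] [QuasiCompact j] (hij : i ≫ p = j)
    (Ω : X.Modules) (d : OmegaSh.Der p Ω) (hd : OmegaSh.IsUniversal d)
    (ψ : (Scheme.Modules.pullback (𝟙 Z)).obj (Omega.conormal j) ⟶ Omega.conormal i) (hψ : OmegaSh.IsConormalMap i j p (𝟙 Z) ψ)
    (φ : Omega.conormal i ⟶ (Scheme.Modules.pullback i).obj Ω) (hφ : OmegaSh.IsConormalDiff i d φ) :
    ∃ w : ψ ≫ φ = 0, (ShortComplex.mk ψ φ w).Exact ∧ Epi φ := by
  have hqI : (ClSub.idealMod i.ker).IsQuasicoherent := isQuasicoherent_idealMod _
  have hqJ : (ClSub.idealMod j.ker).IsQuasicoherent := isQuasicoherent_idealMod _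
  have : Ω.IsQuasicoherent := isQCoh_of_isUniversal hd
  have hq1 : (Omega.conormal i).IsQuasicoherent := isQuasicoherent_pullback i _
  have : (Omega.conormal j).IsQuasicoherent := isQuasicoherent_pullback j _
  have hq2 : ((Scheme.Modules.pullback i).obj Ω).IsQuasicoherent := isQuasicoherent_pullback i _
  have hq0 : ((Scheme.Modules.pullback (𝟙 Z)).obj (Omega.conormal j)).IsQuasicoherent :=
    isQuasicoherent_pullback _ _
  have hpre : ∀ V : Y.Opens, i ⁻¹ᵁ (p ⁻¹ᵁ V) = j ⁻¹ᵁ V := fun V => by rw [← hij]; rfl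
  have hlift : ∀ (V : Y.Opens) (k' : Γ(ClSub.idealMod j.ker, V)), ∃ s : Γ(ClSub.idealMod i.ker, p ⁻¹ᵁ V),
      OmegaSh.idealSect i.ker _ s = p.app V (OmegaSh.idealSect j.ker V k') := fun V k' => by
    obtain ⟨s, hs⟩ := exists_idealLift i (p.app V (OmegaSh.idealSect j.ker V k'))
      (app_pullback_idealSect j i (𝟙 Z) p (by rw [hij, Category.id_comp]) V k')
    exact ⟨s, congrArg (OmegaSh.fnSect X _) hs⟩
  have hψW : ∀ (V : Y.Opens) (W : Z.Opens) (hW₁ : W ≤ j ⁻¹ᵁ V) (hW₂ : W ≤ i ⁻¹ᵁ (p ⁻¹ᵁ V))
      (k' : Γ(ClSub.idealMod j.ker, V)) (s : Γ(ClSub.idealMod i.ker, p ⁻¹ᵁ V)),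
      OmegaSh.idealSect i.ker _ s = p.app V (OmegaSh.idealSect j.ker V k') →
      ψ.app W (pullSec (𝟙 Z) (Omega.conormal j) hW₁ (OmegaSh.conormalSect j V k')) =
        pullSec i (ClSub.idealMod i.ker) hW₂ s := fun V W hW₁ hW₂ k' s hs =>
    (app_res ψ (show W ≤ (𝟙 Z) ⁻¹ᵁ (j ⁻¹ᵁ V) from hW₁) _).trans (hψ.2 V k' s hs W hW₁ hW₂)
  have hw : ψ ≫ φ = 0 := by
    rw [← cancel_epi ((Scheme.Modules.pullbackId Z).inv.app (Omega.conormal j)), comp_zero]
    refine hom_ext_pullSect j _ _ fun V k' => ?_
    obtain ⟨s, hs⟩ := hlift V k'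
    show φ.app (j ⁻¹ᵁ V) (ψ.app (j ⁻¹ᵁ V)
      (((Scheme.Modules.pullbackId Z).inv.app (Omega.conormal j)).app (j ⁻¹ᵁ V) (OmegaSh.conormalSect j V k'))) = _
    rw [app_pullbackId_inv, hψW V _ le_rfl (hpre V).ge k' s hs]
    refine ((app_res φ (hpre V).ge _).trans ?_).trans (ConcreteCategory.congr_hom
      (Scheme.Modules.Hom.zero_app (U := j ⁻¹ᵁ V) ..) _).symm
    refine (congrArg _ (hφ (p ⁻¹ᵁ V) s)).trans ?_
    rw [hs]
    have h0 : d.app (p ⁻¹ᵁ V) (p.app V (OmegaSh.idealSect j.ker V k')) = 0 :=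
      d.d_app (X := Opposite.op V) (OmegaSh.idealSect j.ker V k')
    rw [h0]
    exact (congrArg _ (map_zero _)).trans (map_zero _)
  have key : ∀ z : Z, ∃ W : Z.Opens, IsAffineOpen W ∧ z ∈ W ∧ Function.Surjective (φ.app W) ∧
      ∀ a, φ.app W a = 0 → ∃ b, ψ.app W b = a := by
    intro z
    have hjz : j z = p (i z) := by rw [← hij]; rfl
    obtain ⟨V₀, hV₀, hzV₀, hV₀c, -, -⟩ := exists_affine_immersion j z j.coborderRange
      (subset_coborder (Set.mem_range_self z))
    obtain ⟨U₀, hU₀, hzU₀, hU₀p, -, -⟩ := exists_affine_immersion i z (p ⁻¹ᵁ V₀ ⊓ i.coborderRange)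
      ⟨show p (i z) ∈ V₀ from hjz ▸ hzV₀, subset_coborder (Set.mem_range_self z)⟩
    obtain ⟨O, hO, hOeq⟩ := j.isEmbedding.isInducing.isOpen_iff.mp (i ⁻¹ᵁ U₀).2
    have hzO : j z ∈ O := by
      have : z ∈ j ⁻¹' O := hOeq ▸ hzU₀
      exact this
    obtain ⟨a, haO, hza⟩ := hV₀.exists_basicOpen_le (V := ⟨O, hO⟩) ⟨j z, hzO⟩ hzV₀
    let V := Y.basicOpen a
    have hV : IsAffineOpen V := hV₀.basicOpen a
    have hVV : V ≤ V₀ := Y.basicOpen_le a
    have hle0 : U₀ ≤ p ⁻¹ᵁ V₀ := fun x hx => (hU₀p hx).1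
    let U := U₀ ⊓ p ⁻¹ᵁ V
    have hU : IsAffineOpen U := by
      have hh : U = X.basicOpen (p.appLE V₀ U₀ hle0 a) := by
        rw [Scheme.Hom.appLE, ConcreteCategory.comp_apply, Scheme.basicOpen_res, ← Scheme.preimage_basicOpen]
        first | rfl | skip
      rw [hh]
      exact hU₀.basicOpen _
    obtain ⟨hWi, hsi⟩ := affine_immersion_of_le i hU fun x hx => (hU₀p hx.1).2
    obtain ⟨hWj, hsj⟩ := affine_immersion_of_le j hV fun y hy => hV₀c (hVV hy)
    have hUV : U ≤ p ⁻¹ᵁ V := inf_le_right
    have hWW : i ⁻¹ᵁ U = j ⁻¹ᵁ V := le_antisymm (fun x hx => (hpre V).le hx.2) fun x hx =>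
      ⟨by
        have : x ∈ j ⁻¹' O := haO hx
        rw [hOeq] at this
        exact this, (hpre V).ge hx⟩
    let W := i ⁻¹ᵁ U
    letI := (p.appLE V U hUV).hom.toAlgebra
    letI := (i.appLE U W le_rfl).hom.toAlgebra
    letI := (j.appLE V W hWW.le).hom.toAlgebra
    haveI : IsScalarTower Γ(Y, V) Γ(X, U) Γ(Z, W) := IsScalarTower.of_algebraMap_eq fun x => by
      refine Eq.trans ?_ (congr($(Scheme.Hom.appLE_comp_appLE _ _ _ _ _ hUV le_rfl) x)).symm
      exact congr($(OmegaSh.appLE_congr_hom hij.symm _ _) x)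
    have hsA : Function.Surjective (algebraMap Γ(Y, V) Γ(Z, W)) := by
      intro b
      obtain ⟨a', ha'⟩ := hsj (Z.presheaf.map (homOfLE hWW.ge).op b)
      refine ⟨a', ?_⟩
      show j.appLE V W hWW.le a' = b
      rw [Scheme.Hom.appLE, ConcreteCategory.comp_apply]
      refine (congrArg (Z.presheaf.map (homOfLE hWW.le).op) ha').trans ?_
      rw [← ConcreteCategory.comp_apply, ← Functor.map_comp]
      exact congr($(Z.presheaf.map_id _) b)
    obtain ⟨T, hT⟩ := exists_kaehlerEquiv hUV hd hV hU
    obtain ⟨e, he⟩ := exists_sectionsEquiv i Ω hU hWi le_rfl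
    let E := (LinearEquiv.baseChange Γ(X, U) Γ(Z, W) _ _ T).trans e
    have hE : ∀ k : Γ(ClSub.idealMod i.ker, U),
        φ.app W (pullSec i (ClSub.idealMod i.ker) (le_refl W) k) =
          E (1 ⊗ₜ KaehlerDifferential.D Γ(Y, V) Γ(X, U) (OmegaSh.idealSect i.ker U k)) := fun k => by
      show _ = e (1 ⊗ₜ T _)
      rw [hT, he]
      refine (app_res φ (le_refl W) _).trans ?_
      exact congrArg _ (hφ U k)
    refine ⟨W, hWi, ⟨hzU₀, show p (i z) ∈ V from hjz ▸ hza⟩, fun n => ?_, fun a ha => ?_⟩
    · obtain ⟨t, rfl⟩ := E.surjective n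
      induction t using TensorProduct.induction_on with
      | zero => exact ⟨0, by rw [map_zero, map_zero]⟩
      | add t t' h h' =>
        obtain ⟨x, hx⟩ := h
        obtain ⟨x', hx'⟩ := h'
        exact ⟨x + x', by rw [map_add, map_add, hx, hx']⟩
      | tmul b ω =>
        have hmem : ω ∈ Submodule.span Γ(X, U) (Set.range (KaehlerDifferential.D Γ(Y, V) Γ(X, U))) := by
          rw [KaehlerDifferential.span_range_derivation]; trivial
        induction hmem using Submodule.span_induction generalizing b with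
        | mem ω hω =>
          obtain ⟨r, rfl⟩ := hω
          obtain ⟨a', ha'⟩ := hsA (algebraMap Γ(X, U) Γ(Z, W) r)
          let x := r - algebraMap Γ(Y, V) Γ(X, U) a'
          have hx : i.app U x = 0 := by
            rw [Scheme.Hom.app_eq_appLE]
            show algebraMap Γ(X, U) Γ(Z, W) x = 0
            rw [map_sub, ← IsScalarTower.algebraMap_apply, ha', sub_self]
          obtain ⟨k, hk⟩ := exists_idealLift i x hx
          refine ⟨b • pullSec i (ClSub.idealMod i.ker) (le_refl W) k, ?_⟩
          refine (φ.app_smul _ _).trans ?_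
          rw [hE, show OmegaSh.idealSect i.ker U k = x from congrArg (OmegaSh.fnSect X U) hk, map_sub,
            Derivation.map_algebraMap, sub_zero, ← map_smul, TensorProduct.smul_tmul', smul_eq_mul, mul_one]
        | zero => exact ⟨0, by rw [TensorProduct.tmul_zero, map_zero, map_zero]⟩
        | add v w _ _ hv hw =>
          obtain ⟨x, hx⟩ := hv b
          obtain ⟨x', hx'⟩ := hw b
          exact ⟨x + x', by rw [TensorProduct.tmul_add, map_add, map_add, hx, hx']⟩
        | smul r v _ hv =>
          obtain ⟨x, hx⟩ := hv (r • b)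
          exact ⟨x, by rw [hx, TensorProduct.smul_tmul]⟩
    · obtain ⟨k, rfl⟩ := exists_class i hU hWi hsi a
      rw [hE, LinearEquiv.map_eq_zero_iff] at ha
      have hk0 : algebraMap Γ(X, U) Γ(Z, W) (OmegaSh.idealSect i.ker U k) = 0 := by
        have := app_idealSect_eq_zero i U k
        rw [Scheme.Hom.app_eq_appLE] at this
        exact this
      have hmem := mem_of_tmul_D_eq_zero hsA _ hk0 ha
      have hcl : ∀ x ∈ RingHom.ker (algebraMap Γ(X, U) Γ(Z, W)) * RingHom.ker (algebraMap Γ(X, U) Γ(Z, W)) ⊔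
          (RingHom.ker (algebraMap Γ(Y, V) Γ(Z, W))).map (algebraMap Γ(Y, V) Γ(X, U)),
          ∃ k : Γ(ClSub.idealMod i.ker, U), OmegaSh.idealSect i.ker U k = x ∧
            ∃ b, ψ.app W b = pullSec i (ClSub.idealMod i.ker) (le_refl W) k := by
        intro x hx
        obtain ⟨x₁, hx₁, x₂, hx₂, rfl⟩ := Submodule.mem_sup.mp hx
        suffices h12 : (∃ k : Γ(ClSub.idealMod i.ker, U), OmegaSh.idealSect i.ker U k = x₁ ∧
            ∃ b, ψ.app W b = pullSec i (ClSub.idealMod i.ker) (le_refl W) k) ∧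
            ∃ k : Γ(ClSub.idealMod i.ker, U), OmegaSh.idealSect i.ker U k = x₂ ∧
            ∃ b, ψ.app W b = pullSec i (ClSub.idealMod i.ker) (le_refl W) k by
          obtain ⟨⟨k, hk, b, hb⟩, k', hk', b', hb'⟩ := h12
          exact ⟨k + k', by rw [map_add, hk, hk'], b + b', by rw [map_add, map_add, hb, hb']; rfl⟩
        constructor
        · refine Submodule.mul_induction_on hx₁ (fun u hu v hv => ?_) (fun u v hu hv => ?_)
          ·
            obtain ⟨k, hk⟩ := exists_idealLift i v (by rw [Scheme.Hom.app_eq_appLE]; exact hv)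
            refine ⟨u • k, ?_, 0, ?_⟩
            · rw [idealSect_smul, show OmegaSh.idealSect i.ker U k = v from congrArg (OmegaSh.fnSect X U) hk]
            · have hu' : i.appLE U W le_rfl u = 0 := hu
              exact (map_zero _).trans (((pullSec_smul i _ _ u k).trans
                (by rw [hu', zero_smul]; rfl)).symm)
          · obtain ⟨k, hk, b, hb⟩ := hu
            obtain ⟨k', hk', b', hb'⟩ := hv
            exact ⟨k + k', by rw [map_add, hk, hk'], b + b', by rw [map_add, map_add, hb, hb']; rfl⟩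
        · clear hx
          induction hx₂ using Submodule.span_induction with
          | mem u hu =>
            obtain ⟨a', ha', rfl⟩ := hu
            obtain ⟨k', hk'⟩ := exists_idealLift j (W := V) a' (by
              have h1 : j.appLE V W hWW.le a' = 0 := ha'
              rw [Scheme.Hom.appLE, ConcreteCategory.comp_apply] at h1
              have h2 := (congrArg (Z.presheaf.map (homOfLE hWW.ge).op) h1).trans (map_zero _)
              rw [← ConcreteCategory.comp_apply, ← Functor.map_comp] at h2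
              exact (congr($(Z.presheaf.map_id _) (j.app V a'))).symm.trans h2)
            have hk'' : OmegaSh.idealSect j.ker V k' = a' := congrArg (OmegaSh.fnSect Y V) hk'
            obtain ⟨s, hs⟩ := hlift V k'
            refine ⟨(ClSub.idealMod i.ker).presheaf.map (homOfLE hUV).op s, ?_,
              pullSec (𝟙 Z) (Omega.conormal j) hWW.le (OmegaSh.conormalSect j V k'), ?_⟩
            · rw [idealSect_res, hs, hk'']
              rfl
            · rw [hψW V W hWW.le (fun x hx => hUV hx) k' s hs]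
              refine Eq.symm ((pullSec_res i _ (fun x hx => hUV hx) (le_refl W) hUV (le_refl W) s).trans ?_)
              rw [show (homOfLE (le_refl W)).op = 𝟙 _ from rfl, CategoryTheory.Functor.map_id]
              rfl
          | zero => exact ⟨0, map_zero _, 0, by rw [map_zero, map_zero]; rfl⟩
          | add u v _ _ hu hv =>
            obtain ⟨k, hk, b, hb⟩ := hu
            obtain ⟨k', hk', b', hb'⟩ := hv
            exact ⟨k + k', by rw [map_add, hk, hk'], b + b', by rw [map_add, map_add, hb, hb']; rfl⟩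
          | smul r u _ hu =>
            obtain ⟨k, hk, b, hb⟩ := hu
            refine ⟨r • k, by rw [idealSect_smul, hk]; rfl, i.appLE U W le_rfl r • b, ?_⟩
            rw [ψ.app_smul, hb]
            exact (pullSec_smul i _ _ r k).symm
      obtain ⟨k₁, hk₁, b, hb⟩ := hcl _ hmem
      exact ⟨b, by rw [hb, idealSect_injective _ _ hk₁]⟩
  refine ⟨hw, ?_, epi_of_app_surjective φ fun x => ?_⟩
  · haveI : (ShortComplex.mk ψ φ hw).X₁.IsQuasicoherent := hq0
    haveI : (ShortComplex.mk ψ φ hw).X₂.IsQuasicoherent := hq1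
    haveI : (ShortComplex.mk ψ φ hw).X₃.IsQuasicoherent := hq2
    refine exact_of_app _ fun x => ?_
    obtain ⟨W, hW, hx, -, he⟩ := key x
    exact ⟨W, hW, hx, he⟩
  · obtain ⟨W, hW, hx, hs, -⟩ := key x
    exact ⟨W, hW, hx, hs⟩

end Groth.Agent.S9375
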