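import Groth.Statements.S9384
import Groth.Agent.ModStalk.OmegaSplit
import Groth.Agent.S5976

set_option autoImplicit false
universe u
open OmegaSh

namespace Groth.Agent.S9384

open scoped TensorProduct
open Groth.Agent.ModStalk

set_option linter.style.haveILetI false


open AlgebraicGeometry CategoryTheory Limits in
/-- Let i : Z → X be a quasi-compact immersion of schemes over S admitting a left inverse g : X → Z over
S. Then the canonical sequence 0 → C_{Z/X} → i^*Ω_{X/S} → Ω_{Z/S} → 0 is split exact (receptacle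
form; the maps are pinned by their values on sections). (The published statement also covers
immersions with only a local left inverse, where the sequence is locally split, and arbitrary
immersions; this row assumes a global left inverse over S and i quasi-compact. The case of a section
s of a morphism p : X → S, where Ω_{S/S} = 0 and the map C_{S/X} → s^*Ω_{X/S} is an isomorphism, is
the instance Z = S, i = s, g = p.) -/
theorem result {Z X S : Scheme.{u}} (f : X ⟶ S) (i : Z ⟶ X) [IsImmersion i] [QuasiCompact i]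
    (g : X ⟶ Z) (hgi : i ≫ g = 𝟙 Z) (hgS : g ≫ i ≫ f = f)
    (ΩX : X.Modules) (dX : OmegaSh.Der f ΩX) (hX : OmegaSh.IsUniversal dX)
    (ΩZ : Z.Modules) (dZ : OmegaSh.Der (i ≫ f) ΩZ) (hZ : OmegaSh.IsUniversal dZ)
    (φ : Omega.conormal i ⟶ (Scheme.Modules.pullback i).obj ΩX) (hφ : OmegaSh.IsConormalDiff i dX φ)
    (c : (Scheme.Modules.pullback i).obj ΩX ⟶ ΩZ) (hc : OmegaSh.IsDiffCompat i dX dZ c) :
    ∃ w : φ ≫ c = 0, (ShortComplex.mk φ c w).Exact ∧ (∃ r : (Scheme.Modules.pullback i).obj ΩX ⟶ Omega.conormal i, φ ≫ r = 𝟙 _) ∧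
      ∃ σ : ΩZ ⟶ (Scheme.Modules.pullback i).obj ΩX, σ ≫ c = 𝟙 _ := by
  have hw : φ ≫ c = 0 := by
    refine hom_ext_pullSect i _ _ fun U k => ?_
    show c.app (i ⁻¹ᵁ U) (φ.app (i ⁻¹ᵁ U) (OmegaSh.conormalSect i U k)) = _
    rw [hφ, hc, app_idealSect_eq_zero, map_zero]
    rfl
  refine ⟨hw, (ShortComplex.exact_iff_image_eq_kernel _).mpr
    (Groth.Agent.S5976.result f i ΩX dX hX ΩZ dZ hZ φ hφ c hc).2, ?_, ?_⟩
  · obtain ⟨α, hα, -⟩ := hX _ (retDer f i g hgi hgS)
    let adj := Scheme.Modules.pullbackPushforwardAdjunction i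
    refine ⟨(adj.homEquiv _ _).symm α, ?_⟩
    refine hom_ext_pullSect i _ _ fun U k => ?_
    show ((adj.homEquiv _ _).symm α).app (i ⁻¹ᵁ U) (φ.app (i ⁻¹ᵁ U) (OmegaSh.conormalSect i U k)) =
      OmegaSh.conormalSect i U k
    rw [hφ]
    have h2 := (adj.homEquiv _ _).apply_symm_apply α
    rw [Adjunction.homEquiv_unit] at h2
    refine (ConcreteCategory.congr_hom (congrArg (fun ψ => Scheme.Modules.Hom.app ψ U) h2) _).trans ?_
    refine (PresheafOfModules.Derivation.congr_d hα (X := Opposite.op U) (OmegaSh.idealSect i.ker U k)).trans ?_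
    exact retClass_idealSect i g hgi U k
  · obtain ⟨σ, hσ, -⟩ := hZ _ (sectDer f i g hgi hgS dX)
    refine ⟨σ, (hZ _ dZ).unique ?_ rfl⟩
    refine PresheafOfModules.Derivation.ext ?_
    funext W
    ext s
    show c.app W.unop (σ.app W.unop (dZ.app W.unop s)) = dZ.app W.unop s
    rw [show σ.app W.unop (dZ.app W.unop s) = _ from PresheafOfModules.Derivation.congr_d hσ (X := W) s]
    refine (compat_pullSec hc (le_preimage_ret i g hgi W.unop) (g.app W.unop s)).trans ?_
    rw [appLE_retraction i g hgi]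

end Groth.Agent.S9384
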