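import Groth.Statements.S9388
import Groth.Agent.ModStalk.OmegaLocal
import Groth.Agent.ModStalk.FiniteCover

set_option autoImplicit false
universe u
open OmegaSh

namespace Groth.Agent.S9388

open AlgebraicGeometry CategoryTheory in
/-- For f : X → S locally of finite presentation, every receptacle Ω of a universal S-derivation of O_X
is a finitely presented O_X-module. -/
theorem result {X S : Scheme.{u}} (f : X ⟶ S) [LocallyOfFinitePresentation f]
    (Ω : X.Modules) (d : OmegaSh.Der f Ω) (hd : OmegaSh.IsUniversal d) : CohB1.IsFP Ω := by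
  have : Ω.IsQuasicoherent := Groth.Agent.ModStalk.isQCoh_of_isUniversal hd
  refine Groth.Agent.ModStalk.isFinitePresentation_of_cover Ω (fun U => ∃ V : S.Opens, IsAffineOpen V ∧ U ≤ f ⁻¹ᵁ V)
    (fun x => ?_) fun U hU ⟨V, hV, hle⟩ => ?_
  · obtain ⟨_, ⟨V, hV, rfl⟩, hxV, -⟩ := S.isBasis_affineOpens.exists_subset_of_mem_open (Set.mem_univ (f x)) isOpen_univ
    obtain ⟨_, ⟨U, hU, rfl⟩, hxU, hle⟩ :=
      X.isBasis_affineOpens.exists_subset_of_mem_open (show x ∈ f ⁻¹ᵁ V from hxV) (f ⁻¹ᵁ V).2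
    exact ⟨U, hU, hxU, V, hV, hle⟩
  letI := (f.appLE V U hle).hom.toAlgebra
  obtain ⟨T, -⟩ := Groth.Agent.ModStalk.exists_kaehlerEquiv hle hd hV hU
  have : Algebra.FinitePresentation Γ(S, V) Γ(X, U) := f.finitePresentation_appLE hV hU hle
  exact Module.FinitePresentation.of_equiv T

end Groth.Agent.S9388
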