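import Groth.Statements.S9391
import Mathlib.RingTheory.Localization.Integral
import Mathlib.RingTheory.IntegralClosure.IsIntegralClosure.Basic

set_option autoImplicit false
universe u
open CAlg

namespace Groth.Agent.S9391

/-- A localization of an N-1 domain which is again a domain is N-1. -/
theorem result (R : Type u) [CommRing R] [IsDomain R] (M : Submonoid R)
    (S : Type u) [CommRing S] [IsDomain S] [Algebra R S] [IsLocalization M S]
    (h : CAlg.IsN1 R) : CAlg.IsN1 S := by
  classical
  have hM : M ≤ nonZeroDivisors R := fun m hm => mem_nonZeroDivisors_of_ne_zero fun h0 =>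
    (IsLocalization.map_units S ⟨m, hm⟩).ne_zero (by simp [h0])
  haveI : FaithfulSMul R (FractionRing S) := (faithfulSMul_iff_algebraMap_injective R (FractionRing S)).2 (by
    rw [IsScalarTower.algebraMap_eq R S (FractionRing S), RingHom.coe_comp]
    exact (IsFractionRing.injective S (FractionRing S)).comp (IsLocalization.injective S hM))
  haveI : IsFractionRing R (FractionRing S) := IsFractionRing.of_field R (FractionRing S) fun z => by
    obtain ⟨a, b, hb, rfl⟩ := IsFractionRing.div_surjective (A := S) z
    obtain ⟨⟨a', m⟩, ha⟩ := IsLocalization.surj M a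
    obtain ⟨⟨b', m'⟩, hb'⟩ := IsLocalization.surj M b
    refine ⟨a' * m', b' * m, ?_⟩
    have hm0 := ((IsLocalization.map_units S m).map (algebraMap S (FractionRing S))).ne_zero
    have hm0' := ((IsLocalization.map_units S m').map (algebraMap S (FractionRing S))).ne_zero
    simp only [IsScalarTower.algebraMap_apply R S (FractionRing S), map_mul, ← ha, ← hb']
    field_simp
  haveI hfin : Module.Finite R (integralClosure R (FractionRing S)) :=
    haveI : Module.Finite R (integralClosure R (FractionRing R)) := h
    Module.Finite.equiv (AlgEquiv.mapIntegralClosure (FractionRing.algEquiv R (FractionRing S))).toLinearEquiv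
  obtain ⟨s, hs⟩ := (Module.Finite.iff_fg (N := Subalgebra.toSubmodule (integralClosure R (FractionRing S)))).1 hfin
  refine (Module.Finite.iff_fg (N := Subalgebra.toSubmodule (integralClosure S (FractionRing S)))).2 ⟨s, le_antisymm ?_ ?_⟩
  · refine Submodule.span_le.2 fun y hy => ?_
    have : y ∈ integralClosure R (FractionRing S) := (hs ▸ Submodule.subset_span hy : y ∈ Subalgebra.toSubmodule (integralClosure R (FractionRing S)))
    exact IsIntegral.tower_top (A := S) this
  · intro x hx
    obtain ⟨⟨m, hm⟩, hmx⟩ := IsIntegral.exists_multiple_integral_of_isLocalization M x hx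
    have hmem : m • x ∈ Submodule.span R (s : Set (FractionRing S)) := hs ▸ hmx
    have h1 := Submodule.span_le_restrictScalars R S (s : Set (FractionRing S)) hmem
    obtain ⟨u, hu⟩ := IsLocalization.map_units S (⟨m, hm⟩ : M)
    have h2 : x = (↑u⁻¹ : S) • (m • x) := by
      rw [← IsScalarTower.algebraMap_smul S m x, ← hu, smul_smul, Units.inv_mul, one_smul]
    rw [h2]
    exact Submodule.smul_mem _ _ h1

end Groth.Agent.S9391
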