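import Groth.Statements.S9393
import Mathlib.RingTheory.Localization.Integral
import Mathlib.RingTheory.Localization.Finiteness
import Mathlib.RingTheory.IntegralClosure.IsIntegralClosure.Basic

set_option autoImplicit false
universe u
open CAlg

namespace Groth.Agent.S9393

/-- Being N-1 can be checked on a finite cover of Spec R by principal opens whose rings are N-1 domains. -/
theorem result (R : Type u) [CommRing R] [IsDomain R]
    {ι : Type u} [Finite ι] (f : ι → R) (hf : Ideal.span (Set.range f) = ⊤)
    (Rf : ι → Type u) [∀ i, CommRing (Rf i)] [∀ i, IsDomain (Rf i)] [∀ i, Algebra R (Rf i)]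
    [∀ i, IsLocalization.Away (f i) (Rf i)] (h : ∀ i, CAlg.IsN1 (Rf i)) : CAlg.IsN1 R := by
  classical
  have key : ∀ i, ∃ s : Finset (FractionRing R), (s : Set (FractionRing R)) ⊆ (integralClosure R (FractionRing R) : Set (FractionRing R)) ∧
      ∀ x ∈ integralClosure R (FractionRing R), ∃ k : ℕ, (f i) ^ k • x ∈ Submodule.span R (s : Set (FractionRing R)) := fun i => by
    have hu : ∀ m : Submonoid.powers (f i), IsUnit (algebraMap R (Rf i) m) := IsLocalization.map_units (Rf i)
    have hM : Submonoid.powers (f i) ≤ nonZeroDivisors R := fun m hm => mem_nonZeroDivisors_of_ne_zero fun h0 =>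
      (hu ⟨m, hm⟩).ne_zero (by simp [h0])
    let L := FractionRing (Rf i)
    haveI : FaithfulSMul R L := (faithfulSMul_iff_algebraMap_injective R L).2 (by
      rw [IsScalarTower.algebraMap_eq R (Rf i) L, RingHom.coe_comp]
      exact (IsFractionRing.injective (Rf i) L).comp (IsLocalization.injective (Rf i) hM))
    haveI : IsFractionRing R L := IsFractionRing.of_field R L fun z => by
      obtain ⟨a, b, hb, rfl⟩ := IsFractionRing.div_surjective (A := Rf i) z
      obtain ⟨⟨a', m⟩, ha⟩ := IsLocalization.surj (Submonoid.powers (f i)) a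
      obtain ⟨⟨b', m'⟩, hb'⟩ := IsLocalization.surj (Submonoid.powers (f i)) b
      refine ⟨a' * m', b' * m, ?_⟩
      have hm0 := ((hu m).map (algebraMap (Rf i) L)).ne_zero
      have hm0' := ((hu m').map (algebraMap (Rf i) L)).ne_zero
      simp only [IsScalarTower.algebraMap_apply R (Rf i) L, map_mul, ← ha, ← hb']
      have hb0 : algebraMap (Rf i) L b ≠ 0 := IsFractionRing.to_map_ne_zero_of_mem_nonZeroDivisors hb
      rw [div_eq_div_iff hb0 (mul_ne_zero (mul_ne_zero hb0 hm0') hm0)]
      ring
    let e : FractionRing R ≃ₐ[R] L := FractionRing.algEquiv R L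
    obtain ⟨g, hg⟩ := (Module.Finite.iff_fg (N := Subalgebra.toSubmodule (integralClosure (Rf i) L))).1 (h i)
    have hex : ∀ y ∈ g, ∃ m : Submonoid.powers (f i), IsIntegral R ((m : R) • y) := fun y hy => by
      obtain ⟨m, hm⟩ := IsIntegral.exists_multiple_integral_of_isLocalization (Submonoid.powers (f i)) y
        (show y ∈ Subalgebra.toSubmodule (integralClosure (Rf i) L) from hg ▸ Submodule.subset_span hy)
      exact ⟨m, hm⟩
    choose! m hm using hex
    refine ⟨g.image fun y => e.symm ((m y : R) • y), ?_, fun x hx => ?_⟩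
    · intro z hz
      obtain ⟨y, hy, rfl⟩ := Finset.mem_image.1 hz
      exact (hm y hy).map e.symm.toAlgHom
    · have h1 : e x ∈ Submodule.span (Rf i) ((fun y => (m y : R) • y) '' (g : Set L)) := by
        have hx' : e x ∈ Submodule.span (Rf i) (g : Set L) := hg ▸ (IsIntegral.tower_top (IsIntegral.map e.toAlgHom hx) : IsIntegral (Rf i) (e x))
        refine Submodule.span_le.2 (fun y hy => ?_) hx'
        obtain ⟨u, hu'⟩ := hu (m y)
        have : y = (↑u⁻¹ : Rf i) • ((m y : R) • y) := by
          rw [← IsScalarTower.algebraMap_smul (Rf i) (m y : R) y, ← hu', smul_smul, Units.inv_mul, one_smul]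
        rw [SetLike.mem_coe, this]
        exact Submodule.smul_mem _ _ (Submodule.subset_span ⟨y, hy, rfl⟩)
      obtain ⟨⟨t, k, rfl⟩, ht⟩ := multiple_mem_span_of_mem_localization_span (Submonoid.powers (f i)) (Rf i) _ _ h1
      refine ⟨k, ?_⟩
      have := Submodule.mem_map_of_mem (f := e.symm.toLinearMap) ht
      rw [Submodule.map_span, ← Set.image_comp] at this
      simpa [Submonoid.smul_def, Finset.coe_image, Function.comp_def] using this
  choose s hs1 hs2 using key
  have := Fintype.ofFinite ι
  refine (Module.Finite.iff_fg (N := Subalgebra.toSubmodule (integralClosure R (FractionRing R)))).2 ⟨Finset.univ.biUnion s, le_antisymm ?_ fun x hx => ?_⟩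
  · refine Submodule.span_le.2 fun y hy => ?_
    obtain ⟨i, -, hi⟩ := Finset.mem_biUnion.1 hy
    exact hs1 i hi
  · have hle : Ideal.span (Set.range f) ≤ Ideal.radical ((Submodule.span R (Finset.univ.biUnion s : Set (FractionRing R))).comap (LinearMap.toSpanSingleton R (FractionRing R) x)) := by
      rw [Ideal.span_le]
      rintro _ ⟨i, rfl⟩
      obtain ⟨k, hk⟩ := hs2 i x hx
      exact ⟨k, Submodule.span_mono (Finset.coe_subset.2 (Finset.subset_biUnion_of_mem s (Finset.mem_univ i))) hk⟩
    rw [hf, top_le_iff, Ideal.radical_eq_top, Ideal.eq_top_iff_one] at hle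
    simpa using hle

end Groth.Agent.S9393
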