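import Groth.Statements.S9402
import Mathlib.RingTheory.Kaehler.Basic
import Mathlib.RingTheory.Nilpotent.Defs

set_option autoImplicit false
universe u
open CAlg

namespace Groth.Agent.S9402

/-- Let R → S be a ring map with S a nonzero algebra over the rationals and f ∈ S such that some
S-linear form on the module of differentials of S over R sends df to 1 (that is, df spans a free
direct summand of rank one). Then f is not nilpotent. (The published statement asks only that S·df
be a direct summand of the module of differentials, which also holds for the rationals with a
square-zero element adjoined and for the zero ring, where f is nilpotent; this row asks for an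
S-linear form on the differentials sending df to 1, as the published proof uses, and S nonzero.) -/
theorem result (R : Type u) [CommRing R] (S : Type u)
    [CommRing S] [Nontrivial S] [Algebra R S] [Algebra ℚ S] (f : S)
    (θ : Ω[S⁄R] →ₗ[S] S) (hθ : θ (KaehlerDifferential.D R S f) = 1) : ¬ IsNilpotent f := by
  intro ⟨n, hn⟩
  have key : ∀ n : ℕ, f ^ n = 0 → False := by
    intro n
    induction n with
    | zero => intro h; exact one_ne_zero (α := S) (by simpa using h)
    | succ n ih =>
      intro h
      apply ih
      have h1 : θ (KaehlerDifferential.D R S (f ^ (n + 1))) = ((n + 1 : ℕ) : S) * f ^ n := by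
        rw [Derivation.leibniz_pow, Nat.add_sub_cancel, map_nsmul, map_smul, hθ, smul_eq_mul, mul_one, nsmul_eq_mul]
      rw [h, map_zero, map_zero] at h1
      have hu : IsUnit ((n + 1 : ℕ) : S) := by
        have := (Ne.isUnit (show ((n + 1 : ℕ) : ℚ) ≠ 0 from Nat.cast_ne_zero.2 n.succ_ne_zero)).map (algebraMap ℚ S)
        rwa [map_natCast] at this
      exact hu.mul_right_eq_zero.1 h1.symm
  exact key n hn

end Groth.Agent.S9402
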