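import Groth.Statements.S9403
import Mathlib.RingTheory.Kaehler.Basic
import Mathlib.RingTheory.Nakayama
import Mathlib.RingTheory.Noetherian.Basic
import Mathlib.RingTheory.LocalRing.MaximalIdeal.Basic
import Mathlib.Tactic.LinearCombination

set_option autoImplicit false
universe u
open CAlg

namespace Groth.Agent.S9403

/-- Let R → S be a ring map with S a Noetherian local ring which is an algebra over the rationals, and f
∈ S such that some S-linear form on the module of differentials of S over R sends df to 1 (df spans
a free direct summand of rank one). Then f is a nonzerodivisor of S. (The published statement asks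
only that S·df be a direct summand of the module of differentials, which also holds for the
rationals with a square-zero element adjoined, where f is a zero divisor; this row asks for an
S-linear form on the differentials sending df to 1, as the published proof uses.) -/
theorem result (R : Type u) [CommRing R]
    (S : Type u) [CommRing S] [IsLocalRing S] [IsNoetherianRing S] [Algebra R S] [Algebra ℚ S]
    (f : S) (θ : Ω[S⁄R] →ₗ[S] S) (hθ : θ (KaehlerDifferential.D R S f) = 1) : f ∈ nonZeroDivisors S := by
  have hder : ∀ a : S, ∀ k : ℕ, θ (KaehlerDifferential.D R S (f ^ k * a)) =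
      f ^ k * θ (KaehlerDifferential.D R S a) + (k : S) * (f ^ (k - 1) * a) := by
    intro a k
    rw [Derivation.leibniz, Derivation.leibniz_pow, map_add, map_smul, map_smul, map_nsmul, map_smul, hθ, smul_eq_mul, smul_eq_mul, smul_eq_mul, nsmul_eq_mul, mul_one]
    ring
  -- every annihilator of a power of `f` is a multiple of `f`
  have hann : ∀ k : ℕ, ∀ h : S, f ^ k * h = 0 → ∃ c, h = f * c := by
    intro k
    induction k with
    | zero => intro h hh; exact ⟨0, by simpa using hh⟩
    | succ k ih =>
      intro h hh
      have h1 := hder h (k + 1)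
      rw [hh, map_zero, map_zero, Nat.add_sub_cancel] at h1
      obtain ⟨c, hc⟩ := ih (f * θ (KaehlerDifferential.D R S h) + ((k + 1 : ℕ) : S) * h) (by linear_combination -h1)
      have hu : IsUnit ((k + 1 : ℕ) : S) := by
        have := (Ne.isUnit (show ((k + 1 : ℕ) : ℚ) ≠ 0 from Nat.cast_ne_zero.2 k.succ_ne_zero)).map (algebraMap ℚ S)
        rwa [map_natCast] at this
      obtain ⟨v, hv⟩ := hu.exists_left_inv
      exact ⟨v * (c - θ (KaehlerDifferential.D R S h)), by linear_combination v * hc - h * hv⟩
  rw [mem_nonZeroDivisors_iff_right]
  intro h hh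
  let ch : ℕ →o Submodule S S := ⟨fun k => LinearMap.ker (LinearMap.toSpanSingleton S S (f ^ k)), by
    intro a b hab y hy
    simp only [LinearMap.mem_ker, LinearMap.toSpanSingleton_apply, smul_eq_mul] at hy ⊢
    rw [← Nat.add_sub_cancel' hab, pow_add, ← mul_assoc, hy, zero_mul]⟩
  obtain ⟨N, hN⟩ := monotone_stabilizes_iff_noetherian.mpr inferInstance ch
  by_cases hfu : IsUnit f
  · exact hfu.mul_left_eq_zero.1 hh
  have hle : ch N ≤ IsLocalRing.maximalIdeal S • ch N := by
    intro a ha
    have ha' : f ^ N * a = 0 := by simpa [ch, mul_comm] using ha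
    obtain ⟨c, rfl⟩ := hann N a ha'
    have hcm : c ∈ ch N := by
      rw [hN (N + 1) (Nat.le_succ N)]
      simp [ch]; linear_combination ha'
    exact Submodule.smul_mem_smul (by simpa using hfu) hcm
  have hbot := Submodule.eq_bot_of_le_smul_of_le_jacobson_bot _ _ (IsNoetherian.noetherian _) hle (IsLocalRing.maximalIdeal_le_jacobson ⊥)
  have : h ∈ ch (N + 1) := by simp [ch, pow_succ]; linear_combination (f ^ N) * hh
  rw [← hN (N + 1) (Nat.le_succ N), hbot] at this
  simpa using this

end Groth.Agent.S9403
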