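import Groth.Statements.S9404
import Mathlib.FieldTheory.PurelyInseparable.Basic
import Mathlib.RingTheory.TensorProduct.Basic
import Mathlib.RingTheory.Flat.Basic
import Mathlib.RingTheory.IntegralClosure.IsIntegral.Basic
import Mathlib.RingTheory.Ideal.GoingUp
import Mathlib.RingTheory.LocalRing.ResidueField.Basic

set_option autoImplicit false
universe u
open CAlg

namespace Groth.Agent.S9404

theorem core {A X Y T : Type*} [CommRing A] [IsLocalRing A] [CommRing X] [IsLocalRing X] [Algebra A X]
    [CommRing Y] [IsLocalRing Y] [Algebra A Y] [IsLocalHom (algebraMap A Y)] [CommRing T] [Algebra A T]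
    (i : X →ₐ[A] T) (j : Y →ₐ[A] T)
    (hcom : ∀ M : Ideal T, M.IsMaximal → M.comap i = IsLocalRing.maximalIdeal X ∧ M.comap j = IsLocalRing.maximalIdeal Y)
    (hgen : ∀ p : T → Prop, p 0 → (∀ x y, p (i x * j y)) → (∀ u v, p u → p v → p (u + v)) → ∀ z, p z)
    (hins : IsPurelyInseparable (IsLocalRing.ResidueField A) (IsLocalRing.ResidueField Y))
    (M N : Ideal T) (hM : M.IsMaximal) (hN : N.IsMaximal) : M ≤ N := by
  obtain ⟨q, hq⟩ := ExpChar.exists (IsLocalRing.ResidueField A)
  have hq0 : 0 < q := expChar_pos (IsLocalRing.ResidueField A) q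
  have main : ∀ z : T, ∃ (n : ℕ) (b : X), ∀ K : Ideal T, K.IsMaximal → z ^ q ^ n - i b ∈ K := by
    refine hgen _ ⟨0, 0, fun K _ => by simp⟩ (fun x y => ?_) (fun u v ⟨n, b, hb⟩ ⟨m, c, hc⟩ => ?_)
    · obtain ⟨n, a, ha⟩ := IsPurelyInseparable.pow_mem (IsLocalRing.ResidueField A) q (IsLocalRing.residue Y y)
      obtain ⟨a, rfl⟩ := IsLocalRing.residue_surjective a
      have hy : y ^ q ^ n - algebraMap A Y a ∈ IsLocalRing.maximalIdeal Y := by
        rw [← IsLocalRing.residue_eq_zero_iff, map_sub, map_pow, sub_eq_zero]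
        exact ha.symm
      refine ⟨n, x ^ q ^ n * algebraMap A X a, fun K hK => ?_⟩
      rw [← (hcom K hK).2] at hy
      have := K.mul_mem_left (i x ^ q ^ n) (show j _ ∈ K from hy)
      simpa [mul_sub, mul_pow, map_sub, map_pow] using this
    · refine ⟨n + m, b ^ q ^ m + c ^ q ^ n, fun K hK => ?_⟩
      haveI := hK
      letI := Ideal.Quotient.field K
      have hA : ∀ a ∈ IsLocalRing.maximalIdeal A, (Ideal.Quotient.mk K).comp (algebraMap A T) a = 0 := fun a ha => by
        rw [RingHom.comp_apply, Ideal.Quotient.eq_zero_iff_mem, ← j.commutes]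
        have h' : algebraMap A Y a ∈ IsLocalRing.maximalIdeal Y := map_nonunit _ a ha
        rw [← (hcom K hK).2] at h'
        exact h'
      let g : IsLocalRing.ResidueField A →+* T ⧸ K := Ideal.Quotient.lift (IsLocalRing.maximalIdeal A) _ hA
      haveI : ExpChar (T ⧸ K) q := expChar_of_injective_ringHom (f := g) g.injective q
      have h1 := Ideal.Quotient.eq.2 (hb K hK)
      have h2 := Ideal.Quotient.eq.2 (hc K hK)
      rw [map_pow] at h1 h2
      rw [← Ideal.Quotient.eq, map_pow, map_add, add_pow_expChar_pow, map_add, map_pow i, map_pow i, map_add, map_pow, map_pow, ← h1, ← h2, ← pow_mul, ← pow_mul, ← pow_add, ← pow_add, add_comm m n]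
  intro z hz
  obtain ⟨n, b, hb⟩ := main z
  have h1 : i b ∈ M := by
    have := M.sub_mem (M.pow_mem_of_mem hz (q ^ n) (pow_pos hq0 n)) (hb M hM)
    rwa [sub_sub_cancel] at this
  have h2 : b ∈ M.comap i := h1
  rw [(hcom M hM).1, ← (hcom N hN).1] at h2
  have h3 := N.add_mem (hb N hN) (show i b ∈ N from h2)
  rw [sub_add_cancel] at h3
  exact hN.isPrime.mem_of_pow_mem _ h3


open TensorProduct in
/-- For local homomorphisms of local rings A → B and A → C with A → C integral, if the residue field of
C or that of B is purely inseparable over the residue field of A, then B ⊗_A C is local and both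
structure maps into it are local. -/
theorem result (A : Type u) [CommRing A]
    [IsLocalRing A] (B : Type u) [CommRing B] [IsLocalRing B] [Algebra A B]
    [IsLocalHom (algebraMap A B)] (C : Type u) [CommRing C] [IsLocalRing C] [Algebra A C]
    [IsLocalHom (algebraMap A C)] [Algebra.IsIntegral A C]
    (h : IsPurelyInseparable (IsLocalRing.ResidueField A) (IsLocalRing.ResidueField C) ∨
      IsPurelyInseparable (IsLocalRing.ResidueField A) (IsLocalRing.ResidueField B)) :
    IsLocalRing (B ⊗[A] C) ∧
      IsLocalHom (Algebra.TensorProduct.includeLeft : B →ₐ[A] B ⊗[A] C).toRingHom ∧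
      IsLocalHom (Algebra.TensorProduct.includeRight : C →ₐ[A] B ⊗[A] C).toRingHom := by
  classical
  let T := TensorProduct A B C
  let iB : B →ₐ[A] T := Algebra.TensorProduct.includeLeft
  let iC : C →ₐ[A] T := Algebra.TensorProduct.includeRight
  have hcom : ∀ M : Ideal T, M.IsMaximal → M.comap iB = IsLocalRing.maximalIdeal B ∧ M.comap iC = IsLocalRing.maximalIdeal C := fun M hM => by
    have hint : Algebra.IsIntegral B T := inferInstance
    have h1 : (M.comap (algebraMap B T)).IsMaximal := Ideal.isMaximal_comap_of_isIntegral_of_isMaximal M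
    have h1' : M.comap iB = IsLocalRing.maximalIdeal B := IsLocalRing.eq_maximalIdeal h1
    refine ⟨h1', ?_⟩
    haveI : (M.comap iC).IsPrime := Ideal.IsPrime.comap iC
    have h2 : (M.comap iC).comap (algebraMap A C) = IsLocalRing.maximalIdeal A := by
      rw [← IsLocalRing.maximalIdeal_comap (algebraMap A B), ← h1']
      ext a
      simp only [Ideal.mem_comap, AlgHom.commutes]
    exact IsLocalRing.eq_maximalIdeal (Ideal.isMaximal_of_isIntegral_of_isMaximal_comap _ (h2 ▸ IsLocalRing.maximalIdeal.isMaximal A))
  haveI : Nontrivial T := by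
    let kA := IsLocalRing.ResidueField A
    let W := TensorProduct kA (IsLocalRing.ResidueField B) (IsLocalRing.ResidueField C)
    haveI : Nontrivial W := (Algebra.TensorProduct.includeLeft_injective (S := kA) (algebraMap kA (IsLocalRing.ResidueField C)).injective).nontrivial
    letI : Algebra A W := ((algebraMap kA W).comp (IsLocalRing.residue A)).toAlgebra
    let fB : B →ₐ[A] W :=
      { toRingHom := (Algebra.TensorProduct.includeLeft : IsLocalRing.ResidueField B →ₐ[kA] W).toRingHom.comp (IsLocalRing.residue B)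
        commutes' := fun a => by
          show (Algebra.TensorProduct.includeLeft : IsLocalRing.ResidueField B →ₐ[kA] W) (algebraMap kA (IsLocalRing.ResidueField B) (IsLocalRing.residue A a)) = _
          rw [AlgHom.commutes]; rfl }
    let fC : C →ₐ[A] W :=
      { toRingHom := (Algebra.TensorProduct.includeRight : IsLocalRing.ResidueField C →ₐ[kA] W).toRingHom.comp (IsLocalRing.residue C)
        commutes' := fun a => by
          show (Algebra.TensorProduct.includeRight : IsLocalRing.ResidueField C →ₐ[kA] W) (algebraMap kA (IsLocalRing.ResidueField C) (IsLocalRing.residue A a)) = _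
          rw [AlgHom.commutes]; rfl }
    exact (Algebra.TensorProduct.productMap fB fC).toRingHom.domain_nontrivial
  have hmul : ∀ (b : B) (c : C), iB b * iC c = TensorProduct.tmul A b c := fun b c => by
    show (TensorProduct.tmul A b (1 : C) : T) * TensorProduct.tmul A (1 : B) c = _
    rw [Algebra.TensorProduct.tmul_mul_tmul, mul_one, one_mul]
  obtain ⟨M, hM⟩ := Ideal.exists_maximal T
  have hle : ∀ N : Ideal T, N.IsMaximal → N = M := fun N hN => by
    refine hN.eq_of_le hM.ne_top ?_
    rcases h with h | h
    · exact core iB iC (fun K hK => hcom K hK) (fun p h0 hm ha z => TensorProduct.induction_on z h0 (fun b c => (hmul b c) ▸ hm b c) ha) h N M hN hM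
    · exact core iC iB (fun K hK => (hcom K hK).symm) (fun p h0 hm ha z => TensorProduct.induction_on z h0 (fun b c => (hmul b c) ▸ (mul_comm (iC c) (iB b)) ▸ hm c b) ha) h N M hN hM
  haveI hloc : IsLocalRing T := IsLocalRing.of_unique_max_ideal ⟨M, hM, hle⟩
  refine ⟨hloc, ⟨fun b hb => ?_⟩, ⟨fun c hc => ?_⟩⟩
  · by_contra hnb
    exact hM.ne_top (M.eq_top_of_isUnit_mem (show iB b ∈ M by
      have : b ∈ M.comap iB := by rw [(hcom M hM).1]; exact hnb
      exact this) hb)
  · by_contra hnc
    exact hM.ne_top (M.eq_top_of_isUnit_mem (show iC c ∈ M by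
      have : c ∈ M.comap iC := by rw [(hcom M hM).2]; exact hnc
      exact this) hc)

end Groth.Agent.S9404
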