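import Groth.Statements.S9405
import Groth.Agent.Hensel.Decomp
import Groth.Agent.Adic.FiniteModule
import Mathlib.RingTheory.Henselian
import Mathlib.RingTheory.Localization.AtPrime.Basic

set_option autoImplicit false
universe u
open CAlg

namespace Groth.Agent.S9405

lemma isAdicComplete_of_le_of_pow_le {A : Type u} [CommRing A] (I J : Ideal A) (k : ℕ) (hk : 1 ≤ k)
    (hIJ : I ≤ J) (hJI : J ^ k ≤ I) [IsAdicComplete I A] : IsAdicComplete J A := by
  have h1 : ∀ n, J ^ (k * n) ≤ I ^ n := fun n => by rw [pow_mul]; exact Ideal.pow_right_mono hJI n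
  haveI : IsHausdorff J A := ⟨fun x hx => IsHausdorff.haus (I := I) inferInstance x fun n => by
    have := hx (k * n)
    rw [SModEq.zero, smul_eq_mul, Ideal.mul_top] at this ⊢
    exact h1 n this⟩
  haveI : IsPrecomplete J A := ⟨fun f hf => by
    simp only [SModEq.sub_mem, smul_eq_mul, Ideal.mul_top] at hf ⊢
    obtain ⟨L, hL⟩ := IsPrecomplete.prec (I := I) inferInstance (f := fun n => f (k * n)) (fun {m n} hmn => by
      rw [SModEq.sub_mem, smul_eq_mul, Ideal.mul_top]
      exact h1 m (hf (Nat.mul_le_mul_left k hmn)))
    refine ⟨L, fun n => ?_⟩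
    have := hL n
    rw [SModEq.sub_mem, smul_eq_mul, Ideal.mul_top] at this
    rw [← sub_add_sub_cancel (f n) (f (k * n)) L]
    exact add_mem (hf (Nat.le_mul_of_pos_left n hk)) (Ideal.pow_right_mono hIJ n this)⟩
  exact ⟨⟩

/-- A module-finite algebra S over a complete Noetherian local ring R is a finite product of complete
Noetherian local rings; precisely, S has finitely many maximal ideals, S maps bijectively onto the
product of its localizations at them, and each of these localizations is Noetherian and complete for
its maximal ideal. -/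
theorem result (R : Type u) [CommRing R]
    [IsLocalRing R] [IsNoetherianRing R] [IsAdicComplete (IsLocalRing.maximalIdeal R) R]
    (S : Type u) [CommRing S] [Algebra R S] [Module.Finite R S] :
    Finite (MaximalSpectrum S) ∧
      Function.Bijective
        (algebraMap S ((m : MaximalSpectrum S) → Localization.AtPrime m.asIdeal)) ∧
      ∀ m : MaximalSpectrum S, IsNoetherianRing (Localization.AtPrime m.asIdeal) ∧
        IsAdicComplete (IsLocalRing.maximalIdeal (Localization.AtPrime m.asIdeal))
          (Localization.AtPrime m.asIdeal) := by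
  classical
  haveI : HenselianLocalRing R := by
    haveI : HenselianRing R (IsLocalRing.maximalIdeal R) := inferInstance
    exact ⟨fun f hf a₀ h₁ h₂ => HenselianRing.is_henselian f hf a₀ h₁ (h₂.map _)⟩
  obtain ⟨_, e, he, hiff⟩ := Groth.Agent.Hensel.Decomp.exists_finite_decomposition (R := R) (S := S)
  have he0 : ∀ M N : MaximalSpectrum S, M ≠ N → algebraMap S (Localization.AtPrime N.asIdeal) (e M) = 0 :=
    fun M N h => (IsLocalization.map_eq_zero_iff N.asIdeal.primeCompl _ _).2
      ⟨⟨e N, (hiff N N).2 rfl⟩, he.ortho (Ne.symm h)⟩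
  have he1 : ∀ M : MaximalSpectrum S, algebraMap S (Localization.AtPrime M.asIdeal) (e M) = 1 := fun M => by
    have := congrArg (algebraMap S (Localization.AtPrime M.asIdeal)) he.complete
    rwa [map_sum, map_one, Finset.sum_eq_single M (fun N _ h => he0 N M h) (by simp)] at this
  have hsurj : ∀ M : MaximalSpectrum S, Function.Surjective (algebraMap S (Localization.AtPrime M.asIdeal)) := by
    intro M x
    obtain ⟨a, s, rfl⟩ := IsLocalization.exists_mk'_eq M.asIdeal.primeCompl x
    have hu : IsUnit ((s : S) * e M + (1 - e M)) := by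
      by_contra hnu
      obtain ⟨N, hN, hmem⟩ := exists_max_ideal_of_mem_nonunits hnu
      have h2 : e M * (1 - e M) ∈ N := by rw [mul_sub, mul_one, (he.idem M).eq, sub_self]; exact zero_mem _
      rcases hN.isPrime.mem_or_mem h2 with h | h
      · rw [add_mem_cancel_left (Ideal.mul_mem_left _ _ h)] at hmem
        exact hN.ne_top ((Ideal.eq_top_iff_one _).2 (by simpa using add_mem hmem h))
      · rw [add_mem_cancel_right h] at hmem
        have hMN : M = ⟨N, hN⟩ := (hiff M ⟨N, hN⟩).1 fun h' =>
          hN.ne_top ((Ideal.eq_top_iff_one _).2 (by simpa using add_mem h h'))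
        rcases hN.isPrime.mem_or_mem hmem with h' | h'
        · subst hMN; exact s.2 h'
        · exact hN.ne_top ((Ideal.eq_top_iff_one _).2 (by simpa using add_mem h h'))
    refine ⟨a * ↑hu.unit⁻¹, ?_⟩
    rw [IsLocalization.eq_mk'_iff_mul_eq, ← map_mul]
    have h3 : algebraMap S (Localization.AtPrime M.asIdeal) ((s : S) * e M + (1 - e M)) =
        algebraMap S (Localization.AtPrime M.asIdeal) s := by simp [he1 M]
    rw [map_mul, ← h3, ← map_mul, mul_assoc, IsUnit.val_inv_mul, mul_one]
  haveI : IsNoetherianRing S := IsNoetherianRing.of_finite R S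
  refine ⟨inferInstance, ⟨?_, ?_⟩, fun M => ⟨inferInstance, ?_⟩⟩
  · rw [injective_iff_map_eq_zero]
    intro x hx
    have h4 : ∀ M, e M * x = 0 := by
      intro M
      by_contra hne
      obtain ⟨N, hN, hle⟩ := Ideal.exists_le_maximal (Ideal.span {e M * x}).annihilator (fun h => hne (by
        have h5 := Submodule.mem_annihilator_span_singleton (R := S) (e M * x) (1 : S)
        rw [one_smul] at h5
        exact h5.1 (h ▸ Submodule.mem_top)))
      obtain ⟨t, ht⟩ := (IsLocalization.map_eq_zero_iff N.primeCompl _ _).1
        (congrFun hx ⟨N, hN⟩)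
      exact t.2 (hle ((Submodule.mem_annihilator_span_singleton _ _).2 (by
        rw [smul_eq_mul, mul_left_comm, ht, mul_zero])))
    rw [← one_mul x, ← he.complete, Finset.sum_mul, Finset.sum_eq_zero fun M _ => h4 M]
  · intro y
    choose a ha using fun M => hsurj M (y M)
    refine ⟨∑ M, e M * a M, funext fun N => ?_⟩
    rw [Pi.algebraMap_apply, map_sum, Finset.sum_eq_single N (fun M _ h => by rw [map_mul, he0 M N h, zero_mul])
      (by simp), map_mul, he1, one_mul, ha]
  · let T := Localization.AtPrime M.asIdeal
    haveI : Module.Finite R T := Module.Finite.of_surjective (IsScalarTower.toAlgHom R S T).toLinearMap (hsurj M)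
    haveI : IsAdicComplete (IsLocalRing.maximalIdeal R) T := Groth.Agent.Adic.FiniteModule.isAdicComplete_of_finite
    haveI : IsAdicComplete ((IsLocalRing.maximalIdeal R).map (algebraMap R T)) T :=
      (IsAdicComplete.map_algebraMap_iff _ _).2 inferInstance
    have hrad : IsLocalRing.maximalIdeal T ≤ ((IsLocalRing.maximalIdeal R).map (algebraMap R T)).radical := by
      rw [Ideal.radical_eq_sInf]
      refine le_sInf fun P hP => ?_
      haveI := hP.2
      have hcm : P.comap (algebraMap R T) = IsLocalRing.maximalIdeal R :=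
        ((IsLocalRing.maximalIdeal.isMaximal R).eq_of_le (Ideal.IsPrime.comap _).ne_top
          (Ideal.map_le_iff_le_comap.1 hP.1)).symm
      have : P.IsMaximal := Ideal.isMaximal_of_isIntegral_of_isMaximal_comap P
        (hcm ▸ IsLocalRing.maximalIdeal.isMaximal R)
      exact (IsLocalRing.eq_maximalIdeal this).ge
    obtain ⟨k, hk⟩ := Ideal.exists_pow_le_of_le_radical_of_fg hrad (IsNoetherian.noetherian _)
    refine isAdicComplete_of_le_of_pow_le _ _ (k + 1) (by omega) ?_ ((Ideal.pow_le_pow_right (by omega)).trans hk)
    rw [Ideal.map_le_iff_le_comap]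
    intro r hr
    have hover : M.asIdeal.comap (algebraMap R S) = IsLocalRing.maximalIdeal R :=
      IsLocalRing.eq_maximalIdeal (Ideal.isMaximal_comap_of_isIntegral_of_isMaximal M.asIdeal)
    rw [← hover] at hr
    rw [Ideal.mem_comap, IsScalarTower.algebraMap_apply R S T,
      IsLocalization.AtPrime.to_map_mem_maximal_iff T M.asIdeal]
    exact hr

end Groth.Agent.S9405
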