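import Groth.Statements.S9406
import Groth.Agent.RegularLocal.GlobalDim
import Groth.Agent.Fpqc.Fppf
import Mathlib.RingTheory.Flat.FaithfullyFlat.Algebra
import Mathlib.RingTheory.Flat.Localization

set_option autoImplicit false
universe u
open CAlg

namespace Groth.Agent.S9406

/-- Regularity descends along faithfully flat ring maps: whenever S is a faithfully flat R-algebra whose
underlying ring is regular, the base ring R is regular as well. -/
theorem result (R : Type u) [CommRing R] (S : Type u) [CommRing S]
    [Algebra R S] [Module.FaithfullyFlat R S] [IsRegularRing S] : IsRegularRing R := by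
  haveI : IsNoetherianRing R := Groth.Agent.Fpqc.Fppf.isNoetherianRing_of_faithfullyFlat R S
  rw [isRegularRing_iff]
  intro p _
  obtain ⟨⟨q, hq⟩, hqp⟩ := PrimeSpectrum.comap_surjective_of_faithfullyFlat (B := S) ⟨p, ‹_›⟩
  haveI : q.LiesOver p := ⟨(congrArg PrimeSpectrum.asIdeal hqp).symm⟩
  letI := Localization.AtPrime.algebraOfLiesOver p q
  haveI : IsRegularLocalRing (Localization.AtPrime q) := IsRegularRing.isRegularLocalRing_localization q
  haveI : Module.Flat (Localization.AtPrime p) (Localization.AtPrime q) := by
    rw [Module.flat_iff_of_isLocalization (Localization.AtPrime p) p.primeCompl]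
    exact Module.Flat.trans R S _
  haveI : IsLocalHom (algebraMap (Localization.AtPrime p) (Localization.AtPrime q)) := by
    rw [Localization.AtPrime.IsLiesOverAlgebra.algebraMap_eq]
    infer_instance
  exact Groth.Agent.RegularLocal.GlobalDim.isRegularLocalRing_of_flat (R := Localization.AtPrime p) (Localization.AtPrime q)

end Groth.Agent.S9406
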