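import Groth.Statements.S9407
import Groth.Agent.HopfRep.GeomReduced
import Mathlib.RingTheory.Smooth.NoetherianDescent
import Mathlib.RingTheory.Ideal.MinimalPrime.Noetherian
import Mathlib.RingTheory.TensorProduct.Pi
import Mathlib.RingTheory.Flat.Basic

set_option autoImplicit false
universe u
open CAlg

namespace Groth.Agent.S9407

open scoped TensorProduct

theorem isReduced_noetherian (R B : Type u) [CommRing R] [CommRing B] [Algebra R B] [Algebra.Smooth R B]
    [IsNoetherianRing R] [IsReduced R] : IsReduced B := by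
  classical
  haveI : Finite (minimalPrimes R) := (minimalPrimes.finite_of_isNoetherianRing R).to_subtype
  haveI hp : ∀ p : minimalPrimes R, p.1.IsPrime := fun p => p.2.1.1
  haveI : Fintype (minimalPrimes R) := Fintype.ofFinite _
  let K : minimalPrimes R → Type u := fun p => FractionRing (R ⧸ p.1)
  let φ : R →ₗ[R] (∀ p, K p) := (Algebra.linearMap R _)
  have hφ : Function.Injective φ := by
    rw [injective_iff_map_eq_zero]
    intro r hr
    refine IsReduced.eq_zero r (nilpotent_iff_mem_prime.2 fun P hP => ?_)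
    obtain ⟨p, hp', hpP⟩ := Ideal.exists_minimalPrimes_le (I := ⊥) (J := P) bot_le
    have h1 : algebraMap R (K ⟨p, hp'⟩) r = 0 := congrFun hr ⟨p, hp'⟩
    rw [IsScalarTower.algebraMap_apply R (R ⧸ p) (K ⟨p, hp'⟩)] at h1
    haveI : p.IsPrime := hp ⟨p, hp'⟩
    have h2 := IsFractionRing.injective (R ⧸ p) (FractionRing (R ⧸ p)) (h1.trans (map_zero _).symm)
    exact hpP (Ideal.Quotient.eq_zero_iff_mem.mp h2)
  refine ⟨fun b hb => ?_⟩
  have hflat : Function.Injective (φ.rTensor B) := Module.Flat.rTensor_preserves_injective_linearMap φ hφ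
  apply (TensorProduct.lid R B).symm.injective
  apply hflat
  apply (TensorProduct.piLeft (R := R) (N := B) (M := K)).injective
  ext p
  haveI : Algebra.Smooth (K p) (K p ⊗[R] B) := inferInstance
  haveI := Groth.Agent.HopfRep.GeomReduced.isReduced_of_smooth_algebra (K p) (K p ⊗[R] B)
  have : (Algebra.TensorProduct.includeRight : B →ₐ[R] K p ⊗[R] B) b = 0 :=
    IsReduced.eq_zero _ (hb.map _)
  simpa [φ] using this

theorem exists_fg_range {A R B : Type u} [CommRing A] [CommRing R] [CommRing B] [Algebra A R] [Algebra A B]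
    (y : R ⊗[A] B) : ∃ s : Finset R,
      y ∈ LinearMap.range ((Algebra.adjoin A (s : Set R)).val.toLinearMap.rTensor B) := by
  classical
  induction y using TensorProduct.induction_on with
  | zero => exact ⟨∅, zero_mem _⟩
  | tmul r b => exact ⟨{r}, ⟨⟨r, Algebra.subset_adjoin (by simp)⟩ ⊗ₜ b, by simp⟩⟩
  | add y z hy hz =>
    obtain ⟨s, hs⟩ := hy
    obtain ⟨t, ht⟩ := hz
    refine ⟨s ∪ t, ?_⟩
    have key : ∀ {u : Finset R} {w : R ⊗[A] B}, u ⊆ s ∪ t →
        w ∈ LinearMap.range ((Algebra.adjoin A (u : Set R)).val.toLinearMap.rTensor B) →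
        w ∈ LinearMap.range ((Algebra.adjoin A ((s ∪ t : Finset R) : Set R)).val.toLinearMap.rTensor B) := by
      rintro u w hu ⟨v, rfl⟩
      refine ⟨(Subalgebra.inclusion (Algebra.adjoin_mono (Finset.coe_subset.mpr hu))).toLinearMap.rTensor B v, ?_⟩
      rw [← LinearMap.comp_apply, ← LinearMap.rTensor_comp]
      rfl
    exact add_mem (key Finset.subset_union_left hs) (key Finset.subset_union_right ht)

/-- Reducedness ascends along smooth ring maps: if R is reduced and S is smooth over R then S is
reduced. -/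
theorem result (R : Type u) [CommRing R] (S : Type u) [CommRing S]
    [Algebra R S] [Algebra.Smooth R S] [IsReduced R] : IsReduced S := by
  obtain ⟨A₀, B₀, _, _, hA₀, hB₀, ⟨e⟩⟩ := Algebra.Smooth.exists_subalgebra_fg ℤ R S
  haveI : IsNoetherianRing A₀ := isNoetherianRing_of_fg hA₀
  refine ⟨fun x hx => ?_⟩
  obtain ⟨s, v, hv⟩ := exists_fg_range (e x)
  let A₁ := Algebra.adjoin A₀ (s : Set R)
  haveI : Algebra.FiniteType A₀ A₁ := (Subalgebra.fg_iff_finiteType A₁).mp (Subalgebra.fg_adjoin_finset s)
  haveI : IsNoetherianRing A₁ := Algebra.FiniteType.isNoetherianRing A₀ A₁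
  haveI : IsReduced A₁ := isReduced_of_injective A₁.val Subtype.val_injective
  haveI := isReduced_noetherian A₁ (A₁ ⊗[A₀] B₀)
  let g := Algebra.TensorProduct.map A₁.val (AlgHom.id A₀ B₀)
  have hg : Function.Injective g :=
    Module.Flat.rTensor_preserves_injective_linearMap (M := B₀) A₁.val.toLinearMap Subtype.val_injective
  have hgv : g v = e x := hv
  obtain ⟨n, hn⟩ := hx
  have hv0 : v = 0 := IsReduced.eq_zero v ⟨n, hg (by rw [map_pow, hgv, ← map_pow, hn, map_zero, map_zero])⟩
  rw [hv0, map_zero] at hgv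
  exact e.injective (by rw [← hgv, map_zero])

end Groth.Agent.S9407
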