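import Groth.Statements.S9414
import Groth.Agent.S9178
import Mathlib.RingTheory.Kaehler.Basic
import Mathlib.RingTheory.Ideal.Cotangent
import Mathlib.RingTheory.Jacobson.Ring
import Mathlib.FieldTheory.IsAlgClosed.Basic

set_option autoImplicit false
universe u
open CAlg

namespace Groth.Agent.S9414

open TensorProduct in
/-- For an algebraically closed field k, a finite type k-algebra S and a maximal ideal m of S with
residue field κ = S/m, the κ-vector spaces κ ⊗_S Ω_{S/k} and m/m² have the same dimension. -/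
theorem result (k : Type u) [Field k]
    [IsAlgClosed k] (S : Type u) [CommRing S] [Algebra k S] [Algebra.FiniteType k S]
    (m : Ideal S) [m.IsMaximal] :
    Module.finrank (S ⧸ m) ((S ⧸ m) ⊗[S] Ω[S⁄k]) = Module.finrank (S ⧸ m) m.Cotangent := by
  letI := Ideal.Quotient.field m
  haveI : Algebra.FiniteType k (S ⧸ m) := Algebra.FiniteType.trans (R := k) (S := S) inferInstance inferInstance
  haveI : Module.Finite k (S ⧸ m) := finite_of_finite_type_of_isJacobsonRing k (S ⧸ m)
  have hsurj : Function.Surjective (algebraMap k (S ⧸ m)) := (IsAlgClosed.algebraMap_bijective_of_isIntegral (k := k) (K := S ⧸ m)).2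
  have hker : RingHom.ker (algebraMap S (S ⧸ m)) = m := Ideal.mk_ker
  have hle : RingHom.ker (algebraMap k (S ⧸ m)) ≤ (RingHom.ker (algebraMap S (S ⧸ m))).comap (Algebra.ofId k S) := fun x hx => by
    rw [Ideal.mem_comap, RingHom.mem_ker, Algebra.ofId_apply, ← IsScalarTower.algebraMap_apply]
    exact hx
  have hex := Groth.Agent.S9178.result k S (S ⧸ m) hsurj hle
  have hinj : Function.Injective (KaehlerDifferential.kerCotangentToTensor k S (S ⧸ m)) := by
    rw [injective_iff_map_eq_zero]
    intro y hy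
    obtain ⟨z, rfl⟩ := (hex y).1 hy
    obtain ⟨⟨a, ha⟩, rfl⟩ := (RingHom.ker (algebraMap k (S ⧸ m))).toCotangent_surjective z
    have : a = 0 := (algebraMap k (S ⧸ m)).injective (by rw [map_zero]; exact ha)
    subst this
    exact (congrArg _ (map_zero (RingHom.ker (algebraMap k (S ⧸ m))).toCotangent)).trans (map_zero _)
  haveI : Subsingleton Ω[(S ⧸ m)⁄k] := KaehlerDifferential.subsingleton_of_surjective k (S ⧸ m) hsurj
  have hsur : Function.Surjective (KaehlerDifferential.kerCotangentToTensor k S (S ⧸ m)) := fun z =>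
    (KaehlerDifferential.exact_kerCotangentToTensor_mapBaseChange k S (S ⧸ m) Ideal.Quotient.mk_surjective z).1 (Subsingleton.elim _ _)
  obtain ⟨e0⟩ : Nonempty (m.Cotangent ≃ₗ[S] (RingHom.ker (algebraMap S (S ⧸ m))).Cotangent) := by
    have : ∀ I : Ideal S, I = m → Nonempty (m.Cotangent ≃ₗ[S] I.Cotangent) := fun I h => h ▸ ⟨LinearEquiv.refl S _⟩
    exact this _ hker
  let e : m.Cotangent ≃ₗ[S] (S ⧸ m) ⊗[S] Ω[S⁄k] :=
    e0.trans (LinearEquiv.ofBijective (KaehlerDifferential.kerCotangentToTensor k S (S ⧸ m)) ⟨hinj, hsur⟩)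
  exact ((e.extendScalarsOfSurjective (R := S) (S := S ⧸ m) Ideal.Quotient.mk_surjective).finrank_eq).symm

end Groth.Agent.S9414
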