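import Groth.Statements.S9416
import Mathlib.RingTheory.Derivation.Basic
import Mathlib.RingTheory.IntegralClosure.IntegrallyClosed
import Mathlib.FieldTheory.IntermediateField.Adjoin.Basic
import Mathlib.Algebra.CharP.Lemmas
import Mathlib.RingTheory.Noetherian.Basic
import Mathlib.FieldTheory.Finite.Basic
import Mathlib.Data.Nat.Prime.Factorial
import Mathlib.RingTheory.Localization.FractionRing

set_option autoImplicit false
universe u
open CAlg

namespace Groth.Agent.S9416


open Polynomial

theorem derivation_pow_p (K : Type u) [Field K] (p : ℕ) [CharP K p] (D : Derivation ℤ K K) (z : K) :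
    D (z ^ p) = 0 := by
  rw [Derivation.leibniz_pow, ← Nat.cast_smul_eq_nsmul K, CharP.cast_eq_zero, zero_smul]

theorem finite_core (R : Type u) [CommRing R] [IsDomain R] [IsNoetherianRing R] [IsIntegrallyClosed R]
    (K : Type u) [Field K] [Algebra R K] [IsFractionRing R K] (p : ℕ) [Fact p.Prime] [CharP K p]
    (D : Derivation ℤ K K) (hD : ∀ r : R, ∃ s : R, D (algebraMap R K r) = algebraMap R K s)
    (a₀ : R) (ha : D (algebraMap R K a₀) ≠ 0)
    (L : Type u) [Field L] [Algebra K L] [Algebra R L] [IsScalarTower R K L] (x : L)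
    (hx : x ^ p = algebraMap K L (algebraMap R K a₀)) (hgen : IntermediateField.adjoin K {x} = ⊤) :
    Module.Finite R (integralClosure R L) := by
  classical
  have hp : p.Prime := Fact.out
  let a := algebraMap R K a₀
  let d := D a
  obtain ⟨d₀, hd₀⟩ := hD a₀
  have hd₀' : d = algebraMap R K d₀ := hd₀
  let S : ℕ → Submodule R K := fun N => (1 : Submodule R K).comap (LinearMap.mulLeft R (d ^ N))
  have hS : ∀ N z, z ∈ S N ↔ ∃ r, algebraMap R K r = d ^ N * z := fun N z => by
    simp [S, Submodule.mem_one]
  have hmono : ∀ {M N}, M ≤ N → ∀ z, z ∈ S M → z ∈ S N := fun {M N} hMN z hz => by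
    obtain ⟨r, hr⟩ := (hS M z).mp hz
    obtain ⟨c, rfl⟩ := Nat.exists_eq_add_of_le hMN
    exact (hS _ z).mpr ⟨d₀ ^ c * r, by rw [map_mul, map_pow, hr, ← hd₀', pow_add]; ring⟩
  let E : K → K := fun z => d⁻¹ * D z
  have hd0 : d ≠ 0 := ha
  have hE : ∀ N z, z ∈ S N → E z ∈ S (N + 2) := fun N z hz => by
    obtain ⟨r, hr⟩ := (hS N z).mp hz
    obtain ⟨s, hs⟩ := hD r
    obtain ⟨t, ht⟩ := hD d₀
    refine (hS _ _).mpr ⟨s * d₀ - N • (t * r), ?_⟩
    have h1 : D (d ^ N * z) = algebraMap R K s := by rw [← hr]; exact hs
    rw [Derivation.leibniz, Derivation.leibniz_pow] at h1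
    have ht' : D d = algebraMap R K t := by rw [hd₀']; exact ht
    rw [ht'] at h1
    simp only [smul_eq_mul, nsmul_eq_mul] at h1
    simp only [map_sub, map_mul, map_nsmul, nsmul_eq_mul, map_natCast, ← h1, hr, ← hd₀', E]
    rcases N with _ | N
    · rw [Nat.cast_zero, zero_add, pow_zero]; field_simp; ring
    · rw [Nat.add_sub_cancel]; field_simp; ring
  haveI : CharP L p := charP_of_injective_algebraMap (algebraMap K L).injective p
  let e : ℕ := 2 * p
  let M : Submodule R L := Submodule.span R ↑((Finset.range p).image fun i => algebraMap K L (d ^ e)⁻¹ * x ^ i)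
  suffices hle : Subalgebra.toSubmodule (integralClosure R L) ≤ M by
    haveI : Module.Finite R M := Module.Finite.iff_fg.mpr (Submodule.fg_span (Finset.finite_toSet _))
    exact Module.Finite.of_injective (Submodule.inclusion hle) (Submodule.inclusion_injective hle)
  intro y hy
  have hxint : IsIntegral K x := IsIntegral.of_pow hp.pos (hx ▸ isIntegral_algebraMap)
  obtain ⟨q₀, hq₀⟩ : ∃ q₀ : K[X], aeval x q₀ = y := by
    have h1 : y ∈ (IntermediateField.adjoin K {x}).toSubalgebra := by rw [hgen]; trivial
    rw [IntermediateField.adjoin_simple_toSubalgebra_of_isAlgebraic hxint.isAlgebraic,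
      Algebra.adjoin_singleton_eq_range_aeval] at h1
    exact h1
  have hm : (X ^ p - C a : K[X]).Monic := monic_X_pow_sub_C a hp.ne_zero
  let q := q₀ %ₘ (X ^ p - C a)
  have hroot : aeval x (X ^ p - C a : K[X]) = 0 := by simp [hx, a]
  have hq : aeval x q = y := by rw [← hq₀, ← aeval_modByMonic_eq_self_of_root (p := q₀) hroot]
  have hdeg : q.natDegree < p := by
    have h1 : (X ^ p - C a : K[X]).natDegree = p := natDegree_X_pow_sub_C
    have := natDegree_modByMonic_lt q₀ hm (by intro h; rw [h] at h1; simp at h1; exact hp.ne_zero h1.symm)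
    rwa [h1] at this
  let c := q.coeff
  have hy' : y = ∑ i ∈ Finset.range p, algebraMap K L (c i) * x ^ i := by
    rw [← hq, aeval_eq_sum_range' hdeg]
    simp [c, Algebra.smul_def]
  let s := ∑ i ∈ Finset.range p, c i ^ p * a ^ i
  have hys : y ^ p = algebraMap K L s := by
    rw [hy', sum_pow_char p, map_sum]
    refine Finset.sum_congr rfl fun i _ => ?_
    rw [mul_pow, ← pow_mul, mul_comm i p, pow_mul, hx, map_mul, map_pow, map_pow]
  have hsR : s ∈ S 0 := by
    have h1 : IsIntegral R (algebraMap K L s) := hys ▸ IsIntegral.pow hy p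
    rw [isIntegral_algebraMap_iff (algebraMap K L).injective] at h1
    obtain ⟨r, hr⟩ := IsIntegrallyClosed.isIntegral_iff.mp h1
    exact (hS 0 s).mpr ⟨r, by rw [hr, pow_zero, one_mul]⟩
  have hit : ∀ j, (E^[j]) s ∈ S (2 * j) := fun j => by
    induction j with
    | zero => exact hsR
    | succ j ih => rw [Function.iterate_succ_apply']; exact hE _ _ ih
  have hform : ∀ j, (E^[j]) s = ∑ i ∈ Finset.range p, c i ^ p * (i.descFactorial j : K) * a ^ (i - j) := fun j => by
    induction j with
    | zero => simp [s]
    | succ j ih =>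
      rw [Function.iterate_succ_apply', ih]
      simp only [E, map_sum, Finset.mul_sum]
      refine Finset.sum_congr rfl fun i _ => ?_
      rw [Derivation.leibniz, Derivation.leibniz, derivation_pow_p K p D, Derivation.map_natCast,
        Derivation.leibniz_pow, Nat.descFactorial_succ, Nat.sub_sub]
      simp only [smul_eq_mul, nsmul_eq_mul, mul_zero, zero_mul, add_zero, zero_add, Nat.cast_mul]
      show d⁻¹ * (c i ^ p * (i.descFactorial j : K) * (((i - j : ℕ) : K) * (a ^ (i - (j + 1)) * d))) = _
      rw [show D a = d from rfl] at *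
      field_simp
  have hcp : ∀ n i, p - i ≤ n → i < p → c i ^ p ∈ S e := by
    intro n
    induction n with
    | zero => intro i h1 h2; omega
    | succ n ih =>
      intro i h1 h2
      have hrest : ∀ l ∈ (Finset.range p).erase i, c l ^ p * (l.descFactorial i : K) * a ^ (l - i) ∈ S e := by
        intro l hl
        rw [Finset.mem_erase, Finset.mem_range] at hl
        rcases Nat.lt_or_ge l i with hli | hli
        · rw [Nat.descFactorial_eq_zero_iff_lt.mpr hli, Nat.cast_zero, mul_zero, zero_mul]; exact zero_mem _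
        · have h3 := ih l (by omega) hl.2
          have : c l ^ p * (l.descFactorial i : K) * a ^ (l - i) = ((l.descFactorial i : R) * a₀ ^ (l - i)) • c l ^ p := by
            rw [Algebra.smul_def, map_mul, map_natCast, map_pow]; ring
          rw [this]; exact Submodule.smul_mem _ _ h3
      have hi : c i ^ p * (i.factorial : K) ∈ S e := by
        have h4 := hform i
        rw [← Finset.add_sum_erase _ _ (Finset.mem_range.mpr h2), Nat.descFactorial_self, Nat.sub_self, pow_zero,
          mul_one, eq_comm, ← eq_sub_iff_add_eq] at h4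
        rw [h4]
        exact sub_mem (hmono (by omega) _ (hit i)) (Submodule.sum_mem _ hrest)
      have hone : (i.factorial : K) ^ (p - 1) = 1 := by
        have hne : ((i.factorial : ℕ) : ZMod p) ≠ 0 := by
          rw [Ne, ZMod.natCast_eq_zero_iff, hp.dvd_factorial]; omega
        have := congrArg (ZMod.castHom (dvd_refl p) K) (ZMod.pow_card_sub_one_eq_one hne)
        simpa using this
      have h5 := Submodule.smul_mem _ ((i.factorial : R) ^ (p - 2)) hi
      rw [Algebra.smul_def, map_pow, map_natCast, mul_comm (c i ^ p), ← mul_assoc, ← pow_succ,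
        show p - 2 + 1 = p - 1 by have := hp.two_le; omega, hone, one_mul] at h5
      exact h5
  have hc : ∀ i, i < p → ∃ r, algebraMap R K r = d ^ e * c i := fun i hi => by
    obtain ⟨r, hr⟩ := (hS _ _).mp (hcp p i (Nat.sub_le p i) hi)
    obtain ⟨q', hq'⟩ : ∃ q', p = q' + 1 := ⟨p - 1, by have := hp.pos; omega⟩
    have h1 : IsIntegral R (d ^ e * c i) := IsIntegral.of_pow hp.pos (by
      rw [show (d ^ e * c i) ^ p = algebraMap R K (d₀ ^ (e * q') * r) by
        rw [map_mul, map_pow, ← hd₀', hr, hq']; ring]
      exact isIntegral_algebraMap)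
    exact IsIntegrallyClosed.isIntegral_iff.mp h1
  rw [hy']
  refine Submodule.sum_mem _ fun i hi => ?_
  obtain ⟨r, hr⟩ := hc i (Finset.mem_range.mp hi)
  have : algebraMap K L (c i) * x ^ i = r • (algebraMap K L (d ^ e)⁻¹ * x ^ i) := by
    rw [Algebra.smul_def, IsScalarTower.algebraMap_apply R K L, hr, ← mul_assoc, ← map_mul,
      mul_comm (d ^ e) (c i), mul_assoc, mul_inv_cancel₀ (pow_ne_zero _ ha), mul_one]
  rw [this]
  exact Submodule.smul_mem _ _ (Submodule.subset_span (Finset.mem_image_of_mem _ hi))

/-- Suppose R is a normal Noetherian domain whose field of fractions K has prime characteristic p > 0, D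
a derivation of K preserving R, and a ∈ K with D(a) ≠ 0. For a field L generated over K by an
element x with x^p = a, the integral closure of R in L is module-finite over R. -/
theorem result (R : Type u) [CommRing R]
    [IsDomain R] [IsNoetherianRing R] [IsIntegrallyClosed R] (K : Type u) [Field K] [Algebra R K]
    [IsFractionRing R K] (p : ℕ) [Fact p.Prime] [CharP K p] (D : Derivation ℤ K K)
    (hD : ∀ r : R, ∃ s : R, D (algebraMap R K r) = algebraMap R K s) (a : K) (ha : D a ≠ 0)
    (L : Type u) [Field L] [Algebra K L] [Algebra R L] [IsScalarTower R K L] (x : L)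
    (hx : x ^ p = algebraMap K L a) (hgen : IntermediateField.adjoin K {x} = ⊤) :
    Module.Finite R (integralClosure R L) := by
  obtain ⟨u, v, hv, rfl⟩ := IsFractionRing.div_surjective (A := R) a
  have hv0 : algebraMap R K v ≠ 0 := by
    rw [Ne, IsFractionRing.to_map_eq_zero_iff]; exact nonZeroDivisors.ne_zero hv
  obtain ⟨q, hq⟩ : ∃ q, p = q + 1 := ⟨p - 1, by have := (Fact.out : p.Prime).pos; omega⟩
  have ha' : algebraMap R K (u * v ^ q) = algebraMap R K u / algebraMap R K v * algebraMap R K v ^ p := by
    rw [map_mul, map_pow, hq, pow_succ]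
    field_simp
  refine finite_core R K p D hD (u * v ^ q) ?_ L (algebraMap R L v * x) ?_ ?_
  · rw [ha', Derivation.leibniz, derivation_pow_p K p D, smul_zero, zero_add, smul_eq_mul]
    exact mul_ne_zero (pow_ne_zero _ hv0) ha
  · rw [mul_pow, hx, ha', map_mul, map_pow, ← IsScalarTower.algebraMap_apply, mul_comm]
  · rw [eq_top_iff, ← hgen, IntermediateField.adjoin_le_iff, Set.singleton_subset_iff, SetLike.mem_coe]
    have h1 := IntermediateField.mem_adjoin_simple_self K (algebraMap R L v * x)
    have h2 := (IntermediateField.adjoin K {algebraMap R L v * x}).algebraMap_mem (algebraMap R K v)⁻¹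
    have := mul_mem h2 h1
    rw [IsScalarTower.algebraMap_apply R K L v] at this ⊢
    rwa [← mul_assoc, ← map_mul, inv_mul_cancel₀ hv0, map_one, one_mul] at this

end Groth.Agent.S9416
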