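import Groth.Statements.S9421
import Groth.Agent.Alg.ColimEtale

set_option autoImplicit false
universe u
open CAlg

namespace Groth.Agent.S9421

open TensorProduct in
/-- Let (A_i) be a directed system of A₀-algebras with colimit A (given by compatible maps A_i → A which
are jointly surjective and whose kernels die in the system), and B₀ → C₀ a homomorphism of
A₀-algebras with C₀ of finite presentation over B₀. If the base change of B₀ → C₀ along B₀ → B₀
⊗_{A₀} A is étale, then already its base change along B₀ → B₀ ⊗_{A₀} A_i is étale for some index i. -/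
theorem result {ι : Type u} [Preorder ι] [IsDirected ι (· ≤ ·)] [Nonempty ι]
    (A₀ : Type u) [CommRing A₀] (G : ι → Type u) [∀ i, CommRing (G i)] [∀ i, Algebra A₀ (G i)]
    (f : ∀ i j, i ≤ j → (G i →ₐ[A₀] G j)) (A : Type u) [CommRing A] [Algebra A₀ A]
    (g : ∀ i, G i →ₐ[A₀] A) (hg : ∀ i j (h : i ≤ j), (g j).comp (f i j h) = g i)
    (hsurj : ∀ a : A, ∃ i, ∃ x : G i, g i x = a)
    (hker : ∀ i (x : G i), g i x = 0 → ∃ j, ∃ h : i ≤ j, f i j h x = 0)
    (B₀ : Type u) [CommRing B₀] [Algebra A₀ B₀] (C₀ : Type u) [CommRing C₀] [Algebra A₀ C₀]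
    [Algebra B₀ C₀] [IsScalarTower A₀ B₀ C₀] [Algebra.FinitePresentation B₀ C₀]
    (h : Algebra.Etale (B₀ ⊗[A₀] A) ((B₀ ⊗[A₀] A) ⊗[B₀] C₀)) :
    ∃ i, Algebra.Etale (B₀ ⊗[A₀] G i) ((B₀ ⊗[A₀] G i) ⊗[B₀] C₀) := by
  have hN : Groth.Agent.Alg.ColimSystem.IsColim (fun i j (ρ : G i →ₐ[A₀] G j) => (g j).comp ρ = g i) g := by
    refine ⟨fun i => AlgHom.comp_id _, fun i j k ρ σ hρ hσ => ?_, fun i j ρ hρ => hρ, hsurj, fun i j => ?_, fun i x hx => ?_⟩
    · show (g k).comp (σ.comp ρ) = g i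
      rw [← AlgHom.comp_assoc, hσ, hρ]
    · obtain ⟨k, hik, hjk⟩ := exists_ge_ge i j
      exact ⟨k, f i k hik, f j k hjk, hg i k hik, hg j k hjk⟩
    · obtain ⟨j, hij, hj⟩ := hker i x hx
      exact ⟨j, f i j hij, hg i j hij, hj⟩
  haveI := h
  exact Groth.Agent.Alg.ColimEtale.exists_etale (hN.tensor B₀)

end Groth.Agent.S9421
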