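import Groth.Statements.S9425
import Mathlib

set_option autoImplicit false
set_option linter.style.haveILetI false
universe u
open CAlg

namespace Groth.Agent.S9425

/-- A directed colimit of formally étale R-algebras is formally étale over R. The colimit is encoded by
compatible R-algebra maps S_i → S which are jointly surjective and whose kernels die further along
the system. -/
theorem result {ι : Type u} [Preorder ι] [IsDirected ι (· ≤ ·)] [Nonempty ι]
    (R : Type u) [CommRing R] (G : ι → Type u) [∀ i, CommRing (G i)] [∀ i, Algebra R (G i)]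
    (f : ∀ i j, i ≤ j → (G i →ₐ[R] G j)) (S : Type u) [CommRing S] [Algebra R S]
    (g : ∀ i, G i →ₐ[R] S) (hg : ∀ i j (h : i ≤ j), (g j).comp (f i j h) = g i)
    (hsurj : ∀ s : S, ∃ i, ∃ x : G i, g i x = s)
    (hker : ∀ i (x : G i), g i x = 0 → ∃ j, ∃ h : i ≤ j, f i j h x = 0)
    (h : ∀ i, Algebra.FormallyEtale R (G i)) : Algebra.FormallyEtale R S := by
  rw [Algebra.FormallyEtale.iff_comp_bijective]
  intro B _ _ I hI
  constructor
  · intro a b hab
    ext s
    obtain ⟨i, x, rfl⟩ := hsurj s
    haveI := h i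
    have := (Algebra.FormallyEtale.comp_bijective R (G i) I hI).1 (a₁ := a.comp (g i)) (a₂ := b.comp (g i))
      (by rw [← AlgHom.comp_assoc, ← AlgHom.comp_assoc]; exact congrArg (fun z : S →ₐ[R] B ⧸ I => z.comp (g i)) hab)
    exact AlgHom.congr_fun this x
  · intro φ
    have hl : ∀ i, ∃! l : G i →ₐ[R] B, (Ideal.Quotient.mkₐ R I).comp l = φ.comp (g i) := fun i => by
      haveI := h i
      exact (Algebra.FormallyEtale.comp_bijective R (G i) I hI).existsUnique _
    choose l hl1 hl2 using hl
    have hcomp : ∀ i j (hij : i ≤ j), (l j).comp (f i j hij) = l i := fun i j hij =>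
      hl2 i _ (by dsimp only; rw [← AlgHom.comp_assoc, hl1 j, AlgHom.comp_assoc, hg i j hij])
    have hwd : ∀ i j (x : G i) (y : G j), g i x = g j y → l i x = l j y := by
      intro i j x y hxy
      obtain ⟨m, him, hjm⟩ := exists_ge_ge i j
      have h0 : g m (f i m him x - f j m hjm y) = 0 := by
        rw [map_sub, ← AlgHom.comp_apply, ← AlgHom.comp_apply (g m) (f j m hjm), hg, hg, hxy, sub_self]
      obtain ⟨n, hmn, hn⟩ := hker m _ h0
      have := congrArg (l n) hn
      rw [← AlgHom.comp_apply, hcomp, map_sub, map_zero, ← AlgHom.comp_apply, ← AlgHom.comp_apply (l m) (f j m hjm), hcomp, hcomp, sub_eq_zero] at this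
      exact this
    choose ix xs hxs using hsurj
    have hψ : ∀ i x, l (ix (g i x)) (xs (g i x)) = l i x := fun i x => hwd _ _ _ _ (hxs _)
    let ψ : S →ₐ[R] B :=
      { toFun := fun s => l (ix s) (xs s)
        map_one' := by rw [hwd _ (ix 1) _ 1 (by rw [hxs, map_one]), map_one]
        map_zero' := by rw [hwd _ (ix 0) _ 0 (by rw [hxs, map_zero]), map_zero]
        map_mul' := fun a b => by
          obtain ⟨m, ha, hb⟩ := exists_ge_ge (ix a) (ix b)
          rw [hwd _ m _ (f _ m ha (xs a) * f _ m hb (xs b)) (by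
            rw [map_mul, ← AlgHom.comp_apply, ← AlgHom.comp_apply (g m) (f _ m hb), hg, hg, hxs, hxs, hxs]),
            map_mul, ← AlgHom.comp_apply, ← AlgHom.comp_apply (l m) (f _ m hb), hcomp, hcomp]
        map_add' := fun a b => by
          obtain ⟨m, ha, hb⟩ := exists_ge_ge (ix a) (ix b)
          rw [hwd _ m _ (f _ m ha (xs a) + f _ m hb (xs b)) (by
            rw [map_add, ← AlgHom.comp_apply, ← AlgHom.comp_apply (g m) (f _ m hb), hg, hg, hxs, hxs, hxs]),
            map_add, ← AlgHom.comp_apply, ← AlgHom.comp_apply (l m) (f _ m hb), hcomp, hcomp]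
        commutes' := fun r => by
          rw [hwd _ (ix 1) _ (algebraMap R _ r) (by rw [hxs, AlgHom.commutes]), AlgHom.commutes] }
    refine ⟨ψ, AlgHom.ext fun s => ?_⟩
    show Ideal.Quotient.mkₐ R I (l (ix s) (xs s)) = φ s
    rw [← AlgHom.comp_apply, hl1, AlgHom.comp_apply, hxs]

end Groth.Agent.S9425
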