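import Groth.Statements.S9430
import Groth.Agent.SyntLib.Smooth
import Groth.Agent.Segre.Param
import Mathlib.RingTheory.Localization.Away.AdjoinRoot
import Mathlib.RingTheory.Jacobson.Ring
import Mathlib.RingTheory.Polynomial.Quotient

set_option autoImplicit false
universe u
open Synt

namespace Groth.Agent.S9430

variable {k : Type u} [Field k] {K : Type u} [Field K] [Algebra k K]

/-- a presentation whose number of relations is the codimension -/
def Presented (A : Subalgebra k K) : Prop :=
  ∃ (n c : ℕ) (φ : MvPolynomial (Fin n) k →ₐ[k] K) (r : Fin c → MvPolynomial (Fin n) k),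
    φ.range = A ∧ RingHom.ker φ.toRingHom = Ideal.span (Set.range r) ∧
      ∃ d : ℕ, ringKrullDim A = (d : WithBot ℕ∞) ∧ d + c = n

theorem finiteType_of_presented {A : Subalgebra k K} (hA : Presented A) : Algebra.FiniteType k A := by
  obtain ⟨n, c, φ, r, rfl, -, -⟩ := hA
  exact Algebra.FiniteType.of_surjective φ.rangeRestrict φ.rangeRestrict_surjective

theorem adjoin_iso (A : Subalgebra k K) (e : K) (I : Ideal (Polynomial A))
    (h : RingHom.ker (Polynomial.aeval e : Polynomial A →ₐ[A] K).toRingHom = I) :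
    Nonempty ((Polynomial A ⧸ I) ≃+* ((Polynomial.aeval e : Polynomial A →ₐ[A] K).range.restrictScalars k)) := by
  subst h
  exact ⟨(Ideal.quotEquivOfEq (by ext x; simp [RingHom.mem_ker, AlgHom.rangeRestrict, Subtype.ext_iff])).trans
    (Ideal.quotientKerAlgEquivOfSurjective
      (f := (Polynomial.aeval e : Polynomial A →ₐ[A] K).rangeRestrict) (AlgHom.rangeRestrict_surjective _)).toRingEquiv⟩

theorem presented_step (A : Subalgebra k K) (hA : Presented A) (e : K) (m : ℕ) (gs : Fin m → Polynomial A)
    (hker : RingHom.ker (Polynomial.aeval e : Polynomial A →ₐ[A] K).toRingHom = Ideal.span (Set.range gs))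
    (hdim : ∀ d : ℕ, ringKrullDim A = (d : WithBot ℕ∞) → ∃ d' : ℕ,
      ringKrullDim (Polynomial A ⧸ Ideal.span (Set.range gs)) = (d' : WithBot ℕ∞) ∧ d' + m = d + 1) :
    Presented ((Polynomial.aeval e : Polynomial A →ₐ[A] K).range.restrictScalars k) := by
  obtain ⟨n, c, φ, r, rfl, hr, d, hd, hdc⟩ := hA
  obtain ⟨d', hd', hdm⟩ := hdim d hd
  let μ : Polynomial (MvPolynomial (Fin n) k) →ₐ[k] Polynomial φ.range := Polynomial.mapAlgHom φ.rangeRestrict
  have hμ : Function.Surjective μ := Polynomial.map_surjective _ φ.rangeRestrict_surjective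
  let η := MvPolynomial.finSuccEquiv k n
  let ψ : MvPolynomial (Fin (n + 1)) k →ₐ[k] K :=
    ((Polynomial.aeval e : Polynomial φ.range →ₐ[φ.range] K).restrictScalars k).comp (μ.comp η.toAlgHom)
  choose G hG using fun i => hμ (gs i)
  let r' : Fin (c + m) → MvPolynomial (Fin (n + 1)) k :=
    Fin.append (fun i => η.symm (Polynomial.C (r i))) (fun i => η.symm (G i))
  refine ⟨n + 1, c + m, ψ, r', ?_, ?_, d', ?_, by omega⟩
  · apply SetLike.coe_injective
    have hs : Function.Surjective (μ ∘ η) := hμ.comp η.surjective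
    show Set.range ((Polynomial.aeval e) ∘ (μ ∘ η)) = Set.range (Polynomial.aeval e)
    exact hs.range_comp _
  · have h1 : RingHom.ker ψ.toRingHom = Ideal.comap η.toRingEquiv
        (Ideal.comap μ.toRingHom (RingHom.ker (Polynomial.aeval e : Polynomial φ.range →ₐ[φ.range] K).toRingHom)) := rfl
    have h2 : Ideal.comap μ.toRingHom (Ideal.span (Set.range gs)) =
        Ideal.span (Set.range G ∪ Polynomial.C '' Set.range r) := by
      have : Ideal.span (Set.range gs) = Ideal.map μ.toRingHom (Ideal.span (Set.range G)) := by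
        rw [Ideal.map_span, ← Set.range_comp]
        congr 2
        exact funext fun i => (hG i).symm
      rw [this, Ideal.comap_map_of_surjective' μ.toRingHom hμ, Ideal.span_union]
      congr 1
      show RingHom.ker (Polynomial.mapRingHom φ.rangeRestrict.toRingHom) = _
      rw [Polynomial.ker_mapRingHom, show RingHom.ker φ.rangeRestrict.toRingHom = RingHom.ker φ.toRingHom from by
        ext x; simp [RingHom.mem_ker, AlgHom.rangeRestrict, Subtype.ext_iff], hr, Ideal.map_span]
    rw [h1, hker, h2, ← Ideal.map_symm, Ideal.map_span]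
    congr 1
    rw [Set.image_union, ← Set.range_comp, ← Set.range_comp, ← Set.range_comp, Set.union_comm]
    ext x
    constructor
    · rintro (⟨i, rfl⟩ | ⟨i, rfl⟩)
      · exact ⟨Fin.castAdd m i, Fin.append_left _ _ i⟩
      · exact ⟨Fin.natAdd c i, Fin.append_right _ _ i⟩
    · rintro ⟨i, rfl⟩
      induction i using Fin.addCases with
      | left i => exact Or.inl ⟨i, (Fin.append_left _ _ i).symm⟩
      | right i => exact Or.inr ⟨i, (Fin.append_right _ _ i).symm⟩
  · obtain ⟨iso⟩ := adjoin_iso φ.range e _ hker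
    exact (ringKrullDim_eq_of_ringEquiv iso).symm.trans hd'

theorem le_step (A : Subalgebra k K) (e : K) :
    A ≤ (Polynomial.aeval e : Polynomial A →ₐ[A] K).range.restrictScalars k ∧
      e ∈ (Polynomial.aeval e : Polynomial A →ₐ[A] K).range.restrictScalars k :=
  ⟨fun x hx => ⟨Polynomial.C ⟨x, hx⟩, Polynomial.aeval_C _ _⟩, ⟨Polynomial.X, Polynomial.aeval_X _⟩⟩

theorem dim_away (A : Subalgebra k K) [Algebra.FiniteType k A] (s : A) (hs : s ≠ 0) :
    ringKrullDim (Localization.Away s) = ringKrullDim A := by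
  refine le_antisymm (Groth.Agent.SyntLib.ringKrullDim_le_of_quasiFinite A _) ?_
  haveI : IsJacobsonRing A := isJacobsonRing_of_finiteType (A := k) (B := A)
  obtain ⟨M, hM, hsM⟩ : ∃ M : Ideal A, M.IsMaximal ∧ s ∉ M := by
    by_contra h
    push Not at h
    have h1 : s ∈ (⊥ : Ideal A).jacobson := by
      rw [Ideal.jacobson, Submodule.mem_sInf]
      exact fun J hJ => h J hJ.2
    rw [IsJacobsonRing.out' ⊥ Ideal.isPrime_bot.isRadical] at h1
    exact hs h1
  haveI := hM
  have hdisj : Disjoint (Submonoid.powers s : Set A) (M : Set A) := by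
    rw [Set.disjoint_left]
    rintro _ ⟨i, rfl⟩ hi
    exact hsM (hM.isPrime.mem_of_pow_mem i hi)
  haveI := IsLocalization.isPrime_of_isPrime_disjoint (Submonoid.powers s) (Localization.Away s) M hM.isPrime hdisj
  refine (Groth.Agent.GenDim.ringKrullDim_le_height k A M).trans ?_
  rw [← IsLocalization.height_map_of_disjoint (S := Localization.Away s) (Submonoid.powers s) M hdisj]
  exact Ideal.height_le_ringKrullDim_of_ne_top Ideal.IsPrime.ne_top'

theorem presented_away (A : Subalgebra k K) (hA : Presented A) (s : A) (hs : s ≠ 0) :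
    Presented ((Polynomial.aeval (s : K)⁻¹ : Polynomial A →ₐ[A] K).range.restrictScalars k) := by
  haveI := finiteType_of_presented hA
  have hs' : (s : K) ≠ 0 := fun h => hs (Subtype.ext h)
  let g : Polynomial A := Polynomial.C s * Polynomial.X - 1
  have hg : Polynomial.aeval (s : K)⁻¹ g = 0 := by
    simp [g, Subalgebra.algebraMap_def, hs']
  let Θ : AdjoinRoot g →ₐ[A] K := AdjoinRoot.liftAlgHom g (Algebra.ofId A K) (s : K)⁻¹ hg
  let Ψ : Localization.Away s →ₐ[A] K := Θ.comp (Localization.awayEquivAdjoin s).toAlgHom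
  have hΨ : Function.Injective Ψ := by
    rw [injective_iff_map_eq_zero]
    intro x hx
    obtain ⟨⟨a, t⟩, e⟩ := IsLocalization.surj (Submonoid.powers s) x
    have : algebraMap A K a = 0 := by
      rw [← Ψ.commutes, ← e, map_mul, hx, zero_mul]
    rw [(Subtype.ext this : a = 0), map_zero] at e
    exact (IsLocalization.map_units (Localization.Away s) t).mul_left_eq_zero.1 e
  have hΘ : Function.Injective Θ := by
    intro x y hxy
    apply (Localization.awayEquivAdjoin s).symm.injective
    apply hΨ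
    simpa [Ψ] using hxy
  refine presented_step A hA _ 1 (fun _ => g) ?_ fun d hd => ⟨d, ?_, rfl⟩
  · rw [Set.range_const]
    ext h
    rw [RingHom.mem_ker, ← Ideal.Quotient.eq_zero_iff_mem]
    refine Iff.trans ?_ (map_eq_zero_iff Θ hΘ)
    show _ ↔ Θ (AdjoinRoot.mk g h) = 0
    rw [AdjoinRoot.liftAlgHom_mk]
    rfl
  · rw [Set.range_const, ← hd, ← dim_away A s hs]
    exact (ringKrullDim_eq_of_ringEquiv (Localization.awayEquivAdjoin s).toRingEquiv).symm

theorem exists_pow_mul_mem (A : Subalgebra k K) (s : A) (x : K)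
    (hx : x ∈ (Polynomial.aeval (s : K)⁻¹ : Polynomial A →ₐ[A] K).range) : ∃ N : ℕ, (s : K) ^ N * x ∈ A := by
  obtain ⟨h, rfl⟩ := hx
  induction h using Polynomial.induction_on' with
  | add p q hp hq =>
    obtain ⟨N, hN⟩ := hp
    obtain ⟨M, hM⟩ := hq
    refine ⟨N + M, ?_⟩
    change (s : K) ^ (N + M) * (Polynomial.aeval (s : K)⁻¹ (p + q)) ∈ A
    rw [map_add, mul_add]
    refine A.add_mem ?_ ?_
    · rw [pow_add, mul_comm ((s : K) ^ N), mul_assoc]
      exact A.mul_mem (A.pow_mem s.2 _) hN
    · rw [pow_add, mul_assoc]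
      exact A.mul_mem (A.pow_mem s.2 _) hM
  | monomial i a =>
    refine ⟨i, ?_⟩
    show (s : K) ^ i * Polynomial.aeval (s : K)⁻¹ (Polynomial.monomial i a) ∈ A
    rw [Polynomial.aeval_monomial, inv_pow, mul_left_comm]
    rcases eq_or_ne ((s : K) ^ i) 0 with h | h
    · simp [h]
    · rw [mul_inv_cancel₀ h, mul_one]
      exact a.2

theorem presented_monic (B : Subalgebra k K) (hB : Presented B) (e : K) (g : Polynomial B) (hg : g.Monic)
    (hker : RingHom.ker (Polynomial.aeval e : Polynomial B →ₐ[B] K).toRingHom = Ideal.span {g}) :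
    Presented ((Polynomial.aeval e : Polynomial B →ₐ[B] K).range.restrictScalars k) := by
  refine presented_step B hB e 1 (fun _ => g) (by rwa [Set.range_const]) fun d hd => ⟨d, ?_, rfl⟩
  rw [Set.range_const, ← hd]
  haveI := hg.finite_quotient
  refine (Groth.Agent.Segre.Param.ringKrullDim_eq_of_isIntegral
    (algebraMap B (Polynomial B ⧸ Ideal.span {g})) (algebraMap_isIntegral_iff.2 inferInstance) ?_).symm
  intro x y hxy
  have h : Polynomial.C x - Polynomial.C y ∈ Ideal.span {g} := Ideal.Quotient.eq.1 hxy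
  rw [← hker, RingHom.mem_ker] at h
  have h' : (x : K) - (y : K) = 0 := by simpa [Subalgebra.algebraMap_def] using h
  exact Subtype.ext (sub_eq_zero.1 h')

theorem exists_presented (A : Subalgebra k K) (hA : Presented A) (e : K) :
    ∃ B : Subalgebra k K, Presented B ∧ A ≤ B ∧ e ∈ B := by
  classical
  by_cases hinj : Function.Injective (Polynomial.aeval e : Polynomial A →ₐ[A] K)
  · haveI := finiteType_of_presented hA
    haveI : IsNoetherianRing A := Algebra.FiniteType.isNoetherianRing k A
    refine ⟨_, presented_step A hA e 0 Fin.elim0 ?_ (fun d hd => ⟨d + 1, ?_, rfl⟩), le_step A e⟩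
    · rw [Set.range_eq_empty, Ideal.span_empty]
      exact (RingHom.injective_iff_ker_eq_bot _).1 hinj
    · rw [Set.range_eq_empty, Ideal.span_empty, ringKrullDim_eq_of_ringEquiv (RingEquiv.quotientBot _),
        Polynomial.ringKrullDim_of_isNoetherianRing, hd]
      norm_cast
  rw [injective_iff_map_eq_zero] at hinj
  push Not at hinj
  obtain ⟨h0, h0e, h0ne⟩ := hinj
  obtain ⟨g, hge, hgne, hmin⟩ : ∃ g : Polynomial A, Polynomial.aeval e g = 0 ∧ g ≠ 0 ∧
      ∀ h : Polynomial A, Polynomial.aeval e h = 0 → h ≠ 0 → g.natDegree ≤ h.natDegree := by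
    have hS : ∃ n, ∃ g : Polynomial A, Polynomial.aeval e g = 0 ∧ g ≠ 0 ∧ g.natDegree = n := ⟨_, h0, h0e, h0ne, rfl⟩
    obtain ⟨g, hge, hgne, hn⟩ := Nat.find_spec hS
    exact ⟨g, hge, hgne, fun h h1 h2 => hn ▸ Nat.find_min' hS ⟨h, h1, h2, rfl⟩⟩
  let s := g.leadingCoeff
  have hs : s ≠ 0 := Polynomial.leadingCoeff_ne_zero.2 hgne
  have hs' : (s : K) ≠ 0 := fun h => hs (Subtype.ext h)
  let A' := (Polynomial.aeval (s : K)⁻¹ : Polynomial A →ₐ[A] K).range.restrictScalars k
  obtain ⟨hAA', hsA'⟩ := le_step A (s : K)⁻¹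
  have hA' : Presented A' := presented_away A hA s hs
  let ι : A →+* A' := (Subalgebra.inclusion hAA').toRingHom
  let si : A' := ⟨(s : K)⁻¹, hsA'⟩
  let g' : Polynomial A' := Polynomial.C si * g.map ι
  have hιinj : Function.Injective ι := Subalgebra.inclusion_injective hAA'
  have hg' : g'.Monic := by
    show g'.leadingCoeff = 1
    rw [Polynomial.leadingCoeff_mul, Polynomial.leadingCoeff_C, Polynomial.leadingCoeff_map_of_injective hιinj]
    exact Subtype.ext (inv_mul_cancel₀ hs')
  have haev : ∀ h : Polynomial A, Polynomial.aeval e (h.map ι) = Polynomial.aeval e h := fun h => by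
    rw [Polynomial.aeval_def, Polynomial.eval₂_map, Polynomial.aeval_def]
    rfl
  have hg'e : Polynomial.aeval e g' = 0 := by
    simp [g', haev, hge]
  refine ⟨_, presented_monic A' hA' e g' hg' ?_, hAA'.trans (le_step A' e).1, (le_step A' e).2⟩
  refine le_antisymm (fun h hh => ?_) (by rw [Ideal.span_le, Set.singleton_subset_iff]; exact hg'e)
  rw [Ideal.mem_span_singleton, ← Polynomial.modByMonic_eq_zero_iff_dvd hg']
  by_contra hr
  let r := h %ₘ g'
  have hre : Polynomial.aeval e r = 0 := by
    have := congrArg (Polynomial.aeval e) (Polynomial.modByMonic_add_div h g')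
    rw [map_add, map_mul, hg'e, zero_mul, add_zero] at this
    exact this.trans hh
  have hrdeg : r.natDegree < g.natDegree := by
    have h1 : g'.natDegree ≤ g.natDegree :=
      (Polynomial.natDegree_C_mul_le _ _).trans (Polynomial.natDegree_map_le)
    refine lt_of_lt_of_le (Polynomial.natDegree_modByMonic_lt h hg' ?_) h1
    intro h1g
    exact hr ((congrArg (h %ₘ ·) h1g).trans (Polynomial.modByMonic_one h))
  -- clear denominators
  obtain ⟨N, hN⟩ : ∃ N : ℕ, ∀ i, (s : K) ^ N * (r.coeff i : K) ∈ A := by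
    choose N hN using fun i => exists_pow_mul_mem A s (r.coeff i : K) (r.coeff i).2
    refine ⟨∑ i ∈ r.support, N i, fun i => ?_⟩
    by_cases hi : i ∈ r.support
    · obtain ⟨M, hM⟩ := Nat.exists_eq_add_of_le (Finset.single_le_sum (f := N) (fun _ _ => Nat.zero_le _) hi)
      rw [hM, pow_add, mul_comm ((s : K) ^ N i), mul_assoc]
      exact A.mul_mem (A.pow_mem s.2 _) (hN i)
    · simp [Polynomial.notMem_support_iff.1 hi]
  obtain ⟨r₀, hr₀⟩ : ∃ r₀ : Polynomial A, r₀.map ι = Polynomial.C (ι s ^ N) * r := by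
    refine (Polynomial.mem_lifts _).1 ((Polynomial.lifts_iff_coeff_lifts _).2 fun i => ⟨⟨_, hN i⟩, ?_⟩)
    rw [Polynomial.coeff_C_mul]
    rfl
  have hr₀e : Polynomial.aeval e r₀ = 0 := by
    rw [← haev, hr₀, map_mul, hre, mul_zero]
  have hr₀d : r₀.natDegree < g.natDegree := by
    rw [← Polynomial.natDegree_map_eq_of_injective hιinj r₀, hr₀]
    exact lt_of_le_of_lt (Polynomial.natDegree_C_mul_le _ _) hrdeg
  have hr₀0 : r₀ = 0 := by
    by_contra hne
    exact absurd (hmin r₀ hr₀e hne) (not_le.2 hr₀d)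
  rw [hr₀0, Polynomial.map_zero, eq_comm, mul_eq_zero, Polynomial.C_eq_zero] at hr₀
  rcases hr₀ with h1 | h1
  · exact hs (hιinj ((pow_eq_zero_iff'.1 h1).1.trans (map_zero ι).symm))
  · exact hr h1

theorem presented_bot : Presented (⊥ : Subalgebra k K) := by
  refine ⟨0, 0, MvPolynomial.aeval Fin.elim0, Fin.elim0, ?_, ?_, 0, ?_, rfl⟩
  · rw [← Algebra.adjoin_range_eq_range_aeval, Set.range_eq_empty, Algebra.adjoin_empty]
  · rw [Set.range_eq_empty, Ideal.span_empty]
    refine (RingHom.injective_iff_ker_eq_bot _).1 ?_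
    intro x y hxy
    obtain ⟨a, rfl⟩ := MvPolynomial.C_surjective (Fin 0) x
    obtain ⟨b, rfl⟩ := MvPolynomial.C_surjective (Fin 0) y
    have : algebraMap k K a = algebraMap k K b := by simpa using hxy
    rw [(algebraMap k K).injective this]
  · rw [ringKrullDim_eq_of_ringEquiv (Algebra.botEquiv k K).toRingEquiv]
    exact ringKrullDim_eq_zero_of_field k

/-- For a field extension K/k, every finite subset of K lies in a k-subalgebra of K which is a global
complete intersection over k; so K is the directed union of its k-subalgebras that are global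
complete intersections over k. -/
theorem result (k : Type u) [Field k] (K : Type u)
    [Field K] [Algebra k K] (E : Finset K) :
    ∃ A : Subalgebra k K, (↑E : Set K) ⊆ (A : Set K) ∧ Synt.IsGlobalCI k A := by
  classical
  have key : ∀ E : Finset K, ∃ A : Subalgebra k K, Presented A ∧ (↑E : Set K) ⊆ (A : Set K) := by
    intro E
    induction E using Finset.induction_on with
    | empty => exact ⟨⊥, presented_bot, by simp⟩
    | insert e E _ ih =>
      obtain ⟨A, hA, hE⟩ := ih
      obtain ⟨B, hB, hAB, he⟩ := exists_presented A hA e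
      exact ⟨B, hB, by rw [Finset.coe_insert]; exact Set.insert_subset he (hE.trans hAB)⟩
  obtain ⟨A, ⟨n, c, φ, r, rfl, hr, d, hd, hdc⟩, hE⟩ := key E
  refine ⟨φ.range, hE, Or.inr ⟨n, c, by omega, φ.rangeRestrict, r, φ.rangeRestrict_surjective, ?_, ?_⟩⟩
  · rw [← hr]
    ext x
    simp [RingHom.mem_ker, AlgHom.rangeRestrict, Subtype.ext_iff]
  · rw [hd, show n - c = d by omega]

end Groth.Agent.S9430
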