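import Groth.Statements.S9431
import Groth.Agent.Alg.PBasis.SmoothIff
import Mathlib.RingTheory.Smooth.Locus

set_option autoImplicit false
universe u
open CAlg

namespace Groth.Agent.S9431

/-- For a separable (geometrically reduced) field extension K/k, every finite subset of K lies in a
k-subalgebra of K which is smooth over k; in particular K is a filtered colimit of smooth
k-algebras. -/
theorem result (k : Type u) [Field k]
    (K : Type u) [Field K] [Algebra k K] [Algebra.IsGeometricallyReduced k K] (E : Finset K) :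
    ∃ A : Subalgebra k K, (↑E : Set K) ⊆ (A : Set K) ∧ Algebra.Smooth k A := by
  classical
  let A₀ : Subalgebra k K := Algebra.adjoin k (↑E : Set K)
  haveI : Algebra.FiniteType k A₀ := (Subalgebra.fg_iff_finiteType A₀).1 ⟨E, rfl⟩
  haveI : Algebra.FinitePresentation k A₀ := Algebra.FinitePresentation.of_finiteType.1 inferInstance
  have hinj : Function.Injective (algebraMap A₀ K) := Subtype.val_injective
  let ψ : FractionRing A₀ →ₐ[k] K := IsFractionRing.liftAlgHom (g := A₀.val) hinj
  haveI : Algebra.IsGeometricallyReduced k (FractionRing A₀) :=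
    Algebra.IsGeometricallyReduced.of_injective ψ ψ.toRingHom.injective
  haveI : Algebra.FormallySmooth k (FractionRing A₀) :=
    (Groth.Agent.Alg.PBasis.formallySmooth_iff_geometricallyReduced k _).2 inferInstance
  let η : PrimeSpectrum A₀ := ⟨⊥, Ideal.isPrime_bot⟩
  have hpc : (⊥ : Ideal A₀).primeCompl = nonZeroDivisors A₀ := by
    ext x
    simp [Ideal.primeCompl, mem_nonZeroDivisors_iff_ne_zero]
  haveI : IsLocalization (⊥ : Ideal A₀).primeCompl (FractionRing A₀) := by rw [hpc]; infer_instance
  have hη : η ∈ Algebra.smoothLocus k A₀ :=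
    Algebra.FormallySmooth.of_equiv ((IsLocalization.algEquiv (⊥ : Ideal A₀).primeCompl (FractionRing A₀) (Localization.AtPrime (⊥ : Ideal A₀))).restrictScalars k)
  obtain ⟨_, ⟨_, ⟨f, rfl⟩, rfl⟩, hfη, hsub⟩ :=
    PrimeSpectrum.isBasis_basic_opens.exists_subset_of_mem_open hη Algebra.isOpen_smoothLocus
  have hf : f ≠ 0 := fun h => hfη (by simp [h])
  haveI hsm : Algebra.Smooth k (Localization.Away f) := Algebra.basicOpen_subset_smoothLocus_iff_smooth.1 hsub
  have hu : ∀ y : Submonoid.powers f, IsUnit (A₀.val y) := by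
    rintro ⟨_, n, rfl⟩
    refine isUnit_iff_ne_zero.2 ?_
    simpa using pow_ne_zero n hf
  let φ : Localization.Away f →ₐ[k] K := IsLocalization.liftAlgHom hu
  have hφa : ∀ a : A₀, φ (algebraMap A₀ (Localization.Away f) a) = (a : K) := fun a => IsLocalization.lift_eq hu a
  have hφ : Function.Injective φ := by
    rw [injective_iff_map_eq_zero]
    intro z hz
    obtain ⟨a, s, rfl⟩ := IsLocalization.exists_mk'_eq (Submonoid.powers f) z
    have h2 : φ (algebraMap A₀ _ a) = 0 := by
      rw [← IsLocalization.mk'_spec (Localization.Away f) a s, map_mul, hz, zero_mul]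
    rw [hφa] at h2
    have : a = 0 := Subtype.ext h2
    rw [this, IsLocalization.mk'_zero]
  refine ⟨φ.range, fun e he => ?_, Algebra.Smooth.of_equiv (AlgEquiv.ofInjective φ hφ)⟩
  exact ⟨algebraMap A₀ _ ⟨e, Algebra.subset_adjoin he⟩, hφa _⟩

end Groth.Agent.S9431
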