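import Groth.Statements.S9434
import Groth.Agent.EtAlg.FiniteFlatCover

set_option autoImplicit false
universe u
open CAlg

namespace Groth.Agent.S9434

/-- Let R → S be a local homomorphism of local rings with S the localization of an étale R-algebra at a
prime. Then there is a finite, finitely presented, faithfully flat R-algebra S' such that for every
maximal ideal m' of S' the structure map R → S'_{m'} factors through some R-algebra map S → S'_{m'}. -/
theorem result (R : Type u) [CommRing R] [IsLocalRing R] (T : Type u) [CommRing T] [Algebra R T]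
    [Algebra.Etale R T] (q : Ideal T) [q.IsPrime] (S : Type u) [CommRing S] [IsLocalRing S]
    [Algebra T S] [IsLocalization.AtPrime S q] [Algebra R S] [IsScalarTower R T S]
    [IsLocalHom (algebraMap R S)] :
    ∃ (S' : Type u) (_ : CommRing S') (_ : Algebra R S'),
      Module.Finite R S' ∧ Algebra.FinitePresentation R S' ∧ Module.FaithfullyFlat R S' ∧
        ∀ (m' : Ideal S') [m'.IsMaximal], Nonempty (S →ₐ[R] Localization.AtPrime m') := by
  obtain ⟨A, _, _, hfin, hfp, hff, h⟩ := EtAlg.FiniteFlatCover.exists_cover_etale R T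
  refine ⟨A, inferInstance, inferInstance, hfin, hfp, hff, fun m' hm' => ?_⟩
  have hq : q.under R = IsLocalRing.maximalIdeal R := by
    rw [← IsLocalization.AtPrime.under_maximalIdeal S q, Ideal.under_under]
    exact ((IsLocalRing.local_hom_TFAE (algebraMap R S)).out 0 4 rfl rfl).mp ‹_›
  have hm : m'.under R = IsLocalRing.maximalIdeal R :=
    IsLocalRing.eq_maximalIdeal (Ideal.isMaximal_comap_of_isIntegral_of_isMaximal m')
  obtain ⟨g, hg, φ, hφ⟩ := h q m' (hm.trans hq.symm)
  let L := Localization.AtPrime m'
  let ν : Localization.Away g →ₐ[R] L :=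
    IsLocalization.liftAlgHom (M := Submonoid.powers g) (f := IsScalarTower.toAlgHom R A L)
      (fun y => by
        obtain ⟨k, hk⟩ := y.2
        rw [← hk, map_pow]
        exact (IsLocalization.map_units L (⟨g, hg⟩ : m'.primeCompl)).pow k)
  have hν : ∀ y, ν (algebraMap A _ y) = algebraMap A L y := fun y =>
    IsLocalization.lift_eq (M := Submonoid.powers g) _ y
  refine ⟨IsLocalization.liftAlgHom (M := q.primeCompl) (f := ν.comp φ) fun s => ?_⟩
  have hs : φ (s : T) ∉ m'.map (algebraMap A (Localization.Away g)) := fun hmem =>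
    s.2 (hφ.le (Ideal.mem_comap.mpr hmem))
  obtain ⟨⟨z, w⟩, hzw⟩ := IsLocalization.surj (Submonoid.powers g) (φ (s : T))
  have hz : z ∉ m' := fun hz => hs (by
    have := Ideal.mem_map_of_mem (algebraMap A (Localization.Away g)) hz
    rw [← hzw] at this
    exact (Ideal.mul_unit_mem_iff_mem _ (IsLocalization.map_units _ w)).mp this)
  have h1 : IsUnit (ν (φ s) * ν (algebraMap A _ w)) := by
    rw [← map_mul, hzw, hν]
    exact IsLocalization.map_units L (⟨z, hz⟩ : m'.primeCompl)
  exact isUnit_of_mul_isUnit_left h1

end Groth.Agent.S9434
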