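import Groth.Statements.S9435
import Mathlib.RingTheory.Etale.StandardEtale
import Mathlib.FieldTheory.PrimitiveElement
import Mathlib.RingTheory.Localization.Integral
import Mathlib.RingTheory.LocalRing.ResidueField.Ideal
import Mathlib.FieldTheory.Minpoly.Field

set_option autoImplicit false
universe u
open CAlg

namespace Groth.Agent.S9435

/-- Given a prime p of a ring R and a finite separable extension L of κ(p), there is an étale R-algebra
R' with a prime p' over p whose residue field is κ(p)-isomorphic to L. Stated through an R-algebra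
map ψ : R' → L whose image generates the field L: its kernel is such a prime p' and the induced
κ(p') → L is then an isomorphism over κ(p). -/
theorem result (R : Type u) [CommRing R]
    (p : Ideal R) [p.IsPrime] (L : Type u) [Field L] [Algebra p.ResidueField L] [Algebra R L]
    [IsScalarTower R p.ResidueField L] [Module.Finite p.ResidueField L]
    [Algebra.IsSeparable p.ResidueField L] :
    ∃ (R' : Type u) (_ : CommRing R') (_ : Algebra R R') (_ : Algebra.Etale R R') (ψ : R' →ₐ[R] L),
      Subfield.closure (Set.range ψ) = ⊤ := by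
  classical
  obtain ⟨β, hβ⟩ := Field.exists_primitive_element p.ResidueField L
  set κ := p.ResidueField
  set m := minpoly κ β with hm
  have hint : IsIntegral κ β := IsIntegral.of_finite κ β
  have hmm : m.Monic := minpoly.monic hint
  obtain ⟨s, hs⟩ := Ideal.Quotient.mk_surjective
    (IsLocalization.commonDenom (nonZeroDivisors (R ⧸ p)) m.support m.coeff : R ⧸ p)
  have hs0 : algebraMap R κ s ≠ 0 := by
    rw [← Ideal.algebraMap_quotient_residueField_mk, hs]
    exact (IsLocalization.map_units κ
      (IsLocalization.commonDenom (nonZeroDivisors (R ⧸ p)) m.support m.coeff)).ne_zero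
  have hlift : m.scaleRoots (algebraMap R κ s) ∈ Polynomial.lifts (algebraMap R κ) := by
    have h1 := IsLocalization.scaleRoots_commonDenom_mem_lifts (nonZeroDivisors (R ⧸ p)) m
      (by rw [hmm.leadingCoeff]; exact one_mem _)
    rw [← hs, Ideal.algebraMap_quotient_residueField_mk, Polynomial.lifts_iff_coeff_lifts] at h1
    rw [Polynomial.lifts_iff_coeff_lifts]
    intro n
    obtain ⟨r, hr⟩ := h1 n
    obtain ⟨r, rfl⟩ := Ideal.Quotient.mk_surjective r
    exact ⟨r, by rw [← hr, Ideal.algebraMap_quotient_residueField_mk]⟩
  obtain ⟨F, hF, -, hFm⟩ :=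
    Polynomial.lifts_and_natDegree_eq_and_monic hlift ((Polynomial.monic_scaleRoots_iff _).2 hmm)
  let P : StandardEtalePair R := ⟨F, hFm, Polynomial.derivative F, ⟨1, 0, 1, by simp⟩⟩
  set b : L := algebraMap R L s * β with hb
  have hmap : P.HasMap b := by
    have hzero : Polynomial.aeval b (m.scaleRoots (algebraMap R κ s)) = 0 := by
      rw [hb, IsScalarTower.algebraMap_apply R κ L]
      exact Polynomial.scaleRoots_aeval_eq_zero (minpoly.aeval κ β)
    refine ⟨?_, ?_⟩
    · show Polynomial.aeval b F = 0
      rw [← Polynomial.aeval_map_algebraMap κ, hF, hzero]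
    · show IsUnit (Polynomial.aeval b (Polynomial.derivative F))
      rw [isUnit_iff_ne_zero, ← Polynomial.aeval_map_algebraMap κ, ← Polynomial.derivative_map, hF]
      intro h
      have hirr : m.scaleRoots (algebraMap R κ s) = minpoly κ b := by
        refine minpoly.unique κ b ((Polynomial.monic_scaleRoots_iff _).2 hmm) hzero fun q hq hq0 => ?_
        have hβq : Polynomial.aeval β (q.scaleRoots (algebraMap R κ s)⁻¹) = 0 := by
          have h2 := Polynomial.scaleRoots_aeval_eq_zero (r := (algebraMap R κ s)⁻¹) hq0
          rwa [hb, IsScalarTower.algebraMap_apply R κ L, ← mul_assoc, ← map_mul,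
            inv_mul_cancel₀ hs0, map_one, one_mul] at h2
        have h3 := Polynomial.natDegree_le_natDegree
          (minpoly.min κ β ((Polynomial.monic_scaleRoots_iff _).2 hq) hβq)
        rw [Polynomial.natDegree_scaleRoots, ← hm] at h3
        rw [Polynomial.degree_eq_natDegree hq.ne_zero,
          Polynomial.degree_eq_natDegree ((Polynomial.monic_scaleRoots_iff _).2 hmm).ne_zero,
          Polynomial.natDegree_scaleRoots]
        exact_mod_cast h3
      rw [hirr] at h
      exact ((Algebra.IsSeparable.isSeparable κ b).aeval_derivative_ne_zero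
        (minpoly.aeval κ b)) h
  refine ⟨P.Ring, inferInstance, inferInstance, inferInstance, P.lift b hmap, ?_⟩
  set ψ := P.lift b hmap
  rw [eq_top_iff]
  have hR : ∀ r : R, algebraMap R L r ∈ Subfield.closure (Set.range ψ) := fun r =>
    Subfield.subset_closure ⟨algebraMap R _ r, ψ.commutes r⟩
  have hκ : ∀ k : κ, algebraMap κ L k ∈ Subfield.closure (Set.range ψ) := by
    intro k
    obtain ⟨a, c, hc, rfl⟩ := IsFractionRing.div_surjective (A := R ⧸ p) k
    obtain ⟨a, rfl⟩ := Ideal.Quotient.mk_surjective a
    obtain ⟨c, rfl⟩ := Ideal.Quotient.mk_surjective c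
    rw [map_div₀, Ideal.algebraMap_quotient_residueField_mk,
      Ideal.algebraMap_quotient_residueField_mk, ← IsScalarTower.algebraMap_apply,
      ← IsScalarTower.algebraMap_apply]
    exact div_mem (hR a) (hR c)
  have hβmem : β ∈ Subfield.closure (Set.range ψ) := by
    have hb' : b ∈ Subfield.closure (Set.range ψ) :=
      Subfield.subset_closure ⟨P.X, P.lift_X b hmap⟩
    have hs' : algebraMap R L s ≠ 0 := by
      rw [IsScalarTower.algebraMap_apply R κ L]
      exact (map_ne_zero _).2 hs0
    rw [show β = b / algebraMap R L s by rw [hb, mul_div_cancel_left₀ _ hs']]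
    exact div_mem hb' (hR s)
  intro z _
  have hz : z ∈ (IntermediateField.adjoin κ {β}).toSubfield := by rw [hβ]; trivial
  rw [IntermediateField.adjoin_toSubfield] at hz
  refine Subfield.closure_le.2 ?_ hz
  rintro w (⟨k, rfl⟩ | rfl)
  · exact hκ k
  · exact hβmem

end Groth.Agent.S9435
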