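import Groth.Statements.S9437
import Groth.Agent.FibreDepth.FlatSk

set_option autoImplicit false
set_option backward.isDefEq.respectTransparency false
set_option linter.style.haveILetI false
universe u
open CAlg

namespace Groth.Agent.S9437

/-- Serre's condition (S_k) descends along faithfully flat ring maps: if S is faithfully flat over R,
Noetherian and (S_k), then R is Noetherian and (S_k). -/
theorem result (k : ℕ) (R : Type u) [CommRing R] (S : Type u) [CommRing S]
    [Algebra R S] [Module.FaithfullyFlat R S] [IsNoetherianRing S] (hS : LocCoh.HasSk k S S) :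
    IsNoetherianRing R ∧ LocCoh.HasSk k R R := by
  haveI hR : IsNoetherianRing R := by
    have : StrictMono (Ideal.map (algebraMap R S) : Ideal R → Ideal S) :=
      Monotone.strictMono_of_injective (fun _ _ h => Ideal.map_mono h) Ideal.map_injective_of_faithfullyFlat
    exact isNoetherian_iff'.mpr this.wellFoundedGT
  refine ⟨hR, (Groth.Agent.IdealDepth.Serre.hasSk_self_iff R k).mpr fun p _ => ?_⟩
  obtain ⟨Q, hQ, hQp⟩ := Ideal.exists_isPrime_liesOver_of_faithfullyFlat (B := S) p
  have hpQ : p.map (algebraMap R S) ≤ Q := Ideal.map_le_iff_le_comap.mpr hQp.over.le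
  obtain ⟨P, hP, hPQ⟩ := Ideal.exists_minimalPrimes_le hpQ
  haveI := hP.1.1
  have hc : P.comap (algebraMap R S) = p := le_antisymm
    ((Ideal.comap_mono hPQ).trans hQp.over.ge) (Ideal.map_le_iff_le_comap.mp hP.1.2)
  haveI := Groth.Agent.FibreDepth.FlatSk.isLocalRing_fib (R := R) P
  obtain ⟨c, hdim, hht, hd, hle⟩ := Groth.Agent.FibreDepth.FlatSk.facts (R := R) P
  subst hc
  haveI : P.LiesOver (P.comap (algebraMap R S)) := ⟨rfl⟩
  have hh := Ideal.height_eq_height_add_of_liesOver_of_hasGoingDown (P.comap (algebraMap R S)) P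
  have h0 : (P.map (Ideal.Quotient.mk ((P.comap (algebraMap R S)).map (algebraMap R S)))).height = 0 := by
    haveI : (P.map (Ideal.Quotient.mk ((P.comap (algebraMap R S)).map (algebraMap R S)))).IsPrime :=
      Ideal.map_isPrime_of_surjective Ideal.Quotient.mk_surjective (by rw [Ideal.mk_ker]; exact hP.1.2)
    rw [Ideal.height_eq_zero_iff, minimalPrimes_eq_minimals]
    refine ⟨inferInstance, fun I hI hle' => ?_⟩
    haveI : I.IsPrime := hI
    have h1 := hP.2 ⟨Ideal.IsPrime.comap (Ideal.Quotient.mk _),
      Ideal.mk_ker.symm.le.trans (Ideal.comap_mono bot_le)⟩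
      ((Ideal.comap_mono hle').trans_eq (by
        rw [Ideal.comap_map_of_surjective' _ Ideal.Quotient.mk_surjective, Ideal.mk_ker, sup_eq_left]
        exact hP.1.2))
    rw [← Ideal.map_comap_of_surjective _ Ideal.Quotient.mk_surjective I]
    exact Ideal.map_mono h1
  rw [h0, add_zero] at hh
  obtain ⟨a, ha⟩ := ENat.ne_top_iff_exists.mp (Ideal.height_ne_top (I := P.comap (algebraMap R S)) Ideal.IsPrime.ne_top')
  rw [hh, ← ha] at hht
  have hc0 : c = 0 := ((ENat.addLECancellable_natCast a).inj.mp ((add_zero _).trans hht)).symm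
  have hk := (Groth.Agent.IdealDepth.Serre.hasSk_self_iff S k).mp hS P
  rw [hd, hh] at hk
  rw [hc0, nonpos_iff_eq_zero] at hle
  rw [hle, add_zero] at hk
  exact hk

end Groth.Agent.S9437
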