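import Groth.Statements.S9443
import Groth.Agent.WQ8.CompleteRegular
import Groth.Agent.WQ8.PowerSeries

set_option autoImplicit false
universe u
open CAlg

namespace Groth.Agent.S9443

/-- A complete regular local ring R with a coefficient field k (a subfield mapping isomorphically onto
the residue field) is k-isomorphic to a power series ring over k in finitely many variables
(existence of an isomorphism only; the number of variables is then the dimension of R). -/
theorem result (R : Type u)
    [CommRing R] [IsRegularLocalRing R] [IsAdicComplete (IsLocalRing.maximalIdeal R) R]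
    (k : Type u) [Field k] [Algebra k R]
    (hk : Function.Bijective (algebraMap k (IsLocalRing.ResidueField R))) :
    ∃ d : ℕ, Nonempty (R ≃ₐ[k] MvPowerSeries (Fin d) k) := by
  obtain ⟨l, hl, hgen⟩ := Groth.Agent.RegularLocal.Basic.exists_list_of_fg (IsLocalRing.maximalIdeal R).fg_of_isNoetherianRing
  have hx : Ideal.span (Set.range fun i : Fin l.length => l[i]) = IsLocalRing.maximalIdeal R := by
    rw [← hgen]
    refine congrArg Ideal.span (Set.ext fun y => ?_)
    simp [List.mem_iff_get]
  obtain ⟨φ, hφ, -⟩ := Groth.Agent.WQ8.exists_aeval (k := k) (fun i : Fin l.length => l[i]) fun i => by rw [← hgen]; exact Ideal.subset_span (List.getElem_mem i.2)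
  have hn : ringKrullDim R = (l.length : ℕ) := by rw [hl, ← ((isRegularLocalRing_iff R).mp inferInstance)]
  exact ⟨l.length, ⟨(AlgEquiv.ofBijective φ (Groth.Agent.WQ8.bijective_of_regular hn hk.2 _ hx φ hφ)).symm⟩⟩

end Groth.Agent.S9443
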