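import Groth.Statements.S9456
import Groth.Agent.Flat.ModuleModel
import Mathlib.Algebra.Module.FinitePresentation
import Mathlib.Algebra.Module.Torsion.Basic

set_option autoImplicit false
universe u
open CAlg

namespace Groth.Agent.S9456

/-- Let R → S be of finite presentation and M a finitely presented S-module which is flat over R. Then
the triple descends to a finite type ℤ-algebra: there are R₀ of finite type over ℤ with R₀ → R, a
finite type R₀-algebra S₀ with a compatible map S₀ → S making S the base change R ⊗_{R₀} S₀, and a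
finite S₀-module M₀ flat over R₀ with an S₀-linear map M₀ → M making M the base change S ⊗_{S₀} M₀. -/
theorem result (R : Type u) [CommRing R]
    (S : Type u) [CommRing S] [Algebra R S] [Algebra.FinitePresentation R S] (M : Type u)
    [AddCommGroup M] [Module S M] [Module R M] [IsScalarTower R S M]
    [Module.FinitePresentation S M] [Module.Flat R M] :
    ∃ (R₀ : Type u) (_ : CommRing R₀) (_ : Algebra R₀ R) (S₀ : Type u) (_ : CommRing S₀)
      (_ : Algebra R₀ S₀) (_ : Algebra S₀ S) (_ : Algebra R₀ S) (_ : IsScalarTower R₀ R S)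
      (_ : IsScalarTower R₀ S₀ S) (M₀ : Type u) (_ : AddCommGroup M₀) (_ : Module S₀ M₀)
      (_ : Module R₀ M₀) (_ : IsScalarTower R₀ S₀ M₀) (_ : Module S₀ M) (_ : IsScalarTower S₀ S M)
      (f : M₀ →ₗ[S₀] M),
      Algebra.FiniteType ℤ R₀ ∧ Algebra.FiniteType R₀ S₀ ∧ Module.Finite S₀ M₀ ∧ Module.Flat R₀ M₀ ∧
        Algebra.IsPushout R₀ R S₀ S ∧ IsBaseChange S f := by
  classical
  obtain ⟨n, π, hπ, hker⟩ := (inferInstance : Algebra.FinitePresentation R S).out
  letI : Algebra (MvPolynomial (Fin n) R) S := π.toRingHom.toAlgebra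
  have : IsScalarTower R (MvPolynomial (Fin n) R) S :=
    IsScalarTower.of_algebraMap_eq fun r => (π.commutes r).symm
  letI : Module (MvPolynomial (Fin n) R) M := Module.compHom M π.toRingHom
  have : IsScalarTower (MvPolynomial (Fin n) R) S M :=
    IsScalarTower.of_algebraMap_smul fun _ _ => rfl
  have : IsScalarTower R (MvPolynomial (Fin n) R) M := IsScalarTower.of_algebraMap_smul fun r m => by
    show π (algebraMap R _ r) • m = r • m
    rw [π.commutes, algebraMap_smul]
  have : Module.FinitePresentation (MvPolynomial (Fin n) R) S :=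
    Module.finitePresentation_of_surjective (Algebra.linearMap (MvPolynomial (Fin n) R) S) hπ hker
  have : Module.FinitePresentation (MvPolynomial (Fin n) R) M :=
    Module.FinitePresentation.trans (MvPolynomial (Fin n) R) M S
  obtain ⟨b, K, eK, hK⟩ := Module.FinitePresentation.exists_fin (MvPolynomial (Fin n) R) M
  obtain ⟨k, g, hg⟩ := Submodule.fg_iff_exists_fin_generating_family.mp hK
  let e : Groth.Agent.Flat.OpenLocus.Coker g ≃ₗ[MvPolynomial (Fin n) R] M :=
    (Submodule.quotEquivOfEq _ _ hg).trans eK.symm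
  obtain ⟨r, h, hh⟩ := Submodule.fg_iff_exists_fin_generating_family.mp hker
  have hhπ : ∀ l, π (h l) = 0 := fun l =>
    (RingHom.mem_ker (f := π.toRingHom)).mp (hh.le (Submodule.subset_span ⟨l, rfl⟩))
  obtain ⟨T1, hT1⟩ := Groth.Agent.Flat.GlobalModel.exists_flat_model g
    (Module.Flat.of_linearEquiv (M := M) (e.restrictScalars R))
  obtain ⟨T2, hT2⟩ := Groth.Agent.Flat.OpenLocus.exists_adjoin_vec h
  -- the relations killing the module
  have hkill : ∀ (l : Fin r) (i : Fin b), ∃ c : Fin k → MvPolynomial (Fin n) R,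
      ∑ j, c j • g j = h l • Pi.single i 1 := by
    intro l i
    rw [← Submodule.mem_span_range_iff_exists_fun, ← Submodule.Quotient.mk_eq_zero]
    apply e.injective
    rw [map_zero, Submodule.Quotient.mk_smul, map_smul]
    show π (h l) • e (Submodule.Quotient.mk (Pi.single i 1)) = 0
    rw [hhπ, zero_smul]
  choose c hc using hkill
  choose T3 hT3 using fun l i => Groth.Agent.Flat.OpenLocus.exists_adjoin_vec (c l i)
  let T : Finset R := T1 ∪ T2 ∪
    (Finset.univ : Finset (Fin r × Fin b)).biUnion fun li => T3 li.1 li.2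
  obtain ⟨g', hg', hflat⟩ := hT1 T (Finset.subset_union_left.trans Finset.subset_union_left)
  obtain ⟨h', hh'⟩ := hT2 T (Finset.subset_union_right.trans Finset.subset_union_left)
  choose c' hc' using fun l i => hT3 l i T
    ((Finset.subset_biUnion_of_mem (fun li : Fin r × Fin b => T3 li.1 li.2)
      (Finset.mem_univ (l, i))).trans Finset.subset_union_right)
  have hinj := Groth.Agent.Flat.Descent.vmap_injective (σ := Fin n) (ι := Fin b)
    (Groth.Agent.Flat.GlobalModel.adjHom_injective T)
  have hkill' : ∀ l i, ∑ j, c' l i j • g' j = h' l • Pi.single i 1 := by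
    intro l i
    apply hinj
    funext a
    have := congrFun (hc l i) a
    simp only [Groth.Agent.Flat.Descent.vmap, Finset.sum_apply, Pi.smul_apply, smul_eq_mul,
      map_sum, map_mul] at this ⊢
    rw [show MvPolynomial.map (Groth.Agent.Flat.OpenLocus.adjHom T) (h' l) = h l from congrFun hh' l]
    rw [Pi.single_apply, apply_ite (MvPolynomial.map (Groth.Agent.Flat.OpenLocus.adjHom T)), map_one,
      map_zero, ← Pi.single_apply, ← this]
    refine Finset.sum_congr rfl fun j _ => ?_
    rw [show MvPolynomial.map (Groth.Agent.Flat.OpenLocus.adjHom T) (c' l i j) = c l i j from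
      congrFun (hc' l i) j]
    exact congrArg (c l i j * ·) (congrFun (hg' j) a)
  -- the base ring and the algebra
  obtain ⟨S₀, i1, i2, i3, i4, M₀, i5, i6, i7, i8, i9, i10, f, h1, h2, h3, h4, h5⟩ :=
    Groth.Agent.Flat.ModuleModel.exists_model (R₀ := ↥(Groth.Agent.Flat.OpenLocus.adj T)) π hπ
      (fun p m => rfl) h hh h' (fun l => congrFun hh' l) g e g' hg' hflat
      (fun l i => by
        rw [← hkill' l i]
        exact Submodule.sum_mem _ fun j _ => Submodule.smul_mem _ _ (Submodule.subset_span ⟨j, rfl⟩))
  exact ⟨_, inferInstance, inferInstance, S₀, i1, i2, i3, inferInstance, inferInstance, i4, M₀, i5,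
    i6, i7, i8, i9, i10, f,
    (Groth.Agent.Flat.OpenLocus.adj T).fg_iff_finiteType.mp (Subalgebra.fg_adjoin_finset T),
    h1, h2, h3, h4, h5⟩

end Groth.Agent.S9456
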