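import Groth.Statements.S9458
import Groth.Agent.HensPair.FiniteLoc
import Groth.Agent.HensPair.LocalFacts
import Mathlib.RingTheory.ZariskisMainTheorem
import Mathlib.RingTheory.TensorProduct.Maps

set_option autoImplicit false
universe u
open Hensel
open scoped TensorProduct

namespace Groth.Agent.S9458

/-- Let R → S be of finite type and quasi-finite at a prime q lying over p, and let R_p^h, S_q^h be
henselizations of the local rings, S_q^h carrying the compatible R_p^h-algebra structure (the
canonical local map R_p^h → S_q^h). Then S_q^h is finite over R_p^h. (The published statement also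
identifies S_q^h with a localization of R_p^h ⊗_{R_p} S_q; this row states only that S_q^h is finite
over R_p^h.) -/
theorem result (R : Type u) [CommRing R] (S : Type u)
    [CommRing S] [Algebra R S] [Algebra.FiniteType R S] (p : Ideal R) [p.IsPrime] (q : Ideal S)
    [q.IsPrime] [q.LiesOver p] [Algebra.QuasiFiniteAt R q]
    (Rh : Type u) [CommRing Rh] [IsLocalRing Rh] [Algebra (Localization.AtPrime p) Rh]
    [IsLocalHom (algebraMap (Localization.AtPrime p) Rh)]
    [Hensel.IsHenselization (Localization.AtPrime p) Rh]
    (Sh : Type u) [CommRing Sh] [IsLocalRing Sh] [Algebra (Localization.AtPrime q) Sh]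
    [IsLocalHom (algebraMap (Localization.AtPrime q) Sh)]
    [Hensel.IsHenselization (Localization.AtPrime q) Sh]
    [Algebra (Localization.AtPrime p) (Localization.AtPrime q)]
    [IsScalarTower R (Localization.AtPrime p) (Localization.AtPrime q)]
    [Algebra Rh Sh] [Algebra (Localization.AtPrime p) Sh]
    [IsScalarTower (Localization.AtPrime p) Rh Sh]
    [IsScalarTower (Localization.AtPrime p) (Localization.AtPrime q) Sh] :
    Module.Finite Rh Sh := by
  classical
  obtain ⟨S', hS', r, hr, hbij⟩ :=
    Algebra.QuasiFiniteAt.exists_fg_and_exists_notMem_and_awayMap_bijective (R := R) q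
  have : Module.Finite R S' := ⟨(Submodule.fg_top _).mpr hS'⟩
  have hRh := ‹Hensel.IsHenselization (Localization.AtPrime p) Rh›.henselian
  let toS : S →+* Sh := (algebraMap (Localization.AtPrime q) Sh).comp (algebraMap S (Localization.AtPrime q))
  let algR : Algebra R Rh := ((algebraMap (Localization.AtPrime p) Rh).comp (algebraMap R _)).toAlgebra
  let algRSh : Algebra R Sh := ((algebraMap Rh Sh).comp (algebraMap R Rh)).toAlgebra
  have : IsScalarTower R Rh Sh := IsScalarTower.of_algebraMap_eq' rfl
  have hbase : ∀ a : R, algebraMap R Sh a = toS (algebraMap R S a) := fun a => by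
    show algebraMap Rh Sh (algebraMap (Localization.AtPrime p) Rh (algebraMap R _ a)) =
      algebraMap (Localization.AtPrime q) Sh (algebraMap S _ (algebraMap R S a))
    rw [← IsScalarTower.algebraMap_apply R S (Localization.AtPrime q),
      IsScalarTower.algebraMap_apply R (Localization.AtPrime p) (Localization.AtPrime q),
      ← IsScalarTower.algebraMap_apply (Localization.AtPrime p) Rh Sh,
      ← IsScalarTower.algebraMap_apply (Localization.AtPrime p) (Localization.AtPrime q) Sh]
  have hm : ∀ s : S, toS s ∈ IsLocalRing.maximalIdeal Sh ↔ s ∈ q := fun s => by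
    show ¬ IsUnit (algebraMap (Localization.AtPrime q) Sh _) ↔ _
    rw [isUnit_map_iff, IsLocalization.AtPrime.isUnit_to_map_iff (Localization.AtPrime q) q]
    exact not_not
  let φS : S' →ₐ[R] Sh :=
    { toRingHom := toS.comp S'.val.toRingHom
      commutes' := fun a => (hbase a).symm }
  let φ : Rh ⊗[R] S' →ₐ[Rh] Sh := Algebra.TensorProduct.lift (Algebra.ofId Rh Sh) φS fun _ _ => Commute.all _ _
  let Q := (IsLocalRing.maximalIdeal Sh).comap φ.toRingHom
  have hQh : Q.comap (algebraMap Rh (Rh ⊗[R] S')) = IsLocalRing.maximalIdeal Rh := by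
    refine ((IsLocalRing.maximalIdeal.isMaximal Rh).eq_of_le (Ideal.comap_ne_top _ (Ideal.comap_ne_top _ (IsLocalRing.maximalIdeal.isMaximal Sh).ne_top)) ?_).symm
    rw [← HensPair.LocalFacts.map_maximalIdeal (R := Localization.AtPrime p) (S := Rh),
      ← Localization.AtPrime.map_eq_maximalIdeal, Ideal.map_map, Ideal.map_le_iff_le_comap]
    intro a ha
    show φ (algebraMap Rh _ (algebraMap R Rh a)) ∈ IsLocalRing.maximalIdeal Sh
    rw [φ.commutes, ← IsScalarTower.algebraMap_apply R Rh Sh, hbase, hm]
    exact (Ideal.LiesOver.over (P := q) (p := p)).le ha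
  have : Q.IsPrime := Ideal.comap_isPrime _ _
  have hQmax : Q.IsMaximal :=
    Ideal.isMaximal_of_isIntegral_of_isMaximal_comap Q (hQh ▸ IsLocalRing.maximalIdeal.isMaximal Rh)
  have hD := HensPair.FiniteLoc.henselianLocalRing (A := Rh) Q
  have := HensPair.FiniteLoc.finite (A := Rh) Q
  let D := Localization.AtPrime Q
  let g : D →ₐ[Rh] Sh := IsLocalization.liftAlgHom (M := Q.primeCompl) (f := φ)
    fun y => IsLocalRing.notMem_maximalIdeal.mp y.2
  have hg : ∀ z, g (algebraMap _ D z) = φ z := fun z => IsLocalization.lift_eq _ z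
  have hgloc : ∀ x : D, IsUnit (g x) → IsUnit x := fun x hx => by
    obtain ⟨a, s, rfl⟩ := IsLocalization.exists_mk'_eq Q.primeCompl x
    refine (IsLocalization.AtPrime.isUnit_mk'_iff _ Q a s).mpr fun ha => ?_
    have h2 := hx.mul (IsLocalRing.notMem_maximalIdeal.mp s.2 : IsUnit (φ (s : Rh ⊗[R] S')))
    rw [← hg, ← map_mul, IsLocalization.mk'_spec, hg] at h2
    exact (show φ a ∈ IsLocalRing.maximalIdeal Sh from ha) h2
  let i : S' →+* D := (algebraMap (Rh ⊗[R] S') D).comp
    (Algebra.TensorProduct.includeRight (R := R) (A := Rh) (B := S')).toRingHom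
  have hgi : ∀ x : S', g (i x) = toS x := fun x => by
    show g (algebraMap _ D ((1 : Rh) ⊗ₜ[R] x)) = _
    rw [hg]
    simp [φ, φS]
  have hru : IsUnit (i r) := hgloc _ (by
    rw [hgi]; exact IsLocalRing.notMem_maximalIdeal.mp fun h => hr ((hm r.1).mp h))
  let i' : Localization.Away r →+* D := IsLocalization.Away.lift r hru
  let e := RingEquiv.ofBijective _ hbij
  let θ : S →+* D := (i'.comp e.symm.toRingHom).comp (algebraMap S (Localization.Away r.1))
  have hθ : ∀ s, g (θ s) = toS s := by
    intro s
    let sS : Localization.Away r.1 →+* Sh := IsLocalization.Away.lift r.1 (g := toS)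
      (IsLocalRing.notMem_maximalIdeal.mp fun h => hr ((hm r.1).mp h))
    have h1 : sS.comp e.toRingHom = g.toRingHom.comp i' := by
      refine IsLocalization.ringHom_ext (Submonoid.powers r) (RingHom.ext fun x => ?_)
      show sS (Localization.awayMap S'.val.toRingHom r (algebraMap S' _ x)) =
        g (i' (algebraMap S' (Localization.Away r) x))
      rw [IsLocalization.Away.lift_eq, hgi]
      unfold Localization.awayMap IsLocalization.Away.map
      erw [IsLocalization.map_eq, IsLocalization.Away.lift_eq]
      rfl
    have h2 := RingHom.congr_fun h1 (e.symm (algebraMap S (Localization.Away r.1) s))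
    refine h2.symm.trans ?_
    show sS (e (e.symm (algebraMap S (Localization.Away r.1) s))) = toS s
    rw [e.apply_symm_apply, IsLocalization.Away.lift_eq]
  let θq : Localization.AtPrime q →+* D := IsLocalization.lift (M := q.primeCompl) (g := θ)
    fun s => hgloc _ (by rw [hθ]; exact IsLocalRing.notMem_maximalIdeal.mp fun h => s.2 ((hm _).mp h))
  have hgθ : g.toRingHom.comp θq = algebraMap (Localization.AtPrime q) Sh := by
    refine IsLocalization.ringHom_ext q.primeCompl (RingHom.ext fun s => ?_)
    show g (θq (algebraMap S _ s)) = toS s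
    rw [IsLocalization.lift_eq, hθ]
  have : IsLocalHom θq := ⟨fun x hx => IsLocalHom.map_nonunit (f := algebraMap (Localization.AtPrime q) Sh) x (by
    rw [← hgθ]; exact hx.map g)⟩
  have hSh := ‹Hensel.IsHenselization (Localization.AtPrime q) Sh›
  obtain ⟨h, hh, -⟩ := hSh.universal D θq inferInstance
  have := hSh.henselian
  have hgh : g.toRingHom.comp h = RingHom.id Sh :=
    (hSh.universal Sh (algebraMap _ _) inferInstance).unique
      (by rw [RingHom.comp_assoc, hh, hgθ]) (RingHom.id_comp _)
  exact Module.Finite.of_surjective g.toLinearMap fun z => ⟨h z, RingHom.congr_fun hgh z⟩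

end Groth.Agent.S9458
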