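import Groth.Statements.S9459
import Groth.Agent.HensPoint.TensorLoc

set_option autoImplicit false
universe u
open Hensel

namespace Groth.Agent.S9459

open TensorProduct in
/-- Let R → S be a ring map, q a prime of S over p, and R^h, S^h henselizations of R_p and S_q, S^h
carrying the compatible R^h-algebra structure (the canonical map R^h → S^h). Let φ : R^h ⊗_R S → S^h
be the induced map and Q the preimage under φ of the maximal ideal (a prime lying over the maximal
ideal of R^h and over q). Then S^h is a henselization of the local ring (R^h ⊗_R S)_Q: for every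
henselization E of (R^h ⊗_R S)_Q there is a ring isomorphism E ≅ S^h compatible with the two maps
from R^h ⊗_R S. -/
theorem result (R : Type u) [CommRing R] (S : Type u)
    [CommRing S] [Algebra R S] (p : Ideal R) [p.IsPrime] (q : Ideal S) [q.IsPrime] [q.LiesOver p]
    (Rh : Type u) [CommRing Rh] [IsLocalRing Rh] [Algebra (Localization.AtPrime p) Rh]
    [IsLocalHom (algebraMap (Localization.AtPrime p) Rh)]
    [Hensel.IsHenselization (Localization.AtPrime p) Rh] [Algebra R Rh]
    [IsScalarTower R (Localization.AtPrime p) Rh]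
    (Sh : Type u) [CommRing Sh] [IsLocalRing Sh] [Algebra (Localization.AtPrime q) Sh]
    [IsLocalHom (algebraMap (Localization.AtPrime q) Sh)]
    [Hensel.IsHenselization (Localization.AtPrime q) Sh] [Algebra S Sh]
    [IsScalarTower S (Localization.AtPrime q) Sh] [Algebra R Sh] [IsScalarTower R S Sh]
    [Algebra Rh Sh] [IsScalarTower R Rh Sh]
    (E : Type u) [CommRing E] [IsLocalRing E]
    [Algebra (Localization.AtPrime (Ideal.comap (Algebra.TensorProduct.lift (IsScalarTower.toAlgHom R Rh Sh) (IsScalarTower.toAlgHom R S Sh)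
          (fun _ _ => Commute.all _ _)) (IsLocalRing.maximalIdeal Sh))) E]
    [IsLocalHom (algebraMap (Localization.AtPrime
      (Ideal.comap (Algebra.TensorProduct.lift (IsScalarTower.toAlgHom R Rh Sh) (IsScalarTower.toAlgHom R S Sh)
          (fun _ _ => Commute.all _ _)) (IsLocalRing.maximalIdeal Sh))) E)]
    [Hensel.IsHenselization (Localization.AtPrime
      (Ideal.comap (Algebra.TensorProduct.lift (IsScalarTower.toAlgHom R Rh Sh) (IsScalarTower.toAlgHom R S Sh)
          (fun _ _ => Commute.all _ _)) (IsLocalRing.maximalIdeal Sh))) E] :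
    ∃ e : E ≃+* Sh, ∀ d : Rh ⊗[R] S,
      e (algebraMap (Localization.AtPrime
        (Ideal.comap (Algebra.TensorProduct.lift (IsScalarTower.toAlgHom R Rh Sh) (IsScalarTower.toAlgHom R S Sh)
          (fun _ _ => Commute.all _ _)) (IsLocalRing.maximalIdeal Sh))) E
        (algebraMap (Rh ⊗[R] S) _ d)) = (Algebra.TensorProduct.lift (IsScalarTower.toAlgHom R Rh Sh) (IsScalarTower.toAlgHom R S Sh)
          (fun _ _ => Commute.all _ _)) d := by
  let φ := Algebra.TensorProduct.lift (IsScalarTower.toAlgHom R Rh Sh) (IsScalarTower.toAlgHom R S Sh)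
    (fun _ _ => Commute.all _ _)
  let Q := Ideal.comap φ (IsLocalRing.maximalIdeal Sh)
  let L := Localization.AtPrime Q
  let : Algebra L Sh := (HensPoint.TensorLoc.locMap φ.toRingHom).toAlgebra
  have : IsLocalHom (algebraMap L Sh) := HensPoint.TensorLoc.isLocalHom_locMap φ.toRingHom
  have hφ : ∀ d, algebraMap L Sh (algebraMap _ L d) = φ d :=
    HensPoint.TensorLoc.locMap_algebraMap φ.toRingHom
  have hφr : ∀ x, φ (x ⊗ₜ[R] (1 : S)) = algebraMap Rh Sh x := fun x => by simp [φ]
  have hφs : ∀ x, φ ((1 : Rh) ⊗ₜ[R] x) = algebraMap S Sh x := fun x => by simp [φ]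
  have hS := ‹Hensel.IsHenselization (Localization.AtPrime q) Sh›
  have hL : Hensel.IsHenselization L Sh := by
    refine ⟨hS.henselian, fun T _ _ f hf => ?_⟩
    let j : Rh ⊗[R] S →+* T := f.comp (algebraMap _ L)
    let fS : S →+* T := j.comp Algebra.TensorProduct.includeRight.toRingHom
    have hunit : ∀ s : q.primeCompl, IsUnit (fS s) := fun s => by
      refine (IsLocalization.map_units L (⟨(1 : Rh) ⊗ₜ[R] (s : S), ?_⟩ : Q.primeCompl)).map f
      show φ _ ∉ IsLocalRing.maximalIdeal Sh
      rw [hφs, IsScalarTower.algebraMap_apply S (Localization.AtPrime q) Sh,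
        IsLocalRing.notMem_maximalIdeal]
      exact (IsLocalization.map_units _ s).map _
    let f' : Localization.AtPrime q →+* T := IsLocalization.lift hunit
    have hf' : ∀ s, f' (algebraMap S _ s) = fS s := fun s => IsLocalization.lift_eq _ s
    have : IsLocalHom f' := ⟨fun x hx => by
      obtain ⟨a, s, rfl⟩ := IsLocalization.exists_mk'_eq q.primeCompl x
      refine (IsLocalization.AtPrime.isUnit_mk'_iff _ q a s).mpr fun ha => ?_
      have h2 := hx.mul (hunit s)
      rw [← hf' s, ← map_mul, IsLocalization.mk'_spec, hf'] at h2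
      have h3 : IsUnit (algebraMap _ L ((1 : Rh) ⊗ₜ[R] a)) := IsUnit.of_map f _ h2
      refine (IsLocalization.AtPrime.isUnit_to_map_iff L Q _).mp h3 ?_
      show φ _ ∈ IsLocalRing.maximalIdeal Sh
      rw [hφs, IsScalarTower.algebraMap_apply S (Localization.AtPrime q) Sh]
      exact map_nonunit (algebraMap (Localization.AtPrime q) Sh) _
        (IsLocalization.AtPrime.to_map_mem_maximal_iff (Localization.AtPrime q) q a |>.mpr ha)⟩
    let fR : Localization.AtPrime p →+* T :=
      (f'.comp (Localization.localRingHom p q (algebraMap R S) (q.over_def p)))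
    have hfR : IsLocalHom fR := RingHom.isLocalHom_comp _ _
    have hR : ∀ g : Rh →+* T, (∀ r : R, g (algebraMap R Rh r) = fS (algebraMap R S r)) →
        g.comp (algebraMap (Localization.AtPrime p) Rh) = fR := fun g hg => by
      refine IsLocalization.ringHom_ext p.primeCompl (RingHom.ext fun r => ?_)
      simp only [fR, RingHom.comp_apply, Localization.localRingHom_to_map, hf']
      rw [← IsScalarTower.algebraMap_apply, hg]
    have hj : ∀ r : R, j (algebraMap R Rh r ⊗ₜ[R] (1 : S)) = fS (algebraMap R S r) := fun r => by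
      show j _ = j ((1 : Rh) ⊗ₜ[R] algebraMap R S r)
      rw [Algebra.algebraMap_eq_smul_one, Algebra.algebraMap_eq_smul_one, TensorProduct.smul_tmul]
    obtain ⟨g, hg, hu⟩ := hS.universal T f' inferInstance
    have hgS : ∀ s, g (algebraMap S Sh s) = fS s := fun s => by
      rw [IsScalarTower.algebraMap_apply S (Localization.AtPrime q) Sh, ← RingHom.comp_apply g, hg, hf']
    have heq : g.comp (algebraMap Rh Sh) = j.comp Algebra.TensorProduct.includeLeftRingHom :=
      (‹Hensel.IsHenselization (Localization.AtPrime p) Rh›.universal T fR hfR).unique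
        (hR _ fun r => by
          rw [RingHom.comp_apply, ← IsScalarTower.algebraMap_apply,
            IsScalarTower.algebraMap_apply R S Sh, hgS])
        (hR _ hj)
    refine ⟨g, IsLocalization.ringHom_ext Q.primeCompl (RingHom.ext fun d => ?_), fun g' hg' => ?_⟩
    · show g (algebraMap L Sh (algebraMap _ L d)) = j d
      rw [hφ]
      induction d with
      | zero => simp
      | add x y hx hy => simp [hx, hy]
      | tmul x y =>
        rw [← mul_one x, ← one_mul y, ← Algebra.TensorProduct.tmul_mul_tmul, map_mul, map_mul,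
          map_mul, hφr, hφs, hgS]
        exact congrArg (· * _) (RingHom.congr_fun heq x)
    · refine hu g' (IsLocalization.ringHom_ext q.primeCompl (RingHom.ext fun s => ?_))
      simp only [RingHom.comp_apply, hf', ← IsScalarTower.algebraMap_apply]
      rw [← hφs, ← hφ, ← RingHom.comp_apply g', hg']
      rfl
  obtain ⟨e⟩ := HensPoint.TensorLoc.unique_hens (L := L) (E := E) (S := Sh) inferInstance hL
  exact ⟨e.toRingEquiv, fun d => (e.commutes _).trans (hφ d)⟩

end Groth.Agent.S9459
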