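import Groth.Statements.S9460
import Groth.Agent.HensPoint.TensorLoc

set_option autoImplicit false
universe u
open Hensel

namespace Groth.Agent.S9460

open TensorProduct in
/-- Let R → S be a ring map, q a prime of S over p, and R^{sh}, S^{sh} strict henselizations of R_p and
S_q, S^{sh} carrying a compatible R^{sh}-algebra structure (a map R^{sh} → S^{sh} over R; these
correspond to the embeddings of separable closures in the published statement). Let φ : R^{sh} ⊗_R S
→ S^{sh} be the induced map and Q the preimage under φ of the maximal ideal (a prime over the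
maximal ideal of R^{sh} and over q). Then S^{sh} is a strict henselization of (R^{sh} ⊗_R S)_Q:
every strict henselization E of that local ring admits a ring isomorphism E ≅ S^{sh} compatible with
the two maps from R^{sh} ⊗_R S. -/
theorem result (R : Type u) [CommRing R]
    (S : Type u) [CommRing S] [Algebra R S] (p : Ideal R) [p.IsPrime] (q : Ideal S) [q.IsPrime]
    [q.LiesOver p]
    (Rh : Type u) [CommRing Rh] [IsLocalRing Rh] [Algebra (Localization.AtPrime p) Rh]
    [IsLocalHom (algebraMap (Localization.AtPrime p) Rh)]
    [Hensel.IsStrictHenselization (Localization.AtPrime p) Rh] [Algebra R Rh]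
    [IsScalarTower R (Localization.AtPrime p) Rh]
    (Sh : Type u) [CommRing Sh] [IsLocalRing Sh] [Algebra (Localization.AtPrime q) Sh]
    [IsLocalHom (algebraMap (Localization.AtPrime q) Sh)]
    [Hensel.IsStrictHenselization (Localization.AtPrime q) Sh] [Algebra S Sh]
    [IsScalarTower S (Localization.AtPrime q) Sh] [Algebra R Sh] [IsScalarTower R S Sh]
    [Algebra Rh Sh] [IsScalarTower R Rh Sh]
    (E : Type u) [CommRing E] [IsLocalRing E]
    [Algebra (Localization.AtPrime (Ideal.comap (Algebra.TensorProduct.lift (IsScalarTower.toAlgHom R Rh Sh) (IsScalarTower.toAlgHom R S Sh)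
          (fun _ _ => Commute.all _ _)) (IsLocalRing.maximalIdeal Sh))) E]
    [IsLocalHom (algebraMap (Localization.AtPrime
      (Ideal.comap (Algebra.TensorProduct.lift (IsScalarTower.toAlgHom R Rh Sh) (IsScalarTower.toAlgHom R S Sh)
          (fun _ _ => Commute.all _ _)) (IsLocalRing.maximalIdeal Sh))) E)]
    [Hensel.IsStrictHenselization (Localization.AtPrime
      (Ideal.comap (Algebra.TensorProduct.lift (IsScalarTower.toAlgHom R Rh Sh) (IsScalarTower.toAlgHom R S Sh)
          (fun _ _ => Commute.all _ _)) (IsLocalRing.maximalIdeal Sh))) E] :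
    ∃ e : E ≃+* Sh, ∀ d : Rh ⊗[R] S,
      e (algebraMap (Localization.AtPrime
        (Ideal.comap (Algebra.TensorProduct.lift (IsScalarTower.toAlgHom R Rh Sh) (IsScalarTower.toAlgHom R S Sh)
          (fun _ _ => Commute.all _ _)) (IsLocalRing.maximalIdeal Sh))) E
        (algebraMap (Rh ⊗[R] S) _ d)) = (Algebra.TensorProduct.lift (IsScalarTower.toAlgHom R Rh Sh) (IsScalarTower.toAlgHom R S Sh)
          (fun _ _ => Commute.all _ _)) d := by
  let φ := Algebra.TensorProduct.lift (IsScalarTower.toAlgHom R Rh Sh) (IsScalarTower.toAlgHom R S Sh)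
    (fun _ _ => Commute.all _ _)
  let Q := Ideal.comap φ (IsLocalRing.maximalIdeal Sh)
  let L := Localization.AtPrime Q
  let : Algebra L Sh := (HensPoint.TensorLoc.locMap φ.toRingHom).toAlgebra
  have : IsLocalHom (algebraMap L Sh) := HensPoint.TensorLoc.isLocalHom_locMap φ.toRingHom
  have hφ : ∀ d, algebraMap L Sh (algebraMap _ L d) = φ d :=
    HensPoint.TensorLoc.locMap_algebraMap φ.toRingHom
  have hφr : ∀ x, φ (x ⊗ₜ[R] (1 : S)) = algebraMap Rh Sh x := fun x => by simp [φ]
  have hφs : ∀ x, φ ((1 : Rh) ⊗ₜ[R] x) = algebraMap S Sh x := fun x => by simp [φ]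
  have hS := ‹Hensel.IsStrictHenselization (Localization.AtPrime q) Sh›
  have hL : Hensel.IsStrictHenselization L Sh := by
    refine ⟨hS.henselian, ?_, fun T _ _ f hf τ hτ => ?_⟩
    · let j0 : Localization.AtPrime q →+* L :=
        IsLocalization.lift (M := q.primeCompl) (g := (algebraMap (Rh ⊗[R] S) L).comp (Algebra.TensorProduct.includeRight : S →ₐ[R] Rh ⊗[R] S).toRingHom)
          fun s => IsLocalization.map_units L (⟨(1 : Rh) ⊗ₜ[R] (s : S), by
            show φ _ ∉ IsLocalRing.maximalIdeal Sh
            rw [hφs, IsScalarTower.algebraMap_apply S (Localization.AtPrime q) Sh, IsLocalRing.notMem_maximalIdeal]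
            exact (IsLocalization.map_units _ s).map _⟩ : Q.primeCompl)
      have hj0 : (algebraMap L Sh).comp j0 = algebraMap (Localization.AtPrime q) Sh := by
        refine IsLocalization.ringHom_ext q.primeCompl (RingHom.ext fun s => ?_)
        simp only [j0, RingHom.comp_apply, IsLocalization.lift_eq, ← IsScalarTower.algebraMap_apply]
        exact (hφ _).trans (hφs s)
      have : IsLocalHom j0 := by
        have : IsLocalHom ((algebraMap L Sh).comp j0) := hj0.symm ▸ inferInstance
        exact isLocalHom_of_comp j0 (algebraMap L Sh)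
      let := j0.toAlgebra
      have : IsLocalHom (algebraMap (Localization.AtPrime q) L) := ‹IsLocalHom j0›
      have : IsScalarTower (Localization.AtPrime q) L Sh := IsScalarTower.of_algebraMap_eq' hj0.symm
      have : IsScalarTower (IsLocalRing.ResidueField (Localization.AtPrime q)) (IsLocalRing.ResidueField L)
          (IsLocalRing.ResidueField Sh) := IsScalarTower.of_algebraMap_eq fun z => by
        obtain ⟨z, rfl⟩ := IsLocalRing.residue_surjective z
        exact congrArg (IsLocalRing.residue Sh) (RingHom.congr_fun hj0 z).symm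
      have := hS.isSepClosure.separable
      exact ⟨hS.isSepClosure.sep_closed, Algebra.isSeparable_tower_top_of_isSeparable (IsLocalRing.ResidueField (Localization.AtPrime q)) _ _⟩
    let j : Rh ⊗[R] S →+* T := f.comp (algebraMap _ L)
    let fS : S →+* T := j.comp Algebra.TensorProduct.includeRight.toRingHom
    have hunit : ∀ s : q.primeCompl, IsUnit (fS s) := fun s => by
      refine (IsLocalization.map_units L (⟨(1 : Rh) ⊗ₜ[R] (s : S), ?_⟩ : Q.primeCompl)).map f
      show φ _ ∉ IsLocalRing.maximalIdeal Sh
      rw [hφs, IsScalarTower.algebraMap_apply S (Localization.AtPrime q) Sh,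
        IsLocalRing.notMem_maximalIdeal]
      exact (IsLocalization.map_units _ s).map _
    let f' : Localization.AtPrime q →+* T := IsLocalization.lift hunit
    have hf' : ∀ s, f' (algebraMap S _ s) = fS s := fun s => IsLocalization.lift_eq _ s
    have : IsLocalHom f' := ⟨fun x hx => by
      obtain ⟨a, s, rfl⟩ := IsLocalization.exists_mk'_eq q.primeCompl x
      refine (IsLocalization.AtPrime.isUnit_mk'_iff _ q a s).mpr fun ha => ?_
      have h2 := hx.mul (hunit s)
      rw [← hf' s, ← map_mul, IsLocalization.mk'_spec, hf'] at h2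
      have h3 : IsUnit (algebraMap _ L ((1 : Rh) ⊗ₜ[R] a)) := IsUnit.of_map f _ h2
      refine (IsLocalization.AtPrime.isUnit_to_map_iff L Q _).mp h3 ?_
      show φ _ ∈ IsLocalRing.maximalIdeal Sh
      rw [hφs, IsScalarTower.algebraMap_apply S (Localization.AtPrime q) Sh]
      exact map_nonunit (algebraMap (Localization.AtPrime q) Sh) _
        (IsLocalization.AtPrime.to_map_mem_maximal_iff (Localization.AtPrime q) q a |>.mpr ha)⟩
    let fR : Localization.AtPrime p →+* T :=
      (f'.comp (Localization.localRingHom p q (algebraMap R S) (q.over_def p)))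
    have hfR : IsLocalHom fR := RingHom.isLocalHom_comp _ _
    have hR : ∀ g : Rh →+* T, (∀ r : R, g (algebraMap R Rh r) = fS (algebraMap R S r)) →
        g.comp (algebraMap (Localization.AtPrime p) Rh) = fR := fun g hg => by
      refine IsLocalization.ringHom_ext p.primeCompl (RingHom.ext fun r => ?_)
      simp only [fR, RingHom.comp_apply, Localization.localRingHom_to_map, hf']
      rw [← IsScalarTower.algebraMap_apply, hg]
    have hj : ∀ r : R, j (algebraMap R Rh r ⊗ₜ[R] (1 : S)) = fS (algebraMap R S r) := fun r => by
      show j _ = j ((1 : Rh) ⊗ₜ[R] algebraMap R S r)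
      rw [Algebra.algebraMap_eq_smul_one, Algebra.algebraMap_eq_smul_one, TensorProduct.smul_tmul]
    have hτ' : τ.comp (IsLocalRing.ResidueField.map (algebraMap (Localization.AtPrime q) Sh)) =
        IsLocalRing.ResidueField.map f' := by
      have key : (τ.comp (IsLocalRing.residue Sh)).comp (algebraMap (Localization.AtPrime q) Sh) =
          (IsLocalRing.residue T).comp f' := by
        refine IsLocalization.ringHom_ext q.primeCompl (RingHom.ext fun s => ?_)
        have h1 := RingHom.congr_fun hτ (IsLocalRing.residue L (algebraMap _ L ((1 : Rh) ⊗ₜ[R] s)))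
        simp only [RingHom.comp_apply, IsLocalRing.ResidueField.map_residue, hφ, hφs, hf',
          ← IsScalarTower.algebraMap_apply] at h1 ⊢
        exact h1
      refine RingHom.ext fun z => ?_
      obtain ⟨z, rfl⟩ := IsLocalRing.residue_surjective z
      exact RingHom.congr_fun key z
    obtain ⟨g, ⟨hg, hgres⟩, hu⟩ := hS.universal T f' τ hτ'
    have hgS : ∀ s, g (algebraMap S Sh s) = fS s := fun s => by
      rw [IsScalarTower.algebraMap_apply S (Localization.AtPrime q) Sh, ← RingHom.comp_apply g, hg, hf']
    have hRS : (algebraMap Rh Sh).comp (algebraMap (Localization.AtPrime p) Rh) =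
        (algebraMap (Localization.AtPrime q) Sh).comp
          (Localization.localRingHom p q (algebraMap R S) (q.over_def p)) := by
      refine IsLocalization.ringHom_ext p.primeCompl (RingHom.ext fun r => ?_)
      simp only [RingHom.comp_apply, Localization.localRingHom_to_map, ← IsScalarTower.algebraMap_apply]
      rw [IsScalarTower.algebraMap_apply R S Sh, IsScalarTower.algebraMap_apply S (Localization.AtPrime q) Sh,
        ← IsScalarTower.algebraMap_apply R S (Localization.AtPrime q)]
    have : IsLocalHom (algebraMap Rh Sh) := by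
      refine ((IsLocalRing.local_hom_TFAE (algebraMap Rh Sh)).out 0 2).mpr ?_
      rw [← HensPoint.Strict.map_maximalIdeal (R := Localization.AtPrime p) (S := Rh), Ideal.map_map, hRS]
      exact ((IsLocalRing.local_hom_TFAE _).out 0 2).mp (RingHom.isLocalHom_comp _ _)
    let τR := τ.comp (IsLocalRing.ResidueField.map (algebraMap Rh Sh))
    have hτR : τR.comp (IsLocalRing.ResidueField.map (algebraMap (Localization.AtPrime p) Rh)) =
        IsLocalRing.ResidueField.map fR := by
      have : IsLocalHom fR := hfR
      rw [IsLocalRing.ResidueField.map_comp (Localization.localRingHom p q (algebraMap R S) (q.over_def p)) f',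
        ← hτ', RingHom.comp_assoc, RingHom.comp_assoc, ← IsLocalRing.ResidueField.map_comp,
        ← IsLocalRing.ResidueField.map_comp]
      congr 1
      exact Ideal.Quotient.ringHom_ext (RingHom.ext fun x =>
        congrArg (IsLocalRing.residue Sh) (RingHom.congr_fun hRS x))
    have heq : g.comp (algebraMap Rh Sh) = j.comp Algebra.TensorProduct.includeLeftRingHom :=
      (‹Hensel.IsStrictHenselization (Localization.AtPrime p) Rh›.universal T fR τR hτR).unique
        ⟨hR _ fun r => by
          rw [RingHom.comp_apply, ← IsScalarTower.algebraMap_apply,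
            IsScalarTower.algebraMap_apply R S Sh, hgS], fun x => hgres _⟩
        ⟨hR _ hj, fun x => by
          have h1 := RingHom.congr_fun hτ (IsLocalRing.residue L (algebraMap _ L (x ⊗ₜ[R] (1 : S))))
          simp only [RingHom.comp_apply, IsLocalRing.ResidueField.map_residue, hφ, hφr] at h1
          exact h1.symm⟩
    refine ⟨g, ⟨IsLocalization.ringHom_ext Q.primeCompl (RingHom.ext fun d => ?_), hgres⟩, fun g' hg' => ?_⟩
    · show g (algebraMap L Sh (algebraMap _ L d)) = j d
      rw [hφ]
      induction d with
      | zero => simp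
      | add x y hx hy => simp [hx, hy]
      | tmul x y =>
        rw [← mul_one x, ← one_mul y, ← Algebra.TensorProduct.tmul_mul_tmul, map_mul, map_mul,
          map_mul, hφr, hφs, hgS]
        exact congrArg (· * _) (RingHom.congr_fun heq x)
    · refine hu g' ⟨IsLocalization.ringHom_ext q.primeCompl (RingHom.ext fun s => ?_), hg'.2⟩
      simp only [RingHom.comp_apply, hf', ← IsScalarTower.algebraMap_apply]
      rw [← hφs, ← hφ, ← RingHom.comp_apply g', hg'.1]
      rfl
  obtain ⟨e⟩ := HensPoint.TensorLoc.unique_strict (L := L) (E := E) (S := Sh) inferInstance hL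
  exact ⟨e.toRingEquiv, fun d => (e.commutes _).trans (hφ d)⟩

end Groth.Agent.S9460
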