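import Groth.Statements.S9461
import Groth.Agent.HensPair.FiniteLoc
import Groth.Agent.HensPoint.Strict
import Groth.Agent.HensPoint.StrictSurj
import Mathlib.RingTheory.ZariskisMainTheorem
import Mathlib.RingTheory.TensorProduct.Maps

set_option autoImplicit false
universe u
open Hensel
open scoped TensorProduct

namespace Groth.Agent.S9461

/-- Let R → S be of finite type and quasi-finite at a prime q over p, and R^{sh}, S^{sh} strict
henselizations of R_p and S_q with a compatible local map R^{sh} → S^{sh} (over R). Then R^{sh} →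
S^{sh} is finite and its residue field extension is finite and purely inseparable. (The published
statement also identifies S^{sh} with a localization of R^{sh} ⊗_{R_p} S_q; this row states only the
finiteness and the residue-field assertions.) -/
theorem result (R : Type u) [CommRing R] (S : Type u)
    [CommRing S] [Algebra R S] [Algebra.FiniteType R S] (p : Ideal R) [p.IsPrime] (q : Ideal S)
    [q.IsPrime] [q.LiesOver p] [Algebra.QuasiFiniteAt R q]
    (Rh : Type u) [CommRing Rh] [IsLocalRing Rh] [Algebra (Localization.AtPrime p) Rh]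
    [IsLocalHom (algebraMap (Localization.AtPrime p) Rh)]
    [Hensel.IsStrictHenselization (Localization.AtPrime p) Rh] [Algebra R Rh]
    [IsScalarTower R (Localization.AtPrime p) Rh]
    (Sh : Type u) [CommRing Sh] [IsLocalRing Sh] [Algebra (Localization.AtPrime q) Sh]
    [IsLocalHom (algebraMap (Localization.AtPrime q) Sh)]
    [Hensel.IsStrictHenselization (Localization.AtPrime q) Sh] [Algebra S Sh]
    [IsScalarTower S (Localization.AtPrime q) Sh] [Algebra R Sh] [IsScalarTower R S Sh]
    [Algebra Rh Sh] [IsScalarTower R Rh Sh] [IsLocalHom (algebraMap Rh Sh)] :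
    Module.Finite Rh Sh ∧
      Module.Finite (IsLocalRing.ResidueField Rh) (IsLocalRing.ResidueField Sh) ∧
      IsPurelyInseparable (IsLocalRing.ResidueField Rh) (IsLocalRing.ResidueField Sh) := by
  classical
  obtain ⟨S', hS', r, hr, hbij⟩ :=
    Algebra.QuasiFiniteAt.exists_fg_and_exists_notMem_and_awayMap_bijective (R := R) q
  have : Module.Finite R S' := ⟨(Submodule.fg_top _).mpr hS'⟩
  have hRh := ‹Hensel.IsStrictHenselization (Localization.AtPrime p) Rh›.henselian
  let toS : S →+* Sh := (algebraMap (Localization.AtPrime q) Sh).comp (algebraMap S (Localization.AtPrime q))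
  have hbase : ∀ a : R, algebraMap R Sh a = toS (algebraMap R S a) := fun a => by
    rw [IsScalarTower.algebraMap_apply R S Sh, IsScalarTower.algebraMap_apply S (Localization.AtPrime q) Sh]
    rfl
  have hm : ∀ s : S, toS s ∈ IsLocalRing.maximalIdeal Sh ↔ s ∈ q := fun s => by
    show ¬ IsUnit (algebraMap (Localization.AtPrime q) Sh _) ↔ _
    rw [isUnit_map_iff, IsLocalization.AtPrime.isUnit_to_map_iff (Localization.AtPrime q) q]
    exact not_not
  let φS : S' →ₐ[R] Sh :=
    { toRingHom := toS.comp S'.val.toRingHom
      commutes' := fun a => (hbase a).symm }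
  let φ : Rh ⊗[R] S' →ₐ[Rh] Sh := Algebra.TensorProduct.lift (Algebra.ofId Rh Sh) φS fun _ _ => Commute.all _ _
  let Q := (IsLocalRing.maximalIdeal Sh).comap φ.toRingHom
  have hQh : Q.comap (algebraMap Rh (Rh ⊗[R] S')) = IsLocalRing.maximalIdeal Rh := by
    refine ((IsLocalRing.maximalIdeal.isMaximal Rh).eq_of_le (Ideal.comap_ne_top _ (Ideal.comap_ne_top _ (IsLocalRing.maximalIdeal.isMaximal Sh).ne_top)) ?_).symm
    rw [← HensPoint.Strict.map_maximalIdeal (R := Localization.AtPrime p) (S := Rh),
      ← Localization.AtPrime.map_eq_maximalIdeal, Ideal.map_map, ← IsScalarTower.algebraMap_eq,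
      Ideal.map_le_iff_le_comap]
    intro a ha
    show φ (algebraMap Rh _ (algebraMap R Rh a)) ∈ IsLocalRing.maximalIdeal Sh
    rw [φ.commutes, ← IsScalarTower.algebraMap_apply R Rh Sh, hbase, hm]
    exact (Ideal.LiesOver.over (P := q) (p := p)).le ha
  have : Q.IsPrime := Ideal.comap_isPrime _ _
  have hQmax : Q.IsMaximal :=
    Ideal.isMaximal_of_isIntegral_of_isMaximal_comap Q (hQh ▸ IsLocalRing.maximalIdeal.isMaximal Rh)
  have hD := HensPair.FiniteLoc.henselianLocalRing (A := Rh) Q
  have := HensPair.FiniteLoc.finite (A := Rh) Q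
  let D := Localization.AtPrime Q
  let g : D →ₐ[Rh] Sh := IsLocalization.liftAlgHom (M := Q.primeCompl) (f := φ)
    fun y => IsLocalRing.notMem_maximalIdeal.mp y.2
  have hg : ∀ z, g (algebraMap _ D z) = φ z := fun z => IsLocalization.lift_eq _ z
  have hgloc : ∀ x : D, IsUnit (g x) → IsUnit x := fun x hx => by
    obtain ⟨a, s, rfl⟩ := IsLocalization.exists_mk'_eq Q.primeCompl x
    refine (IsLocalization.AtPrime.isUnit_mk'_iff _ Q a s).mpr fun ha => ?_
    have h2 := hx.mul (IsLocalRing.notMem_maximalIdeal.mp s.2 : IsUnit (φ (s : Rh ⊗[R] S')))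
    rw [← hg, ← map_mul, IsLocalization.mk'_spec, hg] at h2
    exact (show φ a ∈ IsLocalRing.maximalIdeal Sh from ha) h2
  let i : S' →+* D := (algebraMap (Rh ⊗[R] S') D).comp
    (Algebra.TensorProduct.includeRight (R := R) (A := Rh) (B := S')).toRingHom
  have hgi : ∀ x : S', g (i x) = toS x := fun x => by
    show g (algebraMap _ D ((1 : Rh) ⊗ₜ[R] x)) = _
    rw [hg]
    simp [φ, φS]
  have hru : IsUnit (i r) := hgloc _ (by
    rw [hgi]; exact IsLocalRing.notMem_maximalIdeal.mp fun h => hr ((hm r.1).mp h))
  let i' : Localization.Away r →+* D := IsLocalization.Away.lift r hru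
  let e := RingEquiv.ofBijective _ hbij
  let θ : S →+* D := (i'.comp e.symm.toRingHom).comp (algebraMap S (Localization.Away r.1))
  have hθ : ∀ s, g (θ s) = toS s := by
    intro s
    let sS : Localization.Away r.1 →+* Sh := IsLocalization.Away.lift r.1 (g := toS)
      (IsLocalRing.notMem_maximalIdeal.mp fun h => hr ((hm r.1).mp h))
    have h1 : sS.comp e.toRingHom = g.toRingHom.comp i' := by
      refine IsLocalization.ringHom_ext (Submonoid.powers r) (RingHom.ext fun x => ?_)
      show sS (Localization.awayMap S'.val.toRingHom r (algebraMap S' _ x)) =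
        g (i' (algebraMap S' (Localization.Away r) x))
      rw [IsLocalization.Away.lift_eq, hgi]
      unfold Localization.awayMap IsLocalization.Away.map
      erw [IsLocalization.map_eq, IsLocalization.Away.lift_eq]
      rfl
    have h2 := RingHom.congr_fun h1 (e.symm (algebraMap S (Localization.Away r.1) s))
    refine h2.symm.trans ?_
    show sS (e (e.symm (algebraMap S (Localization.Away r.1) s))) = toS s
    rw [e.apply_symm_apply, IsLocalization.Away.lift_eq]
  let θq : Localization.AtPrime q →+* D := IsLocalization.lift (M := q.primeCompl) (g := θ)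
    fun s => hgloc _ (by rw [hθ]; exact IsLocalRing.notMem_maximalIdeal.mp fun h => s.2 ((hm _).mp h))
  have hgθ : g.toRingHom.comp θq = algebraMap (Localization.AtPrime q) Sh := by
    refine IsLocalization.ringHom_ext q.primeCompl (RingHom.ext fun s => ?_)
    show g (θq (algebraMap S _ s)) = toS s
    rw [IsLocalization.lift_eq, hθ]
  have : IsLocalHom θq := ⟨fun x hx => IsLocalHom.map_nonunit (f := algebraMap (Localization.AtPrime q) Sh) x (by
    rw [← hgθ]; exact hx.map g)⟩
  have hSh := ‹Hensel.IsStrictHenselization (Localization.AtPrime q) Sh›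
  have := ‹Hensel.IsStrictHenselization (Localization.AtPrime p) Rh›.isSepClosure.1
  have hlD : IsLocalHom (algebraMap Rh D) := HensPair.Integral.isLocalHom (A := Rh) (B := D)
  have hDsc := (HensPair.Integral.residue_facts (A := Rh) (B := D)).1
  have hglh : IsLocalHom g.toRingHom := ⟨hgloc⟩
  have hsurj := @HensPoint.StrictSurj.surjective (Localization.AtPrime q) D Sh _ _ _ hD hDsc _ _ _ _
    hSh θq _ g.toRingHom hglh hgθ
  have hfin : Module.Finite Rh Sh := Module.Finite.of_surjective g.toLinearMap hsurj
  exact ⟨hfin, inferInstance, (HensPair.Integral.residue_facts (A := Rh) (B := Sh)).2⟩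

end Groth.Agent.S9461
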