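import Groth.Statements.S9462
import Groth.Agent.Flat.SqZero
import Mathlib.RingTheory.Smooth.Quotient
import Mathlib.RingTheory.Smooth.Flat
import Mathlib.RingTheory.Etale.Basic
import Mathlib.RingTheory.Kaehler.Basic

set_option autoImplicit false
universe u
open CAlg

namespace Groth.Agent.S9462

open TensorProduct in
/-- Consider surjections A' → A and B' → B with square-zero kernels I and J and a commutative square A'
→ B', A → B. If A → B is étale and J = I ⊗_A B — that is, J = IB' and the multiplication map B'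
⊗_{A'} I → B' is injective — then A' → B' is étale. -/
theorem result (A' : Type u) [CommRing A'] (A : Type u) [CommRing A]
    [Algebra A' A] (hA : Function.Surjective (algebraMap A' A))
    (hI : RingHom.ker (algebraMap A' A) ^ 2 = ⊥)
    (B' : Type u) [CommRing B'] [Algebra A' B'] (B : Type u) [CommRing B] [Algebra B' B]
    [Algebra A B] [Algebra A' B] [IsScalarTower A' A B] [IsScalarTower A' B' B]
    (hB : Function.Surjective (algebraMap B' B)) (hJ : RingHom.ker (algebraMap B' B) ^ 2 = ⊥)
    [Algebra.Etale A B]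
    (hJI : RingHom.ker (algebraMap B' B) = (RingHom.ker (algebraMap A' A)).map (algebraMap A' B'))
    (hinj : Function.Injective ((RingHom.ker (algebraMap A' A)).subtype.baseChange B')) :
    Algebra.Etale A' B' := by
  classical
  set I := RingHom.ker (algebraMap A' A) with hIdef
  have hIB : ∀ i ∈ I, algebraMap A' B i = 0 := fun i hi => by
    rw [IsScalarTower.algebraMap_apply A' A B, RingHom.mem_ker.1 hi, map_zero]
  have hJle : ∀ x : B', algebraMap B' B x = 0 → x ∈ I.map (algebraMap A' B') := fun x hx => by
    rw [← hJI]; exact hx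
  have hflat : Module.Flat A' B' := by
    let eA : (A' ⧸ I) ≃+* A := RingHom.quotientKerEquivOfSurjective hA
    let _ : Algebra (A' ⧸ I) A := eA.toRingHom.toAlgebra
    let _ : Algebra (A' ⧸ I) B := ((algebraMap A B).comp eA.toRingHom).toAlgebra
    have : IsScalarTower (A' ⧸ I) A B := IsScalarTower.of_algebraMap_eq fun _ => rfl
    have : IsScalarTower A' (A' ⧸ I) B :=
      IsScalarTower.of_algebraMap_eq fun a => IsScalarTower.algebraMap_apply A' A B a
    have : Module.Flat (A' ⧸ I) A := Module.Flat.of_linearEquiv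
      (LinearEquiv.ofBijective (Algebra.linearMap (A' ⧸ I) A) eA.bijective).symm
    have : Module.Flat (A' ⧸ I) B := Module.Flat.trans (A' ⧸ I) A B
    let φ : (A' ⧸ I) ⊗[A'] B' →ₐ[A' ⧸ I] B :=
      Algebra.TensorProduct.lift (Algebra.ofId _ B) (IsScalarTower.toAlgHom A' B' B)
        fun _ _ => Commute.all _ _
    have hsurj' : ∀ z : (A' ⧸ I) ⊗[A'] B', ∃ b : B', z = 1 ⊗ₜ b := by
      intro z
      induction z using TensorProduct.induction_on with
      | zero => exact ⟨0, (TensorProduct.tmul_zero _ _).symm⟩
      | tmul c b =>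
        obtain ⟨c, rfl⟩ := Ideal.Quotient.mk_surjective c
        exact ⟨c • b, by rw [← TensorProduct.smul_tmul, Algebra.smul_def, mul_one]; rfl⟩
      | add u v hu hv =>
        obtain ⟨a, rfl⟩ := hu
        obtain ⟨b, rfl⟩ := hv
        exact ⟨a + b, (TensorProduct.tmul_add _ _ _).symm⟩
    have hφ : ∀ b : B', φ (1 ⊗ₜ b) = algebraMap B' B b := fun b => by
      simp [φ]
    have hbij : Function.Bijective φ := by
      refine ⟨(injective_iff_map_eq_zero φ).2 fun z hz => ?_, fun b => ?_⟩
      · obtain ⟨b, rfl⟩ := hsurj' z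
        rw [hφ] at hz
        have hb : b ∈ Submodule.restrictScalars A' (I.map (algebraMap A' B')) := hJle b hz
        rw [← Ideal.smul_top_eq_map] at hb
        refine Submodule.smul_induction_on hb (fun i hi m _ => ?_) fun u v hu hv => ?_
        · rw [← TensorProduct.smul_tmul, Algebra.smul_def, mul_one,
            Ideal.Quotient.algebraMap_eq, Ideal.Quotient.eq_zero_iff_mem.2 hi, TensorProduct.zero_tmul]
        · rw [TensorProduct.tmul_add, hu, hv, add_zero]
      · obtain ⟨b, rfl⟩ := hB b
        exact ⟨_, hφ b⟩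
    have : Module.Flat (A' ⧸ I) ((A' ⧸ I) ⊗[A'] B') :=
      Module.Flat.of_linearEquiv (AlgEquiv.ofBijective φ hbij).toLinearEquiv
    refine Groth.Agent.Flat.SqZero.flat_of_sq_zero I hI B' ?_
    have hl : Function.Injective (I.subtype.lTensor B') := hinj
    rwa [← LinearMap.comm_comp_rTensor_comp_comm_eq, LinearMap.coe_comp, LinearMap.coe_comp,
      LinearEquiv.coe_coe, LinearEquiv.coe_coe, EquivLike.comp_injective, EquivLike.injective_comp] at hl
  have hsm : Algebra.FormallySmooth A' B' :=
    Algebra.FormallySmooth.of_surjective_of_ker_eq_map_of_flat (R' := A) (S' := B) hA hB hJI hI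
      inferInstance
  have hun : Algebra.FormallyUnramified A' B' := by
    have : Algebra.FormallyUnramified A' A :=
      Algebra.FormallyUnramified.of_surjective (IsScalarTower.toAlgHom A' A' A) hA
    have : Algebra.FormallyUnramified A' B := Algebra.FormallyUnramified.comp A' A B
    have h0 : ∀ z : B ⊗[B'] Ω[B'⁄A'], z = 0 := by
      intro z
      obtain ⟨w, rfl⟩ := (KaehlerDifferential.exact_kerCotangentToTensor_mapBaseChange A' B' B hB z).1
        (Subsingleton.elim _ _)
      obtain ⟨⟨x, hx⟩, rfl⟩ := Ideal.toCotangent_surjective _ w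
      rw [KaehlerDifferential.kerCotangentToTensor_toCotangent]
      show (1 : B) ⊗ₜ[B'] KaehlerDifferential.D A' B' x = 0
      have hb : x ∈ Submodule.restrictScalars A' (I.map (algebraMap A' B')) := hJle x hx
      rw [← Ideal.smul_top_eq_map] at hb
      refine Submodule.smul_induction_on hb (fun i hi m _ => ?_) fun u v hu hv => ?_
      · rw [Derivation.map_smul, ← algebraMap_smul B' i (KaehlerDifferential.D A' B' m), TensorProduct.tmul_smul,
          TensorProduct.smul_tmul', Algebra.smul_def, mul_one, ← IsScalarTower.algebraMap_apply,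
          hIB i hi, TensorProduct.zero_tmul]
      · rw [map_add, TensorProduct.tmul_add, hu, hv, add_zero]
    have hall : ∀ w : Ω[B'⁄A'], w ∈ RingHom.ker (algebraMap B' B) • (⊤ : Submodule B' Ω[B'⁄A']) := by
      intro w
      have hex := rTensor_exact Ω[B'⁄A'] (f := (RingHom.ker (algebraMap B' B)).subtype)
        (g := Algebra.linearMap B' B)
        (fun y => ⟨fun hy => ⟨⟨y, hy⟩, rfl⟩, by rintro ⟨y, rfl⟩; exact y.2⟩) hB
      obtain ⟨y, hy⟩ := (hex (1 ⊗ₜ w)).1 (h0 _)
      rw [← Ideal.subtype_rTensor_range]
      exact ⟨y, by rw [LinearMap.comp_apply, hy]; simp⟩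
    constructor
    refine ⟨fun a b => ?_⟩
    suffices ∀ w : Ω[B'⁄A'], w = 0 by rw [this a, this b]
    intro w
    have htop : RingHom.ker (algebraMap B' B) • (⊤ : Submodule B' Ω[B'⁄A']) = ⊤ :=
      eq_top_iff.2 fun v _ => hall v
    have h2 := hall w
    rw [← htop, ← Submodule.smul_assoc, smul_eq_mul, ← pow_two, hJ, Submodule.bot_smul,
      Submodule.mem_bot] at h2
    exact h2
  have hfp : Algebra.FinitePresentation A' B' := by
    obtain ⟨n, f, hf, hfk⟩ := (inferInstance : Algebra.FinitePresentation A B).out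
    choose x hx using fun i : Fin n => hB (f (MvPolynomial.X i))
    let F : MvPolynomial (Fin n) A' →ₐ[A'] B' := MvPolynomial.aeval x
    let m : MvPolynomial (Fin n) A' →+* MvPolynomial (Fin n) A := MvPolynomial.map (algebraMap A' A)
    have hm : Function.Surjective m := MvPolynomial.map_surjective _ hA
    have hkm : RingHom.ker m = I.map MvPolynomial.C := MvPolynomial.ker_map _
    have hFC : I.map (MvPolynomial.C : A' →+* MvPolynomial (Fin n) A') =
        I.map (algebraMap A' (MvPolynomial (Fin n) A')) := by rw [MvPolynomial.algebraMap_eq]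
    have hcomm : ∀ p, algebraMap B' B (F p) = f (m p) := by
      intro p
      induction p using MvPolynomial.induction_on with
      | C a =>
        simp only [F, m, MvPolynomial.map_C, MvPolynomial.aeval_C]
        rw [← IsScalarTower.algebraMap_apply, ← MvPolynomial.algebraMap_eq, f.commutes,
          ← IsScalarTower.algebraMap_apply]
      | add p q hp hq => simp only [map_add, hp, hq]
      | mul_X p i hp => simp only [map_mul, hp, F, m, MvPolynomial.map_X, MvPolynomial.aeval_X, hx i]
    have hFs : Function.Surjective F := by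
      have step : ∀ y : B', ∃ p, y - F p ∈ RingHom.ker (algebraMap B' B) := by
        intro y
        obtain ⟨q, hq⟩ := hf (algebraMap B' B y)
        obtain ⟨p, rfl⟩ := hm q
        exact ⟨p, by rw [RingHom.mem_ker, map_sub, hcomm, hq, sub_self]⟩
      have hJF : ∀ y ∈ RingHom.ker (algebraMap B' B), ∃ p, F p = y := by
        intro y hy
        have hb : y ∈ Submodule.restrictScalars A' (I.map (algebraMap A' B')) := hJle y hy
        rw [← Ideal.smul_top_eq_map] at hb
        refine Submodule.smul_induction_on hb (fun i hi v _ => ?_) ?_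
        · obtain ⟨p, hp⟩ := step v
          refine ⟨i • p, ?_⟩
          rw [map_smul, eq_comm, ← sub_eq_zero, ← smul_sub, Algebra.smul_def, ← Ideal.mem_bot, ← hJ,
            pow_two]
          exact Ideal.mul_mem_mul (hJI ▸ Ideal.mem_map_of_mem _ hi) hp
        · rintro u v ⟨p, rfl⟩ ⟨q, rfl⟩
          exact ⟨p + q, map_add F p q⟩
      intro y
      obtain ⟨p, hp⟩ := step y
      obtain ⟨q, hq⟩ := hJF _ hp
      exact ⟨q + p, by rw [map_add, hq, sub_add_cancel]⟩
    refine Algebra.FinitePresentation.of_surjective hFs ?_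
    obtain ⟨S, hS⟩ := hfk
    have hlift : ∀ s ∈ RingHom.ker f, ∃ p, F p = 0 ∧ m p = s := by
      intro s hs
      obtain ⟨p, rfl⟩ := hm s
      have hFp : F p ∈ Submodule.restrictScalars A' (I.map (algebraMap A' B')) :=
        hJle _ (by rw [hcomm]; exact hs)
      have hmem : F p ∈ (I.map (algebraMap A' (MvPolynomial (Fin n) A'))).map F.toRingHom := by
        rw [Ideal.map_map, AlgHom.toRingHom_eq_coe, F.comp_algebraMap]
        exact hFp
      obtain ⟨r, hr, hr'⟩ := (Ideal.mem_map_iff_of_surjective _ hFs).1 hmem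
      refine ⟨p - r, by rw [map_sub]; exact sub_eq_zero.2 hr'.symm, ?_⟩
      rw [map_sub, sub_eq_self, ← RingHom.mem_ker, hkm, hFC]
      exact hr
    choose g hg1 hg2 using fun s : S => hlift s (hS ▸ Ideal.subset_span s.2)
    refine ⟨Finset.univ.image g, ?_⟩
    let G : Ideal (MvPolynomial (Fin n) A') := Ideal.span (Finset.univ.image g : Set _)
    show G = RingHom.ker F
    have hGle : G ≤ RingHom.ker F := by
      rw [Ideal.span_le]
      intro z hz
      obtain ⟨s, -, rfl⟩ := Finset.mem_image.1 (Finset.mem_coe.1 hz)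
      exact hg1 s
    have hsub : ∀ z ∈ RingHom.ker F, ∃ y ∈ G,
        z - y ∈ I • (RingHom.ker F).restrictScalars A' := by
      intro z hz
      have hmz : m z ∈ G.map m := by
        have : m z ∈ RingHom.ker f := by rw [RingHom.mem_ker, ← hcomm, RingHom.mem_ker.1 hz, map_zero]
        have hle : RingHom.ker f ≤ G.map m := by
          refine le_of_eq_of_le hS.symm (Ideal.span_le.2 fun s hs => ?_)
          have h3 : m (g ⟨s, hs⟩) ∈ G.map m := Ideal.mem_map_of_mem _ (Ideal.subset_span (by simp))
          rw [hg2 ⟨s, hs⟩] at h3; exact h3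
        exact hle this
      obtain ⟨y, hy, hy'⟩ := (Ideal.mem_map_iff_of_surjective _ hm).1 hmz
      refine ⟨y, hy, ?_⟩
      show z - y ∈ I • LinearMap.ker F.toLinearMap
      rw [← LinearMap.ker_inf_smul_top_eq_smul_of_flat I F.toLinearMap hFs]
      refine ⟨(RingHom.ker F).sub_mem hz (hGle hy), ?_⟩
      rw [Ideal.smul_top_eq_map]
      show z - y ∈ I.map (algebraMap A' (MvPolynomial (Fin n) A'))
      rw [← hFC, ← hkm, RingHom.mem_ker, map_sub, hy', sub_self]
    refine le_antisymm hGle fun z hz => ?_
    obtain ⟨y, hy, hzy⟩ := hsub z hz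
    suffices z - y ∈ G by simpa using G.add_mem this hy
    refine Submodule.smul_induction_on hzy (fun i hi k hk => ?_) fun u v hu hv => G.add_mem hu hv
    obtain ⟨y', hy'', hk'⟩ := hsub k hk
    suffices i • (k - y') = 0 by
      rw [show i • k = i • y' by rwa [smul_sub, sub_eq_zero] at this, Algebra.smul_def]
      exact G.mul_mem_left _ hy''
    refine Submodule.smul_induction_on hk' (fun j hj l _ => ?_) fun u v hu hv => by rw [smul_add, hu, hv, add_zero]
    rw [smul_smul, show i * j = 0 by rw [← Ideal.mem_bot, ← hI, pow_two]; exact Ideal.mul_mem_mul hi hj, zero_smul]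
  exact ⟨Algebra.FormallyEtale.iff_formallyUnramified_and_formallySmooth.2 ⟨hun, hsm⟩, hfp⟩

end Groth.Agent.S9462
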