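import Groth.Statements.S9469
import Groth.Agent.HensPoint.AtPrime

set_option autoImplicit false
universe u
open Hensel

namespace Groth.Agent.S9469

/-- Let R be a ring and p a prime of R. Consider pairs (S, q) with S an étale R-algebra and q a prime of
S lying over p such that κ(p) → κ(q) is bijective; a morphism of pairs is an R-algebra map pulling
the second prime back to the first. Then any two parallel morphisms of pairs φ, ψ : (S₁, q₁) → (S₂,
q₂) are coequalized by a morphism of pairs (S₂, q₂) → (S₃, q₃). -/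
theorem result (R : Type u) [CommRing R]
    (p : Ideal R) [p.IsPrime] (S₁ : Type u) [CommRing S₁] [Algebra R S₁] [Algebra.Etale R S₁] (q₁ : Ideal S₁) [q₁.IsPrime] (hq₁ : p = q₁.comap (algebraMap R S₁))
    (hq₁κ : Function.Bijective (Ideal.ResidueField.map p q₁ (algebraMap R S₁) hq₁))
    (S₂ : Type u) [CommRing S₂] [Algebra R S₂] [Algebra.Etale R S₂] (q₂ : Ideal S₂) [q₂.IsPrime] (hq₂ : p = q₂.comap (algebraMap R S₂))
    (hq₂κ : Function.Bijective (Ideal.ResidueField.map p q₂ (algebraMap R S₂) hq₂))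
    (φ ψ : S₁ →ₐ[R] S₂) (hφ : q₂.comap φ.toRingHom = q₁) (hψ : q₂.comap ψ.toRingHom = q₁) :
    ∃ (S₃ : Type u) (_ : CommRing S₃) (_ : Algebra R S₃) (_ : Algebra.Etale R S₃) (q₃ : Ideal S₃)
      (_ : q₃.IsPrime) (hq₃ : p = q₃.comap (algebraMap R S₃)),
      Function.Bijective (Ideal.ResidueField.map p q₃ (algebraMap R S₃) hq₃) ∧
        ∃ χ : S₂ →ₐ[R] S₃, q₃.comap χ.toRingHom = q₂ ∧ χ.comp φ = χ.comp ψ := by
  classical
  obtain ⟨σ₁, hσ₁, hu₁⟩ := HensPoint.AtPrime.exists_point p q₁ hq₁ hq₁κ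
  obtain ⟨σ₂, hσ₂, -⟩ := HensPoint.AtPrime.exists_point p q₂ hq₂ hq₂κ
  obtain ⟨τ, hτ⟩ := HensPoint.Hull.exists_hom S₂ σ₂
  have hpt : ∀ χ : S₁ →ₐ[R] S₂, q₂.comap χ.toRingHom = q₁ → σ₂.comp χ = σ₁ := fun χ hχ =>
    hu₁ _ (by rw [← hχ, ← hσ₂]; rfl)
  have heq : τ.comp φ = τ.comp ψ := HensPoint.Hull.hom_eq_of_π _ _ fun x => by
    show ((HensPoint.Hull.π R p.ResidueField).comp τ) (φ x) =
      ((HensPoint.Hull.π R p.ResidueField).comp τ) (ψ x)
    rw [hτ, ← AlgHom.comp_apply, ← AlgHom.comp_apply, hpt φ hφ, hpt ψ hψ]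
  obtain ⟨t, ht⟩ := (inferInstance : Algebra.FiniteType R S₁).out
  obtain ⟨S₃, _, _, h, χ₃, χ, hc, hk⟩ := HensPoint.Hull.exists_kill τ
    (fun k : t => φ k.1 - ψ k.1) fun k => by
      rw [map_sub, sub_eq_zero]; exact DFunLike.congr_fun heq k.1
  let σ₃ := (HensPoint.Hull.π R p.ResidueField).comp χ₃
  have : (RingHom.ker σ₃).IsPrime := RingHom.ker_isPrime _
  refine ⟨S₃, inferInstance, inferInstance, h, RingHom.ker σ₃, inferInstance,
    HensPoint.AtPrime.comap_ker p σ₃, HensPoint.AtPrime.bijective_residue p _ σ₃ rfl _, χ, ?_, ?_⟩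
  · rw [← hσ₂, ← hτ, ← hc]; rfl
  · refine AlgHom.ext_of_adjoin_eq_top ht fun x hx => ?_
    have := hk ⟨x, hx⟩
    rw [map_sub, sub_eq_zero] at this
    exact this

end Groth.Agent.S9469
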