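import Groth.Statements.S9470
import Groth.Agent.HensPoint.AtPrime

set_option autoImplicit false
universe u
open Hensel

namespace Groth.Agent.S9470

/-- Let R be a ring, p a prime of R and R^h a henselization of the local ring R_p, regarded as an
R-algebra through R_p. For pairs (S, q) with S an étale R-algebra and q a prime of S over p such
that κ(p) → κ(q) is bijective: (a) there is exactly one R-algebra map f : S → R^h under which the
maximal ideal pulls back to q; (b) every element of R^h is f(s) for some such pair, map f and s ∈ S;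
(c) if such an f sends s to 0, then some R-algebra map S → S' to another such pair (S', q'), pulling
q' back to q, already sends s to 0. Together with filteredness of the category of pairs this
expresses that R^h is canonically the colimit of S over all pairs (S, q). (The published statement
also records the equal colimit of the local rings S_q.) -/
theorem result (R : Type u) [CommRing R]
    (p : Ideal R) [p.IsPrime] (Rh : Type u) [CommRing Rh] [IsLocalRing Rh]
    [Algebra (Localization.AtPrime p) Rh] [IsLocalHom (algebraMap (Localization.AtPrime p) Rh)]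
    [Hensel.IsHenselization (Localization.AtPrime p) Rh] [Algebra R Rh]
    [IsScalarTower R (Localization.AtPrime p) Rh] :
    (∀ (S : Type u) [CommRing S] [Algebra R S] [Algebra.Etale R S] (q : Ideal S) [q.IsPrime]
        (hq : p = q.comap (algebraMap R S)),
        Function.Bijective (Ideal.ResidueField.map p q (algebraMap R S) hq) →
          ∃! f : S →ₐ[R] Rh, (IsLocalRing.maximalIdeal Rh).comap f.toRingHom = q) ∧
    (∀ x : Rh, ∃ (S : Type u) (_ : CommRing S) (_ : Algebra R S) (_ : Algebra.Etale R S) (q : Ideal S)
        (_ : q.IsPrime) (hq : p = q.comap (algebraMap R S)),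
        Function.Bijective (Ideal.ResidueField.map p q (algebraMap R S) hq) ∧
          ∃ (f : S →ₐ[R] Rh) (s : S), (IsLocalRing.maximalIdeal Rh).comap f.toRingHom = q ∧ f s = x) ∧
    (∀ (S : Type u) [CommRing S] [Algebra R S] [Algebra.Etale R S] (q : Ideal S) [q.IsPrime]
        (hq : p = q.comap (algebraMap R S)),
        Function.Bijective (Ideal.ResidueField.map p q (algebraMap R S) hq) →
          ∀ (f : S →ₐ[R] Rh), (IsLocalRing.maximalIdeal Rh).comap f.toRingHom = q → ∀ s : S, f s = 0 →
            ∃ (S' : Type u) (_ : CommRing S') (_ : Algebra R S') (_ : Algebra.Etale R S') (q' : Ideal S')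
              (_ : q'.IsPrime) (hq' : p = q'.comap (algebraMap R S')),
              Function.Bijective (Ideal.ResidueField.map p q' (algebraMap R S') hq') ∧
                ∃ φ : S →ₐ[R] S', q'.comap φ.toRingHom = q ∧ φ s = 0) := by
  obtain ⟨e⟩ := HensPoint.AtPrime.exists_equiv p Rh
  have hm : (IsLocalRing.maximalIdeal (HensPoint.AtPrime.H p)).comap (e.toAlgHom.toRingHom) =
      IsLocalRing.maximalIdeal Rh := by
    refine Ideal.ext fun x => ?_
    simp [IsLocalRing.mem_maximalIdeal, mem_nonunits_iff, isUnit_map_iff]
  have hcomap : ∀ {S : Type u} [CommRing S] [Algebra R S] (f : S →ₐ[R] Rh),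
      (IsLocalRing.maximalIdeal Rh).comap f.toRingHom =
        RingHom.ker ((HensPoint.Hull.π R p.ResidueField).comp (e.toAlgHom.comp f)) := fun f => by
    rw [← HensPoint.AtPrime.comap_maximalIdeal, ← hm, Ideal.comap_comap]
    rfl
  refine ⟨fun S _ _ _ q _ hq hb => ?_, fun x => ?_, fun S _ _ _ q _ hq hb f hf s hs => ?_⟩
  · obtain ⟨σ, hσ, hu⟩ := HensPoint.AtPrime.exists_point p q hq hb
    obtain ⟨τ, hτ⟩ := HensPoint.Hull.exists_hom S σ
    refine ⟨e.symm.toAlgHom.comp τ, ?_, fun g hg => ?_⟩
    · show Ideal.comap _ _ = _
      rw [hcomap, ← AlgHom.comp_assoc e.toAlgHom,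
        show e.toAlgHom.comp e.symm.toAlgHom = AlgHom.id R _ from AlgHom.ext e.apply_symm_apply,
        AlgHom.id_comp, hτ, hσ]
    · have h1 : e.toAlgHom.comp g = τ := by
        refine HensPoint.Hull.hom_eq_of_π _ _ fun x => ?_
        have h2 := hu ((HensPoint.Hull.π R p.ResidueField).comp (e.toAlgHom.comp g))
          (by rw [← hcomap]; exact hg)
        exact (DFunLike.congr_fun h2 x).trans (DFunLike.congr_fun hτ x).symm
      refine AlgHom.ext fun x => ?_
      rw [← h1]
      exact (e.symm_apply_apply _).symm
  · obtain ⟨A', _, _, h, φ, hr⟩ := HensPoint.Hull.exists_rep fun _ : Unit => e x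
    obtain ⟨r, hr⟩ := hr ()
    let σ := (HensPoint.Hull.π R p.ResidueField).comp φ
    have : (RingHom.ker σ).IsPrime := RingHom.ker_isPrime _
    refine ⟨A', inferInstance, inferInstance, h, RingHom.ker σ, inferInstance,
      HensPoint.AtPrime.comap_ker p σ, HensPoint.AtPrime.bijective_residue p _ σ rfl _,
      e.symm.toAlgHom.comp φ, r, ?_, ?_⟩
    · rw [hcomap, ← AlgHom.comp_assoc e.toAlgHom,
        show e.toAlgHom.comp e.symm.toAlgHom = AlgHom.id R _ from AlgHom.ext e.apply_symm_apply,
        AlgHom.id_comp]
    · show e.symm (φ r) = x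
      rw [hr, e.symm_apply_apply]
  · obtain ⟨A', _, _, h, χ, ψ, hc, hψ⟩ := HensPoint.Hull.exists_kill (e.toAlgHom.comp f)
      (fun _ : Unit => s) (fun _ => by simp [hs])
    let σ := (HensPoint.Hull.π R p.ResidueField).comp χ
    have : (RingHom.ker σ).IsPrime := RingHom.ker_isPrime _
    refine ⟨A', inferInstance, inferInstance, h, RingHom.ker σ, inferInstance,
      HensPoint.AtPrime.comap_ker p σ, HensPoint.AtPrime.bijective_residue p _ σ rfl _, ψ, ?_, hψ ()⟩
    rw [← hf, hcomap, ← hc]
    rfl

end Groth.Agent.S9470
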