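-- Proof of S9472.
import Groth.Prelude.Def_DiffOp
import Mathlib.RingTheory.Etale.Basic
import Mathlib.RingTheory.TensorProduct.Basic
import Groth.Agent.Diff.Etale
import Mathlib.LinearAlgebra.TensorProduct.Tower

set_option autoImplicit false
universe u
open Diff16

namespace Groth.Agent.S9472

open TensorProduct in
/-- Let R → S → S' be ring maps with S → S' formally étale, M an S-module and (P, D_u) a module of
principal parts of order k of M relative to R → S, i.e. D_u : M → P is a differential operator of
order at most k through which every differential operator of order at most k from M to an S-module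
factors by a unique S-linear map. If D_u' : S' ⊗_S M → S' ⊗_S P is a differential operator of order
at most k relative to R → S' with D_u'(1 ⊗ m) = 1 ⊗ D_u(m), then (S' ⊗_S P, D_u') is a module of
principal parts of order k of S' ⊗_S M relative to R → S'. (The published statement writes this as
an identification of S' ⊗_S P^k_{S/R}(M) with P^k_{S'/R}(M') and forms M' by base change over R
rather than over S; with base change over R the identification fails already for k = 0, R the
rationals, S = S' a polynomial ring in one variable and M = S, and the published proof computes with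
the base change over S, used here. Target modules are taken in one universe.) -/
theorem result (R S S' : Type u) [CommRing R]
    [CommRing S] [CommRing S'] [Algebra R S] [Algebra R S'] [Algebra S S'] [IsScalarTower R S S']
    [Algebra.FormallyEtale S S'] (M : Type u) [AddCommGroup M] [Module S M] [Module R M]
    [IsScalarTower R S M] (k : ℕ) (P : Type u) [AddCommGroup P] [Module S P] [Module R P]
    [IsScalarTower R S P] (Du : M →ₗ[R] P) (hDu : Diff16.IsDiffOpLE R S M P k Du)
    (huniv : ∀ (N : Type u) [AddCommGroup N] [Module S N] [Module R N] [IsScalarTower R S N]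
      (D : M →ₗ[R] N), Diff16.IsDiffOpLE R S M N k D → ∃! α : P →ₗ[S] N, α.restrictScalars R ∘ₗ Du = D)
    (Du' : S' ⊗[S] M →ₗ[R] S' ⊗[S] P) (hDu' : Diff16.IsDiffOpLE R S' (S' ⊗[S] M) (S' ⊗[S] P) k Du')
    (hext : Du' ∘ₗ (TensorProduct.mk S S' M 1).restrictScalars R =
      (TensorProduct.mk S S' P 1).restrictScalars R ∘ₗ Du) :
    ∀ (N' : Type u) [AddCommGroup N'] [Module S' N'] [Module R N'] [IsScalarTower R S' N']
      (D' : S' ⊗[S] M →ₗ[R] N'), Diff16.IsDiffOpLE R S' (S' ⊗[S] M) N' k D' →
        ∃! α : S' ⊗[S] P →ₗ[S'] N', α.restrictScalars R ∘ₗ Du' = D' := by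
  intro N' _ _ _ _ D' hD'
  -- restriction to `M` is an operator of order at most `k`
  letI : Module S N' := Module.compHom N' (algebraMap S S')
  haveI : IsScalarTower S S' N' := IsScalarTower.of_algebraMap_smul fun _ _ => rfl
  haveI : IsScalarTower R S N' := IsScalarTower.of_algebraMap_smul fun r x => by
    show algebraMap S S' (algebraMap R S r) • x = r • x
    rw [← IsScalarTower.algebraMap_apply, algebraMap_smul]
  let D₀ : M →ₗ[R] N' := D' ∘ₗ (TensorProduct.mk S S' M 1).restrictScalars R
  have hcomm : ∀ (E : S' ⊗[S] M →ₗ[R] N') (s : S),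
      Diff16.commutator R S' (S' ⊗[S] M) N' E (algebraMap S S' s) ∘ₗ
          (TensorProduct.mk S S' M 1).restrictScalars R =
        Diff16.commutator R S M N' (E ∘ₗ (TensorProduct.mk S S' M 1).restrictScalars R) s := by
    intro E s
    ext m
    simp [Diff16.commutator]
  have hres : ∀ (j : ℕ) (E : S' ⊗[S] M →ₗ[R] N'), Diff16.IsDiffOpLE R S' (S' ⊗[S] M) N' j E →
      Diff16.IsDiffOpLE R S M N' j (E ∘ₗ (TensorProduct.mk S S' M 1).restrictScalars R) := by
    intro j
    induction j with
    | zero =>
      intro E hE s m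
      simp only [LinearMap.comp_apply, LinearMap.restrictScalars_apply, TensorProduct.mk_apply]
      rw [TensorProduct.tmul_smul, ← algebraMap_smul S' s ((1 : S') ⊗ₜ[S] m), hE]
      exact algebraMap_smul S' s _
    | succ j ih =>
      intro E hE s
      rw [← hcomm]
      exact ih _ (hE (algebraMap S S' s))
  obtain ⟨α₀, hα₀, huniq⟩ := huniv N' D₀ (hres k D' hD')
  have hPost : ∀ (α : S' ⊗[S] P →ₗ[S'] N'),
      Diff16.IsDiffOpLE R S' (S' ⊗[S] M) N' k (α.restrictScalars R ∘ₗ Du') := fun α => by
    have h0 : Diff16.IsDiffOpLE R S' (S' ⊗[S] P) N' 0 (α.restrictScalars R) :=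
      fun b m => α.map_smul b m
    exact Groth.Agent.Diff.Basic.isDiffOpLE_comp k k 0 rfl Du' _ hDu' h0
  refine ⟨α₀.liftBaseChange S', ?_, fun β hβ => ?_⟩
  · refine Groth.Agent.Diff.Etale.ext_of_agree _ _ (hPost _) hD' fun m => ?_
    have h1 : Du' ((1 : S') ⊗ₜ[S] m) = (1 : S') ⊗ₜ[S] Du m := LinearMap.congr_fun hext m
    simp only [LinearMap.comp_apply, LinearMap.restrictScalars_apply, h1,
      LinearMap.liftBaseChange_tmul, one_smul]
    exact LinearMap.congr_fun hα₀ m
  · let β₀ : P →ₗ[S] N' := (β.restrictScalars S) ∘ₗ TensorProduct.mk S S' P 1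
    have hb : β₀ = α₀ := by
      refine huniq β₀ (LinearMap.ext fun m => ?_)
      have h1 : Du' ((1 : S') ⊗ₜ[S] m) = (1 : S') ⊗ₜ[S] Du m := LinearMap.congr_fun hext m
      have h2 := LinearMap.congr_fun hβ ((1 : S') ⊗ₜ[S] m)
      simp only [LinearMap.comp_apply, LinearMap.restrictScalars_apply, h1] at h2
      exact h2
    refine TensorProduct.AlgebraTensorModule.ext fun s p => ?_
    rw [LinearMap.liftBaseChange_tmul, ← hb]
    show β (s ⊗ₜ[S] p) = s • β ((1 : S') ⊗ₜ[S] p)
    rw [← map_smul, TensorProduct.smul_tmul', smul_eq_mul, mul_one]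

end Groth.Agent.S9472
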