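import Groth.Statements.S9498
import Mathlib
-- import your own Groth.Agent.* helpers here

set_option autoImplicit false
universe u
open AffSch

namespace Groth.Agent.S9498

open AlgebraicGeometry CategoryTheory Limits in
theorem mono_map {R : CommRingCat.{u}} {M N : ModuleCat.{u} R} (f : M ⟶ N) (hf : Function.Injective f.hom) :
    Mono ((tilde.functor R).map f) := by
  refine ⟨fun g h e => ?_⟩
  apply (modulesSpecToSheaf (R := R)).map_injective
  have hmono : Mono (modulesSpecToSheaf.map ((tilde.functor R).map f)).1 := by
    haveI : ∀ U, Mono ((modulesSpecToSheaf.map ((tilde.functor R).map f)).1.app U) := fun U => by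
      rw [ModuleCat.mono_iff_injective]
      intro a b hab
      refine Subtype.ext (funext fun y => ?_)
      exact IsLocalizedModule.map_injective y.1.asIdeal.primeCompl
        (LocalizedModule.mkLinearMap y.1.asIdeal.primeCompl M) (LocalizedModule.mkLinearMap y.1.asIdeal.primeCompl N)
        f.hom hf (congrFun (congrArg Subtype.val hab) y)
    exact NatTrans.mono_of_mono_app _
  have e' := congrArg (fun k => ((modulesSpecToSheaf (R := R)).map k).1) e
  simp only [Functor.map_comp, ObjectProperty.FullSubcategory.comp_hom] at e'
  exact ObjectProperty.hom_ext _ (hmono.right_cancellation _ _ e')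

open AlgebraicGeometry CategoryTheory Limits in
theorem exact_tilde (R : CommRingCat.{u}) :
    PreservesFiniteLimits (tilde.functor R) ∧ PreservesFiniteColimits (tilde.functor R) := by
  haveI hcol : PreservesFiniteColimits (tilde.functor R) := inferInstance
  haveI : (tilde.functor R).PreservesMonomorphisms :=
    ⟨fun {M N} f _ => mono_map f ((ModuleCat.mono_iff_injective f).mp inferInstance)⟩
  haveI := (tilde.functor R).preservesHomology_of_preservesMonos_and_cokernels
  exact ⟨Functor.preservesFiniteLimits_of_preservesHomology _, hcol⟩

open AlgebraicGeometry in
open CategoryTheory Limits in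
/-- For a commutative ring A, the functor M ↦ M~ from the category of A-modules to the category of
O-modules on Spec A is exact, i.e. it preserves finite limits and finite colimits. -/
theorem result
    (A : Type u) [CommRing A] :
    PreservesFiniteLimits (tilde.functor (CommRingCat.of A)) ∧
      PreservesFiniteColimits (tilde.functor (CommRingCat.of A)) := by
  exact exact_tilde (CommRingCat.of A)

end Groth.Agent.S9498
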