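import Groth.Statements.S9508
import Mathlib.AlgebraicGeometry.Morphisms.QuasiSeparated

set_option autoImplicit false
universe u
open SchMor

namespace Groth.Agent.S9508

open AlgebraicGeometry in
open CategoryTheory in
/-- (1) ⇔ (2): A morphism of schemes f : X → S is quasi-separated if and only if, whenever two affine
opens U and V of X both lie in the preimage f⁻¹(W) of one affine open W of S, their intersection U ∩
V is quasi-compact (equivalently, is covered by finitely many affine opens). -/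
theorem result
    {X S : Scheme.{u}} (f : X ⟶ S) :
    QuasiSeparated f ↔
      ∀ (U V : X.affineOpens) (W : S.affineOpens),
        (U : X.Opens) ≤ f ⁻¹ᵁ (W : S.Opens) → (V : X.Opens) ≤ f ⁻¹ᵁ (W : S.Opens) →
          IsCompact ((U : Set X) ∩ (V : Set X)) := by
  constructor
  · intro hf U V W hU hV
    haveI : IsAffine (W : Scheme.{u}) := W.2
    haveI : QuasiSeparatedSpace (f ⁻¹ᵁ (W : S.Opens)).toScheme :=
      (quasiSeparated_iff_quasiSeparatedSpace (f ∣_ (W : S.Opens))).1 inferInstance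
    have h := quasiSeparatedSpace_iff_forall_affineOpens.1 ‹QuasiSeparatedSpace (f ⁻¹ᵁ (W : S.Opens)).toScheme›
      ⟨(f ⁻¹ᵁ (W : S.Opens)).ι ⁻¹ᵁ (U : X.Opens), (IsOpenImmersion.affineOpensEquiv _).invFun ⟨U, by simpa using hU⟩ |>.2⟩
      ⟨(f ⁻¹ᵁ (W : S.Opens)).ι ⁻¹ᵁ (V : X.Opens), (IsOpenImmersion.affineOpensEquiv _).invFun ⟨V, by simpa using hV⟩ |>.2⟩
    have himg := h.image (f ⁻¹ᵁ (W : S.Opens)).ι.continuous
    convert himg using 1
    ext x
    constructor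
    · rintro ⟨hxU, hxV⟩
      exact ⟨⟨x, hU hxU⟩, ⟨hxU, hxV⟩, rfl⟩
    · rintro ⟨y, ⟨hyU, hyV⟩, rfl⟩
      exact ⟨hyU, hyV⟩
  · intro h
    refine IsZariskiLocalAtTarget.of_iSup_eq_top (P := @QuasiSeparated) (fun W : S.affineOpens => (W : S.Opens)) (iSup_affineOpens_eq_top S) fun W => ?_
    haveI : IsAffine (W : S.Opens).toScheme := W.2
    rw [quasiSeparated_iff_quasiSeparatedSpace, quasiSeparatedSpace_iff_forall_affineOpens]
    intro U V
    rw [(f ⁻¹ᵁ (W : S.Opens)).ι.isOpenEmbedding.isEmbedding.isCompact_iff,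
      Set.image_inter (f ⁻¹ᵁ (W : S.Opens)).ι.isOpenEmbedding.injective]
    have hle : ∀ T : (f ⁻¹ᵁ (W : S.Opens)).toScheme.Opens, (f ⁻¹ᵁ (W : S.Opens)).ι ''ᵁ T ≤ f ⁻¹ᵁ (W : S.Opens) :=
      fun T => by rintro x ⟨y, -, rfl⟩; exact y.2
    exact h ⟨_, U.2.image_of_isOpenImmersion (f ⁻¹ᵁ (W : S.Opens)).ι⟩ ⟨_, V.2.image_of_isOpenImmersion (f ⁻¹ᵁ (W : S.Opens)).ι⟩ W
      (hle _) (hle _)

end Groth.Agent.S9508
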