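import Groth.Statements.S9512
import Mathlib.AlgebraicGeometry.GammaSpecAdjunction
import Mathlib.AlgebraicGeometry.Scheme

set_option autoImplicit false
universe u
open LRSImm

namespace Groth.Agent.S9512

open AlgebraicGeometry in
open CategoryTheory Opposite in
/-- Let X be a locally ringed space, Y = Spec R an affine scheme and f : X → Y a morphism of locally
ringed spaces. Given a point x of X, the image f(x) is the prime of R obtained as the inverse image
of the maximal ideal of O_{X,x} under the composite R = Γ(Y, O_Y) → Γ(X, O_X) → O_{X,x}. -/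
theorem result
    (X : LocallyRingedSpace.{u}) (R : CommRingCat.{u})
    (f : X ⟶ (Spec R).toLocallyRingedSpace) (x : X.toTopCat) :
    f.base x = PrimeSpectrum.comap
      ((Scheme.ΓSpecIso R).inv ≫ f.c.app (op ⊤) ≫ X.presheaf.germ ⊤ x trivial).hom
      (IsLocalRing.closedPoint (X.presheaf.stalk x)) := by
  apply PrimeSpectrum.ext
  ext r
  have h1 : f.base x ∈ (PrimeSpectrum.basicOpen r) ↔ f.base x ∈ (Spec R).basicOpen ((Scheme.ΓSpecIso R).inv r) := by
    rw [basicOpen_eq_of_affine]
    rfl
  have h2 : f.base x ∈ (Spec R).basicOpen ((Scheme.ΓSpecIso R).inv r) ↔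
      IsUnit (X.presheaf.germ ⊤ x trivial (f.c.app (op ⊤) ((Scheme.ΓSpecIso R).inv r))) := by
    have := LocallyRingedSpace.preimage_basicOpen f (U := ⊤) ((Scheme.ΓSpecIso R).inv r)
    exact (SetLike.ext_iff.1 this x).trans (X.toRingedSpace.mem_top_basicOpen _ x)
  have h3 := h1.trans h2
  replace h3 : r ∉ (PrimeSpectrum.asIdeal (f.base x : PrimeSpectrum R)) ↔ _ := h3
  rw [← not_iff_not, h3]
  simp [PrimeSpectrum.comap, IsLocalRing.closedPoint]
  exact Iff.rfl

end Groth.Agent.S9512
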