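import Groth.Statements.S9560
import Groth.Prelude
import Groth.Agent.Locus.UnramifiedFiber
import Mathlib.RingTheory.Unramified.LocalRing
import Mathlib.RingTheory.Smooth.Flat

set_option autoImplicit false
universe u
open EtLocal

namespace Groth.Agent.S9560
set_option backward.isDefEq.respectTransparency false

/-- Suppose A is a Noetherian ring and B is a finite-type A-algebra, and consider a prime q of B lying
over the prime p of A, where B_q carries its A_p-algebra structure. Then B is étale at q over A (the
local ring B_q is formally étale over A) if and only if the local homomorphism A_p → B_q is étale,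
which means three things: B_q is A_p-flat, the ideal p B_q equals the maximal ideal of B_q, and the
residue field of q is a finite separable extension of the residue field of p (that B_q is
essentially of finite type over A_p holds automatically). -/
theorem result (A B : Type u) [CommRing A] [CommRing B]
    [Algebra A B] [IsNoetherianRing A] [Algebra.FiniteType A B]
    (p : Ideal A) [p.IsPrime] (q : Ideal B) [q.IsPrime] [q.LiesOver p]
    [Algebra (Localization.AtPrime p) (Localization.AtPrime q)]
    [Localization.AtPrime.IsLiesOverAlgebra p q] :
    Algebra.IsEtaleAt A q ↔
      Module.Flat (Localization.AtPrime p) (Localization.AtPrime q) ∧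
        p.map (algebraMap A (Localization.AtPrime q)) = IsLocalRing.maximalIdeal (Localization.AtPrime q) ∧
        Module.Finite p.ResidueField q.ResidueField ∧
        Algebra.IsSeparable p.ResidueField q.ResidueField := by
  have : Algebra.FinitePresentation A B := Algebra.FinitePresentation.of_finiteType.mp ‹_›
  constructor
  · intro h
    obtain ⟨h1, h2⟩ := Algebra.FormallyEtale.iff_formallyUnramified_and_formallySmooth.mp h
    have hu : Algebra.IsUnramifiedAt A q := h1
    have hs : Algebra.IsSmoothAt A q := h2
    obtain ⟨r, hr, hsm⟩ := Algebra.IsSmoothAt.exists_notMem_smooth A q
    obtain ⟨h3, h4⟩ := (Algebra.isUnramifiedAt_iff_map_eq A p q).mp hu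
    refine ⟨?_, h4, inferInstance, h3⟩
    have hle : Submonoid.powers r ≤ q.primeCompl := Submonoid.powers_le.mpr hr
    let := IsLocalization.localizationAlgebraOfSubmonoidLe (Localization.Away r)
      (Localization.AtPrime q) _ _ hle
    have : IsScalarTower B (Localization.Away r) (Localization.AtPrime q) :=
      IsLocalization.localization_isScalarTower_of_submonoid_le ..
    have : IsScalarTower A (Localization.Away r) (Localization.AtPrime q) := .to₁₃₄ _ B _ _
    have : IsLocalization (q.primeCompl.map (algebraMap B (Localization.Away r)))
        (Localization.AtPrime q) :=
      IsLocalization.isLocalization_of_submonoid_le _ _ (Submonoid.powers r) q.primeCompl hle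
    have : Module.Flat (Localization.Away r) (Localization.AtPrime q) :=
      IsLocalization.flat _ (q.primeCompl.map (algebraMap B (Localization.Away r)))
    have : Module.Flat A (Localization.AtPrime q) :=
      Module.Flat.trans A (Localization.Away r) _
    exact (Module.flat_iff_of_isLocalization (Localization.AtPrime p) p.primeCompl _).mpr this
  · rintro ⟨h1, h2, -, h4⟩
    have hu : Algebra.IsUnramifiedAt A q := (Algebra.isUnramifiedAt_iff_map_eq A p q).mpr ⟨h4, h2⟩
    have hs := Groth.Agent.Locus.UnramifiedFiber.isSmoothAt_of_flat_of_unramified p q
      ((Module.flat_iff_of_isLocalization (Localization.AtPrime p) p.primeCompl _).mp h1) hu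
    exact Algebra.FormallyEtale.iff_formallyUnramified_and_formallySmooth.mpr ⟨hu, hs⟩

end Groth.Agent.S9560
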