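import Groth.Statements.S9594
import Mathlib
-- import your own Groth.Agent.* helpers here

set_option autoImplicit false
universe u
open CAlg

namespace Groth.Agent.S9594

/-- For a ring R, an R-module M and a multiplicative subset S of R, (1) the primes of R associated to
the R-module S⁻¹M are the inverse images of the primes of S⁻¹R associated to S⁻¹M, and (2) a prime
of R associated to M which does not meet S is associated to the R-module S⁻¹M. Here a prime is
associated to a module when it equals the annihilator of some element. -/
theorem result {R : Type u} [CommRing R] (S : Submonoid R) (M : Type u) [AddCommGroup M] [Module R M] :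
    FlatCA.ass R (LocalizedModule S M) = Ideal.comap (algebraMap R (Localization S)) '' FlatCA.ass (Localization S) (LocalizedModule S M) ∧
      ∀ p ∈ FlatCA.ass R M, Disjoint (S : Set R) (p : Set R) → p ∈ FlatCA.ass R (LocalizedModule S M) := by
  refine ⟨?_, fun p hp hd => ?_⟩
  · ext p
    constructor
    · rintro ⟨hp, z, rfl⟩
      set p := (Submodule.span R {z}).annihilator
      have hd : Disjoint (S : Set R) (p : Set R) := Set.disjoint_left.2 fun s hs hsp => by
        have h0 := (Submodule.mem_annihilator_span_singleton z s).1 hsp
        have hz : z = 0 := (Module.End.isUnit_iff _).1 (IsLocalizedModule.map_units (LocalizedModule.mkLinearMap S M) ⟨s, hs⟩) |>.1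
          (show s • z = s • (0 : LocalizedModule S M) by rw [h0, smul_zero])
        refine hp.ne_top ((Ideal.eq_top_iff_one _).2 ?_)
        rw [Submodule.mem_annihilator_span_singleton, one_smul, hz]
      refine ⟨(Submodule.span (Localization S) {z}).annihilator, ⟨?_, z, rfl⟩, ?_⟩
      · have e : (Submodule.span (Localization S) {z}).annihilator = p.map (algebraMap R (Localization S)) := by
          rw [← IsLocalization.map_comap S (Localization S) (Submodule.span (Localization S) {z}).annihilator]
          congr 1
          ext r
          rw [Ideal.mem_comap, Submodule.mem_annihilator_span_singleton, Submodule.mem_annihilator_span_singleton, algebraMap_smul]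
        rw [e]
        exact IsLocalization.isPrime_of_isPrime_disjoint S (Localization S) p hp hd
      · ext r
        rw [Ideal.mem_comap, Submodule.mem_annihilator_span_singleton, Submodule.mem_annihilator_span_singleton, algebraMap_smul]
    · rintro ⟨q, ⟨hq, z, rfl⟩, rfl⟩
      haveI := hq
      refine ⟨inferInstance, z, ?_⟩
      ext r
      rw [Ideal.mem_comap, Submodule.mem_annihilator_span_singleton, Submodule.mem_annihilator_span_singleton, algebraMap_smul]
  · obtain ⟨hp, m, rfl⟩ := hp
    refine ⟨hp, LocalizedModule.mkLinearMap S M m, ?_⟩
    ext r
    rw [Submodule.mem_annihilator_span_singleton, Submodule.mem_annihilator_span_singleton, ← map_smul]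
    refine ⟨fun h => by rw [h, map_zero], fun h => ?_⟩
    obtain ⟨c, hc⟩ := (IsLocalizedModule.eq_zero_iff S (LocalizedModule.mkLinearMap S M)).1 h
    have hc' : (c : R) * r ∈ (Submodule.span R {m}).annihilator := by
      rw [Submodule.mem_annihilator_span_singleton, mul_smul]
      exact hc
    exact (Submodule.mem_annihilator_span_singleton m r).1 ((hp.mem_or_mem hc').resolve_left (Set.disjoint_left.1 hd c.2))

end Groth.Agent.S9594
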