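import Groth.Statements.S9595
import Mathlib
-- import your own Groth.Agent.* helpers here

set_option autoImplicit false
universe u
open CAlg

namespace Groth.Agent.S9595

/-- For a ring R, an R-module M and a multiplicative subset S of R whose elements are all
nonzerodivisors on M, a prime of R is the annihilator of an element of M if and only if it is the
annihilator in R of an element of S⁻¹M. -/
theorem result {R : Type u} [CommRing R] (S : Submonoid R) (M : Type u) [AddCommGroup M] [Module R M] (hS : ∀ s ∈ S, IsSMulRegular M s) :
    FlatCA.ass R M = FlatCA.ass R (LocalizedModule S M) := by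
  ext p
  constructor
  · rintro ⟨hp, m, rfl⟩
    refine ⟨hp, LocalizedModule.mkLinearMap S M m, ?_⟩
    ext r
    rw [Submodule.mem_annihilator_span_singleton, Submodule.mem_annihilator_span_singleton, ← map_smul]
    refine ⟨fun h => by rw [h, map_zero], fun h => ?_⟩
    obtain ⟨c, hc⟩ := (IsLocalizedModule.eq_zero_iff S (LocalizedModule.mkLinearMap S M)).1 h
    exact hS c.1 c.2 (show c.1 • (r • m) = c.1 • (0 : M) by rw [smul_zero]; exact hc)
  · rintro ⟨hp, z, rfl⟩
    obtain ⟨⟨m, s⟩, hz⟩ := IsLocalizedModule.surj S (LocalizedModule.mkLinearMap S M) z
    refine ⟨hp, m, ?_⟩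
    ext r
    rw [Submodule.mem_annihilator_span_singleton, Submodule.mem_annihilator_span_singleton]
    have hinj : Function.Injective (fun x : LocalizedModule S M => (s : R) • x) :=
      (Module.End.isUnit_iff _).1 (IsLocalizedModule.map_units (LocalizedModule.mkLinearMap S M) s) |>.1
    constructor
    · intro h
      obtain ⟨c, hc⟩ := (IsLocalizedModule.eq_zero_iff S (LocalizedModule.mkLinearMap S M)).1
        (show LocalizedModule.mkLinearMap S M (r • m) = 0 by
          rw [map_smul, ← hz]
          show r • ((s : R) • z) = 0
          rw [smul_comm, h, smul_zero])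
      exact hS c.1 c.2 (show c.1 • (r • m) = c.1 • (0 : M) by rw [smul_zero]; exact hc)
    · intro h
      refine hinj ?_
      show (s : R) • r • z = (s : R) • (0 : LocalizedModule S M)
      rw [smul_comm, show (s : R) • z = LocalizedModule.mkLinearMap S M m from hz, ← map_smul, h, map_zero, smul_zero]

end Groth.Agent.S9595
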