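import Groth.Statements.S9596
import Mathlib
-- import your own Groth.Agent.* helpers here

set_option autoImplicit false
set_option backward.isDefEq.respectTransparency false
universe u
open CAlg

open CategoryTheory CategoryTheory.Limits AlgebraicGeometry
namespace Groth.Agent.S9596

/-- For a Noetherian ring R and any R-module M, a prime which is minimal among the primes in the support
of M is an associated prime of M. -/
theorem result {R : Type u} [CommRing R] [IsNoetherianRing R] (M : Type u) [AddCommGroup M] [Module R M] (p : PrimeSpectrum R) (hp : Minimal (fun q : PrimeSpectrum R => q ∈ Module.support R M) p) :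
    p.asIdeal ∈ associatedPrimes R M := by
  haveI := p.2
  obtain ⟨hps, hmin⟩ := hp
  obtain ⟨m, hm⟩ := Module.mem_support_iff_exists_annihilator.1 hps
  let N := Submodule.span R ({m} : Set M)
  haveI : Module.Finite R N := Module.Finite.span_singleton R m
  have hann : p.asIdeal ∈ (Module.annihilator R N).minimalPrimes := by
    refine ⟨⟨p.2, hm⟩, fun q hq hqp => ?_⟩
    refine hmin (y := ⟨q, hq.1⟩) ?_ hqp
    exact Module.mem_support_iff_exists_annihilator.2 ⟨m, hq.2⟩
  exact associatedPrimes.subset_of_injective (f := N.subtype) Subtype.val_injective
    (Module.associatedPrimes.minimalPrimes_annihilator_subset_associatedPrimes R N hann)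

end Groth.Agent.S9596
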