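import Groth.Statements.S9597
import Mathlib.RingTheory.Noetherian.Basic
-- import your own Groth.Agent.* helpers here

set_option autoImplicit false
universe u
open CAlg

namespace Groth.Agent.S9597

/-- Let R be a Noetherian ring, M a finite R-module whose associated primes are pairwise incomparable
under inclusion (M has no embedded associated primes), and I the annihilator of M. Then the
associated primes of R/I, viewed as a module over itself, are again pairwise incomparable: R/I has
no embedded primes either. -/
theorem result {R : Type u} [CommRing R] [IsNoetherianRing R] (M : Type u) [AddCommGroup M] [Module R M] [Module.Finite R M] (hM : ∀ p ∈ associatedPrimes R M, ∀ q ∈ associatedPrimes R M, p ≤ q → p = q) :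
    ∀ p ∈ associatedPrimes (R ⧸ Module.annihilator R M) (R ⧸ Module.annihilator R M), ∀ q ∈ associatedPrimes (R ⧸ Module.annihilator R M) (R ⧸ Module.annihilator R M), p ≤ q → p = q := by
  classical
  set I := Module.annihilator R M with hI
  haveI : IsNoetherianRing (R ⧸ I) := isNoetherianRing_of_surjective R _ (Ideal.Quotient.mk I) Ideal.Quotient.mk_surjective
  have key : ∀ q ∈ associatedPrimes (R ⧸ I) (R ⧸ I), q.comap (Ideal.Quotient.mk I) ∈ associatedPrimes R M := by
    intro q hq
    obtain ⟨hqp, x, hx⟩ := isAssociatedPrime_iff.mp hq
    haveI := hqp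
    obtain ⟨a, rfl⟩ := Ideal.Quotient.mk_surjective x
    obtain ⟨s, hs⟩ := (Module.Finite.fg_top : (⊤ : Submodule R M).FG)
    set P := q.comap (Ideal.Quotient.mk I) with hP
    have hmem : ∀ r, r ∈ P ↔ ∀ m ∈ s, r • a • m = 0 := by
      intro r
      rw [hP, Ideal.mem_comap, hx, Submodule.mem_colon_singleton, Submodule.mem_bot, smul_eq_mul,
        ← map_mul, Ideal.Quotient.eq_zero_iff_mem, hI, ← Submodule.annihilator_top, ← hs,
        Submodule.mem_annihilator_span]
      simp only [mul_smul, Subtype.forall, Finset.mem_coe]
    have hinf : s.inf (fun m => Submodule.colon (⊥ : Submodule R M) ({a • m} : Set M)) ≤ P := by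
      intro r hr
      rw [hmem]
      intro m hm
      rw [Submodule.mem_finsetInf] at hr
      simpa [Submodule.mem_colon_singleton] using hr m hm
    haveI hPp : P.IsPrime := Ideal.comap_isPrime _ _
    obtain ⟨m, hm, hle⟩ := (hPp.inf_le').mp hinf
    refine isAssociatedPrime_iff.mpr ⟨hPp, a • m, le_antisymm (fun r hr => ?_) hle⟩
    rw [Submodule.mem_colon_singleton, Submodule.mem_bot]
    exact (hmem r).mp hr m hm
  intro p hp q hq hpq
  exact Ideal.comap_injective_of_surjective _ Ideal.Quotient.mk_surjective
    (hM _ (key p hp) _ (key q hq) (Ideal.comap_mono hpq))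

end Groth.Agent.S9597
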