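import Groth.Statements.S9598
import Mathlib
-- import your own Groth.Agent.* helpers here

set_option autoImplicit false
universe u
open CAlg

namespace Groth.Agent.S9598

/-- For a field k and a finite type k-algebra S with dim S > 0, some element of S is a nonzerodivisor
and a nonunit. -/
theorem result {k S : Type u} [Field k] [CommRing S] [Algebra k S] [Algebra.FiniteType k S] (hdim : 0 < ringKrullDim S) :
    ∃ f : S, f ∈ nonZeroDivisors S ∧ ¬ IsUnit f := by
  classical
  haveI : IsNoetherianRing S := Algebra.FiniteType.isNoetherianRing k S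
  haveI : IsJacobsonRing S := isJacobsonRing_of_finiteType (A := k)
  haveI : Nontrivial S := by
    by_contra h
    rw [not_nontrivial_iff_subsingleton] at h
    simp [ringKrullDim_eq_bot_of_subsingleton] at hdim
  have hfin := associatedPrimes.finite S S
  by_contra hno
  push Not at hno
  have hmax : ∀ m : Ideal S, m.IsMaximal → m ∈ associatedPrimes S S := by
    intro m hm
    have hsub : (m : Set S) ⊆ ⋃ p ∈ associatedPrimes S S, ((id p : Ideal S) : Set S) := by
      rw [show (⋃ p ∈ associatedPrimes S S, ((id p : Ideal S) : Set S)) = _ from biUnion_associatedPrimes_eq_compl_nonZeroDivisors S]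
      intro f hf hf'
      exact hm.ne_top (Ideal.eq_top_of_isUnit_mem _ hf (hno f hf'))
    obtain ⟨p, hp, hle⟩ := (Ideal.subset_union_prime_finite hfin (f := id) ⊥ ⊥ (fun _ h _ _ => h.1)).mp hsub
    have hp' : p.IsPrime := hp.1
    exact (hm.eq_of_le hp'.ne_top hle) ▸ hp
  have hall : ∀ p : Ideal S, p.IsPrime → p.IsMaximal := by
    intro p hp
    let T := hfin.toFinset.filter (fun m : Ideal S => m.IsMaximal)
    have hle : ∏ m ∈ T, m ≤ p := by
      refine le_trans ?_ (IsJacobsonRing.out inferInstance (Ideal.IsPrime.isRadical hp)).le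
      refine le_sInf ?_
      rintro m ⟨-, hm⟩
      exact le_trans Ideal.prod_le_inf (Finset.inf_le (Finset.mem_filter.mpr ⟨hfin.mem_toFinset.mpr (hmax m hm), hm⟩))
    obtain ⟨m, hm, hmp⟩ := hp.prod_le.mp hle
    have hm' := (Finset.mem_filter.mp hm).2
    exact hm'.eq_of_le hp.ne_top hmp ▸ hm'
  haveI : Ring.KrullDimLE 0 S := Ring.KrullDimLE.mk₀ hall
  exact (not_le_of_gt hdim) (Ring.krullDimLE_iff.mp inferInstance)

end Groth.Agent.S9598
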