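import Groth.Statements.S9601
import Groth.Agent.Adic.FiniteModule
import Mathlib.RingTheory.AdicCompletion.Completeness

set_option autoImplicit false
universe u
open CAlg

namespace Groth.Agent.S9601

/-- For a ring R, an ideal I of R and an R-module M, let M^ be the I-adic completion and K_n the kernel
of the projection M^ → M/IⁿM. The completion M^ is I-adically complete exactly when K_n = Iⁿ M^
holds for every n ≥ 1. -/
theorem result {R : Type u} [CommRing R] (I : Ideal R) (M : Type u) [AddCommGroup M] [Module R M] :
    IsAdicComplete I (AdicCompletion I M) ↔ ∀ n : ℕ, 1 ≤ n → LinearMap.ker (AdicCompletion.eval I M n) = I ^ n • (⊤ : Submodule R (AdicCompletion I M)) := by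
  constructor
  · intro h n _
    refine le_antisymm (fun x hx => ?_) (AdicCompletion.pow_smul_top_le_ker_eval (I := I) (M := M) n)
    obtain ⟨s, rfl⟩ := AdicCompletion.mk_surjective I M x
    have hof : ∀ j (y : M), y ∈ I ^ j • (⊤ : Submodule R M) →
        AdicCompletion.of I M y ∈ I ^ j • (⊤ : Submodule R (AdicCompletion I M)) := fun j y hy => by
      have := Submodule.mem_map_of_mem (f := AdicCompletion.of I M) hy
      rw [Submodule.map_smul''] at this
      exact Groth.Agent.Adic.FiniteModule.mem_smul_mono le_top this
    obtain ⟨l, hl⟩ := IsPrecomplete.prec (inferInstance : IsPrecomplete I (AdicCompletion I M))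
      (f := fun j => AdicCompletion.of I M (s.val j)) (fun {a b} hab => SModEq.sub_mem.mpr (by
        rw [← map_sub]; exact hof _ _ (SModEq.sub_mem.mp (s.2 hab))))
    have hlx : l = AdicCompletion.mk I M s := AdicCompletion.ext fun j => by
      have := AdicCompletion.pow_smul_top_le_ker_eval (I := I) (M := M) j (SModEq.sub_mem.mp (hl j))
      rw [LinearMap.mem_ker, map_sub, sub_eq_zero] at this
      exact this.symm
    have h0 : s.val n ∈ I ^ n • (⊤ : Submodule R M) := (Submodule.Quotient.mk_eq_zero _).mp hx
    have h2 := Submodule.sub_mem _ (hof n _ h0) (SModEq.sub_mem.mp (hl n))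
    rwa [sub_sub_cancel, hlx] at h2
  · intro h
    have hK : ∀ n, LinearMap.ker (AdicCompletion.eval I M n) = I ^ n • (⊤ : Submodule R (AdicCompletion I M)) := by
      intro n
      rcases Nat.eq_zero_or_pos n with rfl | hpos
      · refine le_antisymm (fun x _ => ?_) (AdicCompletion.pow_smul_top_le_ker_eval (I := I) (M := M) 0)
        simp
      · exact h n hpos
    have : IsPrecomplete I (AdicCompletion I M) := ⟨fun f hf => by
      let L : AdicCompletion I M := ⟨fun i => (f i).val i, fun {m n} hmn => by
        change AdicCompletion.transitionMap I M hmn ((f n).val n) = (f m).val m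
        rw [AdicCompletion.transitionMap_comp_eval_apply]
        have := SModEq.sub_mem.mp (hf hmn)
        rw [← hK, LinearMap.mem_ker, map_sub, sub_eq_zero] at this
        exact this.symm⟩
      exact ⟨L, fun i => SModEq.sub_mem.mpr (by rw [← hK]; simp [L, LinearMap.mem_ker])⟩⟩
    have : IsHausdorff I (AdicCompletion I M) := ⟨fun x hx => AdicCompletion.ext fun n => by
      have := SModEq.zero.mp (hx n)
      rw [← hK] at this
      simpa using this⟩
    exact ⟨⟩

end Groth.Agent.S9601
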