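import Groth.Statements.S9605
import Mathlib
-- import your own Groth.Agent.* helpers here

set_option autoImplicit false
universe u
open CAlg

namespace Groth.Agent.S9605

/-- For a ring R, an ideal I of R, an I-adically complete R-module M and a submodule K of M, the
quotient M/K is I-adically complete if and only if K = ⋂ₙ (K + IⁿM). -/
theorem result {R : Type u} [CommRing R] (I : Ideal R) (M : Type u) [AddCommGroup M] [Module R M] [IsAdicComplete I M] (K : Submodule R M) :
    IsAdicComplete I (M ⧸ K) ↔ K = ⨅ n : ℕ, K ⊔ I ^ n • (⊤ : Submodule R M) := by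
  have hmem : ∀ (n : ℕ) (x : M), K.mkQ x ∈ I ^ n • (⊤ : Submodule R (M ⧸ K)) ↔ x ∈ K ⊔ I ^ n • (⊤ : Submodule R M) := fun n x => by
    have : I ^ n • (⊤ : Submodule R (M ⧸ K)) = (I ^ n • (⊤ : Submodule R M)).map K.mkQ := by
      rw [Submodule.map_smul'', Submodule.map_top, Submodule.range_mkQ]
    rw [this, ← Submodule.mem_comap, Submodule.comap_map_mkQ]
  constructor
  · intro h
    haveI := h.toIsHausdorff
    refine le_antisymm (le_iInf fun n => le_sup_left) fun x hx => ?_
    rw [← Submodule.Quotient.mk_eq_zero K]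
    refine IsHausdorff.haus' (I := I) _ fun n => ?_
    rw [SModEq.zero]
    exact (hmem n x).2 ((Submodule.mem_iInf _).1 hx n)
  · intro hK
    haveI hH : IsHausdorff I (M ⧸ K) := ⟨fun z hz => by
      obtain ⟨x, rfl⟩ := K.mkQ_surjective z
      refine (Submodule.Quotient.mk_eq_zero K).2 (hK ▸ (Submodule.mem_iInf _).2 fun n => ?_)
      exact (hmem n x).1 (SModEq.zero.1 (hz n))⟩
    haveI hP : IsPrecomplete I (M ⧸ K) := ⟨fun f hf => by
      classical
      have step : ∀ n (x : M), K.mkQ x = f n → ∃ y : M, K.mkQ y = f (n + 1) ∧ y - x ∈ I ^ n • (⊤ : Submodule R M) := by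
        intro n x hx
        have h1 : f (n + 1) - f n ∈ I ^ n • (⊤ : Submodule R (M ⧸ K)) := SModEq.sub_mem.1 (hf n.le_succ).symm
        rw [show I ^ n • (⊤ : Submodule R (M ⧸ K)) = (I ^ n • (⊤ : Submodule R M)).map K.mkQ by
          rw [Submodule.map_smul'', Submodule.map_top, Submodule.range_mkQ]] at h1
        obtain ⟨d, hd, hd'⟩ := h1
        exact ⟨x + d, by rw [map_add, hx, hd', add_sub_cancel], by simpa using hd⟩
      choose next hnext1 hnext2 using step
      let seq : (n : ℕ) → {x : M // K.mkQ x = f n} := fun n => Nat.rec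
        ⟨Function.surjInv K.mkQ_surjective (f 0), Function.surjInv_eq _ _⟩
        (fun k p => ⟨next k p.1 p.2, hnext1 k p.1 p.2⟩) n
      have hstep : ∀ k, (seq (k+1)).1 - (seq k).1 ∈ I ^ k • (⊤ : Submodule R M) := fun k => hnext2 k _ _
      have hcau : ∀ {m n}, m ≤ n → (seq m).1 ≡ (seq n).1 [SMOD (I ^ m • ⊤ : Submodule R M)] := by
        intro m n hmn
        induction n, hmn using Nat.le_induction with
        | base => exact SModEq.refl _
        | succ k hk ih => exact ih.trans (SModEq.sub_mem.2 (Submodule.smul_mono_left (Ideal.pow_le_pow_right hk) (hstep k))).symm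
      obtain ⟨L, hL⟩ := IsPrecomplete.prec (inferInstance : IsPrecomplete I M) hcau
      refine ⟨K.mkQ L, fun n => SModEq.sub_mem.2 ?_⟩
      rw [← (seq n).2, ← map_sub]
      exact (hmem n _).2 (Submodule.mem_sup_right (SModEq.sub_mem.1 (hL n)))⟩
    exact { toIsHausdorff := hH, toIsPrecomplete := hP }

end Groth.Agent.S9605
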