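import Groth.Statements.S9606
import Groth.Agent.Misc9.SNAux
-- import your own Groth.Agent.* helpers here

set_option autoImplicit false
universe u
open CAlg

namespace Groth.Agent.S9606

/-- Let R → S be a ring map with locally nilpotent kernel such that S is generated over R by elements x
with x² and x³ in the image of R. Then the induced map on spectra is a homeomorphism and every
residue field map κ(p) → κ(q), for q a prime of S with inverse image p, is bijective. -/
theorem result {R S : Type u} [CommRing R] [CommRing S] [Algebra R S]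
    (hgen : Algebra.adjoin R {x : S | x ^ 2 ∈ Set.range (algebraMap R S) ∧ x ^ 3 ∈ Set.range (algebraMap R S)} = ⊤)
    (hker : ∀ r : R, algebraMap R S r = 0 → IsNilpotent r) :
    IsHomeomorph (PrimeSpectrum.comap (algebraMap R S)) ∧
      ∀ (q : Ideal S) [q.IsPrime], Function.Bijective (Ideal.ResidueField.map (q.comap (algebraMap R S)) q (algebraMap R S) rfl) := by
  open Groth.Agent.Misc9 Groth.Agent.Misc9.Seminormal in
  obtain ⟨⟨hU, hr⟩, -⟩ := SNAux.relative_seminormalization (A := R) (B := S) fun r hr ↦ mem_nilradical.mpr (hker r hr)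
  have htop : towerAlg (step := StepSC (A := R) (B := S)) (fun _ _ _ h hle ↦ h.mono hle) = ⊤ := by
    rw [eq_top_iff, ← hgen, Algebra.adjoin_le_iff]
    intro x hx
    refine ⟨[x], fun i ↦ ?_, Algebra.subset_adjoin (by simp)⟩
    have : [x].get i = x := by simp
    rw [this]
    obtain ⟨⟨a, ha⟩, ⟨b, hb⟩⟩ := hx
    exact ⟨ha ▸ Subalgebra.algebraMap_mem _ a, hb ▸ Subalgebra.algebraMap_mem _ b⟩
  have hb : ∀ b : S, ∃ l : List S, Tower (StepSC (A := R)) l ∧ b ∈ Algebra.adjoin R {x : S | x ∈ l} := fun b ↦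
    (htop ▸ Algebra.mem_top : b ∈ towerAlg (step := StepSC (A := R) (B := S)) (fun _ _ _ h hle ↦ h.mono hle))
  have hint : (algebraMap R S).IsIntegral := fun b ↦ by
    obtain ⟨l, hl, hbl⟩ := hb b
    exact tower_le (step := fun A x ↦ StepSC A x ∧ A ≤ A) (fun i ↦ ⟨hl i, le_rfl⟩) (integralClosure R S)
      (fun x hx ↦ stepSC_integral hx.1 le_rfl) (fun A T x hx hle ↦ ⟨hx.1.mono hle, le_rfl⟩) hbl
  have hsurj : Function.Surjective (PrimeSpectrum.comap (algebraMap R S)) := fun P ↦ by
    have : Algebra.IsIntegral R S := ⟨hint⟩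
    obtain ⟨Q, -, hQ, hQp⟩ := Ideal.exists_ideal_over_prime_of_isIntegral P.asIdeal (⊥ : Ideal S)
      (fun a ha ↦ nilradical_le_prime P.asIdeal (mem_nilradical.mpr (hker a ha)))
    exact ⟨⟨Q, hQ⟩, PrimeSpectrum.ext hQp⟩
  have hU' := univHomeo_of_towers' hsurj fun b ↦ (hb b).imp fun l hl ↦ ⟨fun i ↦ Or.inl (hl.1 i), hl.2⟩
  refine ⟨(hU' _ _ _ (CategoryTheory.IsPullback.of_id_snd) : IsHomeomorph _), fun q _ ↦ ?_⟩
  refine ⟨(Ideal.ResidueField.map (q.comap (algebraMap R S)) q (algebraMap R S) rfl).injective, fun z ↦ ?_⟩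
  obtain ⟨b, s, hs, rfl⟩ := IsFractionRing.div_surjective (A := S ⧸ q) z
  obtain ⟨b, rfl⟩ := Ideal.Quotient.mk_surjective b
  obtain ⟨s, rfl⟩ := Ideal.Quotient.mk_surjective s
  have key : ∀ b : S, ∃ w, Ideal.ResidueField.map (q.comap (algebraMap R S)) q (algebraMap R S) rfl w =
      algebraMap S q.ResidueField b := fun b ↦ by
    obtain ⟨t, a, ht, hta⟩ := resTriv_of_towers hb q ‹_› b
    refine ⟨algebraMap R _ a / algebraMap R _ t, ?_⟩
    rw [map_div₀, Ideal.ResidueField.map_algebraMap, Ideal.ResidueField.map_algebraMap]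
    have hne : algebraMap S q.ResidueField (algebraMap R S t) ≠ 0 := fun e ↦
      ht (show algebraMap R S t ∈ q from Ideal.algebraMap_residueField_eq_zero.mp e)
    rw [← Ideal.algebraMap_residueField_eq_zero, map_sub, map_mul, sub_eq_zero, mul_comm] at hta
    rw [div_eq_iff hne]
    exact hta.symm
  obtain ⟨u, hu⟩ := key b
  obtain ⟨v, hv⟩ := key s
  exact ⟨u / v, by simp only [Ideal.algebraMap_quotient_residueField_mk, map_div₀, hu, hv]⟩

end Groth.Agent.S9606
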