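import Groth.Statements.S9609
import Groth.Agent.UnivHomeo.Basic
-- import your own Groth.Agent.* helpers here

set_option autoImplicit false
universe u
open CAlg

namespace Groth.Agent.S9609

open TensorProduct in
/-- Let R → S be a ring map which is injective on spectra and whose residue field extensions κ(p) → κ(q)
(q a prime of S with inverse image p) are purely inseparable: every element of κ(q) has a power with
exponent a power of the characteristic exponent lying in the image of κ(p). Then, given an arbitrary
R-algebra R', the induced map R' → R' ⊗_R S is likewise injective on spectra and has purely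
inseparable residue field extensions. -/
theorem result {R S R' : Type u} [CommRing R] [CommRing S] [CommRing R'] [Algebra R S] [Algebra R R']
    (hinj : Function.Injective (PrimeSpectrum.comap (algebraMap R S)))
    (hpi : ∀ (q : Ideal S) [q.IsPrime] (x : q.ResidueField), ∃ n : ℕ, x ^ (ringExpChar (q.comap (algebraMap R S)).ResidueField) ^ n ∈ Set.range (Ideal.ResidueField.map (q.comap (algebraMap R S)) q (algebraMap R S) rfl)) :
    Function.Injective (PrimeSpectrum.comap (algebraMap R' (R' ⊗[R] S))) ∧
      ∀ (q' : Ideal (R' ⊗[R] S)) [q'.IsPrime] (x : q'.ResidueField), ∃ n : ℕ, x ^ (ringExpChar (q'.comap (algebraMap R' (R' ⊗[R] S))).ResidueField) ^ n ∈ Set.range (Ideal.ResidueField.map (q'.comap (algebraMap R' (R' ⊗[R] S))) q' (algebraMap R' (R' ⊗[R] S)) rfl) := by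
  open Groth.Agent.UnivHomeo.Basic in
  have h : InjPoints (algebraMap R S) := by
    intro K _ g₁ g₂ hg
    have hP : ∀ g : S →+* K, (RingHom.ker g).IsPrime := fun g ↦ RingHom.ker_isPrime g
    have hk : RingHom.ker g₁ = RingHom.ker g₂ := by
      refine congrArg PrimeSpectrum.asIdeal (hinj (a₁ := ⟨_, hP g₁⟩) (a₂ := ⟨_, hP g₂⟩) (PrimeSpectrum.ext ?_))
      show (RingHom.ker g₁).comap _ = (RingHom.ker g₂).comap _
      rw [RingHom.comap_ker, RingHom.comap_ker, hg]
    have := hP g₁
    let q : Ideal S := RingHom.ker g₁
    have hu : ∀ g : S →+* K, RingHom.ker g = q → q.primeCompl ≤ (IsUnit.submonoid K).comap g := fun g hgq a ha ↦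
      IsUnit.mk0 _ fun h0 ↦ ha (hgq ▸ RingHom.mem_ker.mpr h0)
    let σ₁ := Ideal.ResidueField.lift q g₁ le_rfl (hu g₁ rfl)
    let σ₂ := Ideal.ResidueField.lift q g₂ hk.le (hu g₂ hk.symm)
    let m := Ideal.ResidueField.map (q.comap (algebraMap R S)) q (algebraMap R S) rfl
    have hσ : σ₁.comp m = σ₂.comp m := Ideal.ResidueField.ringHom_ext (RingHom.ext fun r ↦ by
      simp only [σ₁, σ₂, m, RingHom.comp_apply, Ideal.ResidueField.map_algebraMap, Ideal.ResidueField.lift_algebraMap]
      exact DFunLike.congr_fun hg r)
    have : ExpChar K (ringExpChar (q.comap (algebraMap R S)).ResidueField) :=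
      expChar_of_injective_ringHom (σ₁.comp m).injective _
    ext b
    obtain ⟨n, z, hz⟩ := hpi q (algebraMap S q.ResidueField b)
    have e : σ₁ (algebraMap S q.ResidueField b) ^ ringExpChar (q.comap (algebraMap R S)).ResidueField ^ n =
        σ₂ (algebraMap S q.ResidueField b) ^ ringExpChar (q.comap (algebraMap R S)).ResidueField ^ n := by
      rw [← map_pow σ₁, ← map_pow σ₂, ← hz]
      exact DFunLike.congr_fun hσ z
    rw [← iterateFrobenius_def, ← iterateFrobenius_def] at e
    have := iterateFrobenius_inj K _ n e
    simpa [σ₁, σ₂, Ideal.ResidueField.lift_algebraMap] using this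
  have h' : InjPoints (algebraMap R' (R' ⊗[R] S)) := by
    intro K _ g₁ g₂ hg
    have hS : g₁.comp (Algebra.TensorProduct.includeRight : S →ₐ[R] R' ⊗[R] S).toRingHom =
        g₂.comp (Algebra.TensorProduct.includeRight : S →ₐ[R] R' ⊗[R] S).toRingHom := h K _ _ (RingHom.ext fun r ↦ by
      simp only [RingHom.comp_apply, AlgHom.toRingHom_eq_coe, RingHom.coe_coe, AlgHom.commutes]
      rw [IsScalarTower.algebraMap_apply R R' (R' ⊗[R] S)]
      exact DFunLike.congr_fun hg (algebraMap R R' r))
    refine RingHom.ext fun z ↦ ?_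
    induction z using TensorProduct.induction_on with
    | zero => rw [map_zero, map_zero]
    | add x y hx hy => rw [map_add, map_add, hx, hy]
    | tmul a b =>
      rw [show a ⊗ₜ[R] b = algebraMap R' (R' ⊗[R] S) a * (Algebra.TensorProduct.includeRight : S →ₐ[R] R' ⊗[R] S) b by simp,
        map_mul, map_mul]
      congr 1
      · exact DFunLike.congr_fun hg a
      · exact DFunLike.congr_fun hS b
  exact ⟨comap_injective_of_injPoints h', fun q' _ x ↦ exists_pow_mem_range_residueFieldMap h' q' _ rfl x⟩

end Groth.Agent.S9609
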