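import Groth.Statements.S9611
import Mathlib
-- import your own Groth.Agent.* helpers here

set_option autoImplicit false
universe u
open CAlg

namespace Groth.Agent.S9611

/-- Let R be a Jacobson ring, p a prime ideal of R which is not maximal, and f an element of R not in p.
Then the set of primes of R containing p and not containing f is infinite. -/
theorem result {R : Type u} [CommRing R] [IsJacobsonRing R] (p : Ideal R) [p.IsPrime] (hp : ¬ p.IsMaximal) (f : R) (hf : f ∉ p) :
    {q : PrimeSpectrum R | p ≤ q.asIdeal ∧ f ∉ q.asIdeal}.Infinite := by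
  classical
  intro hfin
  have hS : ∀ q : PrimeSpectrum R, p ≤ q.asIdeal → q.asIdeal.IsMaximal → ∃ g : R, g ∈ q.asIdeal ∧ g ∉ p := by
    intro q hpq hqm
    by_contra h
    push Not at h
    exact hp (by rw [le_antisymm hpq h]; exact hqm)
  choose g hg1 hg2 using hS
  let T := hfin.toFinset
  let G : R := f * ∏ q ∈ T, if h : p ≤ q.asIdeal ∧ q.asIdeal.IsMaximal then g q h.1 h.2 else 1
  have hG : G ∈ p.jacobson := by
    rw [Ideal.jacobson, Ideal.mem_sInf]
    rintro m ⟨hpm, hm⟩
    by_cases hfm : f ∈ m
    · exact m.mul_mem_right _ hfm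
    · refine m.mul_mem_left _ ?_
      let q : PrimeSpectrum R := ⟨m, hm.isPrime⟩
      have hq : q ∈ T := hfin.mem_toFinset.mpr ⟨hpm, hfm⟩
      refine Ideal.prod_mem _ hq ?_
      rw [dif_pos ⟨hpm, hm⟩]
      exact hg1 q hpm hm
  have hrad : p.IsRadical := Ideal.IsPrime.isRadical inferInstance
  rw [IsJacobsonRing.out inferInstance hrad] at hG
  rcases (Ideal.IsPrime.mem_or_mem inferInstance hG) with h | h
  · exact hf h
  · obtain ⟨q, -, hq⟩ := (Ideal.IsPrime.prod_mem_iff).mp h
    split_ifs at hq with h'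
    · exact hg2 q h'.1 h'.2 hq
    · exact (Ideal.ne_top_iff_one p).mp (Ideal.IsPrime.ne_top') hq

end Groth.Agent.S9611
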