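import Groth.Statements.S9612
import Mathlib
-- import your own Groth.Agent.* helpers here

set_option autoImplicit false
universe u
open CAlg

namespace Groth.Agent.S9612

/-- A finite type ℤ-algebra is a Jacobson ring. -/
theorem result {S : Type u} [CommRing S] [Algebra.FiniteType ℤ S] :
    IsJacobsonRing S := by
  haveI : IsJacobsonRing ℤ := isJacobsonRing_iff_prime_eq.mpr fun P hP => by
    by_cases h : P = ⊥
    · subst h
      refine le_antisymm (fun x hx => ?_) Ideal.le_jacobson
      by_contra hx0
      obtain ⟨p, hpx, hp⟩ := Nat.exists_infinite_primes (x.natAbs + 1)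
      have hpZ : Prime (p : ℤ) := Nat.prime_iff_prime_int.mp hp
      have hm : (Ideal.span {(p : ℤ)}).IsMaximal :=
        PrincipalIdealRing.isMaximal_of_irreducible hpZ.irreducible
      have h1 : x ∈ Ideal.span {(p : ℤ)} := Submodule.mem_sInf.mp hx _ ⟨bot_le, hm⟩
      rw [Ideal.mem_span_singleton] at h1
      have h2 : p ∣ x.natAbs := Int.natCast_dvd.mp h1
      have := Nat.le_of_dvd (Int.natAbs_pos.mpr hx0) h2
      omega
    · haveI := Ideal.IsPrime.isMaximal hP h
      exact Ideal.jacobson_eq_self_of_isMaximal
  exact isJacobsonRing_of_finiteType (A := ℤ)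

end Groth.Agent.S9612
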