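import Groth.Statements.S9617
import Mathlib

set_option autoImplicit false
set_option maxHeartbeats 80000
universe u
open CAlg

namespace Groth.Agent.S9617

/-- Let S be an ℕ-graded ring, presented as a graded algebra over a ring A mapping onto S₀, such that S
is of finite type over A, i.e. over S₀. If M is a finitely generated graded S-module, graded in
nonnegative degrees (the source allows all integer degrees), then each graded piece M_n is a finite
module over A, i.e. over S₀. -/
theorem result {A S : Type u} [CommRing A] [CommRing S] [Algebra A S] (𝒜 : ℕ → Submodule A S) [GradedAlgebra 𝒜]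
    (h0 : ∀ s ∈ 𝒜 0, s ∈ Set.range (algebraMap A S)) [Algebra.FiniteType A S]
    (M : Type u) [AddCommGroup M] [Module A M] [Module S M] [IsScalarTower A S M] [Module.Finite S M] (ℳ : ℕ → Submodule A M) [DirectSum.Decomposition ℳ] [SetLike.GradedSMul 𝒜 ℳ] (n : ℕ) :
    Module.Finite A (ℳ n) := by
  classical
  obtain ⟨G0, hG0⟩ := (Algebra.FiniteType.out : (⊤ : Subalgebra A S).FG)
  let G : Finset S := G0.biUnion fun g => (DFinsupp.support (DirectSum.decompose 𝒜 g)).image fun j => (DirectSum.decompose 𝒜 g j : S)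
  have hGh : ∀ x ∈ G, ∃ e, x ∈ 𝒜 e := by
    intro x hx
    obtain ⟨g, -, hx⟩ := Finset.mem_biUnion.mp hx
    obtain ⟨j, -, rfl⟩ := Finset.mem_image.mp hx
    exact ⟨j, SetLike.coe_mem _⟩
  have hG : Algebra.adjoin A (↑G : Set S) = ⊤ := by
    rw [eq_top_iff, ← hG0, Algebra.adjoin_le_iff]
    intro g hg
    rw [← DirectSum.sum_support_decompose 𝒜 g]
    exact sum_mem fun j hj => Algebra.subset_adjoin (Finset.mem_biUnion.mpr ⟨g, hg, Finset.mem_image.mpr ⟨j, hj, rfl⟩⟩)
  let W : Submodule A S := Submodule.span A (insert 1 (↑G : Set S))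
  have hW1 : (1 : Submodule A S) ≤ W := by
    rw [Submodule.one_eq_span]; exact Submodule.span_mono (by simp)
  have hmono : ∀ {a b : ℕ}, a ≤ b → W ^ a ≤ W ^ b := fun h => pow_le_pow_right' hW1 h
  have hS : ∀ k, 𝒜 k ≤ W ^ k := by
    suffices h : ∀ s : S, ∀ k, (DirectSum.decompose 𝒜 s k : S) ∈ W ^ k by
      intro k s hs
      simpa [DirectSum.decompose_of_mem_same 𝒜 hs] using h s k
    intro s
    have hs : s ∈ Algebra.adjoin A (↑G : Set S) := hG ▸ Algebra.mem_top
    have hzero : ∀ x ∈ 𝒜 0, x ∈ (1 : Submodule A S) := by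
      intro x hx
      obtain ⟨a, rfl⟩ := h0 x hx
      exact Submodule.algebraMap_mem a
    induction hs using Algebra.adjoin_induction with
    | mem x hx =>
      obtain ⟨e, he⟩ := hGh x hx
      intro k
      by_cases hk : k = e
      · subst hk
        rw [DirectSum.decompose_of_mem_same 𝒜 he]
        rcases Nat.eq_zero_or_pos k with rfl | hpos
        · simpa using hzero x he
        · exact hmono hpos (by simpa [W] using Submodule.subset_span (Set.mem_insert_of_mem _ hx))
      · rw [DirectSum.decompose_of_mem_ne 𝒜 he (Ne.symm hk)]; exact zero_mem _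
    | algebraMap a =>
      intro k
      have ha : algebraMap A S a ∈ 𝒜 0 := SetLike.algebraMap_mem_graded 𝒜 a
      by_cases hk : k = 0
      · subst hk
        rw [DirectSum.decompose_of_mem_same 𝒜 ha]
        simpa using hzero _ ha
      · rw [DirectSum.decompose_of_mem_ne 𝒜 ha (Ne.symm hk)]; exact zero_mem _
    | add x y _ _ hx hy =>
      intro k
      rw [DirectSum.decompose_add]
      simpa using add_mem (hx k) (hy k)
    | mul x y _ _ hx hy =>
      intro k
      rw [DirectSum.decompose_mul, DirectSum.coe_mul_apply]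
      refine Submodule.sum_mem _ fun ij hij => ?_
      rw [← (Finset.mem_filter.mp hij).2, pow_add]
      exact Submodule.mul_mem_mul (hx ij.1) (hy ij.2)
  obtain ⟨H, hH⟩ := (Module.Finite.fg_top : (⊤ : Submodule S M).FG)
  let C : Finset (ℕ × M) := H.biUnion fun h => (DFinsupp.support (DirectSum.decompose ℳ h)).image fun j => (j, (DirectSum.decompose ℳ h j : M))
  let proj : M →ₗ[A] ↥(ℳ n) := (DirectSum.component A ℕ (fun i => ↥(ℳ i)) n).comp (DirectSum.decomposeLinearEquiv ℳ).toLinearMap
  have hproj : ∀ x : M, (proj x : M) = DirectSum.decompose ℳ x n := fun x => rfl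
  let smr : M → (S →ₗ[A] ↥(ℳ n)) := fun x => proj.comp ((LinearMap.toSpanSingleton S M x).restrictScalars A)
  refine ⟨?_⟩
  let T : Submodule A ↥(ℳ n) := C.sup fun p => (W ^ n).map (smr p.2)
  have hTfg : T.FG := Submodule.fg_finset_sup _ _ fun p _ => ((Submodule.fg_span ((G.finite_toSet).insert 1)).pow n).map _
  have hle : ∀ (C' : Finset (ℕ × M)) (p : ℕ × M), p ∈ C' → (W ^ n).map (smr p.2) ≤ C'.sup (fun q => (W ^ n).map (smr q.2)) := by
    intro C' p hp
    exact @Finset.le_sup _ _ _ _ C' (fun q : ℕ × M => (W ^ n).map (smr q.2)) p hp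
  have hle' : ∀ p ∈ C, (W ^ n).map (smr p.2) ≤ T := hle C
  clear_value T
  have hsmr : ∀ (x : M) (s : S), (smr x s : M) = DirectSum.decompose ℳ (s • x) n := fun x s => rfl
  have hps : ∀ (x : M) (s : S), proj (s • x) = smr x s := fun x s => rfl
  clear_value smr proj
  have hC : ∀ p ∈ C, p.2 ∈ ℳ p.1 := by
    intro p hp
    obtain ⟨h, hh, hp'⟩ := Finset.mem_biUnion.mp hp
    obtain ⟨j, -, rfl⟩ := Finset.mem_image.mp hp'
    exact SetLike.coe_mem _
  have key : ∀ p ∈ C, ∀ s : S, smr p.2 s ∈ T := by
    intro p hp s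
    have hx := hC p hp
    obtain ⟨j, x⟩ := p
    rw [← DirectSum.sum_support_decompose 𝒜 s, map_sum]
    refine Submodule.sum_mem _ fun i _ => ?_
    have hm : ((DirectSum.decompose 𝒜 s i : S)) • x ∈ ℳ (i +ᵥ j) := SetLike.GradedSMul.smul_mem (SetLike.coe_mem _) hx
    rw [vadd_eq_add] at hm
    by_cases hn : i + j = n
    · have : (W ^ n).map (smr x) ≤ T := hle' _ hp
      exact this (Submodule.mem_map_of_mem (hmono (by omega) (hS i (SetLike.coe_mem _))))
    · have : smr x (DirectSum.decompose 𝒜 s i : S) = 0 := by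
        apply Subtype.ext
        simp only [hsmr]
        exact DirectSum.decompose_of_mem_ne ℳ hm hn
      rw [this]; exact zero_mem _
  suffices T = ⊤ from this ▸ hTfg
  rw [eq_top_iff]
  intro y _
  have : ∀ m : M, proj m ∈ T := by
    intro m
    have hm : m ∈ Submodule.span S (↑H : Set M) := hH ▸ Submodule.mem_top
    obtain ⟨c, -, rfl⟩ := Submodule.mem_span_finset.mp hm
    rw [map_sum]
    refine Submodule.sum_mem _ fun h hh => ?_
    have e : c h • h = ∑ j ∈ DFinsupp.support (DirectSum.decompose ℳ h), c h • (DirectSum.decompose ℳ h j : M) := by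
      rw [← Finset.smul_sum, DirectSum.sum_support_decompose]
    rw [e]
    rw [map_sum]
    refine Submodule.sum_mem _ fun j hj => ?_
    rw [hps]
    exact key (j, _) (Finset.mem_biUnion.mpr ⟨h, hh, Finset.mem_image.mpr ⟨j, hj, rfl⟩⟩) (c h)
  have h2 := this (y : M)
  have : proj (y : M) = y := Subtype.ext ((hproj _).trans (DirectSum.decompose_of_mem_same ℳ y.2))
  rwa [this] at h2

end Groth.Agent.S9617
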