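import Groth.Statements.S9619
import Mathlib
-- import your own Groth.Agent.* helpers here

set_option autoImplicit false
universe u
open CAlg

namespace Groth.Agent.S9619

/-- For a ring R and two sets E, E' of idempotent elements of R with the same zero locus in Spec R, the
ideals generated by E and by E' are equal. -/
theorem result {R : Type u} [CommRing R] (E E' : Set R) (hE : ∀ e ∈ E, IsIdempotentElem e) (hE' : ∀ e ∈ E', IsIdempotentElem e) (h : PrimeSpectrum.zeroLocus E = PrimeSpectrum.zeroLocus E') :
    Ideal.span E = Ideal.span E' := by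
  have key : ∀ E E' : Set R, (∀ e ∈ E, IsIdempotentElem e) →
      PrimeSpectrum.zeroLocus E' ⊆ PrimeSpectrum.zeroLocus E → Ideal.span E ≤ Ideal.span E' := by
    intro E E' hE h
    refine Ideal.span_le.2 fun e he => ?_
    have : e ∈ (Ideal.span E').radical := by
      rw [← PrimeSpectrum.vanishingIdeal_zeroLocus_eq_radical, PrimeSpectrum.zeroLocus_span, PrimeSpectrum.mem_vanishingIdeal]
      exact fun p hp => h hp he
    obtain ⟨n, hn⟩ := this
    rcases n with _ | n
    · rw [pow_zero] at hn
      rw [SetLike.mem_coe, Ideal.eq_top_of_isUnit_mem _ hn isUnit_one]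
      trivial
    · rwa [(hE e he).pow_succ_eq] at hn
  exact le_antisymm (key E E' hE h.ge) (key E' E hE' h.le)

end Groth.Agent.S9619
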