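import Groth.Statements.S9620
import Mathlib
-- import your own Groth.Agent.* helpers here

set_option autoImplicit false
universe u
open CAlg

namespace Groth.Agent.S9620

/-- For a ring R and a point p of Spec R, the connected component of p is the zero locus of the ideal I
generated by the idempotents of R contained in p, and every idempotent e of R satisfies e ∈ I or 1 -
e ∈ I (e maps to 0 or 1 in R/I). -/
theorem result {R : Type u} [CommRing R] (p : PrimeSpectrum R) :
    connectedComponent p = PrimeSpectrum.zeroLocus {e : R | IsIdempotentElem e ∧ e ∈ p.asIdeal} ∧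
      ∀ e : R, IsIdempotentElem e → (e ∈ Ideal.span {e : R | IsIdempotentElem e ∧ e ∈ p.asIdeal} ∨ 1 - e ∈ Ideal.span {e : R | IsIdempotentElem e ∧ e ∈ p.asIdeal}) := by
  set E := {e : R | IsIdempotentElem e ∧ e ∈ p.asIdeal}
  haveI := p.2
  have hdich : ∀ e : R, IsIdempotentElem e → e ∈ Ideal.span E ∨ 1 - e ∈ Ideal.span E := fun e he => by
    rcases p.2.mem_or_mem (show e * (1 - e) ∈ p.asIdeal by rw [mul_sub, mul_one, he.eq, sub_self]; exact p.asIdeal.zero_mem) with h1 | h1
    · exact Or.inl (Ideal.subset_span ⟨he, h1⟩)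
    · exact Or.inr (Ideal.subset_span ⟨he.one_sub, h1⟩)
  have hdir : ∀ a ∈ Ideal.span E, ∃ e ∈ E, e * a = a := fun a ha => by
    induction ha using Submodule.span_induction with
    | mem x hx => exact ⟨x, hx, hx.1.eq⟩
    | zero => exact ⟨0, ⟨IsIdempotentElem.zero, p.asIdeal.zero_mem⟩, mul_zero _⟩
    | add x y _ _ hx hy =>
      obtain ⟨e, he, hex⟩ := hx
      obtain ⟨f, hf, hfy⟩ := hy
      refine ⟨e + f - e * f, ⟨?_, p.asIdeal.sub_mem (p.asIdeal.add_mem he.2 hf.2) (p.asIdeal.mul_mem_right _ he.2)⟩, ?_⟩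
      · have h1 := he.1.eq
        have h2 := hf.1.eq
        show (e + f - e * f) * (e + f - e * f) = e + f - e * f
        linear_combination (1 - f) ^ 2 * h1 + (1 - e) * h2
      · linear_combination (1 - f) * hex + (1 - e) * hfy
    | smul r x _ hx =>
      obtain ⟨e, he, hex⟩ := hx
      exact ⟨e, he, by rw [smul_eq_mul, mul_left_comm, hex]⟩
  haveI : PreconnectedSpace (PrimeSpectrum (R ⧸ Ideal.span E)) := by
    rw [preconnectedSpace_iff_clopen]
    intro s hs
    obtain ⟨ē, hē, rfl⟩ := PrimeSpectrum.isClopen_iff.1 hs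
    obtain ⟨a, rfl⟩ := Ideal.Quotient.mk_surjective ē
    obtain ⟨e, he, hea⟩ := hdir (a * a - a) (Ideal.Quotient.eq.1 (by rw [map_mul]; exact hē.eq))
    have hid : IsIdempotentElem ((1 - e) * a) := by
      show (1 - e) * a * ((1 - e) * a) = (1 - e) * a
      linear_combination a * a * he.1.eq - hea
    have hmk : Ideal.Quotient.mk (Ideal.span E) ((1 - e) * a) = Ideal.Quotient.mk _ a := by
      rw [map_mul, map_sub, map_one, Ideal.Quotient.eq_zero_iff_mem.2 (Ideal.subset_span he), sub_zero, one_mul]
    rcases hdich _ hid with h | h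
    · left
      rw [← hmk, Ideal.Quotient.eq_zero_iff_mem.2 h, PrimeSpectrum.basicOpen_zero]
      rfl
    · right
      have h1 : Ideal.Quotient.mk (Ideal.span E) ((1 - e) * a) = 1 := by
        have := Ideal.Quotient.eq_zero_iff_mem.2 h
        rw [map_sub, map_one, sub_eq_zero] at this
        exact this.symm
      rw [← hmk, h1, PrimeSpectrum.basicOpen_one]
      rfl
  have h : connectedComponent p = PrimeSpectrum.zeroLocus E := by
    refine le_antisymm (fun q hq e he => ?_) ?_
    · by_contra hne
      have hcl : IsClopen (PrimeSpectrum.basicOpen (1 - e) : Set (PrimeSpectrum R)) := PrimeSpectrum.isClopen_iff.2 ⟨1 - e, he.1.one_sub, rfl⟩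
      have hp : p ∈ (PrimeSpectrum.basicOpen (1 - e) : Set (PrimeSpectrum R)) := fun hh =>
        p.2.ne_top ((Ideal.eq_top_iff_one _).2 (by simpa using p.asIdeal.add_mem hh he.2))
      have h2 : (1 : R) - e ∉ q.asIdeal := hcl.connectedComponent_subset hp hq
      exact ((q.2.mem_or_mem (show e * (1 - e) ∈ q.asIdeal by rw [mul_sub, mul_one, he.1.eq, sub_self]; exact q.asIdeal.zero_mem)).elim hne h2)
    · have hc : IsPreconnected (PrimeSpectrum.zeroLocus E) := by
        rw [← PrimeSpectrum.zeroLocus_span, ← Ideal.mk_ker (I := Ideal.span E),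
          ← range_comap_of_surjective _ _ Ideal.Quotient.mk_surjective]
        exact isPreconnected_range (PrimeSpectrum.continuous_comap _)
      exact hc.subset_connectedComponent fun e he => he.2
  refine ⟨h, fun e he => ?_⟩
  haveI := p.2
  rcases p.2.mem_or_mem (show e * (1 - e) ∈ p.asIdeal by rw [mul_sub, mul_one, he.eq, sub_self]; exact p.asIdeal.zero_mem) with h1 | h1
  · exact Or.inl (Ideal.subset_span ⟨he, h1⟩)
  · exact Or.inr (Ideal.subset_span ⟨he.one_sub, h1⟩)

end Groth.Agent.S9620
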