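import Groth.Statements.S9621
import Mathlib
-- import your own Groth.Agent.* helpers here

set_option autoImplicit false
universe u
open CAlg

namespace Groth.Agent.S9621

/-- Let R be a ring, p a minimal prime of R and W a quasi-compact open subset of Spec R not containing
p. Then there is an f ∈ R, f ∉ p, whose basic open D(f) is disjoint from W. -/
theorem result {R : Type u} [CommRing R] (p : PrimeSpectrum R) (hp : p.asIdeal ∈ minimalPrimes R) (W : Set (PrimeSpectrum R)) (hWo : IsOpen W) (hWc : IsCompact W) (hpW : p ∉ W) :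
    ∃ f : R, f ∉ p.asIdeal ∧ Disjoint (PrimeSpectrum.basicOpen f : Set (PrimeSpectrum R)) W := by
  classical
  obtain ⟨t, ht⟩ := PrimeSpectrum.isCompact_isOpen_iff.1 ⟨hWc, hWo⟩
  haveI := p.2
  have key : ∀ g ∈ t, ∃ f : R, f ∉ p.asIdeal ∧ ∀ q : PrimeSpectrum R, f ∈ q.asIdeal ∨ g ∈ q.asIdeal := by
    intro g hg
    have hgp : g ∈ p.asIdeal := by
      by_contra h
      exact hpW (ht ▸ fun hz => h (hz hg))
    let L := Localization.AtPrime p.asIdeal
    have hnil : IsNilpotent (algebraMap R L g) := by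
      rw [← mem_nilradical, nilradical_eq_sInf]
      refine Ideal.mem_sInf.2 fun {J} hJ => ?_
      haveI : J.IsPrime := hJ
      have hle : J.comap (algebraMap R L) ≤ p.asIdeal := by
        have := (IsLocalization.isPrime_iff_isPrime_disjoint p.asIdeal.primeCompl L J).1 hJ
        intro a ha
        by_contra h
        exact Set.disjoint_left.1 this.2 h ha
      have := hp.2 ⟨inferInstance, bot_le⟩ hle hgp
      exact this
    obtain ⟨n, hn⟩ := hnil
    rw [← map_pow, IsLocalization.map_eq_zero_iff p.asIdeal.primeCompl] at hn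
    obtain ⟨⟨f, hf⟩, hfg⟩ := hn
    refine ⟨f, hf, fun q => ?_⟩
    rcases q.2.mem_or_mem (show f * g ^ n ∈ q.asIdeal by rw [hfg]; exact Submodule.zero_mem _) with h | h
    · exact Or.inl h
    · exact Or.inr (q.2.mem_of_pow_mem _ h)
  choose F hF1 hF2 using key
  refine ⟨∏ g ∈ t.attach, F g.1 g.2, fun h => ?_, Set.disjoint_left.2 fun q hq hqW => ?_⟩
  · obtain ⟨g, -, hg⟩ := (Ideal.IsPrime.prod_mem_iff (hp := p.2)).1 h
    exact hF1 _ _ hg
  · rw [← ht] at hqW
    refine hqW fun g hg => ?_
    exact (hF2 g hg q).resolve_left fun h => hq (Ideal.mem_of_dvd _ (Finset.dvd_prod_of_mem (fun g : {x // x ∈ t} => F g.1 g.2) (Finset.mem_attach t ⟨g, hg⟩)) h)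

end Groth.Agent.S9621
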