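import Groth.Statements.S9622
import Mathlib
-- import your own Groth.Agent.* helpers here

set_option autoImplicit false
universe u
open CAlg

namespace Groth.Agent.S9622

/-- Let R → S be a ring map whose target S is a local Artinian ring, and write m for the maximal ideal
of S. Then S is a finite R-module exactly when S/m is, and S is an R-algebra of finite type exactly
when S/m is. -/
theorem result {R S : Type u} [CommRing R] [CommRing S] [Algebra R S] [IsArtinianRing S] [IsLocalRing S] :
    (Module.Finite R S ↔ Module.Finite R (S ⧸ IsLocalRing.maximalIdeal S)) ∧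
      (Algebra.FiniteType R S ↔ Algebra.FiniteType R (S ⧸ IsLocalRing.maximalIdeal S)) := by
  set m := IsLocalRing.maximalIdeal S
  have hnil : IsNilpotent m := by
    obtain ⟨n, hn⟩ := IsArtinianRing.isNilpotent_jacobson_bot (R := S)
    rw [IsLocalRing.jacobson_eq_maximalIdeal _ bot_ne_top] at hn
    exact ⟨n, hn⟩
  obtain ⟨n, hn⟩ := hnil
  refine ⟨⟨fun h => Module.Finite.of_surjective (Ideal.Quotient.mkₐ R m).toLinearMap Ideal.Quotient.mk_surjective, fun h => ?_⟩,
    ⟨fun h => h.of_surjective (Ideal.Quotient.mkₐ R m) Ideal.Quotient.mk_surjective, fun h => ?_⟩⟩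
  · have hk : ∀ k, Module.Finite R (S ⧸ m ^ k) := fun k => by
      induction k with
      | zero =>
        haveI : Subsingleton (S ⧸ m ^ 0) := by rw [pow_zero, Ideal.one_eq_top]; infer_instance
        infer_instance
      | succ k ih =>
        haveI := ih
        let f : (S ⧸ m ^ (k+1)) →ₗ[R] S ⧸ m ^ k := (Ideal.Quotient.factorₐ R (Ideal.pow_le_pow_right k.le_succ)).toLinearMap
        haveI : Module.Finite R (LinearMap.ker f) := by
          let K : Submodule S (S ⧸ m ^ (k+1)) := Submodule.map (Submodule.mkQ (m ^ (k+1))) (m ^ k)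
          haveI : Module.Finite S K := Module.Finite.iff_fg.2 ((IsNoetherian.noetherian (m ^ k)).map _)
          have hK : ∀ (a : m) (x : K), (a : S) • x = 0 := by
            rintro a ⟨x, hx⟩
            obtain ⟨y, hy, rfl⟩ := hx
            apply Subtype.ext
            show Ideal.Quotient.mk _ ((a : S) * y) = 0
            rw [Ideal.Quotient.eq_zero_iff_mem, pow_succ']
            exact Ideal.mul_mem_mul a.2 hy
          letI : Module (S ⧸ m) K := Module.IsTorsionBySet.module (fun x a => hK a x)
          haveI : IsScalarTower S (S ⧸ m) K := Module.IsTorsionBySet.isScalarTower _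
          haveI : IsScalarTower R (S ⧸ m) K := ⟨fun r c x => by
            obtain ⟨c, rfl⟩ := Ideal.Quotient.mk_surjective c
            show Ideal.Quotient.mk m (r • c) • x = r • (c • x)
            exact smul_assoc r c x⟩
          haveI : Module.Finite (S ⧸ m) K := Module.Finite.of_restrictScalars_finite S (S ⧸ m) K
          haveI : Module.Finite R K := Module.Finite.trans (S ⧸ m) K
          have e : LinearMap.ker f = K.restrictScalars R := by
            ext x
            obtain ⟨y, rfl⟩ := Ideal.Quotient.mk_surjective x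
            show Ideal.Quotient.mk (m ^ k) y = 0 ↔ Ideal.Quotient.mk _ y ∈ K
            rw [Ideal.Quotient.eq_zero_iff_mem]
            refine ⟨fun h => ⟨y, h, rfl⟩, fun ⟨z, hz, e⟩ => ?_⟩
            have e := (Ideal.Quotient.eq (I := m ^ (k+1))).1 e
            simpa using (m ^ k).sub_mem hz (Ideal.pow_le_pow_right k.le_succ e)
          rw [e]
          exact inferInstanceAs (Module.Finite R K)
        haveI : Module.Finite R ((S ⧸ m ^ (k+1)) ⧸ LinearMap.ker f) :=
          Module.Finite.equiv (f.quotKerEquivOfSurjective (Ideal.Quotient.factor_surjective (Ideal.pow_le_pow_right k.le_succ))).symm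
        exact Module.Finite.of_submodule_quotient (LinearMap.ker f)
    haveI := hk n
    refine Module.Finite.equiv (LinearEquiv.ofBijective (Ideal.Quotient.mkₐ R (m ^ n)).toLinearMap ⟨?_, Ideal.Quotient.mk_surjective⟩).symm
    intro a b e
    have : a - b ∈ m ^ n := Ideal.Quotient.eq.1 e
    rw [hn, Ideal.zero_eq_bot, Ideal.mem_bot, sub_eq_zero] at this
    exact this
  · classical
    obtain ⟨t, ht⟩ := h.out
    obtain ⟨u, hu⟩ := (IsNoetherian.noetherian m : m.FG)
    let lift : S ⧸ m → S := Function.surjInv Ideal.Quotient.mk_surjective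
    let G : Finset S := t.image lift ∪ u
    refine ⟨⟨G, ?_⟩⟩
    let T := Algebra.adjoin R (G : Set S)
    have hT : T.map (Ideal.Quotient.mkₐ R m) = ⊤ := by
      rw [eq_top_iff, ← ht, Algebra.adjoin_le_iff]
      exact fun x hx => ⟨lift x, Algebra.subset_adjoin (Finset.mem_union_left _ (Finset.mem_image_of_mem _ hx)), Function.surjInv_eq _ _⟩
    have step : ∀ k, ∀ x ∈ m ^ k, ∃ y ∈ T, x - y ∈ m ^ (k + 1) := by
      intro k
      induction k with
      | zero =>
        intro x _
        obtain ⟨y, hy, e⟩ := (hT ▸ Algebra.mem_top : Ideal.Quotient.mkₐ R m x ∈ T.map (Ideal.Quotient.mkₐ R m))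
        exact ⟨y, hy, by rw [zero_add, pow_one]; exact Ideal.Quotient.eq.1 e.symm⟩
      | succ k ih =>
        intro x hx
        rw [pow_succ] at hx
        induction hx using Submodule.mul_induction_on' with
        | mem_mul_mem a ha b hb =>
          obtain ⟨y, hy, hay⟩ := ih a ha
          obtain ⟨c, hc⟩ := Submodule.mem_span_finset.1 (hu ▸ hb : b ∈ Submodule.span S (u : Set S))
          choose d hd hd' using fun g => hT ▸ (Algebra.mem_top : Ideal.Quotient.mkₐ R m (c g) ∈ (⊤ : Subalgebra R (S ⧸ m)))
          refine ⟨y * ∑ g ∈ u, d g * g, Subalgebra.mul_mem _ hy (Subalgebra.sum_mem _ fun g hg => Subalgebra.mul_mem _ (hd g) (Algebra.subset_adjoin (Finset.mem_union_right _ hg))), ?_⟩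
          have e1 : b - ∑ g ∈ u, d g * g ∈ m ^ 2 := by
            rw [← hc.2, ← Finset.sum_sub_distrib, pow_two]
            refine Ideal.sum_mem _ fun g hg => ?_
            rw [smul_eq_mul, ← sub_mul]
            exact Ideal.mul_mem_mul (Ideal.Quotient.eq.1 (hd' g).symm) (hu ▸ Ideal.subset_span hg)
          have hs : ∑ g ∈ u, d g * g ∈ m := Ideal.sum_mem _ fun g hg => Ideal.mul_mem_left _ _ (hu ▸ Ideal.subset_span hg)
          rw [show a * b - y * ∑ g ∈ u, d g * g = a * (b - ∑ g ∈ u, d g * g) + (a - y) * ∑ g ∈ u, d g * g by ring]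
          refine Ideal.add_mem _ ?_ ?_
          · rw [show k + 1 + 1 = k + 2 from rfl, pow_add]
            exact Ideal.mul_mem_mul ha e1
          · rw [pow_succ]
            exact Ideal.mul_mem_mul hay hs
        | add p hp q hq hp' hq' =>
          obtain ⟨y, hy, h1⟩ := hp'
          obtain ⟨z, hz, h2⟩ := hq'
          exact ⟨y + z, Subalgebra.add_mem _ hy hz, by rw [add_sub_add_comm]; exact Ideal.add_mem _ h1 h2⟩
    have all : ∀ k, ∀ x, ∃ y ∈ T, x - y ∈ m ^ k := fun k => by
      induction k with
      | zero => exact fun x => ⟨0, Subalgebra.zero_mem _, by simp⟩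
      | succ k ih =>
        intro x
        obtain ⟨y, hy, h1⟩ := ih x
        obtain ⟨z, hz, h2⟩ := step k _ h1
        exact ⟨y + z, Subalgebra.add_mem _ hy hz, by rw [← sub_sub]; exact h2⟩
    rw [eq_top_iff]
    intro x _
    obtain ⟨y, hy, hxy⟩ := all n x
    rw [hn, Ideal.zero_eq_bot, Ideal.mem_bot, sub_eq_zero] at hxy
    exact hxy ▸ hy

end Groth.Agent.S9622
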