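import Groth.Statements.S9633
import Mathlib
-- import your own Groth.Agent.* helpers here

set_option autoImplicit false
universe u
open CAlg

namespace Groth.Agent.S9633

/-- For a ring R with spectrum X the following are equivalent: (1) X is profinite, i.e. compact,
Hausdorff and totally disconnected; (2) X is Hausdorff; (3) X is totally disconnected; (4) every
quasi-compact open subset of X is closed; (5) there are no nontrivial inclusions among prime ideals
of R; (6) every prime ideal of R is maximal; (7) every prime ideal of R is a minimal prime; (8)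
every standard open D(f) is closed. -/
theorem result {R : Type u} [CommRing R] :
    [CompactSpace (PrimeSpectrum R) ∧ T2Space (PrimeSpectrum R) ∧ TotallyDisconnectedSpace (PrimeSpectrum R),
      T2Space (PrimeSpectrum R),
      TotallyDisconnectedSpace (PrimeSpectrum R),
      ∀ W : Set (PrimeSpectrum R), IsOpen W → IsCompact W → IsClosed W,
      ∀ p q : PrimeSpectrum R, p ≤ q → p = q,
      ∀ p : Ideal R, p.IsPrime → p.IsMaximal,
      ∀ p : Ideal R, p.IsPrime → p ∈ minimalPrimes R,
      ∀ f : R, IsClosed (PrimeSpectrum.basicOpen f : Set (PrimeSpectrum R))].TFAE := by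
  classical
  tfae_have 1 → 2 := fun h => h.2.1
  tfae_have 1 → 3 := fun h => h.2.2
  tfae_have 2 → 5 := fun h p q hpq => by
    haveI := h
    exact ((PrimeSpectrum.le_iff_specializes p q).1 hpq).eq
  tfae_have 3 → 5 := fun h p q hpq => by
    haveI := h
    have hc : IsPreconnected (closure ({p} : Set (PrimeSpectrum R))) := isPreconnected_singleton.closure
    exact hc.subsingleton (subset_closure rfl) (specializes_iff_mem_closure.1 ((PrimeSpectrum.le_iff_specializes p q).1 hpq))
  tfae_have 5 → 6 := fun h p hp => by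
    obtain ⟨m, hm, hle⟩ := Ideal.exists_le_maximal p hp.ne_top
    rw [show p = m from congrArg PrimeSpectrum.asIdeal (h ⟨p, hp⟩ ⟨m, hm.isPrime⟩ hle)]
    exact hm
  tfae_have 6 → 7 := fun h p hp => ⟨⟨hp, bot_le⟩, fun q hq hqp => ((h q hq.1).eq_of_le hp.ne_top hqp).ge⟩
  tfae_have 7 → 8 := fun h f => by
    rw [← isOpen_compl_iff, isOpen_iff_forall_mem_open]
    intro p hp
    have hfp : f ∈ p.asIdeal := not_not.1 hp
    haveI := p.2
    let L := Localization.AtPrime p.asIdeal
    have hnil : IsNilpotent (algebraMap R L f) := by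
      rw [← mem_nilradical, nilradical_eq_sInf]
      refine Ideal.mem_sInf.2 fun {J} hJ => ?_
      haveI : J.IsPrime := hJ
      have hle : J.comap (algebraMap R L) ≤ p.asIdeal := by
        have := (IsLocalization.isPrime_iff_isPrime_disjoint p.asIdeal.primeCompl L J).1 hJ
        intro a ha
        by_contra h
        exact Set.disjoint_left.1 this.2 h ha
      exact (h p.asIdeal p.2).2 ⟨inferInstance, bot_le⟩ hle hfp
    obtain ⟨n, hn⟩ := hnil
    rw [← map_pow, IsLocalization.map_eq_zero_iff p.asIdeal.primeCompl] at hn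
    obtain ⟨⟨u, hu⟩, huf⟩ := hn
    refine ⟨PrimeSpectrum.basicOpen u, fun q hq hq' => ?_, (PrimeSpectrum.basicOpen u).2, hu⟩
    rcases q.2.mem_or_mem (show u * f ^ n ∈ q.asIdeal by rw [huf]; exact Submodule.zero_mem _) with hh | hh
    · exact hq hh
    · exact hq' (q.2.mem_of_pow_mem _ hh)
  tfae_have 8 → 4 := fun h W hW hWc => by
    obtain ⟨t, ht⟩ := PrimeSpectrum.isCompact_isOpen_iff.1 ⟨hWc, hW⟩
    rw [← ht, isClosed_compl_iff, show PrimeSpectrum.zeroLocus (t : Set R) = ⋂ f ∈ t, (PrimeSpectrum.basicOpen f : Set (PrimeSpectrum R))ᶜ by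
      ext q; simp [PrimeSpectrum.mem_zeroLocus, Set.subset_def]]
    exact isOpen_biInter_finset fun f _ => (h f).isOpen_compl
  tfae_have 4 → 8 := fun h f => h _ (PrimeSpectrum.basicOpen f).2 (PrimeSpectrum.isCompact_basicOpen f)
  tfae_have 8 → 5 := fun h p q hpq => by
    refine le_antisymm hpq fun a ha => ?_
    by_contra hne
    exact ((PrimeSpectrum.le_iff_specializes p q).1 hpq).mem_closed (h a) (fun hh => hne hh) ha
  tfae_have 8 → 1 := fun h => by
    have hsep : ∀ p q : PrimeSpectrum R, p ≠ q → ∃ s : Set (PrimeSpectrum R), IsClopen s ∧ p ∈ s ∧ q ∈ sᶜ := by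
      intro p q hne
      by_cases hle : q.asIdeal ≤ p.asIdeal
      · obtain ⟨a, ha, ha'⟩ := Set.not_subset.1 (fun hle' : (p.asIdeal : Set R) ⊆ q.asIdeal => hne (PrimeSpectrum.ext (le_antisymm hle' hle)))
        exact ⟨(PrimeSpectrum.basicOpen a : Set (PrimeSpectrum R))ᶜ, (IsClopen.compl ⟨h a, (PrimeSpectrum.basicOpen a).2⟩), fun hh => hh ha, by rw [compl_compl]; exact ha'⟩
      · obtain ⟨a, ha, ha'⟩ := Set.not_subset.1 hle
        exact ⟨(PrimeSpectrum.basicOpen a : Set (PrimeSpectrum R)), ⟨h a, (PrimeSpectrum.basicOpen a).2⟩, ha', fun hh => hh ha⟩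
    haveI : TotallySeparatedSpace (PrimeSpectrum R) := totallySeparatedSpace_iff_exists_isClopen.2 fun p q hne => hsep p q hne
    exact ⟨inferInstance, inferInstance, inferInstance⟩
  tfae_finish

end Groth.Agent.S9633
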