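import Groth.Statements.S9637
import Mathlib
-- import your own Groth.Agent.* helpers here

set_option autoImplicit false
set_option backward.isDefEq.respectTransparency false
universe u
open CAlg

open CategoryTheory CategoryTheory.Limits AlgebraicGeometry
namespace Groth.Agent.S9637

/-- Let R be a local Noetherian ring, I an ideal contained in its maximal ideal, and M a finite
R-module. Then I contains an M-regular element (one acting injectively on M) if and only if no
associated prime of M contains I. -/
theorem result {R : Type u} [CommRing R] [IsNoetherianRing R] [IsLocalRing R] (I : Ideal R) (hI : I ≤ IsLocalRing.maximalIdeal R) (M : Type u) [AddCommGroup M] [Module R M] [Module.Finite R M] :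
    (∃ x ∈ I, IsSMulRegular M x) ↔ ∀ q ∈ associatedPrimes R M, ¬ I ≤ q := by
  classical
  refine ⟨fun ⟨x, hx, hr⟩ q hq hle => ?_, fun h => ?_⟩
  · have : x ∈ ⋃ p ∈ associatedPrimes R M, (p : Set R) := Set.mem_biUnion hq (hle hx)
    rw [biUnion_associatedPrimes_eq_compl_regular] at this
    exact this hr
  · have hfin := associatedPrimes.finite R M
    have : ¬ (I : Set R) ⊆ ⋃ q ∈ (hfin.toFinset : Set (Ideal R)), (q : Set R) := by
      rw [Ideal.subset_union_prime (f := fun q : Ideal R => q) default default fun q hq _ _ => (hfin.mem_toFinset.1 hq).isPrime]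
      rintro ⟨q, hq, hle⟩
      exact h q (hfin.mem_toFinset.1 hq) hle
    obtain ⟨x, hxI, hx⟩ := Set.not_subset.1 this
    refine ⟨x, hxI, ?_⟩
    by_contra hr
    have h2 : x ∈ ⋃ p ∈ associatedPrimes R M, (p : Set R) := by
      rw [biUnion_associatedPrimes_eq_compl_regular]; exact hr
    obtain ⟨p, hp, hxp⟩ := Set.mem_iUnion₂.1 h2
    exact hx (Set.mem_biUnion (x := p) (hfin.mem_toFinset.2 hp) hxp)

end Groth.Agent.S9637
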