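import Groth.Statements.S9642
import Mathlib
-- import your own Groth.Agent.* helpers here

set_option autoImplicit false
universe u
open CAlg

namespace Groth.Agent.S9642

/-- In the general form stated there: let R → S be a ring map inducing an open map Spec(S) → Spec(R),
with Spec(R) irreducible, such that for a dense set of primes p of R the fibre ring κ(p) ⊗_R S has
irreducible spectrum. Then Spec(S) is irreducible. The flat and finitely presented case is the
special case in which the map on spectra is open by fppf-openness. -/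
theorem result {R S : Type u} [CommRing R] [CommRing S] [Algebra R S]
    (hopen : IsOpenMap (PrimeSpectrum.comap (algebraMap R S))) [IrreducibleSpace (PrimeSpectrum R)]
    (D : Set (PrimeSpectrum R)) (hD : Dense D) (hfib : ∀ p ∈ D, IrreducibleSpace (PrimeSpectrum (p.asIdeal.Fiber S))) :
    IrreducibleSpace (PrimeSpectrum S) := by
  classical
  have hne : Nonempty (PrimeSpectrum S) := by
    obtain ⟨p, hp⟩ := hD.nonempty
    obtain ⟨z⟩ := (hfib p hp).toNonempty
    exact ⟨((PrimeSpectrum.preimageHomeomorphFiber R S p).symm z).1⟩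
  refine { toNonempty := hne, isPreirreducible_univ := ?_ }
  intro U V hU hV hUn hVn
  rw [Set.univ_inter] at hUn hVn
  rw [Set.univ_inter]
  let c := PrimeSpectrum.comap (algebraMap R S)
  obtain ⟨p, hp1, hp2⟩ := nonempty_preirreducible_inter (hopen U hU) (hopen V hV) (hUn.image c) (hVn.image c)
  obtain ⟨q, hq, hqD⟩ := hD.inter_open_nonempty _ ((hopen U hU).inter (hopen V hV)) ⟨p, hp1, hp2⟩
  haveI := hfib q hqD
  let e := PrimeSpectrum.preimageHomeomorphFiber R S q
  obtain ⟨⟨u, hu, hue⟩, ⟨v, hv, hve⟩⟩ := hq
  have hU' : IsOpen (e.symm ⁻¹' (Subtype.val ⁻¹' U)) := (hU.preimage continuous_subtype_val).preimage e.symm.continuous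
  have hV' : IsOpen (e.symm ⁻¹' (Subtype.val ⁻¹' V)) := (hV.preimage continuous_subtype_val).preimage e.symm.continuous
  obtain ⟨z, hz1, hz2⟩ := nonempty_preirreducible_inter hU' hV' ⟨e ⟨u, hue⟩, by simpa using hu⟩ ⟨e ⟨v, hve⟩, by simpa using hv⟩
  exact ⟨(e.symm z).1, hz1, hz2⟩

end Groth.Agent.S9642
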