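import Groth.Statements.S9643
import Mathlib
-- import your own Groth.Agent.* helpers here

set_option autoImplicit false
universe u
open CAlg

namespace Groth.Agent.S9643

/-- Let R be a Noetherian ring, M a finite R-module and 0 = M_0 ⊆ M_1 ⊆ ⋯ ⊆ M_n = M a chain of
submodules whose successive quotients M_i/M_{i-1} are isomorphic to R/p_i for prime ideals p_i. Then
the primes minimal among p_1, …, p_n are exactly the primes minimal in the support of M. -/
theorem result {R : Type u} [CommRing R] [IsNoetherianRing R] (M : Type u) [AddCommGroup M] [Module R M] [Module.Finite R M]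
    {n : ℕ} (N : Fin (n + 1) → Submodule R M) (hN : Monotone N) (h0 : N 0 = ⊥) (hlast : N (Fin.last n) = ⊤)
    (p : Fin n → PrimeSpectrum R)
    (hquot : ∀ i : Fin n, Nonempty ((↥(N i.succ) ⧸ Submodule.comap (N i.succ).subtype (N i.castSucc)) ≃ₗ[R] (R ⧸ (p i).asIdeal))) :
    {q : PrimeSpectrum R | Minimal (fun x => x ∈ Set.range p) q} = {q : PrimeSpectrum R | Minimal (fun x => x ∈ Module.support R M) q} := by
  classical
  have hsupp : ∀ i : Fin (n + 1), Module.support R (N i) = ⋃ j ∈ {j : Fin n | j.castSucc < i}, PrimeSpectrum.zeroLocus ((p j).asIdeal : Set R) := by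
    intro i
    induction i using Fin.induction with
    | zero =>
      rw [h0, Module.support_eq_empty]
      simp
    | succ i ih =>
      let A := Submodule.comap (N i.succ).subtype (N i.castSucc)
      rw [Module.support_of_exact (f := A.subtype) (g := A.mkQ) (LinearMap.exact_subtype_mkQ A) A.injective_subtype A.mkQ_surjective]
      obtain ⟨e⟩ := hquot i
      rw [(Submodule.comapSubtypeEquivOfLe (hN (Fin.castSucc_le_succ i))).support_eq, ih, e.support_eq, Module.support_eq_zeroLocus, Ideal.annihilator_quotient]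
      ext q
      simp only [Set.mem_union, Set.mem_iUnion, Set.mem_setOf_eq, exists_prop, Fin.castSucc_lt_castSucc_iff, Fin.castSucc_lt_succ_iff]
      constructor
      · rintro (⟨j, hj, hq⟩ | hq)
        · exact ⟨j, hj.le, hq⟩
        · exact ⟨i, le_rfl, hq⟩
      · rintro ⟨j, hj, hq⟩
        rcases hj.lt_or_eq with h | rfl
        · exact Or.inl ⟨j, h, hq⟩
        · exact Or.inr hq
  have key : ∀ q : PrimeSpectrum R, q ∈ Module.support R M ↔ ∃ j, p j ≤ q := by
    intro q
    rw [← (LinearEquiv.ofTop (⊤ : Submodule R M) rfl).support_eq, ← hlast, hsupp]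
    simp [Fin.castSucc_lt_last, PrimeSpectrum.mem_zeroLocus]
  ext q
  constructor
  · rintro ⟨⟨j, rfl⟩, hmin⟩
    refine ⟨(key _).2 ⟨j, le_rfl⟩, fun y hy hyq => ?_⟩
    obtain ⟨l, hl⟩ := (key y).1 hy
    exact (hmin ⟨l, rfl⟩ (hl.trans hyq)).trans hl
  · rintro ⟨hq, hmin⟩
    obtain ⟨j, hj⟩ := (key q).1 hq
    have e : p j = q := le_antisymm hj (hmin ((key _).2 ⟨j, le_rfl⟩) hj)
    refine ⟨⟨j, e⟩, fun y hy hyq => hmin ?_ hyq⟩
    obtain ⟨l, rfl⟩ := hy
    exact (key _).2 ⟨l, le_rfl⟩

end Groth.Agent.S9643
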