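import Groth.Statements.S9645
import Mathlib
-- import your own Groth.Agent.* helpers here

set_option autoImplicit false
universe u
open CAlg

namespace Groth.Agent.S9645

/-- Integral closure commutes with localization. Let A → B be a ring map, S a multiplicative subset of
A, and A_S, B_S the localizations of A at S and of B at the image of S. Then an element x of B_S is
integral over A_S if and only if x·s = b for some s ∈ S and some b ∈ B integral over A (images taken
in B_S); that is, the integral closure of A_S in B_S is S⁻¹B' for B' the integral closure of A in B. -/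
theorem result {A B As Bs : Type u} [CommRing A] [CommRing B] [CommRing As] [CommRing Bs] [Algebra A B] [Algebra A As] [Algebra B Bs] [Algebra As Bs] [Algebra A Bs] [IsScalarTower A B Bs] [IsScalarTower A As Bs]
    (S : Submonoid A) [IsLocalization S As] [IsLocalization (Algebra.algebraMapSubmonoid B S) Bs] (x : Bs) :
    IsIntegral As x ↔ ∃ b : B, IsIntegral A b ∧ ∃ s ∈ S, x * algebraMap A Bs s = algebraMap B Bs b := by
  refine ⟨fun hx => ?_, fun ⟨b, hb, s, hs, e⟩ => ?_⟩
  · obtain ⟨⟨m, hm⟩, hint⟩ := IsIntegral.exists_multiple_integral_of_isLocalization S x hx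
    rw [Submonoid.smul_def] at hint
    obtain ⟨⟨b, ⟨_, t, ht, rfl⟩⟩, hb⟩ := IsLocalization.surj (Algebra.algebraMapSubmonoid B S) (m • x)
    have hint2 : IsIntegral A (algebraMap B Bs b) := by
      rw [← hb]
      exact hint.mul ((isIntegral_algebraMap (R := A) (A := B) (x := t)).map (IsScalarTower.toAlgHom A B Bs))
    obtain ⟨p, hp, he⟩ := hint2
    rw [IsScalarTower.algebraMap_eq A B Bs, ← Polynomial.hom_eval₂, IsLocalization.map_eq_zero_iff (Algebra.algebraMapSubmonoid B S)] at he
    obtain ⟨⟨_, u, hu, rfl⟩, hue⟩ := he
    refine ⟨algebraMap A B u * b, ?_, u * m * t, S.mul_mem (S.mul_mem hu hm) ht, ?_⟩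
    · rcases hd : p.natDegree with _ | d
      · obtain rfl := hp.natDegree_eq_zero.1 hd
        have h0 : algebraMap A B u = 0 := by simpa using hue
        rw [h0, zero_mul]
        exact isIntegral_zero
      · refine ⟨p.scaleRoots u, (Polynomial.monic_scaleRoots_iff u).2 hp, ?_⟩
        rw [Polynomial.scaleRoots_eval₂_mul, hd, pow_succ, mul_assoc, hue, mul_zero]
    · rw [map_mul, map_mul, map_mul (algebraMap B Bs), ← hb, Algebra.smul_def,
        ← IsScalarTower.algebraMap_apply, ← IsScalarTower.algebraMap_apply]
      ring
  · have hu : IsUnit (algebraMap A As s) := IsLocalization.map_units As ⟨s, hs⟩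
    obtain ⟨w, hw⟩ := hu.exists_left_inv
    have : x = algebraMap As Bs w * algebraMap B Bs b := by
      rw [← e, IsScalarTower.algebraMap_apply A As Bs, mul_left_comm, ← map_mul, hw, map_one, mul_one]
    rw [this]
    exact isIntegral_algebraMap.mul ((hb.map (IsScalarTower.toAlgHom A B Bs)).tower_top)

end Groth.Agent.S9645
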