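import Groth.Statements.S9646
import Mathlib
import Groth.Agent.S9645
-- import your own Groth.Agent.* helpers here

set_option autoImplicit false
universe u
open CAlg

namespace Groth.Agent.S9646

/-- (2) ⇒ (1): let R → S be a ring map and x ∈ S. If for every prime ideal p of R the image of x in S_p
(the localization of S at the image of R ∖ p) is integral over R_p, then x is integral over R. Here
R_p and S_p are any rings satisfying the localization universal properties. -/
theorem result {R S : Type u} [CommRing R] [CommRing S] [Algebra R S] (x : S)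
    (h : ∀ (p : Ideal R) [p.IsPrime] (Rp Sp : Type u) [CommRing Rp] [CommRing Sp] [Algebra R Rp] [Algebra S Sp] [Algebra Rp Sp] [Algebra R Sp] [IsScalarTower R S Sp] [IsScalarTower R Rp Sp] [IsLocalization.AtPrime Rp p] [IsLocalization (Algebra.algebraMapSubmonoid S p.primeCompl) Sp], IsIntegral Rp (algebraMap S Sp x)) :
    IsIntegral R x := by
  classical
  let J : Ideal R :=
    { carrier := {r | IsIntegral R (r • x)}
      add_mem' := fun {a b} ha hb => by show IsIntegral R ((a + b) • x); rw [add_smul]; exact ha.add hb
      zero_mem' := by show IsIntegral R ((0 : R) • x); rw [zero_smul]; exact isIntegral_zero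
      smul_mem' := fun c a ha => by show IsIntegral R ((c • a) • x); rw [smul_assoc]; exact ha.smul c }
  suffices J = ⊤ by
    have h1 : (1 : R) ∈ J := this ▸ trivial
    simpa [J] using h1
  by_contra hne
  obtain ⟨m, hm, hle⟩ := Ideal.exists_le_maximal J hne
  let Sp := Localization (Algebra.algebraMapSubmonoid S m.primeCompl)
  letI : Algebra (Localization.AtPrime m) Sp := (IsLocalization.lift (M := m.primeCompl) (g := algebraMap R Sp) fun y =>
    by rw [IsScalarTower.algebraMap_apply R S Sp]; exact IsLocalization.map_units Sp (⟨_, y.1, y.2, rfl⟩ : Algebra.algebraMapSubmonoid S m.primeCompl)).toAlgebra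
  haveI : IsScalarTower R (Localization.AtPrime m) Sp := IsScalarTower.of_algebraMap_eq fun r => (IsLocalization.lift_eq _ r).symm
  have hint := h m (Localization.AtPrime m) Sp
  obtain ⟨b, hb, s, hs, e⟩ := (S9645.result (A := R) (B := S) (As := Localization.AtPrime m) (Bs := Sp) m.primeCompl (algebraMap S Sp x)).1 hint
  rw [IsScalarTower.algebraMap_apply R S Sp, ← map_mul, IsLocalization.eq_iff_exists (Algebra.algebraMapSubmonoid S m.primeCompl)] at e
  obtain ⟨⟨_, u, hu, rfl⟩, hue⟩ := e
  have : u * s ∈ J := by
    show IsIntegral R ((u * s) • x)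
    rw [Algebra.smul_def, map_mul, mul_assoc, mul_comm _ x, hue]
    exact (isIntegral_algebraMap).mul hb
  exact (m.primeCompl.mul_mem hu hs) (hle this)

end Groth.Agent.S9646
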