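import Groth.Statements.S9647
import Mathlib

set_option autoImplicit false
universe u
open CAlg

namespace Groth.Agent.S9647

open TensorProduct

theorem galois_transitive_aux {k K : Type u} [Field k] [Field K] [Algebra k K]
    (L : Type u) [Field L] [Algebra k L] [IsGalois k L]
    (P Q : Ideal (L ⊗[k] K)) [P.IsPrime] [Q.IsPrime] :
    ∃ σ : L ≃ₐ[k] L, Q = P.comap (Algebra.TensorProduct.map (σ : L →ₐ[k] L) (AlgHom.id k K)) := by
  letI : Algebra K (L ⊗[k] K) := Algebra.TensorProduct.rightAlgebra
  have hdef : ∀ (σ : L ≃ₐ[k] L) (x : L ⊗[k] K), σ • x = Algebra.TensorProduct.map (σ : L →ₐ[k] L) (AlgHom.id k K) x := by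
    intro σ x
    induction x using TensorProduct.induction_on with
    | zero => simp
    | tmul a b => simp [TensorProduct.smul_tmul']
    | add a b ha hb => rw [smul_add, map_add, ha, hb]
  letI : MulSemiringAction (L ≃ₐ[k] L) (L ⊗[k] K) :=
    { (inferInstance : DistribMulAction (L ≃ₐ[k] L) (L ⊗[k] K)) with
      smul_one := fun σ => by rw [hdef, map_one]
      smul_mul := fun σ x y => by rw [hdef, hdef, hdef, map_mul] }
  haveI : SMulCommClass (L ≃ₐ[k] L) K (L ⊗[k] K) := ⟨fun σ b x => by
    rw [Algebra.smul_def, Algebra.smul_def, hdef, hdef, map_mul]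
    congr 1
    show Algebra.TensorProduct.map (σ : L →ₐ[k] L) (AlgHom.id k K) (1 ⊗ₜ b) = 1 ⊗ₜ b
    simp⟩
  letI : TopologicalSpace (L ⊗[k] K) := ⊥
  haveI : DiscreteTopology (L ⊗[k] K) := ⟨rfl⟩
  haveI : ContinuousSMul (L ≃ₐ[k] L) (L ⊗[k] K) := continuousSMul_iff_stabilizer_isOpen.2 fun x => by
    induction x using TensorProduct.induction_on with
    | zero =>
      convert isOpen_univ
      ext σ; simp [hdef]
    | tmul a b =>
      refine Subgroup.isOpen_mono (fun σ (hσ : σ • a = a) => ?_) (stabilizer_isOpen_of_isIntegral (K := k) a)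
      rw [MulAction.mem_stabilizer_iff, hdef]
      simp [show σ a = a from hσ]
    | add a b ha hb =>
      refine Subgroup.isOpen_mono (H₁ := MulAction.stabilizer (L ≃ₐ[k] L) a ⊓ MulAction.stabilizer (L ≃ₐ[k] L) b)
        (fun σ ⟨h1, h2⟩ => ?_) (ha.inter hb)
      rw [MulAction.mem_stabilizer_iff, smul_add, MulAction.mem_stabilizer_iff.1 h1, MulAction.mem_stabilizer_iff.1 h2]
  haveI : Algebra.IsInvariant K (L ⊗[k] K) (L ≃ₐ[k] L) := ⟨fun x hx => by
    let b := Module.Free.chooseBasis k K
    let e := TensorProduct.equivFinsuppOfBasisRight (M := L) b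
    have he : ∀ (σ : L ≃ₐ[k] L) (y : L ⊗[k] K) i, e (σ • y) i = σ (e y i) := fun σ y i => by
      induction y using TensorProduct.induction_on with
      | zero => simp
      | tmul a c => simp [e, hdef, map_smul]
      | add a c ha hc => rw [smul_add, map_add, map_add, Finsupp.add_apply, Finsupp.add_apply, map_add, ha, hc]
    have hfix : ∀ i, e x i ∈ (⊥ : IntermediateField k L) := fun i => by
      rw [← InfiniteGalois.fixedField_bot, IntermediateField.mem_fixedField_iff]
      exact fun σ _ => (he σ x i).symm.trans (congrArg (fun y => e y i) (hx σ))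
    choose a ha using fun i => IntermediateField.mem_bot.1 (hfix i)
    refine ⟨(e x).sum fun i _ => a i • b i, ?_⟩
    show (1 : L) ⊗ₜ[k] _ = x
    conv_rhs => rw [← e.symm_apply_apply x]
    rw [Finsupp.sum, TensorProduct.tmul_sum, TensorProduct.equivFinsuppOfBasisRight_symm_apply, Finsupp.sum]
    refine Finset.sum_congr rfl fun i _ => ?_
    rw [TensorProduct.tmul_smul, TensorProduct.smul_tmul', ← ha i, Algebra.algebraMap_eq_smul_one]⟩
  obtain ⟨σ, hσ⟩ := Algebra.IsInvariant.exists_smul_of_under_eq_of_profinite (A := K) (B := L ⊗[k] K) (G := L ≃ₐ[k] L) P Q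
    ((Ideal.eq_bot_of_prime _).trans (Ideal.eq_bot_of_prime _).symm)
  refine ⟨σ⁻¹, ?_⟩
  rw [hσ, Ideal.pointwise_smul_eq_comap]
  ext x
  exact Iff.rfl


open TensorProduct in
/-- Let K/k be a field extension and k^sep a separable algebraic closure of k. Then the automorphism
group of k^sep over k acts transitively on the primes of k^sep ⊗_k K: for any two primes P, Q there
is a k-automorphism σ of k^sep with Q the inverse image of P under σ ⊗ id_K. -/
theorem result {k K : Type u} [Field k] [Field K] [Algebra k K]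
    (P Q : Ideal (SeparableClosure k ⊗[k] K)) [P.IsPrime] [Q.IsPrime] :
    ∃ σ : SeparableClosure k ≃ₐ[k] SeparableClosure k, Q = P.comap (Algebra.TensorProduct.map (σ : SeparableClosure k →ₐ[k] SeparableClosure k) (AlgHom.id k K)) := by
  exact galois_transitive_aux (SeparableClosure k) P Q

end Groth.Agent.S9647
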