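import Groth.Statements.S9649
import Mathlib.FieldTheory.SeparablyGenerated
import Mathlib.RingTheory.MvPolynomial.Expand
import Mathlib.FieldTheory.PurelyInseparable.PerfectClosure

set_option autoImplicit false
universe u
open CAlg

namespace Groth.Agent.S9649

open MvPolynomial in
theorem pow_relation_transfer {k K : Type u} [Field k] [Field K] [Algebra k K] (p : ℕ) [hp : Fact p.Prime]
    [CharP k p] {ι : Type u} (x : ι → K) (hx : AlgebraicIndependent k x)
    [Algebra.IsSeparable (IntermediateField.adjoin k (Set.range x)) K]
    {J : Type} [Fintype J] (b : J → k) (hb : ∀ d : J → k, ∑ j, b j * d j ^ p = 0 → d = 0)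
    (w : J → K) (hw : ∑ j, algebraMap k K (b j) * w j ^ p = 0) : w = 0 := by
  classical
  set L := IntermediateField.adjoin k (Set.range x)
  have hL : ∀ l : J → L, ∑ j, algebraMap k K (b j) * (l j : K) ^ p = 0 → ∀ j, (l j : K) = 0 := by
    intro l hl
    have hl2 := fun j => (IntermediateField.mem_adjoin_range_iff (F := k) x _).1 (l j).2
    choose r s hrs using hl2
    intro j₀
    by_cases hs0 : ∃ j, aeval x (s j) = 0
    · -- replace zero denominators by one
      obtain ⟨r', s', hs', hrs'⟩ : ∃ r' s' : J → MvPolynomial ι k, (∀ j, aeval x (s' j) ≠ 0) ∧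
          ∀ j, (l j : K) = aeval x (r' j) / aeval x (s' j) :=
        ⟨fun j => if aeval x (s j) = 0 then 0 else r j, fun j => if aeval x (s j) = 0 then 1 else s j,
          fun j => by by_cases h : aeval x (s j) = 0 <;> simp [h],
          fun j => by by_cases h : aeval x (s j) = 0 <;> simp [h, hrs j]⟩
      exact main l hl r' s' hs' hrs' j₀
    · push Not at hs0
      exact main l hl r s hs0 hrs j₀
  let W := Submodule.span L (Set.range w)
  haveI : FiniteDimensional L W := Module.Finite.span_of_finite L (Set.finite_range w)
  let e := Module.finBasis L W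
  haveI : CharP L p := charP_of_injective_algebraMap (algebraMap k L).injective p
  haveI : ExpChar L p := ExpChar.prime hp.out
  have he : LinearIndependent L fun t => ((e t : W) : K) :=
    e.linearIndependent.map' W.subtype W.ker_subtype
  have hep := he.map_pow_expChar_pow_of_isSeparable p 1
  simp only [pow_one] at hep
  let c : J → Fin (Module.finrank L W) → L := fun j => fun t => e.repr ⟨w j, Submodule.subset_span ⟨j, rfl⟩⟩ t
  have hwc : ∀ j, w j = ∑ t, (c j t : K) * ((e t : W) : K) := fun j => by
    have := congrArg (fun y : W => (y : K)) (e.sum_repr ⟨w j, Submodule.subset_span ⟨j, rfl⟩⟩)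
    simp only [Submodule.coe_sum, Submodule.coe_smul] at this
    exact this.symm
  haveI : CharP K p := charP_of_injective_algebraMap (algebraMap k K).injective p
  haveI : ExpChar K p := ExpChar.prime hp.out
  have h0 : ∑ t, (∑ j, algebraMap k L (b j) * c j t ^ p) • (((e t : W) : K) ^ p) = 0 := by
    rw [← hw]
    simp only [hwc, sum_pow_char, mul_pow, Finset.mul_sum, Algebra.smul_def, map_sum, map_mul, map_pow,
      Finset.sum_mul]
    rw [Finset.sum_comm]
    simp only [← mul_assoc]
    rfl
  have h1 := Fintype.linearIndependent_iff.1 hep _ h0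
  funext j
  rw [hwc j, Pi.zero_apply]
  refine Finset.sum_eq_zero fun t _ => ?_
  have h2 := congrArg (fun y : L => (y : K)) (h1 t)
  have := hL (fun j => c j t) (by simpa using h2) j
  rw [this, zero_mul]
where
  main (l : J → IntermediateField.adjoin k (Set.range x))
      (hl : ∑ j, algebraMap k K (b j) * (l j : K) ^ p = 0) (r s : J → MvPolynomial ι k)
      (hs : ∀ j, aeval x (s j) ≠ 0) (hrs : ∀ j, (l j : K) = aeval x (r j) / aeval x (s j)) (j₀ : J) :
      (l j₀ : K) = 0 := by
    classical
    let f : J → MvPolynomial ι k := fun j => r j * ∏ i ∈ Finset.univ.erase j, s i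
    have hf : ∀ j, aeval x (f j) = (l j : K) * ∏ i, aeval x (s i) := fun j => by
      rw [hrs j, ← Finset.mul_prod_erase _ _ (Finset.mem_univ j), map_mul, map_prod, ← mul_assoc,
        div_mul_cancel₀ _ (hs j)]
    have h1 : ∑ j, C (b j) * f j ^ p = 0 := by
      refine (injective_iff_map_eq_zero _).1 hx _ ?_
      simp only [map_sum, map_mul, map_pow, hf, aeval_C, mul_pow, ← mul_assoc]
      rw [← Finset.sum_mul, hl, zero_mul]
    haveI : ExpChar k p := ExpChar.prime hp.out
    have hfz : ∀ j, f j = 0 := fun j => by
      ext m
      have h2 := congrArg (coeff (p • m)) h1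
      simp only [coeff_sum, coeff_C_mul, coeff_zero, ← map_frobenius_expand, coeff_map,
        coeff_expand_smul p hp.out.ne_zero, frobenius_def] at h2
      simpa using congrFun (hb (fun i => coeff m (f i)) h2) j
    have h3 := hf j₀
    rw [hfz, map_zero, eq_comm, mul_eq_zero] at h3
    exact h3.resolve_right (Finset.prod_ne_zero_iff.2 fun i _ => hs i)

theorem linearIndepOn_pow {k K : Type u} [Field k] [Field K] [Algebra k K] (p : ℕ) [hp : Fact p.Prime]
    [CharP k p] {ι : Type u} (x : ι → K) (hx : AlgebraicIndependent k x)
    [Algebra.IsSeparable (IntermediateField.adjoin k (Set.range x)) K] {T : Type u} [Fintype T] (v : T → K)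
    (hv : LinearIndependent k v) : LinearIndependent k fun t => v t ^ p := by
  classical
  haveI : ExpChar k p := ExpChar.prime hp.out
  haveI : CharP K p := charP_of_injective_algebraMap (algebraMap k K).injective p
  rw [Fintype.linearIndependent_iff]
  intro c hc
  let F := (frobenius k p).fieldRange
  let W := Submodule.span F (Set.range c)
  haveI : FiniteDimensional F W := Module.Finite.span_of_finite F (Set.finite_range c)
  let e := Module.finBasis F W
  have hd : ∀ (i : T) (j : Fin (Module.finrank F W)), ∃ d : k, d ^ p = ((e.repr ⟨c i, Submodule.subset_span ⟨i, rfl⟩⟩ j : F) : k) :=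
    fun i j => (e.repr ⟨c i, Submodule.subset_span ⟨i, rfl⟩⟩ j : F).2
  choose d hd using hd
  have hci : ∀ i, c i = ∑ j, d i j ^ p * ((e j : W) : k) := fun i => by
    have := congrArg (fun y : W => (y : k)) (e.sum_repr ⟨c i, Submodule.subset_span ⟨i, rfl⟩⟩)
    simp only [Submodule.coe_sum, Submodule.coe_smul] at this
    refine this.symm.trans (Finset.sum_congr rfl fun j _ => ?_)
    rw [hd i j]
    rfl
  have hb : ∀ a : Fin (Module.finrank F W) → k, ∑ j, ((e j : W) : k) * a j ^ p = 0 → a = 0 := fun a ha => by
    have h1 := Fintype.linearIndependent_iff.1 (e.linearIndependent.map' W.subtype W.ker_subtype)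
      (fun j => (⟨a j ^ p, a j, rfl⟩ : F)) (by
        rw [← ha]
        exact Finset.sum_congr rfl fun j _ => mul_comm _ _)
    funext j
    have := congrArg (fun y : F => (y : k)) (h1 j)
    exact (pow_eq_zero_iff hp.out.ne_zero).1 this
  have h2 := pow_relation_transfer p x hx (fun j => ((e j : W) : k)) hb
    (fun j => ∑ i, d i j • v i) (by
      rw [← hc]
      simp only [sum_pow_char, smul_pow, hci, Finset.sum_smul, Finset.mul_sum]
      rw [Finset.sum_comm]
      refine Finset.sum_congr rfl fun i _ => Finset.sum_congr rfl fun j _ => ?_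
      simp only [Algebra.smul_def, map_mul, map_pow]
      ring)
  intro i
  rw [hci i]
  refine Finset.sum_eq_zero fun j _ => ?_
  have h3 := Fintype.linearIndependent_iff.1 hv (fun i => d i j) (congrFun h2 j) i
  simp [h3, zero_pow hp.out.ne_zero]

/-- A separably generated field extension is separable. Precisely: let K/k be a field extension
admitting a transcendence basis x over whose generated subfield k(x) the field K is separable
algebraic; then every finitely generated subextension K' of K/k also admits such a transcendence
basis. -/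
theorem result {k K : Type u} [Field k] [Field K] [Algebra k K]
    (h : ∃ (ι : Type u) (x : ι → K), IsTranscendenceBasis k x ∧ Algebra.IsSeparable (IntermediateField.adjoin k (Set.range x)) K)
    (K' : IntermediateField k K) (hK' : ∃ s : Finset K, IntermediateField.adjoin k (s : Set K) = K') :
    ∃ (ι : Type u) (x : ι → K'), IsTranscendenceBasis k x ∧ Algebra.IsSeparable (IntermediateField.adjoin k (Set.range x)) K' := by
  obtain ⟨ι, x, hx, hsep⟩ := h
  obtain ⟨s₀, hs₀⟩ := hK'
  haveI : Algebra.EssFiniteType k K' := IntermediateField.essFiniteType_iff.2 ⟨s₀, hs₀⟩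
  obtain ⟨s, hs, hss⟩ : ∃ s : Finset K', IsTranscendenceBasis k ((↑) : s → K') ∧
      Algebra.IsSeparable (IntermediateField.adjoin k (s : Set K')) K' := by
    obtain _ | ⟨p, hp, hpk⟩ := CharP.exists' k
    · exact exists_isTranscendenceBasis_and_isSeparable_of_perfectField k K'
    haveI : ExpChar k p := .prime hp.out
    refine exists_isTranscendenceBasis_and_isSeparable_of_linearIndepOn_pow_of_essFiniteType p hp.out fun T hT => ?_
    have h1 : LinearIndependent k fun t : (T : Set K') => ((t : K') : K) :=
      LinearIndependent.map' hT K'.val.toLinearMap (LinearMap.ker_eq_bot.2 K'.val.injective)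
    have h2 := linearIndepOn_pow p x hx.1 (fun t : (T : Set K') => ((t : K') : K)) h1
    refine LinearIndependent.of_comp K'.val.toLinearMap ?_
    exact h2
  refine ⟨s, (↑), hs, ?_⟩
  rwa [show Set.range ((↑) : s → K') = (s : Set K') from Subtype.range_coe]

end Groth.Agent.S9649
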