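import Groth.Statements.S9656
import Mathlib
-- import your own Groth.Agent.* helpers here

set_option autoImplicit false
set_option backward.isDefEq.respectTransparency false
universe u
open CAlg

open CategoryTheory CategoryTheory.Limits AlgebraicGeometry
namespace Groth.Agent.S9656

/-- Let R_i → S_i be ring maps indexed by a finite type ι, with product map R = Π R_i → S = Π S_i. Then
an element (s_i) of S is integral over R exactly when s_i is integral over R_i for every i; so
integral closure in a finite product is computed factor by factor. -/
theorem result {ι : Type u} [Fintype ι] {R S : ι → Type u} [∀ i, CommRing (R i)] [∀ i, CommRing (S i)] (f : ∀ i, R i →+* S i) (s : ∀ i, S i) :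
    (RingHom.pi fun i => (f i).comp (Pi.evalRingHom R i)).IsIntegralElem s ↔ ∀ i, (f i).IsIntegralElem (s i) := by
  classical
  refine ⟨fun ⟨p, hp, he⟩ i => ⟨p.map (Pi.evalRingHom R i), hp.map _, ?_⟩, fun h => ?_⟩
  · have := congrFun he i
    rw [show (Polynomial.eval₂ (RingHom.pi fun i => (f i).comp (Pi.evalRingHom R i)) s p) i =
      Pi.evalRingHom S i (Polynomial.eval₂ (RingHom.pi fun i => (f i).comp (Pi.evalRingHom R i)) s p) from rfl,
      Polynomial.hom_eval₂] at this
    rw [Polynomial.eval₂_map]
    exact this
  · choose p hp he using h
    let N := Finset.univ.sup fun i => (p i).natDegree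
    let q : Polynomial (∀ i, R i) := ∑ n ∈ Finset.range (N + 1), Polynomial.monomial n fun i => (Polynomial.X ^ (N - (p i).natDegree) * p i).coeff n
    have hqi : ∀ i, q.map (Pi.evalRingHom R i) = Polynomial.X ^ (N - (p i).natDegree) * p i := fun i => by
      simp only [q, Polynomial.map_sum, Polynomial.map_monomial, Pi.evalRingHom_apply]
      refine (Polynomial.as_sum_range' _ (N + 1) ?_).symm
      refine Nat.lt_succ_of_le (Polynomial.natDegree_mul_le.trans ?_)
      have hle : (p i).natDegree ≤ N := Finset.le_sup (f := fun i => (p i).natDegree) (Finset.mem_univ i)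
      have := Polynomial.natDegree_X_pow_le (R := R i) (N - (p i).natDegree)
      omega
    refine ⟨q, ?_, funext fun i => ?_⟩
    · refine Polynomial.monic_of_natDegree_le_of_coeff_eq_one N ?_ (funext fun i => ?_)
      · refine (Polynomial.natDegree_sum_le _ _).trans (Finset.sup_le fun n hn => ?_)
        exact (Polynomial.natDegree_monomial_le _).trans (Nat.lt_succ_iff.1 (Finset.mem_range.1 hn))
      · have := congrArg (fun r => Polynomial.coeff r N) (hqi i)
        simp only [Polynomial.coeff_map, Pi.evalRingHom_apply] at this
        rw [this, Pi.one_apply]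
        have hle : (p i).natDegree ≤ N := Finset.le_sup (f := fun i => (p i).natDegree) (Finset.mem_univ i)
        rw [Polynomial.coeff_X_pow_mul', if_pos (Nat.sub_le _ _), Nat.sub_sub_self hle]
        exact hp i
    · show Pi.evalRingHom S i (Polynomial.eval₂ (RingHom.pi fun i => (f i).comp (Pi.evalRingHom R i)) s q) = 0
      rw [Polynomial.hom_eval₂, show (Pi.evalRingHom S i).comp (RingHom.pi fun i => (f i).comp (Pi.evalRingHom R i)) = (f i).comp (Pi.evalRingHom R i) from rfl,
        ← Polynomial.eval₂_map, hqi, Polynomial.eval₂_mul]
      erw [he i, mul_zero]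

end Groth.Agent.S9656
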