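import Groth.Statements.S9658
import Mathlib

set_option autoImplicit false
set_option linter.style.haveILetI false
universe u
open CAlg

namespace Groth.Agent.S9658

/-- Let R be a ring, f_1, …, f_n ∈ R generating the unit ideal and M an R-module. With M_i = M_{f_i},
M_ij = M_{f_i f_j} (any localizations, with the canonical compatible maps M → M_i → M_ij), the
sequence 0 → M → ⊕ M_i → ⊕ M_ij is exact: an element of M whose image vanishes in every M_i is zero,
and every family (m_i ∈ M_i) such that m_i and m_j have the same image in M_ij for all i, j is the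
image of an element of M. -/
theorem result {R : Type u} [CommRing R] {ι : Type u} [Fintype ι] (f : ι → R) (hf : Ideal.span (Set.range f) = ⊤)
    (M : Type u) [AddCommGroup M] [Module R M]
    (Mi : ι → Type u) [∀ i, AddCommGroup (Mi i)] [∀ i, Module R (Mi i)] (g : ∀ i, M →ₗ[R] Mi i) [∀ i, IsLocalizedModule (Submonoid.powers (f i)) (g i)]
    (Mij : ι → ι → Type u) [∀ i j, AddCommGroup (Mij i j)] [∀ i j, Module R (Mij i j)] (gij : ∀ i j, M →ₗ[R] Mij i j) [∀ i j, IsLocalizedModule (Submonoid.powers (f i * f j)) (gij i j)]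
    (ρ₁ : ∀ i j, Mi i →ₗ[R] Mij i j) (hρ₁ : ∀ i j, ρ₁ i j ∘ₗ g i = gij i j) (ρ₂ : ∀ i j, Mi j →ₗ[R] Mij i j) (hρ₂ : ∀ i j, ρ₂ i j ∘ₗ g j = gij i j) :
    (∀ m : M, (∀ i, g i m = 0) → m = 0) ∧
      ∀ s : ∀ i, Mi i, (∀ i j, ρ₁ i j (s i) = ρ₂ i j (s j)) → ∃ m : M, ∀ i, g i m = s i := by
  classical
  have hspan : ∀ e : ι → ℕ, Ideal.span (Set.range fun i => f i ^ e i) = ⊤ := by
    intro e
    refine top_unique ((Ideal.span_pow_eq_top _ hf (Finset.univ.sup e)).ge.trans (Ideal.span_le.mpr ?_))
    rintro _ ⟨_, ⟨i, rfl⟩, rfl⟩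
    dsimp only
    rw [← Nat.sub_add_cancel (Finset.le_sup (f := e) (Finset.mem_univ i)), pow_add]
    exact Ideal.mul_mem_left _ _ (Ideal.subset_span ⟨i, rfl⟩)
  constructor
  · intro m hm
    have : ∀ i, ∃ e : ℕ, f i ^ e • m = 0 := by
      intro i
      obtain ⟨⟨_, e, rfl⟩, he⟩ := (IsLocalizedModule.eq_zero_iff (Submonoid.powers (f i)) (g i)).mp (hm i)
      exact ⟨e, he⟩
    choose e he using this
    obtain ⟨c, hc⟩ := (Ideal.mem_span_range_iff_exists_fun).mp
      (Ideal.eq_top_iff_one _ |>.mp (hspan e))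
    rw [← one_smul R m, ← hc, Finset.sum_smul]
    exact Finset.sum_eq_zero fun i _ => by rw [mul_smul, he, smul_zero]
  · intro s hs
    have h1 : ∀ i, ∃ (m : M) (a : ℕ), f i ^ a • s i = g i m := by
      intro i
      obtain ⟨⟨m, ⟨_, a, rfl⟩⟩, ha⟩ := IsLocalizedModule.surj (Submonoid.powers (f i)) (g i) (s i)
      exact ⟨m, a, ha⟩
    choose m a ha using h1
    set A := Finset.univ.sup a with hA
    have haA : ∀ i, f i ^ A • s i = g i (f i ^ (A - a i) • m i) := by
      intro i
      rw [map_smul, ← ha i, ← mul_smul, ← pow_add, Nat.sub_add_cancel (Finset.le_sup (Finset.mem_univ i))]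
    have h2 : ∀ i j, ∃ b : ℕ, (f i * f j) ^ b • (f j ^ A • (f i ^ (A - a i) • m i))
        = (f i * f j) ^ b • (f i ^ A • (f j ^ (A - a j) • m j)) := by
      intro i j
      have e : gij i j (f j ^ A • (f i ^ (A - a i) • m i))
          = gij i j (f i ^ A • (f j ^ (A - a j) • m j)) := by
        rw [(gij i j).map_smul (f j ^ A), (gij i j).map_smul (f i ^ A)]
        conv_lhs => rw [← hρ₁ i j, LinearMap.comp_apply, ← haA i, map_smul, hs i j]
        conv_rhs => rw [← hρ₂ i j, LinearMap.comp_apply, ← haA j, map_smul]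
        rw [smul_comm]
      obtain ⟨⟨_, b, rfl⟩, hb⟩ := IsLocalizedModule.exists_of_eq (S := Submonoid.powers (f i * f j)) e
      exact ⟨b, hb⟩
    choose b hb using h2
    set B := Finset.univ.sup (fun p : ι × ι => b p.1 p.2) with hB
    set n : ι → M := fun i => f i ^ B • (f i ^ (A - a i) • m i) with hn
    have hns : ∀ i, g i (n i) = f i ^ (A + B) • s i := by
      intro i
      simp only [hn]
      rw [map_smul, ← haA i, ← mul_smul, ← pow_add, add_comm]
    have hnn : ∀ i j, f j ^ (A + B) • n i = f i ^ (A + B) • n j := by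
      intro i j
      have hle : b i j ≤ B := Finset.le_sup (f := fun p : ι × ι => b p.1 p.2) (Finset.mem_univ (i, j))
      have e := congrArg (fun x => (f i * f j) ^ (B - b i j) • x) (hb i j)
      simp only [← mul_smul, ← mul_assoc, ← pow_add, Nat.sub_add_cancel hle] at e
      simp only [hn, ← mul_smul]
      refine Eq.trans ?_ (e.trans ?_) <;> (congr 1; ring)
    obtain ⟨c, hc⟩ := (Ideal.mem_span_range_iff_exists_fun).mp
      (Ideal.eq_top_iff_one _ |>.mp (hspan (fun _ => A + B)))
    refine ⟨∑ i, c i • n i, fun j => ?_⟩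
    have hu : IsUnit ((algebraMap R (Module.End R (Mi j))) (f j ^ (A + B))) :=
      IsLocalizedModule.map_units (g j) (⟨_, ⟨A + B, rfl⟩⟩ : Submonoid.powers (f j))
    apply ((Module.End.isUnit_iff _).mp hu).1
    simp only [Module.algebraMap_end_apply]
    rw [← map_smul, ← hns j, Finset.smul_sum]
    congr 1
    conv_rhs => rw [← one_smul R (n j), ← hc, Finset.sum_smul]
    refine Finset.sum_congr rfl fun i _ => ?_
    rw [smul_comm, hnn i j, mul_smul]

end Groth.Agent.S9658
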