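import Groth.Statements.S9660
import Groth.Agent.Lead.ProjL
-- import your own Groth.Agent.* helpers here

set_option autoImplicit false
universe u
open CAlg

namespace Groth.Agent.S9660

/-- Let S be an ℕ-graded ring and I a homogeneous ideal of S. Then V₊(I) ⊆ Proj(S) is empty if and only
if S₊ ⊆ √I. -/
theorem result {R S : Type u} [CommRing R] [CommRing S] [Algebra R S] (𝒜 : ℕ → Submodule R S) [GradedAlgebra 𝒜] (I : HomogeneousIdeal 𝒜) :
    ProjectiveSpectrum.zeroLocus 𝒜 (I : Set S) = ∅ ↔ (HomogeneousIdeal.irrelevant 𝒜).toIdeal ≤ I.toIdeal.radical := by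
  classical
  constructor
  · intro h z hz
    rw [← DirectSum.sum_support_decompose 𝒜 z]
    refine Ideal.sum_mem _ fun j _ => ?_
    rcases Nat.eq_zero_or_pos j with rfl | hj
    · rw [← GradedRing.proj_apply, (HomogeneousIdeal.mem_irrelevant_iff _ _).mp hz]
      exact zero_mem _
    by_contra hn
    rw [Ideal.radical_eq_sInf, Ideal.mem_sInf] at hn
    push Not at hn
    obtain ⟨Q, ⟨hle, hQ⟩, hzQ⟩ := hn
    obtain ⟨p, -, -, hp⟩ := Groth.Agent.Lead.ProjL.exists_point_le 𝒜 Q hj (DirectSum.decompose 𝒜 z j).2 hzQ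
    refine Set.eq_empty_iff_forall_notMem.mp h p fun e he => ?_
    show e ∈ p.asHomogeneousIdeal.toIdeal
    rw [← DirectSum.sum_support_decompose 𝒜 e]
    exact Ideal.sum_mem _ fun k _ => hp k _ (SetLike.coe_mem _) (hle (I.isHomogeneous k he))
  · intro h
    refine Set.eq_empty_iff_forall_notMem.mpr fun p hp => p.not_irrelevant_le fun z hz =>
      p.isPrime.radical.le (Ideal.radical_mono ?_ (h hz))
    exact hp

end Groth.Agent.S9660
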