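import Groth.Statements.S9663
import Mathlib.Algebra.Module.LocalizedModule.Basic
import Mathlib.Data.Fintype.EquivFin
import Mathlib.Algebra.Order.BigOperators.Group.Finset

set_option autoImplicit false
universe u
open CAlg

namespace Groth.Agent.S9663

/-- Let R be a ring and f_i, i in a finite index set, elements of R (no condition on the ideal they
generate). Suppose given for each i an R-module M_i on which f_i acts invertibly, for each pair (i,
j) an R-linear isomorphism ψ_ij : (M_i)_{f_j} → (M_j)_{f_i}, and suppose the cocycle condition ψ_jk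
∘ ψ_ij = ψ_ik holds as maps (M_i)_{f_j f_k} → (M_k)_{f_i f_j} for all triples (i, j, k). All
localizations are given through their universal properties: (M_i)_{f_j} with its map g from M_i;
(M_i)_{f_j f_k} with its map t from M_i and the compatible maps u from (M_i)_{f_j} and v from
(M_i)_{f_k}; and the three localized isomorphisms Ψ₁ (ψ_ij on (M_i)_{f_j f_k}), Ψ₂ (ψ_jk on
(M_j)_{f_i f_k}) and Ψ₃ (ψ_ik on (M_i)_{f_j f_k}) are given as maps compatible with the ψ's. Let M ⊆
Π_i M_i be the submodule of families (m_i) with m_i/1 = ψ_ji(m_j/1) in (M_i)_{f_j} for all i, j.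
Then for each i the projection M → M_i exhibits M_i as the localization of M at f_i. -/
theorem result {R : Type u} [CommRing R] {ι : Type u} [Finite ι] (f : ι → R)
    (Mi : ι → Type u) [∀ i, AddCommGroup (Mi i)] [∀ i, Module R (Mi i)]
    (hMi : ∀ i, IsUnit (algebraMap R (Module.End R (Mi i)) (f i)))
    (Mij : ι → ι → Type u) [∀ i j, AddCommGroup (Mij i j)] [∀ i j, Module R (Mij i j)]
    (g : ∀ i j, Mi i →ₗ[R] Mij i j) [∀ i j, IsLocalizedModule (Submonoid.powers (f j)) (g i j)]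
    (ψ : ∀ i j, Mij i j ≃ₗ[R] Mij j i)
    (T : ι → ι → ι → Type u) [∀ i j k, AddCommGroup (T i j k)] [∀ i j k, Module R (T i j k)]
    (t : ∀ i j k, Mi i →ₗ[R] T i j k) [∀ i j k, IsLocalizedModule (Submonoid.powers (f j * f k)) (t i j k)]
    (u : ∀ i j k, Mij i j →ₗ[R] T i j k) (hu : ∀ i j k, u i j k ∘ₗ g i j = t i j k)
    (v : ∀ i j k, Mij i k →ₗ[R] T i j k) (hv : ∀ i j k, v i j k ∘ₗ g i k = t i j k)
    (Ψ₁ : ∀ i j k, T i j k →ₗ[R] T j i k) (hΨ₁ : ∀ i j k, Ψ₁ i j k ∘ₗ u i j k = u j i k ∘ₗ (ψ i j).toLinearMap)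
    (Ψ₂ : ∀ i j k, T j i k →ₗ[R] T k i j) (hΨ₂ : ∀ i j k, Ψ₂ i j k ∘ₗ v j i k = v k i j ∘ₗ (ψ j k).toLinearMap)
    (Ψ₃ : ∀ i j k, T i j k →ₗ[R] T k i j) (hΨ₃ : ∀ i j k, Ψ₃ i j k ∘ₗ v i j k = u k i j ∘ₗ (ψ i k).toLinearMap)
    (hcoc : ∀ i j k, Ψ₂ i j k ∘ₗ Ψ₁ i j k = Ψ₃ i j k)
    (M : Submodule R (∀ i, Mi i)) (hM : ∀ m : ∀ i, Mi i, m ∈ M ↔ ∀ i j, g i j (m i) = ψ j i (g j i (m j))) (i : ι) :
    IsLocalizedModule (Submonoid.powers (f i)) ((LinearMap.proj i).comp M.subtype : ↥M →ₗ[R] Mi i) := by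
  classical
  have : Fintype ι := Fintype.ofFinite ι
  have hinv : ∀ (a : ι) (c : ℕ) (w : Mi a), f a ^ c • w = 0 → w = 0 := by
    intro a c w hw
    have h2 : IsUnit (algebraMap R (Module.End R (Mi a)) (f a ^ c)) := by
      rw [map_pow]; exact (hMi a).pow c
    refine ((Module.End.isUnit_iff _).1 h2).1 ?_
    rw [map_zero, Module.algebraMap_end_apply, hw]
  have hgsurj : ∀ a b (z : Mij a b), ∃ (w : Mi a) (n : ℕ), f b ^ n • z = g a b w := by
    intro a b z
    obtain ⟨⟨w, ⟨_, n, rfl⟩⟩, h⟩ := IsLocalizedModule.surj (Submonoid.powers (f b)) (g a b) z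
    exact ⟨w, n, h⟩
  have hgker : ∀ a b (w : Mi a), g a b w = 0 → ∃ n : ℕ, f b ^ n • w = 0 := by
    intro a b w hw
    obtain ⟨⟨_, n, rfl⟩, h⟩ :=
      (IsLocalizedModule.eq_zero_iff (Submonoid.powers (f b)) (g a b)).1 hw
    exact ⟨n, h⟩
  have hgcancel : ∀ a b (n : ℕ) (z : Mij a b), f b ^ n • z = 0 → z = 0 := by
    intro a b n z hz
    refine ((Module.End.isUnit_iff _).1 (IsLocalizedModule.map_units (g a b)
      (⟨f b ^ n, n, rfl⟩ : Submonoid.powers (f b)))).1 ?_
    rw [map_zero, Module.algebraMap_end_apply]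
    exact hz
  have hvker : ∀ a b c (z : Mij a c), v a b c z = 0 → ∃ n : ℕ, f b ^ n • z = 0 := by
    intro a b c z hz
    obtain ⟨w, n, hw⟩ := hgsurj a c z
    have htw : t a b c w = 0 := by
      rw [← hv a b c, LinearMap.comp_apply, ← hw, map_smul, hz, smul_zero]
    obtain ⟨⟨_, p, rfl⟩, hp⟩ :=
      (IsLocalizedModule.eq_zero_iff (Submonoid.powers (f b * f c)) (t a b c)).1 htw
    change (f b * f c) ^ p • w = 0 at hp
    refine ⟨p, hgcancel a c (p + n) _ ?_⟩
    rw [smul_comm, pow_add, mul_smul, hw, ← map_smul, ← map_smul, smul_smul, ← mul_pow, hp, map_zero]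
  have hdiag : ∀ a (y : Mi a), ψ a a (g a a y) = g a a y := by
    intro a y
    have hvu : ∀ z : Mij a a, v a a a z = u a a a z := by
      intro z
      obtain ⟨w, n, hw⟩ := hgsurj a a z
      have h1 : f a ^ n • (v a a a z - u a a a z) = 0 := by
        rw [smul_sub, ← map_smul, ← map_smul, hw, ← LinearMap.comp_apply, ← LinearMap.comp_apply,
          hv, hu, sub_self]
      have h2 : (f a * f a) ^ n • (v a a a z - u a a a z) = 0 := by
        rw [mul_pow, mul_smul, h1, smul_zero]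
      refine sub_eq_zero.1 (((Module.End.isUnit_iff _).1 (IsLocalizedModule.map_units (t a a a)
        (⟨(f a * f a) ^ n, n, rfl⟩ : Submonoid.powers (f a * f a)))).1 ?_)
      rw [map_zero, Module.algebraMap_end_apply]
      exact h2
    have h := LinearMap.congr_fun (hcoc a a a) (v a a a (g a a y))
    have e₁ := LinearMap.congr_fun (hΨ₁ a a a) (g a a y)
    have e₂ := LinearMap.congr_fun (hΨ₂ a a a) (ψ a a (g a a y))
    have e₃ := LinearMap.congr_fun (hΨ₃ a a a) (g a a y)
    simp only [LinearMap.comp_apply, LinearEquiv.coe_coe] at h e₁ e₂ e₃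
    rw [e₃, hvu, e₁, ← hvu, e₂] at h
    have h3 : ∀ z : Mij a a, v a a a z = 0 → z = 0 := by
      intro z hz
      obtain ⟨n, hn⟩ := hvker a a a z hz
      exact hgcancel a a n z hn
    refine (ψ a a).injective (sub_eq_zero.1 (h3 _ ?_))
    rw [map_sub, sub_eq_zero]
    exact h
  refine { map_units := ?_, surj := ?_, exists_of_eq := ?_ }
  · rintro ⟨_, n, rfl⟩
    rw [map_pow]
    exact (hMi i).pow n
  · intro x
    choose w n hw using fun j => hgsurj j i (ψ i j (g i j x))
    let N := Finset.univ.sup n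
    let m' : ∀ j, Mi j := fun j => f i ^ (N - n j) • w j
    have hm' : ∀ j, g j i (m' j) = f i ^ N • ψ i j (g i j x) := by
      intro j
      show g j i (f i ^ (N - n j) • w j) = _
      rw [map_smul, ← hw, smul_smul, ← pow_add, Nat.sub_add_cancel (Finset.le_sup (Finset.mem_univ j))]
    have hd : ∀ j k, ∃ b : ℕ, f i ^ b • (ψ j k (g j k (m' j)) - g k j (m' k)) = 0 := by
      intro j k
      refine hvker k i j _ ?_
      rw [map_sub, sub_eq_zero]
      have e₁ := LinearMap.congr_fun (hΨ₁ i j k) (g i j x)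
      have e₂ := LinearMap.congr_fun (hΨ₂ i j k) (g j k (m' j))
      have e₃ := LinearMap.congr_fun (hΨ₃ i j k) (g i k x)
      have hu' : ∀ a b c y, u a b c (g a b y) = t a b c y := fun a b c y =>
        LinearMap.congr_fun (hu a b c) y
      have hv' : ∀ a b c y, v a b c (g a c y) = t a b c y := fun a b c y =>
        LinearMap.congr_fun (hv a b c) y
      simp only [LinearMap.comp_apply, LinearEquiv.coe_coe] at e₁ e₂ e₃
      rw [← e₂, hv', ← hu', hm', map_smul, ← e₁, hu', ← map_smul, ← LinearMap.map_smul,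
        ← LinearMap.comp_apply (Ψ₂ i j k), hcoc, map_smul, map_smul, ← hv', e₃, ← map_smul, ← hm',
        hu', ← hv']
    choose b hb using hd
    let B := Finset.univ.sup fun jk : ι × ι => b jk.1 jk.2
    let m : ∀ j, Mi j := fun j => f i ^ B • m' j
    have hmM : m ∈ M := by
      rw [hM]
      intro k j
      show g k j (f i ^ B • m' k) = ψ j k (g j k (f i ^ B • m' j))
      have h0 : f i ^ B • (ψ j k (g j k (m' j)) - g k j (m' k)) = 0 := by
        rw [show B = (B - b j k) + b j k from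
          (Nat.sub_add_cancel (Finset.le_sup (f := fun jk : ι × ι => b jk.1 jk.2)
            (Finset.mem_univ (j, k)))).symm, pow_add, mul_smul, hb, smul_zero]
      rw [smul_sub, sub_eq_zero] at h0
      rw [LinearMap.map_smul (g k j), LinearMap.map_smul (g j k), LinearEquiv.map_smul, h0]
    refine ⟨⟨⟨m, hmM⟩, ⟨f i ^ (B + N), B + N, rfl⟩⟩, ?_⟩
    show f i ^ (B + N) • x = f i ^ B • m' i
    have h1 : g i i (m' i - f i ^ N • x) = 0 := by rw [map_sub, hm', hdiag, map_smul, sub_self]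
    obtain ⟨c, hc⟩ := hgker i i _ h1
    rw [sub_eq_zero.1 (hinv i c _ hc), smul_smul, ← pow_add]
  · rintro ⟨m₁, h₁⟩ ⟨m₂, h₂⟩ h
    have hj : ∀ j, ∃ n : ℕ, f i ^ n • (m₁ j - m₂ j) = 0 := by
      intro j
      refine hgker j i _ ?_
      have e1 := (hM m₁).1 h₁ i j
      have e2 := (hM m₂).1 h₂ i j
      have h' : m₁ i = m₂ i := h
      rw [h', e2] at e1
      rw [map_sub, (ψ j i).injective e1, sub_self]
    choose n hn using hj
    refine ⟨⟨f i ^ Finset.univ.sup n, _, rfl⟩, Subtype.ext (funext fun j => ?_)⟩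
    show f i ^ Finset.univ.sup n • m₁ j = f i ^ Finset.univ.sup n • m₂ j
    rw [← sub_eq_zero, ← smul_sub,
      ← Nat.sub_add_cancel (Finset.le_sup (f := n) (Finset.mem_univ j)), pow_add, mul_smul, hn,
      smul_zero]

end Groth.Agent.S9663
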