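import Groth.Statements.S9672
import Groth.Agent.FibreDepth.FlatLocusModule
import Mathlib.AlgebraicGeometry.Normalization

set_option autoImplicit false
set_option linter.style.haveILetI false
universe u
open CategoryTheory CategoryTheory.Limits AlgebraicGeometry
open Mor

namespace Groth.Agent.S9672

/-- Let f : Y ⟶ X be quasi-compact and quasi-separated, and write X' for the normalization of X relative
to Y. If x' ∈ X' is the generic point of some irreducible component of X', then there is a point y ∈
Y that is generic in an irreducible component of Y and is sent to x' by the canonical morphism Y ⟶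
X'. -/
theorem result {X Y : Scheme.{u}} (f : Y ⟶ X)
    [QuasiCompact f] [QuasiSeparated f] (x' : ↥f.normalization)
    (hx' : closure {x'} ∈ irreducibleComponents ↥f.normalization) :
    ∃ y : Y, closure {y} ∈ irreducibleComponents ↥Y ∧ f.toNormalization.base y = x' := by
  haveI : QuasiCompact f.toNormalization := inferInstance
  haveI : IsDominant f.toNormalization := inferInstance
  obtain ⟨y, -, hy⟩ := Groth.Agent.FibreDepth.FlatLocusModule.exists_specializes_image f.toNormalization
    (Z := Set.univ) isClosed_univ (y := x') (by
      rw [Set.image_univ]
      exact f.toNormalization.denseRange x')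
  have hgen : ∀ z, f.toNormalization z ⤳ x' → f.toNormalization z = x' := by
    intro z hz
    have h1 : closure {x'} ⊆ closure {f.toNormalization z} := specializes_iff_closure_subset.mp hz
    have h2 : closure {f.toNormalization z} ⊆ closure {x'} := hx'.2 isIrreducible_singleton.closure h1
    exact (hz.antisymm (specializes_iff_closure_subset.mpr h2)).eq
  obtain ⟨g, hg⟩ := QuasiSober.sober (isIrreducible_irreducibleComponent (x := y)) isClosed_irreducibleComponent
  refine ⟨g, ?_, hgen g ((Specializes.map ?_ f.toNormalization.continuous).trans hy)⟩
  · rw [hg]; exact irreducibleComponent_mem_irreducibleComponents y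
  · exact hg.specializes mem_irreducibleComponent

end Groth.Agent.S9672
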