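import Groth.Statements.S9684
import Groth.Agent.HensPair.JacobsonDim
import Groth.Agent.HensPair.FibreTrdeg

set_option autoImplicit false
universe u
open CategoryTheory CategoryTheory.Limits AlgebraicGeometry
open Cyc

namespace Groth.Agent.S9684

/-- Let S be a locally Noetherian scheme whose local rings are universally catenary, δ a dimension
function on S, and f : X ⟶ S locally of finite type. Then the function δ_X(x) = δ(f x) + trdeg_{κ(f
x)} κ(x) is a dimension function on X. -/
theorem result {X S : Scheme.{u}} (f : X ⟶ S)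
    [LocallyOfFiniteType f] (δ : ↥S → ℤ) (hS : Cyc.IsSetup S δ) (δX : ↥X → ℤ)
    (hδ : Cyc.DeltaCompat f δX δ) : Cyc.IsDimFun X δX := by
  open Groth.Agent.HensPair in
  obtain ⟨hN, huc, hd⟩ := hS
  haveI := hN
  haveI : IsLocallyNoetherian X := LocallyOfFiniteType.isLocallyNoetherian f
  have hle : ∀ a b : S, a ⤳ b → δ b ≤ δ a := fun a b h => by
    by_cases e : a = b
    · rw [e]
    · exact (hd a b h e).1.le
  have cod : ∀ (m : ℕ) (w v : S), w ⤳ v → δ w = δ v + m → CatScheme.cd w v = (m : ℕ) := by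
    intro m w v h hm
    refine le_antisymm (iSup_le fun l => ?_) ?_
    · have key : ∀ i : Fin (l.length + 1), δ v + (i : ℕ) ≤ δ (l i).1 := by
        intro i
        induction i using Fin.induction with
        | zero => simpa using hle _ _ (l 0).2.2
        | succ i ih =>
          have h1 : l i.castSucc < l i.succ := l.step i
          have := (hd (l i.succ).1 (l i.castSucc).1 h1.le fun e => h1.ne (Subtype.ext e.symm)).1
          simp only [Fin.val_castSucc] at ih
          simp only [Fin.val_succ, Nat.cast_add, Nat.cast_one]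
          omega
      have h1 := key (Fin.last _)
      simp only [Fin.val_last] at h1
      have h2 := hle w _ (l (Fin.last _)).2.1
      exact_mod_cast (by omega : l.length ≤ m)
    · suffices H : ∃ l : LTSeries ({t : S | w ⤳ t ∧ t ⤳ v} : Set S), l.length = m ∧ l.last.1 = w by
        obtain ⟨l, hl, -⟩ := H
        exact hl ▸ Order.LTSeries.length_le_krullDim l
      induction m generalizing w with
      | zero => exact ⟨RelSeries.singleton _ ⟨w, specializes_rfl, h⟩, rfl, rfl⟩
      | succ m ih =>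
        obtain ⟨a, ⟨z, hwz, hzv, hne, rfl⟩, hmax⟩ := Int.exists_greatest_of_bdd
          (P := fun a => ∃ z, w ⤳ z ∧ z ⤳ v ∧ z ≠ w ∧ δ z = a)
          ⟨δ w, fun a ⟨z, hwz, _, _, e⟩ => e ▸ hle _ _ hwz⟩
          ⟨δ v, v, h, specializes_rfl, fun e => by rw [e] at hm; omega, rfl⟩
        have himm : ∀ t : S, w ⤳ t → t ⤳ z → t = w ∨ t = z := fun t h1 h2 => by
          by_contra hc
          rw [not_or] at hc
          have := hmax (δ t) ⟨t, h1, h2.trans hzv, hc.1, rfl⟩
          have := (hd t z h2 hc.2).1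
          omega
        have h1 := (hd w z hwz fun e => hne e.symm).2 himm
        obtain ⟨l, hl, hlast⟩ := ih z hzv (by push_cast at hm; omega)
        let g : ({t : S | z ⤳ t ∧ t ⤳ v} : Set S) → ({t : S | w ⤳ t ∧ t ⤳ v} : Set S) :=
          fun t => ⟨t.1, hwz.trans t.2.1, t.2.2⟩
        have hlt : (l.map g fun a b hab => hab).last < ⟨w, specializes_rfl, h⟩ := by
          rw [LTSeries.last_map]
          refine lt_iff_le_not_ge.mpr ⟨show w ⤳ l.last.1 by rw [hlast]; exact hwz, fun hh => hne ?_⟩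
          have h4 : l.last.1 ⤳ w := hh
          rw [hlast] at h4
          exact (h4.antisymm hwz).eq
        refine ⟨(l.map g fun a b hab => hab).snoc _ hlt, ?_, congrArg Subtype.val (RelSeries.last_snoc _ _ _)⟩
        rw [RelSeries.snoc_length]
        exact congrArg (· + 1) hl
  have hX : ∀ x, δX x = δ (f x) + FibreTrdeg.T f x := fun x => by
    obtain ⟨n, hn, he⟩ := hδ x
    have h := FibreTrdeg.T_spec f x
    rw [hn] at h
    rw [he]
    exact_mod_cast congrArg (fun m : ℕ => δ (f x) + (m : ℤ)) (show n = FibreTrdeg.T f x by exact_mod_cast h)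
  intro x x' hxx' hne
  obtain ⟨j, i, hi, hj, -, heq⟩ := CatScheme.alt f x' x hxx'
  have hff : f x ⤳ f x' := hxx'.map f.continuous
  have hj' := cod (δ (f x) - δ (f x')).toNat _ _ hff (by have := hle _ _ hff; omega)
  rw [hj'] at hj
  have ej : (δ (f x) - δ (f x')).toNat = j := by exact_mod_cast hj
  have e := heq (huc _)
  have hge := hle _ _ hff
  have i1 : 1 ≤ i := by
    have hlt : (⟨x', hxx', specializes_rfl⟩ : ({t : X | x ⤳ t ∧ t ⤳ x'} : Set X)) < ⟨x, specializes_rfl, hxx'⟩ :=
      lt_iff_le_not_ge.mpr ⟨hxx', fun h' => hne (hxx'.antisymm h').eq⟩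
    let l : LTSeries ({t : X | x ⤳ t ∧ t ⤳ x'} : Set X) :=
      (RelSeries.singleton _ (⟨x', hxx', specializes_rfl⟩ : ({t : X | x ⤳ t ∧ t ⤳ x'} : Set X))).snoc
        ⟨x, specializes_rfl, hxx'⟩ hlt
    have h1 := Order.LTSeries.length_le_krullDim l
    change _ ≤ CatScheme.cd x x' at h1
    rw [hi] at h1
    exact_mod_cast h1
  rw [hX, hX]
  refine ⟨by omega, fun himm => ?_⟩
  have i2 : i ≤ 1 := by
    have h1 : CatScheme.cd x x' ≤ ((1 : ℕ) : WithBot ℕ∞) := iSup_le fun l => by
      by_contra hlen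
      have h2 : 2 ≤ l.length := by
        by_contra h
        exact hlen (by exact_mod_cast (by omega : l.length ≤ 1))
      have m1 : l ⟨0, by omega⟩ < l ⟨1, by omega⟩ := l.strictMono (Fin.mk_lt_mk.mpr Nat.zero_lt_one)
      have m2 : l ⟨1, by omega⟩ < l ⟨2, by omega⟩ := l.strictMono (Fin.mk_lt_mk.mpr Nat.one_lt_two)
      rcases himm _ (l ⟨1, by omega⟩).2.1 (l ⟨1, by omega⟩).2.2 with h | h
      · exact m2.not_ge (show (l ⟨1, by omega⟩).1 ⤳ (l ⟨2, by omega⟩).1 by rw [h]; exact (l ⟨2, by omega⟩).2.1)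
      · exact m1.not_ge (show (l ⟨0, by omega⟩).1 ⤳ (l ⟨1, by omega⟩).1 by rw [h]; exact (l ⟨0, by omega⟩).2.2)
    rw [hi] at h1
    exact_mod_cast h1
  omega

end Groth.Agent.S9684
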