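import Groth.Statements.S9696
import Groth.Prelude
import Groth.Agent.Locus.BaseChange

set_option autoImplicit false
universe u
open CategoryTheory CategoryTheory.Limits AlgebraicGeometry
open Mor

namespace Groth.Agent.S9696
open CategoryTheory CategoryTheory.Limits AlgebraicGeometry Groth.Agent.Locus
set_option backward.isDefEq.respectTransparency false

/-- Let f : X ⟶ S be flat and locally of finite presentation and g : S' ⟶ S any morphism, with base
change f' : X ×_S S' ⟶ S' and projection g' : X ×_S S' ⟶ X. Then the open set of points where f' is
etale is the inverse image under g' of the open set of points where f is etale. -/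
theorem result {X S S' : Scheme.{u}} (f : X ⟶ S) [Flat f]
    [LocallyOfFinitePresentation f] (g : S' ⟶ S) (x' : ↑(pullback f g)) :
    (∃ U' : (pullback f g).Opens, x' ∈ U' ∧ Etale (U'.ι ≫ pullback.snd f g)) ↔
      (∃ U : X.Opens, (pullback.fst f g).base x' ∈ U ∧ Etale (U.ι ≫ f)) := by
  constructor
  · intro h
    obtain ⟨h1, h2⟩ := (Basic.exists_etale_nhd_iff (pullback.snd f g) x').mp h
    exact (Basic.exists_etale_nhd_iff f _).mpr
      ⟨BaseChange.mem_smoothLocus_of_flat_stalkMap (IsPullback.of_hasPullback f g) (Flat.stalkMap f _) h1,
        BaseChange.formallyUnramified_stalkMap_of_isPullback (IsPullback.of_hasPullback f g) h2⟩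
  · exact BaseChange.exists_nhd_of_isPullback @Etale (IsPullback.of_hasPullback f g)

end Groth.Agent.S9696
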