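import Groth.Statements.S9701
import Groth.Agent.Misc9.ExtendAt
-- import your own Groth.Agent.* helpers here

set_option autoImplicit false
set_option backward.isDefEq.respectTransparency false
universe u
open CategoryTheory CategoryTheory.Limits AlgebraicGeometry
open Mor

namespace Groth.Agent.S9701

/-- Let p : X ⟶ S and q : Y ⟶ S with q proper, let x be a point of X whose local ring is a valuation
ring, U ⊆ X an open with x in the closure of U, and f : U ⟶ Y a morphism over S. Assume that X is
Noetherian, or else that X is reduced and has only finitely many irreducible components. Then there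
are an open U' of X containing U and x and a morphism f' : U' ⟶ Y over S extending f. -/
theorem result {X Y S : Scheme.{u}} (p : X ⟶ S) (q : Y ⟶ S)
    [IsProper q] (x : X) (U : X.Opens) (f : (U : Scheme.{u}) ⟶ Y) (hf : f ≫ q = U.ι ≫ p)
    (hx : x ∈ closure (U : Set ↥X))
    (hX : (IsReduced X ∧ (irreducibleComponents ↥X).Finite) ∨ IsNoetherian X)
    (hdom : IsDomain (X.presheaf.stalk x)) (hval : @ValuationRing (X.presheaf.stalk x) _ hdom) :
    ∃ (U' : X.Opens) (hUU' : U ≤ U'), x ∈ U' ∧
      ∃ f' : (U' : Scheme.{u}) ⟶ Y, f' ≫ q = U'.ι ≫ p ∧ X.homOfLE hUU' ≫ f' = f := by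
  haveI := hdom
  haveI := hval
  let K := FractionRing (X.presheaf.stalk x)
  have hfin : (irreducibleComponents ↥X).Finite := by
    rcases hX with h | h
    · exact h.2
    · haveI := h
      exact TopologicalSpace.NoetherianSpace.finite_irreducibleComponents
  haveI : X.IsGermInjectiveAt x := by
    rcases hX with h | h
    · haveI := h.1
      exact Misc9.ExtendAt.germInjectiveAt_of_finite x hfin
    · haveI := h
      infer_instance
  have hz := Misc9.ExtendAt.exists_specializes_of_finite (U : Set ↥X) U.2 hfin hx
  let e := IsOpenImmersion.lift U.ι _ (Misc9.ExtendAt.range_gen_subset x K U hz)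
  have he : e ≫ U.ι = Misc9.ExtendAt.gen x K := IsOpenImmersion.lift_fac _ _ _
  obtain ⟨φ, h1, h2⟩ := Misc9.ExtendAt.exists_lift_proper x K p q U f hf e he
  obtain ⟨W, g, hxW, hg, hc⟩ := Misc9.ExtendAt.spread x K p q U f hf e he φ h1 h2
  exact Misc9.ExtendAt.glue_two x p q U W f g hf hg hxW hc

end Groth.Agent.S9701
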