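import Groth.Statements.S9709
import Groth.Agent.Topo.IntegralDim

set_option autoImplicit false
universe u
open CategoryTheory CategoryTheory.Limits AlgebraicGeometry
open Mor

namespace Groth.Agent.S9709

/-- Let f : X ⟶ S be an integral morphism. Then every point x of X is closed in its fibre: a point of
f⁻¹(f x) specialising from x equals x. -/
theorem result {X S : Scheme.{u}} (f : X ⟶ S) [IsIntegralHom f] (x : X) :
    closure {x} ∩ f.base ⁻¹' {f.base x} = {x} := by
  ext z
  constructor
  · rintro ⟨hz, hfz⟩
    have h1 : x ⤳ z := specializes_iff_mem_closure.mpr hz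
    exact (h1.antisymm (Groth.Agent.Topo.IntegralDim.fib f x z h1 hfz.symm)).eq.symm
  · rintro rfl
    exact ⟨subset_closure rfl, rfl⟩

end Groth.Agent.S9709
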