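import Groth.Statements.S9711
import Groth.Agent.ModStalk.ConormalClass
import Groth.Agent.S9375

set_option autoImplicit false
universe u
open CategoryTheory CategoryTheory.Limits AlgebraicGeometry
open OmegaSh

namespace Groth.Agent.S9711

open scoped TensorProduct
open Groth.Agent.ModStalk

set_option linter.style.haveILetI false

open AlgebraicGeometry CategoryTheory Limits

/-- Elements of the square of the ideal have class zero. -/
theorem class_eq_zero_of_mem_sq {Z X : Scheme.{u}} (i : Z ⟶ X) [QuasiCompact i] {U : X.Opens}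
    (k : Γ(ClSub.idealMod i.ker, U))
    (hk : OmegaSh.idealSect i.ker U k ∈
      RingHom.ker (i.appLE U (i ⁻¹ᵁ U) le_rfl).hom * RingHom.ker (i.appLE U (i ⁻¹ᵁ U) le_rfl).hom) :
    pullSec i (ClSub.idealMod i.ker) (le_refl (i ⁻¹ᵁ U)) k = 0 := by
  suffices h : ∀ x ∈ RingHom.ker (i.appLE U (i ⁻¹ᵁ U) le_rfl).hom * RingHom.ker (i.appLE U (i ⁻¹ᵁ U) le_rfl).hom,
      ∃ m : Γ(ClSub.idealMod i.ker, U), OmegaSh.idealSect i.ker U m = x ∧
        pullSec i (ClSub.idealMod i.ker) (le_refl (i ⁻¹ᵁ U)) m = 0 by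
    obtain ⟨m, hm, hm0⟩ := h _ hk
    rwa [← idealSect_injective _ _ hm]
  intro x hx
  refine Submodule.mul_induction_on hx (fun u hu v hv => ?_) (fun u v hu hv => ?_)
  · obtain ⟨m, hm⟩ := exists_idealLift i v (by rw [Scheme.Hom.app_eq_appLE]; exact hv)
    refine ⟨u • m, ?_, ?_⟩
    · rw [idealSect_smul, show OmegaSh.idealSect i.ker U m = v from congrArg (OmegaSh.fnSect X U) hm]
    · have hu' : i.appLE U (i ⁻¹ᵁ U) le_rfl u = 0 := hu
      rw [pullSec_smul, hu', zero_smul]
  · obtain ⟨m, hm, hm0⟩ := hu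
    obtain ⟨m', hm', hm0'⟩ := hv
    exact ⟨m + m', by rw [map_add, hm, hm'], by rw [map_add, hm0, hm0', add_zero]⟩


/-- Let p : X ⟶ Y be smooth and i : Z ⟶ X, j : Z ⟶ Y quasi-compact immersions with i ≫ p = j. Then the
canonical sequence 0 → C_{Z/Y} → C_{Z/X} → i^*Ω_{X/Y} → 0 is short exact; here Ω_{X/Y} is any
receptacle of a universal Y-derivation of O_X, the first map is the canonical map of conormal
sheaves and the second is the one induced by the derivation. (The published statement allows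
arbitrary immersions; quasi-compactness of i and j is assumed here to form the conormal sheaves.) -/
theorem result {Z X Y : Scheme.{u}} (p : X ⟶ Y) [Smooth p]
    (i : Z ⟶ X) (j : Z ⟶ Y) [IsImmersion i] [IsImmersion j] [QuasiCompact i] [QuasiCompact j] (hij : i ≫ p = j)
    (Ω : X.Modules) (d : OmegaSh.Der p Ω) (hd : OmegaSh.IsUniversal d)
    (ψ : (Scheme.Modules.pullback (𝟙 Z)).obj (Omega.conormal j) ⟶ Omega.conormal i)
    (hψ : OmegaSh.IsConormalMap i j p (𝟙 Z) ψ)
    (φ : Omega.conormal i ⟶ (Scheme.Modules.pullback i).obj Ω) (hφ : OmegaSh.IsConormalDiff i d φ) :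
    ∃ w : ψ ≫ φ = 0, (ShortComplex.mk ψ φ w).ShortExact := by
  obtain ⟨hw, hex, hepi⟩ := Groth.Agent.S9375.result p i j hij Ω d hd ψ hψ φ hφ
  refine ⟨hw, ?_⟩
  have : (Omega.conormal j).IsQuasicoherent :=
    have := isQuasicoherent_idealMod j.ker
    isQuasicoherent_pullback j _
  have : (Omega.conormal i).IsQuasicoherent :=
    have := isQuasicoherent_idealMod i.ker
    isQuasicoherent_pullback i _
  have : ((Scheme.Modules.pullback (𝟙 Z)).obj (Omega.conormal j)).IsQuasicoherent := isQuasicoherent_pullback _ _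
  have : (kernel ψ).IsQuasicoherent := isQuasicoherent_kernel ψ
  have hker : kernel.ι ψ = 0 := by
    refine eq_zero_of_app _ fun z => ?_
    obtain ⟨V, U, hV, hU, hUV, hzU, hWW, hWi, hsi, hWj, hsj⟩ := exists_square_affines p i j hij z
    refine ⟨i ⁻¹ᵁ U, hWi, hzU, fun k₀ => ?_⟩
    let W := i ⁻¹ᵁ U
    let a := (kernel.ι ψ).app W k₀
    have ha : ψ.app W a = 0 := congrArg (fun f => Scheme.Modules.Hom.app f W k₀) (kernel.condition ψ)
    show a = 0
    let x := ((Scheme.Modules.pullbackId Z).hom.app (Omega.conormal j)).app W a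
    have hax : a = pullSec (𝟙 Z) (Omega.conormal j) (le_refl W) x := by
      rw [← app_pullbackId_inv]
      exact (congrArg (fun f => Scheme.Modules.Hom.app f W a)
        ((Scheme.Modules.pullbackId Z).hom_inv_id_app (Omega.conormal j))).symm
    obtain ⟨k', hk'⟩ := exists_class j hV hWj hsj ((Omega.conormal j).presheaf.map (homOfLE hWW.ge).op x)
    have hx : x = (Omega.conormal j).presheaf.map (homOfLE hWW.le).op
        (pullSec j (ClSub.idealMod j.ker) (le_refl _) k') := by
      rw [← hk', Groth.Agent.ModStalk.res_res, show (homOfLE (hWW.le.trans hWW.ge)).op = 𝟙 _ from rfl, CategoryTheory.Functor.map_id]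
      rfl
    obtain ⟨s, hs⟩ := exists_idealLift i (p.app V (OmegaSh.idealSect j.ker V k'))
      (app_pullback_idealSect j i (𝟙 Z) p (by rw [hij, Category.id_comp]) V k')
    have hs' : OmegaSh.idealSect i.ker (p ⁻¹ᵁ V) s = p.app V (OmegaSh.idealSect j.ker V k') :=
      congrArg (OmegaSh.fnSect X _) hs
    have hc : pullSec j (ClSub.idealMod j.ker) (le_refl _) k' = OmegaSh.conormalSect j V k' := by
      show ((Scheme.Modules.pullback j).obj _).presheaf.map (homOfLE (le_refl _)).op _ = _
      rw [show (homOfLE (le_refl (j ⁻¹ᵁ V))).op = 𝟙 _ from rfl, CategoryTheory.Functor.map_id]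
      rfl
    have hψa : ψ.app W a = pullSec i (ClSub.idealMod i.ker) (fun y hy => hUV hy) s := by
      rw [hax, hx, hc]
      rw [pullSec_res (𝟙 Z) (Omega.conormal j) (U := j ⁻¹ᵁ V) (V := W) hWW.le (le_refl W) hWW.le (le_refl W)]
      rw [show (homOfLE (le_refl W)).op = 𝟙 _ from rfl, CategoryTheory.Functor.map_id, ConcreteCategory.id_apply]
      exact (app_res ψ (show W ≤ (𝟙 Z) ⁻¹ᵁ (j ⁻¹ᵁ V) from hWW.le) _).trans
        (hψ.2 V k' s hs' W hWW.le (fun y hy => hUV hy))
    have h0 : pullSec i (ClSub.idealMod i.ker) (le_refl W)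
        ((ClSub.idealMod i.ker).presheaf.map (homOfLE hUV).op s) = 0 := by
      rw [pullSec_res i (ClSub.idealMod i.ker) (fun y hy => hUV hy) (le_refl W) hUV (le_refl W) s, ← hψa, ha]
      exact map_zero _
    have hmem := idealSect_mem_sq_of_class_eq_zero i hU hWi hsi _ h0
    rw [idealSect_res, hs'] at hmem
    letI := (p.appLE V U hUV).hom.toAlgebra
    letI := (i.appLE U W le_rfl).hom.toAlgebra
    letI := (j.appLE V W hWW.le).hom.toAlgebra
    haveI : IsScalarTower Γ(Y, V) Γ(X, U) Γ(Z, W) := IsScalarTower.of_algebraMap_eq fun x => by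
      refine Eq.trans ?_ (congr($(Scheme.Hom.appLE_comp_appLE _ _ _ _ _ hUV le_rfl) x)).symm
      exact congr($(OmegaSh.appLE_congr_hom hij.symm _ _) x)
    have : Algebra.Smooth Γ(Y, V) Γ(X, U) := p.smooth_appLE hV hU hUV
    have hres : ∀ y, j.appLE V W hWW.le y = Z.presheaf.map (homOfLE hWW.le).op (j.app V y) := fun y => by
      rw [Scheme.Hom.appLE, ConcreteCategory.comp_apply]
    have hback : ∀ y, Z.presheaf.map (homOfLE hWW.ge).op (j.appLE V W hWW.le y) = j.app V y := fun y => by
      rw [hres, ← ConcreteCategory.comp_apply, ← Functor.map_comp]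
      exact congr($(Z.presheaf.map_id _) (j.app V y))
    have hsA : Function.Surjective (algebraMap Γ(Y, V) Γ(Z, W)) := fun b => by
      obtain ⟨y, hy⟩ := hsj (Z.presheaf.map (homOfLE hWW.ge).op b)
      refine ⟨y, ?_⟩
      show j.appLE V W hWW.le y = b
      rw [hres, hy, ← ConcreteCategory.comp_apply, ← Functor.map_comp]
      exact congr($(Z.presheaf.map_id _) b)
    have hsq := mem_sq_of_formallySmooth (B := Γ(X, U)) hsA _ hmem
    have hkk : RingHom.ker (algebraMap Γ(Y, V) Γ(Z, W)) = RingHom.ker (j.appLE V (j ⁻¹ᵁ V) le_rfl).hom := by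
      ext y
      simp only [RingHom.mem_ker]
      show j.appLE V W hWW.le y = 0 ↔ j.appLE V (j ⁻¹ᵁ V) le_rfl y = 0
      rw [← Scheme.Hom.app_eq_appLE]
      exact ⟨fun h => by rw [← hback, h, map_zero], fun h => by rw [hres, h, map_zero]⟩
    rw [hkk] at hsq
    rw [hax, hx, class_eq_zero_of_mem_sq j k' hsq]
    exact (congrArg _ (map_zero _)).trans (map_zero _)
  have : Mono ψ := Preadditive.mono_of_kernel_zero hker
  have := hepi
  exact ⟨hex⟩

end Groth.Agent.S9711
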