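import Groth.Statements.S9714
import Groth.Prelude
import Groth.Agent.Locus.BaseChange
import Groth.Agent.Locus.CoprodSpec
import Mathlib.AlgebraicGeometry.Artinian
import Mathlib.AlgebraicGeometry.Limits
import Mathlib.RingTheory.Unramified.Field
import Mathlib.AlgebraicGeometry.Morphisms.FiniteType
import Mathlib.RingTheory.LocalProperties.Reduced

set_option autoImplicit false
universe u
open CategoryTheory CategoryTheory.Limits AlgebraicGeometry
open Mor

namespace Groth.Agent.S9714
open CategoryTheory CategoryTheory.Limits AlgebraicGeometry Groth.Agent.Locus Groth.Agent.Locus.CoprodSpec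
set_option backward.isDefEq.respectTransparency false

/-- Let k be a field and X a scheme over k. The structure morphism X ⟶ Spec k is unramified (formally
unramified and locally of finite type) if and only if X is isomorphic over k to a disjoint union of
spectra of finite separable field extensions of k. -/
theorem result (k : Type u) [Field k] {X : Scheme.{u}}
    (f : X ⟶ Spec (CommRingCat.of k)) :
    (FormallyUnramified f ∧ LocallyOfFiniteType f) ↔
      ∃ (ι : Type u) (K : ι → Type u) (_ : ∀ i, Field (K i)) (_ : ∀ i, Algebra k (K i)),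
        (∀ i, FiniteDimensional k (K i) ∧ Algebra.IsSeparable k (K i)) ∧
        ∃ e : X ≅ ∐ (fun i => Spec (CommRingCat.of (K i))),
          e.hom ≫ Sigma.desc (fun i => Spec.map (CommRingCat.ofHom (algebraMap k (K i)))) = f := by
  constructor
  · rintro ⟨h1, h2⟩
    have key : ∀ (U : X.Opens) (hU : IsAffineOpen U),
        (Spec.preimage (hU.fromSpec ≫ f)).hom.FormallyUnramified ∧
          (Spec.preimage (hU.fromSpec ≫ f)).hom.FiniteType := fun U hU => by
      refine ⟨?_, ?_⟩
      · rw [← HasRingHomProperty.Spec_iff (P := @FormallyUnramified), Spec.map_preimage]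
        exact MorphismProperty.comp_mem @FormallyUnramified _ _ inferInstance h1
      · rw [← HasRingHomProperty.Spec_iff (P := @LocallyOfFiniteType), Spec.map_preimage]
        infer_instance
    have hart : ∀ (U : X.Opens) (_ : IsAffineOpen U), IsArtinianRing Γ(X, U) ∧ _root_.IsReduced Γ(X, U) :=
      fun U hU => by
      obtain ⟨hu, hf⟩ := key U hU
      let : Algebra k Γ(X, U) := (Spec.preimage (hU.fromSpec ≫ f)).hom.toAlgebra
      have : Algebra.FormallyUnramified k Γ(X, U) := hu
      have : Algebra.FiniteType k Γ(X, U) := hf
      have : Module.Finite k Γ(X, U) := Algebra.FormallyUnramified.finite_of_free _ _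
      exact ⟨IsArtinianRing.of_finite k Γ(X, U), Algebra.FormallyUnramified.isReduced_of_field k _⟩
    have : IsLocallyArtinian X := ⟨fun U => (hart U U.2).1⟩
    have : IsReduced X := by
      suffices h : ∀ x : X, _root_.IsReduced (X.presheaf.stalk x) from isReduced_of_isReduced_stalk X
      intro x
      obtain ⟨_, ⟨U, hU, rfl⟩, hxU, -⟩ :=
        X.isBasis_affineOpens.exists_subset_of_mem_open (Set.mem_univ x) isOpen_univ
      have := (hart U hU).2
      let := X.presheaf.algebra_section_stalk ⟨x, hxU⟩
      have := hU.isLocalization_stalk ⟨x, hxU⟩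
      exact isReduced_localizationPreserves (hU.primeIdealOf ⟨x, hxU⟩).asIdeal.primeCompl _ inferInstance
    let U : X → X.Opens := fun x => ⟨{x}, isOpen_discrete _⟩
    have hUs : ∀ x, Subsingleton (U x).toScheme := fun x =>
      inferInstanceAs (Subsingleton ({x} : Set X))
    have hU : ∀ x, IsAffineOpen (U x) := fun x => by
      have := hUs x
      have : Finite (U x).toScheme := inferInstance
      have : DiscreteTopology (U x).toScheme := (U x).ι.isOpenEmbedding.discreteTopology
      exact (inferInstance : IsAffine (U x).toScheme)
    have hfield : ∀ x, IsField Γ(X, U x) := fun x => by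
      have := hUs x
      have : Nonempty (U x).toScheme := ⟨⟨x, rfl⟩⟩
      have : IsReduced (U x).toScheme := isReduced_of_isOpenImmersion (U x).ι
      have : IsIntegral (U x).toScheme := (isIntegral_iff_irreducibleSpace_and_isReduced _).mpr
        ⟨⟨inferInstance⟩, inferInstance⟩
      exact MulEquiv.isField (isField_of_isIntegral_of_subsingleton (U x).toScheme)
        (U x).topIso.commRingCatIsoToRingEquiv.toMulEquiv.symm
    let K : X → Type u := fun x => Γ(X, U x)
    let iF : ∀ x, Field (K x) := fun x => (hfield x).toField
    let φ : ∀ x, k →+* K x := fun x => (Spec.preimage ((hU x).fromSpec ≫ f)).hom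
    let iA : ∀ x, Algebra k (K x) := fun x => (φ x).toAlgebra
    refine ⟨X, K, iF, iA, fun x => ?_, ?_⟩
    · obtain ⟨hu, hf⟩ := key (U x) (hU x)
      have : Algebra.FormallyUnramified k (K x) := hu
      have : Algebra.FiniteType k (K x) := hf
      exact ⟨Algebra.FormallyUnramified.finite_of_free _ _,
        Algebra.FormallyUnramified.isSeparable k (K x)⟩
    · have hcov : ⨆ x, ((hU x).fromSpec).opensRange = ⊤ :=
        eq_top_iff.mpr fun y _ => TopologicalSpace.Opens.mem_iSup.mpr
          ⟨y, by rw [IsAffineOpen.opensRange_fromSpec]; rfl⟩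
      have hdisj : Pairwise (Function.onFun Disjoint fun x => ((hU x).fromSpec).opensRange) := by
        intro x y hxy
        simp only [Function.onFun, IsAffineOpen.opensRange_fromSpec]
        rw [disjoint_iff]
        refine eq_bot_iff.mpr ?_
        rintro z ⟨hzx, hzy⟩
        exact hxy ((Set.mem_singleton_iff.mp hzx).symm.trans (Set.mem_singleton_iff.mp hzy))
      have : IsIso (Sigma.desc fun x => (hU x).fromSpec) :=
        (Cofan.nonempty_isColimit_iff_isIso_sigmaDesc _).mp
          (nonempty_isColimit_cofanMk_of (fun x => (hU x).fromSpec) hcov hdisj)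
      refine ⟨(asIso (Sigma.desc fun x => (hU x).fromSpec)).symm, ?_⟩
      rw [Iso.symm_hom, asIso_inv, IsIso.inv_comp_eq]
      refine Sigma.hom_ext _ _ fun x => ?_
      rw [Sigma.ι_desc, Sigma.ι_desc_assoc]
      exact Spec.map_preimage _
  · rintro ⟨ι, K, _, _, hK, e, he⟩
    exact coprod_unramified f K (fun i => algebraMap k (K i))
      (fun i => separable_finite (hK i)) e he

end Groth.Agent.S9714
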