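import Groth.Statements.S9715
import Groth.Agent.PrinDiff.DiffOp
import Groth.Agent.ModStalk.HomGlue
import Groth.Agent.S5959

set_option autoImplicit false
universe u
open CategoryTheory CategoryTheory.Limits AlgebraicGeometry
open Opposite
open Mor

namespace Groth.Agent.S9715

theorem isOrd_of_isDiffOpLE {A B : Type u} [CommRing A] [CommRing B] [Algebra A B] {M N : Type u}
    [AddCommGroup M] [Module A M] [Module B M] [IsScalarTower A B M]
    [AddCommGroup N] [Module A N] [Module B N] [IsScalarTower A B N] :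
    ∀ (k : ℕ) (D : M →ₗ[A] N), Diff16.IsDiffOpLE A B M N k D → Groth.Agent.PrinDiff.IsOrd B (k + 1) (fun m => D m)
  | 0, D, h => fun b m => sub_eq_zero.mpr (h b m)
  | k + 1, D, h => fun b => isOrd_of_isDiffOpLE k _ (h b)

/-- Let f : X ⟶ S be a morphism of affine schemes, R = Γ(S, O_S) → A = Γ(X, O_X) the corresponding ring
map, F a quasi-coherent O_X-module and G an O_X-module, with global sections M and N. Every
differential operator M → N of order at most k relative to A over R is induced on global sections by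
a differential operator F → G of order at most k relative to X over S. (The published statement
asserts that D ↦ Γ(X, D) is a bijection between the two sets of operators of order at most k; its
injectivity is not verified in the published proof and is not claimed here. Differential operators
on X/S are taken in the principal-parts sense, those of A/R in the commutator sense.) -/
theorem result {X S : Scheme.{u}} [IsAffine X] [IsAffine S] (f : X ⟶ S)
    (F G : X.Modules) (hF : Coh.IsQCoh F) (k : ℕ) :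
    letI : Algebra Γ(S, ⊤) Γ(X, ⊤) := f.appTop.hom.toAlgebra
    letI : Module Γ(S, ⊤) Γ(F, ⊤) := Module.compHom Γ(F, ⊤) f.appTop.hom
    letI : Module Γ(S, ⊤) Γ(G, ⊤) := Module.compHom Γ(G, ⊤) f.appTop.hom
    haveI : IsScalarTower Γ(S, ⊤) Γ(X, ⊤) Γ(F, ⊤) := IsScalarTower.of_algebraMap_smul fun _ _ => rfl
    haveI : IsScalarTower Γ(S, ⊤) Γ(X, ⊤) Γ(G, ⊤) := IsScalarTower.of_algebraMap_smul fun _ _ => rfl
    ∀ D' : Γ(F, ⊤) →ₗ[Γ(S, ⊤)] Γ(G, ⊤), Diff16.IsDiffOpLE Γ(S, ⊤) Γ(X, ⊤) Γ(F, ⊤) Γ(G, ⊤) k D' →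
      ∃ D : F.presheaf ⟶ G.presheaf, PrinPart.IsDiffOpLE f F G k D ∧
        ∀ m : Γ(F, ⊤), (D.app (op ⊤)).hom m = D' m := by
  letI : Algebra Γ(S, ⊤) Γ(X, ⊤) := f.appTop.hom.toAlgebra
  letI : Module Γ(S, ⊤) Γ(F, ⊤) := Module.compHom Γ(F, ⊤) f.appTop.hom
  letI : Module Γ(S, ⊤) Γ(G, ⊤) := Module.compHom Γ(G, ⊤) f.appTop.hom
  haveI : IsScalarTower Γ(S, ⊤) Γ(X, ⊤) Γ(F, ⊤) := IsScalarTower.of_algebraMap_smul fun _ _ => rfl
  haveI : IsScalarTower Γ(S, ⊤) Γ(X, ⊤) Γ(G, ⊤) := IsScalarTower.of_algebraMap_smul fun _ _ => rfl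
  intro D' hD'
  haveI : F.IsQuasicoherent := hF
  haveI : (PrinPart.PMod f k F).IsQuasicoherent := Groth.Agent.S5959.result f k F hF
  obtain ⟨hT, σ, hσ, hker, hσtmul⟩ :
      IsAffineOpen (PrinPart.pr1 f k ⁻¹ᵁ (⊤ : X.Opens)) ∧
      ∃ σ : TensorProduct Γ(S, ⊤) Γ(X, ⊤) Γ(X, ⊤) →+* Γ(PrinPart.nbhd f k, PrinPart.pr1 f k ⁻¹ᵁ ⊤),
        Function.Surjective σ ∧
        RingHom.ker σ = KaehlerDifferential.ideal Γ(S, ⊤) Γ(X, ⊤) ^ (k + 1) ∧
        ∀ a b, σ (TensorProduct.tmul _ a b) = (PrinPart.pr1 f k).app ⊤ a *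
          (PrinPart.pr2 f k).appLE ⊤ (PrinPart.pr1 f k ⁻¹ᵁ ⊤) (PrinPart.preimage_pr1 f k ⊤).le b := by
    have key : ∀ φ : Γ(S, ⊤) ⟶ Γ(X, ⊤), φ = f.appLE ⊤ ⊤ le_top →
        letI := φ.hom.toAlgebra
        IsAffineOpen (PrinPart.pr1 f k ⁻¹ᵁ (⊤ : X.Opens)) ∧
        ∃ σ : TensorProduct Γ(S, ⊤) Γ(X, ⊤) Γ(X, ⊤) →+* Γ(PrinPart.nbhd f k, PrinPart.pr1 f k ⁻¹ᵁ ⊤),
          Function.Surjective σ ∧
          RingHom.ker σ = KaehlerDifferential.ideal Γ(S, ⊤) Γ(X, ⊤) ^ (k + 1) ∧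
          ∀ a b, σ (TensorProduct.tmul _ a b) = (PrinPart.pr1 f k).app ⊤ a *
            (PrinPart.pr2 f k).appLE ⊤ (PrinPart.pr1 f k ⁻¹ᵁ ⊤) (PrinPart.preimage_pr1 f k ⊤).le b := by
      rintro φ rfl
      exact Groth.Agent.PrinDiff.exists_nbhdSectionsMap f k (isAffineOpen_top S) (isAffineOpen_top X) le_top
    refine key f.appTop ?_
    rw [Scheme.Hom.appTop, Scheme.Hom.app_eq_appLE]
    rfl
  have hσ2 : ∀ b, σ (TensorProduct.tmul _ 1 b) =
      (PrinPart.pr2 f k).appLE ⊤ (PrinPart.pr1 f k ⁻¹ᵁ ⊤) (PrinPart.preimage_pr1 f k ⊤).le b := fun b => by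
    rw [hσtmul, map_one, one_mul]
  have hσ1 : ∀ a, σ (TensorProduct.tmul _ a 1) = (PrinPart.pr1 f k).app ⊤ a := fun a => by
    rw [hσtmul, map_one, mul_one]
  let D₀ : Γ(F, ⊤) →+ Γ(G, ⊤) := D'.toAddMonoidHom
  obtain ⟨L, hL, hLr⟩ := Groth.Agent.PrinDiff.exists_factor (A := Γ(S, ⊤)) (B := Γ(X, ⊤)) k D₀
    (fun r m => by
      rw [IsScalarTower.algebraMap_smul, IsScalarTower.algebraMap_smul]
      exact D'.map_smul r m)
    (fun a m => by
      have h := (Groth.Agent.PrinDiff.isOrd_iff (k + 1) _).mp (isOrd_of_isDiffOpLE k D' hD') a m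
      rwa [Groth.Agent.PrinDiff.altSum_univ] at h)
  have hLl : ∀ (a : Γ(X, ⊤)) (q : PP16.P k Γ(S, ⊤) Γ(X, ⊤)) (m : Γ(F, ⊤)),
      L (Ideal.Quotient.mk _ (TensorProduct.tmul _ a 1) * q) m = a • L q m := by
    intro a q m
    obtain ⟨x, rfl⟩ := Ideal.Quotient.mk_surjective q
    induction x using TensorProduct.induction_on with
    | zero => simp
    | add x y hx hy => simp only [map_add, mul_add, AddMonoidHom.add_apply, hx, hy, smul_add]
    | tmul c d => rw [← map_mul, Algebra.TensorProduct.tmul_mul_tmul, one_mul, hL, hL, mul_smul]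
  let ρ : Γ(PrinPart.nbhd f k, PrinPart.pr1 f k ⁻¹ᵁ ⊤) →+* PP16.P k Γ(S, ⊤) Γ(X, ⊤) :=
    RingHom.liftOfSurjective σ hσ ⟨Ideal.Quotient.mk _, by rw [Ideal.mk_ker, hker]⟩
  have hρ : ∀ w, ρ (σ w) = Ideal.Quotient.mk _ w := fun w => RingHom.liftOfSurjective_comp_apply σ hσ ⟨_, _⟩ w
  obtain ⟨e, he⟩ := Groth.Agent.ModStalk.exists_sectionsEquiv (PrinPart.pr2 f k) F (isAffineOpen_top X) hT
    (PrinPart.preimage_pr1 f k ⊤).le
  letI := ((PrinPart.pr2 f k).appLE ⊤ (PrinPart.pr1 f k ⁻¹ᵁ ⊤) (PrinPart.preimage_pr1 f k ⊤).le).hom.toAlgebra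
  let T : TensorProduct Γ(X, ⊤) Γ(PrinPart.nbhd f k, PrinPart.pr1 f k ⁻¹ᵁ ⊤) Γ(F, ⊤) →+ Γ(G, ⊤) :=
    TensorProduct.liftAddHom (L.comp ρ.toAddMonoidHom) fun b c m => by
      show L (ρ (b • c)) m = L (ρ c) (b • m)
      rw [Algebra.smul_def, RingHom.algebraMap_toAlgebra, ← hσ2, map_mul, hρ, mul_comm, hLr]
  let u₀ : Γ(PrinPart.PMod f k F, ⊤) →ₗ[Γ(X, ⊤)] Γ(G, ⊤) :=
    { toFun := fun x => T (e.symm x)
      map_add' := fun x y => (congrArg T (map_add e.symm x y)).trans (map_add T _ _)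
      map_smul' := fun a x => by
        show T (e.symm ((PrinPart.pr1 f k).app ⊤ a • (Groth.Agent.PrinDiff.toN f k F x))) = a • T (e.symm x)
        rw [map_smul]
        show T ((PrinPart.pr1 f k).app ⊤ a • e.symm x) = _
        generalize e.symm x = z
        induction z using TensorProduct.induction_on with
        | zero => rw [smul_zero, map_zero]; exact (smul_zero a).symm
        | add z z' hz hz' => rw [smul_add, map_add, map_add, hz, hz']; exact (smul_add a _ _).symm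
        | tmul c m =>
          rw [TensorProduct.smul_tmul', smul_eq_mul, ← hσ1]
          show L (ρ (σ _ * c)) m = a • L (ρ c) m
          rw [map_mul, hρ, hLl] }
  obtain ⟨u, hu⟩ := Groth.Agent.ModStalk.exists_hom_of_global (PrinPart.PMod f k F) G u₀
  refine ⟨PrinPart.dPHom f k F ≫ u.mapPresheaf, ⟨u, fun U t => rfl⟩, fun m => ?_⟩
  show u.app ⊤ (PrinPart.dP f k F ⊤ m) = D' m
  rw [hu]
  show T (e.symm (PrinPart.dP f k F ⊤ m)) = D' m
  rw [show e.symm (PrinPart.dP f k F ⊤ m) = TensorProduct.tmul _ 1 m from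
    (LinearEquiv.symm_apply_eq e).mpr (he m).symm]
  show L (ρ 1) m = D' m
  rw [show (1 : Γ(PrinPart.nbhd f k, PrinPart.pr1 f k ⁻¹ᵁ ⊤)) = σ (TensorProduct.tmul _ 1 1) from
    (map_one σ).symm, hρ, hL, one_smul, one_smul]
  rfl

end Groth.Agent.S9715
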