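import Groth.Statements.S9716
import Groth.Agent.ModStalk.SectionsFree
import Groth.Agent.ModStalk.QCoh
import Mathlib.RingTheory.Finiteness.ModuleFinitePresentation

set_option autoImplicit false
universe u
open CategoryTheory AlgebraicGeometry
open Mor

namespace Groth.Agent.S9716

open CategoryTheory CategoryTheory.Limits AlgebraicGeometry Groth.Agent.ModStalk

theorem appTop_restrict_prop {P : ∀ {R T : Type u} [CommRing R] [CommRing T], (R →+* T) → Prop}
    (hP : RingHom.RespectsIso P) {X Y : Scheme.{u}} (f : X ⟶ Y) (U : Y.Opens) (h : P (f.app U).hom) :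
    P (f ∣_ U).appTop.hom := by
  have key : ∀ V : Y.Opens, V = U → P (f.app V).hom := fun V hV => hV ▸ h
  rw [morphismRestrict_appTop]
  exact (RingHom.RespectsIso.cancel_right_isIso hP _ _).mpr (key _ U.ι_image_top)


/-- (1) ⇔ (2): a morphism f : X ⟶ S is affine with direct image f_*O_X a finite locally free O_S-module
(locally on S isomorphic to a finite direct sum of copies of the structure sheaf, of possibly
varying rank) if and only if f is finite, flat and locally of finite presentation. -/
theorem result {X S : Scheme.{u}} (f : X ⟶ S) :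
    (IsAffineHom f ∧ FlatMod.IsFinLocFree ((Scheme.Modules.pushforward f).obj (Coh.structureModule X))) ↔
      Mor2.IsFinLocFree f := by
  refine ⟨fun ⟨hf, hM⟩ => ?_, fun ⟨hfin, hflat, hfp⟩ => ?_⟩
  · haveI := hf
    let M := (Scheme.Modules.pushforward f).obj (Coh.structureModule X)
    haveI : M.IsQuasicoherent := isQuasicoherent_pushforward f _
    choose U hxU hU hfree hfin using exists_free_sections M hM
    have hsup : ⨆ s : S, U s = ⊤ :=
      eq_top_iff.mpr fun s _ => TopologicalSpace.Opens.mem_iSup.mpr ⟨s, hxU s⟩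
    have hprop : ∀ s, (f.app (U s)).hom.Finite ∧ (f.app (U s)).hom.Flat ∧ (f.app (U s)).hom.FinitePresentation := by
      intro s
      letI := (f.app (U s)).hom.toAlgebra
      let e : Γ(M, U s) ≃ₗ[Γ(S, U s)] Γ(X, f ⁻¹ᵁ U s) :=
        { toFun := fun a => (show Γ(X, f ⁻¹ᵁ U s) from a)
          invFun := fun a => (show Γ(M, U s) from a)
          left_inv := fun _ => rfl, right_inv := fun _ => rfl
          map_add' := fun _ _ => rfl, map_smul' := fun _ _ => rfl }
      haveI := hfree s
      haveI := hfin s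
      haveI : Module.Free Γ(S, U s) Γ(X, f ⁻¹ᵁ U s) := Module.Free.of_equiv e
      haveI : Module.Finite Γ(S, U s) Γ(X, f ⁻¹ᵁ U s) := Module.Finite.equiv e
      haveI : Module.FinitePresentation Γ(S, U s) Γ(X, f ⁻¹ᵁ U s) := Module.finitePresentation_of_projective _ _
      exact ⟨‹Module.Finite Γ(S, U s) Γ(X, f ⁻¹ᵁ U s)›, (inferInstance : Module.Flat Γ(S, U s) Γ(X, f ⁻¹ᵁ U s)),
        Algebra.FinitePresentation.of_finitePresentation Γ(S, U s) Γ(X, f ⁻¹ᵁ U s)⟩
    refine ⟨?_, ?_, ?_⟩
    · rw [IsZariskiLocalAtTarget.iff_of_iSup_eq_top (P := @IsFinite) U hsup]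
      intro s
      haveI : IsAffine (U s : Scheme.{u}) := hU s
      rw [HasAffineProperty.iff_of_isAffine (P := @IsFinite)]
      exact ⟨(hU s).preimage f, appTop_restrict_prop RingHom.finite_respectsIso f (U s) (hprop s).1⟩
    · rw [IsZariskiLocalAtTarget.iff_of_iSup_eq_top (P := @Flat) U hsup]
      intro s
      haveI : IsAffine (U s : Scheme.{u}) := hU s
      haveI : IsAffine (f ⁻¹ᵁ U s : Scheme.{u}) := (hU s).preimage f
      rw [HasRingHomProperty.iff_of_isAffine (P := @Flat)]
      exact appTop_restrict_prop RingHom.Flat.respectsIso f (U s) (hprop s).2.1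
    · rw [IsZariskiLocalAtTarget.iff_of_iSup_eq_top (P := @LocallyOfFinitePresentation) U hsup]
      intro s
      haveI : IsAffine (U s : Scheme.{u}) := hU s
      haveI : IsAffine (f ⁻¹ᵁ U s : Scheme.{u}) := (hU s).preimage f
      rw [HasRingHomProperty.iff_of_isAffine (P := @LocallyOfFinitePresentation)]
      exact appTop_restrict_prop RingHom.finitePresentation_respectsIso f (U s) (hprop s).2.2
  · haveI := hfin
    haveI := hflat
    haveI := hfp
    refine ⟨inferInstance, ?_⟩
    let M := (Scheme.Modules.pushforward f).obj (Coh.structureModule X)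
    haveI : M.IsQuasicoherent := isQuasicoherent_pushforward f _
    have hprop : ∀ U : S.Opens, IsAffineOpen U →
        Module.Flat Γ(S, U) Γ(M, U) ∧ Module.FinitePresentation Γ(S, U) Γ(M, U) := by
      intro U hU
      letI := (f.app U).hom.toAlgebra
      let e : Γ(X, f ⁻¹ᵁ U) ≃ₗ[Γ(S, U)] Γ(M, U) :=
        { toFun := fun a => (show Γ(M, U) from a)
          invFun := fun a => (show Γ(X, f ⁻¹ᵁ U) from a)
          left_inv := fun _ => rfl, right_inv := fun _ => rfl
          map_add' := fun _ _ => rfl, map_smul' := fun _ _ => rfl }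
      haveI : Module.Finite Γ(S, U) Γ(X, f ⁻¹ᵁ U) := IsFinite.finite_app f U hU
      haveI : Module.Flat Γ(S, U) Γ(X, f ⁻¹ᵁ U) := by
        have h := f.flat_appLE hU (hU.preimage f) le_rfl
        rwa [← Scheme.Hom.app_eq_appLE] at h
      haveI : Algebra.FinitePresentation Γ(S, U) Γ(X, f ⁻¹ᵁ U) := by
        have h := f.finitePresentation_appLE hU (hU.preimage f) le_rfl
        rwa [← Scheme.Hom.app_eq_appLE] at h
      haveI := Module.FinitePresentation.of_finite_of_finitePresentation Γ(S, U) Γ(X, f ⁻¹ᵁ U)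
      exact ⟨Module.Flat.of_linearEquiv e.symm, Module.FinitePresentation.of_equiv e⟩
    haveI : SheafOfModules.IsFiniteType (R := S.ringCatSheaf) M :=
      isFiniteType_of_finite M fun U => by have := (hprop U.1 U.2).2; infer_instance
    refine isFinLocFree_of_flat_sections M fun s => ?_
    obtain ⟨_, ⟨U, hU, rfl⟩, hsU, -⟩ := S.isBasis_affineOpens.exists_subset_of_mem_open (Set.mem_univ s) isOpen_univ
    exact ⟨U, hsU, hU, hprop U hU⟩

end Groth.Agent.S9716
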