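import Groth.Statements.S9720
import Groth.Prelude
import Groth.Agent.Locus.BaseChange
import Groth.Agent.Locus.CoprodSpec
import Mathlib.AlgebraicGeometry.Artinian
import Mathlib.AlgebraicGeometry.Limits
import Mathlib.RingTheory.Unramified.Field
import Mathlib.AlgebraicGeometry.Morphisms.FiniteType
import Mathlib.RingTheory.LocalProperties.Reduced

set_option autoImplicit false
universe u
open CategoryTheory CategoryTheory.Limits AlgebraicGeometry
open Mor

namespace Groth.Agent.S9720
open CategoryTheory CategoryTheory.Limits AlgebraicGeometry Groth.Agent.Locus Groth.Agent.Locus.CoprodSpec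
set_option backward.isDefEq.respectTransparency false

/-- Let f : X ⟶ S be locally of finite type such that for every point s of S the fibre X_s is isomorphic
over κ(s) to a coproduct of schemes Spec K_i, each K_i a finite separable extension field of κ(s).
In that case f is formally unramified (so unramified, being locally of finite type). -/
theorem result {X S : Scheme.{u}} (f : X ⟶ S) [LocallyOfFiniteType f]
    (H : ∀ s : S, ∃ (ι : Type u) (K : ι → Type u) (_ : ∀ i, Field (K i))
      (_ : ∀ i, Algebra (S.residueField s) (K i)),
      (∀ i, FiniteDimensional (S.residueField s) (K i) ∧ Algebra.IsSeparable (S.residueField s) (K i)) ∧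
        ∃ e : f.fiber s ≅ ∐ (fun i => Spec (CommRingCat.of (K i))),
          e.hom ≫ Sigma.desc (fun i => Spec.map (CommRingCat.ofHom (algebraMap (S.residueField s) (K i)))) =
            f.fiberToSpecResidueField s) :
    FormallyUnramified f := by
  refine HasRingHomProperty.of_stalkMap RingHom.FormallyUnramified.ofLocalizationPrime fun x => ?_
  obtain ⟨ι, K, _, _, hK, e, he⟩ := H (f x)
  have h1 := (coprod_unramified _ K
    (fun i => algebraMap (S.residueField (f x)) (K i)) (fun i => separable_finite (hK i)) e he).1
  have h : IsPullback (f.fiberι (f x)) (f.fiberToSpecResidueField (f x)) f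
      (S.fromSpecResidueField (f x)) := IsPullback.of_hasPullback _ _
  have h2 := BaseChange.formallyUnramified_stalkMap_of_isPullback h (x' := f.asFiber x)
    (FormallyUnramified.stalkMap _ _)
  rwa [Scheme.Hom.fiberι_asFiber] at h2

end Groth.Agent.S9720
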