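import Groth.Statements.S9722
import Groth.Prelude
import Groth.Agent.Locus.Charts

set_option autoImplicit false
universe u
open CategoryTheory AlgebraicGeometry
open Mor

namespace Groth.Agent.S9722
open CategoryTheory AlgebraicGeometry Groth.Agent.Locus
set_option backward.isDefEq.respectTransparency false

/-- Let f : X ⟶ S be a morphism, x a point of X and V an affine open neighbourhood of f(x) in S. Then f
is étale on some open neighbourhood of x if and only if there is an affine open neighbourhood U of x
with f(U) ⊆ V such that Γ(X, U) is a standard étale algebra over Γ(S, V) through the induced ring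
map. -/
theorem result {X S : Scheme.{u}} (f : X ⟶ S) (x : X)
    (V : S.Opens) (hV : IsAffineOpen V) (hxV : f x ∈ V) :
    (∃ W : X.Opens, x ∈ W ∧ Etale (W.ι ≫ f)) ↔
      ∃ (U : X.Opens) (_ : IsAffineOpen U) (_ : x ∈ U) (e : U ≤ f ⁻¹ᵁ V),
        letI := (f.appLE V U e).hom.toAlgebra
        Algebra.IsStandardEtale Γ(S, V) Γ(X, U) := by
  constructor
  · rintro ⟨W, hxW, hW⟩
    obtain ⟨U, hU, hxU, e, hs⟩ := Charts.exists_standard_chart (P := @Etale) f hV hxV hxW hW
    algebraize [(f.appLE V U e).hom]
    obtain ⟨r, hr, hstd⟩ := Algebra.IsEtaleAt.exists_isStandardEtale (R := Γ(S, V))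
      (hU.primeIdealOf ⟨x, hxU⟩).asIdeal
    obtain ⟨eq⟩ := Charts.exists_algEquiv_basicOpen f hU e r
    refine ⟨X.basicOpen r, hU.basicOpen r, (Basic.primeIdealOf_mem_basicOpen_iff hU r hxU).mp hr,
      (X.basicOpen_le r).trans e, ?_⟩
    algebraize [(f.appLE V (X.basicOpen r) ((X.basicOpen_le r).trans e)).hom]
    exact Algebra.IsStandardEtale.of_equiv eq
  · rintro ⟨U, hU, hxU, e, hs⟩
    refine ⟨U, hxU, Charts.ι_comp_of_appLE (P := @Etale) f hV hU e inferInstance ?_⟩
    let := (f.appLE V U e).hom.toAlgebra
    exact RingHom.etale_algebraMap.mpr inferInstance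

end Groth.Agent.S9722
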