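import Groth.Statements.S9738
import Groth.Agent.Flat.FibreScheme
import Groth.Agent.Locus.BaseChange

set_option autoImplicit false
universe u
open FlatMor

namespace Groth.Agent.S9738

set_option backward.isDefEq.respectTransparency false

open AlgebraicGeometry CategoryTheory Limits in
/-- For a morphism f : X ⟶ S between locally Noetherian schemes, an ideal sheaf I on S with closed
subscheme Z, and Z_n the closed subscheme cut out by I^(n+1): if each base change X ×_S Z_n ⟶ Z_n is
flat, then f is flat at each point of X lying over Z. -/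
theorem result {X S : Scheme.{u}} (f : X ⟶ S) [IsLocallyNoetherian X] [IsLocallyNoetherian S]
    (I : S.IdealSheafData) (h : ∀ n : ℕ, Flat (pullback.snd f (I ^ (n + 1)).subschemeι)) (x : X) (hx : f x ∈ I.support) :
    (f.stalkMap x).hom.Flat := by
  obtain ⟨_, ⟨U, hU, rfl⟩, hxU, -⟩ :=
    S.isBasis_affineOpens.exists_subset_of_mem_open (Set.mem_univ (f x)) isOpen_univ
  obtain ⟨_, ⟨W, hW, rfl⟩, hxW, hWU⟩ :=
    X.isBasis_affineOpens.exists_subset_of_mem_open (show x ∈ f ⁻¹ᵁ U from hxU) (f ⁻¹ᵁ U).isOpen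
  have eW : W ≤ f ⁻¹ᵁ U := hWU
  rw [Groth.Agent.Locus.BaseChange.flat_stalkMap_iff U hU W hW eW hxW]
  letI := (f.appLE U W eW).hom.toAlgebra
  haveI : IsNoetherianRing Γ(S, U) := IsLocallyNoetherian.component_noetherian ⟨U, hU⟩
  haveI : IsNoetherianRing Γ(X, W) := IsLocallyNoetherian.component_noetherian ⟨W, hW⟩
  let J := I.ideal ⟨U, hU⟩
  let q := hW.primeIdealOf ⟨x, hxW⟩
  have hJq : J.map (algebraMap Γ(S, U) Γ(X, W)) ≤ q.asIdeal := by
    rw [Ideal.map_le_iff_le_comap]
    have hc : q.asIdeal.comap (f.appLE U W eW).hom = (hU.primeIdealOf ⟨f x, hxU⟩).asIdeal :=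
      congr($(IsAffineOpen.comap_primeIdealOf_appLE U hU W hW eW hxW).1)
    rw [show algebraMap Γ(S, U) Γ(X, W) = (f.appLE U W eW).hom from rfl, hc]
    intro a ha
    have h1 : f x ∈ S.zeroLocus (U := U) (J : Set Γ(S, U)) ∩ U := by
      rw [← I.coe_support_inter ⟨U, hU⟩]
      exact ⟨hx, hxU⟩
    rw [← hU.fromSpec_image_zeroLocus] at h1
    obtain ⟨z, hz, hze⟩ := h1
    have : z = hU.primeIdealOf ⟨f x, hxU⟩ :=
      hU.fromSpec.isOpenEmbedding.injective (hze.trans (hU.fromSpec_primeIdealOf ⟨f x, hxU⟩).symm)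
    rw [← this]
    exact hz ha
  let Bq := Localization.AtPrime q.asIdeal
  let ℓ := Algebra.linearMap Γ(X, W) Bq
  refine Groth.Agent.Flat.Criteria.flat_of_ker_le_pow (S := Bq) J ?_ fun a n => ?_
  · refine le_trans ?_ (IsLocalRing.maximalIdeal_le_jacobson _)
    rw [IsScalarTower.algebraMap_eq Γ(S, U) Γ(X, W) Bq, ← Ideal.map_map]
    refine (Ideal.map_mono hJq).trans ?_
    rw [Localization.AtPrime.map_eq_maximalIdeal]
  refine Groth.Agent.Flat.Descent.lTensor_localized_injective q.asIdeal.primeCompl ℓ _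
    fun z hz => ⟨1, one_mem _, ?_⟩
  rw [one_smul]
  suffices hinj : Function.Injective
      (((a.map (Ideal.Quotient.mk (J ^ n))).restrictScalars Γ(S, U)).subtype.lTensor Γ(X, W)) from
    hinj (hz.trans (map_zero _).symm)
  let K := Γ(S, U) ⧸ J ^ n
  rcases n with _ | m
  · haveI : Subsingleton K := Ideal.Quotient.subsingleton_iff.mpr (by rw [pow_zero, Ideal.one_eq_top])
    haveI : Subsingleton ↥((a.map (Ideal.Quotient.mk (J ^ 0))).restrictScalars Γ(S, U)) :=
      inferInstanceAs (Subsingleton {x : K // _})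
    intro u v _
    exact Subsingleton.elim u v
  have h1 : Flat (pullback.snd f
      (Spec.map (CommRingCat.ofHom (algebraMap Γ(S, U) K)) ≫ hU.fromSpec)) := by
    have e : (I ^ (m + 1)).subschemeCover.f ⟨U, hU⟩ ≫ (I ^ (m + 1)).subschemeι =
        Spec.map (CommRingCat.ofHom (algebraMap Γ(S, U) K)) ≫ hU.fromSpec := by
      rw [Scheme.IdealSheafData.subschemeCover_map_subschemeι,
        Scheme.IdealSheafData.glueDataObjι_ι]
      rfl
    rw [← e, ← MorphismProperty.cancel_left_of_respectsIso @Flat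
      (pullbackLeftPullbackSndIso f (I ^ (m + 1)).subschemeι
        ((I ^ (m + 1)).subschemeCover.f ⟨U, hU⟩)).hom, pullbackLeftPullbackSndIso_hom_snd]
    exact MorphismProperty.pullback_snd _ _ (h m)
  exact Groth.Agent.Flat.LocalCriterion.lTensor_restrictScalars_injective
    (Groth.Agent.Flat.FibreScheme.flat_baseChange_of_includeRight K
      (Groth.Agent.Flat.FibreScheme.property_chart (P := @Flat) f hU hW eW K h1))
    (a.map (Ideal.Quotient.mk (J ^ (m + 1)))).subtype (Submodule.injective_subtype _)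

end Groth.Agent.S9738
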