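import Groth.Statements.S9739
import Groth.Agent.HensPair.RelDim
import Groth.Agent.CMFlat.Locus

set_option autoImplicit false
universe u
open FlatMor

namespace Groth.Agent.S9739

open AlgebraicGeometry CategoryTheory Limits in
/-- Let f : X ⟶ S be flat and locally of finite presentation, and let x' ⤳ x be points of X. Assume the
closure of x in its fibre is one of that fibre's irreducible components. Then the fibre through x'
has the same local dimension at x' as the fibre through x has at x. -/
theorem result {X S : Scheme.{u}} (f : X ⟶ S) [Flat f] [LocallyOfFinitePresentation f]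
    (x x' : X) (hsp : x' ⤳ x) (hgen : ∃ Z ∈ irreducibleComponents ↥(f.fiber (f x)), IsGenericPoint (f.asFiber x) Z) :
    FlatMor.fibreDimAt f x' = FlatMor.fibreDimAt f x := by
  open Groth.Agent.HensPair in
  obtain ⟨Z, hZ, hgenZ⟩ := hgen
  have hmax : ∀ p : ↥(f.fiber (f x)), p ⤳ f.asFiber x → p = f.asFiber x := fun p hp => by
    have hcl : Z = closure {p} := (hZ.eq_of_subset isIrreducible_singleton.closure
      (hgenZ.def ▸ closure_minimal (Set.singleton_subset_iff.mpr hp.mem_closure) isClosed_closure))
    exact IsGenericPoint.eq (show IsGenericPoint p Z from hcl.symm) hgenZ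
  obtain ⟨d, U, g, hxU, hgq, hflat, hqf, hd⟩ :=
    Groth.Agent.CMFlat.Locus.exists_flat_param f x (Groth.Agent.CMFlat.Locus.isCMAt_of_maximal f x hmax)
  haveI := hflat
  haveI := hqf
  rw [hd, RelDim.fibreDimAt_const_of_flat_param f U g hgq x' (hsp.mem_open U.isOpen hxU)]

end Groth.Agent.S9739
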