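import Groth.Statements.S9757
import Groth.Agent.HensPair.RelDim
import Groth.Agent.CMFlat.Locus

set_option autoImplicit false
universe u
open FlatMor

namespace Groth.Agent.S9757

open AlgebraicGeometry CategoryTheory Limits in
/-- Suppose the morphism f : X ⟶ S is flat and locally of finite presentation. Then X contains open
subsets U_d, indexed by d ∈ ℕ, such that for every s ∈ S the union of all U_d intersects the fibre
X_s in a dense subset of X_s, and each U_d ⟶ S is of relative dimension d. Because U_d is open in X,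
this is the same as requiring that at every point x of U_d the fibre of f containing x has local
dimension d at x; that pointwise form is the one this row uses. -/
theorem result {X S : Scheme.{u}} (f : X ⟶ S) [Flat f] [LocallyOfFinitePresentation f] :
    ∃ U : ℕ → X.Opens, (∀ s : S, Dense ((f.fiberι s) ⁻¹' ((⨆ d, U d : X.Opens) : Set ↑X))) ∧
      ∀ (d : ℕ) (x : ↑X), x ∈ U d → FlatMor.fibreDimAt f x = d := by
  open Groth.Agent.HensPair in
  let U : ℕ → X.Opens := fun d => ⟨interior {x : ↑X | FlatMor.fibreDimAt f x = (d : WithBot ℕ∞)}, isOpen_interior⟩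
  refine ⟨U, fun s => dense_iff_inter_open.mpr fun O hO ⟨z, hz⟩ => ?_,
    fun d x hx => interior_subset (s := {x : ↑X | FlatMor.fibreDimAt f x = (d : WithBot ℕ∞)}) hx⟩
  obtain ⟨c, hcz, hmax⟩ := Groth.Agent.Equidim.AffineCrit.exists_maximal_above z
  refine ⟨c, hcz.mem_open hO hz, ?_⟩
  let x := f.fiberι s c
  have hfx : f x = s := (f.range_fiberι s).subset ⟨c, rfl⟩
  have hmax' : ∀ p : ↥(f.fiber (f x)), p ⤳ f.asFiber x → p = f.asFiber x := fun p hp => by
    have h1 : f.fiberι (f x) p ⤳ x := (hp.map (f.fiberι (f x)).continuous).trans (specializes_of_eq (f.fiberι_asFiber x))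
    obtain ⟨p', hp'⟩ : f.fiberι (f x) p ∈ Set.range (f.fiberι s) := by
      rw [f.range_fiberι]; exact ((f.range_fiberι (f x)).subset ⟨p, rfl⟩).trans hfx
    rw [← hp'] at h1
    have h2 := hmax p' ((f.fiberι s).isEmbedding.isInducing.specializes_iff.mp h1)
    refine (f.fiberι (f x)).isEmbedding.injective ?_
    rw [← hp', h2, Scheme.Hom.fiberι_asFiber]
  obtain ⟨d, V, g, hxV, hgq, hflat, hqf, -⟩ :=
    Groth.Agent.CMFlat.Locus.exists_flat_param f x (Groth.Agent.CMFlat.Locus.isCMAt_of_maximal f x hmax')
  haveI := hflat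
  haveI := hqf
  show x ∈ ((⨆ d, U d : X.Opens) : Set ↑X)
  rw [TopologicalSpace.Opens.coe_iSup]
  exact Set.mem_iUnion.mpr ⟨d, mem_interior.mpr ⟨V, fun w hw => RelDim.fibreDimAt_const_of_flat_param f V g hgq w hw,
    V.isOpen, hxV⟩⟩

end Groth.Agent.S9757
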