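import Groth.Statements.S9759
import Groth.Agent.Flat.AlgebraModel
import Mathlib.AlgebraicGeometry.Morphisms.Flat
import Mathlib.AlgebraicGeometry.Morphisms.FinitePresentation

set_option autoImplicit false
universe u
open FlatMor

namespace Groth.Agent.S9759

open AlgebraicGeometry CategoryTheory Limits in
/-- Let f : X ⟶ S be a flat morphism of finite presentation between affine schemes. Then f is the base
change of a morphism of finite type f₀ : X₀ ⟶ S₀ between affine schemes with S₀ of finite type over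
ℤ and f₀ flat. -/
theorem result {X S : Scheme.{u}} (f : X ⟶ S) [IsAffine X] [IsAffine S] [LocallyOfFinitePresentation f] [Flat f] :
    ∃ (X₀ S₀ : Scheme.{u}) (f₀ : X₀ ⟶ S₀) (g : S ⟶ S₀) (g' : X ⟶ X₀), IsAffine X₀ ∧ IsAffine S₀ ∧ IsPullback g' f f₀ g ∧
      Algebra.FiniteType ℤ Γ(S₀, ⊤) ∧ LocallyOfFiniteType f₀ ∧ Flat f₀ := by
  have hfp : f.appTop.hom.FinitePresentation := f.finitePresentation_appTop
  have hfl : f.appTop.hom.Flat := f.flat_appTop
  letI := f.appTop.hom.toAlgebra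
  haveI : Algebra.FinitePresentation Γ(S, ⊤) Γ(X, ⊤) := hfp
  haveI : Module.Flat Γ(S, ⊤) Γ(X, ⊤) := hfl
  obtain ⟨T, hT⟩ := Groth.Agent.Flat.AlgebraModel.exists_flat_algebra_model Γ(S, ⊤) Γ(X, ⊤)
  obtain ⟨B₀, hB, hA, j, hft, hflat, hpo⟩ := hT T subset_rfl
  refine ⟨Spec (.of B₀), Spec (.of (Groth.Agent.Flat.OpenLocus.adj T)),
    Spec.map (CommRingCat.ofHom (algebraMap _ B₀)),
    S.isoSpec.hom ≫ Spec.map (CommRingCat.ofHom (Groth.Agent.Flat.OpenLocus.adjHom T)),
    X.isoSpec.hom ≫ Spec.map (CommRingCat.ofHom j), inferInstance, inferInstance, ?_, ?_, ?_, ?_⟩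
  · refine (isPullback_SpecMap_of_isPushout _ _ _ _ hpo).flip.of_iso X.isoSpec.symm (Iso.refl _)
      S.isoSpec.symm (Iso.refl _) (by simp) ?_ (by simp) (by simp)
    simp only [Iso.symm_hom]
    rw [Iso.eq_inv_comp, ← Category.assoc, Iso.comp_inv_eq]
    exact (Scheme.isoSpec_hom_naturality f)
  · haveI := (Groth.Agent.Flat.OpenLocus.adj_finitePresentation T)
    haveI : Algebra.FiniteType ℤ (Groth.Agent.Flat.OpenLocus.adj T) := inferInstance
    exact Algebra.FiniteType.equiv ‹_›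
      ((Scheme.ΓSpecIso (.of (Groth.Agent.Flat.OpenLocus.adj T))).commRingCatIsoToRingEquiv.symm.toIntAlgEquiv)
  · exact (HasRingHomProperty.Spec_iff (P := @LocallyOfFiniteType)).mpr
      (RingHom.finiteType_algebraMap.mpr hft)
  · exact (HasRingHomProperty.Spec_iff (P := @Flat)).mpr (RingHom.flat_algebraMap_iff.mpr hflat)

end Groth.Agent.S9759
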