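import Groth.Statements.S9763
import Mathlib

set_option autoImplicit false
universe u
open FlatMor

namespace Groth.Agent.S9763

open AlgebraicGeometry CategoryTheory Limits in
/-- Let f : X ⟶ S be formally smooth (infinitesimal lifting against square-zero thickenings of affine
schemes), and let U be an open of X and V an open of S with U contained in the preimage of V under
f. Then the induced morphism U ⟶ V is formally smooth. -/
theorem result {X S : Scheme.{u}} (f : X ⟶ S) (hf : MoreMor.IsFormallySmoothHom f)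
    (U : X.Opens) (V : S.Opens) (h : U ≤ f ⁻¹ᵁ V) : MoreMor.IsFormallySmoothHom (f.resLE V U h) := by
  intro A _ I hI a b hw
  have hι : f.resLE V U h ≫ V.ι = U.ι ≫ f := Scheme.Hom.resLE_comp_ι _ _
  obtain ⟨m, hm₁, hm₂⟩ := hf A I hI (a ≫ U.ι) (b ≫ V.ι)
    (by rw [← Category.assoc, hw, Category.assoc, hι, Category.assoc])
  have hsur : ∀ z : Spec (CommRingCat.of A), ∃ w, Spec.map (CommRingCat.ofHom (Ideal.Quotient.mk I)) w = z :=
    fun z => haveI : z.asIdeal.IsPrime := z.isPrime
      ⟨⟨z.asIdeal.map (Ideal.Quotient.mk I), Ideal.map_isPrime_of_surjective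
      Ideal.Quotient.mk_surjective (by
        rw [Ideal.mk_ker]; exact fun x hx => z.isPrime.mem_of_pow_mem 2 (by
          have h2 : x ^ 2 ∈ I ^ 2 := Ideal.pow_mem_pow hx 2
          rw [hI, Ideal.mem_bot] at h2
          rw [h2]; exact zero_mem _))⟩,
      PrimeSpectrum.ext (by
        show Ideal.comap (Ideal.Quotient.mk I) (z.asIdeal.map (Ideal.Quotient.mk I)) = z.asIdeal
        rw [Ideal.comap_map_of_surjective _ Ideal.Quotient.mk_surjective, ← RingHom.ker_eq_comap_bot,
          Ideal.mk_ker, sup_eq_left]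
        exact fun x hx => z.isPrime.mem_of_pow_mem 2 (by
          have h2 : x ^ 2 ∈ I ^ 2 := Ideal.pow_mem_pow hx 2
          rw [hI, Ideal.mem_bot] at h2
          rw [h2]; exact zero_mem _))⟩
  have hrange : Set.range m ⊆ Set.range U.ι := by
    rintro _ ⟨z, rfl⟩
    obtain ⟨w, rfl⟩ := hsur z
    refine ⟨a w, ?_⟩
    rw [← Scheme.Hom.comp_apply, ← hm₁, Scheme.Hom.comp_apply]
  let l := IsOpenImmersion.lift U.ι m hrange
  have hl : l ≫ U.ι = m := IsOpenImmersion.lift_fac _ _ _
  refine ⟨l, (cancel_mono U.ι).mp ?_, (cancel_mono V.ι).mp ?_⟩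
  · rw [Category.assoc, hl, hm₁]
  · rw [Category.assoc, hι, ← Category.assoc, hl, hm₂]

end Groth.Agent.S9763
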