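import Groth.Statements.S9776
import Groth.Agent.ModStalk.OmegaCompat

set_option autoImplicit false
universe u
open OmegaSh

namespace Groth.Agent.S9776

open AlgebraicGeometry CategoryTheory Limits in
/-- Consider a commutative square of schemes with vertical maps p₁ : X₁ ⟶ S₁, p₂ : X₂ ⟶ S₂ and
horizontal maps f : X₂ ⟶ X₁, g : S₂ ⟶ S₁, where f and g are étale. Let d₁ : O_{X₁} → Ω₁ and d₂ :
O_{X₂} → Ω₂ be universal derivations over S₁ and S₂ (sheaves of differentials) and c : f^*Ω₁ ⟶ Ω₂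
the O_{X₂}-linear map compatible with d₁ and d₂ (the canonical map c_f). Then c is an isomorphism. -/
theorem result {X₁ S₁ X₂ S₂ : Scheme.{u}} (p₁ : X₁ ⟶ S₁) (p₂ : X₂ ⟶ S₂) (f : X₂ ⟶ X₁) (g : S₂ ⟶ S₁)
    [Etale f] [Etale g] (hsq : f ≫ p₁ = p₂ ≫ g)
    (Ω₁ : X₁.Modules) (d₁ : OmegaSh.Der p₁ Ω₁) (hd₁ : OmegaSh.IsUniversal d₁)
    (Ω₂ : X₂.Modules) (d₂ : OmegaSh.Der p₂ Ω₂) (hd₂ : OmegaSh.IsUniversal d₂)
    (c : (Scheme.Modules.pullback f).obj Ω₁ ⟶ Ω₂) (hc : OmegaSh.IsDiffCompat f d₁ d₂ c) : IsIso c := by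
  have : Ω₁.IsQuasicoherent := Groth.Agent.ModStalk.isQCoh_of_isUniversal hd₁
  have : Ω₂.IsQuasicoherent := Groth.Agent.ModStalk.isQCoh_of_isUniversal hd₂
  have : ((Scheme.Modules.pullback f).obj Ω₁).IsQuasicoherent := Groth.Agent.ModStalk.isQuasicoherent_pullback f Ω₁
  refine Groth.Agent.ModStalk.isIso_of_app_bijective c fun x => ?_
  obtain ⟨_, ⟨V, hV, rfl⟩, hxV, -⟩ := S₁.isBasis_affineOpens.exists_subset_of_mem_open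
    (Set.mem_univ (g (p₂ x))) isOpen_univ
  have hfx : f x ∈ p₁ ⁻¹ᵁ V := by
    show p₁ (f x) ∈ V
    rw [← Scheme.Hom.comp_apply, hsq, Scheme.Hom.comp_apply]
    exact hxV
  obtain ⟨_, ⟨U, hU, rfl⟩, hxU, h₁⟩ := X₁.isBasis_affineOpens.exists_subset_of_mem_open hfx (p₁ ⁻¹ᵁ V).2
  obtain ⟨_, ⟨V', hV', rfl⟩, hxV', hgle⟩ := S₂.isBasis_affineOpens.exists_subset_of_mem_open
    (show p₂ x ∈ g ⁻¹ᵁ V from hxV) (g ⁻¹ᵁ V).2
  obtain ⟨_, ⟨U', hU', rfl⟩, hxU', hU'le⟩ := X₂.isBasis_affineOpens.exists_subset_of_mem_open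
    (show x ∈ f ⁻¹ᵁ U ⊓ p₂ ⁻¹ᵁ V' from ⟨hxU, hxV'⟩) (f ⁻¹ᵁ U ⊓ p₂ ⁻¹ᵁ V').2
  have hle : U' ≤ f ⁻¹ᵁ U := fun z hz => (hU'le hz).1
  have h₂ : U' ≤ p₂ ⁻¹ᵁ V' := fun z hz => (hU'le hz).2
  refine ⟨U', hU', hxU', ?_⟩
  letI := (p₁.appLE V U h₁).hom.toAlgebra
  letI := (p₂.appLE V' U' h₂).hom.toAlgebra
  letI := (f.appLE U U' hle).hom.toAlgebra
  letI := (g.appLE V V' hgle).hom.toAlgebra
  letI : Algebra Γ(S₁, V) Γ(X₂, U') :=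
    ((algebraMap Γ(S₂, V') Γ(X₂, U')).comp (algebraMap Γ(S₁, V) Γ(S₂, V'))).toAlgebra
  haveI : IsScalarTower Γ(S₁, V) Γ(S₂, V') Γ(X₂, U') := IsScalarTower.of_algebraMap_eq fun _ => rfl
  haveI : IsScalarTower Γ(S₁, V) Γ(X₁, U) Γ(X₂, U') := IsScalarTower.of_algebraMap_eq fun a => by
    show (g.appLE V V' hgle ≫ p₂.appLE V' U' h₂) a = (p₁.appLE V U h₁ ≫ f.appLE U U' hle) a
    rw [Scheme.Hom.appLE_comp_appLE, Scheme.Hom.appLE_comp_appLE]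
    exact congr($(OmegaSh.appLE_congr_hom hsq.symm _ _) a)
  have : Algebra.Etale Γ(X₁, U) Γ(X₂, U') := f.etale_appLE hU hU' hle
  have : Algebra.Etale Γ(S₁, V) Γ(S₂, V') := g.etale_appLE hV hV' hgle
  exact Groth.Agent.ModStalk.app_bijective_of_map hc hd₁ hd₂ hV hU hV' hU' h₁ h₂ hle rfl rfl rfl
    (Groth.Agent.ModStalk.bijective_liftBaseChange_map_of_etale _ _ _ _)

end Groth.Agent.S9776
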