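import Groth.Statements.S9777
import Groth.Agent.HensPair.DimBC

set_option autoImplicit false
universe u
open FlatMor

namespace Groth.Agent.S9777

open AlgebraicGeometry CategoryTheory Limits in
/-- For a finite-type morphism f : X ⟶ Y and its pullback f' : X' ⟶ Y' along any g : Y' ⟶ Y, the Krull
dimension of the fibre of f' over a point y' equals that of the fibre of f over g y'; fibre
dimension commutes with base change. -/
theorem result {X Y X' Y' : Scheme.{u}} (f : X ⟶ Y) [QuasiCompact f] [LocallyOfFiniteType f]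
    (g : Y' ⟶ Y) (f' : X' ⟶ Y') (g' : X' ⟶ X) (hc : IsPullback g' f' f g) (y' : Y') :
    topologicalKrullDim ↑(f'.fiber y') = topologicalKrullDim ↑(f.fiber (g y')) := by
  open Groth.Agent.HensPair in
  haveI : LocallyOfFiniteType f' := MorphismProperty.of_isPullback hc inferInstance
  have h := DimBC.fibreDimAt_baseChange f g g' f' hc
  have hcomm : ∀ x' : X', f (g' x') = g (f' x') := fun x' => congrArg (fun k : X' ⟶ Y => k x') hc.w
  refine le_antisymm ?_ ?_
  · refine (Groth.Agent.Equidim.dim_fiber_le_iff f' y' _).mpr fun x' hx' => ?_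
    rw [h x']
    exact (Groth.Agent.Equidim.dim_fiber_le_iff f (g y') _).mp le_rfl _ (by rw [hcomm, hx'])
  · refine (Groth.Agent.Equidim.dim_fiber_le_iff f (g y') _).mpr fun x hx => ?_
    obtain ⟨z, hz1, hz2⟩ := Scheme.Pullback.exists_preimage_pullback x y' hx
    obtain ⟨x', rfl⟩ : ∃ x', hc.isoPullback.hom x' = z := ⟨hc.isoPullback.inv z, by
      show (hc.isoPullback.inv ≫ hc.isoPullback.hom) z = z
      rw [Iso.inv_hom_id]; rfl⟩
    have e1 : g' x' = x := (congrArg (fun k : X' ⟶ X => k x') hc.isoPullback_hom_fst).symm.trans hz1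
    have e2 : f' x' = y' := (congrArg (fun k : X' ⟶ Y' => k x') hc.isoPullback_hom_snd).symm.trans hz2
    rw [← e1, ← h x']
    exact (Groth.Agent.Equidim.dim_fiber_le_iff f' y' _).mp le_rfl x' e2

end Groth.Agent.S9777
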