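import Groth.Statements.S9792
import Mathlib
-- import your own Groth.Agent.* helpers here

set_option autoImplicit false
set_option backward.isDefEq.respectTransparency false
universe u
open CategoryTheory AlgebraicGeometry TopologicalSpace
open Props

open CategoryTheory CategoryTheory.Limits AlgebraicGeometry
namespace Groth.Agent.S9792

/-- In a Noetherian scheme, every infinite set of points contains an infinite subset no two distinct
members of which are related by specialization. -/
theorem result (S : Scheme.{u}) [IsNoetherian S]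
    (T : Set S) (hT : T.Infinite) :
    ∃ T' : Set S, T' ⊆ T ∧ T'.Infinite ∧ ∀ a ∈ T', ∀ b ∈ T', a ⤳ b → a = b := by
  classical
  -- an affine open containing infinitely many points of T
  obtain ⟨U, hU, hTU⟩ : ∃ U : S.Opens, IsAffineOpen U ∧ (T ∩ (U : Set S)).Infinite := by
    by_contra hne
    push_neg at hne
    obtain ⟨F, hF⟩ := isCompact_univ.elim_finite_subcover (fun U : S.affineOpens => ((U : S.Opens) : Set S))
      (fun U => U.1.2) (fun x _ => by
        obtain ⟨U, hU, hxU, -⟩ := exists_isAffineOpen_mem_and_subset (X := S) (U := ⊤) (x := x) trivial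
        exact Set.mem_iUnion.2 ⟨⟨U, hU⟩, hxU⟩)
    refine hT ((F.finite_toSet.biUnion fun U _ => (hne U.1 U.2)).subset fun x hx => ?_)
    obtain ⟨U, hUF, hxU⟩ := Set.mem_iUnion₂.1 (hF (Set.mem_univ x))
    exact Set.mem_biUnion (x := U) hUF ⟨hx, hxU⟩
  haveI : IsNoetherianRing Γ(S, U) := IsLocallyNoetherian.component_noetherian ⟨U, hU⟩
  let f : ℕ → S := fun n => (hTU.natEmbedding _ n).1
  have hfinj : Function.Injective f := fun a b h => (hTU.natEmbedding _).injective (Subtype.ext h)
  have hfT : ∀ n, f n ∈ T ∩ (U : Set S) := fun n => (hTU.natEmbedding _ n).2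
  let P : ℕ → PrimeSpectrum Γ(S, U) := fun n => hU.primeIdealOf ⟨f n, (hfT n).2⟩
  have hP : ∀ n, hU.fromSpec (P n) = f n := fun n => hU.fromSpec_primeIdealOf _
  have hspec : ∀ a b, f a ⤳ f b → P a ≤ P b := fun a b h =>
    (PrimeSpectrum.le_iff_specializes _ _).2 (hU.fromSpec.isEmbedding.isInducing.specializes_iff.1 (by rw [hP, hP]; exact h))
  have hne : ∀ a b, a ≠ b → P a ≠ P b := fun a b h e => h (hfinj (by rw [← hP, ← hP, e]))
  obtain ⟨g, hg | hg⟩ := exists_increasing_or_nonincreasing_subseq (· < ·) P
  · exfalso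
    exact (not_strictMono_of_wellFoundedGT (α := Ideal Γ(S, U)) (fun n => (P (g n)).asIdeal))
      (fun m n hmn => hg m n hmn)
  obtain ⟨g', hg' | hg'⟩ := exists_increasing_or_nonincreasing_subseq (· > ·) (fun n => P (g n))
  · exfalso
    refine not_strictAnti_of_wellFoundedLT (α := ℕ∞) (fun n => (P (g (g' n))).asIdeal.height) fun m n hmn => ?_
    exact Ideal.height_strict_mono_of_isPrime_of_isPrime (hg' m n hmn)
  refine ⟨Set.range fun n => f (g (g' n)), ?_, Set.infinite_range_of_injective fun a b h => g'.injective (g.injective (hfinj h)), ?_⟩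
  · rintro _ ⟨n, rfl⟩
    exact (hfT _).1
  · rintro _ ⟨a, rfl⟩ _ ⟨b, rfl⟩ h
    rcases lt_trichotomy a b with hab | rfl | hab
    · exact absurd (lt_of_le_of_ne (hspec _ _ h) (hne _ _ fun e => hab.ne (g'.injective (g.injective e)))) (hg _ _ (g'.strictMono hab))
    · rfl
    · exact absurd (lt_of_le_of_ne (hspec _ _ h) (hne _ _ fun e => hab.ne' (g'.injective (g.injective e)))) (hg' _ _ hab)

end Groth.Agent.S9792
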