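import Groth.Statements.S9793
import Mathlib.AlgebraicGeometry.Morphisms.UniversallyClosed
import Mathlib.AlgebraicGeometry.Morphisms.Separated
import Mathlib.AlgebraicGeometry.Morphisms.Immersion
import Mathlib.AlgebraicGeometry.Morphisms.FiniteType
import Mathlib.AlgebraicGeometry.Morphisms.QuasiSeparated
import Mathlib.AlgebraicGeometry.Noetherian
import Mathlib.AlgebraicGeometry.Limits
import Mathlib.AlgebraicGeometry.ValuativeCriterion
import Mathlib.AlgebraicGeometry.PullbackCarrier
import Mathlib.AlgebraicGeometry.FunctionField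
import Mathlib.Topology.Algebra.ClopenNhdofOne
import Mathlib.RingTheory.Ideal.Height
import Mathlib.RingTheory.Ideal.KrullsHeightTheorem

set_option autoImplicit false
universe u
open CategoryTheory AlgebraicGeometry TopologicalSpace
open Props

namespace Groth.Agent.S9793
open CategoryTheory CategoryTheory.Limits AlgebraicGeometry TopologicalSpace

/-- Let S be a Noetherian scheme and T a set of points of S. Every point of T is a specialization of
some point of T which admits no non-trivial generization lying in T. -/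
theorem result (S : Scheme.{u}) [IsNoetherian S]
    (T : Set S) (t : S) (ht : t ∈ T) :
    ∃ t₀ ∈ T, (∀ t' ∈ T, t' ⤳ t₀ → t' = t₀) ∧ t₀ ⤳ t := by
  classical
  let A : Set (PrimeSpectrum (S.presheaf.stalk t)) := (S.fromSpecStalk t) ⁻¹' T
  have hne : A.Nonempty := ⟨IsLocalRing.closedPoint (S.presheaf.stalk t), by
    change S.fromSpecStalk t (IsLocalRing.closedPoint (S.presheaf.stalk t)) ∈ T
    rwa [Scheme.fromSpecStalk_closedPoint]⟩
  have : IsNoetherianRing (S.presheaf.stalk t) := inferInstance
  have hfin : ∀ P : PrimeSpectrum (S.presheaf.stalk t), Order.height P < ⊤ := fun P => by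
    have h1 := Order.height_le_krullDim P
    have h2 : ringKrullDim (S.presheaf.stalk t) < ⊤ := ringKrullDim_lt_top
    exact WithBot.coe_lt_coe.mp (lt_of_le_of_lt h1 h2)
  have hwf : WellFoundedLT (PrimeSpectrum (S.presheaf.stalk t)) :=
    StrictMono.wellFoundedLT (f := fun P => Order.height P) fun a b hab => Order.height_strictMono hab (hfin a)
  obtain ⟨P, hP, hmin⟩ : ∃ P, Minimal (· ∈ A) P := exists_minimal_of_wellFoundedLT _ hne
  refine ⟨_, hP, fun t' ht' hs => ?_, Scheme.range_fromSpecStalk.le ⟨P, rfl⟩⟩
  obtain ⟨Q, rfl⟩ := Scheme.range_fromSpecStalk.ge (hs.trans (Scheme.range_fromSpecStalk.le ⟨P, rfl⟩) : t' ⤳ t)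
  have hQP : Q ⤳ P := (S.fromSpecStalk t).isEmbedding.isInducing.specializes_iff.mp hs
  have hle := (PrimeSpectrum.le_iff_specializes (R := S.presheaf.stalk t) Q P).mpr hQP
  exact congrArg (S.fromSpecStalk t) (le_antisymm (α := PrimeSpectrum (S.presheaf.stalk t)) hle (hmin ht' hle))

end Groth.Agent.S9793
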