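import Groth.Statements.S9795
import Mathlib
-- import your own Groth.Agent.* helpers here

set_option autoImplicit false
universe u
open CategoryTheory AlgebraicGeometry TopologicalSpace
open Props

namespace Groth.Agent.S9795

/-- A quasi-separated scheme of dimension at most zero is separated. -/
theorem result (X : Scheme.{u}) [QuasiSeparatedSpace X]
    (h : topologicalKrullDim X ≤ 0) : X.IsSeparated := by
  have hpts : ∀ a b : X, a ⤳ b → a = b := by
    intro a b hab
    by_contra hne
    let A : IrreducibleCloseds X := ⟨closure {a}, isIrreducible_singleton.closure, isClosed_closure⟩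
    let B : IrreducibleCloseds X := ⟨closure {b}, isIrreducible_singleton.closure, isClosed_closure⟩
    have hle : B ≤ A := specializes_iff_closure_subset.mp hab
    have hlt : B < A := lt_of_le_of_ne hle (fun e => hne (Specializes.antisymm hab
      (specializes_iff_closure_subset.mpr (le_of_eq (congrArg (fun Z : IrreducibleCloseds X => (Z : Set X)) e.symm)))).eq)
    have h1 : (1 : WithBot ℕ∞) ≤ topologicalKrullDim X :=
      Order.LTSeries.length_le_krullDim (RelSeries.fromListIsChain [B, A] (by simp) (List.isChain_pair.mpr hlt))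
    exact absurd (h1.trans h) (by decide)
  haveI : QuasiSeparated (Limits.terminal.from X) := inferInstance
  constructor
  refine IsSeparated.of_valuativeCriterion _ (fun S => ⟨fun l₁ l₂ => ?_⟩)
  let η : Spec (CommRingCat.of S.K) ⟶ Spec (CommRingCat.of S.R) := Spec.map (CommRingCat.ofHom (algebraMap S.R S.K))
  let k : Spec (CommRingCat.of S.K) := (default : PrimeSpectrum S.K)
  let x : X := S.i₁ k
  have hx : ∀ (l : S.commSq.LiftStruct) (p : Spec (CommRingCat.of S.R)), l.l p = x := by
    intro l p
    have hη : η k ⤳ p := by
      refine (PrimeSpectrum.le_iff_specializes (η k) p).mp ?_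
      intro r hr
      have hr' : algebraMap S.R S.K r ∈ (k : PrimeSpectrum S.K).asIdeal := hr
      have h0 : algebraMap S.R S.K r = 0 := by
        have := Ideal.eq_bot_of_prime (k : PrimeSpectrum S.K).asIdeal
        rw [this] at hr'; exact hr'
      rw [IsFractionRing.injective S.R S.K (h0.trans (map_zero _).symm)]
      exact Ideal.zero_mem _
    have h2 := hpts _ _ (hη.map l.l.continuous)
    rw [← h2, ← Scheme.Hom.comp_apply, l.fac_left]
  obtain ⟨U, hU, hxU, -⟩ := exists_isAffineOpen_mem_and_subset (X := X) (x := x) (U := ⊤) trivial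
  haveI : IsAffine U.toScheme := hU
  have hr : ∀ l : S.commSq.LiftStruct, Set.range l.l ⊆ Set.range U.ι := by
    rintro l _ ⟨p, rfl⟩
    rw [Scheme.Opens.range_ι, hx l p]; exact hxU
  haveI : IsDominant η := ⟨by
    show DenseRange (PrimeSpectrum.comap (algebraMap S.R S.K))
    exact (PrimeSpectrum.denseRange_comap_iff_ker_le_nilRadical _).mpr
      (by rw [(RingHom.injective_iff_ker_eq_bot _).mp (IsFractionRing.injective S.R S.K)]; exact bot_le)⟩
  have e : IsOpenImmersion.lift U.ι l₁.l (hr l₁) = IsOpenImmersion.lift U.ι l₂.l (hr l₂) := by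
    refine ext_of_isDominant η ?_
    rw [← cancel_mono U.ι, Category.assoc, Category.assoc, IsOpenImmersion.lift_fac, IsOpenImmersion.lift_fac,
      l₁.fac_left, l₂.fac_left]
  ext : 1
  rw [← IsOpenImmersion.lift_fac U.ι l₁.l (hr l₁), e, IsOpenImmersion.lift_fac]

end Groth.Agent.S9795
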