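import Groth.Statements.S9796
import Mathlib
-- import your own Groth.Agent.* helpers here

set_option autoImplicit false
universe u
open CategoryTheory AlgebraicGeometry TopologicalSpace
open Props

namespace Groth.Agent.S9796

theorem clopen_spec {R : Type u} [CommRing R] [Ring.KrullDimLE 0 R] (f : R) :
    IsClopen (PrimeSpectrum.basicOpen f : Set (PrimeSpectrum R)) := by
  obtain ⟨n, a, hna⟩ : ∃ (n : ℕ) (a : R), f ^ n * (1 + f * a) = 0 := by
    by_contra hc
    push Not at hc
    let S : Submonoid R :=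
      { carrier := {r | ∃ (n : ℕ) (a : R), f ^ n * (1 + f * a) = r}
        one_mem' := ⟨0, 0, by simp⟩
        mul_mem' := by
          rintro _ _ ⟨n, a, rfl⟩ ⟨m, b, rfl⟩
          exact ⟨n + m, a + b + f * a * b, by ring⟩ }
    have hd : Disjoint ((⊥ : Ideal R) : Set R) (S : Set R) := by
      rw [Set.disjoint_left]
      rintro r hr ⟨n, a, rfl⟩
      exact hc n a (by simpa using hr)
    obtain ⟨P, hP, -, hPd⟩ := Ideal.exists_le_prime_disjoint _ _ hd
    haveI := hP
    have hf : f ∉ P := fun hf => Set.disjoint_left.mp hPd hf ⟨1, 0, by simp⟩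
    obtain ⟨b, hb⟩ := (Ideal.isMaximal_of_isPrime P).exists_inv hf
    obtain ⟨i, hi, he⟩ := hb
    refine Set.disjoint_left.mp hPd hi ⟨0, -b, ?_⟩
    linear_combination -he
  refine ⟨?_, PrimeSpectrum.isOpen_basicOpen⟩
  convert PrimeSpectrum.isClosed_zeroLocus {1 + f * a} using 1
  ext P
  simp only [PrimeSpectrum.basicOpen_eq_zeroLocus_compl, Set.mem_compl_iff, PrimeSpectrum.mem_zeroLocus,
    Set.singleton_subset_iff, SetLike.mem_coe]
  constructor
  · intro hf
    exact (P.2.mem_or_mem (hna ▸ P.asIdeal.zero_mem)).resolve_left fun h => hf (P.2.mem_of_pow_mem n h)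
  · intro h1 hf
    exact P.2.ne_top ((Ideal.eq_top_iff_one _).mpr
      (by simpa using sub_mem h1 (P.asIdeal.mul_mem_right a hf)))

theorem exists_clopen_of_affine (X : Scheme.{u}) (h : topologicalKrullDim X ≤ 0) (U : X.Opens)
    (hU : IsAffineOpen U) (x y : U) (hxy : x ≠ y) :
    ∃ c : Set U, IsClopen c ∧ x ∈ c ∧ y ∉ c := by
  let e : U ≃ₜ PrimeSpectrum Γ(X, U) := hU.isoSpec.hom.homeomorph
  have hd : topologicalKrullDim (PrimeSpectrum Γ(X, U)) ≤ 0 :=
    (e.symm.isInducing.topologicalKrullDim_le.trans (topologicalKrullDim_subspace_le X U)).trans h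
  rw [PrimeSpectrum.topologicalKrullDim_eq_ringKrullDim] at hd
  haveI : Ring.KrullDimLE 0 Γ(X, U) := Ring.krullDimLE_iff.mpr hd
  have hne : ¬ ((e y).asIdeal ≤ (e x).asIdeal) := fun hle =>
    hxy (e.injective (PrimeSpectrum.ext ((Ideal.isMaximal_of_isPrime _).eq_of_le (e x).2.ne_top hle).symm))
  obtain ⟨f, hfy, hfx⟩ := SetLike.not_le_iff_exists.mp hne
  exact ⟨e ⁻¹' (PrimeSpectrum.basicOpen f), (clopen_spec f).preimage e.continuous, hfx, fun hy => hy hfy⟩

theorem t2_of_affine (X : Scheme.{u}) (h : topologicalKrullDim X ≤ 0) (U : X.Opens)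
    (hU : IsAffineOpen U) : T2Space U := by
  haveI : TotallySeparatedSpace U := totallySeparatedSpace_iff_exists_isClopen.mpr
    fun x y hxy => exists_clopen_of_affine X h U hU x y hxy
  infer_instance

/-- (2) implies (3) with the complement on connected components: a separated scheme of dimension at most
zero is Hausdorff and totally disconnected. -/
theorem result (X : Scheme.{u}) [X.IsSeparated]
    (h : topologicalKrullDim X ≤ 0) : T2Space X ∧ TotallyDisconnectedSpace X := by
  have hts : TotallySeparatedSpace X := by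
    rw [totallySeparatedSpace_iff_exists_isClopen]
    intro x y hxy
    obtain ⟨U, hU, hxU, -⟩ := exists_isAffineOpen_mem_and_subset (X := X) (x := x) (U := ⊤) trivial
    obtain ⟨V, hV, hyV, -⟩ := exists_isAffineOpen_mem_and_subset (X := X) (x := y) (U := ⊤) trivial
    have hclopen : ∀ (W : X.Opens), IsAffineOpen W → IsClopen (W : Set X) := by
      intro W hW
      refine ⟨isOpen_compl_iff.mp (isOpen_iff_forall_mem_open.mpr fun z hz => ?_), W.2⟩
      obtain ⟨T, hT, hzT, -⟩ := exists_isAffineOpen_mem_and_subset (X := X) (x := z) (U := ⊤) trivial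
      haveI : T2Space (T : Set X) := t2_of_affine X h T hT
      have hc : IsClosed (((↑) : ↥(T : Set X) → X) ⁻¹' (W : Set X)) := by
        refine IsCompact.isClosed ?_
        rw [Subtype.isCompact_iff, Subtype.image_preimage_coe]
        exact (hT.inf hW).isCompact
      exact ⟨(T : Set X) \ W, fun a ha => ha.2, by
        have := T.2.isOpenMap_subtype_val _ hc.isOpen_compl
        convert this using 1
        ext a
        constructor
        · exact fun ha => ⟨⟨a, ha.1⟩, ha.2, rfl⟩
        · rintro ⟨⟨b, hb⟩, hbW, rfl⟩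
          exact ⟨hb, hbW⟩, hzT, hz⟩
    by_cases hyU : y ∈ U
    · haveI := t2_of_affine X h U hU
      obtain ⟨c, hc, hxc, hyc⟩ := exists_clopen_of_affine X h U hU ⟨x, hxU⟩ ⟨y, hyU⟩ (fun e => hxy (congrArg Subtype.val e))
      refine ⟨(Subtype.val : U → X) '' c, ⟨?_, U.2.isOpenMap_subtype_val _ hc.isOpen⟩, ⟨_, hxc, rfl⟩, ?_⟩
      · have hcl := (hclopen U hU).isClosed.isClosedMap_subtype_val _ hc.isClosed
        exact hcl
      · rintro ⟨⟨a, ha⟩, hac, rfl⟩
        exact hyc hac
    · exact ⟨U, hclopen U hU, hxU, hyU⟩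
  exact ⟨inferInstance, inferInstance⟩

end Groth.Agent.S9796
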