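import Groth.Statements.S9797
import Mathlib
import Groth.Agent.S9796
-- import your own Groth.Agent.* helpers here

set_option autoImplicit false
universe u
open CategoryTheory AlgebraicGeometry TopologicalSpace
open Props

namespace Groth.Agent.S9797

/-- In a separated scheme of dimension at most zero, every quasi-compact open is affine. -/
theorem result (X : Scheme.{u}) [X.IsSeparated]
    (h : topologicalKrullDim X ≤ 0) (U : X.Opens) (hU : IsCompact (U : Set X)) :
    IsAffineOpen U := by
  haveI : T2Space X := (S9796.result X h).1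
  have hpiece : ∀ (W V : X.Opens), IsAffineOpen W → IsClopen (V : Set X) → IsAffineOpen (W ⊓ V) := by
    intro W V hW hV
    have hc : IsClopen (hW.fromSpec.base ⁻¹' (V : Set X)) := hV.preimage hW.fromSpec.continuous
    obtain ⟨e, -, he⟩ := PrimeSpectrum.isClopen_iff.mp hc
    have heq : W ⊓ V = X.basicOpen e := by
      ext x
      constructor
      · rintro ⟨hxW, hxV⟩
        obtain ⟨p, rfl⟩ : x ∈ Set.range hW.fromSpec := by rw [hW.range_fromSpec]; exact hxW
        have h1 : p ∈ hW.fromSpec.base ⁻¹' (V : Set X) := hxV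
        rw [he] at h1
        show p ∈ hW.fromSpec ⁻¹ᵁ X.basicOpen e
        rw [hW.fromSpec_preimage_basicOpen]; exact h1
      · intro hx
        have hxW : x ∈ W := X.basicOpen_le e hx
        obtain ⟨p, rfl⟩ : x ∈ Set.range hW.fromSpec := by rw [hW.range_fromSpec]; exact hxW
        refine ⟨hxW, ?_⟩
        show p ∈ hW.fromSpec.base ⁻¹' (V : Set X)
        rw [he]
        have h1 : p ∈ hW.fromSpec ⁻¹ᵁ X.basicOpen e := hx
        rwa [hW.fromSpec_preimage_basicOpen] at h1
    rw [heq]; exact hW.basicOpen e
  have hfin : ∀ s : Finset X.affineOpens, IsAffineOpen (s.sup fun W => W.1) ∧ IsCompact ((s.sup fun W => W.1 : X.Opens) : Set X) := by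
    classical
    intro s
    induction s using Finset.induction_on with
    | empty => exact ⟨by simpa using isAffineOpen_bot X, by simp⟩
    | @insert W s hW ih =>
      rw [Finset.sup_insert]
      let S : X.Opens := s.sup fun W => W.1
      let V : X.Opens := ⟨(S : Set X)ᶜ, ih.2.isClosed.isOpen_compl⟩
      have hV : IsClopen (V : Set X) := ⟨isClosed_compl_iff.mpr S.2, V.2⟩
      have heq : W.1 ⊔ S = (W.1 ⊓ V) ⊔ S := by
        ext x; simp [V]; tauto
      have hd : Disjoint (W.1 ⊓ V) S := by
        rw [disjoint_iff]; ext x; simp [V]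
      exact ⟨heq ▸ (hpiece W.1 V W.2 hV).sup_of_disjoint ih.1 hd, W.2.isCompact.union ih.2⟩
  obtain ⟨s, hs, hUs⟩ := (isCompact_iff_finite_and_eq_biUnion_affineOpens).mp hU
  have : U = hs.toFinset.sup fun W => W.1 := by
    ext x; simp [hUs]
  rw [this]; exact (hfin _).1

end Groth.Agent.S9797
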