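import Groth.Statements.S9798
import Mathlib
-- import your own Groth.Agent.* helpers here

set_option autoImplicit false
set_option backward.isDefEq.respectTransparency false
universe u
open CategoryTheory AlgebraicGeometry TopologicalSpace
open Props

open CategoryTheory CategoryTheory.Limits AlgebraicGeometry
namespace Groth.Agent.S9798

/-- A point of a locally Noetherian scheme has local dimension zero exactly when it is isolated. -/
theorem result (X : Scheme.{u}) [IsLocallyNoetherian X] (x : X) :
    FlatMor.localDim X x = 0 ↔ IsOpen ({x} : Set X) := by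
  constructor
  · intro h
    obtain ⟨U, hU⟩ : ∃ U : {U : TopologicalSpace.Opens X // x ∈ U}, topologicalKrullDim (U.1 : Set X) ≤ 0 := by
      by_contra hne
      push_neg at hne
      have : (1 : WithBot ℕ∞) ≤ FlatMor.localDim X x := le_iInf fun U =>
        not_lt.1 fun hlt => (hne U).not_ge (ENat.WithBot.lt_add_one_iff.1 (by simpa using hlt))
      rw [h] at this
      exact absurd this (by simp)
    obtain ⟨W, hW, hxW, hWU⟩ := exists_isAffineOpen_mem_and_subset (X := X) (U := U.1) (x := x) U.2
    haveI : IsNoetherianRing Γ(X, W) := IsLocallyNoetherian.component_noetherian ⟨W, hW⟩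
    haveI : IsAffine W.toScheme := hW
    have hd : ringKrullDim Γ(X, W) ≤ 0 := by
      rw [← PrimeSpectrum.topologicalKrullDim_eq_ringKrullDim]
      refine le_trans ?_ hU
      refine le_trans (hW.fromSpec.isEmbedding.codRestrict (U.1 : Set X) (fun p => hWU (hW.range_fromSpec.le ⟨p, rfl⟩))).isInducing.topologicalKrullDim_le le_rfl
    haveI : Ring.KrullDimLE 0 Γ(X, W) := (Ring.krullDimLE_iff).2 hd
    haveI : IsArtinianRing Γ(X, W) := isArtinianRing_iff_isNoetherianRing_krullDimLE_zero.2 ⟨inferInstance, inferInstance⟩
    have h1 : IsOpen ({hW.primeIdealOf ⟨x, hxW⟩} : Set (PrimeSpectrum Γ(X, W))) := isOpen_discrete _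
    have h2 := hW.fromSpec.isOpenEmbedding.isOpenMap _ h1
    rw [Set.image_singleton, hW.fromSpec_primeIdealOf] at h2
    exact h2
  · intro h
    refine le_antisymm ((iInf_le _ ⟨⟨{x}, h⟩, rfl⟩).trans ?_) (le_iInf fun U => ?_)
    · haveI : Subsingleton ({x} : Set X) := by infer_instance
      haveI : Subsingleton (TopologicalSpace.IrreducibleCloseds ({x} : Set X)) := ⟨fun a b => by
        ext z
        obtain ⟨za, hza⟩ := a.isIrreducible'.1
        obtain ⟨zb, hzb⟩ := b.isIrreducible'.1
        obtain rfl := Subsingleton.elim z za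
        obtain rfl := Subsingleton.elim z zb
        exact ⟨fun _ => hzb, fun _ => hza⟩⟩
      exact Order.krullDim_nonpos_of_subsingleton
    · haveI : Nonempty (TopologicalSpace.IrreducibleCloseds (U.1 : Set X)) :=
        ⟨⟨closure {⟨x, U.2⟩}, isIrreducible_singleton.closure, isClosed_closure⟩⟩
      exact Order.krullDim_nonneg

end Groth.Agent.S9798
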