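import Groth.Statements.S9799
import Groth.Agent.Misc9.DomainStalk
import Groth.Agent.Misc9.CompOpen
-- import your own Groth.Agent.* helpers here

set_option autoImplicit false
set_option backward.isDefEq.respectTransparency false
universe u
open CategoryTheory AlgebraicGeometry TopologicalSpace
open Props

namespace Groth.Agent.S9799

/-- Let X be a normal scheme (all local rings are integrally closed domains) such that every
quasi-compact open subset has finitely many irreducible components. Then the irreducible components
of X are open and pairwise disjoint; hence X is the disjoint union of its irreducible components,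
each an open subscheme which is normal and integral. -/
theorem result (X : Scheme.{u})
    (hfin : ∀ U : X.Opens, IsCompact (U : Set X) → (irreducibleComponents ↥U).Finite)
    (hN : Pi1.IsNormalScheme X) :
    (∀ Z ∈ irreducibleComponents X, IsOpen Z) ∧
      ∀ Z ∈ irreducibleComponents X, ∀ Z' ∈ irreducibleComponents X, Z ≠ Z' → Disjoint Z Z' := by
  have h : ∀ x : X, (nilradical (X.presheaf.stalk x)).IsPrime := fun x => by
    haveI := (hN x).1
    exact Misc9.DomainStalk.nilradical_prime_of_isDomain _
  have hd : (irreducibleComponents (X : Type u)).PairwiseDisjoint id := fun Z hZ Z' hZ' hne =>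
    Set.disjoint_left.2 fun x hx hx' => hne (by
      rw [Misc9.DomainStalk.component_eq x (h x) Z hZ hx, Misc9.DomainStalk.component_eq x (h x) Z' hZ' hx'])
  refine ⟨Misc9.CompOpen.isOpen_of_disjoint (fun x => ?_) hd, fun Z hZ Z' hZ' hne => hd hZ hZ' hne⟩
  obtain ⟨U, hU, hxU, -⟩ := exists_isAffineOpen_mem_and_subset (X := X) (U := ⊤) (x := x) trivial
  exact ⟨U, U.2, hxU, hfin U hU.isCompact⟩

end Groth.Agent.S9799
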