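import Groth.Statements.S9800
import Groth.Agent.Misc9.SpecField
import Groth.Agent.HensPoint.Normal
import Mathlib
-- import your own Groth.Agent.* helpers here

set_option autoImplicit false
set_option backward.isDefEq.respectTransparency false
universe u
open CategoryTheory AlgebraicGeometry TopologicalSpace
open Props

open CategoryTheory CategoryTheory.Limits AlgebraicGeometry
namespace Groth.Agent.S9800

/-- A locally Noetherian normal scheme of dimension at most one is regular, that is, all of its local
rings are regular local rings. -/
theorem result (X : Scheme.{u})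
    [IsLocallyNoetherian X] (hN : Pi1.IsNormalScheme X) (hd : topologicalKrullDim X ≤ 1) (x : X) :
    IsRegularLocalRing (X.presheaf.stalk x) := by
  obtain ⟨hd', hic⟩ := hN x
  have hdim : ringKrullDim (X.presheaf.stalk x) ≤ 1 := by
    refine le_trans ?_ hd
    rw [← PrimeSpectrum.topologicalKrullDim_eq_ringKrullDim]
    exact (X.fromSpecStalk x).isEmbedding.isInducing.topologicalKrullDim_le
  haveI : Ring.KrullDimLE 1 (X.presheaf.stalk x) := (Ring.krullDimLE_iff).2 hdim
  by_cases hf : IsField (X.presheaf.stalk x)
  · letI := hf.toField
    infer_instance
  · haveI : Ring.DimensionLEOne (X.presheaf.stalk x) :=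
      ⟨fun {I} hI hI' => Ring.krullDimLE_one_iff_of_isPrime_bot.1 inferInstance I hI hI'⟩
    haveI : IsDedekindDomain (X.presheaf.stalk x) := { }
    infer_instance

end Groth.Agent.S9800
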