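import Groth.Statements.S9807
import Mathlib
import Groth.Agent.RegularLocal.GlobalDim
import Groth.Agent.EGA43.LocClosed
-- import your own Groth.Agent.* helpers here

set_option autoImplicit false
universe u
open CategoryTheory AlgebraicGeometry TopologicalSpace
open Props

namespace Groth.Agent.S9807

/-- A locally Noetherian scheme is regular (all local rings regular) as soon as its local rings at
closed points are regular, and conversely. -/
theorem result (X : Scheme.{u}) [IsLocallyNoetherian X] :
    (∀ x : X, IsRegularLocalRing (X.presheaf.stalk x)) ↔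
      ∀ x : X, IsClosed ({x} : Set X) → IsRegularLocalRing (X.presheaf.stalk x) := by
  refine ⟨fun h x _ => h x, fun h x => ?_⟩
  obtain ⟨z, hz, hzc⟩ := Groth.Agent.EGA43.LocClosed.exists_closedPoint (X := X) (Z := closure {x}) isClosed_closure
    ⟨x, subset_closure rfl⟩
  have hxz : x ⤳ z := specializes_iff_mem_closure.mpr hz
  obtain ⟨U, hU, hzU, -⟩ := exists_isAffineOpen_mem_and_subset (X := X) (x := z) (U := ⊤) trivial
  have hxU : x ∈ U := hxz.mem_open U.2 hzU
  haveI := hU.isLocalization_stalk ⟨x, hxU⟩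
  haveI := hU.isLocalization_stalk ⟨z, hzU⟩
  haveI := h z hzc
  algebraize_only [(X.presheaf.stalkSpecializes hxz).hom]
  letI aX : Algebra Γ(X, U) (X.presheaf.stalk x) := X.presheaf.algebra_section_stalk ⟨x, hxU⟩
  letI aZ : Algebra Γ(X, U) (X.presheaf.stalk z) := X.presheaf.algebra_section_stalk ⟨z, hzU⟩
  haveI : IsScalarTower Γ(X, U) (X.presheaf.stalk z) (X.presheaf.stalk x) := by
    refine IsScalarTower.of_algebraMap_eq' ?_
    exact congrArg CommRingCat.Hom.hom
      (TopCat.Presheaf.germ_stalkSpecializes (F := X.presheaf) (hy := hzU) hxz).symm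
  have hle : (hU.primeIdealOf ⟨z, hzU⟩).asIdeal.primeCompl ≤ (hU.primeIdealOf ⟨x, hxU⟩).asIdeal.primeCompl := by
    intro a ha
    have h1 : IsUnit (algebraMap Γ(X, U) (X.presheaf.stalk z) a) :=
      IsLocalization.map_units (X.presheaf.stalk z) ⟨a, ha⟩
    have h2 := h1.map (algebraMap (X.presheaf.stalk z) (X.presheaf.stalk x))
    rw [← IsScalarTower.algebraMap_apply] at h2
    exact (IsLocalization.AtPrime.isUnit_to_map_iff (X.presheaf.stalk x) _ a).mp h2
  haveI := IsLocalization.isLocalization_of_submonoid_le (X.presheaf.stalk z) (X.presheaf.stalk x) _ _ hle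
  let q : Ideal (X.presheaf.stalk z) :=
    (IsLocalRing.maximalIdeal (X.presheaf.stalk x)).comap (algebraMap (X.presheaf.stalk z) (X.presheaf.stalk x))
  haveI : IsLocalization.AtPrime (X.presheaf.stalk x) q := by
    refine IsLocalization.isLocalization_of_is_exists_mul_mem (X.presheaf.stalk x) ((hU.primeIdealOf ⟨x, hxU⟩).asIdeal.primeCompl.map (algebraMap Γ(X, U) (X.presheaf.stalk z))) q.primeCompl ?_ ?_
    · rintro a ⟨b, hb, rfl⟩
      intro hb'
      have hu := IsLocalization.map_units (M := (hU.primeIdealOf ⟨x, hxU⟩).asIdeal.primeCompl) (X.presheaf.stalk x) ⟨b, hb⟩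
      rw [IsScalarTower.algebraMap_apply Γ(X, U) (X.presheaf.stalk z)] at hu
      exact ((IsLocalRing.mem_maximalIdeal _).mp hb') hu
    · intro a
      obtain ⟨⟨b, s⟩, hbs⟩ := IsLocalization.surj (hU.primeIdealOf ⟨z, hzU⟩).asIdeal.primeCompl (a : X.presheaf.stalk z)
      refine ⟨algebraMap Γ(X, U) _ s, b, ?_, ?_⟩
      · intro hb
        have hu : IsUnit (algebraMap Γ(X, U) (X.presheaf.stalk x) b) := by
          rw [IsScalarTower.algebraMap_apply Γ(X, U) (X.presheaf.stalk z), ← hbs, map_mul]
          refine IsUnit.mul ?_ ((IsLocalization.map_units _ s).map _)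
          exact not_not.mp fun hn => a.2 ((IsLocalRing.mem_maximalIdeal _).mpr hn)
        exact ((IsLocalization.AtPrime.isUnit_to_map_iff (X.presheaf.stalk x) _ b).mp hu) hb
      · rw [mul_comm]; exact hbs.symm
  haveI := Groth.Agent.RegularLocal.GlobalDim.isRegularLocalRing_localization (R := X.presheaf.stalk z) q
  exact IsRegularLocalRing.of_ringEquiv (IsLocalization.algEquiv q.primeCompl (Localization.AtPrime q) (X.presheaf.stalk x)).toRingEquiv

end Groth.Agent.S9807
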