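import Groth.Statements.S9812
import Mathlib.RingTheory.IntegralClosure.IntegrallyClosed
import Mathlib.RingTheory.LocalRing.RingHom.Basic

set_option autoImplicit false
universe u
open CAlg2

namespace Groth.Agent.S9812

/-- At the level of the local ring: an integrally closed local domain is geometrically unibranch.
Consequently a normal scheme is geometrically unibranch. -/
theorem result (A : Type u) [CommRing A] [IsLocalRing A]
    [IsDomain A] [IsIntegrallyClosed A] : CAlg2.IsGeomUnibranch A := by
  let e : A ≃+* CAlg2.red A := RingEquiv.ofBijective (Ideal.Quotient.mk (nilradical A))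
    ⟨fun x y h => by
      have := Ideal.Quotient.eq.mp h
      rwa [nilradical_eq_zero, Submodule.zero_eq_bot, Ideal.mem_bot, sub_eq_zero] at this, Ideal.Quotient.mk_surjective⟩
  have hd : IsDomain (CAlg2.red A) := MulEquiv.isDomain A e.symm.toMulEquiv
  have : IsIntegrallyClosed (CAlg2.red A) := IsIntegrallyClosed.of_equiv e
  have hsurj : Function.Surjective ((algebraMap (CAlg2.red A) (CAlg2.normRed A)).comp e.toRingHom) := fun x => by
    obtain ⟨y, hy⟩ := IsIntegrallyClosed.isIntegral_iff.mp (x.2 : IsIntegral (CAlg2.red A) x.1)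
    obtain ⟨a, rfl⟩ := e.surjective y
    exact ⟨a, Subtype.ext hy⟩
  have : Nontrivial (CAlg2.normRed A) :=
    (Function.Injective.nontrivial (f := algebraMap (CAlg2.red A) (CAlg2.normRed A))
      fun x y h => IsFractionRing.injective (CAlg2.red A) (FractionRing (CAlg2.red A)) (congrArg Subtype.val h))
  refine ⟨⟨hd, IsLocalRing.of_surjective' _ hsurj⟩, fun m' _ => ?_⟩
  intro x
  obtain ⟨y, rfl⟩ := Ideal.Quotient.mk_surjective x
  obtain ⟨a, rfl⟩ := hsurj y
  exact ⟨0, a, by rw [pow_zero, pow_one]; rfl⟩

end Groth.Agent.S9812
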