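import Groth.Statements.S9822
import Mathlib.AlgebraicGeometry.Morphisms.UniversallyClosed
import Mathlib.AlgebraicGeometry.Morphisms.Separated
import Mathlib.AlgebraicGeometry.Morphisms.Immersion
import Mathlib.AlgebraicGeometry.Morphisms.FiniteType
import Mathlib.AlgebraicGeometry.Morphisms.QuasiSeparated
import Mathlib.AlgebraicGeometry.Noetherian
import Mathlib.AlgebraicGeometry.Limits
import Mathlib.AlgebraicGeometry.ValuativeCriterion
import Mathlib.AlgebraicGeometry.PullbackCarrier
import Mathlib.AlgebraicGeometry.FunctionField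
import Mathlib.Topology.Algebra.ClopenNhdofOne
import Mathlib.RingTheory.Ideal.Height
import Mathlib.RingTheory.Ideal.KrullsHeightTheorem

set_option autoImplicit false
universe u
open CategoryTheory CategoryTheory.Limits AlgebraicGeometry TopologicalSpace Opposite
open Props

namespace Groth.Agent.S9822
open CategoryTheory CategoryTheory.Limits AlgebraicGeometry TopologicalSpace

/-- A scheme is irreducible if and only if it is nonempty and every nonempty affine open subset is
irreducible. -/
theorem result (X : Scheme.{u}) :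
    IrreducibleSpace X ↔ Nonempty X ∧ ∀ U : X.Opens, IsAffineOpen U → (U : Set X).Nonempty → IsIrreducible (U : Set X) := by
  constructor
  · intro h
    exact ⟨inferInstance, fun U _ hU => ⟨hU, (PreirreducibleSpace.isPreirreducible_univ).open_subset U.2 (Set.subset_univ _)⟩⟩
  · rintro ⟨hne, h⟩
    have : PreirreducibleSpace X := by
      refine ⟨fun u v hu hv ⟨a, _, ha⟩ ⟨b, _, hb⟩ => ?_⟩
      by_contra hdis
      rw [Set.univ_inter, Set.not_nonempty_iff_eq_empty] at hdis
      obtain ⟨_, ⟨U, hU, rfl⟩, haU, hUu⟩ := X.isBasis_affineOpens.exists_subset_of_mem_open ha hu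
      obtain ⟨_, ⟨V, hV, rfl⟩, hbV, hVv⟩ := X.isBasis_affineOpens.exists_subset_of_mem_open hb hv
      have hd : Disjoint U V := by
        rw [← Opens.coe_disjoint, Set.disjoint_iff_inter_eq_empty]
        exact Set.subset_eq_empty (Set.inter_subset_inter hUu hVv) hdis
      have hi := h _ (hU.sup_of_disjoint hV hd) ⟨a, Or.inl haU⟩
      obtain ⟨z, -, hzU, hzV⟩ := hi.2 U V U.2 V.2 ⟨a, Or.inl haU, haU⟩ ⟨b, Or.inr hbV, hbV⟩
      exact (Set.disjoint_left.mp (Opens.coe_disjoint.mpr hd)) hzU hzV
    exact { this with toNonempty := hne }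

end Groth.Agent.S9822
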