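import Groth.Statements.S9827
import Groth.Agent.ModStalk.FPSections
import Groth.Agent.ModStalk.FiniteCover

set_option autoImplicit false
universe u
open CategoryTheory CategoryTheory.Limits AlgebraicGeometry TopologicalSpace Opposite
open Props

namespace Groth.Agent.S9827

theorem fp_iff_of_bijective {R A : Type u} [CommRing R] [CommRing A] [Algebra R A]
    (hb : Function.Bijective (algebraMap R A)) (N : Type u) [AddCommGroup N] [Module R N] [Module A N]
    [IsScalarTower R A N] : Module.FinitePresentation A N ↔ Module.FinitePresentation R N := by
  let e : R ≃ₗ[R] A := LinearEquiv.ofBijective (Algebra.linearMap R A) hb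
  have : Module.FinitePresentation R A := Module.FinitePresentation.of_equiv e
  refine ⟨fun h => Module.FinitePresentation.trans (R := R) (M := N) A, fun h => ?_⟩
  have : Module.Finite A N := Module.Finite.of_restrictScalars_finite R A N
  obtain ⟨n, f, hf⟩ := Module.Finite.exists_fin' A N
  refine Module.finitePresentation_of_surjective f hf ?_
  have h1 : (LinearMap.ker (f.restrictScalars R)).FG := Module.FinitePresentation.fg_ker _ hf
  rw [← Module.Finite.iff_fg] at h1 ⊢
  have : Module.Finite R (LinearMap.ker f) := h1
  exact Module.Finite.of_restrictScalars_finite R A _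

/-- The sheaf associated to a module over a ring is of finite presentation on the spectrum if and only
if the module is finitely presented. -/
theorem result (R : CommRingCat.{u}) (M : ModuleCat.{u} R) :
    CohB1.IsFP (tilde M) ↔ Module.FinitePresentation R M := by
  have hb : Function.Bijective (algebraMap R Γ(Spec R, (⊤ : (Spec R).Opens))) :=
    (Scheme.ΓSpecIso R).symm.commRingCatIsoToRingEquiv.bijective
  have key : Module.FinitePresentation Γ(Spec R, (⊤ : (Spec R).Opens)) Γ(tilde M, (⊤ : (Spec R).Opens)) ↔
      Module.FinitePresentation R M := by
    rw [fp_iff_of_bijective hb]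
    exact LinearEquiv.finitePresentation_iff (asIso (tilde.toOpen M ⊤)).toLinearEquiv.symm
  refine ⟨fun h => ?_, fun h => ?_⟩
  · have : SheafOfModules.IsFinitePresentation (R := (Spec R).ringCatSheaf) (tilde M) := h
    exact key.mp (Groth.Agent.ModStalk.finitePresentation_sections (tilde M) (isAffineOpen_top _))
  · exact Groth.Agent.ModStalk.isFinitePresentation_of_cover (tilde M) (fun U => U = ⊤)
      (fun x => ⟨⊤, isAffineOpen_top _, trivial, rfl⟩) fun U _ hU => hU ▸ key.mpr h

end Groth.Agent.S9827
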