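import Groth.Statements.S9830
import Mathlib.AlgebraicGeometry.Morphisms.UniversallyClosed
import Mathlib.AlgebraicGeometry.Morphisms.Separated
import Mathlib.AlgebraicGeometry.Morphisms.Immersion
import Mathlib.AlgebraicGeometry.Morphisms.FiniteType
import Mathlib.AlgebraicGeometry.Morphisms.QuasiSeparated
import Mathlib.AlgebraicGeometry.Noetherian
import Mathlib.AlgebraicGeometry.Limits
import Mathlib.AlgebraicGeometry.ValuativeCriterion
import Mathlib.AlgebraicGeometry.PullbackCarrier
import Mathlib.AlgebraicGeometry.FunctionField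
import Mathlib.Topology.Algebra.ClopenNhdofOne
import Mathlib.RingTheory.Ideal.Height
import Mathlib.RingTheory.Ideal.KrullsHeightTheorem

set_option autoImplicit false
universe u
open CategoryTheory AlgebraicGeometry TopologicalSpace
open Props

namespace Groth.Agent.S9830
open CategoryTheory CategoryTheory.Limits AlgebraicGeometry TopologicalSpace

/-- A scheme whose underlying space is Hausdorff is separated. (The published statement assumes X of
dimension zero; a Hausdorff scheme always has dimension at most zero, so this row omits that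
hypothesis.) -/
theorem result (X : Scheme.{u}) [T2Space X] : X.IsSeparated := by
  have hqs : QuasiSeparatedSpace X := ⟨fun U V _ hUc _ hVc => hUc.inter hVc⟩
  have : QuasiSeparated (terminal.from X) := inferInstance
  refine ⟨IsSeparated.of_valuativeCriterion _ fun S => ⟨fun ⟨l₁, h₁, _⟩ ⟨l₂, h₂, _⟩ => ?_⟩⟩
  congr
  let pK : Spec (.of S.K) := (⟨⊥, Ideal.isPrime_bot⟩ : PrimeSpectrum S.K)
  obtain ⟨U, hU, hxU⟩ : ∃ U : X.Opens, IsAffineOpen U ∧ S.i₁ pK ∈ U := by
    obtain ⟨_, ⟨U, hU, rfl⟩, hxU, -⟩ := X.isBasis_affineOpens.exists_subset_of_mem_open (Set.mem_univ (S.i₁ pK)) isOpen_univ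
    exact ⟨U, hU, hxU⟩
  have hin : ∀ l : Spec (.of S.R) ⟶ X, Spec.map (CommRingCat.ofHom (algebraMap S.R S.K)) ≫ l = S.i₁ → Set.range l ⊆ U := by
    rintro l hl _ ⟨r, rfl⟩
    let g₀ : Spec (.of S.R) := Spec.map (CommRingCat.ofHom (algebraMap S.R S.K)) pK
    have hg : g₀ ⤳ r := by
      refine (PrimeSpectrum.le_iff_specializes (R := S.R) g₀ r).mp ?_
      change Ideal.comap (algebraMap S.R S.K) ⊥ ≤ r.asIdeal
      rw [← RingHom.ker_eq_comap_bot]
      intro z hz
      rw [RingHom.mem_ker] at hz
      have h0 : algebraMap S.R S.K z = algebraMap S.R S.K 0 := by rw [map_zero]; exact hz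
      rw [IsFractionRing.injective S.R S.K h0]; exact zero_mem _
    have := (hg.map l.continuous).eq
    rw [← this, ← Scheme.Hom.comp_apply, hl]; exact hxU
  rw [← IsOpenImmersion.lift_fac U.ι l₁ (by simpa using hin l₁ h₁), ← IsOpenImmersion.lift_fac U.ι l₂ (by simpa using hin l₂ h₂)]
  congr 1
  have : IsAffine U.toScheme := hU
  have hv : ValuativeCriterion.Uniqueness (terminal.from U.toScheme) := IsSeparated.valuativeCriterion _
  let S' : ValuativeCommSq (terminal.from U.toScheme) :=
    { R := S.R, K := S.K, i₁ := Spec.map (CommRingCat.ofHom (algebraMap S.R S.K)) ≫ IsOpenImmersion.lift U.ι l₁ (by simpa using hin l₁ h₁), i₂ := terminal.from _, commSq := ⟨terminal.hom_ext _ _⟩ }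
  have := (hv S').elim
    ⟨IsOpenImmersion.lift U.ι l₁ (by simpa using hin l₁ h₁), rfl, terminal.hom_ext _ _⟩
    ⟨IsOpenImmersion.lift U.ι l₂ (by simpa using hin l₂ h₂), by rw [← cancel_mono U.ι]; simp [S', h₁, h₂], terminal.hom_ext _ _⟩
  exact congrArg CommSq.LiftStruct.l this

end Groth.Agent.S9830
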