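import Groth.Statements.S9839
import Groth.Agent.FibreDepth.FlatLocusModule
import Mathlib.AlgebraicGeometry.Sites.Fpqc
import Mathlib.AlgebraicGeometry.Cover.QuasiCompact

set_option autoImplicit false
set_option backward.isDefEq.respectTransparency false
set_option linter.style.haveILetI false
open CategoryTheory CategoryTheory.Limits AlgebraicGeometry Opposite
universe u
open Desc

namespace Groth.Agent.S9839

/-- Let f i : T i ⟶ T be an fpqc covering family of a scheme T (a family in the fpqc precoverage) and W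
i ⊆ T i open subsets such that for all i, j the inverse images of W i and W j under the two
projections of T i ×_T T j coincide. Then there is a unique open subset W ⊆ T with (f i)⁻¹(W) = W i
for every i. -/
theorem result {ι : Type u} {T : Scheme.{u}} {Ti : ι → Scheme.{u}}
    (f : ∀ i, Ti i ⟶ T) (hf : Presieve.ofArrows Ti f ∈ Scheme.fpqcPrecoverage T)
    (W : ∀ i, (Ti i).Opens)
    (hW : ∀ i j, (pullback.fst (f i) (f j)) ⁻¹ᵁ (W i) = (pullback.snd (f i) (f j)) ⁻¹ᵁ (W j)) :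
    ∃! V : T.Opens, ∀ i, (f i) ⁻¹ᵁ V = W i := by
  classical
  let E : PreZeroHypercover.{u} T := { I₀ := ι, X := Ti, f := f }
  have hqc : QuasiCompactCover E := Scheme.presieve₀_mem_qcPrecoverage_iff.mp hf.1
  obtain ⟨hsurj, hflat⟩ := (Scheme.ofArrows_mem_precoverage_iff (P := @Flat) (X := Ti) (f := f)).mp hf.2
  let V₀ : Set T := ⋃ i, f i '' (W i : Set (Ti i))
  have hpre : ∀ i, f i ⁻¹' V₀ = (W i : Set (Ti i)) := by
    intro i
    ext x
    constructor
    · intro hx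
      obtain ⟨j, w, hw, hwx⟩ := Set.mem_iUnion.mp hx
      obtain ⟨z, hz1, hz2⟩ := Scheme.Pullback.exists_preimage_pullback (f := f i) (g := f j) x w hwx.symm
      have hzj : z ∈ (pullback.snd (f i) (f j)) ⁻¹ᵁ (W j) := by
        show pullback.snd (f i) (f j) z ∈ W j
        rw [hz2]; exact hw
      rw [← hW i j] at hzj
      have : pullback.fst (f i) (f j) z ∈ W i := hzj
      rwa [hz1] at this
    · intro hx
      exact Set.mem_iUnion.mpr ⟨i, x, hx, rfl⟩
  have hgen : StableUnderGeneralization V₀ := by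
    intro y y' hy' hy
    obtain ⟨j, w, hw, rfl⟩ := Set.mem_iUnion.mp hy
    haveI := hflat j
    obtain ⟨w', hw'w, hw'⟩ := Flat.generalizingMap (f j) hy'
    exact Set.mem_iUnion.mpr ⟨j, w', hw'w.mem_open (W j).2 hw, hw'⟩
  have hopen : IsOpen V₀ := by
    rw [isOpen_iff_forall_mem_open]
    intro y hy
    obtain ⟨O, hO, hyO, -⟩ := exists_isAffineOpen_mem_and_subset (X := T) (U := ⊤) (x := y) trivial
    obtain ⟨t, ht, W₀, hW'c, hW'e⟩ := hO.isCompactOpenCovered E
    let W' : ∀ i, i ∈ t → (Ti i).Opens := W₀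
    have e : ∀ i (hi : i ∈ t), W' i hi ≤ (f i) ⁻¹ᵁ O := fun i hi x hx =>
      hW'e.le (Set.mem_iUnion₂.mpr ⟨i, hi, x, hx, rfl⟩)
    let q : ∀ i : t, (W' i.1 i.2).toScheme ⟶ O.toScheme := fun i => (f i.1).resLE O (W' i.1 i.2) (e i.1 i.2)
    have hq : ∀ (i : t) (x : (W' i.1 i.2).toScheme), O.ι (q i x) = f i.1 ((W' i.1 i.2).ι x) := fun i x =>
      congr($(Scheme.Hom.resLE_comp_ι (f i.1) (e i.1 i.2)) x)
    let Z : ∀ i : t, Set (W' i.1 i.2).toScheme := fun i => ((W' i.1 i.2).ι ⁻¹' (W i.1 : Set (Ti i.1)))ᶜ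
    let C : Set O.toScheme := ⋃ i : t, closure (q i '' Z i)
    haveI := ht.to_subtype
    have hC : IsClosed C := isClosed_iUnion_of_finite fun i => isClosed_closure
    haveI : IsAffine O.toScheme := hO
    have hCV : ∀ c : O.toScheme, O.ι c ∈ V₀ → c ∉ C := by
      intro c hc hcC
      obtain ⟨i, hi⟩ := Set.mem_iUnion.mp hcC
      haveI : CompactSpace (W' i.1 i.2).toScheme := isCompact_iff_compactSpace.1 (hW'c i.1 i.2)
      obtain ⟨x, hxZ, hx⟩ := Groth.Agent.FibreDepth.FlatLocusModule.exists_specializes_image (q i)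
        (((W i.1).2.preimage (W' i.1 i.2).ι.continuous).isClosed_compl) hi
      have h1 := hgen (hx.map O.ι.continuous) hc
      rw [hq] at h1
      exact hxZ ((hpre i.1).subset h1)
    refine ⟨O.ι '' Cᶜ, ?_, O.ι.isOpenEmbedding.isOpenMap _ hC.isOpen_compl, ⟨⟨y, hyO⟩, hCV _ hy, rfl⟩⟩
    rintro _ ⟨c, hc, rfl⟩
    obtain ⟨i, hi, x, hx, hxc⟩ := Set.mem_iUnion₂.mp (hW'e.ge c.2)
    let x' : (W' i hi).toScheme := ⟨x, hx⟩
    have hqx : q ⟨i, hi⟩ x' = c := O.ι.isOpenEmbedding.injective ((hq ⟨i, hi⟩ x').trans hxc)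
    by_contra hV
    refine hc (Set.mem_iUnion.mpr ⟨⟨i, hi⟩, subset_closure ⟨x', fun hxW => hV ?_, hqx⟩⟩)
    exact Set.mem_iUnion.mpr ⟨i, x, hxW, hxc⟩
  refine ⟨⟨V₀, hopen⟩, fun i => TopologicalSpace.Opens.ext (hpre i), fun V hV => ?_⟩
  refine TopologicalSpace.Opens.ext (Set.ext fun y => ⟨fun hy => ?_, fun hy => ?_⟩)
  · obtain ⟨i, x, rfl⟩ := hsurj y
    exact Set.mem_iUnion.mpr ⟨i, x, (congrArg SetLike.coe (hV i)).subset hy, rfl⟩
  · obtain ⟨i, x, hx, rfl⟩ := Set.mem_iUnion.mp hy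
    exact (congrArg SetLike.coe (hV i)).symm.subset hx

end Groth.Agent.S9839
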