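import Groth.Statements.S9843
import Groth.Agent.Fpqc.Fppf
import Mathlib.AlgebraicGeometry.Morphisms.FlatDescent
import Mathlib.AlgebraicGeometry.Noetherian
import Mathlib.AlgebraicGeometry.Sites.Fpqc
import Mathlib.AlgebraicGeometry.Morphisms.UniversallyOpen
import Mathlib.RingTheory.Flat.FaithfullyFlat.Algebra

set_option autoImplicit false
open CategoryTheory CategoryTheory.Limits AlgebraicGeometry Opposite
universe u
open Desc

namespace Groth.Agent.S9843
open CategoryTheory CategoryTheory.Limits AlgebraicGeometry TopologicalSpace
set_option backward.isDefEq.respectTransparency.types false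

/-- Being dominant is fppf local on the base: for every fppf covering family Y i ⟶ Y (flat, locally of
finite presentation, jointly surjective), a morphism X ⟶ Y is dominant if and only if all its base
changes X ×_Y Y i ⟶ Y i are. -/
theorem result :
    MorphismProperty.IsLocalAtTarget (@IsDominant : MorphismProperty Scheme.{u}) Scheme.fppfPrecoverage := by
  refine { pullbackSnd := fun {X Y f R U g} hR hg hf _ => ?_, of_forall_pullbackSnd := fun {X Y f R} hR h => ?_ }
  · have := (hR.2 hg).1
    have := (hR.2 hg).2
    rw [isDominant_iff, DenseRange, Scheme.Pullback.range_snd]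
    exact hf.denseRange.preimage g.isOpenMap
  · rw [isDominant_iff, DenseRange, dense_iff_closure_eq, Set.eq_univ_iff_forall]
    intro x
    obtain ⟨T, g, hg, t, rfl⟩ := Groth.Agent.Fpqc.Fppf.exists_mem hR x
    have hd := (h hg).denseRange t
    rw [Scheme.Pullback.range_snd] at hd
    exact g.continuous.closure_preimage_subset _ hd

end Groth.Agent.S9843
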