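import Groth.Statements.S9845
import Groth.Agent.Fpqc.Fppf
import Mathlib.AlgebraicGeometry.Morphisms.FlatDescent
import Mathlib.AlgebraicGeometry.Noetherian
import Mathlib.AlgebraicGeometry.Sites.Fpqc
import Mathlib.AlgebraicGeometry.Morphisms.UniversallyOpen
import Mathlib.RingTheory.Flat.FaithfullyFlat.Algebra

set_option autoImplicit false
open CategoryTheory CategoryTheory.Limits AlgebraicGeometry Opposite
universe u
open Desc

namespace Groth.Agent.S9845
open CategoryTheory CategoryTheory.Limits AlgebraicGeometry TopologicalSpace
set_option backward.isDefEq.respectTransparency.types false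

/-- Being an open morphism (open underlying map) is fppf local on the source: for every fppf covering
family g i : X i ⟶ X, a morphism f : X ⟶ Y has open underlying map if and only if every composite g
i ≫ f does. -/
theorem result :
    MorphismProperty.IsLocalAtSource (topologically (fun f => IsOpenMap f) : MorphismProperty Scheme.{u})
      Scheme.fppfPrecoverage := by
  have : (topologically (fun f => IsOpenMap f) : MorphismProperty Scheme.{u}).RespectsIso :=
    topologically_respectsIso _ (fun f => f.isOpenMap) (fun f g hf hg => hg.comp hf)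
  refine { comp := fun {X Y f R} hR {U} g hg hf => (hf : IsOpenMap _).comp ?_, of_forall_comp := fun {X Y f R} hR h => ?_ }
  · have := (hR.2 hg).1
    have := (hR.2 hg).2
    exact g.isOpenMap
  · intro U hU
    rw [isOpen_iff_forall_mem_open]
    rintro _ ⟨x, hx, rfl⟩
    obtain ⟨T, g, hg, t, rfl⟩ := Groth.Agent.Fpqc.Fppf.exists_mem hR x
    refine ⟨(g ≫ f) '' (g ⁻¹' U), ?_, (h hg : IsOpenMap _) _ (hU.preimage g.continuous), ⟨t, hx, rfl⟩⟩
    rintro _ ⟨s, hs, rfl⟩
    exact ⟨g s, hs, rfl⟩

end Groth.Agent.S9845
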