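import Groth.Statements.S9846
import Groth.Agent.Fpqc.Fppf
import Mathlib.AlgebraicGeometry.Morphisms.FlatDescent
import Mathlib.AlgebraicGeometry.Noetherian
import Mathlib.AlgebraicGeometry.Sites.Fpqc
import Mathlib.AlgebraicGeometry.Morphisms.UniversallyOpen
import Mathlib.RingTheory.Flat.FaithfullyFlat.Algebra

set_option autoImplicit false
open CategoryTheory CategoryTheory.Limits AlgebraicGeometry Opposite
universe u
open Desc

namespace Groth.Agent.S9846
open CategoryTheory CategoryTheory.Limits AlgebraicGeometry TopologicalSpace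
set_option backward.isDefEq.respectTransparency.types false

/-- Being universally open is fppf local on the source: for every fppf covering family g i : X i ⟶ X, a
morphism f : X ⟶ Y is universally open if and only if every composite g i ≫ f is. -/
theorem result :
    MorphismProperty.IsLocalAtSource (@UniversallyOpen : MorphismProperty Scheme.{u}) Scheme.fppfPrecoverage := by
  refine { comp := fun {X Y f R} hR {U} g hg hf => ?_, of_forall_comp := fun {X Y f R} hR h => ⟨fun X' Y' i₁ i₂ f' hsq => ?_⟩ }
  · have := (hR.2 hg).1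
    have := (hR.2 hg).2
    have : UniversallyOpen g := inferInstance
    exact MorphismProperty.comp_mem @UniversallyOpen _ _ this hf
  · intro U hU
    rw [isOpen_iff_forall_mem_open]
    rintro _ ⟨x, hx, rfl⟩
    obtain ⟨T, g, hg, t, ht⟩ := Groth.Agent.Fpqc.Fppf.exists_mem hR (i₁ x)
    obtain ⟨z, hz, -⟩ := Scheme.Pullback.exists_preimage_pullback (f := i₁) (g := g) x t ht.symm
    have H : UniversallyOpen (pullback.fst i₁ g ≫ f') :=
      MorphismProperty.of_isPullback (P := @UniversallyOpen)
        (((IsPullback.of_hasPullback i₁ g).paste_horiz hsq).flip) (h hg)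
    refine ⟨(pullback.fst i₁ g ≫ f') '' (pullback.fst i₁ g ⁻¹' U), ?_,
      (pullback.fst i₁ g ≫ f').isOpenMap _ (hU.preimage (pullback.fst i₁ g).continuous),
      ⟨z, show pullback.fst i₁ g z ∈ U by rw [hz]; exact hx, by rw [Scheme.Hom.comp_apply, hz]⟩⟩
    rintro _ ⟨s, hs, rfl⟩
    exact ⟨pullback.fst i₁ g s, hs, rfl⟩

end Groth.Agent.S9846
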