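import Groth.Statements.S9871
import Groth.Agent.AlgSpTopo.SpProps
import Groth.Agent.AlgSpTopo.Separation

set_option autoImplicit false
set_option backward.isDefEq.respectTransparency false
universe u
open CategoryTheory CategoryTheory.Limits AlgebraicGeometry
open AlgSp

namespace Groth.Agent.S9871

/-- Let `s, t : R ⟶ U` be an etale equivalence relation on a scheme `U` over `S` and let `g : U' ⟶ U` be
an etale morphism over `S`. Let `s', t' : R' ⟶ U'` be the restriction to `U'`: `R'`, with `(t', s')`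
and `R' ⟶ R`, is the fibre product of `U' ×_S U'` and `R` over `U ×_S U`. Then `s', t'` is again an
etale equivalence relation. -/
theorem result (S : Scheme.{u}) {R U R' U' : Over S} (s t : R ⟶ U)
    (g : U' ⟶ U) (s' t' : R' ⟶ U') (r : R' ⟶ R)
    (hsq : IsPullback (prod.lift t' s') r (prod.map g g) (prod.lift t s))
    (h : AlgSp.IsEtaleEqvRel s t) [Etale g.left] :
    AlgSp.IsEtaleEqvRel s' t' := by
  have e1 : ∀ {T : Over S} (x : T ⟶ R'), x ≫ r ≫ t = (x ≫ t') ≫ g ∧ x ≫ r ≫ s = (x ≫ s') ≫ g := fun {T} x => by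
    have h1 := congrArg (fun m => x ≫ m ≫ prod.fst) hsq.w
    have h2 := congrArg (fun m => x ≫ m ≫ prod.snd) hsq.w
    simp at h1 h2
    exact ⟨by rw [← h1, Category.assoc], by rw [← h2, Category.assoc]⟩
  have mk : ∀ {T : Over S} (a b : T ⟶ U') (x : T ⟶ R), x ≫ t = a ≫ g → x ≫ s = b ≫ g →
      ∃ y : T ⟶ R', y ≫ r = x ∧ y ≫ t' = a ∧ y ≫ s' = b := fun {T} a b x ha hb => by
    obtain ⟨y, hy1, hy2⟩ := hsq.exists_lift (prod.lift a b) x (by apply prod.hom_ext <;> simp [ha, hb])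
    exact ⟨y, hy2, by simpa using congrArg (· ≫ prod.fst) hy1, by simpa using congrArg (· ≫ prod.snd) hy1⟩
  have inj : ∀ (T : Over S) (x x' : T ⟶ R'), x ≫ t' = x' ≫ t' → x ≫ s' = x' ≫ s' → x = x' := fun T x x' h1 h2 =>
    hsq.hom_ext (by apply prod.hom_ext <;> simp [h1, h2]) (h.injective T _ _
      (by simp only [Category.assoc]; rw [(e1 x).1, (e1 x').1, h1])
      (by simp only [Category.assoc]; rw [(e1 x).2, (e1 x').2, h2]))
  -- one projection at a time
  have key : ∀ (t s : R ⟶ U) (t' s' : R' ⟶ U'), Etale s.left → r ≫ t = t' ≫ g → r ≫ s = s' ≫ g →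
      (∀ {T : Over S} (a b : T ⟶ U') (x : T ⟶ R), x ≫ t = a ≫ g → x ≫ s = b ≫ g →
        ∃ y : T ⟶ R', y ≫ r = x ∧ y ≫ t' = a ∧ y ≫ s' = b) →
      (∀ (T : Over S) (x x' : T ⟶ R'), x ≫ t' = x' ≫ t' → x ≫ s' = x' ≫ s' → x = x') → Etale s'.left := by
    intro t s t' s' hs et es mk inj
    let m : R' ⟶ pullback s g := pullback.lift r s' es
    have ex : ∀ c : PullbackCone g (pullback.fst s g ≫ t), ∃ y : c.pt ⟶ R',
        y ≫ r = c.snd ≫ pullback.fst s g ∧ y ≫ t' = c.fst ∧ y ≫ s' = c.snd ≫ pullback.snd s g := fun c =>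
      mk _ _ _ (by rw [Category.assoc, c.condition]) (by rw [Category.assoc, pullback.condition, Category.assoc])
    choose yl y1 y2 y3 using ex
    have sq : IsPullback t' m g (pullback.fst s g ≫ t) := by
      refine IsPullback.of_isLimit' ⟨by simp [m, et]⟩ (PullbackCone.IsLimit.mk _ yl y2 (fun c => ?_) (fun c k h1 h2 => ?_))
      · apply pullback.hom_ext
        · simp [m, y1]
        · simp [m, y3]
      · refine inj _ _ _ (h1.trans (y2 c).symm) ?_
        rw [y3 c, ← h2, Category.assoc]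
        simp [m]
    have hm : Etale m.left := MorphismProperty.of_isPullback (P := @Etale) (sq.map (Over.forget S)) (inferInstance : Etale g.left)
    have hp : Etale (pullback.snd s g).left :=
      MorphismProperty.of_isPullback (P := @Etale) ((IsPullback.of_hasPullback s g).map (Over.forget S)) hs
    rw [show s' = m ≫ pullback.snd s g by simp [m]]
    exact MorphismProperty.comp_mem (W := @Etale) _ _ hm hp
  have et : r ≫ t = t' ≫ g := by simpa using (e1 (𝟙 R')).1
  have es : r ≫ s = s' ≫ g := by simpa using (e1 (𝟙 R')).2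
  refine ⟨⟨inj, fun T => ⟨fun a => ?_, fun {a b} hab => ?_, fun {a b c} hab hbc => ?_⟩⟩,
    key t s t' s' h.etale_left et es @mk inj,
    key s t s' t' h.etale_right es et (fun a b x ha hb => by
      obtain ⟨y, y1, y2, y3⟩ := mk b a x hb ha
      exact ⟨y, y1, y3, y2⟩) (fun T x x' h1 h2 => inj T x x' h2 h1)⟩
  · obtain ⟨x, x1, x2⟩ := (h.equivalence T).refl (a ≫ g)
    obtain ⟨y, -, y2, y3⟩ := mk a a x x1 x2
    exact ⟨y, y2, y3⟩
  · obtain ⟨y, rfl, rfl⟩ := hab
    obtain ⟨x, x1, x2⟩ := (h.equivalence T).symm ⟨y ≫ r, by rw [Category.assoc, (e1 y).1], by rw [Category.assoc, (e1 y).2]⟩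
    obtain ⟨z, -, z2, z3⟩ := mk _ _ x x1 x2
    exact ⟨z, z2, z3⟩
  · obtain ⟨y, rfl, rfl⟩ := hab
    obtain ⟨z, hz, rfl⟩ := hbc
    obtain ⟨x, x1, x2⟩ := (h.equivalence T).trans
      ⟨y ≫ r, by rw [Category.assoc, (e1 y).1], by rw [Category.assoc, (e1 y).2]⟩
      ⟨z ≫ r, by rw [Category.assoc, (e1 z).1, hz], by rw [Category.assoc, (e1 z).2]⟩
    obtain ⟨w, -, w2, w3⟩ := mk _ _ x x1 x2
    exact ⟨w, w2, w3⟩

end Groth.Agent.S9871
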