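import Groth.Statements.S9882
import Groth.Agent.AlgSpTopo.Diag

set_option autoImplicit false
set_option backward.isDefEq.respectTransparency false
universe u
open CategoryTheory CategoryTheory.Limits AlgebraicGeometry
open AlgSp

namespace Groth.Agent.S9882

/-- Let `X` be an algebraic space over `S` with diagonal `Δ : X ⟶ X × X` (representable by schemes).
Then, in the representable sense, `Δ` is locally of finite type, a monomorphism, separated, and
locally quasi-finite. (Mathlib's locally quasi-finite class has no finite-type clause; together with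
the first conjunct this is the usual notion.) -/
theorem result (S : Scheme.{u}) (X : AlgSp.Space S) :
    AlgSp.RepWith @LocallyOfFiniteType (Limits.diag X.obj) ∧
      AlgSp.RepWith (MorphismProperty.monomorphisms Scheme.{u}) (Limits.diag X.obj) ∧
      AlgSp.RepWith @IsSeparated (Limits.diag X.obj) ∧
      AlgSp.RepWith @LocallyQuasiFinite (Limits.diag X.obj) := by
  have key := fun {T V : Over S} {g : (yon S).obj T ⟶ X.obj ⨯ X.obj} {fst : (yon S).obj V ⟶ X.obj}
    {snd : V ⟶ T} (sq : IsPullback fst ((yon S).map snd) (Limits.diag X.obj) g) =>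
    AlgSpTopo.isEq_props X.property (AlgSpTopo.isEq_of_square_diag sq)
  exact ⟨⟨X.property.diag, fun _ _ _ _ _ sq => (key sq).1⟩, ⟨X.property.diag, fun _ _ _ _ _ sq => (key sq).2.1⟩,
    ⟨X.property.diag, fun _ _ _ _ _ sq => (key sq).2.2.1⟩, ⟨X.property.diag, fun _ _ _ _ _ sq => (key sq).2.2.2⟩⟩

end Groth.Agent.S9882
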