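import Groth.Statements.S9900
import Groth.Agent.AlgSpTopo.Diag

set_option autoImplicit false
set_option backward.isDefEq.respectTransparency false
universe u
open CategoryTheory CategoryTheory.Limits AlgebraicGeometry
open AlgSp

namespace Groth.Agent.S9900

/-- For a morphism of algebraic spaces the relative diagonal is representable by schemes, locally of
finite type, a monomorphism, separated and locally quasi-finite (each in the representable sense). -/
theorem result {S : Scheme.{u}} {X Y : AlgSp.Space S} (f : X ⟶ Y) :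
    AlgSp.Representable (pullback.diagonal f.hom) ∧
    AlgSp.RepWith @LocallyOfFiniteType (pullback.diagonal f.hom) ∧
    AlgSp.RepWith (MorphismProperty.monomorphisms Scheme.{u}) (pullback.diagonal f.hom) ∧
    AlgSp.RepWith @IsSeparated (pullback.diagonal f.hom) ∧
    AlgSp.RepWith (@LocallyQuasiFinite ⊓ @LocallyOfFiniteType) (pullback.diagonal f.hom) := by
  have hr := AlgSpTopo.representable_diagonal X.property f.hom
  have key := fun {T V : Over S} {g : (yon S).obj T ⟶ pullback f.hom f.hom} {fst : (yon S).obj V ⟶ X.obj}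
    {snd : V ⟶ T} (sq : IsPullback fst ((yon S).map snd) (pullback.diagonal f.hom) g) =>
    AlgSpTopo.isEq_props X.property (AlgSpTopo.isEq_of_square_diagonal sq)
  exact ⟨hr, ⟨hr, fun _ _ _ _ _ sq => (key sq).1⟩, ⟨hr, fun _ _ _ _ _ sq => (key sq).2.1⟩,
    ⟨hr, fun _ _ _ _ _ sq => (key sq).2.2.1⟩, ⟨hr, fun _ _ _ _ _ sq => ⟨(key sq).2.2.2, (key sq).1⟩⟩⟩

end Groth.Agent.S9900
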