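import Groth.Statements.S9902
import Groth.Agent.AlgSpTopo.RepPerm

set_option autoImplicit false
set_option backward.isDefEq.respectTransparency false
universe u
open CategoryTheory CategoryTheory.Limits AlgebraicGeometry
open AlgSp

namespace Groth.Agent.S9902

/-- Let s be a section of a morphism f : X -> T of algebraic spaces. Then s is representable by schemes
and, in the representable sense, a separated monomorphism that is locally of finite type and locally
quasi-finite; when f is separated s is a closed immersion, and when f is quasi-separated s is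
quasi-compact. (The published lemma also shows that s is an immersion when f is locally separated;
this row omits that clause.) -/
theorem result {S : Scheme.{u}} {X T : AlgSp.Space S} (f : X ⟶ T) (s : T ⟶ X)
    (hs : s ≫ f = 𝟙 T) :
    AlgSp.Representable s.hom ∧
    AlgSp.RepWith @LocallyOfFiniteType s.hom ∧
    AlgSp.RepWith (@LocallyQuasiFinite ⊓ @LocallyOfFiniteType) s.hom ∧
    AlgSp.RepWith @IsSeparated s.hom ∧
    AlgSp.RepWith (MorphismProperty.monomorphisms Scheme.{u}) s.hom ∧
    (AlgSp.IsSeparatedMor f.hom → AlgSp.RepWith @IsClosedImmersion s.hom) ∧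
    (AlgSp.IsQuasiSeparatedMor f.hom → AlgSp.RepWith @QuasiCompact s.hom) := by
  have hsf : s.hom ≫ f.hom = 𝟙 T.obj := congrArg (fun k => k.hom) hs
  have hid : ∀ (P : MorphismProperty Scheme.{u}) [P.ContainsIdentities] [P.RespectsIso],
      AlgSp.RepWith P (s.hom ≫ f.hom) := by
    intro P _ _
    rw [hsf]
    refine MorphismProperty.relative.of_exists fun U g => ?_
    exact ⟨U, g, 𝟙 U, IsPullback.of_vert_isIso ⟨by simp⟩, P.id_mem _⟩
  have htop : AlgSpTopo.DiagP (⊤ : MorphismProperty Scheme.{u}) f.hom := fun _ _ _ _ _ _ _ => trivial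
  have h1 := hid (MorphismProperty.isomorphisms Scheme.{u})
  have k2 : AlgSp.RepWith @LocallyOfFiniteType s.hom :=
    AlgSpTopo.repWith_cancel X.property h1 htop
      fun E W T e φ _ he _ _ _ hφ => have : IsIso φ := hφ; (MorphismProperty.cancel_right_of_respectsIso @LocallyOfFiniteType e φ).2 he
  refine ⟨k2.rep, k2, ?_, ?_, ?_, fun hh => ?_, fun hh => ?_⟩
  · exact AlgSpTopo.repWith_cancel X.property h1 htop fun E W T e φ _ he _ he' _ hφ =>
      have : IsIso φ := hφ; (MorphismProperty.cancel_right_of_respectsIso (@LocallyQuasiFinite ⊓ @LocallyOfFiniteType : MorphismProperty Scheme.{u}) e φ).2 ⟨he', he⟩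
  · exact AlgSpTopo.repWith_cancel X.property h1 htop fun E W T e φ _ _ he _ _ hφ =>
      have : IsIso φ := hφ; (MorphismProperty.cancel_right_of_respectsIso @IsSeparated e φ).2 he
  · exact AlgSpTopo.repWith_cancel X.property h1 htop fun E W T e φ he _ _ _ _ hφ =>
      have : IsIso φ := hφ; (MorphismProperty.cancel_right_of_respectsIso (MorphismProperty.monomorphisms Scheme.{u}) e φ).2 he
  · exact AlgSpTopo.repWith_cancel X.property h1 ((AlgSpTopo.separatedMor_iff X.property _).1 hh)
      fun E W T e φ _ _ _ _ he hφ => have : IsIso φ := hφ; (MorphismProperty.cancel_right_of_respectsIso @IsClosedImmersion e φ).2 he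
  · exact AlgSpTopo.repWith_cancel X.property h1 ((AlgSpTopo.quasiSeparatedMor_iff X.property _).1 hh)
      fun E W T e φ _ _ _ _ he hφ => have : IsIso φ := hφ; (MorphismProperty.cancel_right_of_respectsIso @QuasiCompact e φ).2 he

end Groth.Agent.S9902
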