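import Groth.Statements.S9903
import Groth.Agent.AlgSpTopo.Separation

set_option autoImplicit false
set_option backward.isDefEq.respectTransparency false
universe u
open CategoryTheory CategoryTheory.Limits AlgebraicGeometry
open AlgSp

namespace Groth.Agent.S9903

/-- (1) ⇔ (3): a morphism of algebraic spaces is separated (resp. quasi-separated) if and only if its
base change to every affine scheme over the target is. -/
theorem result {S : Scheme.{u}} {X Y : AlgSp.Space S} (f : X ⟶ Y) :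
    (AlgSp.IsSeparatedMor f.hom ↔
      ∀ (Z : Over S), IsAffine Z.left → ∀ (g : (AlgSp.yon S).obj Z ⟶ Y.obj) (P : AlgSp.Sp S)
        (fst : P ⟶ X.obj) (snd : P ⟶ (AlgSp.yon S).obj Z), IsPullback fst snd f.hom g →
        AlgSp.IsSeparatedMor snd) ∧
    (AlgSp.IsQuasiSeparatedMor f.hom ↔
      ∀ (Z : Over S), IsAffine Z.left → ∀ (g : (AlgSp.yon S).obj Z ⟶ Y.obj) (P : AlgSp.Sp S)
        (fst : P ⟶ X.obj) (snd : P ⟶ (AlgSp.yon S).obj Z), IsPullback fst snd f.hom g →
        AlgSp.IsQuasiSeparatedMor snd) := by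
  rw [AlgSpTopo.separatedMor_iff X.property, AlgSpTopo.quasiSeparatedMor_iff X.property]
  refine ⟨⟨fun h Z hZ g P fst snd sq => ?_, fun h => ?_⟩, ⟨fun h Z hZ g P fst snd sq => ?_, fun h => ?_⟩⟩
  · exact (AlgSpTopo.separatedMor_iff (AlgSpTopo.isAlgSpace_of_isPullback X.property Y.property (IsAlgSpace.yon_obj Z) sq) _).2 (h.baseChange sq)
  · exact AlgSpTopo.diagP_of_affine_base _ fun Z hZ g P fst snd sq =>
      (AlgSpTopo.separatedMor_iff (AlgSpTopo.isAlgSpace_of_isPullback X.property Y.property (IsAlgSpace.yon_obj Z) sq) _).1 (h Z hZ g P fst snd sq)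
  · exact (AlgSpTopo.quasiSeparatedMor_iff (AlgSpTopo.isAlgSpace_of_isPullback X.property Y.property (IsAlgSpace.yon_obj Z) sq) _).2 (h.baseChange sq)
  · exact AlgSpTopo.diagP_of_affine_base _ fun Z hZ g P fst snd sq =>
      (AlgSpTopo.quasiSeparatedMor_iff (AlgSpTopo.isAlgSpace_of_isPullback X.property Y.property (IsAlgSpace.yon_obj Z) sq) _).1 (h Z hZ g P fst snd sq)

end Groth.Agent.S9903
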