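import Groth.Statements.S9904
import Groth.Agent.AlgSpTopo.Separation

set_option autoImplicit false
set_option backward.isDefEq.respectTransparency false
universe u
open CategoryTheory CategoryTheory.Limits AlgebraicGeometry
open AlgSp

namespace Groth.Agent.S9904

/-- (5) ⇒ (1): separatedness (resp. quasi-separatedness) of a morphism of algebraic spaces descends
along one surjective etale base change from a scheme. -/
theorem result {S : Scheme.{u}} {X Y : AlgSp.Space S} (f : X ⟶ Y) (V : Over S)
    (p : (AlgSp.yon S).obj V ⟶ Y.obj) (hp : AlgSp.RepWith @Etale p) (hps : AlgSp.RepWith @Surjective p)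
    {P : AlgSp.Sp S} (fst : P ⟶ X.obj) (snd : P ⟶ (AlgSp.yon S).obj V) (sq : IsPullback fst snd f.hom p) :
    (AlgSp.IsSeparatedMor snd → AlgSp.IsSeparatedMor f.hom) ∧
    (AlgSp.IsQuasiSeparatedMor snd → AlgSp.IsQuasiSeparatedMor f.hom) := by
  have hP : IsAlgSpace P := AlgSpTopo.isAlgSpace_of_isPullback X.property Y.property (IsAlgSpace.yon_obj V) sq
  rw [AlgSpTopo.separatedMor_iff hP, AlgSpTopo.separatedMor_iff X.property,
    AlgSpTopo.quasiSeparatedMor_iff hP, AlgSpTopo.quasiSeparatedMor_iff X.property]
  exact ⟨fun h => (AlgSpTopo.diagP_closedImmersion_iff X.property _).2 (AlgSpTopo.diagP_of_etale_cover hp hps sq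
      ((AlgSpTopo.diagP_closedImmersion_iff hP _).1 h)),
    fun h => AlgSpTopo.diagP_of_etale_cover hp hps sq h⟩

end Groth.Agent.S9904
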