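import Groth.Statements.S9915
import Groth.Agent.AlgSpTopo.RepPerm

set_option autoImplicit false
set_option backward.isDefEq.respectTransparency false
universe u
open CategoryTheory CategoryTheory.Limits AlgebraicGeometry
open AlgSp

namespace Groth.Agent.S9915

/-- In a commutative triangle of algebraic spaces with f : X -> Y surjective, if X -> Z is quasi-compact
then Y -> Z is quasi-compact. -/
theorem result {S : Scheme.{u}} {X Y Z : AlgSp.Space S} (f : X ⟶ Y)
    (p : X ⟶ Z) (q : Y ⟶ Z) (comm : f ≫ q = p) (hf : AlgSp.IsSurjectiveMor f.hom)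
    (hp : AlgSp.IsQuasiCompactMor p.hom) : AlgSp.IsQuasiCompactMor q.hom := by
  refine AlgSpTopo.isQuasiCompactMor_of_affine Y.property Z.property q.hom fun T hT g P fst snd sq => ?_
  have hpe : p.hom = f.hom ≫ q.hom := by rw [← comm]; rfl
  have H := IsPullback.of_hasPullback f.hom fst
  have := hT
  refine AlgSpTopo.compactSpace_of_surjective (π := pullback.snd f.hom fst) ?_ (AlgSpTopo.surjective_snd H hf)
  refine AlgSpTopo.compactSpace_points (hp (AlgSp.IsAlgSpace.yon_obj T) (AlgSpTopo.isQuasiCompactSp_yon T) g
    (pullback.fst f.hom fst) (pullback.snd f.hom fst ≫ snd) ?_)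
  rw [hpe]
  exact H.paste_vert sq

end Groth.Agent.S9915
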