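import Groth.Statements.S9929
import Groth.Agent.AlgSpTopo.Iso

set_option autoImplicit false
set_option backward.isDefEq.respectTransparency false
universe u
open CategoryTheory CategoryTheory.Limits AlgebraicGeometry
open AlgSp

namespace Groth.Agent.S9929

/-- A monomorphism from an algebraic space to the spectrum of a field is either the empty space or an
isomorphism. -/
theorem result {S : Scheme.{u}} {k : Type u} [Field k] (str : Spec (CommRingCat.of k) ⟶ S)
    (Z : AlgSp.Space S) (f : Z ⟶ (AlgSp.ofScheme S).obj (Over.mk str)) [Mono f.hom] :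
    IsEmpty (AlgSp.Points Z.obj) ∨ IsIso f := by
  by_cases h : IsEmpty (AlgSp.Points Z.obj)
  · exact Or.inl h
  refine Or.inr ?_
  have : IsIso f.hom := AlgSpTopo.isIso_of_mono_of_fpqc_lift Z.property (IsAlgSpace.yon_obj _) f.hom
    fun T hT κ => AlgSpTopo.fpqc_lift_of_nonempty str Z.property f.hom (not_isEmpty_iff.1 h) T hT κ
  have : IsIso ((ObjectProperty.ι (IsAlgSpace (S := S))).map f) := this
  exact isIso_of_reflects_iso f (ObjectProperty.ι (IsAlgSpace (S := S)))

end Groth.Agent.S9929
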