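import Groth.Statements.S9933
import Groth.Agent.AlgSpTopo.RepPerm

set_option autoImplicit false
set_option backward.isDefEq.respectTransparency false
universe u
open CategoryTheory CategoryTheory.Limits AlgebraicGeometry
open AlgSp

namespace Groth.Agent.S9933

/-- Permanence for Z -> Y -> X: the five representable finiteness/separation properties of Z -> X pass
to Z -> Y, and a closed immersion Z -> X with Y -> X separated gives a closed immersion Z -> Y. -/
theorem result {S : Scheme.{u}} {Z Y X : AlgSp.Space S} (a : Z ⟶ Y) (b : Y ⟶ X) :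
    ((AlgSp.Representable (a ≫ b).hom ∧ AlgSp.RepWith @LocallyOfFiniteType (a ≫ b).hom ∧
        AlgSp.RepWith (@LocallyQuasiFinite ⊓ @LocallyOfFiniteType) (a ≫ b).hom ∧
        AlgSp.RepWith @IsSeparated (a ≫ b).hom ∧
        AlgSp.RepWith (MorphismProperty.monomorphisms Scheme.{u}) (a ≫ b).hom) →
      (AlgSp.Representable a.hom ∧ AlgSp.RepWith @LocallyOfFiniteType a.hom ∧
        AlgSp.RepWith (@LocallyQuasiFinite ⊓ @LocallyOfFiniteType) a.hom ∧
        AlgSp.RepWith @IsSeparated a.hom ∧
        AlgSp.RepWith (MorphismProperty.monomorphisms Scheme.{u}) a.hom)) ∧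
    (AlgSp.RepWith @IsClosedImmersion (a ≫ b).hom → AlgSp.IsSeparatedMor b.hom →
      AlgSp.RepWith @IsClosedImmersion a.hom) := by
  refine ⟨fun ⟨_, h2, h3, h4, h5⟩ => ?_, fun h hs => ?_⟩
  · have htop : AlgSpTopo.DiagP (⊤ : MorphismProperty Scheme.{u}) b.hom := fun _ _ _ _ _ _ _ => trivial
    have k2 : AlgSp.RepWith @LocallyOfFiniteType a.hom :=
      AlgSpTopo.repWith_cancel (a := a.hom) (b := b.hom) Y.property h2 htop
        fun E W T e φ _ he _ _ _ hφ => MorphismProperty.comp_mem @LocallyOfFiniteType _ _ he hφ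
    refine ⟨k2.rep, k2, ?_, ?_, ?_⟩
    · exact AlgSpTopo.repWith_cancel (a := a.hom) (b := b.hom) Y.property h3 htop
        fun E W T e φ _ he _ he' _ hφ => MorphismProperty.comp_mem _ _ _ ⟨he', he⟩ hφ
    · exact AlgSpTopo.repWith_cancel (a := a.hom) (b := b.hom) Y.property h4 htop
        fun E W T e φ _ _ he _ _ hφ => MorphismProperty.comp_mem @IsSeparated _ _ he hφ
    · exact AlgSpTopo.repWith_cancel (a := a.hom) (b := b.hom) Y.property h5 htop
        fun E W T e φ he _ _ _ _ hφ => MorphismProperty.comp_mem _ _ _ he hφ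
  · exact AlgSpTopo.repWith_cancel (a := a.hom) (b := b.hom) Y.property h
      ((AlgSpTopo.separatedMor_iff Y.property _).1 hs)
      fun E W T e φ _ _ _ _ he hφ => MorphismProperty.comp_mem @IsClosedImmersion _ _ he hφ

end Groth.Agent.S9933
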