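import Groth.Statements.S9934
import Groth.Agent.AlgSpTopo.SpProps

set_option autoImplicit false
set_option backward.isDefEq.respectTransparency false
universe u
open CategoryTheory CategoryTheory.Limits AlgebraicGeometry
open AlgSp

namespace Groth.Agent.S9934

/-- An immersion of algebraic spaces is a closed immersion exactly when its image on points is closed. -/
theorem result {S : Scheme.{u}} {Z X : AlgSp.Space S} (i : Z ⟶ X)
    (hi : AlgSp.RepWith @IsImmersion i.hom) :
    AlgSp.RepWith @IsClosedImmersion i.hom ↔ IsClosed (Set.range (AlgSp.Points.map i.hom)) := by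
  refine ⟨fun h => ?_, fun h => ⟨hi.rep, fun U W g fst snd sq => ?_⟩⟩
  · have hu : AlgSp.RepWith @UniversallyClosed i.hom := ⟨h.rep, fun _ _ g a b sq => by
      have : IsClosedImmersion b.left := h.property g a b sq
      change UniversallyClosed b.left
      infer_instance⟩
    have := ((AlgSpTopo.repWith_universallyClosed_iff h.rep).1 hu) X.property (𝟙 _) (𝟙 _) i.hom
      (IsPullback.id_horiz i.hom) Set.univ isClosed_univ
    rwa [Set.image_univ] at this
  · have : IsImmersion snd.left := hi.property g fst snd sq
    refine IsClosedImmersion.of_isPreimmersion snd.left ?_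
    have h1 : IsClosed (AlgSp.Points.ofPt g ⁻¹' Set.range (AlgSp.Points.map i.hom)) :=
      h.preimage (AlgSp.Points.continuous_ofPt g)
    convert h1 using 1
    ext u
    constructor
    · rintro ⟨w, rfl⟩
      refine ⟨AlgSp.Points.ofPt fst w, ?_⟩
      rw [AlgSp.Points.map_ofPt, sq.w, AlgSpTopo.ofPt_comp]
    · rintro ⟨z, hz⟩
      obtain ⟨w, -, hw⟩ := AlgSpTopo.points_surj sq z (AlgSp.Points.ofScheme U u)
        (by rw [← AlgSp.Points.ofPt_eq_map_ofScheme]; exact hz)
      obtain ⟨r, rfl⟩ := AlgSpTopo.ofScheme_surjective W w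
      rw [AlgSpTopo.map_ofScheme] at hw
      exact ⟨r, (AlgSp.Points.schemeEquiv U).injective hw⟩

end Groth.Agent.S9934
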