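import Groth.Statements.S9937
import Groth.Agent.AlgSpTopo.RepPerm

set_option autoImplicit false
set_option backward.isDefEq.respectTransparency false
universe u
open CategoryTheory CategoryTheory.Limits AlgebraicGeometry
open AlgSp

namespace Groth.Agent.S9937

/-- Closed immersions between algebraic spaces are separated morphisms. -/
theorem result {S : Scheme.{u}} {X Y : AlgSp.Space S} (f : X ⟶ Y)
    (hf : AlgSp.RepWith @IsClosedImmersion f.hom) : AlgSp.IsSeparatedMor f.hom := by
  have := AlgSpTopo.mono_of_repWith f.hom hf fun _ _ g hg => have := hg; inferInstance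
  rw [AlgSpTopo.separatedMor_iff X.property]
  exact AlgSpTopo.diagP_of_mono (Q := @IsClosedImmersion) X.property f.hom

end Groth.Agent.S9937
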