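import Groth.Statements.S9940
import Groth.Agent.AlgSpTopo.RepPerm

set_option autoImplicit false
set_option backward.isDefEq.respectTransparency false
universe u
open CategoryTheory CategoryTheory.Limits AlgebraicGeometry
open AlgSp

namespace Groth.Agent.S9940

/-- (4) ⇒ (1): universal injectivity of a morphism of algebraic spaces descends along a surjective base
change from a scheme. -/
theorem result {S : Scheme.{u}} {X Y : AlgSp.Space S} (f : X ⟶ Y)
    (Z : Over S) (g : (AlgSp.yon S).obj Z ⟶ Y.obj) (hg : AlgSp.IsSurjectiveMor g) {P : AlgSp.Sp S}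
    (fst : P ⟶ X.obj) (snd : P ⟶ (AlgSp.yon S).obj Z) (sq : IsPullback fst snd f.hom g)
    (h : AlgSp.IsUnivInjectiveMor snd) : AlgSp.IsUnivInjectiveMor f.hom := by
  intro A A' hA k a b sqA x₁ x₂ he
  have HQ := IsPullback.of_hasPullback k g
  have hQ := AlgSpTopo.isAlgSpace_pullback hA Y.property (AlgSp.IsAlgSpace.yon_obj Z) k g
  obtain ⟨w, hw, -⟩ : ∃ w, AlgSp.Points.map (pullback.fst k g) w = AlgSp.Points.map b x₁ ∧ True := by
    obtain ⟨z, hz⟩ := hg (AlgSp.Points.map k (AlgSp.Points.map b x₁))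
    obtain ⟨w, hw, -⟩ := AlgSpTopo.points_surj HQ _ z hz.symm
    exact ⟨w, hw, trivial⟩
  have H' := IsPullback.of_hasPullback b (pullback.fst k g)
  obtain ⟨l, hl1, hl2⟩ := sq.exists_lift (pullback.fst b (pullback.fst k g) ≫ a)
    (pullback.snd b (pullback.fst k g) ≫ pullback.snd k g) (by
      simp only [Category.assoc, sqA.w, ← HQ.w]
      rw [reassoc_of% H'.w])
  have big : IsPullback l (pullback.snd b (pullback.fst k g)) snd (pullback.snd k g) := by
    refine IsPullback.of_right ?_ hl2 sq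
    rw [hl1, ← HQ.w]
    exact H'.paste_horiz sqA
  obtain ⟨y₁, h₁, h₁'⟩ := AlgSpTopo.points_surj H' x₁ w hw.symm
  obtain ⟨y₂, h₂, h₂'⟩ := AlgSpTopo.points_surj H' x₂ w (he.symm.trans hw.symm)
  rw [← h₁, ← h₂, h hQ (pullback.snd k g) l _ big (h₁'.trans h₂'.symm)]

end Groth.Agent.S9940
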