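import Groth.Statements.S9942
import Groth.Agent.AlgSpTopo.AffineLocal

set_option autoImplicit false
set_option backward.isDefEq.respectTransparency false
universe u
open CategoryTheory CategoryTheory.Limits AlgebraicGeometry
open AlgSp

namespace Groth.Agent.S9942

/-- (3) ⇒ (2): if X x_Y V is an affine scheme for every affine scheme V etale over Y, then f : X -> Y is
affine. -/
theorem result {S : Scheme.{u}} {X Y : AlgSp.Space S} (f : X ⟶ Y)
    (h : ∀ (V : Over S), IsAffine V.left → ∀ (b : (AlgSp.yon S).obj V ⟶ Y.obj), AlgSp.RepWith @Etale b →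
      ∀ (P : AlgSp.Sp S) (fst : P ⟶ X.obj) (snd : P ⟶ (AlgSp.yon S).obj V), IsPullback fst snd f.hom b →
      ∃ (W : Over S), IsAffine W.left ∧ Nonempty ((AlgSp.yon S).obj W ≅ P)) :
    AlgSp.IsAffineMor f.hom := by
  rw [← AlgSpTopo.affWith_top_iff]
  obtain ⟨U, p, hp, hps⟩ := Y.property.atlas
  let 𝒰 := U.left.affineCover
  let V : 𝒰.I₀ → Over S := fun a => Over.mk (𝒰.f a ≫ U.hom)
  let c : ∀ a, V a ⟶ U := fun a => Over.homMk (𝒰.f a) rfl
  have hb : ∀ a, AlgSp.RepWith @Etale ((AlgSp.yon S).map (c a) ≫ p) := fun a =>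
    MorphismProperty.comp_mem _ _ _ ((AlgSp.repWith_yon_map_iff _ _).2 (by change Etale (𝒰.f a); infer_instance)) hp
  refine AlgSpTopo.affWith_of_etale_family X.property Y.property f.hom V _ hb (fun y => ?_) fun a D hD l => ?_
  · obtain ⟨z, rfl⟩ := AlgSpTopo.surjective_of_repWith hps y
    obtain ⟨t, rfl⟩ := AlgSpTopo.ofScheme_surjective U z
    obtain ⟨a, v, hv⟩ := 𝒰.exists_eq t
    refine ⟨a, AlgSp.Points.ofScheme (V a) v, ?_⟩
    rw [AlgSp.Points.map_comp, AlgSpTopo.map_ofScheme]
    exact congrArg _ (congrArg _ hv)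
  · have : IsAffine (V a).left := inferInstanceAs (IsAffine (𝒰.X a))
    obtain ⟨W, hW, ⟨e⟩⟩ := h (V a) this _ (hb a) _ _ _ (IsPullback.of_hasPullback f.hom _)
    let s : W ⟶ V a := (AlgSp.yon S).preimage (e.hom ≫ pullback.snd f.hom _)
    have sqW : IsPullback (e.hom ≫ pullback.fst f.hom _) ((AlgSp.yon S).map s) f.hom ((AlgSp.yon S).map (c a) ≫ p) :=
      IsPullback.of_iso (IsPullback.of_hasPullback f.hom _) e.symm (Iso.refl _) (Iso.refl _) (Iso.refl _)
        (by simp) (by simp [s]) (by simp) (by simp)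
    have sqD := (IsPullback.of_hasPullback s l).map (AlgSp.yon S)
    refine ⟨pullback s l, pullback.snd s l, _, sqD.paste_horiz sqW, ?_, trivial⟩
    have := hW
    have := hD
    have sq' := (IsPullback.of_hasPullback s l).map (Over.forget S)
    exact @IsAffine.of_isIso _ _ (sq'.isoPullback).hom _ (inferInstanceAs (IsAffine (pullback s.left l.left)))

end Groth.Agent.S9942
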