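import Groth.Statements.S9944
import Groth.Agent.AlgSpTopo.RepPerm
import Groth.Agent.AlgSpTopo.AffineRep

set_option autoImplicit false
set_option backward.isDefEq.respectTransparency false
universe u
open CategoryTheory CategoryTheory.Limits AlgebraicGeometry
open AlgSp

namespace Groth.Agent.S9944

/-- Let g : X -> Y be a morphism over a base algebraic space B with X affine over B. Then g is affine as
soon as the diagonal of Y over B is affine, and in particular as soon as Y is B-separated. (The
published lemma also has two versions with the absolute diagonal of Y; this row states the versions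
over B.) -/
theorem result {S : Scheme.{u}} {X Y B : AlgSp.Space S} (g : X ⟶ Y) (p : X ⟶ B)
    (q : Y ⟶ B) (comm : g ≫ q = p) (hp : AlgSp.IsAffineMor p.hom) :
    (AlgSp.IsAffineMor (pullback.diagonal q.hom) → AlgSp.IsAffineMor g.hom) ∧
    (AlgSp.IsSeparatedMor q.hom → AlgSp.IsAffineMor g.hom) := by
  have h : AlgSp.RepWith @IsAffineHom (g.hom ≫ q.hom) := by
    have : p.hom = g.hom ≫ q.hom := by rw [← comm]; rfl
    rw [← this]
    exact AlgSpTopo.repWith_of_isAffineMor hp
  have key : AlgSpTopo.DiagP @IsAffineHom q.hom → AlgSp.IsAffineMor g.hom := fun hq => by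
    rw [← AlgSpTopo.affWith_top_iff]
    exact AlgSpTopo.affWith_of_repWith (P := @IsAffineHom) (fun _ _ _ h => h) (fun _ _ _ _ => trivial)
      (AlgSpTopo.repWith_cancel Y.property h hq
        fun E W T e φ _ _ _ _ he hφ => MorphismProperty.comp_mem @IsAffineHom _ _ he hφ)
  refine ⟨fun hd => key ((AlgSpTopo.repWith_diagonal_iff Y.property _ _).1 (AlgSpTopo.repWith_of_isAffineMor hd)),
    fun hd => key fun T a b hab E e he => ?_⟩
  have : IsClosedImmersion e.left := (AlgSpTopo.separatedMor_iff Y.property _).1 hd a b hab e he
  infer_instance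

end Groth.Agent.S9944
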