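import Groth.Statements.S9951
import Groth.Agent.AlgSpTopo.LocalST

set_option autoImplicit false
set_option backward.isDefEq.respectTransparency false
universe u
open CategoryTheory CategoryTheory.Limits AlgebraicGeometry
open AlgSp

namespace Groth.Agent.S9951

/-- The source of a morphism locally of finite type with locally Noetherian target is locally
Noetherian. -/
theorem result {S : Scheme.{u}} {X Y : AlgSp.Space S} (f : X ⟶ Y)
    (hf : AlgSp.LocP @LocallyOfFiniteType f.hom) (hY : AlgSp.IsLocNoethSp Y.obj) : AlgSp.IsLocNoethSp X.obj :=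
  by
  obtain ⟨V, b, hb, hbs, hV⟩ := hY
  obtain ⟨M, T', m, e, a, hm, he, ha, has, -⟩ :=
    AlgSpTopo.exists_atlas_chart X.property Y.property f.hom hf hb hbs
  have : LocallyOfFiniteType m.left := hm
  have : Etale e.left := he
  exact ⟨M, a, ha, has, LocallyOfFiniteType.isLocallyNoetherian (m.left ≫ e.left)⟩

end Groth.Agent.S9951
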