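import Groth.Agent.AlgSpTopo.LocInst
-- Copy to Groth/Agent/S9953.lean and replace the sorry. The statement below is byte-identical to the frozen
-- statement AlgSp.GrothFrozen.S9953 (Groth/Statements/S9953.lean; the theorem AlgSp.locP_lft_of_repWith_isImmersion);
-- the grader kernel-checks Groth.Agent.S9953.result against that frozen type. Keep the theorem IN THIS FILE
-- (a `result` declared elsewhere and merely imported here is not credited); helpers may live anywhere
-- under Groth/Agent/.
import Groth.Statements.S9953
-- import your own Groth.Agent.* helpers here

set_option autoImplicit false
set_option backward.isDefEq.respectTransparency false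
universe u
open CategoryTheory CategoryTheory.Limits AlgebraicGeometry
open AlgSp

namespace Groth.Agent.S9953

/-- An immersion of algebraic spaces is locally of finite type. -/
theorem result {S : Scheme.{u}} {X Y : AlgSp.Space S} (f : X ⟶ Y)
    (hf : AlgSp.RepWith @IsImmersion f.hom) : AlgSp.LocP @LocallyOfFiniteType f.hom :=
  (AlgSpTopo.locP_iff_repWith AlgSpTopo.etaleLocal_locallyOfFiniteType X.property Y.property f.hom hf.rep).2 ⟨hf.rep, fun _ _ g fst snd sq => by
    have : IsImmersion snd.left := hf.property g fst snd sq
    change LocallyOfFiniteType snd.left
    infer_instance⟩

end Groth.Agent.S9953
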