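import Groth.Statements.S9957
import Groth.Agent.AlgSpTopo.SpProps

set_option autoImplicit false
set_option backward.isDefEq.respectTransparency false
universe u
open CategoryTheory CategoryTheory.Limits AlgebraicGeometry
open AlgSp

namespace Groth.Agent.S9957

/-- The source of a morphism of finite presentation whose target is Noetherian is itself Noetherian,
Noetherian meaning quasi-compact, quasi-separated over S and locally Noetherian. (The published
statement uses quasi-separatedness in the absolute sense; this row uses quasi-separatedness over S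
in hypothesis and conclusion.) -/
theorem result {S : Scheme.{u}} {X Y : AlgSp.Space S} (f : X ⟶ Y)
    (hf : AlgSp.IsFinitePresentationMor f.hom)
    (hY : AlgSp.IsQuasiCompactSp Y.obj ∧ AlgSp.IsQuasiSeparatedSp Y.obj ∧ AlgSp.IsLocNoethSp Y.obj) :
    AlgSp.IsQuasiCompactSp X.obj ∧ AlgSp.IsQuasiSeparatedSp X.obj ∧ AlgSp.IsLocNoethSp X.obj := by
  obtain ⟨hl, hqc, hqs⟩ := hf
  obtain ⟨hY1, hY2, hY3⟩ := hY
  refine ⟨hqc Y.property hY1 (𝟙 _) (𝟙 _) f.hom (IsPullback.id_horiz f.hom), ?_, ?_⟩
  · refine (AlgSpTopo.qs_sp_iff X.property).2 fun T a b E e he => ?_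
    obtain ⟨E', e', he'⟩ := AlgSpTopo.exists_isEq Y.property (a ≫ f.hom) (b ≫ f.hom)
    have h1 := (AlgSpTopo.qs_sp_iff Y.property).1 hY2 _ _ e' he'
    obtain ⟨l, hl⟩ := he'.2.2 ((AlgSp.yon S).map e) (by rw [reassoc_of% he.2.1])
    obtain ⟨l, rfl⟩ := (AlgSp.yon S).map_surjective l
    have hle : l ≫ e' = e := (AlgSp.yon S).map_injective (by rw [Functor.map_comp, hl])
    have := he.1
    have := he'.1
    have he'' : AlgSpTopo.IsEq l ((AlgSp.yon S).map e' ≫ a) ((AlgSp.yon S).map e' ≫ b) := by
      refine ⟨mono_of_mono_fac hle, ?_, fun {W} k hk => ?_⟩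
      · rw [← Functor.map_comp_assoc, ← Functor.map_comp_assoc, hle]; exact he.2.1
      · obtain ⟨m, hm⟩ := he.2.2 (k ≫ (AlgSp.yon S).map e') (by simpa using hk)
        refine ⟨m, (cancel_mono ((AlgSp.yon S).map e')).1 ?_⟩
        rw [Category.assoc, ← Functor.map_comp, hle, hm]
    rw [← hle]
    exact MorphismProperty.comp_mem @QuasiCompact _ _
      ((AlgSpTopo.quasiSeparatedMor_iff X.property _).1 hqs _ _ (by simpa using he'.2.1) l he'') h1
  · exact AlgSpTopo.isLocNoeth_of_lft X.property Y.property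
      (AlgSpTopo.locP_mono (A := @LocallyOfFinitePresentation) (B := @LocallyOfFiniteType)
        (fun _ _ g hg => have := hg; inferInstance) hl) hY3

end Groth.Agent.S9957
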