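import Groth.Statements.S9958
import Groth.Agent.AlgSpTopo.SpProps

set_option autoImplicit false
set_option backward.isDefEq.respectTransparency false
universe u
open CategoryTheory CategoryTheory.Limits AlgebraicGeometry
open AlgSp

namespace Groth.Agent.S9958

/-- Over a locally Noetherian algebraic space, locally of finite type implies locally of finite
presentation. -/
theorem result {S : Scheme.{u}} {X Y : AlgSp.Space S} (f : X ⟶ Y)
    (hY : AlgSp.IsLocNoethSp Y.obj) (hf : AlgSp.LocP @LocallyOfFiniteType f.hom) :
    AlgSp.LocP @LocallyOfFinitePresentation f.hom := by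
  obtain ⟨V, q, hq, hqs, hV⟩ := hY
  obtain ⟨M, T', m, e, a, hm, he, ha, has, comm⟩ :=
    AlgSpTopo.exists_atlas_chart X.property Y.property f.hom hf hq hqs
  have : LocallyOfFiniteType m.left := hm
  have : Etale e.left := he
  have : IsLocallyNoetherian T'.left := AlgSpTopo.isLocallyNoetherian_of_lft e.left
  have : LocallyOfFinitePresentation m.left := Groth.Agent.Locus.EtaleCriterion.locallyOfFinitePresentation_of_isLocallyNoetherian m.left
  exact AlgSpTopo.one_chart AlgSpTopo.etaleLocal_locallyOfFinitePresentation f.hom a q (m ≫ e) ha has hq comm
    (by change LocallyOfFinitePresentation (m.left ≫ e.left); infer_instance)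

end Groth.Agent.S9958
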