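import Groth.Statements.S9959
import Groth.Agent.AlgSpTopo.SpProps

set_option autoImplicit false
set_option backward.isDefEq.respectTransparency false
universe u
open CategoryTheory CategoryTheory.Limits AlgebraicGeometry
open AlgSp

namespace Groth.Agent.S9959

/-- Given X -> Y -> Z with X -> Z locally finitely presented and Y -> Z locally of finite type, X -> Y
is locally finitely presented (all three etale locally on source and target). -/
theorem result {S : Scheme.{u}} {X Y Z : AlgSp.Space S} (f : X ⟶ Y) (g : Y ⟶ Z)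
    (hX : AlgSp.LocP @LocallyOfFinitePresentation (f ≫ g).hom) (hY : AlgSp.LocP @LocallyOfFiniteType g.hom) :
    AlgSp.LocP @LocallyOfFinitePresentation f.hom := by
  obtain ⟨W, c, hc, hcs⟩ := Z.property.atlas
  obtain ⟨M2, T2, m2, e2, a2, hm2, he2, ha2, ha2s, comm2⟩ :=
    AlgSpTopo.exists_atlas_chart Y.property Z.property g.hom hY hc hcs
  obtain ⟨M1, T1, m1, e1, a1, -, -, ha1, ha1s, comm1⟩ :=
    AlgSpTopo.exists_atlas_chart X.property Y.property f.hom (AlgSpTopo.locP_top f.hom) ha2 ha2s
  have : LocallyOfFiniteType m2.left := hm2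
  have : Etale e2.left := he2
  refine AlgSpTopo.one_chart AlgSpTopo.etaleLocal_locallyOfFinitePresentation f.hom a1 a2 (m1 ≫ e1) ha1 ha1s ha2 comm1 ?_
  have h : LocallyOfFinitePresentation (((m1 ≫ e1) ≫ m2 ≫ e2).left) := hX a1 c _ ha1 hc (by
    change a1 ≫ f.hom ≫ g.hom = _
    rw [← Category.assoc, comm1, Category.assoc, comm2, ← Category.assoc, ← Functor.map_comp])
  have : LocallyOfFiniteType (m2 ≫ e2).left := by change LocallyOfFiniteType (m2.left ≫ e2.left); infer_instance
  rw [Over.comp_left] at h
  exact Groth.Agent.Mor.Cancel.locallyOfFinitePresentation_of_comp (m1 ≫ e1).left (m2 ≫ e2).left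

end Groth.Agent.S9959
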