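import Groth.Statements.S9960
import Groth.Agent.AlgSpTopo.SpProps
import Groth.Agent.AlgSpTopo.LocalST
import Groth.Agent.S9959

set_option autoImplicit false
set_option backward.isDefEq.respectTransparency false
universe u
open CategoryTheory CategoryTheory.Limits AlgebraicGeometry
open AlgSp

namespace Groth.Agent.S9960

/-- The diagonal of a morphism locally of finite type is locally of finite presentation, and of finite
presentation when the morphism is also quasi-separated. -/
theorem result {S : Scheme.{u}} {X Y : AlgSp.Space S} (f : X ⟶ Y)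
    (hf : AlgSp.LocP @LocallyOfFiniteType f.hom) :
    AlgSp.LocP @LocallyOfFinitePresentation (pullback.diagonal f.hom) ∧
    (AlgSp.IsQuasiSeparatedMor f.hom → AlgSp.IsFinitePresentationMor (pullback.diagonal f.hom)) := by
  have hA : AlgSp.IsAlgSpace (pullback f.hom f.hom) :=
    AlgSpTopo.isAlgSpace_pullback X.property Y.property X.property _ _
  have hfst : AlgSp.LocP @LocallyOfFiniteType (pullback.fst f.hom f.hom) :=
    AlgSpTopo.locP_bc AlgSpTopo.etaleLocal_locallyOfFiniteType X.property Y.property X.property
      (IsPullback.of_hasPullback f.hom f.hom).flip hf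
  have hid : AlgSp.LocP @LocallyOfFinitePresentation (pullback.diagonal f.hom ≫ pullback.fst f.hom f.hom) := by
    rw [pullback.diagonal_fst]; exact AlgSpTopo.locP_id AlgSpTopo.etaleLocal_locallyOfFinitePresentation
  have h1 : AlgSp.LocP @LocallyOfFinitePresentation (pullback.diagonal f.hom) :=
    Groth.Agent.S9959.result (Y := ⟨pullback f.hom f.hom, hA⟩) (Z := X)
      (ObjectProperty.homMk (pullback.diagonal f.hom) : X ⟶ ⟨pullback f.hom f.hom, hA⟩)
      (ObjectProperty.homMk (pullback.fst f.hom f.hom) : (⟨pullback f.hom f.hom, hA⟩ : AlgSp.Space S) ⟶ X) hid hfst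
  refine ⟨h1, fun hq => ⟨h1, (AlgSpTopo.repWith_quasiCompact_iff X.property hA hq.rep).1 hq, ?_⟩⟩
  exact (AlgSpTopo.quasiSeparatedMor_iff X.property _).2 (AlgSpTopo.diagP_of_mono (Q := @QuasiCompact) X.property _)

end Groth.Agent.S9960
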