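import Groth.Agent.AlgSpTopo.LocInst
-- Copy to Groth/Agent/S9961.lean and replace the sorry. The statement below is byte-identical to the frozen
-- statement AlgSp.GrothFrozen.S9961 (Groth/Statements/S9961.lean; the theorem AlgSp.locP_lfp_of_repWith_isOpenImmersion);
-- the grader kernel-checks Groth.Agent.S9961.result against that frozen type. Keep the theorem IN THIS FILE
-- (a `result` declared elsewhere and merely imported here is not credited); helpers may live anywhere
-- under Groth/Agent/.
import Groth.Statements.S9961
-- import your own Groth.Agent.* helpers here

set_option autoImplicit false
set_option backward.isDefEq.respectTransparency false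
universe u
open CategoryTheory CategoryTheory.Limits AlgebraicGeometry
open AlgSp

namespace Groth.Agent.S9961

/-- Open immersions between algebraic spaces are locally finitely presented (etale locally on source and
target). -/
theorem result {S : Scheme.{u}} {X Y : AlgSp.Space S} (f : X ⟶ Y)
    (hf : AlgSp.RepWith @IsOpenImmersion f.hom) : AlgSp.LocP @LocallyOfFinitePresentation f.hom :=
  (AlgSpTopo.locP_iff_repWith AlgSpTopo.etaleLocal_locallyOfFinitePresentation X.property Y.property f.hom hf.rep).2 ⟨hf.rep, fun _ _ g fst snd sq => by
    have : IsOpenImmersion snd.left := hf.property g fst snd sq
    change LocallyOfFinitePresentation snd.left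
    infer_instance⟩

end Groth.Agent.S9961
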